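import Cfsg.Statements.S3765
import Mathlib
import Cfsg.Agent.Lib.HallHigmanExc.Subgroups

set_option autoImplicit false
set_option linter.style.haveILetI false
open Cfsg

namespace Cfsg.Agent.S3765

open Subgroup
open scoped commutatorElement
open Cfsg.Agent.Lib

/-- A coprime fixed-point-free group of prime order without fixed points on `V`: `P` centralises `V`. -/
theorem le_centralizer_of_fixedPointFree {G : Type*} [Group G] [Finite G] {p q r : ℕ} (hq : q.Prime)
    (hr : r.Prime) (hp : p.Prime) (hqr : q ≠ r) (hpq : p ≠ q) (hpr : p ≠ r) {X P V : Subgroup G}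
    (hX : Nat.card X = r) (hP : IsPGroup q P) (hXP : X ≤ normalizer (P : Set G))
    (hfix : P ⊓ centralizer (X : Set G) = ⊥) (hV : IsElementaryAbelian p V)
    (hXV : X ≤ normalizer (V : Set G)) (hPV : P ≤ normalizer (V : Set G))
    (hCV : V ⊓ centralizer (X : Set G) = ⊥) : P ≤ centralizer (V : Set G) := by
  haveI := Fact.mk hq
  haveI := Fact.mk hr
  haveI := Fact.mk hp
  haveI := hV.1
  set L := X ⊔ P with hL
  have hXL : X ≤ L := le_sup_left
  have hPL : P ≤ L := le_sup_right
  haveI : (P.subgroupOf L).Normal :=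
    normal_subgroupOf_of_le_normalizer (sup_le hXP Subgroup.le_normalizer)
  have hXr : IsPGroup r X := IsPGroup.of_card (n := 1) (by rw [hX, pow_one])
  have hdisj : P.subgroupOf L ⊓ X.subgroupOf L = ⊥ := by
    rw [eq_bot_iff]
    rintro x ⟨h1, h2⟩
    exact Subtype.ext ((IsPGroup.disjoint_of_ne q r hqr P X hP hXr).le_bot ⟨h1, h2⟩)
  have htop : P.subgroupOf L ⊔ X.subgroupOf L = ⊤ := by
    rw [← subgroupOf_sup hPL hXL, sup_comm, subgroupOf_self]
  have hfpf : ∀ e ∈ X.subgroupOf L, e ≠ 1 → ∀ u ∈ P.subgroupOf L, e * u = u * e → u = 1 := by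
    intro e he he1 u hu h
    have hle : X ≤ centralizer ({(u : G)} : Set G) := by
      intro a ha
      have h1 : (⟨a, ha⟩ : X) ∈ zpowers (⟨e, he⟩ : X) :=
        mem_zpowers_of_prime_card (p := r) hX
          (fun h' => he1 (Subtype.ext (congrArg Subtype.val h' :)))
      obtain ⟨i, hi⟩ := mem_zpowers_iff.mp h1
      rw [← show (e : G) ^ i = a by simpa using congrArg Subtype.val hi]
      exact zpow_mem (mem_centralizer_singleton_iff.mpr (congrArg Subtype.val h)) i
    have hmem : (u : G) ∈ P ⊓ centralizer (X : Set G) :=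
      ⟨hu, mem_centralizer_iff.mpr fun a ha => mem_centralizer_singleton_iff.mp (hle ha)⟩
    rw [hfix, mem_bot] at hmem
    exact Subtype.ext hmem
  letI : CommGroup V := { (inferInstance : Group V) with
    mul_comm := fun a b => Subtype.ext (setLike_mul_comm a.2 b.2) }
  have hcop : (Nat.card L).Coprime (Nat.card V) := by
    have hVp : IsPGroup p V := fun v => ⟨1, by rw [pow_one]; exact Subtype.ext (hV.2 v v.2)⟩
    obtain ⟨a, ha⟩ := IsPGroup.iff_card.mp hVp
    obtain ⟨b, hb⟩ := IsPGroup.iff_card.mp hP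
    have h := (isComplement'_of_disjoint_and_mul_eq_univ (disjoint_iff.mpr hdisj) (by
        rw [← normal_mul, htop, coe_top])).card_mul_card
    rw [Nat.card_congr (subgroupOfEquivOfLe hPL).toEquiv,
      Nat.card_congr (subgroupOfEquivOfLe hXL).toEquiv, hb, hX] at h
    rw [← h, ha]
    exact Nat.Coprime.pow_right _ (Nat.Coprime.mul_left
      (Nat.Coprime.pow_left _ ((Nat.coprime_primes hq hp).mpr hpq.symm))
      ((Nat.coprime_primes hr hp).mpr hpr.symm))
  set φ := Coprime.conjAut (sup_le hXV hPV : L ≤ normalizer (V : Set G))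
  have hno : Wielandt.fixedSub φ (X.subgroupOf L) = ⊥ := by
    rw [eq_bot_iff]
    intro v hv
    have h : (v : G) ∈ V ⊓ centralizer (X : Set G) := ⟨v.2, mem_centralizer_iff.mpr fun a ha =>
      mul_inv_eq_iff_eq_mul.mp (congrArg Subtype.val (hv ⟨a, hXL ha⟩ ha))⟩
    rw [hCV, mem_bot] at h
    exact mem_bot.mpr (Subtype.ext h)
  have hW := Wielandt.card_fixedSub_frobenius hdisj htop hfpf inferInstance hcop φ
  have htopfix : Wielandt.fixedSub φ ⊤ = ⊥ := by
    rw [eq_bot_iff, ← hno]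
    exact fun x hx g _ => hx g (mem_top g)
  rw [htopfix, hno, card_bot, one_pow, one_mul, one_mul] at hW
  have hfixP : Wielandt.fixedSub φ (P.subgroupOf L) = ⊤ := eq_top_of_card_eq _ hW.symm
  intro u hu
  refine mem_centralizer_iff.mpr fun v hv => ?_
  have h1 : (⟨v, hv⟩ : V) ∈ Wielandt.fixedSub φ (P.subgroupOf L) := hfixP ▸ mem_top _
  exact (mul_inv_eq_iff_eq_mul.mp (congrArg Subtype.val (h1 ⟨u, hPL hu⟩ hu))).symm

/-- The Frattini subgroup of a special group has exponent `q`. -/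
theorem pow_eq_one_of_mem {G : Type*} [Group G] [Finite G] {q : ℕ} [Fact q.Prime] {P : Subgroup G}
    (hP : IsPGroup q P) (hs : IsSpecial q ↥P) {z : G} (hz : z ∈ (frattini ↥P).map P.subtype) :
    z ^ q = 1 := by
  obtain ⟨c, hc, rfl⟩ := hz
  suffices h : c ∈ center ↥P ∧ c ^ q = 1 by rw [← map_pow, h.2, map_one]
  have hc' : c ∈ _root_.commutator ↥P := by rw [hs.2.2, ← hs.2.1]; exact hc
  rw [commutator_eq_closure] at hc'
  clear hc
  induction hc' using Subgroup.closure_induction with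
  | mem x hx =>
    obtain ⟨a, b, rfl⟩ := hx
    have hcen : ⁅a, b⁆ ∈ center ↥P := by
      rw [← hs.2.2]; exact commutator_mem_commutator (mem_top a) (mem_top b)
    refine ⟨hcen, ?_⟩
    rw [← Extraspecial.commutator_pow_left hcen, commutatorElement_eq_one_iff_mul_comm]
    have hap : a ^ q ∈ center ↥P := hs.2.1 ▸ PFrattini.pow_mem_frattini hP a
    exact (mem_center_iff.mp hap b).symm
  | one => exact ⟨one_mem _, one_pow _⟩
  | mul x y _ _ hx hy =>
    exact ⟨mul_mem hx.1 hy.1,
      by rw [Commute.mul_pow (mem_center_iff.mp hy.1 x), hx.2, hy.2, one_mul]⟩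
  | inv x _ hx => exact ⟨inv_mem hx.1, by rw [inv_pow, hx.2, inv_one]⟩

/-- Nondegeneracy of the commutator form modulo an invariant subgroup. -/
theorem exists_commutator_not_mem {G : Type*} [Group G] {q : ℕ} {X P K : Subgroup G}
    (hXP : X ≤ normalizer (P : Set G)) (hs : IsSpecial q ↥P)
    (hirr : ∀ U : Subgroup G, (frattini ↥P).map P.subtype ≤ U → U ≤ P →
      X ≤ normalizer (U : Set G) → U = (frattini ↥P).map P.subtype ∨ U = P)
    (hK : X ⊔ P ≤ normalizer (K : Set G)) (hnK : ¬ ⁅P, P⁆ ≤ K) {x : G} (hx : x ∈ P)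
    (hxF : x ∉ (frattini ↥P).map P.subtype) : ∃ y ∈ P, ⁅y, x⁆ ∉ K := by
  set L := X ⊔ P
  have hPL : P ≤ L := le_sup_right
  haveI hPn : (P.subgroupOf L).Normal :=
    normal_subgroupOf_of_le_normalizer (sup_le hXP Subgroup.le_normalizer)
  haveI hKn : (K.subgroupOf L).Normal := normal_subgroupOf_of_le_normalizer hK
  set C := P.subgroupOf L ⊓
    (centralizer (((P.subgroupOf L).map (QuotientGroup.mk' (K.subgroupOf L))) :
      Set (L ⧸ K.subgroupOf L))).comap (QuotientGroup.mk' (K.subgroupOf L))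
  haveI : ((P.subgroupOf L).map (QuotientGroup.mk' (K.subgroupOf L))).Normal :=
    Subgroup.Normal.map hPn _ (QuotientGroup.mk'_surjective _)
  haveI hCn : C.Normal := inferInstance
  have hmem : ∀ u : L, u ∈ C ↔ (u : G) ∈ P ∧ ∀ y ∈ P, ⁅y, (u : G)⁆ ∈ K := by
    intro u
    simp only [C, mem_inf, mem_subgroupOf, mem_comap, mem_centralizer_iff]
    refine and_congr_right fun hu => ⟨fun h y hy => ?_, ?_⟩
    · have h1 := h _ ⟨⟨y, hPL hy⟩, hy, rfl⟩
      rw [← commutatorElement_eq_one_iff_mul_comm, ← map_commutatorElement,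
        QuotientGroup.mk'_apply, QuotientGroup.eq_one_iff] at h1
      exact h1
    · rintro h _ ⟨y, hy, rfl⟩
      rw [← commutatorElement_eq_one_iff_mul_comm, ← map_commutatorElement,
        QuotientGroup.mk'_apply, QuotientGroup.eq_one_iff]
      exact h y hy
  refine (hirr (C.map L.subtype) ?_ ?_ ?_).elim (fun h => ?_) (fun h => ?_)
  · rintro _ ⟨c, hc, rfl⟩
    refine ⟨⟨c, hPL c.2⟩, (hmem _).mpr ⟨c.2, fun y hy => ?_⟩, rfl⟩
    have h1 : ⁅(⟨y, hy⟩ : P), c⁆ = 1 := by
      rw [commutatorElement_eq_one_iff_mul_comm]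
      exact mem_center_iff.mp (hs.2.1 ▸ hc) _
    have h2 : ⁅y, (c : G)⁆ = 1 := congrArg Subtype.val h1
    rw [h2]; exact one_mem _
  · rintro _ ⟨c, hc, rfl⟩
    exact ((hmem c).mp hc).1
  · refine (le_sup_left : X ≤ L).trans ?_
    have h := le_normalizer_map (H := C) L.subtype
    rw [normalizer_eq_top, ← MonoidHom.range_eq_map, range_subtype] at h
    exact h
  · by_contra hno
    push Not at hno
    exact hxF (h ▸ ⟨⟨x, hPL hx⟩, (hmem _).mpr ⟨hx, hno⟩, rfl⟩)
  · refine absurd ?_ hnK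
    rw [commutator_le]
    intro a ha b hb
    obtain ⟨u, hu, rfl⟩ : b ∈ C.map L.subtype := by rw [h]; exact hb
    exact ((hmem u).mp hu).2 a ha

/-- Let p, q, r be distinct primes and let X, Q, V be subgroups of a finite group with X of order r normalizing the q-group Q and acting faithfully on it (X ∩ C(Q) = 1), and V a nontrivial elementary abelian p-group normalized by X and Q on which XQ acts faithfully. If q = 2 and r has the form 2^n + 1, assume in addition that Q is abelian. Then C_V(X) ≠ 1. -/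
theorem result {G : Type*} [Group G] [Finite G] {p q r : ℕ} (hp : p.Prime) (hq : q.Prime) (hr : r.Prime) (hpq : p ≠ q) (hpr : p ≠ r) (hqr : q ≠ r) (X Q V : Subgroup G) (hX : Nat.card X = r) (hQ : IsPGroup q Q) (hXQ : X ≤ Subgroup.normalizer (Q : Set G)) (hXfaith : X ⊓ Subgroup.centralizer (Q : Set G) = ⊥) (hV : Cfsg.IsElementaryAbelian p V) (hV1 : V ≠ ⊥) (hXV : X ≤ Subgroup.normalizer (V : Set G)) (hQV : Q ≤ Subgroup.normalizer (V : Set G)) (hfaith : (X ⊔ Q) ⊓ Subgroup.centralizer (V : Set G) = ⊥) (hexc : q = 2 → (∃ n : ℕ, r = 2 ^ n + 1) → IsMulCommutative Q) : V ⊓ Subgroup.centralizer (X : Set G) ≠ ⊥ := by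
  classical
  intro hCV
  haveI := Fact.mk hq
  haveI := Fact.mk hr
  haveI := Fact.mk hp
  have hcX : (Nat.card X).Coprime (Nat.card Q) := by
    obtain ⟨b, hb⟩ := IsPGroup.iff_card.mp hQ
    rw [hX, hb]
    exact Nat.Coprime.pow_right _ ((Nat.coprime_primes hr hq).mpr hqr.symm)
  -- a minimal invariant subgroup on which `X` acts nontrivially
  haveI : Finite (Subgroup G) := Finite.of_injective _ SetLike.coe_injective
  have hQX : ⁅Q, X⁆ ≠ ⊥ := fun h => by
    rw [commutator_comm, commutator_eq_bot_iff_le_centralizer] at h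
    rw [inf_eq_left.mpr h] at hXfaith
    rw [hXfaith, card_bot] at hX
    exact hr.ne_one hX.symm
  obtain ⟨P, hP, hPmin⟩ := Set.Finite.exists_minimal
    (s := {U : Subgroup G | U ≤ Q ∧ X ≤ normalizer (U : Set G) ∧ ⁅U, X⁆ ≠ ⊥}) (Set.toFinite _)
    ⟨Q, le_rfl, hXQ, hQX⟩
  obtain ⟨hPQ, hXP, hPX⟩ := hP
  have hqP : IsPGroup q P := hQ.to_le hPQ
  have data := PGroupAut.minimalAction (B := X) (A := X) hqP hXP le_rfl Subgroup.le_normalizer
    (hcX.coprime_dvd_right (card_dvd_of_le hPQ)) hPX (fun U hU hUX => by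
      by_contra hne
      exact hU.not_ge (hPmin ⟨hU.le.trans hPQ, hUX, hne⟩ hU.le))
  have hPV : P ≤ normalizer (V : Set G) := hPQ.trans hQV
  have hfaith' : (X ⊔ P) ⊓ centralizer (V : Set G) = ⊥ :=
    le_bot_iff.mp (hfaith ▸ inf_le_inf_right _ (sup_le_sup_left hPQ X))
  by_cases hab : ⁅P, P⁆ = ⊥
  · -- a Frobenius group
    refine hPX ?_
    have hfix : P ⊓ centralizer (X : Set G) = ⊥ := le_bot_iff.mp (hab ▸ data.fixed_le_commutator)
    have hPc : P ≤ centralizer (V : Set G) :=
      le_centralizer_of_fixedPointFree hq hr hp hqr hpq hpr hX hqP hXP hfix hV hXV hPV hCV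
    have hP0 : P ≤ (X ⊔ P) ⊓ centralizer (V : Set G) := le_inf le_sup_right hPc
    rw [hfaith', le_bot_iff] at hP0
    rw [hP0, commutator_bot_left]
  · set F := (frattini ↥P).map P.subtype with hFdef
    have hspec : IsSpecial q ↥P := data.elemAb_or_special.resolve_left fun h => hab (by
      rw [commutator_eq_bot_iff_le_centralizer]
      exact fun x hx => mem_centralizer_iff.mpr fun y hy =>
        congrArg Subtype.val (h.1.is_comm.comm (⟨y, hy⟩ : P) ⟨x, hx⟩))
    have hFPP : F = ⁅P, P⁆ := by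
      rw [← map_subtype_commutator, hFdef, hspec.2.1, hspec.2.2]
    obtain ⟨k, h1, h2, -⟩ := HallHigmanExc.exceptional_of_subgroups hp hq hr hpq hpr hqr (Z := F)
      hX hqP hXP (map_subtype_le _) data.frattini_le_centralizer data.frattini_fixed hV hXV hPV
      hfaith' (fun x hx y hy => hFPP ▸ commutator_mem_commutator hx hy)
      (fun x hx => ⟨(⟨x, hx⟩ : P) ^ q, PFrattini.pow_mem_frattini hqP _, rfl⟩)
      (fun z hz => pow_eq_one_of_mem hqP hspec hz)
      (hFPP.symm ▸ data.fixed_le_commutator)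
      (fun K hK hnK x hx hxF => exists_commutator_not_mem hXP hspec data.irreducible hK hnK hx hxF)
      hab hCV
    have hc := hexc h1 ⟨k, h2⟩
    refine hab ?_
    rw [commutator_eq_bot_iff_le_centralizer]
    exact fun x hx => mem_centralizer_iff.mpr fun y hy =>
      congrArg Subtype.val (hc.is_comm.comm (⟨y, hPQ hy⟩ : Q) ⟨x, hPQ hx⟩)

end Cfsg.Agent.S3765
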