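import Cfsg.Statements.S3766
import Mathlib
import Cfsg.Agent.Lib.Core.Fitting

set_option autoImplicit false
open Cfsg

namespace Cfsg.Agent.S3766

open scoped commutatorElement

variable {G : Type*} [Group G]

/-- A chief factor. -/
def IsChief (U V : Subgroup G) : Prop :=
  U.Normal ∧ V.Normal ∧ V < U ∧ ∀ W : Subgroup G, W.Normal → V ≤ W → W ≤ U → W = V ∨ W = U

theorem lcs_normal (D : Subgroup G) [D.Normal] (n : ℕ) : (D.lowerCentralSeries n).Normal := by
  induction n with
  | zero => simpa using (inferInstance : D.Normal)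
  | succ n ih =>
    haveI := ih
    rw [Subgroup.lowerCentralSeries_succ]
    infer_instance

/-- A normal nilpotent subgroup centralizes every chief factor. -/
theorem centralizes_of_nilpotent {K : Subgroup G} [K.Normal] (hK : Group.IsNilpotent K)
    {U V : Subgroup G} (h : IsChief U V) {u g : G} (hu : u ∈ U) (hg : g ∈ K) : ⁅u, g⁆ ∈ V := by
  obtain ⟨hU, hV, hlt, hmax⟩ := h
  rcases hmax (⁅U, K⁆ ⊔ V) inferInstance le_sup_right
    (sup_le (Subgroup.commutator_le_left U K) hlt.le) with hW | hW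
  · exact hW ▸ Subgroup.mem_sup_left (Subgroup.commutator_mem_commutator hu hg)
  · exfalso
    have hall : ∀ n, U ≤ K.lowerCentralSeries n ⊔ V := by
      intro n
      induction n with
      | zero => exact hW ▸ sup_le_sup_right (Subgroup.commutator_le_right U K) V
      | succ n ih =>
        refine hW ▸ sup_le ((Subgroup.commutator_mono ih le_rfl).trans ?_) le_sup_right
        haveI := lcs_normal K n
        haveI := lcs_normal K (n + 1)
        rw [Subgroup.commutator_le]
        intro x hx k hk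
        obtain ⟨a, ha, v, hv, rfl⟩ := Subgroup.mem_sup_of_normal_right.mp hx
        have h1 : ⁅a * v, k⁆ = a * ⁅v, k⁆ * a⁻¹ * ⁅a, k⁆ := by
          simp only [commutatorElement_def]; group
        rw [h1]
        refine mul_mem (Subgroup.mem_sup_right (hV.conj_mem _ ?_ a))
          (Subgroup.mem_sup_left (Subgroup.commutator_mem_commutator ha hk))
        rw [commutatorElement_def, mul_assoc, mul_assoc, ← mul_assoc k]
        exact mul_mem hv (hV.conj_mem _ (inv_mem hv) k)
    obtain ⟨n, hn⟩ := (Subgroup.isNilpotent_iff_lowerCentralSeries K).mp hK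
    have := hall n
    rw [hn, bot_sup_eq] at this
    exact hlt.not_ge this

/-- The subgroup of elements of `N` centralizing the chief factors below `F`. -/
def centS (N F : Subgroup G) [N.Normal] : Subgroup G where
  carrier := {g | g ∈ N ∧ ∀ U V : Subgroup G, IsChief U V → U ≤ F → ∀ u ∈ U, ⁅u, g⁆ ∈ V}
  one_mem' := ⟨one_mem _, fun U V _ _ u _ => by simp⟩
  mul_mem' := fun {a b} ha hb => ⟨mul_mem ha.1 hb.1, fun U V h hle u hu => by
    rw [show ⁅u, a * b⁆ = ⁅u, a⁆ * (a * ⁅u, b⁆ * a⁻¹) by simp only [commutatorElement_def]; group]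
    exact mul_mem (ha.2 U V h hle u hu) (h.2.1.conj_mem _ (hb.2 U V h hle u hu) a)⟩
  inv_mem' := fun {a} ha => ⟨inv_mem ha.1, fun U V h hle u hu => by
    rw [show ⁅u, a⁻¹⁆ = a⁻¹ * ⁅u, a⁆⁻¹ * a⁻¹⁻¹ by simp only [commutatorElement_def]; group]
    exact h.2.1.conj_mem _ (inv_mem (ha.2 U V h hle u hu)) a⁻¹⟩

theorem centS_normal (N F : Subgroup G) [N.Normal] : (centS N F).Normal := by
  refine ⟨fun a ha x => ⟨Subgroup.Normal.conj_mem inferInstance a ha.1 x, fun U V h hle u hu => ?_⟩⟩
  rw [show ⁅u, x * a * x⁻¹⁆ = x * ⁅x⁻¹ * u * x⁻¹⁻¹, a⁆ * x⁻¹ by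
    simp only [commutatorElement_def]; group]
  exact h.2.1.conj_mem _ (ha.2 U V h hle _ (h.1.conj_mem u hu x⁻¹)) x

variable [Finite G]

/-- A normal subgroup whose derived subgroup lies in `F` and which centralizes the chief factors
below `F` is nilpotent. -/
theorem nilpotent_of_centralizes {E F : Subgroup G} (hF : F.Normal) (hEE : ⁅E, E⁆ ≤ F)
    (hE : ∀ U V : Subgroup G, IsChief U V → U ≤ F → ∀ u ∈ U, ∀ g ∈ E, ⁅u, g⁆ ∈ V) :
    Group.IsNilpotent E := by
  classical
  have key : ∀ U : Subgroup G, U.Normal → U ≤ F → ∀ j, E.lowerCentralSeries j ≤ U → ∃ j', E.lowerCentralSeries j' = ⊥ := by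
    intro U
    induction U using WellFoundedLT.induction with
    | _ U ih =>
      intro hU hUF j hj
      by_cases hbot : U = ⊥
      · exact ⟨j, le_bot_iff.mp (hbot ▸ hj)⟩
      obtain ⟨V, hV, hmax⟩ := Set.Finite.exists_maximal (s := {V : Subgroup G | V.Normal ∧ V < U})
        (Set.toFinite _) ⟨⊥, inferInstance, bot_lt_iff_ne_bot.mpr hbot⟩
      have hchief : IsChief U V := ⟨hU, hV.1, hV.2, fun W hW h1 h2 => by
        rcases h2.lt_or_eq with h3 | h3
        · exact Or.inl (le_antisymm (hmax ⟨hW, h3⟩ h1) h1)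
        · exact Or.inr h3⟩
      refine ih V hV.2 hV.1 (hV.2.le.trans hUF) (j + 1) ?_
      rw [Subgroup.lowerCentralSeries_succ, Subgroup.commutator_le]
      exact fun u hu g hg => hE U V hchief hUF u (hj hu) g hg
  obtain ⟨j, hj⟩ := key F hF le_rfl 1 hEE
  exact (Subgroup.isNilpotent_iff_lowerCentralSeries E).mpr ⟨j, hj⟩

/-- Let G be a finite solvable group and N a normal subgroup of G. Call a pair V < U of normal subgroups of G a chief factor of G when no normal subgroup of G lies strictly between them; an element g centralizes the chief factor U/V when u g u⁻¹ g⁻¹ ∈ V for all u ∈ U. Then an element of G lies in the Fitting subgroup F(N) if and only if it lies in N and centralizes every chief factor of G; and also if and only if it lies in N and centralizes every chief factor U/V of G with U ≤ F(N). -/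
theorem result {G : Type*} [Group G] [Finite G] (hG : Group.IsSolvable G) (N : Subgroup G) [N.Normal] (g : G) : (g ∈ (Cfsg.fittingSubgroup ↥N).map N.subtype ↔ g ∈ N ∧ ∀ U V : Subgroup G, (U.Normal ∧ V.Normal ∧ V < U ∧ ∀ W : Subgroup G, W.Normal → V ≤ W → W ≤ U → W = V ∨ W = U) → ∀ u ∈ U, u * g * u⁻¹ * g⁻¹ ∈ V) ∧ (g ∈ (Cfsg.fittingSubgroup ↥N).map N.subtype ↔ g ∈ N ∧ ∀ U V : Subgroup G, (U.Normal ∧ V.Normal ∧ V < U ∧ ∀ W : Subgroup G, W.Normal → V ≤ W → W ≤ U → W = V ∨ W = U) → U ≤ (Cfsg.fittingSubgroup ↥N).map N.subtype → ∀ u ∈ U, u * g * u⁻¹ * g⁻¹ ∈ V) := by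
  haveI := Cfsg.Agent.Lib.Fitting.fittingSubgroup_normal (G := G)
  rw [Cfsg.Agent.Lib.Fitting.map_subtype_fittingSubgroup_of_normal N]
  have fwd : g ∈ fittingSubgroup G ⊓ N → ∀ U V : Subgroup G, IsChief U V →
      ∀ u ∈ U, u * g * u⁻¹ * g⁻¹ ∈ V := by
    intro hg U V h u hu
    rw [← commutatorElement_def]
    exact centralizes_of_nilpotent (Cfsg.Agent.Lib.Fitting.isNilpotent_fittingSubgroup) h hu hg.1
  have bwd : (g ∈ N ∧ ∀ U V : Subgroup G, IsChief U V → U ≤ fittingSubgroup G ⊓ N →
      ∀ u ∈ U, u * g * u⁻¹ * g⁻¹ ∈ V) → g ∈ fittingSubgroup G ⊓ N := by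
    rintro ⟨hgN, hg⟩
    set F := fittingSubgroup G ⊓ N with hF
    set C := centS N F with hC
    haveI := centS_normal N F
    have hgC : g ∈ C := ⟨hgN, fun U V h hle u hu => by
      rw [commutatorElement_def]; exact hg U V h hle u hu⟩
    obtain ⟨m, hm⟩ := hG.solvable
    have key : ∀ i n, n + i = m → C ⊓ derivedSeries G n ≤ F := by
      intro i
      induction i with
      | zero =>
        intro n hn
        rw [Nat.add_zero] at hn
        rw [hn, hm, inf_bot_eq]
        exact bot_le
      | succ i ih =>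
        intro n hn
        haveI : (C ⊓ derivedSeries G n).Normal := Subgroup.normal_inf_normal _ _
        refine le_inf (Cfsg.Agent.Lib.Fitting.le_fittingSubgroup ?_) (fun x hx => hx.1.1)
        refine nilpotent_of_centralizes (F := F) inferInstance ?_ fun U V h hle u hu x hx =>
          hx.1.2 U V h hle u hu
        refine le_trans ?_ (ih (n + 1) (by omega))
        refine le_inf (Subgroup.commutator_le.mpr fun a ha b hb => ?_)
          (Subgroup.commutator_mono inf_le_right inf_le_right)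
        rw [commutatorElement_def]
        exact mul_mem (mul_mem (mul_mem ha.1 hb.1) (inv_mem ha.1)) (inv_mem hb.1)
    exact key m 0 (Nat.zero_add m) ⟨hgC, by simp⟩
  exact ⟨⟨fun h => ⟨h.2, fun U V hUV => fwd h U V hUV⟩,
      fun h => bwd ⟨h.1, fun U V hUV _ => h.2 U V hUV⟩⟩,
    ⟨fun h => ⟨h.2, fun U V hUV _ => fwd h U V hUV⟩, bwd⟩⟩

end Cfsg.Agent.S3766
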