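import Cfsg.Statements.S3767
import Mathlib
import Cfsg.Agent.Lib.PGroupAut.Semiregular
import Cfsg.Agent.Lib.Extraspecial.Structure
import Cfsg.Agent.Lib.Coprime.Glauberman

set_option autoImplicit false
open Cfsg

namespace Cfsg.Agent.S3767

open Module
open scoped commutatorElement

/-- An irreducible symplectic space for a semiregular cyclic isometry group of order `h ≥ 3` has
dimension `2 i` with `p ^ i ≡ -1 (mod h)`. -/
theorem irreducible_symplectic {p h : ℕ} [Fact p.Prime] (h3 : 3 ≤ h) {W : Type*} [AddCommGroup W]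
    [Module (ZMod p) W] [Finite W] [Nontrivial W] (B : LinearMap.BilinForm (ZMod p) W)
    (hB : B.Nondegenerate) (x : Module.End (ZMod p) W) (hinv : ∀ a b, B (x a) (x b) = B a b)
    (hx : x ^ h = 1) (hfree : ∀ i : ℕ, ¬ h ∣ i → ∀ a, (x ^ i) a = a → a = 0)
    (hd : (p : ZMod h) ^ finrank (ZMod p) W = 1)
    (hirr : ∀ U : Submodule (ZMod p) W, (∀ a ∈ U, x a ∈ U) → U = ⊥ ∨ U = ⊤) :
    ∃ i : ℕ, finrank (ZMod p) W = 2 * i ∧ (p : ZMod h) ^ i = -1 := by
  classical
  set A := Algebra.adjoin (ZMod p) ({x} : Set (Module.End (ZMod p) W)) with hA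
  have hxA : x ∈ A := Algebra.subset_adjoin rfl
  have hcx : ∀ f ∈ A, Commute x f := fun f hf =>
    Algebra.commute_of_mem_adjoin_singleton_of_commute hf (Commute.refl x)
  have hcomm : ∀ f ∈ A, ∀ g ∈ A, f * g = g * f := fun f hf g hg =>
    (Algebra.commute_of_mem_adjoin_singleton_of_commute hg (hcx f hf).symm).eq
  have hinj : ∀ f ∈ A, f ≠ 0 → Function.Injective f := by
    intro f hf hf0
    rw [← LinearMap.ker_eq_bot]
    rcases hirr (LinearMap.ker f) (fun a ha => by
      rw [LinearMap.mem_ker] at ha ⊢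
      have := LinearMap.congr_fun (hcx f hf).eq a
      rw [Module.End.mul_apply, Module.End.mul_apply, ha, map_zero] at this
      exact this.symm) with h | h
    · exact h
    · exact absurd (LinearMap.ker_eq_top.mp h) hf0
  letI : CommRing A := { (inferInstance : Ring A) with
    mul_comm := fun f g => Subtype.ext (hcomm f f.2 g g.2) }
  haveI : Finite (Module.End (ZMod p) W) := Finite.of_injective _ DFunLike.coe_injective
  haveI : Nontrivial A := ⟨⟨0, 1, fun e => by
    obtain ⟨a, ha⟩ := exists_ne (0 : W)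
    exact ha (by simpa using (LinearMap.congr_fun (congrArg Subtype.val e) a).symm)⟩⟩
  haveI : NoZeroDivisors A := ⟨fun {f g} e => by
    by_contra hfg
    push Not at hfg
    apply hfg.2
    refine Subtype.ext (LinearMap.ext fun a => hinj f f.2 (fun e' => hfg.1 (Subtype.ext e')) ?_)
    simpa using LinearMap.congr_fun (congrArg Subtype.val e) a⟩
  haveI : IsDomain A := NoZeroDivisors.to_isDomain A
  letI : Field A := (Finite.isField_of_domain A).toField
  -- dimension
  obtain ⟨w, hw⟩ := exists_ne (0 : W)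
  let ev : A →ₗ[ZMod p] W :=
    { toFun := fun f => (f : Module.End (ZMod p) W) w
      map_add' := fun f g => rfl
      map_smul' := fun c f => rfl }
  have hev : Function.Bijective ev := by
    refine ⟨?_, ?_⟩
    · rw [← LinearMap.ker_eq_bot, eq_bot_iff]
      intro f hf
      rw [Submodule.mem_bot]
      by_contra hf0
      exact hw (hinj f f.2 (fun e => hf0 (Subtype.ext e))
        (by rw [map_zero]; exact hf))
    · rw [← LinearMap.range_eq_top]
      refine (hirr _ ?_).resolve_left fun e => hw ?_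
      · rintro _ ⟨f, rfl⟩
        exact ⟨⟨x * f, mul_mem hxA f.2⟩, rfl⟩
      · have : ev 1 ∈ LinearMap.range ev := ⟨1, rfl⟩
        rw [e, Submodule.mem_bot] at this
        exact this
  have hrank : finrank (ZMod p) A = finrank (ZMod p) W :=
    (LinearEquiv.ofBijective ev hev).finrank_eq
  -- adjoints
  have hadj : ∀ f ∈ A, ∃ g ∈ A, ∀ a b, B (f a) b = B a (g b) := by
    intro f hf
    induction hf using Algebra.adjoin_induction with
    | mem y hy =>
      rw [Set.mem_singleton_iff] at hy
      subst hy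
      refine ⟨y ^ (h - 1), pow_mem hxA _, fun a b => ?_⟩
      rw [← hinv a ((y ^ (h - 1)) b), ← Module.End.mul_apply y, ← pow_succ',
        show h - 1 + 1 = h by omega, hx, Module.End.one_apply]
    | algebraMap r =>
      exact ⟨algebraMap _ _ r, Subalgebra.algebraMap_mem _ r, fun a b => by simp⟩
    | add f g _ _ hf hg =>
      obtain ⟨f', hf', hf''⟩ := hf
      obtain ⟨g', hg', hg''⟩ := hg
      exact ⟨f' + g', add_mem hf' hg', fun a b => by simp [hf'', hg'']⟩
    | mul f g hfA hgA hf hg =>
      obtain ⟨f', hf', hf''⟩ := hf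
      obtain ⟨g', hg', hg''⟩ := hg
      exact ⟨g' * f', mul_mem hg' hf', fun a b => by simp [hf'', hg'']⟩
  choose adj hadjA hadj' using hadj
  have huniq : ∀ f (hf : f ∈ A), ∀ g : Module.End (ZMod p) W,
      (∀ a b, B (f a) b = B a (g b)) → adj f hf = g := by
    intro f hf g hg
    refine LinearMap.ext fun b => sub_eq_zero.mp (hB.2 _ fun a => ?_)
    rw [map_sub, ← hadj' f hf, hg, sub_self]
  let σ : A →ₐ[ZMod p] A :=
    { toFun := fun f => ⟨adj f f.2, hadjA f f.2⟩
      map_one' := Subtype.ext (huniq _ _ _ fun a b => rfl)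
      map_mul' := fun f g => Subtype.ext (by
        show adj ((f * g : A) : Module.End (ZMod p) W) _ = adj f f.2 * adj g g.2
        rw [hcomm _ (hadjA _ f.2) _ (hadjA _ g.2)]
        refine huniq _ _ _ fun a b => ?_
        simp [hadj' _ f.2, hadj' _ g.2])
      map_zero' := Subtype.ext (huniq _ _ _ fun a b => by simp)
      map_add' := fun f g => Subtype.ext (huniq _ _ _ fun a b => by
        simp [hadj' _ f.2, hadj' _ g.2])
      commutes' := fun r => Subtype.ext (huniq _ _ _ fun a b => by simp) }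
  haveI : Module.Finite (ZMod p) A := Module.Finite.of_finite
  set X : A := ⟨x, hxA⟩ with hX
  have hord : ∀ i : ℕ, x ^ i = 1 → h ∣ i := fun i hi => by
    by_contra hni
    exact hw (hfree i hni w (by rw [hi]; rfl))
  -- `σ` is a power of the Frobenius map
  obtain ⟨⟨i, hilt⟩, hi⟩ := (FiniteField.bijective_frobeniusAlgHom_pow (ZMod p) A).2 σ
  have hfrob : ∀ (j : ℕ) (f : A), (FiniteField.frobeniusAlgHom (ZMod p) A ^ j) f = f ^ p ^ j := by
    intro j f
    induction j with
    | zero => simp
    | succ j ih =>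
      rw [pow_succ', AlgHom.mul_apply, ih, FiniteField.frobeniusAlgHom_apply, ← pow_mul]
      simp [pow_succ, ZMod.card]
  have h1 := hfrob i X
  simp only at hi
  rw [hi] at h1
  have h2 : x ^ (p ^ i + 1) = 1 := by
    have h3 : adj x hxA = x ^ (h - 1) := huniq _ _ _ fun a b => by
      rw [← hinv a ((x ^ (h - 1)) b), ← Module.End.mul_apply x, ← pow_succ',
        show h - 1 + 1 = h by omega, hx, Module.End.one_apply]
    have h4 : x ^ p ^ i = x ^ (h - 1) := by
      rw [← h3]; exact (congrArg Subtype.val h1).symm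
    rw [pow_succ, h4, ← pow_succ, show h - 1 + 1 = h by omega, hx]
  have hneg : (p : ZMod h) ^ i = -1 := by
    have := (ZMod.natCast_eq_zero_iff _ _).mpr (hord _ h2) |> fun e => e
    push_cast at this
    linear_combination this
  refine ⟨i, ?_, hneg⟩
  rw [hrank] at hilt
  -- no smaller power of `p` is `1` modulo `h`
  have hmin : ∀ j : ℕ, j < finrank (ZMod p) W → (p : ZMod h) ^ j = 1 → j = 0 := by
    intro j hj hj1
    have hxj : x ^ p ^ j = x := by
      have h3 : ((p ^ j : ℕ) : ZMod h) = ((1 : ℕ) : ZMod h) := by push_cast; exact hj1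
      rw [ZMod.natCast_eq_natCast_iff'] at h3
      have h5 := pow_eq_pow_mod (M := Module.End (ZMod p) W) (p ^ j) hx
      rw [h3] at h5
      rw [h5, ← pow_eq_pow_mod 1 hx, pow_one]
    have hid : FiniteField.frobeniusAlgHom (ZMod p) A ^ j = FiniteField.frobeniusAlgHom (ZMod p) A ^ 0 := by
      refine AlgHom.adjoin_ext fun y hy => ?_
      rw [Set.mem_singleton_iff] at hy
      subst hy
      rw [hfrob, hfrob]
      exact Subtype.ext (by simpa using hxj)
    have hj' : j < finrank (ZMod p) A := by rw [hrank]; exact hj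
    have := (FiniteField.bijective_frobeniusAlgHom_pow (ZMod p) A).1
      (a₁ := ⟨j, hj'⟩) (a₂ := ⟨0, by omega⟩) hid
    exact congrArg Fin.val this
  have hpos : 0 < finrank (ZMod p) W := by omega
  have h2i : (p : ZMod h) ^ (2 * i) = 1 := by rw [mul_comm, pow_mul, hneg]; ring
  rcases Nat.lt_trichotomy (2 * i) (finrank (ZMod p) W) with hlt | heq | hgt
  · exfalso
    have hi0 : i = 0 := by have := hmin _ hlt h2i; omega
    rw [hi0, pow_zero] at hneg
    have h2' : ((2 : ℕ) : ZMod h) = 0 := by push_cast; linear_combination hneg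
    have := Nat.le_of_dvd two_pos ((ZMod.natCast_eq_zero_iff _ _).mp h2')
    omega
  · exact heq.symm
  · exfalso
    rw [show 2 * i = (2 * i - finrank (ZMod p) W) + finrank (ZMod p) W by omega, pow_add, hd,
      mul_one] at h2i
    have := hmin _ (by omega) h2i
    omega

universe u

open LinearMap (BilinForm) in
/-- A symplectic space with a semiregular cyclic isometry group of order `h ≥ 3` has dimension `2 n`
with `p ^ n ≡ ±1 (mod h)`. -/
theorem symplectic_cyclic {p h : ℕ} [Fact p.Prime] (h3 : 3 ≤ h) (hph : ¬ p ∣ h) :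
    ∀ (m : ℕ) (V : Type u) [AddCommGroup V] [Module (ZMod p) V] [Finite V]
      (B : LinearMap.BilinForm (ZMod p) V) (x : Module.End (ZMod p) V), finrank (ZMod p) V = m →
      B.Nondegenerate → (∀ a, B a a = 0) → (∀ a b, B (x a) (x b) = B a b) → x ^ h = 1 →
      (∀ i : ℕ, ¬ h ∣ i → ∀ a, (x ^ i) a = a → a = 0) →
      ∃ n : ℕ, m = 2 * n ∧ ((p : ZMod h) ^ n = 1 ∨ (p : ZMod h) ^ n = -1) := by
  intro m
  induction m using Nat.strong_induction_on with
  | _ m ih =>
    intro V _ _ _ B x hm hB halt hinv hx hfree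
    classical
    by_cases hm0 : m = 0
    · exact ⟨0, by omega, Or.inl (pow_zero _)⟩
    haveI : Module.Finite (ZMod p) V := Module.Finite.of_finite
    have hrefl : B.IsRefl := LinearMap.IsAlt.isRefl halt
    haveI : Nontrivial V := Module.nontrivial_of_finrank_pos (R := ZMod p) (by omega)
    haveI : Finite (Submodule (ZMod p) V) := Finite.of_injective _ SetLike.coe_injective
    have horth : ∀ U : Submodule (ZMod p) V, (∀ a ∈ U, x a ∈ U) →
        ∀ a ∈ B.orthogonal U, x a ∈ B.orthogonal U := by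
      intro U hU a ha n hn
      have hpow : ∀ k : ℕ, (x ^ k) n ∈ U := by
        intro k
        induction k with
        | zero => simpa using hn
        | succ k ih => rw [pow_succ', Module.End.mul_apply]; exact hU _ ih
      have h1 : B ((x ^ (h - 1)) n) a = 0 := ha _ (hpow _)
      rw [← hinv, ← Module.End.mul_apply x, ← pow_succ', show h - 1 + 1 = h by omega, hx,
        Module.End.one_apply] at h1
      exact h1
    obtain ⟨W, hW, hWmin⟩ := Set.Finite.exists_minimal
      (s := {U : Submodule (ZMod p) V | U ≠ ⊥ ∧ ∀ a ∈ U, x a ∈ U}) (Set.toFinite _)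
      ⟨⊤, top_ne_bot, fun _ _ => Submodule.mem_top⟩
    obtain ⟨hW0, hWx⟩ := hW
    -- restrictions
    have hrestr : ∀ (U : Submodule (ZMod p) V) (hU : ∀ a ∈ U, x a ∈ U),
        (x.restrict hU) ^ h = 1 ∧
          ∀ i : ℕ, ¬ h ∣ i → ∀ a, ((x.restrict hU) ^ i) a = a → a = 0 := by
      intro U hU
      have hcoe : ∀ (i : ℕ) (a : U), (((x.restrict hU) ^ i) a : V) = (x ^ i) a := by
        intro i a
        induction i with
        | zero => rfl
        | succ i ih =>
          rw [pow_succ', pow_succ', Module.End.mul_apply, Module.End.mul_apply, ← ih]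
          rfl
      exact ⟨LinearMap.ext fun a => Subtype.ext (by rw [hcoe, hx]; rfl),
        fun i hi a ha => Subtype.ext (hfree i hi a (by rw [← hcoe, ha]))⟩
    haveI : Nontrivial W := (Submodule.nontrivial_iff_ne_bot).mpr hW0
    obtain ⟨hxW, hfreeW⟩ := hrestr W hWx
    set xW := x.restrict hWx with hxWdef
    set d := finrank (ZMod p) W with hd
    have hpd : (p : ZMod h) ^ d = 1 := by
      let u : (Module.End (ZMod p) W)ˣ := Units.ofPowEqOne xW h hxW (by omega)
      have hu : ∀ i : ℕ, ((u ^ i : (Module.End (ZMod p) W)ˣ) : Module.End (ZMod p) W) = xW ^ i :=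
        fun i => by rw [Units.val_pow_eq_pow_val]; rfl
      have hou : orderOf u = h := by
        refine Nat.dvd_antisymm (orderOf_dvd_of_pow_eq_one (Units.ext (by rw [hu, hxW]; rfl))) ?_
        by_contra hnd
        obtain ⟨a, ha⟩ := exists_ne (0 : W)
        exact ha (hfreeW _ hnd a (by rw [← hu, pow_orderOf_eq_one]; rfl))
      haveI : Finite (Module.End (ZMod p) W) := Finite.of_injective _ DFunLike.coe_injective
      have hdiv := Cfsg.Agent.Lib.PGroupAut.card_dvd_card_sub_one (H := Subgroup.zpowers u) (X := W) 0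
        (fun g => by
          show ((g : (Module.End (ZMod p) W)ˣ) : Module.End (ZMod p) W) 0 = 0
          exact map_zero _)
        (fun g hg a ha => by
          obtain ⟨i, hi⟩ := (mem_powers_iff_mem_zpowers (x := u)).mpr g.2
          refine hfreeW i (fun hdi => hg ?_) a ?_
          · obtain ⟨c, rfl⟩ := hdi
            refine Subtype.ext ?_
            rw [← hi]
            show u ^ (h * c) = 1
            rw [← hou, pow_mul, pow_orderOf_eq_one, one_pow]
          · rw [← hu]
            dsimp only at hi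
            rw [hi]
            exact ha)
      rw [Nat.card_zpowers, hou, Module.natCard_eq_pow_finrank (K := ZMod p), Nat.card_zmod] at hdiv
      have := (ZMod.natCast_eq_zero_iff _ _).mpr hdiv
      rw [Nat.cast_sub (Nat.one_le_iff_ne_zero.mpr (pow_ne_zero _ (Fact.out : p.Prime).ne_zero))] at this
      push_cast at this
      exact sub_eq_zero.mp this
    -- splitting off a non-degenerate invariant subspace
    have hsplit : ∀ (U : Submodule (ZMod p) V), (∀ a ∈ U, x a ∈ U) → U ≠ ⊥ →
        Disjoint U (B.orthogonal U) →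
        ∃ n : ℕ, m = finrank (ZMod p) U + 2 * n ∧
          ((p : ZMod h) ^ n = 1 ∨ (p : ZMod h) ^ n = -1) := by
      intro U hU hU0 hdisj
      have hUnd := B.nondegenerate_restrict_of_disjoint_orthogonal hrefl hdisj
      have hc := (LinearMap.BilinForm.restrict_nondegenerate_iff_isCompl_orthogonal hrefl).mp hUnd
      set V' := B.orthogonal U with hV'
      have hV'x := horth U hU
      have hsum := Submodule.finrank_add_eq_of_isCompl hc
      have hdisj' : Disjoint V' (B.orthogonal V') := by
        rw [hV', LinearMap.BilinForm.orthogonal_orthogonal hB hrefl]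
        exact hdisj.symm
      obtain ⟨hxV', hfreeV'⟩ := hrestr V' hV'x
      have hpos : 0 < finrank (ZMod p) U := by
        haveI : Nontrivial U := (Submodule.nontrivial_iff_ne_bot).mpr hU0
        exact Module.finrank_pos
      obtain ⟨n, hn, hpn⟩ := ih (finrank (ZMod p) V') (by omega) V' (B.restrict V')
        (x.restrict hV'x) rfl (B.nondegenerate_restrict_of_disjoint_orthogonal hrefl hdisj')
        (fun a => halt a) (fun a b => hinv a b) hxV' hfreeV'
      exact ⟨n, by omega, hpn⟩
    have hpm : ∀ (i n : ℕ), ((p : ZMod h) ^ i = 1 ∨ (p : ZMod h) ^ i = -1) →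
        ((p : ZMod h) ^ n = 1 ∨ (p : ZMod h) ^ n = -1) →
        (p : ZMod h) ^ (i + n) = 1 ∨ (p : ZMod h) ^ (i + n) = -1 := by
      intro i n hi hn
      rw [pow_add]
      rcases hi with hi | hi <;> rcases hn with hn | hn <;> rw [hi, hn] <;> simp
    by_cases hdisj : Disjoint W (B.orthogonal W)
    · obtain ⟨i, hi, hpi⟩ := irreducible_symplectic h3 (B.restrict W)
        (B.nondegenerate_restrict_of_disjoint_orthogonal hrefl hdisj) xW (fun a b => hinv a b)
        hxW hfreeW hpd (fun U hU => by
          by_cases hU0 : U = ⊥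
          · exact Or.inl hU0
          refine Or.inr ?_
          have hle : U.map W.subtype ≤ W := Submodule.map_subtype_le _ _
          have h1 := hWmin (y := U.map W.subtype) ⟨fun e => hU0 (by
            refine Submodule.map_injective_of_injective W.injective_subtype ?_
            rw [e, Submodule.map_bot]), by
              rintro _ ⟨a, ha, rfl⟩
              exact ⟨xW a, hU a ha, rfl⟩⟩ hle
          refine Submodule.map_injective_of_injective W.injective_subtype ?_
          rw [Submodule.map_top, Submodule.range_subtype]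
          exact le_antisymm hle h1)
      obtain ⟨n, hn, hpn⟩ := hsplit W hWx hW0 hdisj
      exact ⟨i + n, by omega, hpm i n (Or.inr hpi) hpn⟩
    · -- totally isotropic
      have hWiso : W ≤ B.orthogonal W := by
        have h1 : W ⊓ B.orthogonal W ≠ ⊥ := fun e => hdisj (disjoint_iff.mpr e)
        exact inf_eq_left.mp (le_antisymm inf_le_left (hWmin
          ⟨h1, fun a ha => ⟨hWx a ha.1, horth W hWx a ha.2⟩⟩ inf_le_left))
      have hss : x.IsSemisimple := Module.End.isSemisimple_of_squarefree_aeval_eq_zero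
        (p := Polynomial.X ^ h - 1) ((Polynomial.X_pow_sub_one_separable_iff.mpr (by
          rw [Ne, ZMod.natCast_eq_zero_iff]
          exact hph)).squarefree) (by simp [hx])
      obtain ⟨C, hC, hcompl⟩ := Module.End.isSemisimple_iff.mp hss (B.orthogonal W)
        (fun a ha => horth W hWx a ha)
      have hCx : ∀ a ∈ C, x a ∈ C := fun a ha => hC ha
      have hWC : W ⊓ C = ⊥ :=
        le_bot_iff.mp ((inf_le_inf_right C hWiso).trans hcompl.inf_eq_bot.le)
      have hdU : finrank (ZMod p) ↥(W ⊔ C) = 2 * d := by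
        have h1 := Submodule.finrank_sup_add_finrank_inf_eq W C
        rw [hWC, finrank_bot] at h1
        have h2 := Submodule.finrank_add_eq_of_isCompl hcompl
        rw [LinearMap.BilinForm.finrank_orthogonal hB] at h2
        have h4 : finrank (ZMod p) W ≤ finrank (ZMod p) V := Submodule.finrank_le W
        omega
      have hUd : Disjoint (W ⊔ C) (B.orthogonal (W ⊔ C)) := by
        rw [disjoint_iff, eq_bot_iff]
        rintro v ⟨hv1, hv2⟩
        obtain ⟨w, hw, c, hc, rfl⟩ := Submodule.mem_sup.mp hv1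
        have hc0 : c = 0 := by
          have h1 : c ∈ B.orthogonal W ⊓ C := by
            refine ⟨fun n hn => ?_, hc⟩
            have h5 : B n (w + c) = 0 := hv2 n (Submodule.mem_sup_left hn)
            rw [map_add, show B n w = 0 from hWiso hw n hn, zero_add] at h5
            exact h5
          rwa [hcompl.inf_eq_bot, Submodule.mem_bot] at h1
        subst hc0
        rw [add_zero] at hv2 ⊢
        rw [Submodule.mem_bot]
        refine hB.2 w fun y => ?_
        obtain ⟨y1, hy1, y2, hy2, rfl⟩ := Submodule.mem_sup.mp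
          (hcompl.sup_eq_top ▸ Submodule.mem_top : y ∈ B.orthogonal W ⊔ C)
        rw [map_add, LinearMap.add_apply, hrefl _ _ (hy1 w hw),
          show B y2 w = 0 from hv2 y2 (Submodule.mem_sup_right hy2), add_zero]
      obtain ⟨n, hn, hpn⟩ := hsplit (W ⊔ C) (fun a ha => by
        obtain ⟨w, hw, c, hc, rfl⟩ := Submodule.mem_sup.mp ha
        rw [map_add]
        exact Submodule.add_mem_sup (hWx w hw) (hCx c hc))
        (fun e => hW0 (le_bot_iff.mp (e ▸ le_sup_left))) hUd
      exact ⟨d + n, by omega, hpm d n (Or.inl hpd) hpn⟩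

/-- The additive form of `symplectic_cyclic`. -/
theorem symplectic_additive {p h n : ℕ} [Fact p.Prime] (h3 : 3 ≤ h) (hph : ¬ p ∣ h) {V : Type u}
    [AddCommGroup V] [Module (ZMod p) V] [Finite V] (hcard : Nat.card V = p ^ (2 * n))
    (f : V →+ (V →+ ZMod p)) (halt : ∀ a, f a a = 0) (hnd : ∀ a, (∀ b, f a b = 0) → a = 0)
    (σ : AddMonoid.End V) (hinv : ∀ a b, f (σ a) (σ b) = f a b) (hσ : ∀ a, σ^[h] a = a)
    (hfree : ∀ i : ℕ, ¬ h ∣ i → ∀ a, σ^[i] a = a → a = 0) :
    (p : ZMod h) ^ n = 1 ∨ (p : ZMod h) ^ n = -1 := by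
  have hp : p.Prime := Fact.out
  let g : V →+ (V →ₗ[ZMod p] ZMod p) :=
    AddMonoidHom.mk' (fun a => AddMonoidHom.toZModLinearMap p (f a)) fun a b =>
      LinearMap.ext fun c => by simp [AddMonoidHom.coe_toZModLinearMap]
  let B : LinearMap.BilinForm (ZMod p) V := AddMonoidHom.toZModLinearMap p g
  have hB : ∀ a b : V, B a b = f a b := fun a b => rfl
  let x : Module.End (ZMod p) V := AddMonoidHom.toZModLinearMap p σ
  have hxpow : ∀ (i : ℕ) (a : V), (x ^ i) a = σ^[i] a := fun i a => by
    rw [Module.End.pow_apply]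
    rfl
  have halt' : ∀ a, B a a = 0 := fun a => halt a
  have hrefl : B.IsRefl := LinearMap.IsAlt.isRefl halt'
  obtain ⟨n', hn', hpm⟩ := symplectic_cyclic h3 hph (2 * n) V B x (by
      have h1 := Module.natCard_eq_pow_finrank (K := ZMod p) (V := V)
      rw [hcard, Nat.card_zmod] at h1
      exact (Nat.pow_right_injective hp.two_le h1).symm)
    ⟨fun a ha => hnd a ha, fun a ha => hnd a fun b => hrefl _ _ (ha b)⟩ halt' hinv
    (LinearMap.ext fun a => (hxpow h a).trans (hσ a))
    (fun i hi a ha => hfree i hi a ((hxpow i a).symm.trans ha))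
  obtain rfl : n' = n := by omega
  exact hpm

/-- The multiplicative form of `symplectic_cyclic`. -/
theorem symplectic_group {p h n : ℕ} [Fact p.Prime] (h3 : 3 ≤ h) (hph : ¬ p ∣ h) {Q : Type u}
    [CommGroup Q] [Finite Q] (hQ : ∀ a : Q, a ^ p = 1) (hcard : Nat.card Q = p ^ (2 * n))
    (pair : Q →* (Q →* Multiplicative (ZMod p))) (halt : ∀ a, pair a a = 1)
    (hnd : ∀ a, (∀ b, pair a b = 1) → a = 1) (σ : MulAut Q)
    (hinv : ∀ a b, pair (σ a) (σ b) = pair a b) (hσ : σ ^ h = 1)
    (hfree : ∀ i : ℕ, ¬ h ∣ i → ∀ a, (σ ^ i) a = a → a = 1) :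
    (p : ZMod h) ^ n = 1 ∨ (p : ZMod h) ^ n = -1 := by
  let s : AddMonoid.End (Additive Q) := MonoidHom.toAdditive σ.toMonoidHom
  let f : Additive Q →+ (Additive Q →+ ZMod p) := AddMonoidHom.mk'
    (fun a => AddMonoidHom.mk' (fun b => (pair a.toMul b.toMul).toAdd)
      (fun b c => by simp [toMul_add])) (fun a b => by
      ext c
      simp [toMul_add])
  have hs : ∀ (i : ℕ) (a : Additive Q), (s^[i] a).toMul = (σ ^ i) a.toMul := by
    intro i
    induction i with
    | zero => intro a; rfl
    | succ i ih =>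
      intro a
      rw [Function.iterate_succ_apply', pow_succ', MulAut.mul_apply, ← ih]
      rfl
  letI : Module (ZMod p) (Additive Q) :=
    AddCommGroup.zmodModule fun a => Additive.toMul.injective (hQ a.toMul)
  refine symplectic_additive h3 hph (V := Additive Q)
    ((Nat.card_congr Additive.toMul).trans hcard) f
    (fun a => (congrArg Multiplicative.toAdd (halt a.toMul)).trans toAdd_one)
    (fun a ha => Additive.toMul.injective (hnd _ fun b => Multiplicative.toAdd.injective
      ((ha (Additive.ofMul b)).trans toAdd_one.symm))) s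
    (fun a b => congrArg Multiplicative.toAdd (hinv _ _))
    (fun a => Additive.toMul.injective (by rw [hs, hσ]; rfl))
    (fun i hi a ha => Additive.toMul.injective (hfree i hi a.toMul (by rw [← hs, ha])))

/-- Let P be an extraspecial p-group of order p^(2n+1) and H a cyclic group of order h prime to p acting on P (inside a common finite group: H normalizes P) so that C_P(x) = Z(P) for every non-identity x ∈ H. Then h divides p^n + 1 or h divides p^n − 1. -/
theorem result {G : Type*} [Group G] [Finite G] {p : ℕ} [Fact p.Prime] (P H : Subgroup G) (hP : Cfsg.IsExtraspecial p ↥P) (n : ℕ) (hn : Nat.card P = p ^ (2 * n + 1)) (hH : IsCyclic H) (hcop : (Nat.card H).Coprime p) (hHP : H ≤ Subgroup.normalizer (P : Set G)) (hfix : ∀ x ∈ H, x ≠ 1 → P ⊓ Subgroup.centralizer {x} = (Subgroup.center ↥P).map P.subtype) : Nat.card H ∣ p ^ n + 1 ∨ Nat.card H ∣ p ^ n - 1 := by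
  classical
  open Cfsg.Agent.Lib in
  have hp : p.Prime := Fact.out
  set h := Nat.card H with hh
  have hpp1 : p ^ n ≥ 1 := Nat.one_le_pow _ _ hp.pos
  have hph : ¬ p ∣ h := fun hd => hp.not_dvd_one (hcop.symm.gcd_eq_one ▸ Nat.dvd_gcd dvd_rfl hd)
  -- small orders
  by_cases h3 : h < 3
  · have hpos : 0 < h := Nat.card_pos
    rcases (show h = 1 ∨ h = 2 by omega) with e | e
    · rw [e]; exact Or.inl (one_dvd _)
    · rw [e]; refine Or.inl ?_
      have hodd : p % 2 = 1 := by
        rcases hp.eq_two_or_odd with h2 | h2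
        · exact absurd (by rw [h2, e]) hph
        · exact h2
      rw [Nat.dvd_iff_mod_eq_zero, Nat.add_mod, Nat.pow_mod, hodd, one_pow]; norm_num
  push Not at h3
  have hE := Cfsg.Agent.Lib.ExtraStruct.extraLike_of_isExtraspecial hP
  set N := Subgroup.center P with hN
  let φ : H →* MulAut P := Cfsg.Agent.Lib.Coprime.conjAut hHP
  obtain ⟨⟨g, hg⟩, hgen⟩ := hH.exists_generator
  have hog : orderOf (⟨g, hg⟩ : H) = h := orderOf_eq_card_of_forall_mem_zpowers hgen
  have hg1 : g ≠ 1 := fun e => by
    have h1 : (⟨g, hg⟩ : H) = 1 := Subtype.ext e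
    rw [h1, orderOf_one] at hog
    omega
  -- the module
  have hqcomm : ∀ a b : P ⧸ N, a * b = b * a := fun a b => by
      obtain ⟨a, rfl⟩ := QuotientGroup.mk_surjective a
      obtain ⟨b, rfl⟩ := QuotientGroup.mk_surjective b
      rw [← QuotientGroup.mk_mul, ← QuotientGroup.mk_mul, QuotientGroup.eq]
      have h1 : (a * b)⁻¹ * (b * a) = ⁅b⁻¹, a⁻¹⁆ := by simp only [commutatorElement_def]; group
      rw [h1]
      exact hE.comm_mem _ _
  letI : CommGroup (P ⧸ N) := { (inferInstance : Group (P ⧸ N)) with mul_comm := hqcomm }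
  have hqpow : ∀ a : P ⧸ N, a ^ p = 1 := fun a => by
    obtain ⟨a, rfl⟩ := QuotientGroup.mk_surjective a
    rw [← QuotientGroup.mk_pow, QuotientGroup.eq_one_iff]
    exact hE.pow_mem a
  -- the form
  let e : N ≃* Multiplicative (ZMod p) := mulEquivOfPrimeCardEq (p := p) hE.card_center (by simp)
  let F : P → P →* Multiplicative (ZMod p) := fun a => MonoidHom.mk'
    (fun b => e ⟨⁅a, b⁆, hE.comm_mem a b⟩) (fun b c => by
      rw [← map_mul]
      exact congrArg e (Subtype.ext
        (Cfsg.Agent.Lib.Extraspecial.commutator_mul_right (hE.comm_mem a c))))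
  have hFker : ∀ a, N ≤ (F a).ker := fun a b hb => by
    rw [MonoidHom.mem_ker]
    show e _ = 1
    rw [map_eq_one_iff e e.injective, Subgroup.mk_eq_one, commutatorElement_eq_one_iff_mul_comm]
    exact Subgroup.mem_center_iff.mp hb a
  let F1 : P →* (P ⧸ N →* Multiplicative (ZMod p)) := MonoidHom.mk'
    (fun a => QuotientGroup.lift N (F a) (hFker a)) (fun a b => by
      refine MonoidHom.ext fun c => ?_
      obtain ⟨c, rfl⟩ := QuotientGroup.mk_surjective c
      show e ⟨⁅a * b, c⁆, _⟩ = e ⟨⁅a, c⁆, _⟩ * e ⟨⁅b, c⁆, _⟩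
      rw [← map_mul]
      exact congrArg e (Subtype.ext
        (Cfsg.Agent.Lib.Extraspecial.commutator_mul_left (hE.comm_mem b c))))
  let F2 : P ⧸ N →* (P ⧸ N →* Multiplicative (ZMod p)) := QuotientGroup.lift N F1 (fun a ha => by
    rw [MonoidHom.mem_ker]
    refine MonoidHom.ext fun c => ?_
    obtain ⟨c, rfl⟩ := QuotientGroup.mk_surjective c
    show e ⟨⁅a, c⁆, _⟩ = 1
    rw [map_eq_one_iff e e.injective, Subgroup.mk_eq_one, commutatorElement_eq_one_iff_mul_comm]
    exact (Subgroup.mem_center_iff.mp ha c).symm)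
  have hBzero : ∀ a b : P, F2 (a : P ⧸ N) (b : P ⧸ N) = 1 ↔ ⁅a, b⁆ = 1 := fun a b => by
    show e ⟨⁅a, b⁆, _⟩ = 1 ↔ _
    rw [map_eq_one_iff e e.injective, Subgroup.mk_eq_one]
  have halt : ∀ a, F2 a a = 1 := fun a => by
    obtain ⟨a, rfl⟩ := QuotientGroup.mk_surjective a
    exact (hBzero a a).mpr (commutatorElement_self a)
  have hnd : ∀ a, (∀ b, F2 a b = 1) → a = 1 := fun a ha => by
    obtain ⟨a, rfl⟩ := QuotientGroup.mk_surjective a
    rw [QuotientGroup.eq_one_iff, hN, Subgroup.mem_center_iff]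
    intro b
    exact (commutatorElement_eq_one_iff_mul_comm.mp ((hBzero a b).mp (ha _))).symm
  let ψ : H →* MulAut (P ⧸ N) := (Cfsg.Agent.Lib.PGroupAut.autQuotient N).comp φ
  have hcent : ∀ z ∈ N, g * (z : G) * g⁻¹ = z := fun z hz => by
    have h1 : (z : G) ∈ (Subgroup.center P).map P.subtype := ⟨z, hz, rfl⟩
    rw [← hfix g hg hg1] at h1
    rw [← Subgroup.mem_centralizer_singleton_iff.mp h1.2, mul_inv_cancel_right]
  have hinv : ∀ a b, F2 (ψ ⟨g, hg⟩ a) (ψ ⟨g, hg⟩ b) = F2 a b := fun a b => by
    obtain ⟨a', rfl⟩ := QuotientGroup.mk_surjective a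
    obtain ⟨b', rfl⟩ := QuotientGroup.mk_surjective b
    show e ⟨⁅φ ⟨g, hg⟩ a', φ ⟨g, hg⟩ b'⁆, _⟩ = e ⟨⁅a', b'⁆, _⟩
    refine congrArg e (Subtype.ext (Subtype.ext ?_))
    show ⁅g * (a' : G) * g⁻¹, g * (b' : G) * g⁻¹⁆ = ⁅(a' : G), (b' : G)⁆
    rw [show ⁅g * (a' : G) * g⁻¹, g * (b' : G) * g⁻¹⁆ = g * ((⁅a', b'⁆ : P) : G) * g⁻¹ by
      simp only [commutatorElement_def, Subgroup.coe_mul, Subgroup.coe_inv]; group,
      hcent _ (hE.comm_mem _ _)]
    rfl
  have hσh : ψ ⟨g, hg⟩ ^ h = 1 := by rw [← map_pow, ← hog, pow_orderOf_eq_one, map_one]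
  have hfree : ∀ i : ℕ, ¬ h ∣ i → ∀ a, (ψ ⟨g, hg⟩ ^ i) a = a → a = 1 := by
    intro i hi a ha
    obtain ⟨a', rfl⟩ := QuotientGroup.mk_surjective a
    rw [← map_pow] at ha
    simp only [ψ, MonoidHom.comp_apply, Cfsg.Agent.Lib.PGroupAut.autQuotient_mk] at ha
    rw [eq_comm, QuotientGroup.eq] at ha
    rw [QuotientGroup.eq_one_iff]
    set z := a'⁻¹ * φ (⟨g, hg⟩ ^ i) a' with hz
    set c : G := g ^ i with hc
    have hcz : c * (z : G) = (z : G) * c := by
      have h1 : Commute g (z : G) := mul_inv_eq_iff_eq_mul.mp (hcent z ha)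
      exact (h1.pow_left i).eq
    have hstep : c * (a' : G) * c⁻¹ = (a' : G) * z := by
      have h1 : φ (⟨g, hg⟩ ^ i) a' = a' * z := by rw [hz, mul_inv_cancel_left]
      exact congrArg Subtype.val h1
    have hiter : ∀ k : ℕ, c ^ k * (a' : G) * (c ^ k)⁻¹ = (a' : G) * (z : G) ^ k := by
      intro k
      induction k with
      | zero => simp
      | succ k ih =>
        calc c ^ (k + 1) * (a' : G) * (c ^ (k + 1))⁻¹
            = c * (c ^ k * (a' : G) * (c ^ k)⁻¹) * c⁻¹ := by rw [pow_succ']; group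
          _ = (c * (a' : G) * c⁻¹) * (c * (z : G) ^ k * c⁻¹) := by rw [ih]; group
          _ = (a' : G) * (z : G) * (z : G) ^ k := by
              rw [hstep, ((show Commute c (z : G) from hcz).pow_right k).eq, mul_inv_cancel_right]
          _ = _ := by rw [mul_assoc, ← pow_succ']
    have hgh : g ^ h = 1 := by
      have h1 := pow_orderOf_eq_one (⟨g, hg⟩ : H)
      rw [hog] at h1
      exact congrArg Subtype.val h1
    have hzh : (z : G) ^ h = 1 := by
      have h1 := hiter h
      rw [hc, ← pow_mul, mul_comm, pow_mul, hgh, one_pow, one_mul, inv_one, mul_one] at h1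
      exact mul_left_cancel (h1.symm.trans (mul_one _).symm)
    have hz1 : z = 1 := by
      by_contra hne
      have h1 := Cfsg.Agent.Lib.ExtraStruct.orderOf_eq_of_mem_center hE ha hne
      have h2 : orderOf z ∣ h := orderOf_dvd_of_pow_eq_one (Subtype.ext hzh)
      exact hph (h1 ▸ h2)
    have hfixed : (a' : G) ∈ P ⊓ Subgroup.centralizer {c} := by
      refine ⟨a'.2, Subgroup.mem_centralizer_singleton_iff.mpr ?_⟩
      rw [hz1, Subgroup.coe_one, mul_one] at hstep
      exact (mul_inv_eq_iff_eq_mul.mp hstep).symm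
    rw [hfix c (pow_mem hg i) (fun e => hi ?_)] at hfixed
    · obtain ⟨w, hw, hwa⟩ := hfixed
      exact (Subtype.ext hwa : w = a') ▸ hw
    · rw [← hog]
      exact orderOf_dvd_of_pow_eq_one (Subtype.ext e)
  have hcardV : Nat.card (P ⧸ N) = p ^ (2 * n) := by
    have h1 := N.card_eq_card_quotient_mul_card_subgroup
    rw [hn, hE.card_center, pow_succ] at h1
    exact (Nat.eq_of_mul_eq_mul_right hp.pos h1).symm
  rcases symplectic_group h3 hph hqpow hcardV F2 halt hnd (ψ ⟨g, hg⟩) hinv hσh hfree with hh1 | hh1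
  · refine Or.inr ((ZMod.natCast_eq_zero_iff _ _).mp ?_)
    rw [Nat.cast_sub hpp1]; push_cast; rw [hh1, sub_self]
  · refine Or.inl ((ZMod.natCast_eq_zero_iff _ _).mp ?_)
    push_cast; rw [hh1, neg_add_cancel]

end Cfsg.Agent.S3767
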