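import Cfsg.Statements.S3768
import Mathlib
import Cfsg.Agent.Lib.Frobenius.Basic
import Cfsg.Agent.Lib.Frobenius.Kernel

set_option autoImplicit false
open Cfsg

namespace Cfsg.Agent.S3768

open scoped Pointwise

/-- Conjugation commutator with a fixed-point-free element maps an invariant subgroup onto itself. -/
theorem exists_preimage {G : Type*} [Group G] [Finite G] {S : Subgroup G} {h : G}
    (hS : ∀ x ∈ S, h * x * h⁻¹ ∈ S) (hf : S ⊓ Subgroup.centralizer {h} = ⊥) {y : G} (hy : y ∈ S) :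
    ∃ x ∈ S, x⁻¹ * (h * x * h⁻¹) = y := by
  let φ : S → S := fun x => ⟨(x : G)⁻¹ * (h * x * h⁻¹), mul_mem (inv_mem x.2) (hS x x.2)⟩
  have hinj : Function.Injective φ := by
    intro a b hab
    have hab' : (a : G)⁻¹ * (h * a * h⁻¹) = (b : G)⁻¹ * (h * b * h⁻¹) := congrArg Subtype.val hab
    have hc : (b : G) * (a : G)⁻¹ ∈ S ⊓ Subgroup.centralizer {h} := by
      refine Subgroup.mem_inf.mpr ⟨mul_mem b.2 (inv_mem a.2), ?_⟩
      rw [Subgroup.mem_centralizer_singleton_iff]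
      calc (b : G) * (a : G)⁻¹ * h = (b : G) * ((a : G)⁻¹ * (h * a * h⁻¹)) * (h * (a : G)⁻¹) := by group
        _ = (b : G) * ((b : G)⁻¹ * (h * b * h⁻¹)) * (h * (a : G)⁻¹) := by rw [hab']
        _ = h * ((b : G) * (a : G)⁻¹) := by group
    rw [hf, Subgroup.mem_bot, mul_inv_eq_one] at hc
    exact Subtype.ext hc.symm
  obtain ⟨x, hx⟩ := (Finite.injective_iff_surjective.mp hinj) ⟨y, hy⟩
  exact ⟨x, x.2, congrArg Subtype.val hx⟩

/-- Let G be a finite Frobenius group with Frobenius complement R and Frobenius kernel K (the identity together with the elements in no conjugate of R), and let N be a normal subgroup of G not containing K. Then G/N is a Frobenius group with Frobenius complement RN/N whose Frobenius kernel is the image of K. -/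
theorem result {G : Type*} [Group G] [Finite G] (R : Subgroup G) (hR : Cfsg.IsFrobeniusComplement R) (N : Subgroup G) [N.Normal] (hKN : ¬ Cfsg.frobeniusKernel R ⊆ N) : Cfsg.IsFrobeniusComplement (R.map (QuotientGroup.mk' N)) ∧ Cfsg.frobeniusKernel (R.map (QuotientGroup.mk' N)) = QuotientGroup.mk' N '' Cfsg.frobeniusKernel R := by
  classical
  obtain ⟨K, hKset, hKn, hc⟩ := Cfsg.Agent.Lib.Frobenius.exists_kernel hR
  have hdisj : K ⊓ R = ⊥ := disjoint_iff.mp hc.disjoint
  have hfpf := Cfsg.Agent.Lib.Frobenius.fpf_of_isFrobeniusComplement hdisj hR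
  have hKconj : ∀ h : G, ∀ x ∈ K, h * x * h⁻¹ ∈ K := fun h x hx => hKn.conj_mem x hx h
  rw [← hKset] at hKN
  have hKN' : ¬ K ≤ N := hKN
  -- `N` lies in the kernel
  have hNK : N ≤ K := by
    intro x hx
    by_contra hxK
    have hx' : x ∉ Cfsg.frobeniusKernel R := fun h => hxK (by rw [← SetLike.mem_coe, hKset]; exact h)
    have hx1 : x ≠ 1 := fun e => hx' (Or.inl e)
    obtain ⟨g, hg⟩ : ∃ g : G, x ∈ MulAut.conj g • R := by
      by_contra h
      push Not at h
      exact hx' (Or.inr h)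
    rw [Cfsg.Agent.Lib.Frobenius.mem_conj_smul_iff] at hg
    have hhN : g⁻¹ * x * g ∈ N := by simpa using (inferInstance : N.Normal).conj_mem x hx g⁻¹
    have hh1 : g⁻¹ * x * g ≠ 1 := fun e => hx1 (by
      calc x = g * (g⁻¹ * x * g) * g⁻¹ := by group
        _ = 1 := by rw [e]; group)
    refine hKN' fun y hy => ?_
    obtain ⟨z, hz, rfl⟩ := exists_preimage (hKconj _) (hfpf _ hg hh1) hy
    rw [← mul_assoc, ← mul_assoc]
    exact mul_mem (by simpa using (inferInstance : N.Normal).conj_mem _ hhN z⁻¹) (inv_mem hhN)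
  set π := QuotientGroup.mk' N with hπ
  have hπs : Function.Surjective π := QuotientGroup.mk'_surjective N
  haveI : (K.map π).Normal := hKn.map π hπs
  have hmemK : ∀ x : G, π x ∈ K.map π → x ∈ K := by
    rintro x ⟨k, hk, hkx⟩
    have : k⁻¹ * x ∈ N := QuotientGroup.eq.mp hkx
    have h2 := mul_mem hk (hNK this)
    rwa [mul_inv_cancel_left] at h2
  have hdisj' : K.map π ⊓ R.map π = ⊥ := by
    rw [eq_bot_iff]
    rintro _ ⟨hK', ⟨r, hr, rfl⟩⟩
    have h1 : r ∈ K ⊓ R := ⟨hmemK r hK', hr⟩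
    rw [hdisj, Subgroup.mem_bot] at h1
    rw [Subgroup.mem_bot, h1, map_one]
  have hc' : Subgroup.IsComplement' (K.map π) (R.map π) := by
    refine Subgroup.isComplement'_of_disjoint_and_mul_eq_univ (disjoint_iff.mpr hdisj') ?_
    refine Set.eq_univ_of_forall fun y => ?_
    obtain ⟨x, rfl⟩ := hπs y
    obtain ⟨⟨⟨k, hk⟩, ⟨r, hr⟩⟩, hkr⟩ := hc.2 x
    exact ⟨π k, ⟨k, hk, rfl⟩, π r, ⟨r, hr, rfl⟩, by simp only at hkr ⊢; rw [← map_mul, hkr]⟩
  have hKne : K.map π ≠ ⊥ := by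
    rw [Ne, Subgroup.map_eq_bot_iff, QuotientGroup.ker_mk']
    exact hKN'
  have hRne : R.map π ≠ ⊥ := by
    rw [Ne, Subgroup.map_eq_bot_iff, QuotientGroup.ker_mk']
    intro h
    exact hR.1 (le_bot_iff.mp (hdisj ▸ le_inf (h.trans hNK) le_rfl))
  have hcomp : Cfsg.IsFrobeniusComplement (R.map π) := by
    refine Cfsg.Agent.Lib.Frobenius.isFrobeniusComplement_of_fpf hc' hKne hRne ?_
    rintro _ ⟨h, hh, rfl⟩ h1
    have hh1 : h ≠ 1 := fun e => h1 (by rw [e, map_one])
    rw [eq_bot_iff]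
    rintro _ ⟨⟨k, hk, rfl⟩, hcent⟩
    rw [Subgroup.mem_bot, ← MonoidHom.mem_ker, QuotientGroup.ker_mk']
    have hcent' : π k * π h = π h * π k := Subgroup.mem_centralizer_singleton_iff.mp hcent
    rw [← map_mul, ← map_mul] at hcent'
    have hn : k⁻¹ * (h * k * h⁻¹) ∈ N := by
      have h2 : (k * h)⁻¹ * (h * k) ∈ N := QuotientGroup.eq.mp hcent'
      have h3 := (inferInstance : N.Normal).conj_mem _ h2 h
      simpa [mul_assoc] using h3
    obtain ⟨n, hn', hn2⟩ := exists_preimage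
      (fun x hx => (inferInstance : N.Normal).conj_mem x hx h)
      (le_bot_iff.mp ((inf_le_inf_right _ hNK).trans (hfpf h hh hh1).le)) hn
    have h3 : k * n⁻¹ ∈ K ⊓ Subgroup.centralizer {h} := by
      refine Subgroup.mem_inf.mpr ⟨mul_mem hk (inv_mem (hNK hn')), ?_⟩
      rw [Subgroup.mem_centralizer_singleton_iff]
      calc k * n⁻¹ * h = k * (n⁻¹ * (h * n * h⁻¹)) * (h * n⁻¹) := by group
        _ = k * (k⁻¹ * (h * k * h⁻¹)) * (h * n⁻¹) := by rw [hn2]
        _ = h * (k * n⁻¹) := by group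
    rw [hfpf h hh hh1, Subgroup.mem_bot, mul_inv_eq_one] at h3
    exact h3 ▸ hn'
  refine ⟨hcomp, ?_⟩
  rw [← hKset]
  show Cfsg.frobeniusKernel (R.map π) = π '' (K : Set G)
  rw [← Subgroup.coe_map]
  refine (Set.eq_of_subset_of_ncard_le ?_ ?_ (Set.toFinite _)).symm
  · intro y hy
    refine or_iff_not_imp_left.mpr fun hy1 g hg => hy1 ?_
    rw [Cfsg.Agent.Lib.Frobenius.mem_conj_smul_iff] at hg
    have h2 : g⁻¹ * y * g ∈ K.map π := by
      simpa using (inferInstance : (K.map π).Normal).conj_mem y hy g⁻¹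
    have h3 : g⁻¹ * y * g ∈ K.map π ⊓ R.map π := ⟨h2, hg⟩
    rw [hdisj', Subgroup.mem_bot] at h3
    calc y = g * (g⁻¹ * y * g) * g⁻¹ := by group
      _ = 1 := by rw [h3]; group
  · rw [← Nat.card_coe_set_eq, ← Nat.card_coe_set_eq,
      Cfsg.Agent.Lib.Frobenius.card_frobeniusKernel hcomp, hc'.index_eq_card]
    exact le_rfl

end Cfsg.Agent.S3768
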