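import Cfsg.Statements.S3769
import Mathlib
import Cfsg.Agent.Lib.HallHigmanOdd.Fitting
import Cfsg.Agent.Lib.Coprime.Sylow
import Cfsg.Agent.Lib.Components.BalanceComponents

set_option autoImplicit false
open Cfsg

namespace Cfsg.Agent.S3769

/-- Let G and V be subgroups of a finite group with G solvable of odd order normalizing V, V an elementary abelian ℓ-group for a prime ℓ not dividing the order of G, and suppose G has a normal Hall subgroup K with a complement R of prime order. If C_V(R) = 1, then [R, K] centralizes V. -/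
theorem result {X : Type*} [Group X] [Finite X] (G : Subgroup X) (hsolv : Group.IsSolvable G) (hodd : Odd (Nat.card G)) (V : Subgroup X) {ℓ : ℕ} (hℓ : ℓ.Prime) (hV : Cfsg.IsElementaryAbelian ℓ V) (hℓG : ¬ ℓ ∣ Nat.card G) (hGV : G ≤ Subgroup.normalizer (V : Set X)) (K R : Subgroup X) (hKG : K ≤ G) (hKn : G ≤ Subgroup.normalizer (K : Set X)) (hHall : (Nat.card K).Coprime (K.relIndex G)) (hRG : R ≤ G) (hR : (Nat.card R).Prime) (hKR : K ⊓ R = ⊥) (hKRG : K ⊔ R = G) (hCV : V ⊓ Subgroup.centralizer (R : Set X) = ⊥) : ⁅R, K⁆ ≤ Subgroup.centralizer (V : Set X) := by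
  classical
  open scoped commutatorElement in
  haveI := Fact.mk hℓ
  haveI := Fact.mk hR
  set r := Nat.card R with hr
  obtain ⟨⟨τ, hτR⟩, hgen⟩ := (isCyclic_of_prime_card (p := r) rfl : IsCyclic R).exists_generator
  have hRτ : R = Subgroup.zpowers τ := by
    refine le_antisymm (fun x hx => ?_) (Subgroup.zpowers_le.mpr hτR)
    obtain ⟨k, hk⟩ := Subgroup.mem_zpowers_iff.mp (hgen ⟨x, hx⟩)
    exact Subgroup.mem_zpowers_iff.mpr ⟨k, congrArg Subtype.val hk⟩
  have hτr : τ ^ r = 1 := congrArg Subtype.val (pow_card_eq_one' (x := (⟨τ, hτR⟩ : R)))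
  have hr2 : r ≠ 2 := fun h => by
    have := hodd.of_dvd_nat (Subgroup.card_dvd_of_le hRG)
    rw [← hr, h] at this
    exact absurd this (by decide)
  have hRK : R ≤ Subgroup.normalizer (K : Set X) := hRG.trans hKn
  have hrel : K.relIndex G = r := by
    haveI : (K.subgroupOf G).Normal := Subgroup.normal_subgroupOf_of_le_normalizer hKn
    rw [Subgroup.relIndex, ← Subgroup.relIndex_top_right,
      show (⊤ : Subgroup G) = K.subgroupOf G ⊔ R.subgroupOf G by
        rw [← Subgroup.subgroupOf_sup hKG hRG, hKRG, Subgroup.subgroupOf_self],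
      Subgroup.relIndex_sup_left, Subgroup.relIndex_subgroupOf hRG, ← Subgroup.inf_relIndex_right,
      hKR, Subgroup.relIndex_bot_left]
  rw [hrel] at hHall
  have hcopRK : (Nat.card R).Coprime (Nat.card K) := hHall.symm
  have hKsolv : Group.IsSolvable K := by
    haveI := hsolv
    exact Group.isSolvable_of_isSolvable_injective (Subgroup.inclusion_injective hKG)
  haveI := hV.1
  have hVp : IsPGroup ℓ V := fun e => ⟨1, by rw [pow_one]; exact Subtype.ext (hV.2 e e.2)⟩
  haveI := hVp.isNilpotent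
  have hVsolv : Group.IsSolvable V := inferInstance
  have hKC : K ≤ Subgroup.normalizer ((Subgroup.centralizer (V : Set X)) : Set X) :=
    (hKG.trans hGV).trans (Cfsg.Agent.Lib.Components.normalizer_le_normalizer_centralizer V)
  have hCτ : V ⊓ Subgroup.centralizer {τ} = ⊥ := by
    rw [← hCV, hRτ, Subgroup.zpowers_eq_closure, Subgroup.centralizer_closure]
  set C := Subgroup.centralizer (V : Set X) with hC
  -- the elements of `K` whose commutators with `R` centralize `V`
  let S : Subgroup K :=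
    { carrier := {x | ∀ a ∈ R, ⁅(x : X), a⁆ ∈ C}
      one_mem' := fun a _ => by simp [commutatorElement_one_left]
      mul_mem' := fun {x y} hx hy a ha => by
        rw [Subgroup.coe_mul, show ⁅(x : X) * y, a⁆ = (x : X) * ⁅(y : X), a⁆ * (x : X)⁻¹ * ⁅(x : X), a⁆ by
          simp only [commutatorElement_def]; group]
        exact mul_mem ((Subgroup.mem_normalizer_iff.mp (hKC x.2) _).mp (hy a ha)) (hx a ha)
      inv_mem' := fun {x} hx a ha => by
        rw [Subgroup.coe_inv, show ⁅(x : X)⁻¹, a⁆ = (x : X)⁻¹ * ⁅(x : X), a⁆⁻¹ * (x : X)⁻¹⁻¹ by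
          simp only [commutatorElement_def]; group]
        exact (Subgroup.mem_normalizer_iff.mp (hKC (inv_mem x.2)) _).mp (inv_mem (hx a ha)) }
  have hS : S = ⊤ := by
    refine Cfsg.Agent.Lib.Fitting.eq_top_of_sylow_le fun q hq => ?_
    haveI := Fact.mk hq
    obtain ⟨Q, hQ⟩ := Cfsg.Agent.Lib.Coprime.exists_invariant_sylow (p := q) hRK hcopRK (Or.inr hKsolv)
    refine ⟨Q, fun x hx a ha => ?_⟩
    by_cases hqK : q ∣ Nat.card K
    · set Q' := (Q : Subgroup K).map K.subtype with hQ'
      have hq2 : q ≠ 2 := fun h => by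
        have := hodd.of_dvd_nat (dvd_trans hqK (Subgroup.card_dvd_of_le hKG))
        rw [h] at this
        exact absurd this (by decide)
      have hqr : q ≠ r := fun h =>
        hq.ne_one (Nat.eq_one_of_dvd_coprimes hHall hqK (dvd_of_eq h))
      have hQK : Q' ≤ K := Subgroup.map_subtype_le _
      have hle : Q' ⊔ Subgroup.zpowers τ ≤ G := sup_le (hQK.trans hKG) (hRτ ▸ hRG)
      have hcop : (Nat.card ↥(Q' ⊔ Subgroup.zpowers τ)).Coprime (Nat.card V) := by
        obtain ⟨k, hk⟩ := hVp.exists_card_eq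
        rw [hk]
        exact Nat.Coprime.coprime_dvd_left (Subgroup.card_dvd_of_le hle)
          (Nat.Coprime.pow_right k (hℓ.coprime_iff_not_dvd.mpr hℓG).symm)
      have key := Cfsg.Agent.Lib.HallHigmanOdd.commutator_le_centralizer (P := V) hq2 hR hr2 hqr
        (Q.2.map K.subtype) hτr (hQ hτR) ((hQK.trans hKG).trans hGV) (hGV (hRG hτR)) hVsolv hcop hCτ
      exact key (Subgroup.commutator_mem_commutator ⟨x, hx, rfl⟩ (hRτ ▸ ha))
    · have hQbot : (Q : Subgroup K) = ⊥ := by
        by_contra hne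
        exact hqK ((Q.2.card_eq_or_dvd.resolve_left
          (fun h => hne (Subgroup.eq_bot_of_card_eq _ h))).trans (Subgroup.card_subgroup_dvd_card _))
      rw [hQbot, Subgroup.mem_bot] at hx
      rw [hx, Subgroup.coe_one, commutatorElement_one_left]
      exact one_mem _
  rw [Subgroup.commutator_comm, Subgroup.commutator_le]
  intro k hk a ha
  exact (hS ▸ Subgroup.mem_top (⟨k, hk⟩ : K) : (⟨k, hk⟩ : K) ∈ S) a ha

end Cfsg.Agent.S3769
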