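import Cfsg.Statements.S3770
import Mathlib
import Cfsg.Agent.Lib.HallHigmanOdd.Main
import Cfsg.Agent.Lib.Frobenius.KernelNilpotent
import Cfsg.Agent.Lib.Frobenius.Kernel

set_option autoImplicit false
set_option linter.style.haveILetI false
open Cfsg

namespace Cfsg.Agent.S3770

open Module Subgroup
open scoped commutatorElement
open Cfsg.Agent.Lib

/-- A module of prime dimension `r` for `K⟨τ⟩`, `τ` of period `r` and fixed-point-free on the nilpotent
image of `K`: the image of `K` is commutative. -/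
theorem image_commutative {p r : ℕ} [Fact p.Prime] {G : Type*} [Group G] [Finite G] {W : Type*}
    [AddCommGroup W] [Module (ZMod p) W] [Finite W] (ρ : G →* Module.End (ZMod p) W)
    (K : Subgroup G) [K.Normal] (τ : G) (hτ : τ ^ r = 1) (hr : r.Prime)
    (htop : K ⊔ zpowers τ = ⊤) (hdim : finrank (ZMod p) W = r)
    (hirr : ∀ U : Submodule (ZMod p) W, (∀ g : G, ∀ u ∈ U, ρ g u ∈ U) → U = ⊥ ∨ U = ⊤)
    (hnil : Group.IsNilpotent K) (hfpf : ∀ k ∈ K, ρ (τ * k * τ⁻¹) = ρ k → ρ k = 1) :
    ∀ a ∈ K, ∀ b ∈ K, ρ a * ρ b = ρ b * ρ a := by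
  classical
  haveI : Finite (Submodule (ZMod p) W) := Finite.of_injective _ SetLike.coe_injective
  haveI : Module.Finite (ZMod p) W := Module.Finite.of_finite
  haveI : Nontrivial W := Module.nontrivial_of_finrank_pos (R := ZMod p) (hdim ▸ hr.pos)
  have hinvmul : ∀ (g : G) (w : W), ρ g⁻¹ (ρ g w) = w := fun g w => by
    rw [← Module.End.mul_apply, ← map_mul, inv_mul_cancel, map_one, Module.End.one_apply]
  have hinjρ : ∀ g : G, Function.Injective (ρ g) := fun g x y h => by
    rw [← hinvmul g x, h, hinvmul g y]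
  obtain ⟨T, hT, hTmin⟩ := Set.Finite.exists_minimal
    (s := {U : Submodule (ZMod p) W | U ≠ ⊥ ∧ ∀ k ∈ K, ∀ u ∈ U, ρ k u ∈ U}) (Set.toFinite _)
    ⟨⊤, top_ne_bot, fun _ _ _ _ => Submodule.mem_top⟩
  obtain ⟨hT0, hTK⟩ := hT
  set Ti : ℕ → Submodule (ZMod p) W := fun i => T.map (ρ (τ ^ i)) with hTi
  have hconjK : ∀ (g : G) (k : G), k ∈ K → g⁻¹ * k * g ∈ K := fun g k hk => by
    simpa using (inferInstance : K.Normal).conj_mem k hk g⁻¹
  have hTiK : ∀ i, ∀ k ∈ K, ∀ u ∈ Ti i, ρ k u ∈ Ti i := by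
    rintro i k hk _ ⟨u, hu, rfl⟩
    refine ⟨ρ ((τ ^ i)⁻¹ * k * τ ^ i) u, hTK _ (hconjK _ k hk) u hu, ?_⟩
    rw [← Module.End.mul_apply, ← Module.End.mul_apply, ← map_mul, ← map_mul]
    congr 2
    group
  have hTimin : ∀ i, ∀ U : Submodule (ZMod p) W, U ≤ Ti i → (∀ k ∈ K, ∀ u ∈ U, ρ k u ∈ U) →
      U = ⊥ ∨ U = Ti i := by
    intro i U hU hUK
    by_cases hU0 : U = ⊥
    · exact Or.inl hU0
    refine Or.inr (le_antisymm hU ?_)
    have hU' : T ≤ U.map (ρ (τ ^ i)⁻¹) := by
      refine hTmin (y := U.map (ρ (τ ^ i)⁻¹)) ⟨?_, ?_⟩ ?_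
      · intro e
        refine hU0 (Submodule.map_injective_of_injective (hinjρ (τ ^ i)⁻¹) ?_)
        rw [e, Submodule.map_bot]
      · rintro k hk _ ⟨u, hu, rfl⟩
        refine ⟨ρ (τ ^ i * k * (τ ^ i)⁻¹) u, hUK _ ((inferInstance : K.Normal).conj_mem k hk _) u hu, ?_⟩
        rw [← Module.End.mul_apply, ← Module.End.mul_apply, ← map_mul, ← map_mul]
        congr 2
        group
      · rintro _ ⟨u, hu, rfl⟩
        obtain ⟨t, ht, rfl⟩ := hU hu
        rw [hinvmul]
        exact ht
    rintro _ ⟨t, ht, rfl⟩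
    obtain ⟨u, hu, hut⟩ := hU' ht
    rw [← hut, ← Module.End.mul_apply, ← map_mul, mul_inv_cancel, map_one, Module.End.one_apply]
    exact hu
  have hTidim : ∀ i, finrank (ZMod p) (Ti i) = finrank (ZMod p) T := fun i =>
    (Submodule.equivMapOfInjective _ (hinjρ _) T).finrank_eq.symm
  set S : ℕ → Submodule (ZMod p) W := fun j => Nat.rec ⊥ (fun i S => S ⊔ Ti i) j with hS
  have hSsucc : ∀ j, S (j + 1) = S j ⊔ Ti j := fun j => rfl
  have hSK : ∀ j, ∀ k ∈ K, ∀ u ∈ S j, ρ k u ∈ S j := by
    intro j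
    induction j with
    | zero =>
      intro k _ u hu
      have hu0 : u = 0 := (Submodule.mem_bot _).mp hu
      rw [hu0, map_zero]
      exact zero_mem _
    | succ j ih =>
      intro k hk u hu
      rw [hSsucc] at hu ⊢
      obtain ⟨a, ha, b, hb, rfl⟩ := Submodule.mem_sup.mp hu
      rw [map_add]
      exact Submodule.add_mem_sup (ih k hk a ha) (hTiK j k hk b hb)
  have hSdvd : ∀ j, finrank (ZMod p) T ∣ finrank (ZMod p) (S j) := by
    intro j
    induction j with
    | zero => exact ⟨0, by simp [hS]⟩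
    | succ j ih =>
      rw [hSsucc]
      rcases hTimin j (S j ⊓ Ti j) inf_le_right
        (fun k hk u hu => ⟨hSK j k hk u hu.1, hTiK j k hk u hu.2⟩) with h | h
      · have h1 := Submodule.finrank_sup_add_finrank_inf_eq (S j) (Ti j)
        rw [h, finrank_bot, add_zero, hTidim] at h1
        rw [h1]
        exact dvd_add ih dvd_rfl
      · rw [sup_eq_left.mpr (inf_eq_right.mp h)]
        exact ih
  have hTle : ∀ i j, i < j → Ti i ≤ S j := by
    intro i j
    induction j with
    | zero => intro h; omega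
    | succ j ih =>
      intro h
      rw [hSsucc]
      rcases Nat.lt_succ_iff_lt_or_eq.mp h with h | h
      · exact (ih h).trans le_sup_left
      · exact h ▸ le_sup_right
  have hStop : S r = ⊤ := by
    refine (hirr (S r) ?_).resolve_left fun e => hT0 ?_
    · have hτS : ∀ j, j ≤ r → ∀ u ∈ S j, ρ τ u ∈ S r := by
        intro j
        induction j with
        | zero =>
          intro _ u hu
          have hu0 : u = 0 := (Submodule.mem_bot _).mp hu
          rw [hu0, map_zero]
          exact zero_mem _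
        | succ j ih =>
          intro hj u hu
          rw [hSsucc] at hu
          obtain ⟨a, ha, _, ⟨t, ht, rfl⟩, rfl⟩ := Submodule.mem_sup.mp hu
          rw [map_add]
          refine add_mem (ih (by omega) a ha) ?_
          rw [← Module.End.mul_apply, ← map_mul, ← pow_succ']
          rcases Nat.lt_or_eq_of_le hj with h | h
          · exact hTle _ _ h ⟨t, ht, rfl⟩
          · rw [h, hτ, ← pow_zero τ]
            exact hTle 0 r hr.pos ⟨t, ht, rfl⟩
      let H : Submonoid G :=
        { carrier := {g | ∀ u ∈ S r, ρ g u ∈ S r}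
          one_mem' := fun u hu => by rw [map_one]; exact hu
          mul_mem' := fun {a b} ha hb u hu => by
            rw [map_mul, Module.End.mul_apply]; exact ha _ (hb u hu) }
      have hle : Submonoid.closure ((K : Set G) ∪ {τ}) ≤ H :=
        Submonoid.closure_le.mpr (Set.union_subset (fun k hk => hSK r k hk)
          (Set.singleton_subset_iff.mpr (hτS r le_rfl)))
      intro g
      refine hle ?_
      have h1 : g ∈ Subgroup.closure ((K : Set G) ∪ {τ}) := by
        rw [Subgroup.closure_union, Subgroup.closure_eq, ← Subgroup.zpowers_eq_closure, htop]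
        exact Subgroup.mem_top g
      rwa [← Subgroup.mem_toSubmonoid, Subgroup.closure_toSubmonoid_of_finite] at h1
    · refine le_bot_iff.mp (le_trans ?_ ((hTle 0 r hr.pos).trans e.le))
      intro t ht
      exact ⟨t, ht, by rw [pow_zero, map_one]; rfl⟩
  have htr : finrank (ZMod p) T ∣ r := by
    have := hSdvd r
    rwa [hStop, finrank_top, hdim] at this
  rcases (Nat.dvd_prime hr).mp htr with h1 | h1
  · -- all constituents one-dimensional
    intro a ha b hb
    rw [← sub_eq_zero, ← LinearMap.ker_eq_top, ← top_le_iff, ← hStop]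
    have hTiker : ∀ i, Ti i ≤ LinearMap.ker (ρ a * ρ b - ρ b * ρ a) := by
      intro i w hw
      obtain ⟨v, hv⟩ := finrank_eq_one_iff'.mp ((hTidim i).trans h1)
      obtain ⟨c, hc⟩ := hv.2 ⟨w, hw⟩
      have hca := hv.2 ⟨ρ a v, hTiK i a ha v v.2⟩
      have hcb := hv.2 ⟨ρ b v, hTiK i b hb v v.2⟩
      obtain ⟨ca, hca⟩ := hca
      obtain ⟨cb, hcb⟩ := hcb
      have hca' : ρ a v = ca • (v : W) := (congrArg Subtype.val hca).symm
      have hcb' : ρ b v = cb • (v : W) := (congrArg Subtype.val hcb).symm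
      have hw' : w = c • (v : W) := (congrArg Subtype.val hc).symm
      rw [LinearMap.mem_ker, LinearMap.sub_apply, Module.End.mul_apply, Module.End.mul_apply, hw']
      simp only [map_smul, hca', hcb', smul_smul]
      rw [sub_eq_zero, mul_assoc, mul_assoc, mul_comm cb ca]
    intro w hw
    have : ∀ j, S j ≤ LinearMap.ker (ρ a * ρ b - ρ b * ρ a) := by
      intro j
      induction j with
      | zero => exact bot_le
      | succ j ih => rw [hSsucc]; exact sup_le ih (hTiker j)
    exact this r hw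
  · -- irreducible
    have hTtop : T = ⊤ := Submodule.eq_top_of_finrank_eq (h1.trans hdim.symm)
    have hKirr : ∀ U : Submodule (ZMod p) W, (∀ k ∈ K, ∀ u ∈ U, ρ k u ∈ U) → U = ⊥ ∨ U = ⊤ := by
      intro U hU
      by_cases h0 : U = ⊥
      · exact Or.inl h0
      · exact Or.inr (top_le_iff.mp ((hTtop.symm.trans_le (hTmin (y := U) ⟨h0, hU⟩
          (hTtop.symm ▸ le_top)))))
    intro a ha b hb
    by_cases htriv : ∀ k ∈ K, ρ k = 1
    · rw [htriv a ha, htriv b hb]
    set E := Subalgebra.centralizer (ZMod p) ((fun g => ρ g) '' (K : Set G)) with hE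
    have hEcomm : ∀ e ∈ E, ∀ k ∈ K, ρ k * e = e * ρ k := fun e he k hk =>
      Subalgebra.mem_centralizer_iff (ZMod p) |>.mp he _ ⟨k, hk, rfl⟩
    have hinj : ∀ e ∈ E, e ≠ 0 → Function.Injective e := by
      intro e he he0
      rw [← LinearMap.ker_eq_bot]
      rcases hKirr (LinearMap.ker e) (fun k hk u hu => by
        rw [LinearMap.mem_ker] at hu ⊢
        rw [← Module.End.mul_apply, ← hEcomm e he k hk, Module.End.mul_apply, hu, map_zero]) with h | h
      · exact h
      · exact absurd (LinearMap.ker_eq_top.mp h) he0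
    haveI : Finite (Module.End (ZMod p) W) := Finite.of_injective _ DFunLike.coe_injective
    haveI : Nontrivial E := ⟨⟨0, 1, fun e => by
      obtain ⟨w, hw⟩ := exists_ne (0 : W)
      exact hw (by simpa using (LinearMap.congr_fun (congrArg Subtype.val e) w).symm)⟩⟩
    haveI : NoZeroDivisors E := ⟨fun {f g} e => by
      by_contra hfg
      push Not at hfg
      apply hfg.2
      refine Subtype.ext (LinearMap.ext fun w => hinj f f.2 (fun e' => hfg.1 (Subtype.ext e')) ?_)
      simpa using LinearMap.congr_fun (congrArg Subtype.val e) w⟩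
    haveI : IsDomain E := NoZeroDivisors.to_isDomain E
    letI : Field E := (Finite.isDomain_to_isField E).toField
    letI : Module E W := Module.compHom W E.val.toRingHom
    haveI : IsScalarTower (ZMod p) E W := ⟨fun c e w => rfl⟩
    haveI : Module.Finite E W := Module.Finite.of_restrictScalars_finite (ZMod p) E W
    haveI : Module.Finite (ZMod p) E := Module.Finite.of_finite
    have hmul := finrank_mul_finrank (ZMod p) E W
    rw [hdim] at hmul
    -- a non-central element of `E`
    obtain ⟨k, hk, hk1, hkc⟩ : ∃ k ∈ K, ρ k ≠ 1 ∧ ρ k ∈ E := by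
      set σ := ρ.toHomUnits with hσ
      haveI := hnil
      haveI : Group.IsNilpotent (K.map σ) :=
        Group.nilpotent_of_surjective _ (σ.subgroupMap_surjective K)
      haveI : Nontrivial (K.map σ) := (Subgroup.nontrivial_iff_ne_bot _).mpr fun e => htriv fun k hk => by
        have h2 : σ k ∈ K.map σ := ⟨k, hk, rfl⟩
        rw [e, Subgroup.mem_bot] at h2
        exact congrArg Units.val h2
      obtain ⟨⟨z, hz⟩, hz1⟩ := (Subgroup.bot_or_exists_ne_one
        (Subgroup.center (K.map σ))).resolve_left (Group.IsNilpotent.center_ne_bot (K.map σ))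
      obtain ⟨k, hk, rfl⟩ := hz
      refine ⟨k, hk, fun e => hz1.2 (Subtype.ext (Units.ext e)), ?_⟩
      rw [hE, Subalgebra.mem_centralizer_iff]
      rintro _ ⟨y, hy, rfl⟩
      exact congrArg Units.val (congrArg Subtype.val
        (Subgroup.mem_center_iff.mp hz1.1 ⟨σ y, y, hy, rfl⟩))
    have hEdim : finrank (ZMod p) E ≠ 1 := by
      intro h
      apply hk1
      refine hfpf k hk ?_
      obtain ⟨c, hc⟩ := (finrank_eq_one_iff_of_nonzero' (1 : E) one_ne_zero).mp h ⟨ρ k, hkc⟩
      have hc' : ρ k = c • (1 : Module.End (ZMod p) W) := (congrArg Subtype.val hc).symm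
      rw [map_mul, map_mul, hc', mul_smul_comm, smul_mul_assoc, mul_one, ← map_mul, mul_inv_cancel,
        map_one]
    have hE1 : finrank E W = 1 := by
      rcases (Nat.dvd_prime hr).mp (Dvd.intro _ hmul) with h | h
      · exact absurd h hEdim
      · rw [h] at hmul
        exact (Nat.mul_eq_left hr.ne_zero).mp hmul
    obtain ⟨v, -, hv⟩ := finrank_eq_one_iff'.mp hE1
    have hscal : ∀ x ∈ K, ∃ e : E, ρ x = (e : Module.End (ZMod p) W) := by
      intro x hx
      obtain ⟨e, he⟩ := hv (ρ x v)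
      refine ⟨e, LinearMap.ext fun w => ?_⟩
      obtain ⟨f, rfl⟩ := hv w
      show ρ x ((f : Module.End (ZMod p) W) v) = (e : Module.End (ZMod p) W) ((f : Module.End (ZMod p) W) v)
      rw [← Module.End.mul_apply, hEcomm f f.2 x hx, Module.End.mul_apply, ← he]
      show ((f * e : E) : Module.End (ZMod p) W) v = ((e * f : E) : Module.End (ZMod p) W) v
      rw [mul_comm]
    obtain ⟨e, he⟩ := hscal a ha
    obtain ⟨f, hf⟩ := hscal b hb
    rw [he, hf]
    exact congrArg Subtype.val (mul_comm e f)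

/-- The additive form of the irreducible case. -/
theorem image_commutative_additive {p r : ℕ} [Fact p.Prime] {G : Type*} [Group G] [Finite G]
    {W : Type*} [AddCommGroup W] [Module (ZMod p) W] [Finite W] (ψ : G →* AddMonoid.End W)
    (K : Subgroup G) [K.Normal] (τ : G) (hτ : τ ^ r = 1) (hr : r.Prime)
    (htop : K ⊔ zpowers τ = ⊤) (hcard : Nat.card W = p ^ r)
    (hirr : ∀ U : AddSubgroup W, (∀ g : G, ∀ u ∈ U, ψ g u ∈ U) → U = ⊥ ∨ U = ⊤)
    (hnil : Group.IsNilpotent K) (hfpf : ∀ k ∈ K, ψ (τ * k * τ⁻¹) = ψ k → ψ k = 1) :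
    ∀ a ∈ K, ∀ b ∈ K, ψ a * ψ b = ψ b * ψ a := by
  let ρ : G →* Module.End (ZMod p) W :=
    { toFun := fun g => AddMonoidHom.toZModLinearMap p (ψ g)
      map_one' := LinearMap.ext fun w => DFunLike.congr_fun (map_one ψ) w
      map_mul' := fun g h => LinearMap.ext fun w => DFunLike.congr_fun (map_mul ψ g h) w }
  have hext : ∀ g h : G, ρ g = ρ h → ψ g = ψ h := fun g h e =>
    AddMonoidHom.ext fun w => LinearMap.congr_fun e w
  have h := image_commutative ρ K τ hτ hr htop (by
      have h1 := Module.natCard_eq_pow_finrank (K := ZMod p) (V := W)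
      rw [hcard, Nat.card_zmod] at h1
      exact (Nat.pow_right_injective (Fact.out : p.Prime).two_le h1).symm)
    (fun U hU => (hirr U.toAddSubgroup hU).imp (fun e => Submodule.toAddSubgroup_injective e)
      (fun e => Submodule.toAddSubgroup_injective e)) hnil
    (fun k hk e => LinearMap.ext fun w => DFunLike.congr_fun (hfpf k hk (hext _ _ e)) w)
  exact fun a ha b hb => AddMonoidHom.ext fun w => LinearMap.congr_fun (h a ha b hb) w

universe u

/-- The derived subgroup of the kernel acts trivially if `C_V(R)` has order at most `ℓ`. -/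
theorem commutator_acts_trivially {G : Type*} [Group G] [Finite G] {ℓ : ℕ} (hℓ : ℓ.Prime)
    (hℓG : ¬ ℓ ∣ Nat.card G) (K : Subgroup G) [K.Normal] (hnil : Group.IsNilpotent K) (τ : G)
    {r : ℕ} (hr : r.Prime) (hτ : orderOf τ = r) (htop : K ⊔ zpowers τ = ⊤)
    (hdisj : K ⊓ zpowers τ = ⊥)
    (hfpf : ∀ e ∈ zpowers τ, e ≠ 1 → ∀ u ∈ K, e * u = u * e → u = 1) :
    ∀ (n : ℕ) (V : Type u) [CommGroup V] [Finite V] (φ : G →* MulAut V), Nat.card V = n →
      (∀ v : V, v ^ ℓ = 1) → Nat.card (Wielandt.fixedSub φ (zpowers τ)) ≤ ℓ →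
      ∀ a ∈ K, ∀ b ∈ K, φ ⁅a, b⁆ = 1 := by
  intro n
  induction n using Nat.strong_induction_on with
  | _ n ih =>
  intro V _ _ φ hn hexp hfix
  haveI := Fact.mk hℓ
  have hVp : IsPGroup ℓ V := fun v => ⟨1, by rw [pow_one]; exact hexp v⟩
  have hcop : (Nat.card G).Coprime (Nat.card V) := by
    obtain ⟨k, hk⟩ := hVp.exists_card_eq
    rw [hk]
    exact Nat.Coprime.pow_right k (hℓ.coprime_iff_not_dvd.mpr hℓG).symm
  by_cases hred : ∃ N : Subgroup V, (∀ g, ∀ s ∈ N, φ g s ∈ N) ∧ N ≠ ⊥ ∧ N ≠ ⊤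
  · obtain ⟨N, hN, hN1, hN2⟩ := hred
    have hlt1 : Nat.card N < Nat.card V :=
      lt_of_le_of_ne N.card_le_card_group fun h => hN2 (eq_top_of_card_eq N h)
    have hlt2 : Nat.card (V ⧸ N) < Nat.card V := by
      rw [card_eq_card_quotient_mul_card_subgroup N]
      exact lt_mul_of_one_lt_right Nat.card_pos (N.one_lt_card_iff_ne_bot.mpr hN1)
    have hcopN := hcop.coprime_dvd_right (card_subgroup_dvd_card N)
    have h1 := ih _ (hn ▸ hlt1) N (Wielandt.restrictAct φ N hN) rfl
      (fun v => Subtype.ext (hexp v)) (by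
        refine le_trans (Nat.card_le_card_of_injective
          (fun x => (⟨(x.1 : V), fun g hg => congrArg Subtype.val (x.2 g hg)⟩ :
            Wielandt.fixedSub φ (zpowers τ))) fun x y h => ?_) hfix
        exact Subtype.ext (Subtype.ext (congrArg (fun z : Wielandt.fixedSub φ (zpowers τ) => (z : V)) h)))
    have h2 := ih _ (hn ▸ hlt2) (V ⧸ N) (Wielandt.quotientAct φ N hN) rfl
      (fun v => by
        obtain ⟨v, rfl⟩ := QuotientGroup.mk_surjective v
        rw [← QuotientGroup.mk_pow, hexp]; rfl) (by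
        rw [← Wielandt.range_mk_comp_fixedSub φ N hN hcopN inferInstance]
        exact (Nat.card_le_card_of_surjective _ (MonoidHom.rangeRestrict_surjective _)).trans hfix)
    intro a ha b hb
    refine HallHigmanOdd.map_eq_one_of_stabilizes φ hcop N (fun v hv => ?_) fun x => ?_
    · exact congrArg Subtype.val (DFunLike.congr_fun (h1 a ha b hb) (⟨v, hv⟩ : N))
    · have h : ((φ ⁅a, b⁆ x : V) : V ⧸ N) = x := DFunLike.congr_fun (h2 a ha b hb) (x : V ⧸ N)
      exact QuotientGroup.eq.mp h.symm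
  push Not at hred
  have hirr : ∀ N : Subgroup V, (∀ g, ∀ s ∈ N, φ g s ∈ N) → N = ⊥ ∨ N = ⊤ := fun N hN => by
    by_cases h : N = ⊥
    · exact Or.inl h
    · exact Or.inr (hred N hN h)
  rcases hirr (Wielandt.fixedSub φ K) (fun g s hs k hk => by
    have h1 : g⁻¹ * k * g ∈ K := by simpa using (inferInstance : K.Normal).conj_mem k hk g⁻¹
    calc φ k (φ g s) = φ (g * (g⁻¹ * k * g)) s := by
          rw [← MulAut.mul_apply, ← map_mul]; congr 2; group
      _ = φ g s := by rw [map_mul, MulAut.mul_apply, hs _ h1]) with hKfix | hKfix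
  swap
  · intro a ha b hb
    have htriv : ∀ k ∈ K, φ k = 1 := fun k hk =>
      MulEquiv.ext fun v => (hKfix ▸ mem_top v : v ∈ Wielandt.fixedSub φ K) k hk
    rw [commutatorElement_def, map_mul, map_mul, map_mul, map_inv, map_inv, htriv a ha, htriv b hb]
    simp
  rcases subsingleton_or_nontrivial V with hV | hV
  · exact fun a _ b _ => MulEquiv.ext fun x => Subsingleton.elim _ _
  have hAcard : Nat.card (zpowers τ) = r := by rw [Nat.card_zpowers, hτ]
  have hW := Wielandt.card_fixedSub_frobenius hdisj htop hfpf inferInstance hcop φ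
  have htopfix : Wielandt.fixedSub φ ⊤ = ⊥ := by
    rw [eq_bot_iff, ← hKfix]
    exact fun x hx g _ => hx g (mem_top g)
  rw [htopfix, hKfix, card_bot, one_pow, one_mul, mul_one, hAcard] at hW
  have hfixcard : Nat.card (Wielandt.fixedSub φ (zpowers τ)) = ℓ := by
    obtain ⟨k, hk⟩ := (hVp.to_subgroup (Wielandt.fixedSub φ (zpowers τ))).exists_card_eq
    rw [hk] at hfix hW ⊢
    have hk1 : k ≤ 1 := (Nat.pow_le_pow_iff_right hℓ.one_lt).mp (hfix.trans (pow_one ℓ).ge)
    rcases (show k = 0 ∨ k = 1 by omega) with rfl | rfl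
    · rw [pow_zero, one_pow] at hW
      exact absurd hW (Finite.one_lt_card (α := V)).ne'
    · exact pow_one ℓ
  rw [hfixcard] at hW
  letI : Module (ZMod ℓ) (Additive V) :=
    AddCommGroup.zmodModule fun a => Additive.toMul.injective (hexp a.toMul)
  let ψ : G →* AddMonoid.End (Additive V) :=
    { toFun := fun g => MonoidHom.toAdditive (φ g).toMonoidHom
      map_one' := AddMonoidHom.ext fun x => congrArg Additive.ofMul
        (show φ 1 x.toMul = x.toMul by rw [map_one]; rfl)
      map_mul' := fun g h => AddMonoidHom.ext fun x => congrArg Additive.ofMul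
        (show φ (g * h) x.toMul = φ g (φ h x.toMul) by rw [map_mul]; rfl) }
  have hψ : ∀ g h : G, ψ g = ψ h → φ g = φ h := fun g h e => MulEquiv.ext fun v =>
    Additive.ofMul.injective (DFunLike.congr_fun e (Additive.ofMul v))
  have h := image_commutative_additive (p := ℓ) ψ K τ (hτ ▸ pow_orderOf_eq_one τ) hr htop
    ((Nat.card_congr Additive.toMul).trans hW) (fun U hU =>
      (hirr U.toSubgroup' fun g s hs => hU g _ hs).imp
        (fun e => AddSubgroup.toSubgroup'.injective (e.trans rfl))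
        (fun e => AddSubgroup.toSubgroup'.injective (e.trans rfl))) hnil
    (fun k hk e => by
      have hk' : k⁻¹ * (τ * k * τ⁻¹) ∈ K ⊓ φ.ker := by
        refine Subgroup.mem_inf.mpr ⟨mul_mem (inv_mem hk) ((inferInstance : K.Normal).conj_mem k hk τ), ?_⟩
        rw [MonoidHom.mem_ker, map_mul, hψ _ _ e, map_inv, inv_mul_cancel]
      set N := K ⊓ φ.ker
      haveI : N.Normal := inferInstance
      let d : N → N := fun x => ⟨(x : G)⁻¹ * (τ * x * τ⁻¹),
        mul_mem (inv_mem x.2) ((inferInstance : N.Normal).conj_mem x x.2 τ)⟩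
      have hd : Function.Injective d := by
        intro x y hxy
        have hxy' : (x : G)⁻¹ * (τ * x * τ⁻¹) = (y : G)⁻¹ * (τ * y * τ⁻¹) := congrArg Subtype.val hxy
        have := hfpf τ (mem_zpowers τ) (fun e1 => hr.ne_one (by rw [← hτ, e1, orderOf_one]))
          ((y : G) * (x : G)⁻¹) (mul_mem y.2.1 (inv_mem x.2.1)) (by
            calc τ * ((y : G) * (x : G)⁻¹) = (y : G) * ((y : G)⁻¹ * (τ * y * τ⁻¹)) * (τ * (x : G)⁻¹) := by group
              _ = (y : G) * ((x : G)⁻¹ * (τ * x * τ⁻¹)) * (τ * (x : G)⁻¹) := by rw [hxy']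
              _ = (y : G) * (x : G)⁻¹ * τ := by group)
        exact Subtype.ext (mul_inv_eq_one.mp this).symm
      obtain ⟨x, hx⟩ := (Finite.injective_iff_surjective.mp hd) ⟨_, hk'⟩
      have hx' : (x : G)⁻¹ * (τ * x * τ⁻¹) = k⁻¹ * (τ * k * τ⁻¹) := congrArg Subtype.val hx
      have := hfpf τ (mem_zpowers τ) (fun e1 => hr.ne_one (by rw [← hτ, e1, orderOf_one]))
        (k * (x : G)⁻¹) (mul_mem hk (inv_mem x.2.1)) (by
          calc τ * (k * (x : G)⁻¹) = k * (k⁻¹ * (τ * k * τ⁻¹)) * (τ * (x : G)⁻¹) := by group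
            _ = k * ((x : G)⁻¹ * (τ * x * τ⁻¹)) * (τ * (x : G)⁻¹) := by rw [hx']
            _ = k * (x : G)⁻¹ * τ := by group)
      have hkx : k = x := mul_inv_eq_one.mp this
      refine AddMonoidHom.ext fun v => congrArg Additive.ofMul ?_
      show φ k v.toMul = v.toMul
      rw [hkx, MonoidHom.mem_ker.mp x.2.2]
      rfl)
  intro a ha b hb
  rw [commutatorElement_def, map_mul, map_mul, map_mul, map_inv, map_inv]
  have hab : φ a * φ b = φ b * φ a := MulEquiv.ext fun v =>
    Additive.ofMul.injective (DFunLike.congr_fun (h a ha b hb) (Additive.ofMul v))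
  rw [hab]
  group

/-- Let G and V be subgroups of a finite group with G a Frobenius group with complement R of prime order and kernel K, G normalizing V, and V an elementary abelian ℓ-group for a prime ℓ not dividing the order of G. If C_V(R) has order ℓ, then the derived subgroup of K centralizes V. -/
theorem result {X : Type*} [Group X] [Finite X] (G : Subgroup X) (V : Subgroup X) {ℓ : ℕ} (hℓ : ℓ.Prime) (hV : Cfsg.IsElementaryAbelian ℓ V) (hℓG : ¬ ℓ ∣ Nat.card G) (hGV : G ≤ Subgroup.normalizer (V : Set X)) (R : Subgroup ↥G) (hR : Cfsg.IsFrobeniusComplement R) (hRp : (Nat.card R).Prime) (hCV : Nat.card ↥(V ⊓ Subgroup.centralizer ((R.map G.subtype : Subgroup X) : Set X)) = ℓ) : ⁅Subgroup.closure (Subtype.val '' Cfsg.frobeniusKernel R), Subgroup.closure (Subtype.val '' Cfsg.frobeniusKernel R)⁆ ≤ Subgroup.centralizer (V : Set X) := by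
  classical
  haveI := hV.1
  haveI := Fact.mk hRp
  obtain ⟨K, hKset, hKn, hc⟩ := Frobenius.exists_kernel hR
  haveI := hKn
  have hnil := Frobenius.isNilpotent_of_eq_kernel hR hKset.symm
  rw [← hKset, show Subgroup.closure (Subtype.val '' (K : Set ↥G)) = K.map G.subtype by
    rw [← Subgroup.closure_eq K, MonoidHom.map_closure, Subgroup.closure_eq K]; rfl]
  obtain ⟨τ, hgen⟩ := (isCyclic_of_prime_card (p := Nat.card R) rfl : IsCyclic R).exists_generator
  have hRτ : R = Subgroup.zpowers (τ : ↥G) := by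
    refine le_antisymm (fun x hx => ?_) (Subgroup.zpowers_le.mpr τ.2)
    obtain ⟨k, hk⟩ := Subgroup.mem_zpowers_iff.mp (hgen ⟨x, hx⟩)
    exact Subgroup.mem_zpowers_iff.mpr ⟨k, congrArg Subtype.val hk⟩
  have hdisj : K ⊓ R = ⊥ := disjoint_iff.mp hc.disjoint
  have hfpf := Frobenius.fpf_of_isFrobeniusComplement hdisj hR
  set φ := Coprime.conjAut hGV with hφ
  letI : CommGroup V := { (inferInstance : Group V) with
    mul_comm := fun a b => Subtype.ext (setLike_mul_comm a.2 b.2) }
  have key := commutator_acts_trivially hℓ hℓG K hnil (τ : ↥G) hRp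
    (by rw [← Nat.card_zpowers, ← hRτ]) (by rw [← hRτ]; exact hc.sup_eq_top) (by rw [← hRτ, hdisj])
    (fun e he he1 u hu h => by
      have hu' : u ∈ K ⊓ Subgroup.centralizer {e} := ⟨hu, mem_centralizer_singleton_iff.mpr h.symm⟩
      rwa [hfpf e (hRτ ▸ he) he1, Subgroup.mem_bot] at hu')
    _ V φ rfl (fun v => Subtype.ext (hV.2 v v.2)) (by
      refine le_trans (Nat.card_le_card_of_injective (fun x => (⟨((x : V) : X), ⟨(x : V).2,
        Subgroup.mem_centralizer_iff.mpr ?_⟩⟩ :
        ↥(V ⊓ Subgroup.centralizer ((R.map G.subtype : Subgroup X) : Set X)))) fun x y h => ?_) hCV.le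
      · rintro _ ⟨g, hg, rfl⟩
        exact mul_inv_eq_iff_eq_mul.mp (congrArg Subtype.val (x.2 g (hRτ ▸ hg)))
      · exact Subtype.ext (Subtype.ext (congrArg
          (fun z : ↥(V ⊓ Subgroup.centralizer ((R.map G.subtype : Subgroup X) : Set X)) => (z : X)) h)))
  rw [Subgroup.commutator_le]
  rintro _ ⟨a, ha, rfl⟩ _ ⟨b, hb, rfl⟩
  rw [Subgroup.mem_centralizer_iff]
  intro v hv
  have h := congrArg Subtype.val (DFunLike.congr_fun (key a ha b hb) (⟨v, hv⟩ : V))
  exact (mul_inv_eq_iff_eq_mul.mp h).symm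

end Cfsg.Agent.S3770
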