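import Cfsg.Statements.S3771
import Mathlib

set_option autoImplicit false
open Cfsg

namespace Cfsg.Agent.S3771

/-- A nontrivial finite `p`-group has a central element of order `p`. -/
theorem exists_central_orderOf {Q : Type*} [Group Q] [Finite Q] {p : ℕ} [Fact p.Prime]
    (hQ : IsPGroup p Q) [Nontrivial Q] : ∃ z ∈ Subgroup.center Q, orderOf z = p := by
  obtain ⟨hnt⟩ : Nonempty (Nontrivial (Subgroup.center Q)) := ⟨hQ.center_nontrivial⟩
  rcases (hQ.to_subgroup (Subgroup.center Q)).card_eq_or_dvd with h | h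
  · exact absurd h Finite.one_lt_card.ne'
  · obtain ⟨z, hz⟩ := exists_prime_orderOf_dvd_card' p h
    exact ⟨z, z.2, by rwa [Subgroup.orderOf_coe]⟩

/-- Let p be a prime and R a finite p-group of p-rank at most 2 (no elementary abelian subgroup of order p³) in which every element has order dividing p. Then R has order at most p³. -/
theorem result {R : Type*} [Group R] [Finite R] {p : ℕ} [Fact p.Prime] (hR : IsPGroup p R) (hrank : Cfsg.PRankLE p 2 R) (hexp : ∀ x : R, x ^ p = 1) : Nat.card R ≤ p ^ 3 := by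
  have hp : p.Prime := Fact.out
  obtain ⟨n, hn⟩ := IsPGroup.iff_card.mp hR
  rcases subsingleton_or_nontrivial R with hss | hnt
  · rw [Nat.card_of_subsingleton (1 : R)]
    exact Nat.one_le_pow _ _ hp.pos
  obtain ⟨z, hz, hzo⟩ := exists_central_orderOf hR
  set Z := Subgroup.zpowers z with hZ
  haveI : Z.Normal := ⟨fun c hc g => by
    rw [Subgroup.mem_center_iff.1 (Subgroup.zpowers_le.2 hz hc) g, mul_inv_cancel_right]
    exact hc⟩
  have hZcard : Nat.card Z = p := by rw [hZ, Nat.card_zpowers, hzo]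
  rcases subsingleton_or_nontrivial (R ⧸ Z) with hss' | hnt'
  · have htop : Z = ⊤ := Subgroup.index_eq_one.1 (by rw [Subgroup.index_eq_card]; exact Nat.card_of_subsingleton 1)
    rw [← Subgroup.card_top (G := R), ← htop, hZcard]
    exact Nat.le_self_pow (by norm_num) p
  obtain ⟨w, hw, hwo⟩ := exists_central_orderOf (hR.to_quotient Z)
  set A := (Subgroup.zpowers w).comap (QuotientGroup.mk' Z) with hA
  obtain ⟨a, ha⟩ := QuotientGroup.mk'_surjective Z w
  have haA : a ∈ A := by
    rw [hA, Subgroup.mem_comap, ha]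
    exact Subgroup.mem_zpowers w
  have hzA : ∀ y ∈ A, ∃ k : ℤ, ∃ c ∈ Z, y = a ^ k * c := by
    intro y hy
    rw [hA, Subgroup.mem_comap] at hy
    obtain ⟨k, hk⟩ := Subgroup.mem_zpowers_iff.1 hy
    refine ⟨k, (a ^ k)⁻¹ * y, ?_, by group⟩
    rw [← QuotientGroup.eq, ← QuotientGroup.mk'_apply, ← QuotientGroup.mk'_apply, map_zpow, ha, hk]
  have hZc : ∀ c ∈ Z, ∀ g : R, c * g = g * c := fun c hc g =>
    (Subgroup.mem_center_iff.1 (Subgroup.zpowers_le.2 hz hc) g).symm
  -- the commutator with `a` is a homomorphism into the central subgroup of order `p`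
  have hmem : ∀ x : R, x * a * x⁻¹ * a⁻¹ ∈ Z := by
    intro x
    rw [← QuotientGroup.eq_one_iff, QuotientGroup.mk_mul, QuotientGroup.mk_mul,
      QuotientGroup.mk_mul, QuotientGroup.mk_inv, QuotientGroup.mk_inv,
      ← QuotientGroup.mk'_apply, ← QuotientGroup.mk'_apply, ha,
      Subgroup.mem_center_iff.1 hw, mul_inv_cancel_right, mul_inv_cancel]
  let f : R →* Z := MonoidHom.mk' (fun x => ⟨x * a * x⁻¹ * a⁻¹, hmem x⟩) (by
    intro x y
    ext
    show x * y * a * (x * y)⁻¹ * a⁻¹ = x * a * x⁻¹ * a⁻¹ * (y * a * y⁻¹ * a⁻¹)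
    have h1 := hZc _ (hmem y) (x * a * x⁻¹ * a⁻¹)
    rw [← h1]
    have h2 := hZc _ (hmem y) x
    calc x * y * a * (x * y)⁻¹ * a⁻¹ = x * (y * a * y⁻¹ * a⁻¹) * (a * x⁻¹ * a⁻¹) := by group
      _ = (y * a * y⁻¹ * a⁻¹) * x * (a * x⁻¹ * a⁻¹) := by rw [h2]
      _ = (y * a * y⁻¹ * a⁻¹) * (x * a * x⁻¹ * a⁻¹) := by group)
  have hAcard : Nat.card A = p ^ 2 := by
    have h1 := Subgroup.card_mul_index A
    have h2 : A.index = (Subgroup.zpowers w).index :=
      Subgroup.index_comap_of_surjective _ (QuotientGroup.mk'_surjective Z)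
    have h3 := Subgroup.card_mul_index (Subgroup.zpowers w)
    rw [Nat.card_zpowers, hwo] at h3
    have h4 := Subgroup.card_eq_card_quotient_mul_card_subgroup Z
    rw [h4, ← h3, hZcard, h2] at h1
    have : 0 < (Subgroup.zpowers w).index := Nat.pos_of_ne_zero Subgroup.index_ne_zero_of_finite
    rw [sq]
    exact Nat.eq_of_mul_eq_mul_right this (h1.trans (by ring))
  have hker : ∀ x ∈ f.ker, x ∈ A := by
    intro x hx
    have hxa : x * a = a * x := by
      have := congrArg Subtype.val hx
      simp only [f, MonoidHom.mk'_apply, OneMemClass.coe_one] at this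
      exact mul_inv_eq_iff_eq_mul.1 (mul_inv_eq_one.1 this)
    -- `A⟨x⟩` is elementary abelian
    have hcomm : IsMulCommutative ↥(A ⊔ Subgroup.zpowers x) := by
      have hle : A ⊔ Subgroup.zpowers x ≤ Subgroup.closure (insert z ({a, x} : Set R)) := by
        refine sup_le (fun y hy => ?_) (Subgroup.zpowers_le.2 (Subgroup.subset_closure (by simp)))
        obtain ⟨k, c, hc, rfl⟩ := hzA y hy
        exact mul_mem (zpow_mem (Subgroup.subset_closure (by simp)) k)
          (Subgroup.zpowers_le.2 (Subgroup.subset_closure (by simp)) hc)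
      have hcl := Subgroup.isMulCommutative_closure (k := (insert z ({a, x} : Set R))) (by
        intro u hu v hv
        simp only [Set.mem_insert_iff, Set.mem_singleton_iff] at hu hv
        have hzc : ∀ g : R, z * g = g * z := fun g => hZc z (Subgroup.mem_zpowers z) g
        rcases hu with rfl | rfl | rfl <;> rcases hv with rfl | rfl | rfl <;>
          first
          | rfl
          | exact hzc _
          | exact (hzc _).symm
          | exact hxa
          | exact hxa.symm)
      exact ⟨⟨fun u v => Subtype.ext (setLike_mul_comm (hle u.2) (hle v.2))⟩⟩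
    have h1 := hrank _ hcomm (fun y _ => hexp y)
    have heq := Subgroup.eq_of_le_of_card_ge (le_sup_left : A ≤ A ⊔ Subgroup.zpowers x)
      (h1.trans hAcard.ge)
    rw [heq]
    exact Subgroup.mem_sup_right (Subgroup.mem_zpowers x)
  have hk1 : Nat.card f.ker ≤ p ^ 2 := hAcard ▸ Subgroup.card_le_of_le hker
  have hk2 : Nat.card f.range ≤ p := hZcard ▸ Subgroup.card_le_card_group f.range
  have := Subgroup.card_mul_index f.ker
  rw [Subgroup.index_ker] at this
  rw [← this, pow_succ]
  exact Nat.mul_le_mul hk1 hk2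

end Cfsg.Agent.S3771
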