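import Cfsg.Statements.S3772
import Mathlib
import Cfsg.Agent.Lib.TwoSquaring.GaussSum
import Cfsg.Agent.Lib.PGroup.Frattini

set_option autoImplicit false
open Cfsg

namespace Cfsg.Agent.S3772

/-- Let G be a finite 2-group whose Frattini subgroup Φ(G) has order 2, with |G : Φ(G)| = 2^d, and let j be the number of elements x of G with x² = 1. Then j = 2^d, or j = 2^d + 2^(d−r) or j = 2^d − 2^(d−r) for some positive integer r with 2r ≤ d. Moreover if d = 2r and j is 2^d + 2^r or 2^d − 2^r, then G is extraspecial. -/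
theorem result {G : Type*} [Group G] [Finite G] (hG : IsPGroup 2 G) (hΦ : Nat.card (frattini G) = 2) (d : ℕ) (hd : (frattini G).index = 2 ^ d) : (Nat.card {x : G // x ^ 2 = 1} = 2 ^ d ∨ ∃ r : ℕ, 1 ≤ r ∧ 2 * r ≤ d ∧ (Nat.card {x : G // x ^ 2 = 1} = 2 ^ d + 2 ^ (d - r) ∨ Nat.card {x : G // x ^ 2 = 1} + 2 ^ (d - r) = 2 ^ d)) ∧ (∀ r : ℕ, d = 2 * r → (Nat.card {x : G // x ^ 2 = 1} = 2 ^ d + 2 ^ r ∨ Nat.card {x : G // x ^ 2 = 1} + 2 ^ r = 2 ^ d) → Cfsg.IsExtraspecial 2 G) := by
  classical
  haveI : Fact (Nat.Prime 2) := ⟨Nat.prime_two⟩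
  haveI := Fintype.ofFinite G
  set E := frattini G with hE
  have huniq : ∀ a ∈ E, ∀ b ∈ E, a ≠ 1 → b ≠ 1 → a = b := by
    intro a ha b hb ha1 hb1
    obtain ⟨y, z, hyz, huniv⟩ := Nat.card_eq_two_iff.mp hΦ
    have hcase : ∀ e : E, e = y ∨ e = z := fun e => by
      have : e ∈ ({y, z} : Set E) := huniv ▸ Set.mem_univ e
      simpa using this
    have hne : (⟨a, ha⟩ : E) ≠ 1 ∧ (⟨b, hb⟩ : E) ≠ 1 :=
      ⟨fun e => ha1 (congrArg Subtype.val e), fun e => hb1 (congrArg Subtype.val e)⟩
    refine congrArg Subtype.val (show (⟨a, ha⟩ : E) = ⟨b, hb⟩ from ?_)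
    rcases hcase 1 with h1 | h1 <;> rcases hcase ⟨a, ha⟩ with h2 | h2 <;>
      rcases hcase ⟨b, hb⟩ with h3 | h3 <;> simp_all
  have hcentral : E ≤ Subgroup.center G := by
    intro e he
    rw [Subgroup.mem_center_iff]
    intro g
    by_cases he1 : e = 1
    · simp [he1]
    · have hn : g * e * g⁻¹ ∈ E := (inferInstance : E.Normal).conj_mem e he g
      have := huniq _ hn e he (by simpa [mul_inv_eq_one] using he1) he1
      exact mul_inv_eq_iff_eq_mul.mp this
  have hsq1 : ∀ e ∈ E, e ^ 2 = 1 := fun e he => by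
    have := pow_card_eq_one' (x := (⟨e, he⟩ : E))
    rw [hΦ] at this
    exact congrArg Subtype.val this
  have hS : Cfsg.Agent.Lib.TwoSquaring.SquaresIn E :=
    ⟨hcentral, hsq1, Cfsg.Agent.Lib.PFrattini.pow_mem_frattini hG,
      fun x y => Cfsg.Agent.Lib.PFrattini.commutator_le_frattini hG
        (Subgroup.commutator_mem_commutator (Subgroup.mem_top x) (Subgroup.mem_top y))⟩
  let φ : E →* ℤˣ := MonoidHom.mk' (fun e => if e = 1 then 1 else -1) (by
    intro a b
    by_cases ha : a = 1
    · simp [ha]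
    by_cases hb : b = 1
    · simp [ha, hb]
    have hab : a = b := Subtype.ext (huniq a a.2 b b.2 (fun e => ha (Subtype.ext e))
      (fun e => hb (Subtype.ext e)))
    subst hab
    have h2 : a * a = 1 := Subtype.ext (by simpa [sq] using hsq1 a a.2)
    simp [ha, h2])
  have hφ : ∀ e : E, φ e = 1 ↔ e = 1 := fun e => by
    by_cases he : e = 1 <;> simp [φ, he]
  have hχ : ∀ x : G, hS.signMap φ x = if x ^ 2 = 1 then 1 else -1 := by
    intro x
    by_cases hx : x ^ 2 = 1
    · rw [if_pos hx]
      have : (⟨x ^ 2, hS.sq_mem x⟩ : E) = 1 := Subtype.ext hx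
      simp [Cfsg.Agent.Lib.TwoSquaring.SquaresIn.signMap, this]
    · rw [if_neg hx]
      have : φ ⟨x ^ 2, hS.sq_mem x⟩ = -1 :=
        (Int.units_eq_one_or _).resolve_left fun e => hx (congrArg Subtype.val ((hφ _).mp e))
      simp [Cfsg.Agent.Lib.TwoSquaring.SquaresIn.signMap, this]
  set h := hS.signQuad φ with hh
  have hrad : h.radical = Subgroup.center G := by
    refine le_antisymm (fun w hw => ?_) (hS.center_le_radical φ)
    rw [Subgroup.mem_center_iff]
    intro u
    have h1 := h.mem_radical.mp hw u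
    rw [hS.polar_signMap, Units.val_eq_one, hφ] at h1
    exact (commutatorElement_eq_one_iff_mul_comm.mp (congrArg Subtype.val h1)).symm
  obtain ⟨m, hm⟩ := IsPGroup.iff_card.mp (hG.to_subgroup (Subgroup.center G))
  have hcard : Nat.card G = 2 ^ (d + 1) := by
    rw [← Subgroup.card_mul_index E, hΦ, hd, pow_succ, mul_comm]
  set j := Nat.card {x : G // x ^ 2 = 1} with hj
  have hsum : ∑ x : G, hS.signMap φ x = 2 * (j : ℤ) - 2 ^ (d + 1) := by
    simp only [hχ]
    rw [Finset.sum_ite, Finset.sum_const, Finset.sum_const]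
    have h1 : (Finset.univ.filter fun x : G => x ^ 2 = 1).card = j := by
      rw [hj, Nat.card_eq_fintype_card, Fintype.card_subtype]
    have h2 := Finset.card_filter_add_card_filter_not (s := (Finset.univ : Finset G))
      (fun x => x ^ 2 = 1)
    rw [Finset.card_univ, ← Nat.card_eq_fintype_card, hcard, h1] at h2
    have h3 : ((j : ℤ) + ((Finset.univ.filter fun x : G => ¬ x ^ 2 = 1).card : ℤ)) = 2 ^ (d + 1) := by
      exact_mod_cast h2
    rw [h1]
    simp only [nsmul_eq_mul, mul_one, mul_neg]
    linarith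
  -- the centre is proper as soon as some square is nontrivial and the sum is nonzero
  have hcases : j = 2 ^ d ∨ ∃ e, 2 * e = d + 1 + m ∧ m < d + 1 ∧ 1 ≤ m ∧
      ((2 * (j : ℤ) - 2 ^ (d + 1)) = 2 ^ e ∨ (2 * (j : ℤ) - 2 ^ (d + 1)) = - 2 ^ e) := by
    rcases h.sq_sum_eq with h0 | ⟨hall, h0⟩
    · left
      rw [pow_eq_zero_iff two_ne_zero, hsum, pow_succ] at h0
      have : (j : ℤ) = 2 ^ d := by linarith
      exact_mod_cast this
    · right
      rw [hsum, hrad, hcard, hm] at h0
      push_cast at h0
      rw [← pow_add] at h0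
      set S := 2 * (j : ℤ) - 2 ^ (d + 1) with hSdef
      have h1 : S.natAbs ^ 2 = 2 ^ (d + 1 + m) := by
        have := congrArg Int.natAbs h0
        simpa [Int.natAbs_pow] using this
      obtain ⟨e, -, he⟩ := (Nat.dvd_prime_pow Nat.prime_two).mp (h1 ▸ dvd_pow_self _ two_ne_zero :
        S.natAbs ∣ 2 ^ (d + 1 + m))
      have he2 : e * 2 = d + 1 + m := by
        rw [he, ← pow_mul] at h1
        exact Nat.pow_right_injective le_rfl h1
      refine ⟨e, by omega, ?_, ?_, ?_⟩
      · by_contra hge
        have hle : Nat.card (Subgroup.center G) ≤ Nat.card G := Subgroup.card_le_card_group _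
        rw [hm, hcard] at hle
        have heq : Subgroup.center G = ⊤ := Subgroup.eq_top_of_le_card _ (by
          rw [hm, hcard]; exact Nat.pow_le_pow_right two_pos (by omega))
        have hbot : E = ⊥ := by
          rw [hE, eq_bot_iff]
          refine Cfsg.Agent.Lib.PFrattini.frattini_le (p := 2) ?_ ?_
          · rw [commutator_def, Subgroup.commutator_le]
            intro x _ y _
            rw [Subgroup.mem_bot, commutatorElement_eq_one_iff_mul_comm]
            exact (Subgroup.mem_center_iff.mp (heq ▸ Subgroup.mem_top x) y).symm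
          · intro x
            rw [Subgroup.mem_bot]
            have hxR : x ∈ h.radical := hrad ▸ heq ▸ Subgroup.mem_top x
            have := hall x hxR
            rw [hχ] at this
            by_contra hx
            rw [if_neg hx] at this
            norm_num at this
        rw [hbot] at hΦ
        simp at hΦ
      · by_contra h0m
        have hle := Subgroup.card_dvd_of_le hcentral
        rw [hm, hΦ, show m = 0 by omega] at hle
        norm_num at hle
      · rcases Int.natAbs_eq S with h2 | h2
        · left; rw [h2, he]; simp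
        · right; rw [h2, he]; simp
  refine ⟨?_, ?_⟩
  · rcases hcases with h1 | ⟨e, he, hmd, hm1, hval⟩
    · exact Or.inl h1
    · refine Or.inr ⟨d - e + 1, by omega, by omega, ?_⟩
      obtain ⟨f, rfl⟩ : ∃ f, e = f + 1 := ⟨e - 1, by omega⟩
      rw [show d - (d - (f + 1) + 1) = f by omega]
      rcases hval with hv | hv
      · left
        have : (j : ℤ) = 2 ^ d + 2 ^ f := by rw [pow_succ, pow_succ] at hv; linarith
        exact_mod_cast this
      · right
        have : (j : ℤ) + 2 ^ f = 2 ^ d := by rw [pow_succ, pow_succ] at hv; linarith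
        exact_mod_cast this
  · intro r hr hval
    rcases hcases with h1 | ⟨e, he, hmd, hm1, hv⟩
    · exfalso
      have := Nat.two_pow_pos r
      omega
    · obtain ⟨f, rfl⟩ : ∃ f, e = f + 1 := ⟨e - 1, by omega⟩
      have hf : (2 : ℤ) ^ f = 2 ^ r := by
        have hp1 : (0 : ℤ) < 2 ^ f := by positivity
        have hp2 : (0 : ℤ) < 2 ^ r := by positivity
        rw [pow_succ, pow_succ] at hv
        rcases hval with hval | hval <;>
          (have hval' := congrArg (Nat.cast : ℕ → ℤ) hval; push_cast at hval') <;>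
          rcases hv with hv | hv <;> linarith
      have hfr : f = r := Nat.pow_right_injective le_rfl
        (by exact_mod_cast hf : (2 : ℕ) ^ f = 2 ^ r)
      have hm_eq : m = 1 := by omega
      have hZE : E = Subgroup.center G :=
        Subgroup.eq_of_le_of_card_ge hcentral (by rw [hm, hm_eq, hΦ, pow_one])
      refine ⟨⟨hG, hZE, ?_⟩, by rw [hm, hm_eq, pow_one]⟩
      rw [← hZE]
      refine Subgroup.eq_of_le_of_card_ge (Cfsg.Agent.Lib.PFrattini.commutator_le_frattini hG) ?_
      rw [hΦ]
      by_contra hlt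
      have h1c : Nat.card (commutator G) = 1 := by
        have := Nat.card_pos (α := commutator G)
        omega
      have habel := (commutator_eq_bot_iff_center_eq_top G).mp (Subgroup.eq_bot_of_card_eq _ h1c)
      rw [habel, Subgroup.card_top, hcard] at hm
      have := Nat.pow_right_injective le_rfl hm
      omega

end Cfsg.Agent.S3772
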