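import Cfsg.Statements.S3774
import Cfsg.Agent.Lib.PPD.Zsigmondy

set_option autoImplicit false
open Cfsg

namespace Cfsg.Agent.S3774

variable {G₀ : Type*} [Group G₀]

/-- The elements with square one, as a subgroup when they are all central. -/
def omegaSub (h : ∀ x : G₀, x ^ 2 = 1 → x ∈ Subgroup.center G₀) : Subgroup G₀ where
  carrier := {x | x ^ 2 = 1}
  one_mem' := one_pow 2
  mul_mem' {x y} hx hy := by
    have hc : Commute x y := (Subgroup.mem_center_iff.1 (h x hx) y).symm
    show (x * y) ^ 2 = 1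
    rw [hc.mul_pow, show x ^ 2 = 1 from hx, show y ^ 2 = 1 from hy, one_mul]
  inv_mem' {x} hx := by
    show x⁻¹ ^ 2 = 1
    rw [inv_pow, show x ^ 2 = 1 from hx, inv_one]

/-- The restriction of automorphisms to the square-one subgroup. -/
def restrictOmega (h : ∀ x : G₀, x ^ 2 = 1 → x ∈ Subgroup.center G₀) :
    MulAut G₀ →* MulAut (omegaSub h) where
  toFun a :=
    { toFun := fun x => ⟨a x, show a x ^ 2 = 1 by rw [← map_pow, show (x : G₀) ^ 2 = 1 from x.2, map_one]⟩
      invFun := fun x => ⟨a.symm x, show a.symm x ^ 2 = 1 by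
        rw [← map_pow, show (x : G₀) ^ 2 = 1 from x.2, map_one]⟩
      left_inv := fun x => Subtype.ext (a.symm_apply_apply x)
      right_inv := fun x => Subtype.ext (a.apply_symm_apply x)
      map_mul' := fun x y => Subtype.ext (map_mul a (x : G₀) y) }
  map_one' := rfl
  map_mul' _ _ := rfl

variable [Finite G₀]

theorem two_pow_mod {r n : ℕ} (hr : r ∣ 2 ^ n - 1)
    (hprim : ∀ k : ℕ, 0 < k → k < n → ¬ r ∣ 2 ^ k - 1) (hn : 0 < n) {a : ℕ}
    (ha : 2 ^ a ≡ 1 [MOD r]) : n ∣ a := by
  have h1 : 2 ^ n ≡ 1 [MOD r] := ((Nat.modEq_iff_dvd' Nat.one_le_two_pow).2 hr).symm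
  have h2 : 2 ^ (a % n) ≡ 1 [MOD r] := by
    have h3 : 2 ^ a ≡ 2 ^ (a % n) [MOD r] := by
      conv_lhs => rw [← Nat.div_add_mod a n, pow_add, pow_mul]
      simpa using (h1.pow (a / n)).mul_right (2 ^ (a % n))
    exact h3.symm.trans ha
  refine Nat.dvd_of_mod_eq_zero (Nat.eq_zero_of_not_pos fun hpos => ?_)
  exact hprim _ hpos (Nat.mod_lt a hn) ((Nat.modEq_iff_dvd' Nat.one_le_two_pow).1 h2.symm)

section

variable {p : ℕ} [hp : Fact p.Prime] (hG : IsPGroup 2 G₀)
  (hc : ∀ x : G₀, x ^ 2 = 1 → x ∈ Subgroup.center G₀)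

theorem modEq_of_fpf (hG : IsPGroup 2 G₀) (x : MulAut G₀) (hx : IsPGroup p (Subgroup.zpowers x))
    (hfix : ∀ w : omegaSub hc, restrictOmega hc x w = w → w = 1) : Nat.card G₀ ≡ 1 [MOD p] := by
  have h := hx.card_modEq_card_fixedPoints G₀
  have hone : MulAction.fixedPoints (Subgroup.zpowers x) G₀ = {1} := by
    refine Set.eq_singleton_iff_unique_mem.2 ⟨fun a => map_one (a : MulAut G₀), fun g hg => ?_⟩
    have hxg : x g = g := hg ⟨x, Subgroup.mem_zpowers x⟩
    by_contra hne
    obtain ⟨k, hk⟩ := IsPGroup.iff_orderOf.1 hG g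
    obtain ⟨j, rfl⟩ : ∃ j, k = j + 1 := ⟨k - 1, by
      rcases Nat.eq_zero_or_pos k with h0 | h0
      · exact absurd (orderOf_eq_one_iff.1 (by rw [hk, h0, pow_zero])) hne
      · omega⟩
    have hw : (g ^ 2 ^ j) ^ 2 = 1 := by rw [← pow_mul, ← pow_succ, ← hk, pow_orderOf_eq_one]
    have h1 := hfix ⟨g ^ 2 ^ j, hw⟩ (Subtype.ext (show x (g ^ 2 ^ j) = g ^ 2 ^ j by rw [map_pow, hxg]))
    have h2 : orderOf g ∣ 2 ^ j := orderOf_dvd_of_pow_eq_one (congrArg Subtype.val h1)
    rw [hk] at h2
    exact absurd (Nat.le_of_dvd (by positivity) h2) (by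
      simp only [not_le]; exact Nat.pow_lt_pow_right (by norm_num) (by omega))
  rw [hone] at h
  simpa using h

theorem modEq_fixed (B : Subgroup (MulAut (omegaSub hc))) (hB : IsPGroup p B) (y : MulAut (omegaSub hc))
    (hy : y ∈ B) : Nat.card (omegaSub hc) ≡ Nat.card {w : omegaSub hc // y w = w} [MOD p] := by
  have h := (hB.to_le (Subgroup.zpowers_le.2 hy)).card_modEq_card_fixedPoints (omegaSub hc)
  refine h.trans (congrArg (· % p) (Nat.card_congr (Equiv.subtypeEquivRight fun w => ⟨?_, ?_⟩)))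
  · intro hw; exact hw ⟨y, Subgroup.mem_zpowers y⟩
  · intro hw a
    obtain ⟨i, hi⟩ := Subgroup.mem_zpowers_iff.1 a.2
    have : y ^ i ∈ MulAction.stabilizer (MulAut (omegaSub hc)) w :=
      Subgroup.zpow_mem _ (show y ∈ MulAction.stabilizer (MulAut (omegaSub hc)) w from hw) i
    rw [hi] at this
    exact this

/-- Facts about the image of a Sylow subgroup acting on the square-one subgroup. -/
theorem orbit_dvd (htrans : ∀ x y : G₀, x ≠ 1 → x ^ 2 = 1 → y ≠ 1 → y ^ 2 = 1 → ∃ a : MulAut G₀, a x = y)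
    (R : Sylow p (MulAut G₀)) {e : ℕ} (he : p ^ e ∣ Nat.card (omegaSub hc) - 1)
    (w : omegaSub hc) (hw : w ≠ 1) :
    p ^ e ∣ Nat.card (MulAction.orbit ((R : Subgroup (MulAut G₀)).map (restrictOmega hc)) w) := by
  classical
  have : Finite (MulAut G₀) := Finite.of_injective (fun a : MulAut G₀ => (a : G₀ → G₀)) DFunLike.coe_injective
  set S := MulAction.stabilizer (MulAut G₀) (w : G₀) with hS
  have hwne : (w : G₀) ≠ 1 := fun h => hw (Subtype.ext h)
  have hidx : S.index = Nat.card (omegaSub hc) - 1 := by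
    rw [hS, MulAction.index_stabilizer]
    have horb : MulAction.orbit (MulAut G₀) (w : G₀) = {x : G₀ | x ^ 2 = 1} \ {1} := by
      ext x
      constructor
      · rintro ⟨a, rfl⟩
        refine ⟨show (a (w : G₀)) ^ 2 = 1 by rw [← map_pow, show (w : G₀) ^ 2 = 1 from w.2, map_one], ?_⟩
        intro h1
        exact hwne (a.injective (h1.trans (map_one a).symm))
      · rintro ⟨hx, hx1⟩
        exact htrans w x hwne w.2 hx1 hx
    rw [horb, Set.ncard_diff_singleton_of_mem (by simp), ← Nat.card_coe_set_eq]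
    rfl
  set B := (R : Subgroup (MulAut G₀)).map (restrictOmega hc) with hB
  have horb : MulAction.orbit B w = (fun x : MulAut G₀ => restrictOmega hc x w) '' (R : Set (MulAut G₀)) := by
    ext v
    constructor
    · rintro ⟨⟨b, x, hx, rfl⟩, rfl⟩
      exact ⟨x, hx, rfl⟩
    · rintro ⟨x, hx, rfl⟩
      exact ⟨⟨_, Subgroup.mem_map_of_mem _ hx⟩, rfl⟩
  have horb2 : MulAction.orbit (R : Subgroup (MulAut G₀)) (w : G₀) =
      Subtype.val '' MulAction.orbit B w := by
    rw [horb]
    ext v
    constructor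
    · rintro ⟨⟨x, hx⟩, rfl⟩
      exact ⟨_, ⟨x, hx, rfl⟩, rfl⟩
    · rintro ⟨_, ⟨x, hx, rfl⟩, rfl⟩
      exact ⟨⟨x, hx⟩, rfl⟩
  rw [Nat.card_coe_set_eq, ← Set.ncard_image_of_injective _ Subtype.val_injective, ← horb2,
    ← MulAction.index_stabilizer]
  set T := MulAction.stabilizer (R : Subgroup (MulAut G₀)) (w : G₀) with hT
  obtain ⟨k, hk⟩ := IsPGroup.iff_card.1 (R.isPGroup'.to_subgroup T)
  obtain ⟨v, hv⟩ := IsPGroup.iff_card.1 R.isPGroup'
  have hTS : Nat.card T ∣ Nat.card S := by
    refine Subgroup.card_dvd_of_injective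
      ({ toFun := fun t => ⟨((t : (R : Subgroup (MulAut G₀))) : MulAut G₀), t.2⟩
         map_one' := rfl, map_mul' := fun _ _ => rfl } : T →* S) ?_
    intro a b hab
    exact Subtype.ext (Subtype.ext (congrArg (fun s : S => (s : MulAut G₀)) hab))
  have hd : p ^ (e + k) ∣ Nat.card (MulAut G₀) := by
    rw [pow_add, ← hk, ← S.index_mul_card, hidx]
    exact mul_dvd_mul he hTS
  have h2 := R.pow_dvd_card_of_pow_dvd_card hd
  rw [← T.index_mul_card, hk, pow_add] at h2
  exact Nat.dvd_of_mul_dvd_mul_right (by positivity [hp.out.pos]) h2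

theorem exists_moved (htrans : ∀ x y : G₀, x ≠ 1 → x ^ 2 = 1 → y ≠ 1 → y ^ 2 = 1 → ∃ a : MulAut G₀, a x = y)
    (R : Sylow p (MulAut G₀)) (he : p ∣ Nat.card (omegaSub hc) - 1)
    (w : omegaSub hc) (hw : w ≠ 1) :
    ∃ y ∈ (R : Subgroup (MulAut G₀)).map (restrictOmega hc), y w ≠ w := by
  by_contra hh
  push Not at hh
  have h1 := orbit_dvd hc htrans R (e := 1) (by rwa [pow_one]) w hw
  have hs : MulAction.orbit ((R : Subgroup (MulAut G₀)).map (restrictOmega hc)) w = {w} := by
    refine Set.eq_singleton_iff_unique_mem.2 ⟨MulAction.mem_orbit_self w, ?_⟩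
    rintro _ ⟨⟨b, hb⟩, rfl⟩
    exact hh b hb
  rw [hs] at h1
  simp at h1
  exact hp.out.one_lt.ne' h1

theorem card_fix_pow (hG : IsPGroup 2 G₀) (y : MulAut (omegaSub hc)) :
    ∃ j, Nat.card {w : omegaSub hc // y w = w} = 2 ^ j := by
  have h : IsPGroup 2 (omegaSub hc) := hG.to_subgroup _
  obtain ⟨j, hj⟩ := IsPGroup.iff_card.1 (h.to_subgroup (y.toMonoidHom.eqLocus (MonoidHom.id _)))
  exact ⟨j, hj ▸ rfl⟩

end


/-- Let G be a nontrivial finite 2-group whose automorphism group permutes the involutions of G transitively. Then every involution of G is central, so that the involutions together with 1 form the subgroup Ω₁(Z(G)), and if this subgroup has order q then |G| is a power of q. -/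
theorem result {G : Type*} [Group G] [Finite G] [Nontrivial G] (hG : IsPGroup 2 G) (htrans : ∀ x y : G, x ≠ 1 → x ^ 2 = 1 → y ≠ 1 → y ^ 2 = 1 → ∃ a : MulAut G, a x = y) : (∀ x : G, x ^ 2 = 1 → x ∈ Subgroup.center G) ∧ ∃ m : ℕ, Nat.card G = Nat.card {z : G // z ^ 2 = 1} ^ m := by
  classical
  have hcen : ∀ x : G, x ^ 2 = 1 → x ∈ Subgroup.center G := by
    intro x hx
    by_cases hx1 : x = 1
    · rw [hx1]; exact one_mem _
    haveI : Nontrivial (Subgroup.center G) := hG.center_nontrivial
    obtain ⟨k, hk0, hk⟩ := (hG.to_subgroup (Subgroup.center G)).nontrivial_iff_card.1 inferInstance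
    obtain ⟨z, hz⟩ := exists_prime_orderOf_dvd_card' (G := Subgroup.center G) 2
      (hk ▸ dvd_pow_self 2 hk0.ne')
    obtain ⟨a, ha⟩ := htrans z x (fun h => by
        rw [← Subgroup.orderOf_coe, h, orderOf_one] at hz; norm_num at hz)
      (by rw [← Subgroup.coe_pow, ← hz, pow_orderOf_eq_one]; rfl) hx1 hx
    rw [← ha, Subgroup.mem_center_iff]
    intro g
    have h := Subgroup.mem_center_iff.1 z.2 (a.symm g)
    have h2 := congrArg a h
    simpa using h2
  refine ⟨hcen, ?_⟩
  have hq : Nat.card {z : G // z ^ 2 = 1} = Nat.card (omegaSub hcen) := rfl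
  obtain ⟨a, ha⟩ := IsPGroup.iff_card.1 hG
  obtain ⟨n, hn⟩ := IsPGroup.iff_card.1 (hG.to_subgroup (omegaSub hcen))
  have hn0 : 0 < n := by
    obtain ⟨z, hz⟩ := exists_prime_orderOf_dvd_card' (G := G) 2 (by
      obtain ⟨k, hk0, hk⟩ := hG.nontrivial_iff_card.1 inferInstance
      exact hk ▸ dvd_pow_self 2 hk0.ne')
    rcases Nat.eq_zero_or_pos n with h0 | h0
    · exfalso
      rw [h0, pow_zero] at hn
      have h1 := (Nat.card_eq_one_iff_unique.1 hn).1.allEq
        (⟨z, by show z ^ 2 = 1; rw [← hz, pow_orderOf_eq_one]⟩ : omegaSub hcen) 1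
      have h2 : z = 1 := congrArg Subtype.val h1
      rw [h2, orderOf_one] at hz; norm_num at hz
    · exact h0
  suffices hdvd : n ∣ a by
    obtain ⟨m, rfl⟩ := hdvd
    exact ⟨m, by rw [hq, hn, ha, pow_mul]⟩
  -- a suitable element acting without fixed points
  have finish : ∀ (p : ℕ) [Fact p.Prime] (R : Sylow p (MulAut G)) (y : MulAut (omegaSub hcen)),
      y ∈ (R : Subgroup (MulAut G)).map (restrictOmega hcen) → (∀ w, y w = w → w = 1) →
        2 ^ a ≡ 1 [MOD p] := by
    intro p _ R y hy hfix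
    obtain ⟨x, hx, rfl⟩ := hy
    rw [← ha]
    exact modEq_of_fpf hcen hG x (R.isPGroup'.to_le (Subgroup.zpowers_le.2 hx)) hfix
  have haveFix : ∀ (p : ℕ) [Fact p.Prime] (R : Sylow p (MulAut G)) (y : MulAut (omegaSub hcen)),
      y ∈ (R : Subgroup (MulAut G)).map (restrictOmega hcen) →
      ∃ j, j ≤ n ∧ Nat.card {w : omegaSub hcen // y w = w} = 2 ^ j ∧ 2 ^ n ≡ 2 ^ j [MOD p] ∧
        (j = 0 → ∀ w, y w = w → w = 1) ∧ (j = n → y = 1) := by
    intro p _ R y hy
    obtain ⟨j, hj⟩ := card_fix_pow hcen hG y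
    refine ⟨j, ?_, hj, hn ▸ hj ▸ modEq_fixed hcen _ (R.isPGroup'.map _) y hy, ?_, ?_⟩
    · have := Nat.card_le_card_of_injective (fun w : {w : omegaSub hcen // y w = w} => w.1)
        Subtype.val_injective
      rw [hj, hn] at this
      exact (Nat.pow_le_pow_iff_right (by norm_num)).1 this
    · intro h0 w hw
      rw [h0, pow_zero] at hj
      exact congrArg Subtype.val ((Nat.card_eq_one_iff_unique.1 hj).1.allEq
        (⟨w, hw⟩ : {w : omegaSub hcen // y w = w}) ⟨1, map_one y⟩)
    · intro hjn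
      refine MulEquiv.ext fun w => ?_
      by_contra hne
      have hlt : Nat.card {w : omegaSub hcen // y w = w} < Nat.card (omegaSub hcen) := by
        haveI := Fintype.ofFinite (omegaSub hcen)
        rw [Nat.card_eq_fintype_card, Nat.card_eq_fintype_card]
        exact Fintype.card_subtype_lt (x := w) hne
      rw [hj, hn, hjn] at hlt
      exact lt_irrefl _ hlt
  have : Finite (MulAut G) := Finite.of_injective (fun a : MulAut G => (a : G → G)) DFunLike.coe_injective
  obtain ⟨w0, hw0⟩ : ∃ w : omegaSub hcen, w ≠ 1 := by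
    haveI : Nontrivial (omegaSub hcen) := Finite.one_lt_card_iff_nontrivial.1 (by
      rw [hn]; exact Nat.one_lt_two_pow hn0.ne')
    exact exists_ne 1
  rcases Nat.lt_or_ge n 2 with hn1 | hn2
  · obtain rfl : n = 1 := by omega
    exact one_dvd a
  by_cases h6 : n = 6
  · subst h6
    -- 7-part
    have h7 : 2 ^ a ≡ 1 [MOD 7] := by
      haveI : Fact (Nat.Prime 7) := ⟨by norm_num⟩
      let R : Sylow 7 (MulAut G) := default
      set B := (R : Subgroup (MulAut G)).map (restrictOmega hcen) with hB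
      have he : 7 ∣ Nat.card (omegaSub hcen) - 1 := by rw [hn]; norm_num
      by_cases hex : ∃ y ∈ B, ∀ w, y w = w → w = 1
      · obtain ⟨y, hy, hfix⟩ := hex
        exact finish 7 R y hy hfix
      exfalso
      push Not at hex
      have h8 : ∀ y ∈ B, y ≠ 1 → Nat.card {w : omegaSub hcen // y w = w} = 8 := by
        intro y hy hy1
        obtain ⟨j, hjn, hj, hmod, h0, hne⟩ := haveFix 7 R y hy
        rcases (by omega : j = 0 ∨ j = 1 ∨ j = 2 ∨ j = 3 ∨ j = 4 ∨ j = 5 ∨ j = 6) with
          rfl | rfl | rfl | rfl | rfl | rfl | rfl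
        · obtain ⟨w, hw, hw1⟩ := hex y hy
          exact absurd (h0 rfl w hw) hw1
        · norm_num [Nat.ModEq] at hmod
        · norm_num [Nat.ModEq] at hmod
        · simpa using hj
        · norm_num [Nat.ModEq] at hmod
        · norm_num [Nat.ModEq] at hmod
        · exact absurd (hne rfl) hy1
      haveI : Finite (MulAut (omegaSub hcen)) := Finite.of_injective
        (fun a : MulAut (omegaSub hcen) => (a : omegaSub hcen → omegaSub hcen)) DFunLike.coe_injective
      haveI := Fintype.ofFinite B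
      haveI := fun y : B => Fintype.ofFinite (MulAction.fixedBy (omegaSub hcen) y)
      haveI := Fintype.ofFinite (Quotient (MulAction.orbitRel B (omegaSub hcen)))
      have hsum := MulAction.sum_card_fixedBy_eq_card_orbits_mul_card_group B (omegaSub hcen)
      have hval : ∀ y : B, Fintype.card (MulAction.fixedBy (omegaSub hcen) y) =
          8 + if y = 1 then 56 else 0 := by
        intro y
        rw [← Nat.card_eq_fintype_card]
        by_cases hy : y = 1
        · subst hy
          rw [if_pos rfl, MulAction.fixedBy_one_eq_univ]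
          simpa [hn] using Nat.card_congr (Equiv.Set.univ (omegaSub hcen))
        · rw [if_neg hy, add_zero, ← h8 y y.2 (fun h => hy (Subtype.ext h))]
          exact Nat.card_congr (Equiv.subtypeEquivRight fun w => Iff.rfl)
      rw [Finset.sum_congr rfl (fun y _ => hval y), Finset.sum_add_distrib, Finset.sum_const,
        Finset.sum_ite_eq' , if_pos (Finset.mem_univ _), Finset.card_univ, smul_eq_mul] at hsum
      have hd : Fintype.card B ∣ 56 :=
        (Nat.dvd_add_right (dvd_mul_right _ 8)).1 (hsum ▸ dvd_mul_left _ _)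
      obtain ⟨e, he7⟩ := IsPGroup.iff_card.1 (R.isPGroup'.map (restrictOmega hcen))
      rw [← hB, Nat.card_eq_fintype_card] at he7
      obtain ⟨y, hy, hyw⟩ := exists_moved hcen htrans R he w0 hw0
      have hy1 : (⟨y, hy⟩ : B) ≠ 1 := fun h => hyw (by
        have h2 : y = 1 := congrArg Subtype.val h
        rw [h2]; rfl)
      have hprime : (Fintype.card B).Prime := by
        rcases e with _ | _ | e
        · exfalso
          rw [pow_zero, Fintype.card_eq_one_iff] at he7
          obtain ⟨u, hu⟩ := he7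
          exact hy1 ((hu _).trans (hu 1).symm)
        · rw [he7]; norm_num
        · exfalso
          rw [he7] at hd
          have h49 : 49 ∣ 56 := (pow_dvd_pow 7 (by omega : 2 ≤ e + 1 + 1)).trans hd
          norm_num at h49
      -- every nontrivial element generates
      obtain ⟨w, hw, hw1⟩ := hex y hy
      obtain ⟨y', hy', hy'w⟩ := exists_moved hcen htrans R he w hw1
      haveI := Fact.mk hprime
      have hmem : (⟨y', hy'⟩ : B) ∈ Subgroup.zpowers (⟨y, hy⟩ : B) :=
        mem_zpowers_of_prime_card (p := Fintype.card B) Nat.card_eq_fintype_card hy1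
      obtain ⟨i, hi⟩ := hmem
      have hi' : y ^ i = y' := congrArg Subtype.val hi
      have hst : y ^ i ∈ MulAction.stabilizer (MulAut (omegaSub hcen)) w :=
        Subgroup.zpow_mem _ (show y ∈ MulAction.stabilizer (MulAut (omegaSub hcen)) w from hw) i
      rw [hi'] at hst
      exact hy'w hst
    -- 3-part
    have h3 : 2 ^ a ≡ 1 [MOD 3] := by
      haveI : Fact (Nat.Prime 3) := ⟨by norm_num⟩
      let R : Sylow 3 (MulAut G) := default
      set B := (R : Subgroup (MulAut G)).map (restrictOmega hcen) with hB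
      have he : 3 ^ 2 ∣ Nat.card (omegaSub hcen) - 1 := by rw [hn]; norm_num
      have hBp : IsPGroup 3 B := R.isPGroup'.map _
      haveI : Finite (MulAut (omegaSub hcen)) := Finite.of_injective
        (fun a : MulAut (omegaSub hcen) => (a : omegaSub hcen → omegaSub hcen)) DFunLike.coe_injective
      obtain ⟨y, hy, hyw⟩ := exists_moved hcen htrans R ((dvd_pow_self 3 two_ne_zero).trans he) w0 hw0
      haveI : Nontrivial B := ⟨⟨y, hy⟩, 1, fun h => hyw (by
        have h2 : y = 1 := congrArg Subtype.val h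
        rw [h2]; rfl)⟩
      haveI : Nontrivial (Subgroup.center B) := hBp.center_nontrivial
      obtain ⟨⟨⟨c, hcB⟩, hcc⟩, hc1⟩ := exists_ne (1 : Subgroup.center B)
      refine finish 3 R c hcB ?_
      obtain ⟨j, hjn, hj, -, h0, hne⟩ := haveFix 3 R c hcB
      have hinv : ∀ (b : B) (w : omegaSub hcen), c w = w → c (b • w) = b • w := by
        intro b w hw
        have hcomm := congrArg Subtype.val (Subgroup.mem_center_iff.1 hcc b)
        have h2 : (b : MulAut (omegaSub hcen)) (c w) = c ((b : MulAut (omegaSub hcen)) w) := by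
          have := DFunLike.congr_fun hcomm w
          simpa [MulAut.mul_apply] using this
        rw [hw] at h2
        exact h2.symm
      haveI : Fintype (omegaSub hcen) := Fintype.ofFinite _
      set S : Finset (omegaSub hcen) := Finset.univ.filter (fun w => c w = w ∧ w ≠ 1) with hS
      have hScard : S.card = 2 ^ j - 1 := by
        have h1 : S = (Finset.univ.filter fun w => c w = w).erase 1 := by
          ext w; simp [hS, and_comm]
        rw [h1, Finset.card_erase_of_mem (by simp), ← hj, Nat.card_eq_fintype_card,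
          Fintype.card_subtype]
      have h9 : 9 ∣ S.card := by
        have himg := Finset.card_eq_sum_card_image
          (fun w : omegaSub hcen => MulAction.orbit B w) S
        rw [himg]
        refine Finset.dvd_sum fun O hO => ?_
        obtain ⟨w, hw, rfl⟩ := Finset.mem_image.1 hO
        obtain ⟨hwf, hw1⟩ := (Finset.mem_filter.1 hw).2
        have heq : ((S.filter fun v => MulAction.orbit B v = MulAction.orbit B w) : Set (omegaSub hcen)) =
            MulAction.orbit B w := by
          ext v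
          simp only [Finset.coe_filter, Set.mem_setOf_eq]
          constructor
          · rintro ⟨-, hv⟩
            exact hv ▸ MulAction.mem_orbit_self v
          · intro hv
            refine ⟨?_, MulAction.orbit_eq_iff.2 hv⟩
            obtain ⟨b, rfl⟩ := hv
            refine Finset.mem_filter.2 ⟨Finset.mem_univ _, hinv b w hwf, ?_⟩
            intro hb1
            have h4 : (b : MulAut (omegaSub hcen)) w = 1 := hb1
            exact hw1 ((b : MulAut (omegaSub hcen)).injective (h4.trans (map_one _).symm))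
        rw [← Set.ncard_coe_finset, heq, ← Nat.card_coe_set_eq]
        exact orbit_dvd hcen htrans R he w hw1
      rw [hScard] at h9
      rcases (by omega : j = 0 ∨ j = 1 ∨ j = 2 ∨ j = 3 ∨ j = 4 ∨ j = 5 ∨ j = 6) with
        rfl | rfl | rfl | rfl | rfl | rfl | rfl
      all_goals first
        | exact h0 rfl
        | exact absurd (hne rfl) (fun h => hc1 (Subtype.ext (Subtype.ext h)))
        | (norm_num at h9)
    have h3' : 3 ∣ a := two_pow_mod (r := 7) (n := 3) (by norm_num)
      (fun k hk hk3 => by interval_cases k <;> norm_num) (by norm_num) h7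
    have h2' : 2 ∣ a := two_pow_mod (r := 3) (n := 2) (by norm_num)
      (fun k hk hk2 => by interval_cases k; norm_num) (by norm_num) h3
    omega
  obtain ⟨r, hr, hrd, hprim⟩ := Cfsg.Agent.Lib.PPD.exists_primitive_prime (a := 2) le_rfl hn2
    (fun h => h6 h.2) (by
      rintro ⟨rfl, m, hm⟩
      rcases m with _ | _ | m <;> simp [pow_succ] at hm
      omega)
  haveI := Fact.mk hr
  refine two_pow_mod hrd hprim hn0 ?_
  let R : Sylow r (MulAut G) := default
  obtain ⟨y, hy, hyw⟩ := exists_moved hcen htrans R (hn ▸ hrd) w0 hw0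
  obtain ⟨j, hjn, hj, hmod, h0, hne⟩ := haveFix r R y hy
  refine finish r R y hy (h0 ?_)
  by_contra hj0
  have hjlt : j < n := lt_of_le_of_ne hjn fun h => hyw (by rw [hne h]; rfl)
  have hcop : Nat.Coprime r (2 ^ j) := by
    refine Nat.Coprime.pow_right j ((Nat.coprime_primes hr Nat.prime_two).2 ?_)
    rintro rfl
    have h1 : 2 ∣ 2 ^ n := dvd_pow_self 2 hn0.ne'
    have h2 := Nat.one_le_two_pow (n := n)
    omega
  have h1 : 2 ^ j * 2 ^ (n - j) ≡ 2 ^ j * 1 [MOD r] := by
    rw [← pow_add, mul_one, show j + (n - j) = n by omega]; exact hmod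
  have h2 := Nat.ModEq.cancel_left_of_coprime hcop h1
  exact hprim (n - j) (by omega) (by omega) ((Nat.modEq_iff_dvd' Nat.one_le_two_pow).1 h2.symm)

end Cfsg.Agent.S3774
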