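import Cfsg.Statements.S3775
import Mathlib
import Cfsg.Agent.Lib.AbelianCoprime.Maschke

set_option autoImplicit false
open Cfsg

namespace Cfsg.Agent.S3775

/-- Let A be a finite abelian p-group and X a group of automorphisms of A of order prime to p. Call a subgroup of A invariant when every element of X maps it onto itself. Then the following are equivalent: (i) A is not the direct product of two nontrivial invariant subgroups; (ii) every invariant subgroup of A is one of the subgroups Ω_i(A) = {a : a^(p^i) = 1}; (iii) the subgroup Ω₁(A) of elements of order dividing p has no invariant subgroups other than 1 and itself. -/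
theorem result {A : Type*} [CommGroup A] [Finite A] {p : ℕ} [Fact p.Prime] (hA : IsPGroup p A) (X : Subgroup (MulAut A)) (hX : (Nat.card X).Coprime p) : ((¬ ∃ B C : Subgroup A, B ≠ ⊥ ∧ C ≠ ⊥ ∧ (∀ x ∈ X, B.map x.toMonoidHom = B) ∧ (∀ x ∈ X, C.map x.toMonoidHom = C) ∧ B ⊓ C = ⊥ ∧ B ⊔ C = ⊤) ↔ (∀ B : Subgroup A, (∀ x ∈ X, B.map x.toMonoidHom = B) → ∃ i : ℕ, ∀ a : A, a ∈ B ↔ a ^ p ^ i = 1)) ∧ ((∀ B : Subgroup A, (∀ x ∈ X, B.map x.toMonoidHom = B) → ∃ i : ℕ, ∀ a : A, a ∈ B ↔ a ^ p ^ i = 1) ↔ (∀ B : Subgroup A, (∀ x ∈ X, B.map x.toMonoidHom = B) → (∀ b ∈ B, b ^ p = 1) → B = ⊥ ∨ ∀ a : A, a ∈ B ↔ a ^ p = 1)) := by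
  have hinv : ∀ {B : Subgroup A}, (∀ x ∈ X, B.map x.toMonoidHom = B) ↔
      ∀ (x : X), ∀ a ∈ B, (x : MulAut A) a ∈ B := by
    intro B
    constructor
    · intro h x a ha
      rw [← h x x.2]; exact ⟨a, ha, rfl⟩
    · intro h x hx
      refine Subgroup.eq_of_le_of_card_ge (by rintro _ ⟨a, ha, rfl⟩; exact h ⟨x, hx⟩ a ha) ?_
      rw [Subgroup.card_map_of_injective (f := x.toMonoidHom) x.injective]
  have h23 : (∀ B : Subgroup A, (∀ x ∈ X, B.map x.toMonoidHom = B) → ∃ i : ℕ, ∀ a : A, a ∈ B ↔ a ^ p ^ i = 1) →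
      (∀ B : Subgroup A, (∀ x ∈ X, B.map x.toMonoidHom = B) → (∀ b ∈ B, b ^ p = 1) → B = ⊥ ∨ ∀ a : A, a ∈ B ↔ a ^ p = 1) := by
    intro h B hB hBp
    obtain ⟨i, hi⟩ := h B hB
    rcases Nat.eq_zero_or_pos i with rfl | hpos
    · left
      rw [Subgroup.eq_bot_iff_forall]
      intro a ha
      simpa using (hi a).mp ha
    · refine Or.inr fun a => ⟨hBp a, fun ha => (hi a).mpr ?_⟩
      obtain ⟨j, rfl⟩ := Nat.exists_eq_add_of_le hpos
      rw [pow_add, pow_one, pow_mul, ha, one_pow]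
  have h32 : (∀ B : Subgroup A, (∀ x ∈ X, B.map x.toMonoidHom = B) → (∀ b ∈ B, b ^ p = 1) → B = ⊥ ∨ ∀ a : A, a ∈ B ↔ a ^ p = 1) →
      ∀ B : Subgroup A, (∀ x ∈ X, B.map x.toMonoidHom = B) → ∃ i : ℕ, ∀ a : A, a ∈ B ↔ a ^ p ^ i = 1 := by
    intro h B hB
    classical
    have hex : ∃ i, ∀ b ∈ B, b ^ p ^ i = 1 := by
      obtain ⟨e, he⟩ := IsPGroup.iff_card.mp hA
      exact ⟨e, fun b _ => by rw [← he]; exact pow_card_eq_one'⟩
    set i := Nat.find hex with hi
    refine ⟨i, fun a => ⟨fun ha => Nat.find_spec hex a ha, ?_⟩⟩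
    suffices hs : ∀ j, j ≤ i → ∀ a : A, a ^ p ^ j = 1 → a ∈ B from hs i le_rfl a
    intro j
    induction j with
    | zero => intro _ a ha; rw [pow_zero, pow_one] at ha; rw [ha]; exact B.one_mem
    | succ j ih =>
      intro hj a ha
      set M := B.map (powMonoidHom (p ^ (i - 1)) : A →* A) with hM
      have hMi : ∀ x ∈ X, M.map x.toMonoidHom = M := by
        rw [hinv]
        rintro x _ ⟨b, hb, rfl⟩
        exact ⟨(x : MulAut A) b, hinv.mp hB x b hb, by simp⟩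
      have hMne : M ≠ ⊥ := by
        intro hb
        refine Nat.find_min hex (show i - 1 < _ by omega) fun b hbB => ?_
        rw [Subgroup.eq_bot_iff_forall] at hb
        exact hb _ ⟨b, hbB, rfl⟩
      have hMp : ∀ m ∈ M, m ^ p = 1 := by
        rintro _ ⟨b, hb, rfl⟩
        rw [powMonoidHom_apply, ← pow_mul, ← pow_succ, Nat.sub_add_cancel (by omega)]
        exact Nat.find_spec hex b hb
      have hmem := ((h M hMi hMp).resolve_left hMne (a ^ p ^ j)).mpr (by rw [← pow_mul, ← pow_succ]; exact ha)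
      obtain ⟨b, hb, hbe⟩ := hmem
      have hb' : (b ^ p ^ (i - 1 - j)) ^ p ^ j = a ^ p ^ j := by
        rw [← pow_mul, ← pow_add, Nat.sub_add_cancel (by omega)]; exact hbe
      have h1 : a * (b ^ p ^ (i - 1 - j))⁻¹ ∈ B :=
        ih (by omega) _ (by rw [mul_pow, inv_pow, hb', mul_inv_cancel])
      simpa using B.mul_mem h1 (B.pow_mem hb (p ^ (i - 1 - j)))
  have h21 : (∀ B : Subgroup A, (∀ x ∈ X, B.map x.toMonoidHom = B) → ∃ i : ℕ, ∀ a : A, a ∈ B ↔ a ^ p ^ i = 1) →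
      ¬ ∃ B C : Subgroup A, B ≠ ⊥ ∧ C ≠ ⊥ ∧ (∀ x ∈ X, B.map x.toMonoidHom = B) ∧
        (∀ x ∈ X, C.map x.toMonoidHom = C) ∧ B ⊓ C = ⊥ ∧ B ⊔ C = ⊤ := by
    rintro h ⟨B, C, hB, hC, hBi, hCi, hinf, -⟩
    obtain ⟨i, hi⟩ := h B hBi
    obtain ⟨j, hj⟩ := h C hCi
    rcases Nat.le_total i j with hij | hij
    · refine hB (le_bot_iff.mp (hinf ▸ le_inf le_rfl fun a ha => ?_))
      obtain ⟨t, rfl⟩ := Nat.exists_eq_add_of_le hij
      rw [hj, pow_add, pow_mul, (hi a).mp ha, one_pow]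
    · refine hC (le_bot_iff.mp (hinf ▸ le_inf (fun a ha => ?_) le_rfl))
      obtain ⟨t, rfl⟩ := Nat.exists_eq_add_of_le hij
      rw [hi, pow_add, pow_mul, (hj a).mp ha, one_pow]
  have h13 : (¬ ∃ B C : Subgroup A, B ≠ ⊥ ∧ C ≠ ⊥ ∧ (∀ x ∈ X, B.map x.toMonoidHom = B) ∧
        (∀ x ∈ X, C.map x.toMonoidHom = C) ∧ B ⊓ C = ⊥ ∧ B ⊔ C = ⊤) →
      ∀ B : Subgroup A, (∀ x ∈ X, B.map x.toMonoidHom = B) → (∀ b ∈ B, b ^ p = 1) → B = ⊥ ∨ ∀ a : A, a ∈ B ↔ a ^ p = 1 := by
    intro hind B hBi hBp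
    by_contra hcon
    push Not at hcon
    obtain ⟨hB, hB'⟩ := hcon
    classical
    have hBlt : ∃ a : A, a ^ p = 1 ∧ a ∉ B := by
      obtain ⟨a, ha⟩ := hB'
      rcases ha with ⟨h1, h2⟩ | ⟨h1, h2⟩
      · exact absurd (hBp a h1) h2
      · exact ⟨a, h2, h1⟩
    obtain ⟨a₀, ha₀, ha₀B⟩ := hBlt
    -- exponent
    have hex : ∃ e, ∀ a : A, a ^ p ^ e = 1 := by
      obtain ⟨e, he⟩ := IsPGroup.iff_card.mp hA
      exact ⟨e, fun b => by rw [← he]; exact pow_card_eq_one'⟩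
    set e := Nat.find hex with he
    have hspec := Nat.find_spec hex
    rw [← he] at hspec
    obtain ⟨f, hf⟩ : ∃ f, e = f + 1 := Nat.exists_eq_succ_of_ne_zero fun h0 => by
      refine hB (Subgroup.eq_bot_iff_forall B |>.mpr fun b _ => ?_)
      have := hspec b; rwa [h0, pow_zero, pow_one] at this
    set π : A →* A := powMonoidHom (p ^ f) with hπ
    set M := π.range with hM
    obtain ⟨T, hTi, hTM, hT1, hT2⟩ : ∃ T : Subgroup A, (∀ x : X, ∀ a ∈ T, (x : MulAut A) a ∈ T) ∧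
        T ≤ M ∧ T ≠ ⊥ ∧ ∃ a : A, a ^ p = 1 ∧ a ∉ T := by
      by_cases hMall : ∀ a : A, a ^ p = 1 → a ∈ M
      · exact ⟨B, hinv.mp hBi, fun b hb => hMall b (hBp b hb), hB, a₀, ha₀, ha₀B⟩
      · push Not at hMall
        refine ⟨M, ?_, le_rfl, ?_, hMall⟩
        · rintro x _ ⟨b, rfl⟩; exact ⟨(x : MulAut A) b, by simp [hπ]⟩
        · intro hb
          refine Nat.find_min hex (show f < _ by omega) fun a => ?_
          rw [Subgroup.eq_bot_iff_forall] at hb
          exact hb _ ⟨a, rfl⟩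
    -- a minimal invariant subgroup lifting `T`
    obtain ⟨D, -, hDmin⟩ := (Set.toFinite {D : Subgroup A |
        (∀ x : X, ∀ a ∈ D, (x : MulAut A) a ∈ D) ∧ D.map π = T}).exists_le_minimal
      (a := T.comap π) ⟨fun x a ha => by
        show π ((x : MulAut A) a) ∈ T
        rw [hπ, powMonoidHom_apply, ← map_pow]; exact hTi x _ ha,
        Subgroup.map_comap_eq_self hTM⟩
    obtain ⟨hDi, hDT⟩ := hDmin.prop
    let φ : X →* MulAut A := X.subtype
    have hXp : (Nat.card X).Coprime p := hX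
    set P : Subgroup A := D.map (powMonoidHom p : A →* A) with hP
    have hPD : P ≤ D := by rintro _ ⟨d, hd, rfl⟩; exact D.pow_mem hd p
    have hPker : P ≤ π.ker := by
      rintro _ ⟨d, hd, rfl⟩
      rw [MonoidHom.mem_ker, hπ, powMonoidHom_apply, powMonoidHom_apply, ← pow_mul, mul_comm, ← pow_succ, ← hf]
      exact hspec d
    have hkey : ∀ d ∈ D, π d = 1 → d ∈ P := by
      obtain ⟨D', hPD', hD'D, hD'i, hD'inf, hD'sup⟩ := Lib.AbelianCoprime.exists_invariant_relative_complement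
        hXp φ (K := P) (W := D ⊓ π.ker) (L := D) (le_inf hPD hPker) inf_le_left
        (fun a ha => ⟨a, ha, rfl⟩)
        (by rintro x _ ⟨d, hd, rfl⟩; exact ⟨(x : MulAut A) d, hDi x d hd, by simp [φ]⟩)
        (fun x a ha => ⟨hDi x a ha.1, by
          show π ((x : MulAut A) a) = 1
          rw [hπ, powMonoidHom_apply, ← map_pow]
          have := MonoidHom.mem_ker.mp ha.2
          rw [hπ, powMonoidHom_apply] at this
          rw [this, map_one]⟩)
        (fun x a ha => hDi x a ha)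
      have heq : D' = D := (hDmin.eq_of_le ⟨hD'i, by
        rw [← hDT]
        conv_rhs => rw [← hD'sup, Subgroup.map_sup]
        rw [(Subgroup.map_eq_bot_iff _).mpr (inf_le_right : D ⊓ π.ker ≤ π.ker), sup_bot_eq]⟩ hD'D)
      intro d hd hd1
      rw [← hD'inf, heq]
      exact ⟨hd, hd, hd1⟩
    have hker' : ∀ t, t ≤ f + 1 → ∀ d ∈ D, d ^ p ^ (f + 1 - t) = 1 → ∃ d' ∈ D, d = d' ^ p ^ t := by
      intro t
      induction t with
      | zero => intro _ d hd _; exact ⟨d, hd, by simp⟩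
      | succ t ih =>
        intro ht d hd h1
        obtain ⟨d', hd', rfl⟩ := ih (by omega) d hd (by
          rw [show f + 1 - t = (f + 1 - (t + 1)) + 1 by omega, pow_succ, pow_mul, h1, one_pow])
        rw [← pow_mul, ← pow_add] at h1
        rw [show t + (f + 1 - (t + 1)) = f by omega] at h1
        obtain ⟨d'', hd'', rfl⟩ := hkey d' hd' h1
        exact ⟨d'', hd'', by rw [powMonoidHom_apply, ← pow_mul, pow_succ' p t]⟩
    have hD1 : ∀ d ∈ D, d ^ p = 1 → d ∈ T := by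
      intro d hd h1
      obtain ⟨d', hd', rfl⟩ := hker' f (by omega) d hd (by rwa [show f + 1 - f = 1 by omega, pow_one])
      rw [← hDT]; exact ⟨d', hd', rfl⟩
    obtain ⟨K, -, hKmax⟩ := (Set.toFinite {K : Subgroup A |
        (∀ x : X, ∀ a ∈ K, (x : MulAut A) a ∈ K) ∧ K ⊓ D = ⊥}).exists_le_maximal (a := ⊥)
      ⟨fun x a ha => by rw [Subgroup.mem_bot] at ha ⊢; rw [ha, map_one], bot_inf_eq _⟩
    obtain ⟨hKi, hKD⟩ := hKmax.prop
    have htop : K ⊔ D = ⊤ := by
      by_contra hne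
      set W := K ⊔ D with hW
      have hWi : ∀ x : X, ∀ a ∈ W, (x : MulAut A) a ∈ W := fun x => by
        have : W ≤ W.comap (x : MulAut A).toMonoidHom := sup_le
          (fun a ha => Subgroup.mem_sup_left (hKi x a ha))
          (fun a ha => Subgroup.mem_sup_right (hDi x a ha))
        exact fun a ha => this ha
      -- something outside whose `p`-th power lies in `K`
      obtain ⟨a, haW, haK⟩ : ∃ a, a ∉ W ∧ a ^ p ∈ K := by
        obtain ⟨b, -, hb⟩ := SetLike.exists_of_lt (lt_top_iff_ne_top.mpr hne)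
        have hex2 : ∃ j, b ^ p ^ j ∈ W := ⟨e, by rw [hspec b]; exact W.one_mem⟩
        obtain ⟨j, hj⟩ : ∃ j, Nat.find hex2 = j + 1 := Nat.exists_eq_succ_of_ne_zero fun h0 => by
          have := Nat.find_spec hex2; rw [h0, pow_zero, pow_one] at this; exact hb this
        have hj1 : b ^ p ^ j ∉ W := Nat.find_min hex2 (by omega)
        have hj2 := Nat.find_spec hex2
        rw [hj, pow_succ, pow_mul] at hj2
        obtain ⟨k, hk, d, hd, hkd⟩ := Subgroup.mem_sup.mp hj2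
        have hd0 : d ^ p ^ f = 1 := by
          have h1 : (k * d) ^ p ^ f = 1 := by
            rw [hkd, ← pow_mul, ← pow_succ', ← hf]; exact hspec _
          rw [mul_pow] at h1
          have h2 : d ^ p ^ f ∈ K ⊓ D :=
            ⟨by rw [eq_inv_of_mul_eq_one_right h1]; exact K.inv_mem (K.pow_mem hk _), D.pow_mem hd _⟩
          rw [hKD] at h2; exact h2
        obtain ⟨d', hd', rfl⟩ := hkey d hd hd0
        refine ⟨b ^ p ^ j * d'⁻¹, fun h => hj1 ?_, ?_⟩
        · have := W.mul_mem h (Subgroup.mem_sup_right hd'); simpa using this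
        · rw [mul_pow, inv_pow, ← hkd, powMonoidHom_apply, mul_inv_cancel_right]; exact hk
      set L := K.comap (powMonoidHom p : A →* A) with hL
      have hKL : K ≤ L := fun k hk => K.pow_mem hk p
      have hLi : ∀ x : X, ∀ a ∈ L, (x : MulAut A) a ∈ L := fun x a ha => by
        show ((x : MulAut A) a) ^ p ∈ K
        rw [← map_pow]; exact hKi x _ ha
      obtain ⟨N, hKN, hNL, hNi, hNinf, hNsup⟩ := Lib.AbelianCoprime.exists_invariant_relative_complement
        hXp φ (K := K) (W := W ⊓ L) (L := L) (le_inf le_sup_left hKL) inf_le_right (fun a ha => ha)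
        (fun x a ha => hKi x a ha) (fun x a ha => ⟨hWi x a ha.1, hLi x a ha.2⟩) (fun x a ha => hLi x a ha)
      have hND : N ⊓ D = ⊥ := by
        rw [eq_bot_iff, ← hKD]
        intro z hz
        exact ⟨(hNinf ▸ ⟨hz.1, Subgroup.mem_sup_right hz.2, hNL hz.1⟩ : z ∈ K), hz.2⟩
      have hNK : N = K := (hKmax.eq_of_le ⟨hNi, hND⟩ hKN).symm
      have : a ∈ N ⊔ W ⊓ L := by rw [hNsup]; exact haK
      exact haW ((sup_le (hNK.le.trans le_sup_left) inf_le_left : N ⊔ W ⊓ L ≤ W) this)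
    refine hind ⟨K, D, ?_, ?_, hinv.mpr hKi, hinv.mpr hDi, hKD, htop⟩
    · intro hK0
      obtain ⟨a, ha, haT⟩ := hT2
      rw [hK0, bot_sup_eq] at htop
      exact haT (hD1 a (htop ▸ trivial) ha)
    · intro hD0
      exact hT1 (by rw [← hDT, hD0, Subgroup.map_bot])
  exact ⟨⟨fun h => h32 (h13 h), h21⟩, ⟨h23, h32⟩⟩

end Cfsg.Agent.S3775
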