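import Cfsg.Statements.S3776
import Cfsg.Agent.Lib.Suzuki87.Setup
import Cfsg.Agent.Lib.PGroup.Frattini

set_option autoImplicit false
open Cfsg
open scoped commutatorElement

namespace Cfsg.Agent.S3776

/-- Let G be a finite non-abelian 2-group with more than one involution admitting a solvable group of automorphisms that permutes its involutions transitively. Then the derived subgroup, the Frattini subgroup and the centre of G coincide and consist exactly of the elements x with x² = 1. -/
theorem result {G : Type*} [Group G] [Finite G] (hG : IsPGroup 2 G) (hna : ¬ IsMulCommutative G) (htwo : ∃ x y : G, x ≠ y ∧ x ≠ 1 ∧ x ^ 2 = 1 ∧ y ≠ 1 ∧ y ^ 2 = 1) (hY : ∃ Y : Subgroup (MulAut G), Group.IsSolvable Y ∧ ∀ x y : G, x ≠ 1 → x ^ 2 = 1 → y ≠ 1 → y ^ 2 = 1 → ∃ a ∈ Y, a x = y) : commutator G = frattini G ∧ frattini G = Subgroup.center G ∧ ∀ x : G, x ∈ Subgroup.center G ↔ x ^ 2 = 1 := by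
  obtain ⟨Y, hsol, htr⟩ := hY
  simp only [pow_two] at htwo htr ⊢
  obtain ⟨k, hk⟩ := Lib.Suzuki87.exists_isIrrGen hG htwo Y hsol htr
  have hna' : ∃ x y : G, x * y ≠ y * x := by
    by_contra hall
    push Not at hall
    exact hna ⟨⟨hall⟩⟩
  have hV : ∀ x : G, x * x = 1 → x ∈ Subgroup.center G := hk.central
  have hZ2 := Lib.Suzuki87.center_elementary hk hG hna'
  obtain ⟨hsq, hcm⟩ := Lib.Suzuki87.squares_central hk hG hna'
  haveI : Fact (Nat.Prime 2) := ⟨Nat.prime_two⟩
  have hcomm : commutator G = Subgroup.center G := by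
    refine le_antisymm ?_ fun z hz => ?_
    · rw [commutator_def, Subgroup.commutator_le]
      exact fun x _ y _ => hcm x y
    · by_cases hz1 : z = 1
      · rw [hz1]; exact one_mem _
      obtain ⟨x, y, hxy⟩ := hna'
      have hne : ⁅x, y⁆ ≠ 1 := fun h => hxy (commutatorElement_eq_one_iff_mul_comm.mp h)
      obtain ⟨b, -, hb⟩ := htr ⁅x, y⁆ z hne (hZ2 _ (hcm x y)) hz1 (hZ2 z hz)
      rw [← hb, map_commutatorElement, commutator_def]
      exact Subgroup.commutator_mem_commutator (Subgroup.mem_top _) (Subgroup.mem_top _)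
  have hfr : frattini G = Subgroup.center G := by
    refine le_antisymm ?_ (hcomm ▸ ?_)
    · exact Lib.PFrattini.frattini_le hcomm.le fun x => by rw [pow_two]; exact hsq x
    · exact Lib.PFrattini.commutator_le_frattini hG
  exact ⟨hcomm.trans hfr.symm, hfr, fun x => ⟨hZ2 x, hV x⟩⟩

end Cfsg.Agent.S3776
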