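import Cfsg.Statements.S3778
import Cfsg.Agent.Lib.MaxClassPow.Basic

set_option autoImplicit false
open Cfsg

namespace Cfsg.Agent.S3778

open scoped commutatorElement
open Cfsg.Agent.Lib.MaxClassPow

theorem pow_card_le_index {G₀ : Type*} [Group G₀] [Finite G₀] {p : ℕ} [hp : Fact p.Prime]
    (hG : IsPGroup p G₀) (x : G₀) [∀ i, DecidablePred (fun y => y ∈ layerCent G₀ i)] (n : ℕ) :
    p ^ ((Finset.range n).filter fun i => x ∉ layerCent G₀ i).card ≤
      (Subgroup.centralizer ({x} : Set G₀)).index := by
  set C := Subgroup.centralizer ({x} : Set G₀) with hC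
  have hstep : ∀ i, x ∉ layerCent G₀ i → p * C.relIndex (lcs G₀ (i + 1)) ≤ C.relIndex (lcs G₀ i) := by
    intro i hi
    set A := lcs G₀ i
    set B := lcs G₀ (i + 1)
    have hBA : B ≤ A := lcs_le (Nat.le_succ i)
    set W := (C ⊓ A) ⊔ B with hW
    have hWA : W ≤ A := sup_le inf_le_right hBA
    have h1 : (C ⊓ A).relIndex W = C.relIndex B := by
      have ha := Subgroup.relIndex_mul_relIndex (C ⊓ B) B W inf_le_right le_sup_right
      have hb := Subgroup.relIndex_mul_relIndex (C ⊓ B) (C ⊓ A) W (inf_le_inf_left C hBA) le_sup_left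
      have hc : B.relIndex W = (C ⊓ B).relIndex (C ⊓ A) := by
        rw [hW, Subgroup.relIndex_sup_right, ← Subgroup.inf_relIndex_right B (C ⊓ A)]
        congr 1
        rw [inf_comm C A, ← inf_assoc, inf_eq_left.2 hBA, inf_comm]
      rw [hc, ← hb, mul_comm] at ha
      rw [← Subgroup.inf_relIndex_right C B]
      exact (Nat.eq_of_mul_eq_mul_left (Nat.pos_of_ne_zero Subgroup.index_ne_zero_of_finite) ha).symm
    have h2 := Subgroup.relIndex_mul_relIndex (C ⊓ A) W A le_sup_left hWA
    rw [h1, Subgroup.inf_relIndex_right] at h2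
    have hne : W.relIndex A ≠ 1 := by
      intro h
      apply hi
      rw [mem_layerCent]
      intro a ha
      have haW : a ∈ W := Subgroup.relIndex_eq_one.1 h ha
      rw [hW, sup_comm] at haW
      obtain ⟨g, hg, u, hu, rfl⟩ := Subgroup.mem_sup_of_normal_left.1 haW
      have hux : ⁅u, x⁆ = 1 :=
        commutatorElement_eq_one_iff_mul_comm.2 (Subgroup.mem_centralizer_iff.1 hu.1 x rfl).symm
      have e : ⁅g * u, x⁆ = g * ⁅u, x⁆ * g⁻¹ * ⁅g, x⁆ := commutatorElement_mul_left_eq_conj_mul g u x
      rw [e, hux, mul_one, mul_inv_cancel, one_mul]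
      exact Subgroup.commutator_mem_commutator hg (Subgroup.mem_top x)
    obtain ⟨j, hj⟩ := (hG.to_subgroup A).index (W.subgroupOf A)
    have hj' : W.relIndex A = p ^ j := hj
    rw [hj'] at hne h2
    rw [← h2, mul_comm]
    refine Nat.mul_le_mul_left _ ?_
    rcases j with _ | j
    · simp at hne
    · exact Nat.le_self_pow (Nat.succ_ne_zero j) p
  have hmono : ∀ i, C.relIndex (lcs G₀ (i + 1)) ≤ C.relIndex (lcs G₀ i) := fun i =>
    Subgroup.relIndex_le_of_le_right (lcs_le (Nat.le_succ i)) Subgroup.index_ne_zero_of_finite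
  have key : ∀ n, p ^ ((Finset.range n).filter fun i => x ∉ layerCent G₀ i).card *
      C.relIndex (lcs G₀ n) ≤ C.index := by
    intro n
    induction n with
    | zero => simp [lcs]
    | succ n ih =>
      rw [Finset.range_add_one, Finset.filter_insert]
      by_cases h : x ∈ layerCent G₀ n
      · rw [if_neg (not_not.2 h)]
        exact (Nat.mul_le_mul_left _ (hmono n)).trans ih
      · rw [if_pos h, Finset.card_insert_of_notMem (by simp), pow_succ, mul_assoc]
        exact (Nat.mul_le_mul_left _ (hstep n h)).trans ih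
  refine le_trans ?_ (key n)
  exact Nat.le_mul_of_pos_right _ (Nat.pos_of_ne_zero Subgroup.index_ne_zero_of_finite)


/-- If G is a finite p-group in which every conjugacy class has at most p^b elements (every element has centralizer of index at most p^b), then G is abelian when b = 0, and when b ≥ 1 its nilpotency class c satisfies (c − 1)(p − 1) < bp, that is c < bp/(p − 1) + 1, and hence c ≤ 2b. -/
theorem result {G : Type*} [Group G] [Finite G] {p : ℕ} [Fact p.Prime] (hG : IsPGroup p G) (b : ℕ) (hb : ∀ x : G, (Subgroup.centralizer ({x} : Set G)).index ≤ p ^ b) : ∃ c : ℕ, (⊤ : Subgroup G).lowerCentralSeries c = ⊥ ∧ (b ≠ 0 → (c - 1) * (p - 1) < b * p ∧ c ≤ 2 * b) ∧ (b = 0 → c ≤ 1) := by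
  classical
  have hp := (Fact.out : p.Prime)
  haveI := hG.isNilpotent
  set c := Group.nilpotencyClass G with hc
  have hbot : (⊤ : Subgroup G).lowerCentralSeries c = ⊥ := Subgroup.lowerCentralSeries_nilpotencyClass
  rcases Nat.eq_zero_or_pos b with rfl | hb0
  · refine ⟨1, ?_, fun h => absurd rfl h, fun _ => le_rfl⟩
    rw [Subgroup.lowerCentralSeries_succ, Subgroup.lowerCentralSeries_zero, eq_bot_iff,
      Subgroup.commutator_le]
    intro x _ y _
    have h := hb x
    rw [pow_zero] at h
    have h1 : Subgroup.centralizer ({x} : Set G) = ⊤ := Subgroup.index_eq_one.1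
      (le_antisymm h (Nat.pos_of_ne_zero Subgroup.index_ne_zero_of_finite))
    have hy : y ∈ Subgroup.centralizer ({x} : Set G) := h1 ▸ Subgroup.mem_top y
    rw [Subgroup.mem_bot, commutatorElement_eq_one_iff_mul_comm]
    exact Subgroup.mem_centralizer_iff.1 hy x rfl
  suffices hlt : (c - 1) * (p - 1) < b * p by
    refine ⟨c, hbot, fun _ => ⟨hlt, ?_⟩, fun h => absurd h hb0.ne'⟩
    obtain ⟨t, rfl⟩ : ∃ t, p = t + 2 := ⟨p - 2, by have := hp.two_le; omega⟩
    rw [show t + 2 - 1 = t + 1 by omega] at hlt
    by_contra hlt2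
    have h1 : 2 * b * (t + 1) ≤ (c - 1) * (t + 1) := Nat.mul_le_mul_right _ (by omega)
    nlinarith
  rcases Nat.lt_or_ge c 2 with hc2 | hc2
  · rw [show c - 1 = 0 by omega, zero_mul]; exact Nat.mul_pos hb0 hp.pos
  haveI := Fintype.ofFinite G
  have hne : ∀ i, i < c - 1 → layerCent G i ≠ ⊤ := fun i hi => layerCent_ne_top fun h => by
    have := Subgroup.lowerCentralSeries_eq_bot_iff_nilpotencyClass_le.1 h
    omega
  have hone : ∀ x : G, ((Finset.range (c - 1)).filter fun i => x ∉ layerCent G i).card ≤
      if x = 1 then 0 else b := by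
    intro x
    split
    · next h =>
      subst h
      rw [Nat.le_zero, Finset.card_eq_zero, Finset.filter_eq_empty_iff]
      exact fun i _ h => h (one_mem _)
    · exact (Nat.pow_le_pow_iff_right hp.one_lt).1 ((pow_card_le_index hG x (c - 1)).trans (hb x))
  have hcnt : ∀ i ∈ Finset.range (c - 1),
      Fintype.card G * (p - 1) ≤ p * (Finset.univ.filter fun x : G => x ∉ layerCent G i).card := by
    intro i hi
    obtain ⟨j, hj⟩ := hG.index (layerCent G i)
    have hj0 : j ≠ 0 := by
      rintro rfl
      exact hne i (Finset.mem_range.1 hi) (Subgroup.index_eq_one.1 (by simpa using hj))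
    have h1 := (layerCent G i).card_mul_index
    rw [hj, Nat.card_eq_fintype_card, Nat.card_eq_fintype_card, Fintype.card_subtype] at h1
    have h2 := Finset.card_filter_add_card_filter_not (s := (Finset.univ : Finset G))
      (fun x => x ∈ layerCent G i)
    rw [Finset.card_univ] at h2
    have hpj : p ≤ p ^ j := Nat.le_self_pow hj0 p
    set a := (Finset.univ.filter fun x : G => x ∈ layerCent G i).card
    set d := (Finset.univ.filter fun x : G => x ∉ layerCent G i).card
    have h3 : a * p ≤ Fintype.card G := h1 ▸ Nat.mul_le_mul_left a hpj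
    obtain ⟨t, rfl⟩ : ∃ t, p = t + 1 := ⟨p - 1, by have := hp.one_le; omega⟩
    rw [Nat.add_sub_cancel]
    nlinarith
  have hsum := Finset.sum_le_sum (s := (Finset.univ : Finset G)) fun x _ => hone x
  simp only [Finset.card_filter] at hsum
  rw [Finset.sum_comm] at hsum
  simp only [← Finset.card_filter] at hsum
  have h1 := Finset.sum_le_sum hcnt
  rw [Finset.sum_const, Finset.card_range, smul_eq_mul, ← Finset.mul_sum] at h1
  have h2 : ∑ x : G, (if x = 1 then 0 else b) + b = Fintype.card G * b := by
    have h : ∀ x : G, (if x = 1 then 0 else b) + (if x = 1 then b else 0) = b := fun x => by split <;> simp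
    have h' := Finset.sum_congr (rfl : (Finset.univ : Finset G) = _) fun x _ => h x
    rw [Finset.sum_add_distrib, Finset.sum_ite_eq', if_pos (Finset.mem_univ _), Finset.sum_const,
      Finset.card_univ, smul_eq_mul] at h'
    exact h'
  have hpos : 0 < Fintype.card G := Fintype.card_pos
  by_contra hge
  push Not at hge
  have h3 := Nat.mul_le_mul_left (Fintype.card G) hge
  have h4 := Nat.mul_le_mul_left p hsum
  have h5 := Nat.mul_pos hp.pos hb0
  have h6 := congrArg (p * ·) h2
  simp only [mul_add] at h6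
  nlinarith

end Cfsg.Agent.S3778
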