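import Cfsg.Statements.S3780
import Mathlib

set_option autoImplicit false
open Cfsg

namespace Cfsg.Agent.S3780
theorem exists_generators {Q : Type*} [Group Q] [Finite Q] {p : ℕ} [Fact p.Prime] (hQ : IsPGroup p Q) :
    ∃ S : Finset Q, Subgroup.closure (S : Set Q) = ⊤ ∧ p ^ S.card ≤ Nat.card Q := by
  classical
  suffices h : ∀ m : ℕ, ∀ S : Finset Q, p ^ S.card ≤ Nat.card (Subgroup.closure (S : Set Q)) →
      (Subgroup.closure (S : Set Q)).index = m →
      ∃ T : Finset Q, Subgroup.closure (T : Set Q) = ⊤ ∧ p ^ T.card ≤ Nat.card Q from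
    h _ ∅ (by simp) rfl
  intro m
  induction m using Nat.strong_induction_on with
  | _ m ih =>
  intro S hS hm
  by_cases htop : Subgroup.closure (S : Set Q) = ⊤
  · exact ⟨S, htop, hS.trans (by rw [htop, Subgroup.card_top])⟩
  obtain ⟨x, -, hx⟩ := SetLike.exists_of_lt (lt_top_iff_ne_top.mpr htop)
  have hle : Subgroup.closure (S : Set Q) ≤ Subgroup.closure ((insert x S : Finset Q) : Set Q) :=
    Subgroup.closure_mono (by simp)
  have h1 := Subgroup.relIndex_mul_index hle
  have h2 := Subgroup.relIndex_mul_relIndex ⊥ _ _ bot_le hle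
  rw [Subgroup.relIndex_bot_left, Subgroup.relIndex_bot_left] at h2
  obtain ⟨e, he⟩ := IsPGroup.iff_card.mp (hQ.to_subgroup (Subgroup.closure ((insert x S : Finset Q) : Set Q)))
  have h3 : p ≤ (Subgroup.closure (S : Set Q)).relIndex (Subgroup.closure ((insert x S : Finset Q) : Set Q)) := by
    obtain ⟨i, _, hi⟩ := (Nat.dvd_prime_pow Fact.out).mp (he ▸ Dvd.intro_left _ h2)
    rw [hi]
    refine Nat.le_self_pow (fun h0 => hx ?_) p
    rw [h0, pow_zero] at hi
    exact Subgroup.relIndex_eq_one.mp hi (Subgroup.subset_closure (by simp))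
  have hpos : 0 < (Subgroup.closure ((insert x S : Finset Q) : Set Q)).index :=
    Nat.pos_of_ne_zero Subgroup.index_ne_zero_of_finite
  refine ih _ ?_ (insert x S) ?_ rfl
  · have hp2 := (Fact.out : p.Prime).two_le
    rw [← hm, ← h1]
    nlinarith
  · rw [Finset.card_insert_of_notMem fun h => hx (Subgroup.subset_closure h), pow_succ, ← h2]
    exact Nat.mul_le_mul hS h3


/-- Let V be a finite abelian p-group and α an automorphism of V of order p whose fixed-point subgroup has order p^n. Then V can be generated by pn elements: some subset of V with at most pn elements generates V. -/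
theorem result {V : Type*} [CommGroup V] [Finite V] {p : ℕ} [Fact p.Prime] (hV : IsPGroup p V) (α : MulAut V) (hα : orderOf α = p) (n : ℕ) (hfix : Nat.card {v : V // α v = v} = p ^ n) : ∃ S : Finset V, S.card ≤ p * n ∧ Subgroup.closure (S : Set V) = ⊤ := by
  have hp : p.Prime := Fact.out
  -- the elements of order dividing `p`
  set W : Subgroup V := (powMonoidHom p : V →* V).ker with hW
  have hWmem : ∀ v, v ∈ W ↔ v ^ p = 1 := fun v => MonoidHom.mem_ker
  have hαW : ∀ w ∈ W, α w ∈ W := fun w hw => by
    rw [hWmem] at hw ⊢; rw [← map_pow, hw, map_one]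
  let a : AddMonoid.End (Additive W) :=
    MonoidHom.toAdditive
      { toFun := fun w : W => (⟨α (w : V), hαW w w.2⟩ : W)
        map_one' := Subtype.ext (map_one α)
        map_mul' := fun u w => Subtype.ext (map_mul α (u : V) (w : V)) }
  have hpow : ∀ (k : ℕ) (w : W), ((Additive.toMul ((a ^ k) (Additive.ofMul w)) : W) : V) = (α ^ k) (w : V) := by
    intro k
    induction k with
    | zero => intro w; rfl
    | succ k ih =>
      intro w
      rw [pow_succ, pow_succ, AddMonoid.End.coe_mul, Function.comp_apply, MulAut.mul_apply]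
      exact ih _
  have hp0 : (p : AddMonoid.End (Additive W)) = 0 := by
    refine DFunLike.ext _ _ fun w => ?_
    rw [AddMonoid.End.natCast_apply]
    exact Subtype.ext (MonoidHom.mem_ker.mp (Additive.toMul w).2)
  have hap : a ^ p = 1 := by
    refine DFunLike.ext _ _ fun w => ?_
    apply Additive.toMul.injective
    apply Subtype.ext
    rw [show w = Additive.ofMul (Additive.toMul w) from rfl, hpow, ← hα, pow_orderOf_eq_one]
    rfl
  set d : AddMonoid.End (Additive W) := a - 1 with hd
  have hdp : d ^ p = 0 := by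
    obtain ⟨r, h1⟩ := Commute.exists_add_pow_prime_eq hp (Commute.one_right d)
    rw [hp0, zero_mul, zero_mul, zero_mul, add_zero, one_pow, hd, sub_add_cancel, hap] at h1
    exact (left_eq_add.mp (by rw [add_comm]; exact h1))
  -- the kernels of the powers of `d`
  have hker : ∀ k, Nat.card (AddMonoidHom.ker (d ^ k : AddMonoid.End (Additive W))) ≤ (p ^ n) ^ k := by
    have hfix1 : Nat.card (AddMonoidHom.ker (d : Additive W →+ Additive W)) ≤ p ^ n := by
      rw [← hfix]
      refine Nat.card_le_card_of_injective
        (fun z => ⟨((Additive.toMul (z : Additive W) : W) : V), ?_⟩) ?_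
      · have h1 : a (z : Additive W) = (z : Additive W) := sub_eq_zero.mp (AddMonoidHom.mem_ker.mp z.2)
        exact congrArg (fun t : Additive W => ((Additive.toMul t : W) : V)) h1
      · intro z z' h
        exact Subtype.ext (Additive.toMul.injective (Subtype.ext (Subtype.mk.inj h)))
    intro k
    induction k with
    | zero =>
      rw [pow_zero, pow_zero, show AddMonoidHom.ker (1 : AddMonoid.End (Additive W)) = ⊥ from
        (AddSubgroup.eq_bot_iff_forall _).mpr fun x hx => AddMonoidHom.mem_ker.mp hx]
      simp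
    | succ k ih =>
      -- `d` maps `ker d^(k+1)` into `ker d^k`
      let f : AddMonoidHom.ker (d ^ (k + 1) : AddMonoid.End (Additive W)) →+
          AddMonoidHom.ker (d ^ k : AddMonoid.End (Additive W)) :=
        ((d : Additive W →+ Additive W).comp (AddSubgroup.subtype _)).codRestrict _ fun z => by
          have h1 := AddMonoidHom.mem_ker.mp z.2
          refine AddMonoidHom.mem_ker.mpr ?_
          exact (congrArg (fun e : AddMonoid.End (Additive W) => e (z : Additive W)) (pow_succ d k).symm).trans h1
      rw [AddSubgroup.card_eq_card_quotient_mul_card_addSubgroup f.ker, pow_succ (p ^ n)]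
      refine Nat.mul_le_mul ?_ ?_
      · rw [Nat.card_congr (QuotientAddGroup.quotientKerEquivRange f).toEquiv]
        exact (Nat.card_le_card_of_injective _ Subtype.val_injective).trans ih
      · refine le_trans (Nat.card_le_card_of_injective
          (fun z => (⟨((z : AddMonoidHom.ker (d ^ (k + 1) : AddMonoid.End (Additive W))) : Additive W),
            congrArg Subtype.val (AddMonoidHom.mem_ker.mp z.2)⟩ : AddMonoidHom.ker (d : Additive W →+ Additive W))) ?_) hfix1
        intro z z' h
        have h2 := congrArg Subtype.val h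
        exact Subtype.ext (Subtype.ext h2)
  have hWcard : Nat.card W ≤ p ^ (p * n) := by
    have := hker p
    rw [hdp, show AddMonoidHom.ker (0 : AddMonoid.End (Additive W)) = ⊤ from AddMonoidHom.ker_zero,
      AddSubgroup.card_top, ← pow_mul, mul_comm] at this
    exact this
  -- `|V / V^p| = |W|`
  set R : Subgroup V := (powMonoidHom p : V →* V).range with hR
  have hQcard : Nat.card (V ⧸ R) = Nat.card W := by
    have h1 := R.card_eq_card_quotient_mul_card_subgroup
    have h2 := W.card_eq_card_quotient_mul_card_subgroup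
    rw [hW, Nat.card_congr (QuotientGroup.quotientKerEquivRange (powMonoidHom p : V →* V)).toEquiv,
      mul_comm, ← hR, h1] at h2
    exact Nat.eq_of_mul_eq_mul_right Nat.card_pos h2
  obtain ⟨S, hS, hScard⟩ := exists_generators (hV.to_quotient R)
  classical
  refine ⟨S.image Quotient.out, le_trans Finset.card_image_le ?_, ?_⟩
  · exact (Nat.pow_le_pow_iff_right hp.one_lt).mp (hScard.trans (hQcard ▸ hWcard))
  · set K := Subgroup.closure ((S.image Quotient.out : Finset V) : Set V) with hK
    have hKR : ∀ v, ∃ k ∈ K, ∃ r : V, v = k * r ^ p := by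
      intro v
      have h1 : K.map (QuotientGroup.mk' R) = ⊤ := by
        rw [eq_top_iff, ← hS, Subgroup.closure_le]
        intro s hs
        exact ⟨Quotient.out s, Subgroup.subset_closure (Finset.mem_image_of_mem _ hs),
          QuotientGroup.out_eq' s⟩
      obtain ⟨k, hk, hkv⟩ : QuotientGroup.mk' R v ∈ K.map (QuotientGroup.mk' R) := h1 ▸ trivial
      obtain ⟨r, hr⟩ : k⁻¹ * v ∈ R := QuotientGroup.eq.mp hkv
      exact ⟨k, hk, r, by rw [show r ^ p = k⁻¹ * v from hr, mul_inv_cancel_left]⟩
    have hiter : ∀ e : ℕ, ∀ v, ∃ k ∈ K, ∃ r : V, v = k * r ^ p ^ e := by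
      intro e
      induction e with
      | zero => intro v; exact ⟨1, K.one_mem, v, by simp⟩
      | succ e ih =>
        intro v
        obtain ⟨k, hk, r, rfl⟩ := ih v
        obtain ⟨k', hk', r', rfl⟩ := hKR r
        exact ⟨k * k' ^ p ^ e, K.mul_mem hk (K.pow_mem hk' _), r', by
          rw [mul_pow, ← pow_mul, pow_succ, mul_comm (p ^ e) p, mul_assoc]⟩
    obtain ⟨e, he⟩ := IsPGroup.iff_card.mp hV
    rw [eq_top_iff]
    intro v _
    obtain ⟨k, hk, r, rfl⟩ := hiter e v
    rw [← he, pow_card_eq_one', mul_one]
    exact hk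

end Cfsg.Agent.S3780
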