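import Cfsg.Statements.S3784
import Mathlib

set_option autoImplicit false
open Cfsg

namespace Cfsg.Agent.S3784

/-- Let p, q be primes and a, b positive integers with p^a = q^b + 1. Then either p = 2, b = 1, a is prime and q = 2^a − 1; or q = 2, a = 1, b is a power of 2 and p = 2^b + 1; or p^a = 9 and q^b = 8. -/
theorem result (p q a b : ℕ) (hp : p.Prime) (hq : q.Prime) (ha : 1 ≤ a) (hb : 1 ≤ b) (h : p ^ a = q ^ b + 1) : (p = 2 ∧ b = 1 ∧ a.Prime ∧ q + 1 = 2 ^ a) ∨ (q = 2 ∧ a = 1 ∧ (∃ m : ℕ, b = 2 ^ m) ∧ p = 2 ^ b + 1) ∨ (p ^ a = 9 ∧ q ^ b = 8) := by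
  have two_pow : ∀ {d n : ℕ}, d ∣ 2 ^ n → Odd d → d = 1 := by
    intro d n hd hodd
    obtain ⟨i, _, rfl⟩ := (Nat.dvd_prime_pow Nat.prime_two).mp hd
    rcases Nat.eq_zero_or_pos i with hi | hi
    · simp [hi]
    · exact absurd hodd (Nat.not_odd_iff_even.mpr (Nat.even_pow.mpr ⟨even_two, by omega⟩))
  have geo : ∀ (x n : ℕ), Odd x → (Odd (∑ i ∈ Finset.range n, x ^ i) ↔ Odd n) := by
    intro x n hx
    induction n with
    | zero => simp
    | succ n ih =>
      rw [Finset.sum_range_succ, Nat.odd_add, ih]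
      have hxn : ¬ Even (x ^ n) := Nat.not_even_iff_odd.mpr hx.pow
      simp only [hxn, iff_false, Nat.odd_add_one, Nat.not_odd_iff_even]
  rcases hq.eq_two_or_odd' with rfl | hqo
  · have hp2 : p ≠ 2 := by
      rintro rfl
      have h1 : (2 : ℕ) ∣ 2 ^ a := dvd_pow_self 2 (by omega)
      have h2 : (2 : ℕ) ∣ 2 ^ b := dvd_pow_self 2 (by omega)
      rw [h] at h1; omega
    have hpo : Odd p := hp.odd_of_ne_two hp2
    have hp3 : 3 ≤ p := by have := hp.two_le; omega
    rcases (show a = 1 ∨ 2 ≤ a by omega) with rfl | ha2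
    · refine Or.inr (Or.inl ⟨rfl, rfl, ?_, by simpa using h⟩)
      rw [pow_one] at h; subst h
      exact Nat.pow_of_pow_add_prime (by norm_num) (by omega) hp
    · rcases Nat.even_or_odd a with ⟨c, rfl⟩ | hao
      · refine Or.inr (Or.inr ?_)
        have hx : 3 ≤ p ^ c := le_trans hp3 (Nat.le_self_pow (by omega) p)
        have hf : (p ^ c - 1) * (p ^ c + 1) = 2 ^ b := by
          have : p ^ c * p ^ c = 2 ^ b + 1 := by rw [← pow_add]; exact h
          obtain ⟨y, hy⟩ : ∃ y, p ^ c = y + 1 := ⟨p ^ c - 1, by omega⟩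
          rw [hy] at this ⊢
          simp only [Nat.add_sub_cancel]
          nlinarith
        obtain ⟨i, _, hi⟩ := (Nat.dvd_prime_pow Nat.prime_two).mp ⟨_, hf.symm⟩
        obtain ⟨j, _, hj⟩ := (Nat.dvd_prime_pow Nat.prime_two).mp ⟨_, (hf.symm.trans (mul_comm _ _))⟩
        have hij : 2 ^ j = 2 ^ i + 2 := by omega
        have hi1 : i = 1 := by
          rcases (show i = 0 ∨ i = 1 ∨ 2 ≤ i by omega) with h0 | h1 | h2
          · subst h0; simp at hi; omega
          · exact h1
          · obtain ⟨i', rfl⟩ := Nat.exists_eq_add_of_le h2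
            rcases (show j ≤ 1 ∨ 2 ≤ j by omega) with hj1 | hj2
            · have : (2 : ℕ) ^ j ≤ 2 := le_trans (Nat.pow_le_pow_right (by omega) hj1) (by norm_num)
              have := Nat.two_pow_pos (2 + i'); omega
            · obtain ⟨j', rfl⟩ := Nat.exists_eq_add_of_le hj2
              rw [pow_add, pow_add] at hij; omega
        subst hi1
        have hx3 : p ^ c = 3 := by simp at hi; omega
        have h9 : p ^ (c + c) = 9 := by norm_num [pow_add, hx3]
        exact ⟨h9, by omega⟩
      · exfalso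
        have hS := (geo p a hpo).mpr hao
        obtain ⟨y, rfl⟩ : ∃ y, p = y + 1 := ⟨p - 1, by omega⟩
        have hm := geom_sum_mul_add y a
        have h2 : (∑ i ∈ Finset.range a, (y + 1) ^ i) * y = 2 ^ b := by omega
        have hone := two_pow ⟨y, h2.symm⟩ hS
        obtain ⟨a', rfl⟩ := Nat.exists_eq_add_of_le ha2
        rw [show 2 + a' = a' + 1 + 1 by ring, Finset.sum_range_succ', Finset.sum_range_succ'] at hone
        simp at hone
  · have hp2 : p = 2 := by
      by_contra hne
      have h1 : Odd (p ^ a) := (hp.odd_of_ne_two hne).pow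
      have h2 : Odd (q ^ b) := hqo.pow
      rw [h] at h1
      exact (Nat.odd_add_one.mp h1) h2
    subst hp2
    have hq3 : 3 ≤ q := by have := hq.two_le; rcases hqo with ⟨k, hk⟩; omega
    have hb1 : b = 1 := by
      rcases Nat.even_or_odd b with ⟨c, rfl⟩ | hbo
      · exfalso
        obtain ⟨k, hk⟩ : Odd (q ^ c) := hqo.pow
        have hq3c : 3 ≤ q ^ c := le_trans hq3 (Nat.le_self_pow (by omega) q)
        have hsq : q ^ (c + c) + 1 = 4 * (k * k + k) + 2 := by rw [pow_add, hk]; ring
        rcases (show a = 1 ∨ 2 ≤ a by omega) with rfl | ha2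
        · simp at h; omega
        · obtain ⟨a', rfl⟩ := Nat.exists_eq_add_of_le ha2
          rw [pow_add] at h; omega
      · -- q + 1 divides q ^ b + 1 with odd cofactor
        have hd : (q : ℤ) ^ b + 1 = (∑ i ∈ Finset.range b, (-(q : ℤ)) ^ i) * ((q : ℤ) + 1) := by
          have := geom_sum_mul (-(q : ℤ)) b
          rw [hbo.neg_pow] at this
          linarith
        set T := ∑ i ∈ Finset.range b, (-(q : ℤ)) ^ i with hT
        have hTodd : Odd T := by
          rw [← Int.not_even_iff_odd, even_iff_two_dvd]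
          intro hT2
          have : ((2 : ℕ) : ℤ) ∣ T := hT2
          rw [← ZMod.intCast_zmod_eq_zero_iff_dvd] at this
          rw [hT] at this
          push_cast at this
          have hq2 : (q : ZMod 2) = 1 := by
            rw [← Nat.cast_one, ZMod.natCast_eq_natCast_iff']
            rcases hqo with ⟨k, hk⟩; omega
          have hneg : (-1 : ZMod 2) = 1 := by decide
          rw [hq2, hneg] at this
          simp at this
          rw [ZMod.natCast_eq_zero_iff_even] at this
          exact (Nat.not_even_iff_odd.mpr hbo) this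
        have hTpos : 0 < T := by
          have h0 : (0 : ℤ) < (q : ℤ) ^ b + 1 := by positivity
          rw [hd] at h0
          exact pos_of_mul_pos_left h0 (by positivity)
        obtain ⟨t, ht⟩ : ∃ t : ℕ, (t : ℤ) = T := ⟨T.toNat, by omega⟩
        have ht2 : q ^ b + 1 = t * (q + 1) := by
          have : ((q ^ b + 1 : ℕ) : ℤ) = ((t * (q + 1) : ℕ) : ℤ) := by push_cast; rw [ht]; exact hd
          exact_mod_cast this
        have hto : Odd t := by rw [← ht] at hTodd; exact_mod_cast hTodd
        have := two_pow (n := a) ⟨q + 1, h.trans ht2⟩ hto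
        subst this
        rw [one_mul, add_left_inj] at ht2
        by_contra hne
        have : q ^ 1 < q ^ b := Nat.pow_lt_pow_right (by omega) (by omega)
        simp at this; omega
    subst hb1
    rw [pow_one] at h
    refine Or.inl ⟨rfl, rfl, ?_, h.symm⟩
    have ha2 : 2 ≤ a := by
      by_contra h'
      have : a = 1 := by omega
      subst this; simp at h; omega
    have : (2 ^ a - 1).Prime := by rw [h]; simpa using hq
    exact (Nat.prime_of_pow_sub_one_prime (by omega) this).2

end Cfsg.Agent.S3784
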