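import Cfsg.Statements.S3785
import Mathlib
import Cfsg.Agent.Lib.Core.Fitting
import Cfsg.Agent.Lib.CoprimeOmega.Basic

set_option autoImplicit false
open Cfsg

namespace Cfsg.Agent.S3785
open Cfsg.Agent.Lib
open scoped commutatorElement

theorem mem_pCore_of_mem_fitting {G : Type*} [Group G] [Finite G] {q : ℕ} [Fact q.Prime] {x : G}
    (hx : x ∈ Cfsg.fittingSubgroup G) {e : ℕ} (he : x ^ q ^ e = 1) : x ∈ Cfsg.pCore q G := by
  set K := (Cfsg.pCore q G).subgroupOf (Cfsg.fittingSubgroup G)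
  have h1 : (⟨x, hx⟩ : Cfsg.fittingSubgroup G) ^ K.index ∈ K := K.pow_index_mem _
  have hcop : Nat.Coprime (q ^ e) K.index :=
    Nat.Coprime.pow_left _ ((Fact.out : q.Prime).coprime_iff_not_dvd.mpr
      (Fitting.not_dvd_relIndex_pCore_fitting (G := G) q))
  have h2 : x ^ K.index ∈ Cfsg.pCore q G := h1
  have h3 : x ^ ((q ^ e).gcd K.index) ∈ Cfsg.pCore q G := by
    obtain ⟨u, v, huv⟩ : ∃ u v : ℤ, ((q ^ e).gcd K.index : ℤ) = (q ^ e : ℕ) * u + (K.index : ℕ) * v :=
      ⟨_, _, Nat.gcd_eq_gcd_ab _ _⟩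
    rw [← zpow_natCast, huv, zpow_add, zpow_mul, zpow_mul, zpow_natCast, zpow_natCast, he, one_zpow,
      one_mul]
    exact (Cfsg.pCore q G).zpow_mem h2 _
  rwa [hcop.gcd_eq_one, pow_one] at h3

theorem mem_iSup_pCore {G : Type*} [Group G] [Finite G] {q : ℕ} (hq : q.Prime) {b : G}
    (hb : b ∈ Cfsg.fittingSubgroup G) {N : ℕ} (hbN : b ^ N = 1) (hN : ¬ q ∣ N) :
    b ∈ ⨆ p : {p : ℕ // p.Prime ∧ p ≠ q}, Cfsg.pCore (p : ℕ) G := by
  set K := ⨆ p : {p : ℕ // p.Prime ∧ p ≠ q}, Cfsg.pCore (p : ℕ) G with hK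
  haveI : K.Normal := Subgroup.sSup_normal _ (by rintro _ ⟨p, rfl⟩; infer_instance)
  have hne : K.relIndex (Cfsg.fittingSubgroup G) ≠ 0 := Subgroup.index_ne_zero_of_finite
  have h1 : ∀ {d : ℕ}, d.Prime → d ∣ K.relIndex (Cfsg.fittingSubgroup G) → d = q := by
    intro d hd hdvd
    by_contra hdq
    haveI := Fact.mk hd
    exact Fitting.not_dvd_relIndex_pCore_fitting (G := G) d (hdvd.trans (Subgroup.relIndex_dvd_of_le_left _
      (le_iSup (fun p : {p : ℕ // p.Prime ∧ p ≠ q} => Cfsg.pCore (p : ℕ) G) ⟨d, hd, hdq⟩)))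
  have h2 := Nat.eq_prime_pow_of_unique_prime_dvd hne h1
  set e := (K.relIndex (Cfsg.fittingSubgroup G)).primeFactorsList.length
  have h3 : b ^ (q ^ e) ∈ K := h2 ▸ (K.subgroupOf (Cfsg.fittingSubgroup G)).pow_index_mem ⟨b, hb⟩
  have h4 : Nat.gcd (q ^ e) N = 1 := Nat.Coprime.pow_left _ (hq.coprime_iff_not_dvd.mpr hN)
  have h5 := Nat.gcd_eq_gcd_ab (q ^ e) N
  rw [h4, Nat.cast_one] at h5
  rw [← zpow_one b, h5, zpow_add, zpow_mul, zpow_mul, zpow_natCast, zpow_natCast, hbN, one_zpow, mul_one]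
  exact K.zpow_mem h3 _

theorem mem_fitting_of_commute {G : Type*} [Group G] [Finite G] (hG : Group.IsSolvable G)
    (hodd : Odd (Nat.card (Cfsg.fittingSubgroup G))) (g : G)
    (hg : ∀ x ∈ Cfsg.fittingSubgroup G, (orderOf x).Prime → g * x = x * g) :
    g ∈ Cfsg.fittingSubgroup G := by
  classical
  haveI := hG
  set F := Cfsg.fittingSubgroup G
  haveI hFn : F.Normal := Fitting.fittingSubgroup_normal
  -- the elements centralising all elements of prime order of `F`
  set C : Subgroup G := Subgroup.centralizer {x | x ∈ F ∧ (orderOf x).Prime} with hC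
  haveI hCn : C.Normal := by
    refine ⟨fun c hc a => Subgroup.mem_centralizer_iff.mpr fun x hx => ?_⟩
    have hx' : a⁻¹ * x * a ∈ {x | x ∈ F ∧ (orderOf x).Prime} := by
      refine ⟨by simpa using hFn.conj_mem x hx.1 a⁻¹, ?_⟩
      rw [show orderOf (a⁻¹ * x * a) = orderOf x from by
        simpa using orderOf_injective (MulAut.conj a⁻¹).toMonoidHom (MulAut.conj a⁻¹).injective x]
      exact hx.2
    have h := Subgroup.mem_centralizer_iff.mp hc _ hx'
    calc x * (a * c * a⁻¹) = a * ((a⁻¹ * x * a) * c) * a⁻¹ := by group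
      _ = a * (c * (a⁻¹ * x * a)) * a⁻¹ := by rw [h]
      _ = a * c * a⁻¹ * x := by group
  have hgC : g ∈ C := Subgroup.mem_centralizer_iff.mpr fun x hx => (hg x hx.1 hx.2).symm
  -- a `p'`-element of `C` centralises `O_p(G)`
  have key : ∀ (p : ℕ) [Fact p.Prime], ∀ c ∈ C, (orderOf c).Coprime p →
      ∀ x ∈ Cfsg.pCore p G, c * x = x * c := by
    intro p hp c hc hcp x hx
    by_cases hp2 : p = 2
    · subst hp2
      have h1 : Cfsg.pCore 2 G = ⊥ := by
        obtain ⟨k, hk⟩ := IsPGroup.iff_card.mp (PSolvable.pCore_isPGroup (p := 2) (G := G))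
        refine Subgroup.card_eq_one.mp ?_
        rcases Nat.eq_zero_or_pos k with h | h
        · rw [hk, h, pow_zero]
        · exfalso
          refine Nat.not_even_iff_odd.mpr hodd (even_iff_two_dvd.mpr ?_)
          exact ((dvd_pow_self 2 h.ne').trans hk.symm.dvd).trans
            (Subgroup.card_dvd_of_le (Fitting.pCore_le_fittingSubgroup 2))
      rw [h1, Subgroup.mem_bot] at hx
      rw [hx, mul_one, one_mul]
    · refine CoprimeOmega.commute_of_commute_order_p hp2 hcp (D := Cfsg.pCore p G) PSolvable.pCore_isPGroup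
        (fun y hy => ((inferInstance : (Cfsg.pCore p G).Normal)).conj_mem y hy c) (fun y hy hyp => ?_) x hx
      by_cases hy1 : y = 1
      · rw [hy1, mul_one, one_mul]
      · refine (Subgroup.mem_centralizer_iff.mp hc y ⟨Fitting.pCore_le_fittingSubgroup p hy, ?_⟩).symm
        rw [orderOf_eq_prime hyp hy1]; exact hp.out
  have hF : ∀ z, (∀ (p : ℕ) [Fact p.Prime], ∀ f ∈ Cfsg.pCore p G, f * z = z * f) →
      z ∈ Subgroup.centralizer (F : Set G) := by
    intro z hz
    rw [Subgroup.mem_centralizer_iff]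
    intro f hf
    have hle : F ≤ Subgroup.centralizer ({z} : Set G) := by
      rw [show F = ⨆ p : Nat.Primes, Cfsg.pCore (p : ℕ) G from Fitting.fittingSubgroup_eq_iSup_pCore]
      refine iSup_le fun p f hf => ?_
      haveI := Fact.mk p.2
      exact Subgroup.mem_centralizer_singleton_iff.mpr (hz p f hf)
    exact Subgroup.mem_centralizer_singleton_iff.mp (hle hf)
  -- elements of coprime order in `C` commute
  have hcomm : ∀ (q : ℕ) [Fact q.Prime], ∀ x ∈ C, ∀ y ∈ C, (∃ m, x ^ q ^ m = 1) → (orderOf y).Coprime q →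
      x * y = y * x := by
    intro q hq x hx y hy ⟨m, hm⟩ hyq
    have hxp : ∀ (p : ℕ) [Fact p.Prime], p ≠ q → (orderOf x).Coprime p := fun p hp hpq =>
      Nat.Coprime.coprime_dvd_left (orderOf_dvd_of_pow_eq_one hm)
        (((Nat.coprime_primes hq.out hp.out).mpr fun h => hpq h.symm).pow_left m)
    -- the action on each `O_p(G)`
    have hact : ∀ (p : ℕ) [Fact p.Prime], ∀ f ∈ Cfsg.pCore p G, ∀ w : G,
        w * f * w⁻¹ ∈ Cfsg.pCore p G := fun p _ f hf w =>
      (inferInstance : (Cfsg.pCore p G).Normal).conj_mem f hf w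
    set c := x * y * x⁻¹ * y⁻¹ with hc
    have hcC : c ∈ C := C.mul_mem (C.mul_mem (C.mul_mem hx hy) (C.inv_mem hx)) (C.inv_mem hy)
    have hcZ : c ∈ Subgroup.centralizer (F : Set G) := by
      refine hF c fun p hp f hf => ?_
      by_cases hpq : p = q
      · subst hpq
        have h1 : Commute y f := key p y hy hyq f hf
        have h2 : Commute y (x⁻¹ * f * x) := key p y hy hyq _ (by simpa using hact p f hf x⁻¹)
        calc f * c = x * ((x⁻¹ * f * x) * y) * x⁻¹ * y⁻¹ := by rw [hc]; group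
          _ = x * (y * (x⁻¹ * f * x)) * x⁻¹ * y⁻¹ := by rw [h2.eq]
          _ = x * y * x⁻¹ * (f * y⁻¹) := by group
          _ = x * y * x⁻¹ * (y⁻¹ * f) := by rw [h1.symm.inv_right.eq]
          _ = c * f := by rw [hc]; group
      · have h1 : Commute x f := key p x hx (hxp p hpq) f hf
        have h2 : Commute x (y * f * y⁻¹) := key p x hx (hxp p hpq) _ (hact p f hf y)
        have h2' : Commute x (y⁻¹ * f * y) := key p x hx (hxp p hpq) _ (by simpa using hact p f hf y⁻¹)
        calc f * c = (f * x) * (y * x⁻¹ * y⁻¹) := by rw [hc]; group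
          _ = (x * f) * (y * x⁻¹ * y⁻¹) := by rw [h1.eq]
          _ = x * y * ((y⁻¹ * f * y) * x⁻¹) * y⁻¹ := by group
          _ = x * y * (x⁻¹ * (y⁻¹ * f * y)) * y⁻¹ := by rw [h2'.symm.inv_right.eq]
          _ = c * f := by rw [hc]; group
    have hcF : c ∈ F := Fitting.centralizer_fittingSubgroup_le hcZ
    -- `q`-part and `q'`-part of `c`
    obtain ⟨e, N, hN, hord⟩ : ∃ e N, ¬ q ∣ N ∧ orderOf c = q ^ e * N :=
      Nat.exists_eq_pow_mul_and_not_dvd (orderOf_pos c).ne' q hq.out.ne_one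
    have hcop : Nat.Coprime (q ^ e) N := Nat.Coprime.pow_left _ (hq.out.coprime_iff_not_dvd.mpr hN)
    obtain ⟨u, v, huv⟩ : ∃ u v : ℤ, (1 : ℤ) = (q ^ e : ℕ) * u + (N : ℕ) * v :=
      ⟨_, _, by have := Nat.gcd_eq_gcd_ab (q ^ e) N; rwa [hcop.gcd_eq_one] at this⟩
    set a := (c ^ N) ^ v
    set b := (c ^ (q ^ e)) ^ u
    have hab : c = a * b := by
      conv_lhs => rw [← zpow_one c, huv, add_comm, zpow_add, zpow_mul, zpow_mul, zpow_natCast, zpow_natCast]
    have haq : a ∈ Cfsg.pCore q G := by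
      refine (Cfsg.pCore q G).zpow_mem (mem_pCore_of_mem_fitting (F.pow_mem hcF N) (e := e) ?_) v
      rw [← pow_mul, mul_comm, ← hord, pow_orderOf_eq_one]
    have hbN : b ^ N = 1 := by
      show ((c ^ q ^ e) ^ u) ^ N = 1
      rw [← zpow_natCast, ← zpow_mul, mul_comm, zpow_mul, zpow_natCast, ← pow_mul, ← hord,
        pow_orderOf_eq_one, one_zpow]
    have hbF : b ∈ F := F.zpow_mem (F.pow_mem hcF _) u
    have hbx : Commute x b := by
      have hle : F ⊓ Subgroup.zpowers b ≤ Subgroup.centralizer ({x} : Set G) ⊔ ⊥ := by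
        intro z hz
        rw [sup_bot_eq]
        obtain ⟨t, rfl⟩ := Subgroup.mem_zpowers_iff.mp hz.2
        refine (Subgroup.centralizer ({x} : Set G)).zpow_mem ?_ t
        have hbdec : b ∈ ⨆ p : {p : ℕ // p.Prime ∧ p ≠ q}, Cfsg.pCore (p : ℕ) G := by
          by_contra hnb
          exact hnb (mem_iSup_pCore hq.out hbF hbN hN)
        refine (show (⨆ p : {p : ℕ // p.Prime ∧ p ≠ q}, Cfsg.pCore (p : ℕ) G) ≤ _ from ?_) hbdec
        refine iSup_le fun p f hf => ?_
        haveI := Fact.mk p.2.1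
        exact Subgroup.mem_centralizer_singleton_iff.mpr (key p x hx (hxp p p.2.2) f hf).symm
      have := hle ⟨hbF, Subgroup.mem_zpowers b⟩
      rw [sup_bot_eq] at this
      exact (Subgroup.mem_centralizer_singleton_iff.mp this).symm
    have hba : Commute b a := (Commute.pow_pow_self c _ _).zpow_zpow u v
    have hiter : ∀ i : ℕ, ∃ s ∈ Cfsg.pCore q G, x ^ i * y * (x ^ i)⁻¹ = s * b ^ i * y := by
      intro i
      induction i with
      | zero => exact ⟨1, one_mem _, by simp⟩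
      | succ i ih =>
        obtain ⟨s, hs, hi⟩ := ih
        refine ⟨x * s * x⁻¹ * a, mul_mem (hact q s hs x) haq, ?_⟩
        calc x ^ (i + 1) * y * (x ^ (i + 1))⁻¹ = x * (x ^ i * y * (x ^ i)⁻¹) * x⁻¹ := by
              rw [pow_succ']; group
          _ = x * s * x⁻¹ * (x * b ^ i * x⁻¹) * (c * y) := by rw [hi, hc]; group
          _ = x * s * x⁻¹ * b ^ i * (a * b * y) := by
              rw [(hbx.pow_right i).eq, mul_inv_cancel_right, hab]
          _ = x * s * x⁻¹ * (b ^ i * a) * b * y := by group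
          _ = x * s * x⁻¹ * a * b ^ (i + 1) * y := by rw [(hba.pow_left i).eq, pow_succ]; group
    obtain ⟨s, hs, hsm⟩ := hiter (q ^ m)
    rw [hm, one_mul, inv_one, mul_one] at hsm
    have hb1 : b = 1 := by
      have h1 : b ^ q ^ m ∈ Cfsg.pCore q G := by
        rw [eq_inv_of_mul_eq_one_right (mul_right_cancel (hsm.symm.trans (one_mul y).symm))]
        exact inv_mem hs
      obtain ⟨r, hr⟩ := PSolvable.pCore_isPGroup (p := q) (G := G) ⟨_, h1⟩
      have hr' : (b ^ q ^ m) ^ q ^ r = 1 := congrArg Subtype.val hr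
      rw [← pow_mul, ← pow_add] at hr'
      rw [← orderOf_eq_one_iff]
      exact Nat.eq_one_of_dvd_coprimes (Nat.Coprime.pow_left _ (hq.out.coprime_iff_not_dvd.mpr hN))
        (orderOf_dvd_of_pow_eq_one hr') (orderOf_dvd_of_pow_eq_one hbN)
    rw [hab, hb1, mul_one] at hc
    have hya : Commute y a := key q y hy hyq a haq
    have hxy : x * y * x⁻¹ = a * y := by rw [hc]; group
    have h5 : a ^ orderOf y = 1 := by
      have h6 := congrArg (· ^ orderOf y) hxy
      simp only [conj_pow, pow_orderOf_eq_one, hya.symm.mul_pow, mul_one] at h6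
      rw [mul_inv_cancel] at h6
      exact h6.symm
    obtain ⟨r, hr⟩ := PSolvable.pCore_isPGroup (p := q) (G := G) ⟨_, haq⟩
    have ha1 : a = 1 := by
      rw [← orderOf_eq_one_iff]
      exact Nat.eq_one_of_dvd_coprimes (hyq.pow_right r) (orderOf_dvd_of_pow_eq_one h5)
        (orderOf_dvd_of_pow_eq_one (congrArg Subtype.val hr :))
    rw [ha1, one_mul, mul_inv_eq_iff_eq_mul] at hxy
    exact hxy
  -- `C` is nilpotent
  suffices hnil : Group.IsNilpotent C from Fitting.le_fittingSubgroup hnil hgC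
  refine ((Group.isNilpotent_of_finite_tfae (G := C)).out 0 3).mpr ?_
  intro q hq Q
  haveI := hq
  rw [← Subgroup.normalizer_eq_top_iff]
  refine Fitting.eq_top_of_sylow_le fun r hr => ?_
  haveI := Fact.mk hr
  by_cases hrq : r = q
  · subst hrq; exact ⟨Q, Subgroup.le_normalizer⟩
  obtain ⟨R⟩ := (inferInstance : Nonempty (Sylow r C))
  refine ⟨R, fun y hy => ?_⟩
  refine Subgroup.centralizer_le_normalizer _ (Subgroup.mem_centralizer_iff.mpr fun x hx => ?_)
  obtain ⟨m, hm⟩ := Q.2 ⟨x, hx⟩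
  obtain ⟨t, ht⟩ := R.2 ⟨y, hy⟩
  have hm' : (x : G) ^ q ^ m = 1 := congrArg (fun z : (Q : Subgroup C) => ((z : C) : G)) hm
  have ht' : (y : G) ^ r ^ t = 1 := congrArg (fun z : (R : Subgroup C) => ((z : C) : G)) ht
  exact Subtype.ext (hcomm q x x.2 y y.2 ⟨m, hm'⟩ (Nat.Coprime.coprime_dvd_left
    (orderOf_dvd_of_pow_eq_one ht') (((Nat.coprime_primes hr hq.out).mpr hrq).pow_left t)))


/-- Let G be a finite solvable group whose Fitting subgroup F(G) has odd order. If an element g of G commutes with every element of prime order of F(G), then g ∈ F(G). -/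
theorem result {G : Type*} [Group G] [Finite G] (hG : Group.IsSolvable G) (hodd : Odd (Nat.card (Cfsg.fittingSubgroup G))) (g : G) (hg : ∀ x ∈ Cfsg.fittingSubgroup G, (orderOf x).Prime → g * x = x * g) : g ∈ Cfsg.fittingSubgroup G := by
  exact mem_fitting_of_commute hG hodd g hg

end Cfsg.Agent.S3785
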