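import Cfsg.Statements.S3787
import Cfsg.Agent.Lib.HallHigmanB.PLength
import Cfsg.Agent.Lib.HallHigmanB.WreathSection

set_option autoImplicit false
open Cfsg

namespace Cfsg.Agent.S3787

/-- Let G be a finite p-soluble group, p an odd prime not of the form 2^k + 1, and suppose the wreath product C_p ≀ C_p (of order p^(p+1)) is not involved in a Sylow p-subgroup of G: no section of a Sylow p-subgroup is isomorphic to it. Then G has p-length at most 1. -/
theorem result {G : Type*} [Group G] [Finite G] {p : ℕ} [Fact p.Prime] (hp2 : p ≠ 2) (hnf : (¬ ∃ k : ℕ, p = 2 ^ k + 1)) (hG : Cfsg.IsPSolvable p G) (P : Sylow p G) (hwr : ∀ (W : Type) [Group W] [Finite W], (∃ (B : Subgroup W) (t : W), B.Normal ∧ IsMulCommutative B ∧ (∀ b ∈ B, b ^ p = 1) ∧ Nat.card B = p ^ p ∧ orderOf t = p ∧ t ∉ B ∧ Nat.card W = p ^ (p + 1) ∧ Nat.card ↥(B ⊓ Subgroup.centralizer ({t} : Set W)) = p) → ¬ Cfsg.Involves W ↥(P : Subgroup G)) : Cfsg.PLengthLE p 1 G := by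
  by_contra hnot
  have hq : ∀ q b : ℕ, q.Prime → 1 ≤ b → p - 1 = q ^ b →
      ∃ Q : Sylow q G, IsMulCommutative (Q : Subgroup G) := by
    intro q b hq hb h
    exfalso
    have hp' : p.Prime := Fact.out
    have h2 : 2 ∣ p - 1 := by
      obtain ⟨k, hk⟩ := hp'.odd_of_ne_two hp2
      exact ⟨k, by omega⟩
    rw [h] at h2
    obtain rfl : 2 = q := (Nat.prime_dvd_prime_iff_eq Nat.prime_two hq).1 (Nat.prime_two.dvd_of_dvd_pow h2)
    exact hnf ⟨b, by have := hp'.two_le; omega⟩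
  obtain ⟨G₁, _, _, f, E, g, e, hEc, hEp, hEn, hEP, hgP, hgE, hgp, he, hne, hind⟩ :=
    Cfsg.Agent.Lib.HallHigmanB.exists_free_cycle hG hnot P hq
  haveI := hEn
  obtain ⟨W, _, _, hW, hinv⟩ :=
    Cfsg.Agent.Lib.HallHigmanB.exists_wreath_section hEc hEp hEP hgP hgE hgp he hne hind
  exact hwr W hW (Cfsg.Agent.Lib.Involves.of_quotient (f.subgroupMap (P : Subgroup G))
    (MonoidHom.subgroupMap_surjective _ _) hinv)

end Cfsg.Agent.S3787
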