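import Cfsg.Statements.S3788
import Cfsg.Agent.Lib.CyclicPNormal.Basic
import Cfsg.Agent.Lib.PSolvable.HallHigman
import Cfsg.Agent.Lib.PGroup.ActionStable
import Cfsg.Agent.Lib.OddStability.Stable

set_option autoImplicit false
open Cfsg Cfsg.Agent.Lib

namespace Cfsg.Agent.S3788

/-- Let G be a finite p-soluble group, P a Sylow p-subgroup of G and A a cyclic normal subgroup of P. If p is odd, or if no section of G is isomorphic to the symmetric group of degree 4, then A ≤ O_{p',p}(G). -/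
theorem result {G : Type*} [Group G] [Finite G] {p : ℕ} [Fact p.Prime] (hG : Cfsg.IsPSolvable p G) (P : Sylow p G) (A : Subgroup G) (hAP : A ≤ (P : Subgroup G)) (hAn : (P : Subgroup G) ≤ Subgroup.normalizer (A : Set G)) (hA : IsCyclic A) (h : p ≠ 2 ∨ ¬ Cfsg.Involves (Equiv.Perm (Fin 4)) G) : A ≤ Cfsg.pPrimePCore p G := by
  classical
  have hp : p.Prime := Fact.out
  haveI : (pPrimeCore p G).Normal := inferInstance
  set q₁ := QuotientGroup.mk' (pPrimeCore p G) with hq₁
  set V₀ := pCore p (G ⧸ pPrimeCore p G) with hV₀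
  haveI : V₀.Normal := inferInstance
  have hV₀p : IsPGroup p V₀ := PSolvable.pCore_isPGroup
  have hC₀ : Subgroup.centralizer (V₀ : Set _) ≤ V₀ :=
    PSolvable.centralizer_pCore_le_of_isPSolvable
      (PSolvable.isPSolvable_quotient hG _) PSolvable.pPrimeCore_quotient_eq_bot
  set Φ := (frattini V₀).map V₀.subtype with hΦ
  haveI : Φ.Normal := ConjAct.normal_of_characteristic_of_normal
  set q₂ := QuotientGroup.mk' Φ with hq₂
  have hq₂s : Function.Surjective q₂ := QuotientGroup.mk'_surjective _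
  set V := V₀.map q₂ with hV
  have hVn : V.Normal := Subgroup.Normal.map inferInstance _ hq₂s
  have hVe : IsElementaryAbelian p V := ActionStable.isElementaryAbelian_frattiniQuotient V₀ hV₀p
  have hmax : ∀ N : Subgroup _, N.Normal → IsPGroup p N → N ≤ V := by
    intro N hN hNp
    have hker : IsPGroup p q₂.ker := by
      rw [hq₂, QuotientGroup.ker_mk']; exact hV₀p.to_le (Subgroup.map_subtype_le _)
    intro x hx
    obtain ⟨y, rfl⟩ := hq₂s x
    haveI := hN
    exact ⟨y, PSolvable.le_pCore (hNp.comap_of_ker_isPGroup q₂ hker) hx, rfl⟩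
  have hC : Subgroup.centralizer (V : Set ((G ⧸ pPrimeCore p G) ⧸ Φ)) ≤ V := by
    haveI : (Subgroup.centralizer (V : Set ((G ⧸ pPrimeCore p G) ⧸ Φ))).Normal := by
      haveI := hVn; infer_instance
    refine hmax _ inferInstance ?_
    intro ⟨x, hx⟩
    obtain ⟨d, rfl⟩ := hq₂s x
    obtain ⟨k, hk⟩ := OddStability.exists_pow_mem_centralizer_of_frattini hV₀p (d := d)
      (by rw [Subgroup.normalizer_eq_top]; exact Subgroup.mem_top d)
      (fun v hv => (QuotientGroup.eq_one_iff (N := Φ) _).1 (by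
        have h1 := Subgroup.mem_centralizer_iff.1 hx (q₂ v) ⟨v, hv, rfl⟩
        show q₂ (d * v * d⁻¹ * v⁻¹) = 1
        simp only [map_mul, map_inv]
        rw [← h1, mul_inv_cancel_right, mul_inv_cancel]))
    obtain ⟨l, hl⟩ := hV₀p ⟨_, hC₀ hk⟩
    refine ⟨k + l, Subtype.ext ?_⟩
    have hl' : (d ^ p ^ k) ^ p ^ l = 1 := congrArg Subtype.val hl
    show q₂ d ^ p ^ (k + l) = 1
    rw [pow_add, pow_mul, ← map_pow, ← map_pow, hl', map_one]
  -- the generator
  obtain ⟨⟨g, hg⟩, hgen⟩ := hA.exists_zpow_surjective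
  have hgen' : ∀ x ∈ A, x ∈ Subgroup.zpowers g := fun x hx => by
    obtain ⟨n, hn⟩ := hgen ⟨x, hx⟩
    exact ⟨n, congrArg Subtype.val hn⟩
  have hkey : q₂ (q₁ g) ∈ V := by
    have h4 : p ≠ 2 ∨ ¬ Cfsg.Involves (Equiv.Perm (Fin 4)) ((G ⧸ pPrimeCore p G) ⧸ Φ) := by
      refine h.imp id fun hn hi => hn ?_
      exact Involves.of_quotient q₁ (QuotientGroup.mk'_surjective _) (Involves.of_quotient q₂ hq₂s hi)
    refine CyclicPNormal.mem_of_cyclic_normalized hVn hVe hC hmax h4 ?_ ?_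
    · obtain ⟨i, hi⟩ := P.2 ⟨g, hAP hg⟩
      refine ⟨i, ?_⟩
      have hi' : g ^ p ^ i = 1 := congrArg Subtype.val hi
      rw [← map_pow, ← map_pow, hi', map_one, map_one]
    · rintro _ ⟨v, hv, rfl⟩
      have hv' : v ∈ P.mapSurjective (f := q₁) (QuotientGroup.mk'_surjective _) :=
        PSolvable.pCore_le_sylow _ hv
      change v ∈ ((P.mapSurjective (f := q₁) (QuotientGroup.mk'_surjective _) : Sylow p _) : Subgroup _) at hv'
      rw [Sylow.coe_mapSurjective] at hv'
      obtain ⟨y, hy, rfl⟩ := hv'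
      have : y * g * y⁻¹ ∈ Subgroup.zpowers g :=
        hgen' _ ((Subgroup.mem_normalizer_iff.1 (hAn hy) g).1 hg)
      obtain ⟨n, hn⟩ := this
      simp only at hn
      refine ⟨n, ?_⟩
      show q₂ (q₁ g) ^ n = _
      rw [← map_zpow, ← map_zpow, hn]
      simp [map_mul, map_inv]
  have hg' : g ∈ Cfsg.pPrimePCore p G := by
    obtain ⟨v, hv, hvg⟩ := hkey
    have h1 : v⁻¹ * q₁ g ∈ Φ := by
      rw [← QuotientGroup.eq_one_iff]
      show q₂ (v⁻¹ * q₁ g) = 1
      rw [map_mul, map_inv, hvg, inv_mul_cancel]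
    have h2 : q₁ g ∈ V₀ := by
      have := V₀.mul_mem hv (Subgroup.map_subtype_le _ h1)
      rwa [mul_inv_cancel_left] at this
    exact h2
  intro x hx
  obtain ⟨n, rfl⟩ := hgen' x hx
  exact zpow_mem hg' n


end Cfsg.Agent.S3788
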