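import Cfsg.Statements.S3790
import Cfsg.Agent.Lib.PLengthBound.Basic

set_option autoImplicit false
open Cfsg

namespace Cfsg.Agent.S3790

open Cfsg.Agent.Lib.PLengthBound Cfsg.Agent.Lib.PSolvable

variable {G₀ : Type*} [Group G₀] [Finite G₀] {p : ℕ}

theorem step [Fact p.Prime] {r : ℕ} {q : Fin r → ℕ} (hq : ∀ i, (q i).Prime ∧ q i ≠ p)
    (hcover : ∀ s : ℕ, s.Prime → s ∣ Nat.card G₀ → s ≠ p → ∃ i, q i = s) {l : Fin r → ℕ}
    (hl : ∀ i, PLengthLE (q i) (l i) G₀) (s : Finset (Fin r)) :
    ∀ (A B : Subgroup G₀), A.Normal → B.Normal → A ≤ B →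
      (∀ i ∉ s, (A.relIndex B).Coprime (q i)) → ∀ k, A ≤ (upperPSeries p G₀ (2 * k + 1)).1 →
        B ≤ (upperPSeries p G₀ (2 * (k + ∏ i ∈ s, (1 + l i)) + 1)).1 := by
  classical
  induction s using Finset.induction_on with
  | empty =>
    intro A B _ _ _ hc k hA
    have h : A.relIndex B = p ^ (A.relIndex B).primeFactorsList.length := by
      refine Nat.eq_prime_pow_of_unique_prime_dvd Subgroup.index_ne_zero_of_finite ?_
      intro d hd hdd
      by_contra hne
      obtain ⟨i, rfl⟩ := hcover d hd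
        (hdd.trans ((Subgroup.index_dvd_card _).trans (Subgroup.card_subgroup_dvd_card B))) hne
      exact hd.not_dvd_one (((hc i (Finset.notMem_empty i)).coprime_dvd_left hdd).eq_one_of_dvd dvd_rfl ▸ dvd_rfl)
    rw [Finset.prod_empty]
    exact (le_succ_of_pow hA h).trans (upperPSeries_mono (by omega))
  | @insert i s his ih =>
    intro A B hAn hBn hAB hc k hA
    haveI := Fact.mk (hq i).1
    set P := ∏ x ∈ s, (1 + l x) with hP
    have key : ∀ j, A ⊔ ((upperPSeries (q i) G₀ j).1 ⊓ B) ≤
        (upperPSeries p G₀ (2 * (k + (j + 1) / 2 * P) + 1)).1 := by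
      intro j
      induction j with
      | zero =>
        rw [upperPSeries_zero, bot_inf_eq, sup_bot_eq]
        simpa using hA
      | succ j hj =>
        set W := (upperPSeries (q i) G₀ j).1 with hW
        set W' := (upperPSeries (q i) G₀ (j + 1)).1 with hW'
        haveI : (A ⊔ (W ⊓ B)).Normal := inferInstance
        haveI : (A ⊔ (W' ⊓ B)).Normal := inferInstance
        have hWW : W ≤ W' := upperPSeries_le_succ j
        have hle : A ⊔ (W ⊓ B) ≤ A ⊔ (W' ⊓ B) := sup_le_sup_left (inf_le_inf_right B hWW) A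
        have heq : A ⊔ (W' ⊓ B) = (A ⊔ (W ⊓ B)) ⊔ (W' ⊓ B) := by
          rw [sup_assoc, sup_eq_right.2 (inf_le_inf_right B hWW)]
        have hd1 : (A ⊔ (W ⊓ B)).relIndex (A ⊔ (W' ⊓ B)) ∣ W.relIndex W' := by
          rw [heq, sup_comm (A ⊔ (W ⊓ B)) (W' ⊓ B), Subgroup.relIndex_sup_right]
          refine (Subgroup.relIndex_dvd_of_le_left (W' ⊓ B) (le_sup_right (a := A))).trans ?_
          refine dvd_trans (dvd_of_eq ?_) (relIndex_dvd_relIndex_right (inf_le_left (b := B)))
          rw [← Subgroup.inf_relIndex_right W (W' ⊓ B), ← Subgroup.inf_relIndex_right (W ⊓ B) (W' ⊓ B)]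
          congr 1
          rw [inf_comm W' B, ← inf_assoc, ← inf_assoc, inf_assoc W B B, inf_idem]
        have hd2 : (A ⊔ (W ⊓ B)).relIndex (A ⊔ (W' ⊓ B)) ∣ A.relIndex B :=
          (Subgroup.relIndex_dvd_of_le_left _ le_sup_left).trans
            (relIndex_dvd_relIndex_right (sup_le hAB inf_le_right))
        by_cases hje : Even j
        · have := ih (A ⊔ (W ⊓ B)) (A ⊔ (W' ⊓ B)) inferInstance inferInstance hle (fun x hx => by
            by_cases hxi : x = i
            · subst hxi
              exact (relIndex_upperPSeries_even hje).coprime_dvd_left hd1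
            · exact (hc x (by simp [hxi, hx])).coprime_dvd_left hd2) _ hj
          refine this.trans (le_of_eq ?_)
          obtain ⟨t, rfl⟩ := hje
          rw [show (t + t + 1 + 1) / 2 = (t + t + 1) / 2 + 1 by omega, add_mul, one_mul, add_assoc]
        · obtain ⟨m, hm⟩ := relIndex_upperPSeries_odd (p := q i) (G := G₀) hje
          have := le_of_coprime (p := p) (B := A ⊔ (W' ⊓ B)) hj
            (Nat.Coprime.coprime_dvd_left hd1 (hm ▸ Nat.Coprime.pow_left m
              ((Nat.coprime_primes (hq i).1 Fact.out).2 (hq i).2)))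
          obtain ⟨t, rfl⟩ := Nat.not_even_iff_odd.1 hje
          rwa [show (2 * t + 1 + 1 + 1) / 2 = (2 * t + 1 + 1) / 2 by omega]
    have hfin := key (2 * l i + 1)
    rw [show (upperPSeries (q i) G₀ (2 * l i + 1)).1 = ⊤ from hl i, top_inf_eq,
      sup_eq_right.2 hAB] at hfin
    rw [Finset.prod_insert his, ← hP]
    refine hfin.trans (le_of_eq ?_)
    rw [show (2 * l i + 1 + 1) / 2 = 1 + l i by omega]


/-- Let G be a finite solvable group and p a prime. Suppose p₁, …, p_r are distinct primes, all different from p, that include every prime dividing the order of G other than p, and that G has p_i-length at most l_i for each i. Then G has p-length at most the product of the numbers 1 + l_i. -/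
theorem result {G : Type*} [Group G] [Finite G] (hG : Group.IsSolvable G) (p : ℕ) [Fact p.Prime] (r : ℕ) (q : Fin r → ℕ) (hq : ∀ i, (q i).Prime ∧ q i ≠ p) (hinj : Function.Injective q) (hcover : ∀ s : ℕ, s.Prime → s ∣ Nat.card G → s ≠ p → ∃ i, q i = s) (l : Fin r → ℕ) (hl : ∀ i, Cfsg.PLengthLE (q i) (l i) G) : Cfsg.PLengthLE p (Finset.univ.prod fun i => 1 + l i) G := by
  have h := step (p := p) hq hcover hl Finset.univ ⊥ ⊤ inferInstance inferInstance bot_le
    (fun i hi => absurd (Finset.mem_univ i) hi) 0 bot_le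
  rw [zero_add] at h
  exact top_le_iff.1 h

end Cfsg.Agent.S3790
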