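import Cfsg.Statements.S3791
import Cfsg.Agent.Lib.PLengthBound.Basic

set_option autoImplicit false
open Cfsg

namespace Cfsg.Agent.S3791

open Cfsg.Agent.Lib.PLengthBound Cfsg.Agent.Lib.PSolvable

universe u

theorem derived_bound (r : ℕ) (q : Fin r → ℕ) (hq : ∀ i, (q i).Prime) (d : Fin r → ℕ) :
    ∀ (n : ℕ) {G : Type u} [Group G] [Finite G] (l : Fin r → ℕ), Nat.card G = n →
      (∀ s : ℕ, s.Prime → s ∣ Nat.card G → ∃ i, q i = s) →
      (∀ i, ∀ S : Sylow (q i) G, derivedSeries ↥(S : Subgroup G) (d i) = ⊥) →
      (∀ i, PLengthLE (q i) (l i) G) →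
      derivedSeries G (∑ i, d i * l i) = ⊥ := by
  intro n
  induction n using Nat.strong_induction_on with
  | _ n ih =>
  intro G _ _ l hn hcover hd hl
  classical
  set N := ∑ i, d i * l i with hN
  by_cases htriv : Nat.card G = 1
  · have := (Nat.card_eq_one_iff_unique.1 htriv).1
    exact Subgroup.eq_bot_of_subsingleton _
  -- quotient data
  have hquot : ∀ (K : Subgroup G) [K.Normal], K ≠ ⊥ → ∀ l' : Fin r → ℕ,
      (∀ i, PLengthLE (q i) (l' i) (G ⧸ K)) →
      derivedSeries G (∑ i, d i * l' i) ≤ K := by
    intro K _ hK l' hl'
    have hlt : Nat.card (G ⧸ K) < n := by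
      rw [← hn]
      have h1 := Subgroup.card_eq_card_quotient_mul_card_subgroup K
      have h2 : 1 < Nat.card K := Subgroup.one_lt_card_iff_ne_bot _ |>.2 hK
      have h3 : 0 < Nat.card (G ⧸ K) := Nat.card_pos
      nlinarith
    have hs : Function.Surjective (QuotientGroup.mk' K) := QuotientGroup.mk'_surjective K
    have h := ih _ hlt (G := G ⧸ K) l' rfl
      (fun s hs' hdvd => hcover s hs' (hdvd.trans (Subgroup.card_quotient_dvd_card K)))
      (fun i T => by
        haveI := Fact.mk (hq i)
        obtain ⟨S, rfl⟩ := Sylow.mapSurjective_surjective hs (q i) T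
        have hsur : Function.Surjective ((QuotientGroup.mk' K).subgroupMap (S : Subgroup G)) :=
          MonoidHom.subgroupMap_surjective _ _
        have h := map_derivedSeries_eq hsur (d i)
        rw [hd i S, Subgroup.map_bot] at h
        exact h.symm) hl'
    have hm := map_derivedSeries_eq hs (∑ i, d i * l' i)
    rw [h, Subgroup.map_eq_bot_iff, QuotientGroup.ker_mk'] at hm
    exact hm
  by_cases hall : ∀ i, pPrimeCore (q i) G ≠ ⊥
  · -- every p'-core is nontrivial
    rw [eq_bot_iff]
    intro x hx
    rw [Subgroup.mem_bot]
    by_contra hx1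
    obtain ⟨s, hs, hsd⟩ := Nat.exists_prime_and_dvd (mt orderOf_eq_one_iff.1 hx1)
    obtain ⟨i, rfl⟩ := hcover s hs (hsd.trans (orderOf_dvd_natCard x))
    haveI := Fact.mk hs
    have hmem := hquot (pPrimeCore (q i) G) (hall i) l (fun j => by
      haveI := Fact.mk (hq j)
      exact pLengthLE_of_surjective (QuotientGroup.mk'_surjective _) (hl j)) hx
    have := hsd.trans ((pPrimeCore (q i) G).orderOf_dvd_natCard hmem)
    exact pPrimeCore_not_dvd this
  · push Not at hall
    obtain ⟨i, hi⟩ := hall
    haveI := Fact.mk (hq i)
    set U := (upperPSeries (q i) G 2).1 with hU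
    have hU1 : (upperPSeries (q i) G 1).1 = ⊥ := by rw [upperPSeries_one, hi]
    have hUne : U ≠ ⊥ := by
      intro hbot
      have hz : ∀ m, (upperPSeries (q i) G (2 * m + 1)).1 = ⊥ := by
        intro m
        induction m with
        | zero => exact hU1
        | succ m hm =>
          have h := comap_upperPSeries (p := q i) (f := MonoidHom.id G) Function.surjective_id
            (by norm_num : Even 2) (by rw [MonoidHom.ker_id, ← hU, hbot]) (2 * m + 1)
          rw [Subgroup.comap_id, hm] at h
          rw [show 2 * (m + 1) + 1 = 2 * m + 1 + 2 by ring, ← h]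
      have htop : (⊥ : Subgroup G) = ⊤ := (hz (l i)).symm.trans (hl i)
      exact htriv (by rw [← Subgroup.card_top (G := G), ← htop, Subgroup.card_bot])
    have hUp : IsPGroup (q i) U := by
      rw [hU, upperPSeries_succ_of_odd (n := 1) (by simp)]
      refine pCore_isPGroup.comap_of_ker_isPGroup _ ?_
      rw [QuotientGroup.ker_mk', hU1]
      exact IsPGroup.of_bot
    obtain ⟨k, hk⟩ : ∃ k, l i = k + 1 := by
      refine ⟨l i - 1, ?_⟩
      rcases Nat.eq_zero_or_pos (l i) with h0 | h0
      · exfalso
        have h := hl i
        unfold PLengthLE at h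
        rw [h0, hU1] at h
        exact htriv (by rw [← Subgroup.card_top (G := G), ← h, Subgroup.card_bot])
      · omega
    set l' := Function.update l i k with hl'
    have hlq : ∀ j, PLengthLE (q j) (l' j) (G ⧸ U) := by
      intro j
      haveI := Fact.mk (hq j)
      by_cases hji : j = i
      · subst hji
        rw [hl', Function.update_self]
        have h := hl j
        unfold PLengthLE at h ⊢
        rw [hk, show 2 * (k + 1) + 1 = 2 * k + 1 + 2 by ring,
          ← comap_upperPSeries (p := q j) (f := QuotientGroup.mk' U) (QuotientGroup.mk'_surjective U)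
            (by norm_num : Even 2) (QuotientGroup.ker_mk' U)] at h
        exact Subgroup.comap_injective (QuotientGroup.mk'_surjective U)
          (h.trans (Subgroup.comap_top _).symm)
      · rw [hl', Function.update_of_ne hji]
        exact pLengthLE_of_surjective (QuotientGroup.mk'_surjective U) (hl j)
    have hle := hquot U hUne l' hlq
    obtain ⟨S, hS⟩ := hUp.exists_le_sylow
    have hsum : N = ∑ j, d j * l' j + d i := by
      rw [hN, ← Finset.add_sum_erase _ _ (Finset.mem_univ i),
        ← Finset.add_sum_erase _ (fun j => d j * l' j) (Finset.mem_univ i)]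
      simp only [hl', Function.update_self]
      have : ∀ j ∈ Finset.univ.erase i, d j * Function.update l i k j = d j * l j := fun j hj => by
        rw [Function.update_of_ne (Finset.ne_of_mem_erase hj)]
      rw [Finset.sum_congr rfl this, hk]; ring
    have hadd : ∀ m, derivedSeries G ((∑ j, d j * l' j) + m) ≤
        (derivedSeries ↥(S : Subgroup G) m).map (S : Subgroup G).subtype := by
      intro m
      induction m with
      | zero =>
        rw [Nat.add_zero, derivedSeries_zero, ← MonoidHom.range_eq_map, Subgroup.range_subtype]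
        exact hle.trans hS
      | succ m hm =>
        rw [← Nat.add_assoc, derivedSeries_succ, derivedSeries_succ, Subgroup.map_commutator]
        exact Subgroup.commutator_mono hm hm
    have h := hadd (d i)
    rw [hd i S, Subgroup.map_bot, ← hsum] at h
    exact le_bot_iff.1 h


/-- The Hall–Higman bound on derived length: let G be a finite solvable group, let p₁, …, p_r be distinct primes that include every prime dividing the order of G, and suppose that for each i the Sylow p_i-subgroups of G have derived length at most d_i and G has p_i-length at most l_i. Then G has derived length at most Σ d_i l_i. -/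
theorem result {G : Type*} [Group G] [Finite G] (hG : Group.IsSolvable G) (r : ℕ) (q : Fin r → ℕ) (hq : ∀ i, (q i).Prime) (hinj : Function.Injective q) (hcover : ∀ s : ℕ, s.Prime → s ∣ Nat.card G → ∃ i, q i = s) (d l : Fin r → ℕ) (hd : ∀ i, ∀ P : Subgroup G, (haveI := Fact.mk (hq i); ∃ S : Sylow (q i) G, (S : Subgroup G) = P) → derivedSeries ↥P (d i) = ⊥) (hl : ∀ i, Cfsg.PLengthLE (q i) (l i) G) : derivedSeries G (Finset.univ.sum fun i => d i * l i) = ⊥ := by
  exact derived_bound r q hq d (Nat.card G) l rfl hcover
    (fun i S => hd i _ ⟨S, rfl⟩) hl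

end Cfsg.Agent.S3791
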