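import Cfsg.Statements.S3796
import Cfsg.Agent.Lib.Ward.Reduction
import Cfsg.Agent.Lib.Coprime.Semidirect

set_option autoImplicit false
open Cfsg

namespace Cfsg.Agent.S3796

/-- Ward's Theorem: let G be a finite solvable group and A an elementary abelian group of automorphisms of G of order p² (p a prime) with no non-identity common fixed point. Then G has Fitting height at most 2: G has Fitting height at most m when there is a chain of normal subgroups 1 = F₀ ≤ F₁ ≤ ⋯ ≤ F_m = G with each F_{i+1}/F_i nilpotent. -/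
theorem result {G : Type*} [Group G] [Finite G] (hG : Group.IsSolvable G) {p : ℕ} (hp : p.Prime) (A : Subgroup (MulAut G)) (hA : Cfsg.IsElementaryAbelian p A) (hcard : Nat.card A = p ^ 2) (hfpf : ∀ g : G, (∀ a ∈ A, a g = g) → g = 1) : ∃ F : Fin (2 + 1) → Subgroup G, F 0 = ⊥ ∧ F (Fin.last 2) = ⊤ ∧ Monotone F ∧ (∀ i, (F i).Normal) ∧ ∀ i : Fin 2, ∃ k : ℕ, (F i.succ).lowerCentralSeries k ≤ F i.castSucc := by
  classical
  set L := (⊤ : Subgroup G).lowerCentralSeries with hL
  have hstat : ∃ k, ⁅L k, (⊤ : Subgroup G)⁆ = L k := by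
    by_contra h
    push Not at h
    have hlt : ∀ k, Nat.card (L (k + 1)) < Nat.card (L k) := by
      intro k
      refine lt_of_le_of_ne (Nat.le_of_dvd Nat.card_pos (Subgroup.card_dvd_of_le
        ((⊤ : Subgroup G).lowerCentralSeries_antitone (Nat.le_succ k)))) fun hc => h k ?_
      exact Subgroup.eq_of_le_of_card_ge
        ((⊤ : Subgroup G).lowerCentralSeries_antitone (Nat.le_succ k)) hc.ge
    exact Nat.not_lt_zero _ (lt_of_lt_of_le Nat.card_pos
      ((fun (k : ℕ) => (show Nat.card (L k) + k ≤ Nat.card (L 0) by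
        induction k with
        | zero => simp
        | succ k ih => have := hlt k; omega)) (Nat.card (L 0)) |> fun e => (by omega :
          Nat.card (L (Nat.card (L 0))) ≤ 0)))
  obtain ⟨k, hk⟩ := hstat
  let Γ := G ⋊[A.subtype] A
  haveI : Finite Γ := Cfsg.Agent.Lib.Coprime.finite_semidirect A.subtype
  let f : G →* Γ := SemidirectProduct.inl
  let A' : Subgroup Γ := (SemidirectProduct.inr : A →* Γ).range
  have hrange : (⊤ : Subgroup G).map f = f.range := (MonoidHom.range_eq_map f).symm
  have hN : f.range.Normal := by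
    show (SemidirectProduct.inl : G →* Γ).range.Normal
    rw [SemidirectProduct.range_inl_eq_ker_rightHom]
    exact MonoidHom.normal_ker _
  have hA' : Cfsg.IsElementaryAbelian p A' := by
    refine ⟨⟨⟨fun a c => ?_⟩⟩, ?_⟩
    · obtain ⟨_, x, rfl⟩ := a
      obtain ⟨_, y, rfl⟩ := c
      refine Subtype.ext ?_
      show (SemidirectProduct.inr x : Γ) * SemidirectProduct.inr y =
        SemidirectProduct.inr y * SemidirectProduct.inr x
      rw [← map_mul, ← map_mul, hA.1.is_comm.comm x y]
    · rintro _ ⟨a, rfl⟩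
      rw [← map_pow, show a ^ p = 1 from Subtype.ext (by simpa using hA.2 a a.2), map_one]
  have hfix : f.range ⊓ Subgroup.centralizer (A' : Set Γ) = ⊥ := by
    refine le_bot_iff.mp ?_
    rintro _ ⟨⟨g, rfl⟩, hg⟩
    rw [Subgroup.mem_bot, hfpf g fun a ha =>
      (Cfsg.Agent.Lib.Coprime.mem_centralizer_inr_iff A.subtype).mp hg ⟨a, ha⟩, map_one]
  haveI := hG
  have hnil := Cfsg.Agent.Lib.Ward.isNilpotent_lowerCentralSeries hp _ Γ A' f.range hN rfl
    (Group.isSolvable_of_surjective f.rangeRestrict_surjective) hA'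
    ((Cfsg.Agent.Lib.Coprime.card_inr_range A.subtype).trans hcard) hfix k
    (by rw [← hrange, ← Subgroup.map_lowerCentralSeries, ← Subgroup.map_commutator]
        exact congrArg (Subgroup.map f) hk)
  rw [← hrange, ← Subgroup.map_lowerCentralSeries] at hnil
  have hLnil : Group.IsNilpotent (L k) := by
    haveI := hnil
    exact Group.nilpotent_of_surjective
      ((L k).equivMapOfInjective f SemidirectProduct.inl_injective).symm.toMonoidHom
      (MulEquiv.surjective _)
  obtain ⟨m, hm⟩ := (Subgroup.isNilpotent_iff_lowerCentralSeries (L k)).mp hLnil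
  have hLn : (L k).Normal := inferInstanceAs ((⊤ : Subgroup G).lowerCentralSeries k).Normal
  refine ⟨![⊥, L k, ⊤], rfl, rfl, ?_, ?_, ?_⟩
  · refine Fin.monotone_iff_le_succ.mpr fun i => ?_
    fin_cases i
    · exact bot_le
    · exact le_top
  · intro i
    fin_cases i
    · exact Subgroup.normal_bot
    · exact hLn
    · exact Subgroup.normal_top
  · intro i
    fin_cases i
    · exact ⟨m, hm.le⟩
    · exact ⟨k, le_rfl⟩

end Cfsg.Agent.S3796
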