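import Cfsg.Statements.S3797
import Cfsg.Agent.Lib.InvolutionsConj.Main
import Cfsg.Agent.Lib.InvolutionsConj.Homocyclic
import Cfsg.Agent.Lib.PSolvable.Series

set_option autoImplicit false
set_option linter.style.haveILetI false
open Cfsg

namespace Cfsg.Agent.S3797

open Subgroup Cfsg.Agent.Lib

theorem odd_card_series_one {G : Type*} [Group G] [Finite G] :
    Odd (Nat.card (upperPSeries 2 G 1).1) := by
  rw [PSolvable.upperPSeries_one]
  exact Nat.coprime_two_right.1 PSolvable.pPrimeCore_coprime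

theorem exists_involution_lift {G : Type*} [Group G] [Finite G] (N : Subgroup G) [N.Normal]
    (hN : Odd (Nat.card N)) {x : G ⧸ N} (hx : x ^ 2 = 1) :
    ∃ g : G, (g : G ⧸ N) = x ∧ g ^ 2 = 1 := by
  obtain ⟨g, rfl⟩ := QuotientGroup.mk_surjective x
  refine ⟨g ^ Nat.card N, ?_, ?_⟩
  · obtain ⟨k, hk⟩ := hN
    rw [QuotientGroup.mk_pow, hk, pow_succ, pow_mul, hx, one_pow, one_mul]
  · have h2 : g ^ 2 ∈ N := by
      rw [← QuotientGroup.eq_one_iff, QuotientGroup.mk_pow, hx]
    have h3 : (⟨g ^ 2, h2⟩ : N) ^ Nat.card N = 1 := pow_card_eq_one'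
    rw [← pow_mul, mul_comm, pow_mul]
    exact congrArg Subtype.val h3

theorem exists_quotient_hyp {G : Type*} [Group G] [Finite G] (hG : Group.IsSolvable G)
    (S : Sylow 2 G)
    (htwo : ∃ x y : G, x ∈ (S : Subgroup G) ∧ y ∈ (S : Subgroup G) ∧ x ≠ y ∧ x ≠ 1 ∧ x ^ 2 = 1 ∧
      y ≠ 1 ∧ y ^ 2 = 1)
    (hconj : ∀ x y : G, x ≠ 1 → x ^ 2 = 1 → y ≠ 1 → y ^ 2 = 1 → IsConj x y) :
    InvolutionsConj.Hyp (G ⧸ (upperPSeries 2 G 1).1) := by
  haveI := hG
  set N := (upperPSeries 2 G 1).1 with hN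
  have hS : ∀ g ∈ (S : Subgroup G), (g : G ⧸ N) = 1 → g = 1 := by
    intro g hg hgN
    obtain ⟨k, hk⟩ := S.2 ⟨g, hg⟩
    have h3 : (⟨g, (QuotientGroup.eq_one_iff g).1 hgN⟩ : N) ^ Nat.card N = 1 := pow_card_eq_one'
    exact InvolutionsConj.eq_one_of_coprime_pow
      (Nat.Coprime.pow_left k (Nat.coprime_two_left.2 odd_card_series_one))
      (congrArg Subtype.val hk) (congrArg Subtype.val h3)
  refine ⟨inferInstance, PSolvable.pPrimeCore_quotient_upperPSeries_eq_bot (by simp),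
    ?_, ?_⟩
  · obtain ⟨x, y, hx, hy, hxy, hx1, hx2, hy1, hy2⟩ := htwo
    refine ⟨x, y, fun e => hxy ?_, fun e => hx1 (hS x hx e), ?_, fun e => hy1 (hS y hy e), ?_⟩
    · exact (inv_mul_eq_one.1 (hS _ (mul_mem (inv_mem hx) hy)
        ((QuotientGroup.eq_one_iff _).2 (QuotientGroup.eq.1 e))))
    · rw [← QuotientGroup.mk_pow, hx2, QuotientGroup.mk_one]
    · rw [← QuotientGroup.mk_pow, hy2, QuotientGroup.mk_one]
  · intro x y hx1 hx2 hy1 hy2
    obtain ⟨a, rfl, ha⟩ := exists_involution_lift N odd_card_series_one hx2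
    obtain ⟨b, rfl, hb⟩ := exists_involution_lift N odd_card_series_one hy2
    exact (QuotientGroup.mk' N).map_isConj (hconj a b (fun e => hx1 (by rw [e]; rfl)) ha
      (fun e => hy1 (by rw [e]; rfl)) hb)

/-- Let G be a finite solvable group of even order whose Sylow 2-subgroups contain more than one involution, and suppose all involutions of G are conjugate. Then G has 2-length at most 1, and a Sylow 2-subgroup S of G is either homocyclic (a direct product of cyclic groups of one common order) or a non-abelian 2-group with more than one involution admitting a solvable group of automorphisms transitive on its involutions. -/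
theorem result {G : Type*} [Group G] [Finite G] (hG : Group.IsSolvable G) (heven : Even (Nat.card G)) (S : Sylow 2 G) (htwo : ∃ x y : G, x ∈ (S : Subgroup G) ∧ y ∈ (S : Subgroup G) ∧ x ≠ y ∧ x ≠ 1 ∧ x ^ 2 = 1 ∧ y ≠ 1 ∧ y ^ 2 = 1) (hconj : ∀ x y : G, x ≠ 1 → x ^ 2 = 1 → y ≠ 1 → y ^ 2 = 1 → IsConj x y) : Cfsg.PLengthLE 2 1 G ∧ ((∃ m r : ℕ, Nonempty (↥(S : Subgroup G) ≃* (Fin r → Multiplicative (ZMod (2 ^ m))))) ∨ (¬ IsMulCommutative (S : Subgroup G) ∧ ∃ Y : Subgroup (MulAut ↥(S : Subgroup G)), Group.IsSolvable Y ∧ ∀ x y : ↥(S : Subgroup G), x ≠ 1 → x ^ 2 = 1 → y ≠ 1 → y ^ 2 = 1 → ∃ a ∈ Y, a x = y)) := by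
  haveI : Fact (Nat.Prime 2) := ⟨Nat.prime_two⟩
  haveI := hG
  set N := (upperPSeries 2 G 1).1 with hN
  set π := QuotientGroup.mk' N with hπ
  have hH := exists_quotient_hyp hG S htwo hconj
  let T : Sylow 2 (G ⧸ N) := S.mapSurjective (QuotientGroup.mk'_surjective N)
  have hT : (T : Subgroup (G ⧸ N)) = pCore 2 (G ⧸ N) :=
    le_antisymm (InvolutionsConj.sylow_le_pCore hH T) (PSolvable.pCore_le_sylow T)
  have hSle : (S : Subgroup G) ≤ (upperPSeries 2 G 2).1 := by
    rw [PSolvable.upperPSeries_succ_of_odd (n := 1) (by simp), ← map_le_iff_le_comap, ← hT]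
    exact le_of_eq (Sylow.coe_mapSurjective (QuotientGroup.mk'_surjective N) S).symm
  refine ⟨?_, ?_⟩
  · show (upperPSeries 2 G (2 + 1)).1 = ⊤
    rw [PSolvable.upperPSeries_succ_of_even (by simp),
      show pPrimeCore 2 (G ⧸ (upperPSeries 2 G 2).1) = ⊤ from
        top_le_iff.1 (PSolvable.le_pPrimeCore (N := (⊤ : Subgroup _)) ?_), comap_top]
    rw [card_top, ← index_eq_card]
    exact (Nat.prime_two.coprime_iff_not_dvd.2
      fun hd => S.not_dvd_index (hd.trans (index_dvd_of_le hSle))).symm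
  -- transport the conjugation action to `S`
  haveI : (T : Subgroup (G ⧸ N)).Normal := by
    haveI : (pCore 2 (G ⧸ N)).Characteristic := PSolvable.pCore_characteristic
    rw [hT]; infer_instance
  have hinj : ∀ g ∈ (S : Subgroup G), π g = 1 → g = 1 := by
    intro g hg hgN
    obtain ⟨k, hk⟩ := S.2 ⟨g, hg⟩
    have h3 : (⟨g, (QuotientGroup.eq_one_iff g).1 hgN⟩ : N) ^ Nat.card N = 1 := pow_card_eq_one'
    exact InvolutionsConj.eq_one_of_coprime_pow
      (Nat.Coprime.pow_left k (Nat.coprime_two_left.2 odd_card_series_one))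
      (congrArg Subtype.val hk) (congrArg Subtype.val h3)
  let f : (S : Subgroup G) →* (T : Subgroup (G ⧸ N)) := π.subgroupMap (S : Subgroup G)
  have hf : Function.Bijective f := by
    refine ⟨(injective_iff_map_eq_one f).2 fun g hg => Subtype.ext (hinj g g.2 ?_),
      π.subgroupMap_surjective _⟩
    exact congrArg Subtype.val hg
  let e : (S : Subgroup G) ≃* (T : Subgroup (G ⧸ N)) := MulEquiv.ofBijective f hf
  let ψ : G →* MulAut ↥(S : Subgroup G) :=
    (MulAut.congr e.symm).toMonoidHom.comp (MulAut.conjNormal.comp π)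
  haveI : Group.IsSolvable ψ.range := solvable_of_surjective ψ.rangeRestrict_surjective
  have htrans : ∀ x y : ↥(S : Subgroup G), x ≠ 1 → x ^ 2 = 1 → y ≠ 1 → y ^ 2 = 1 →
      ∃ a ∈ ψ.range, a x = y := by
    intro x y hx1 hx2 hy1 hy2
    obtain ⟨g, hg⟩ := isConj_iff.1 (hconj x y (fun h => hx1 (Subtype.ext h))
      (congrArg Subtype.val hx2) (fun h => hy1 (Subtype.ext h)) (congrArg Subtype.val hy2))
    refine ⟨ψ g, ⟨g, rfl⟩, ?_⟩
    show e.symm (MulAut.conjNormal (π g) (e x)) = y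
    rw [MulEquiv.symm_apply_eq]
    apply Subtype.ext
    rw [MulAut.conjNormal_apply]
    show π g * π x * (π g)⁻¹ = π y
    rw [← hg, map_mul, map_mul, map_inv]
  by_cases hc : IsMulCommutative (S : Subgroup G)
  · letI : CommGroup ↥(S : Subgroup G) :=
      { (inferInstance : Group ↥(S : Subgroup G)) with mul_comm := hc.is_comm.comm }
    exact Or.inl (InvolutionsConj.exists_homocyclic_equiv S.2 fun x y hx1 hx2 hy1 hy2 =>
      (htrans x y hx1 hx2 hy1 hy2).elim fun a ha => ⟨a, ha.2⟩)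
  · exact Or.inr ⟨hc, ψ.range, inferInstance, htrans⟩

end Cfsg.Agent.S3797
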