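import Cfsg.Statements.S3798
import Cfsg.Agent.Lib.PSolvable.Series
import Cfsg.Agent.Lib.PSolvable.HallHigman
import Cfsg.Agent.Lib.PSolvable.PSolv
import Cfsg.Agent.Lib.SZ.Conjugacy
import Cfsg.Agent.Lib.CoprimeOmega.Basic

set_option autoImplicit false
set_option maxHeartbeats 400000
open Cfsg

namespace Cfsg.Agent.S3798

open scoped Pointwise
open Cfsg.Agent.Lib.PSolvable

/-- An element of prime order fixed by a property that powers and automorphisms preserve. -/
theorem forall_order_p {Q : Type*} [Group Q] {p : ℕ}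
    (htr : ∀ U V : Subgroup Q, Nat.card U = p → Nat.card V = p →
      ∃ a : MulAut Q, U.map a.toMonoidHom = V)
    (P : Q → Prop) (hpow : ∀ (x : Q) (i : ℤ), P x → P (x ^ i))
    (haut : ∀ (a : MulAut Q) (x : Q), P x → P (a x))
    {w : Q} (hw : orderOf w = p) (hPw : P w) : ∀ u : Q, orderOf u = p → P u := by
  intro u hu
  obtain ⟨a, ha⟩ := htr (Subgroup.zpowers w) (Subgroup.zpowers u)
    (by rw [Nat.card_zpowers, hw]) (by rw [Nat.card_zpowers, hu])
  have hm : u ∈ (Subgroup.zpowers w).map a.toMonoidHom := by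
    rw [ha]; exact Subgroup.mem_zpowers u
  obtain ⟨y, hy, rfl⟩ := hm
  obtain ⟨i, rfl⟩ := hy
  exact haut a _ (hpow w i hPw)

theorem core_case {Q : Type*} [Group Q] [Finite Q] {p : ℕ} [hpf : Fact p.Prime] (hp : p ≠ 2)
    (hQ : Cfsg.IsPSolvable p Q) (hcore : Cfsg.pPrimeCore p Q = ⊥)
    (htr : ∀ U V : Subgroup Q, Nat.card U = p → Nat.card V = p →
      ∃ a : MulAut Q, U.map a.toMonoidHom = V) :
    ¬ p ∣ (Cfsg.pCore p Q).index := by
  intro hdvd
  set V := Cfsg.pCore p Q with hV
  have hVp : IsPGroup p V := pCore_isPGroup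
  have hVchar : V.Characteristic := pCore_characteristic
  have hVaut : ∀ (a : MulAut Q) (x : Q), x ∈ V → a x ∈ V := fun a x hx => by
    have := Subgroup.characteristic_iff_le_comap.1 hVchar a hx
    simpa using this
  have hcen : Subgroup.centralizer (V : Set Q) ≤ V :=
    centralizer_pCore_le_of_isPSolvable hQ hcore
  have : Nontrivial Q := by
    by_contra hn
    rw [not_nontrivial_iff_subsingleton] at hn
    have := hdvd.trans (Subgroup.index_dvd_card V)
    rw [Nat.card_unique] at this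
    exact hpf.out.not_dvd_one this
  have hVne : V ≠ ⊥ := (pCore_ne_bot_or_pPrimeCore_ne_bot hQ).resolve_right (fun h => h hcore)
  have : Nontrivial V := (Subgroup.nontrivial_iff_ne_bot V).2 hVne
  have : Nontrivial (Subgroup.center V) := hVp.center_nontrivial
  obtain ⟨k, hk0, hk⟩ := (hVp.to_subgroup (Subgroup.center V)).nontrivial_iff_card.mp inferInstance
  obtain ⟨w, hw⟩ := exists_prime_orderOf_dvd_card' (G := Subgroup.center V) p
    (hk ▸ dvd_pow_self p hk0.ne')
  rw [← Subgroup.orderOf_coe, ← Subgroup.orderOf_coe] at hw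
  have hord : ∀ u : Q, orderOf u = p → u ∈ V ∧ ∀ v ∈ V, Commute u v := by
    refine forall_order_p htr (fun x => x ∈ V ∧ ∀ v ∈ V, Commute x v) ?_ ?_ hw
      ⟨(w : V).2, fun v hv => (congrArg Subtype.val (Subgroup.mem_center_iff.1 w.2 ⟨v, hv⟩)).symm⟩
    · exact fun x i hx => ⟨zpow_mem hx.1 i, fun v hv => (hx.2 v hv).zpow_left i⟩
    · intro a x hx
      refine ⟨hVaut a x hx.1, fun v hv => ?_⟩
      have := (hx.2 (a⁻¹ v) (hVaut a⁻¹ v hv)).map a
      simpa using this
  set R := (Cfsg.pPrimeCore p (Q ⧸ V)).comap (QuotientGroup.mk' V) with hR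
  have : (Cfsg.pPrimeCore p (Q ⧸ V)).Characteristic := pPrimeCore_characteristic
  have hVR : V ≤ R := QuotientGroup.le_comap_mk' _ _
  have hRaut : ∀ (a : MulAut Q) (x : Q), x ∈ R → a x ∈ R := by
    intro a x hx
    let e := QuotientGroup.congr V V a (Subgroup.characteristic_iff_map_eq.1 hVchar a)
    rw [hR, Subgroup.mem_comap] at hx ⊢
    have := Subgroup.mem_map_of_mem e.toMonoidHom hx
    rw [map_pPrimeCore_equiv e] at this
    exact this
  -- a complement of `V` in `R`
  set V' := V.subgroupOf R with hV'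
  have hV'c : Nat.card V' = Nat.card V := Nat.card_congr (Subgroup.subgroupOfEquivOfLe hVR).toEquiv
  have hidx : V'.index = Nat.card (Cfsg.pPrimeCore p (Q ⧸ V)) := by
    apply Nat.eq_of_mul_eq_mul_left (Nat.card_pos (α := V'))
    rw [V'.card_mul_index, hV'c, hR]
    exact QuotientGroup.card_preimage_mk V (Cfsg.pPrimeCore p (Q ⧸ V) : Set (Q ⧸ V))
  obtain ⟨b, hb⟩ := hVp.exists_card_eq
  have hcop : (Nat.card V').Coprime V'.index := by
    rw [hV'c, hb, hidx]
    exact (Nat.Coprime.pow_right b pPrimeCore_coprime).symm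
  obtain ⟨H, hH⟩ := Subgroup.exists_right_complement'_of_coprime (N := V') hcop
  set R0 := H.map R.subtype with hR0
  have hR0R : R0 ≤ R := Subgroup.map_subtype_le H
  have hHc : Nat.card H = V'.index := Lib.SZ.card_eq_index_of_isComplement' hH
  have hR0c : Nat.card R0 = V'.index := by
    rw [hR0, Subgroup.card_map_of_injective R.subtype_injective, hHc]
  have hdisj : ∀ x : Q, x ∈ V → x ∈ R0 → x = 1 := by
    rintro x hx ⟨y, hy, rfl⟩
    have : y ∈ (⊥ : Subgroup R) := hH.disjoint.le_bot ⟨hx, hy⟩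
    rw [Subgroup.mem_bot] at this
    simp [this]
  have hR0cop : ∀ a ∈ R0, (orderOf a).Coprime p := by
    intro a ha
    refine Nat.Coprime.coprime_dvd_left (Subgroup.orderOf_dvd_natCard R0 ha) ?_
    rw [hR0c, hidx]
    exact pPrimeCore_coprime
  -- `R0` is nontrivial
  have hR0ne : R0 ≠ ⊥ := by
    intro h0
    rw [h0, Subgroup.card_bot, hidx] at hR0c
    have h1 : Cfsg.pPrimeCore p (Q ⧸ V) = ⊥ := Subgroup.eq_bot_of_card_eq _ hR0c.symm
    have : Nontrivial (Q ⧸ V) := by
      rw [← Finite.one_lt_card_iff_nontrivial, ← Subgroup.index_eq_card]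
      exact lt_of_lt_of_le hpf.out.one_lt
        (Nat.le_of_dvd (Nat.pos_of_ne_zero Subgroup.index_ne_zero_of_finite) hdvd)
    rcases pCore_ne_bot_or_pPrimeCore_ne_bot (isPSolvable_quotient hQ V) with h | h
    · exact h pCore_quotient_eq_bot
    · exact h h1
  -- no nontrivial element of `V` centralises `R0`
  have hfree : ∀ x ∈ V, (∀ r ∈ R0, Commute x r) → x = 1 := by
    intro x hx hc
    by_contra hx1
    apply hR0ne
    obtain ⟨c, hc0, hc'⟩ : ∃ c, c ≠ 0 ∧ orderOf x = p ^ c := by
      obtain ⟨c, hc'⟩ := IsPGroup.iff_orderOf.1 hVp ⟨x, hx⟩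
      rw [← Subgroup.orderOf_coe] at hc'
      refine ⟨c, fun h => hx1 ?_, hc'⟩
      rwa [h, pow_zero, orderOf_eq_one_iff] at hc'
    have hu : orderOf (x ^ p ^ (c - 1)) = p := by
      rw [orderOf_pow_of_dvd (pow_ne_zero _ hpf.out.ne_zero) (by
        rw [hc']; exact pow_dvd_pow _ (Nat.sub_le c 1)), hc', Nat.pow_div (Nat.sub_le c 1) hpf.out.pos]
      rw [Nat.sub_sub_self (Nat.one_le_iff_ne_zero.2 hc0), pow_one]
    set u := x ^ p ^ (c - 1) with hu'
    have huR : ∀ r ∈ R, Commute u r := by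
      intro r hr
      obtain ⟨⟨v, h⟩, hvh⟩ := hH.2 ⟨r, hr⟩
      have e : r = ((v : R) : Q) * ((h : R) : Q) := (congrArg Subtype.val hvh).symm
      rw [e]
      exact ((hord u hu).2 _ v.2).mul_right ((hc _ (Subgroup.mem_map_of_mem R.subtype h.2)).pow_left _)
    have hall : ∀ z : Q, orderOf z = p → ∀ r ∈ R, Commute z r := by
      refine forall_order_p htr (fun z => ∀ r ∈ R, Commute z r)
        (fun z i hz r hr => (hz r hr).zpow_left i) ?_ hu huR
      intro a z hz r hr
      have := (hz (a⁻¹ r) (hRaut a⁻¹ r hr)).map a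
      simpa using this
    rw [Subgroup.eq_bot_iff_forall]
    intro a ha
    refine hdisj a (hcen ?_) ha
    rw [Subgroup.mem_centralizer_iff]
    intro v hv
    refine (Lib.CoprimeOmega.commute_of_commute_order_p hp (hR0cop a ha) hVp
      (fun y hy => (inferInstance : V.Normal).conj_mem y hy a) ?_ v hv).symm
    intro y hy hyp
    rcases (Nat.dvd_prime hpf.out).1 (orderOf_dvd_of_pow_eq_one hyp) with h | h
    · rw [orderOf_eq_one_iff] at h; simp [h]
    · exact ((hall y h a (hR0R ha)).eq).symm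
  -- Frattini argument
  set N := Subgroup.normalizer (R0 : Set Q) with hN
  have hsup : ∀ g : Q, ∃ v ∈ V, v⁻¹ * g ∈ N := by
    intro g
    set L := MulAut.conj g • R0 with hL
    have hLR : L ≤ R := by
      rintro _ ⟨y, hy, rfl⟩
      exact hRaut (MulAut.conj g) y (hR0R hy)
    have hLc : Nat.card (L.subgroupOf R) = V'.index := by
      rw [Nat.card_congr (Subgroup.subgroupOfEquivOfLe hLR).toEquiv, ← hR0c]
      exact (Nat.card_congr (Subgroup.equivSMul (MulAut.conj g) R0).toEquiv).symm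
    obtain ⟨a, ha, hconj⟩ := Lib.SZ.exists_mem_conj_of_card_eq_index V' H (L.subgroupOf R) hcop
      (Or.inl (by
        have := (hVp.of_equiv (Subgroup.subgroupOfEquivOfLe hVR).symm).isNilpotent
        infer_instance)) hHc hLc
    refine ⟨(a : Q), ha, ?_⟩
    rw [hN, Subgroup.mem_normalizer_iff]
    have hmem : ∀ y : Q, y ∈ L ↔ (a : Q)⁻¹ * y * (a : Q) ∈ R0 := by
      intro y
      constructor
      · intro hy
        have : (⟨y, hLR hy⟩ : R) ∈ MulAut.conj a • H := by rw [hconj]; exact hy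
        rw [Subgroup.mem_pointwise_smul_iff_inv_smul_mem] at this
        exact ⟨_, this, by simp [MulAut.smul_def]⟩
      · rintro ⟨z, hz, hz'⟩
        have hy : a * z * a⁻¹ ∈ MulAut.conj a • H := ⟨z, hz, rfl⟩
        rw [hconj, Subgroup.mem_subgroupOf] at hy
        simp only [Subgroup.coe_mul, InvMemClass.coe_inv] at hy
        simp only [Subgroup.coe_subtype] at hz'
        rw [hz'] at hy
        simpa [mul_assoc] using hy
    intro y
    have hmemL : y ∈ R0 ↔ g * y * g⁻¹ ∈ L := by
      rw [hL, Subgroup.mem_pointwise_smul_iff_inv_smul_mem]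
      simp [MulAut.smul_def, mul_assoc]
    rw [hmemL, hmem]
    simp [mul_assoc]
  have hsurj : Function.Surjective ((QuotientGroup.mk' V).comp N.subtype) := by
    intro q
    obtain ⟨g, rfl⟩ := QuotientGroup.mk'_surjective V q
    obtain ⟨v, hv, hn⟩ := hsup g
    refine ⟨⟨_, hn⟩, ?_⟩
    simp [(QuotientGroup.eq_one_iff v).2 hv]
  have hpN : p ∣ Nat.card N :=
    (V.index_eq_card ▸ hdvd).trans (Subgroup.card_dvd_of_surjective _ hsurj)
  obtain ⟨y, hy⟩ := exists_prime_orderOf_dvd_card' p hpN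
  rw [← Subgroup.orderOf_coe] at hy
  have hyV := (hord _ hy).1
  have h1 : (y : Q) = 1 := by
    refine hfree _ hyV fun r hr => ?_
    have ha : (y : Q) * r * (y : Q)⁻¹ * r⁻¹ ∈ R0 :=
      R0.mul_mem ((Subgroup.mem_normalizer_iff.1 y.2 r).1 hr) (R0.inv_mem hr)
    have hb : (y : Q) * r * (y : Q)⁻¹ * r⁻¹ ∈ V := by
      have := V.mul_mem hyV ((inferInstance : V.Normal).conj_mem _ (V.inv_mem hyV) r)
      simpa [mul_assoc] using this
    have := hdisj _ hb ha
    rw [mul_inv_eq_one, mul_inv_eq_iff_eq_mul] at this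
    exact this
  rw [h1, orderOf_one] at hy
  exact hpf.out.ne_one hy.symm

/-- The Gaschütz–Yen Theorem: let G be a finite p-soluble group, p an odd prime dividing its order, such that the automorphism group of G permutes the subgroups of G of order p transitively. Then G has p-length at most 1. -/
theorem result {G : Type*} [Group G] [Finite G] {p : ℕ} [Fact p.Prime] (hp : p ≠ 2) (hdvd : p ∣ Nat.card G) (hG : Cfsg.IsPSolvable p G) (htrans : ∀ U V : Subgroup G, Nat.card U = p → Nat.card V = p → ∃ a : MulAut G, U.map a.toMonoidHom = V) : Cfsg.PLengthLE p 1 G := by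
  set U := (Cfsg.upperPSeries p G 1).1 with hU
  have hUeq : U = Cfsg.pPrimeCore p G := upperPSeries_one
  have hUchar : U.Characteristic := by rw [hUeq]; exact pPrimeCore_characteristic
  have hUcop : (Nat.card U).Coprime p := hUeq ▸ pPrimeCore_coprime
  have hlift : ∀ W : Subgroup (G ⧸ U), Nat.card W = p →
      ∃ W0 : Subgroup G, Nat.card W0 = p ∧ W0.map (QuotientGroup.mk' U) = W := by
    intro W hW
    obtain ⟨u, hu⟩ := exists_prime_orderOf_dvd_card' (G := W) p (dvd_of_eq hW.symm)
    rw [← Subgroup.orderOf_coe] at hu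
    obtain ⟨x, hx⟩ := QuotientGroup.mk'_surjective U (u : G ⧸ U)
    set y := x ^ Nat.card U with hy
    have himg : orderOf (QuotientGroup.mk' U y) = p := by
      rw [hy, map_pow, hx]
      have hco : (orderOf (u : G ⧸ U)).Coprime (Nat.card U) := by rw [hu]; exact hUcop.symm
      rw [hco.orderOf_pow, hu]
    have hyp : y ^ p = 1 := by
      have h1 : x ^ p ∈ U := by
        rw [← QuotientGroup.eq_one_iff, ← QuotientGroup.mk'_apply, map_pow, hx]
        exact orderOf_dvd_iff_pow_eq_one.1 (dvd_of_eq hu)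
      rw [hy, ← pow_mul, mul_comm, pow_mul]
      exact orderOf_dvd_iff_pow_eq_one.1 (Subgroup.orderOf_dvd_natCard U h1)
    have hyo : orderOf y = p := orderOf_eq_prime hyp (fun h => by
      rw [h, map_one, orderOf_one] at himg; exact (Fact.out : p.Prime).ne_one himg.symm)
    refine ⟨Subgroup.zpowers y, by rw [Nat.card_zpowers, hyo], ?_⟩
    rw [MonoidHom.map_zpowers]
    refine Subgroup.eq_of_le_of_card_ge ?_ ?_
    · rw [Subgroup.zpowers_le, hy, map_pow, hx]
      exact W.pow_mem u.2 _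
    · rw [Nat.card_zpowers, himg, hW]
  have htr' : ∀ A B : Subgroup (G ⧸ U), Nat.card A = p → Nat.card B = p →
      ∃ a : MulAut (G ⧸ U), A.map a.toMonoidHom = B := by
    intro A B hA hB
    obtain ⟨A0, hA0, rfl⟩ := hlift A hA
    obtain ⟨B0, hB0, rfl⟩ := hlift B hB
    obtain ⟨a, ha⟩ := htrans A0 B0 hA0 hB0
    refine ⟨QuotientGroup.congr U U a (Subgroup.characteristic_iff_map_eq.1 hUchar a), ?_⟩
    rw [← ha, Subgroup.map_map, Subgroup.map_map]
    rfl
  have hmain := core_case hp (isPSolvable_quotient hG U)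
    (pPrimeCore_quotient_upperPSeries_eq_bot (n := 0) (by simp)) htr'
  have h2 : (Cfsg.upperPSeries p G 2).1 = (Cfsg.pCore p (G ⧸ U)).comap (QuotientGroup.mk' U) :=
    upperPSeries_succ_of_odd (n := 1) (by simp)
  rw [Cfsg.PLengthLE, upperPSeries_succ_of_even (n := 2) (by simp)]
  have h3 : Cfsg.pPrimeCore p (G ⧸ (Cfsg.upperPSeries p G 2).1) = ⊤ := by
    refine top_le_iff.1 (le_pPrimeCore ?_)
    rw [Subgroup.card_top, ← Subgroup.index_eq_card, h2,
      Subgroup.index_comap_of_surjective _ (QuotientGroup.mk'_surjective U)]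
    exact ((Fact.out : p.Prime).coprime_iff_not_dvd.2 hmain).symm
  rw [h3, Subgroup.comap_top]

end Cfsg.Agent.S3798
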