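import Cfsg.Statements.S3799
import Mathlib
import Cfsg.Agent.Lib.PGroup.Frattini

set_option autoImplicit false
open Cfsg

namespace Cfsg.Agent.S3799
open Matrix
open scoped commutatorElement

variable (p n : ℕ)

/-- Unitriangular Heisenberg matrices. -/
def heis (a b : Fin n → ZMod p) (c : ZMod p) : Matrix (Fin (n + 2)) (Fin (n + 2)) (ZMod p) :=
  1 + Matrix.vecMulVec (Pi.single 0 1) (Fin.cons 0 (Fin.snoc a c)) +
    Matrix.vecMulVec (Fin.cons 0 (Fin.snoc b 0)) (Pi.single (Fin.last (n + 1)) 1)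

theorem heis_mul (a b : Fin n → ZMod p) (c : ZMod p) (a' b' : Fin n → ZMod p) (c' : ZMod p) :
    heis p n a b c * heis p n a' b' c' = heis p n (a + a') (b + b') (c + c' + a ⬝ᵥ b') := by
  set r : (Fin n → ZMod p) → ZMod p → (Fin (n + 2) → ZMod p) := fun a c => Fin.cons 0 (Fin.snoc a c) with hr
  set u : (Fin n → ZMod p) → (Fin (n + 2) → ZMod p) := fun b => Fin.cons 0 (Fin.snoc b 0) with hu
  set e : Fin (n + 2) → ZMod p := Pi.single 0 1 with he
  set l : Fin (n + 2) → ZMod p := Pi.single (Fin.last (n + 1)) 1 with hl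
  have h1 : r a c ⬝ᵥ e = 0 := by simp [hr, he]
  have h2 : l ⬝ᵥ e = 0 := by
    rw [he, hl, single_dotProduct, one_mul]
    exact Pi.single_eq_of_ne (Fin.last_pos.ne') _
  have h3 : l ⬝ᵥ u b' = 0 := by
    rw [hu, hl, single_dotProduct, one_mul, ← Fin.succ_last]
    simp
  have h4 : r a c ⬝ᵥ u b' = a ⬝ᵥ b' := by
    simp [hr, hu, dotProduct, Fin.sum_univ_succ (n := n + 1), Fin.sum_univ_castSucc (n := n)]
  have h5 : r (a + a') (c + c' + a ⬝ᵥ b') = r a c + r a' c' + (a ⬝ᵥ b') • l := by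
    funext i
    refine Fin.cases ?_ (fun j => ?_) i
    · simp [hr, hl, Fin.last_pos.ne]
    · refine Fin.lastCases ?_ (fun k => ?_) j
      · simp [hr, hl, Fin.succ_last]
      · simp [hr, hl, ← Fin.succ_last, (Fin.castSucc_lt_last k).ne]
  have h6 : u (b + b') = u b + u b' := by
    funext i
    refine Fin.cases ?_ (fun j => ?_) i
    · simp [hu]
    · refine Fin.lastCases ?_ (fun k => ?_) j <;> simp [hu]
  show (1 + vecMulVec e (r a c) + vecMulVec (u b) l) * (1 + vecMulVec e (r a' c') + vecMulVec (u b') l) =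
    1 + vecMulVec e (r (a + a') (c + c' + a ⬝ᵥ b')) + vecMulVec (u (b + b')) l
  rw [h5, h6]
  simp only [add_mul, mul_add, one_mul, mul_one, vecMulVec_mul_vecMulVec, h1, h2, h3, h4,
    vecMulVec_add, add_vecMulVec, vecMulVec_smul, zero_smul, vecMulVec_zero]
  abel

theorem heis_zero : heis p n 0 0 0 = 1 := by
  have h : (Fin.cons 0 (Fin.snoc (0 : Fin n → ZMod p) 0) : Fin (n + 2) → ZMod p) = 0 := by
    funext i
    refine Fin.cases ?_ (fun j => ?_) i
    · simp
    · refine Fin.lastCases ?_ (fun k => ?_) j <;> simp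
  simp [heis, h]

theorem heis_inj (a b : Fin n → ZMod p) (c : ZMod p) (a' b' : Fin n → ZMod p) (c' : ZMod p)
    (h : heis p n a b c = heis p n a' b' c') : a = a' ∧ b = b' ∧ c = c' := by
  have key : ∀ (a b : Fin n → ZMod p) (c : ZMod p),
      (∀ k, heis p n a b c 0 k.castSucc.succ = a k) ∧
      (∀ k, heis p n a b c k.castSucc.succ (Fin.last (n + 1)) = b k) ∧
      heis p n a b c 0 (Fin.last (n + 1)) = c := by
    intro a b c
    refine ⟨fun k => ?_, fun k => ?_, ?_⟩
    · simp [heis, vecMulVec_apply, ← Fin.succ_last, (Fin.castSucc_lt_last k).ne, (Fin.succ_ne_zero _).symm]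
    · simp [heis, vecMulVec_apply, ← Fin.succ_last, (Fin.castSucc_lt_last k).ne, Fin.succ_ne_zero]
    · simp [heis, vecMulVec_apply, ← Fin.succ_last, (Fin.succ_ne_zero _).symm]
  obtain ⟨k1, k2, k3⟩ := key a b c
  obtain ⟨l1, l2, l3⟩ := key a' b' c'
  refine ⟨funext fun k => ?_, funext fun k => ?_, ?_⟩
  · rw [← k1 k, h, l1 k]
  · rw [← k2 k, h, l2 k]
  · rw [← k3, h, l3]

/-- The Heisenberg matrix as a unit. -/
def heisUnit (a b : Fin n → ZMod p) (c : ZMod p) : Matrix.GeneralLinearGroup (Fin (n + 2)) (ZMod p) :=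
  ⟨heis p n a b c, heis p n (-a) (-b) (-c + a ⬝ᵥ b),
    by rw [heis_mul]; simp [dotProduct_neg, heis_zero],
    by rw [heis_mul]; simp [neg_dotProduct, heis_zero]⟩

theorem heisUnit_mul (a b : Fin n → ZMod p) (c : ZMod p) (a' b' : Fin n → ZMod p) (c' : ZMod p) :
    heisUnit p n a b c * heisUnit p n a' b' c' = heisUnit p n (a + a') (b + b') (c + c' + a ⬝ᵥ b') :=
  Units.ext (heis_mul p n a b c a' b' c')

theorem heisUnit_inj (a b : Fin n → ZMod p) (c : ZMod p) (a' b' : Fin n → ZMod p) (c' : ZMod p)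
    (h : heisUnit p n a b c = heisUnit p n a' b' c') : a = a' ∧ b = b' ∧ c = c' :=
  heis_inj p n a b c a' b' c' (congrArg Units.val h)

theorem heisenberg_main [Fact p.Prime] (hp : p ≠ 2) (hn : 1 ≤ n) :
    ∃ E : Subgroup (Matrix.GeneralLinearGroup (Fin (n + 2)) (ZMod p)), Cfsg.IsExtraspecial p ↥E ∧
      Nat.card E = p ^ (1 + 2 * n) ∧ ∀ x ∈ E, x ^ p = 1 := by
  have hone : heisUnit p n 0 0 0 = 1 := Units.ext (heis_zero p n)
  let E : Subgroup (Matrix.GeneralLinearGroup (Fin (n + 2)) (ZMod p)) :=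
    { carrier := {g | ∃ a b c, heisUnit p n a b c = g}
      one_mem' := ⟨0, 0, 0, hone⟩
      mul_mem' := by
        rintro _ _ ⟨a, b, c, rfl⟩ ⟨a', b', c', rfl⟩
        exact ⟨_, _, _, (heisUnit_mul p n a b c a' b' c').symm⟩
      inv_mem' := by
        rintro _ ⟨a, b, c, rfl⟩
        refine ⟨-a, -b, -c + a ⬝ᵥ b, (inv_eq_of_mul_eq_one_right ?_).symm⟩
        rw [heisUnit_mul, ← hone]; simp [dotProduct_neg] }
  let M : (Fin n → ZMod p) → (Fin n → ZMod p) → ZMod p → E :=
    fun a b c => ⟨heisUnit p n a b c, a, b, c, rfl⟩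
  have hM : ∀ x : E, ∃ a b c, M a b c = x := fun ⟨g, a, b, c, h⟩ => ⟨a, b, c, Subtype.ext h⟩
  have hMmul : ∀ a b c a' b' c', M a b c * M a' b' c' = M (a + a') (b + b') (c + c' + a ⬝ᵥ b') :=
    fun a b c a' b' c' => Subtype.ext (heisUnit_mul p n a b c a' b' c')
  have hMinj : ∀ {a b c a' b' c'}, M a b c = M a' b' c' → a = a' ∧ b = b' ∧ c = c' :=
    fun h => heisUnit_inj p n _ _ _ _ _ _ (congrArg Subtype.val h)
  have hM0 : M 0 0 0 = 1 := Subtype.ext hone
  have hcardE : Nat.card E = p ^ (1 + 2 * n) := by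
    have e : ((Fin n → ZMod p) × (Fin n → ZMod p) × ZMod p) ≃ E :=
      Equiv.ofBijective (fun x => M x.1 x.2.1 x.2.2)
        ⟨fun x y h => by obtain ⟨h1, h2, h3⟩ := hMinj h; exact Prod.ext h1 (Prod.ext h2 h3),
          fun x => by obtain ⟨a, b, c, h⟩ := hM x; exact ⟨(a, b, c), h⟩⟩
    rw [← Nat.card_congr e, Nat.card_prod, Nat.card_prod, Nat.card_fun, Nat.card_zmod, Nat.card_fin,
      ← pow_succ, ← pow_add]
    congr 1; ring
  have hE : IsPGroup p E := IsPGroup.of_card hcardE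
  have hpow : ∀ (a b : Fin n → ZMod p) (c : ZMod p) (k : ℕ),
      M a b c ^ k = M (k • a) (k • b) (k • c + (k.choose 2) • (a ⬝ᵥ b)) := by
    intro a b c k
    induction k with
    | zero => simp [hM0]
    | succ k ih =>
      rw [pow_succ, ih, hMmul]
      congr 1
      · rw [succ_nsmul]
      · rw [succ_nsmul]
      · rw [smul_dotProduct, Nat.choose_succ_succ', Nat.choose_one_right, succ_nsmul, add_nsmul]
        abel
  have hexp : ∀ x : E, x ^ p = 1 := by
    intro x
    obtain ⟨a, b, c, rfl⟩ := hM x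
    obtain ⟨d, hd⟩ : p ∣ p.choose 2 := (Fact.out : p.Prime).dvd_choose_self two_ne_zero
      (lt_of_le_of_ne (Fact.out : p.Prime).two_le (Ne.symm hp))
    rw [hpow, ← hM0, hd]
    have hz : ∀ v : Fin n → ZMod p, p • v = 0 := fun v => funext fun i => by simp
    congr 1 <;> first | exact hz _ | simp [mul_assoc]
  have hcen : ∀ x : E, x ∈ Subgroup.center E ↔ ∃ c, M 0 0 c = x := by
    intro x
    constructor
    · intro hx
      obtain ⟨a, b, c, rfl⟩ := hM x
      refine ⟨c, ?_⟩
      have key : ∀ a' b', a ⬝ᵥ b' = a' ⬝ᵥ b := by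
        intro a' b'
        have h := (Subgroup.mem_center_iff.mp hx (M a' b' 0)).symm
        rw [hMmul, hMmul] at h
        simpa using (hMinj h).2.2
      congr 1
      · refine funext fun k => ?_
        have := key 0 (Pi.single k 1)
        simpa using this.symm
      · refine funext fun k => ?_
        have := key (Pi.single k 1) 0
        simpa using this
    · rintro ⟨c, rfl⟩
      refine Subgroup.mem_center_iff.mpr fun y => ?_
      obtain ⟨a', b', c', rfl⟩ := hM y
      rw [hMmul, hMmul]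
      congr 1 <;> simp [add_comm]
  have hcardZ : Nat.card (Subgroup.center E) = p := by
    have e : ZMod p ≃ Subgroup.center E :=
      Equiv.ofBijective (fun c => ⟨M 0 0 c, (hcen _).mpr ⟨c, rfl⟩⟩)
        ⟨fun x y h => (hMinj (congrArg Subtype.val h)).2.2,
          fun x => by obtain ⟨c, h⟩ := (hcen x).mp x.2; exact ⟨c, Subtype.ext h⟩⟩
    rw [← Nat.card_congr e, Nat.card_zmod]
  have hcomm : commutator E = Subgroup.center E := by
    apply le_antisymm
    · rw [commutator_def, Subgroup.commutator_le]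
      intro x _ y _
      obtain ⟨a, b, c, rfl⟩ := hM x
      obtain ⟨a', b', c', rfl⟩ := hM y
      rw [hcen]
      refine ⟨a ⬝ᵥ b' - a' ⬝ᵥ b, ?_⟩
      rw [commutatorElement_def, eq_mul_inv_iff_mul_eq, eq_mul_inv_iff_mul_eq, hMmul, hMmul, hMmul]
      congr 1
      · abel
      · abel
      · simp; abel
    · intro x hx
      obtain ⟨c, rfl⟩ := (hcen x).mp hx
      set k : Fin n := ⟨0, hn⟩
      have h : ⁅M (Pi.single k c) 0 0, M 0 (Pi.single k 1) 0⁆ = M 0 0 c := by
        rw [commutatorElement_def, mul_inv_eq_iff_eq_mul, mul_inv_eq_iff_eq_mul, hMmul, hMmul, hMmul]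
        congr 1 <;> simp
      rw [← h, commutator_def]
      exact Subgroup.commutator_mem_commutator (Subgroup.mem_top _) (Subgroup.mem_top _)
  refine ⟨E, ⟨⟨hE, ?_, hcomm⟩, hcardZ⟩, hcardE, fun x hx => congrArg Subtype.val (hexp ⟨x, hx⟩)⟩
  refine le_antisymm (Lib.PFrattini.frattini_le hcomm.le fun x => by rw [hexp]; exact one_mem _) ?_
  rw [← hcomm]
  exact Lib.PFrattini.commutator_le_frattini hE


/-- For every odd prime p and every n ≥ 1 there is an extraspecial p-group of order p^(1+2n) and exponent p; concretely, the general linear group of degree n + 2 over the field with p elements contains such a subgroup. -/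
theorem result (p : ℕ) [Fact p.Prime] (hp : p ≠ 2) (n : ℕ) (hn : 1 ≤ n) : ∃ E : Subgroup (Matrix.GeneralLinearGroup (Fin (n + 2)) (ZMod p)), Cfsg.IsExtraspecial p ↥E ∧ Nat.card E = p ^ (1 + 2 * n) ∧ ∀ x ∈ E, x ^ p = 1 := by
  exact heisenberg_main p n hp hn

end Cfsg.Agent.S3799
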