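import Cfsg.Statements.S3802
import Mathlib
import Cfsg.Agent.Lib.Components.Subnormal

set_option autoImplicit false
open Cfsg

namespace Cfsg.Agent.S3802

/-- Let G be a finite group, M a maximal subgroup of G and N a subnormal subgroup of G contained in M. Then N is contained in every conjugate of M, that is, N lies in the core of M in G. -/
theorem result {G : Type*} [Group G] [Finite G] (M N : Subgroup G) (hM : IsCoatom M) (hN : N.IsSubnormal) (hNM : N ≤ M) :
    N ≤ Subgroup.normalCore M := by
  set S : Set (Subgroup G) := {K | K.IsSubnormal ∧ K ≤ M} with hS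
  set J := sSup S with hJ
  have hJsn : J.IsSubnormal := Lib.Components.subnormal_sSup S fun H hH => hH.1
  have hJM : J ≤ M := sSup_le fun H hH => hH.2
  have hJtop : J ≠ ⊤ := fun e => hM.1 (top_le_iff.mp (e ▸ hJM))
  have hMn : M ≤ Subgroup.normalizer (J : Set G) := by
    intro m hm
    have key : ∀ x ∈ M, J.map (MulAut.conj x).toMonoidHom ≤ J := by
      intro x hx
      refine le_sSup ⟨hJsn.map (MulAut.conj x).surjective, ?_⟩
      rintro _ ⟨j, hj, rfl⟩
      exact M.mul_mem (M.mul_mem hx (hJM hj)) (M.inv_mem hx)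
    rw [Subgroup.mem_normalizer_iff]
    intro h
    constructor
    · intro hh; exact key m hm ⟨h, hh, rfl⟩
    · intro hh
      have := key m⁻¹ (M.inv_mem hm) ⟨_, hh, rfl⟩
      simpa [mul_assoc] using this
  rcases Subgroup.IsSubnormal.iff_eq_top_or_exists.mp hJsn with e | ⟨K, hJK, hK, hKn⟩
  · exact absurd e hJtop
  have hKM : ¬ K ≤ M := fun h => absurd (le_sSup (show K ∈ S from ⟨hK, h⟩)) (not_le_of_gt hJK)
  rw [Subgroup.normal_subgroupOf_iff_le_normalizer hJK.le] at hKn
  have htop : Subgroup.normalizer (J : Set G) = ⊤ := by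
    refine hM.2 _ (lt_of_le_of_ne hMn ?_)
    intro e; exact hKM (e ▸ hKn)
  have : J.Normal := Subgroup.normalizer_eq_top_iff.mp htop
  exact (le_sSup (show N ∈ S from ⟨hN, hNM⟩)).trans (Subgroup.normal_le_normalCore.mpr hJM)

end Cfsg.Agent.S3802
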