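import Cfsg.Statements.S3803
import Mathlib
import Cfsg.Agent.Lib.Coprime.Quotient
import Cfsg.Agent.Lib.PGroup.Frattini
import Cfsg.Agent.Lib.Coprime.ThreeSubgroup

set_option autoImplicit false
open Cfsg

namespace Cfsg.Agent.S3803
open Cfsg.Agent.Lib
open scoped commutatorElement

variable {X : Type*} [Group X] [Finite X]

theorem cyclic_two_fixed {a x : X} (ha : Odd (orderOf a)) {k : ℕ} (hx : orderOf x = 2 ^ k)
    (h : a * x * a⁻¹ ∈ Subgroup.zpowers x) : a * x * a⁻¹ = x := by
  rcases Nat.eq_zero_or_pos k with rfl | hk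
  · rw [pow_zero, orderOf_eq_one_iff] at hx; simp [hx]
  obtain ⟨j, hj⟩ := mem_powers_iff_mem_zpowers.mpr h
  have hj' : a * x * a⁻¹ = x ^ j := hj.symm
  have hiter : ∀ i : ℕ, a ^ i * x * (a ^ i)⁻¹ = x ^ (j ^ i) := by
    intro i
    induction i with
    | zero => simp
    | succ i ih =>
      calc a ^ (i + 1) * x * (a ^ (i + 1))⁻¹ = a ^ i * (a * x * a⁻¹) * (a ^ i)⁻¹ := by
            rw [pow_succ]; group
        _ = (a ^ i * x * (a ^ i)⁻¹) ^ j := by rw [hj', conj_pow]
        _ = _ := by rw [ih, ← pow_mul, pow_succ]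
  have h1 : j ^ orderOf a ≡ 1 [MOD 2 ^ k] := by
    have := hiter (orderOf a)
    rw [pow_orderOf_eq_one, one_mul, inv_one, mul_one] at this
    rw [← hx, ← pow_eq_pow_iff_modEq, pow_one]
    exact this.symm
  have hjodd : Odd j := by
    have h2 : j ^ orderOf a ≡ 1 [MOD 2] := h1.of_dvd (dvd_pow_self 2 hk.ne')
    rw [Nat.odd_iff]
    have h3 : Odd (j ^ orderOf a) := Nat.odd_iff.mpr h2
    exact Nat.odd_iff.mp ((Nat.odd_pow_iff ha.pos.ne').mp h3)
  have h2 : j ^ 2 ^ (k - 1) ≡ 1 [MOD 2 ^ k] := by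
    have := Nat.ModEq.pow_totient (x := j) (n := 2 ^ k) (Nat.Coprime.pow_right _ (Nat.coprime_two_right.mpr hjodd))
    rwa [Nat.totient_prime_pow Nat.prime_two hk, show 2 - 1 = 1 from rfl, mul_one] at this
  have hzero : ((j : ZMod (2 ^ k))) = 1 := by
    have e1 : (j : ZMod (2 ^ k)) ^ orderOf a = 1 := by
      have := (ZMod.natCast_eq_natCast_iff _ _ _).mpr h1; simpa using this
    have e2 : (j : ZMod (2 ^ k)) ^ 2 ^ (k - 1) = 1 := by
      have := (ZMod.natCast_eq_natCast_iff _ _ _).mpr h2; simpa using this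
    have e3 := (pow_gcd_eq_one (a := (j : ZMod (2 ^ k)))).mpr ⟨e1, e2⟩
    rwa [Nat.Coprime.gcd_eq_one (Nat.Coprime.pow_right _ (Nat.coprime_two_right.mpr ha)), pow_one] at e3
  rw [hj']
  conv_rhs => rw [← pow_one x]
  rw [pow_eq_pow_iff_modEq, hx, ← ZMod.natCast_eq_natCast_iff]
  simpa using hzero

theorem le_centralizer_aux (A : Subgroup X) (d : ℕ) (hA : Odd (Nat.card A)) (hd1 : 1 < d) :
    ∀ (n : ℕ) (P : Subgroup X), Nat.card P = n → IsPGroup 2 P → A ≤ Subgroup.normalizer (P : Set X) →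
      d < Nat.card P → ((∀ E : Subgroup X, E ≤ P → (Nat.card E = d ∨ (d = 2 ∧ Nat.card E = 4)) →
        A ≤ Subgroup.normalizer (E : Set X)) ∧ ∃ D₀ : Subgroup X, D₀ ≤ P ∧ Nat.card D₀ = d) →
      A ≤ Subgroup.centralizer (P : Set X) := by
  intro n
  induction n using Nat.strong_induction_on with
  | _ n ih =>
  intro P hn hP hAP hd ⟨hinv, D₀, hD₀P, hD₀⟩
  haveI : Fact (Nat.Prime 2) := ⟨Nat.prime_two⟩
  classical
  set F := (frattini P).map P.subtype with hF
  have hFP : F ≤ P := Subgroup.map_subtype_le _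
  have hcop : ∀ W : Subgroup X, W ≤ P → (Nat.card A).Coprime (Nat.card W) := by
    intro W hW
    obtain ⟨e, he⟩ := IsPGroup.iff_card.mp (hP.to_le hW)
    rw [he]
    exact Nat.Coprime.pow_right _ (Nat.coprime_two_right.mpr hA)
  have hoa : ∀ a ∈ A, Odd (orderOf a) := fun a ha => hA.of_dvd_nat (A.orderOf_dvd_natCard ha)
  obtain ⟨e₀, hd2⟩ : ∃ e₀, d = 2 ^ e₀ := by
    obtain ⟨e, he⟩ := IsPGroup.iff_card.mp (hP.to_le hD₀P)
    exact ⟨e, hD₀.symm.trans he⟩
  refine Coprime.le_centralizer_of_frattini hAP ?_ ?_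
  · rw [← Subgroup.card_map_of_injective (K := frattini P) P.subtype_injective]
    exact hcop _ hFP
  intro a₁ ha₁ k₁ hk₁
  by_contra hmoved₁
  haveI hFn : (F.subgroupOf P).Normal := by
    rw [hF, Subgroup.subgroupOf, Subgroup.comap_map_eq_self_of_injective P.subtype_injective]; infer_instance
  have hFinv : A ≤ Subgroup.normalizer (F : Set X) :=
    hAP.trans (Coprime.normalizer_le_normalizer_map_of_characteristic (frattini P))
  have hsq : ∀ x ∈ P, x ^ 2 ∈ F := fun x hx =>
    ⟨⟨x, hx⟩ ^ 2, PFrattini.pow_mem_frattini hP ⟨x, hx⟩, rfl⟩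
  have hcommF : ∀ x ∈ P, ∀ y ∈ P, ⁅x, y⁆ ∈ F := fun x hx y hy =>
    ⟨⁅(⟨x, hx⟩ : P), ⟨y, hy⟩⁆, PFrattini.commutator_le_frattini hP
      (commutator_def P ▸ Subgroup.commutator_mem_commutator (Subgroup.mem_top _) (Subgroup.mem_top _)), rfl⟩
  have hFconj : ∀ x ∈ P, ∀ f ∈ F, x * f * x⁻¹ ∈ F := by
    intro x hx f hf
    have h := F.mul_mem (hcommF x hx f (hFP hf)) hf
    rwa [commutatorElement_def, inv_mul_cancel_right] at h
  -- adjoining one element to a subgroup containing `F`
  have hsupF : ∀ (W : Subgroup X) (z : X), F ≤ W → W ≤ P → z ∈ P →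
      ∀ v, v ∈ W ⊔ Subgroup.zpowers z → v ∈ W ∨ v * z⁻¹ ∈ W := by
    intro W z hFW hWP hz
    have hWn : ∀ w ∈ W, z * w * z⁻¹ ∈ W := by
      intro w hw
      have h := W.mul_mem (hFW (hcommF z hz w (hWP hw))) hw
      rwa [commutatorElement_def, inv_mul_cancel_right] at h
    have hWn' : ∀ w ∈ W, z⁻¹ * w * z ∈ W := by
      intro w hw
      have h := W.mul_mem (hFW (hcommF z⁻¹ (P.inv_mem hz) w (hWP hw))) hw
      rwa [commutatorElement_def, inv_mul_cancel_right, inv_inv] at h
    have hz2 : z * z ∈ W := by have := hFW (hsq z hz); rwa [pow_two] at this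
    let K : Subgroup X :=
      { carrier := {v | v ∈ W ∨ v * z⁻¹ ∈ W}
        one_mem' := Or.inl W.one_mem
        mul_mem' := by
          rintro u v (hu | hu) (hv | hv)
          · exact Or.inl (W.mul_mem hu hv)
          · exact Or.inr (by rw [mul_assoc]; exact W.mul_mem hu hv)
          · refine Or.inr ?_
            have := W.mul_mem hu (hWn v hv)
            simpa [mul_assoc] using this
          · refine Or.inl ?_
            have := W.mul_mem (W.mul_mem hu (hWn _ hv)) hz2
            simpa [mul_assoc] using this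
        inv_mem' := by
          rintro u (hu | hu)
          · exact Or.inl (W.inv_mem hu)
          · refine Or.inr ?_
            have := W.mul_mem (hWn' _ (W.inv_mem hu)) (W.inv_mem hz2)
            simpa [mul_assoc] using this }
    exact fun v hv => (sup_le (show W ≤ K from fun w hw => Or.inl hw)
      (Subgroup.zpowers_le.mpr (show z ∈ K from Or.inr (by rw [mul_inv_cancel]; exact W.one_mem)))) hv
  have hcard2 : ∀ (W : Subgroup X) (z : X), F ≤ W → W ≤ P → z ∈ P →
      Nat.card (W ⊔ Subgroup.zpowers z : Subgroup X) ≤ 2 * Nat.card W := by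
    intro W z hFW hWP hz
    calc Nat.card (W ⊔ Subgroup.zpowers z : Subgroup X) ≤ Nat.card (W ⊕ W) := by
          refine Nat.card_le_card_of_injective
            (fun v => if h : (v : X) ∈ W then Sum.inl ⟨v, h⟩
              else Sum.inr ⟨v * z⁻¹, (hsupF W z hFW hWP hz v v.2).resolve_left h⟩) ?_
          intro u v huv
          simp only at huv
          split_ifs at huv with h1 h2
          · exact Subtype.ext (Subtype.mk.inj (Sum.inl.inj huv))
          · exact Subtype.ext (mul_right_cancel (Subtype.mk.inj (Sum.inr.inj huv)))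
      _ = 2 * Nat.card W := by rw [Nat.card_sum]; ring
  -- an element fixed as a line modulo `F` is fixed modulo `F`
  have hline : ∀ a ∈ A, ∀ x ∈ P, a * x * a⁻¹ ∈ F ⊔ Subgroup.zpowers x → a * x * a⁻¹ * x⁻¹ ∈ F := by
    intro a ha x hx h
    rcases hsupF F x le_rfl hFP hx _ h with h1 | h1
    · have h2 : x ∈ F := by
        have := Coprime.conj_mem_of_le_normalizer' hFinv ha h1
        simpa [mul_assoc] using this
      exact F.mul_mem h1 (F.inv_mem h2)
    · exact h1
  -- case `|F| < d`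
  have hFd : d ≤ Nat.card F := by
    by_contra hlt
    push Not at hlt
    apply hmoved₁
    refine hline a₁ ha₁ k₁ hk₁ ?_
    by_contra hy
    -- a subgroup of order `d` over `F ⊔ ⟨k₁⟩` avoiding the image
    set y := a₁ * k₁ * a₁⁻¹ with hydef
    have hyP : y ∈ P := Coprime.conj_mem_of_le_normalizer hAP ha₁ hk₁
    obtain ⟨e, he⟩ := IsPGroup.iff_card.mp (hP.to_le hFP)
    have hKP : F ⊔ Subgroup.zpowers k₁ ≤ P := sup_le hFP (Subgroup.zpowers_le.mpr hk₁)
    have hKd : Nat.card (F ⊔ Subgroup.zpowers k₁ : Subgroup X) ≤ d := by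
      refine (hcard2 F k₁ le_rfl hFP hk₁).trans ?_
      rw [he, hd2] at hlt
      rw [he, hd2]
      have : e < e₀ := (Nat.pow_lt_pow_iff_right (by norm_num : 1 < 2)).mp hlt
      rw [← pow_succ']
      exact Nat.pow_le_pow_right (by norm_num) this
    obtain ⟨E, hE, hEmax⟩ := (Set.toFinite
      {W : Subgroup X | F ⊔ Subgroup.zpowers k₁ ≤ W ∧ W ≤ P ∧ y ∉ W ∧ Nat.card W ≤ d}).exists_le_maximal
      (a := F ⊔ Subgroup.zpowers k₁) ⟨le_rfl, hKP, hy, hKd⟩
    obtain ⟨hKE, hEP, hyE, hEd⟩ := hEmax.prop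
    have hFE : F ≤ E := le_sup_left.trans hKE
    have hEcard : Nat.card E = d := by
      refine le_antisymm hEd ?_
      by_contra hlt'
      push Not at hlt'
      obtain ⟨f, hf⟩ := IsPGroup.iff_card.mp (hP.to_le hEP)
      have h2E : 2 * Nat.card E ≤ d := by
        rw [hf, hd2] at hlt' ⊢
        have := (Nat.pow_lt_pow_iff_right (by norm_num : 1 < 2)).mp hlt'
        rw [← pow_succ']
        exact Nat.pow_le_pow_right (by norm_num) this
      have hlt2 : Nat.card (E ⊔ Subgroup.zpowers y : Subgroup X) < Nat.card P :=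
        ((hcard2 E y hFE hEP hyP).trans h2E).trans_lt hd
      obtain ⟨z, hzP, hzE⟩ := SetLike.exists_of_lt (lt_of_le_of_ne (sup_le hEP (Subgroup.zpowers_le.mpr hyP))
        (fun h => hlt2.ne (congrArg (fun W : Subgroup X => Nat.card W) h)))
      have hmem : E ⊔ Subgroup.zpowers z = E := by
        refine (hEmax.eq_of_le ⟨hKE.trans le_sup_left, sup_le hEP (Subgroup.zpowers_le.mpr hzP), ?_,
          (hcard2 E z hFE hEP hzP).trans h2E⟩ le_sup_left).symm
        intro hyz
        rcases hsupF E z hFE hEP hzP y hyz with h | h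
        · exact hyE h
        · refine hzE ?_
          have := mul_mem (Subgroup.inv_mem _ (Subgroup.mem_sup_left h)) (Subgroup.mem_sup_right (S := E) (Subgroup.mem_zpowers y))
          simpa [mul_assoc] using this
      exact hzE (Subgroup.mem_sup_left (hmem ▸ Subgroup.mem_sup_right (Subgroup.mem_zpowers z)))
    exact hyE (Coprime.conj_mem_of_le_normalizer (hinv E hEP (Or.inl hEcard)) ha₁
      (hKE (Subgroup.mem_sup_right (Subgroup.mem_zpowers k₁))))
  -- elements moved modulo `F` have large order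
  have hbig : ∀ a ∈ A, ∀ x ∈ P, a * x * a⁻¹ * x⁻¹ ∉ F → d < orderOf x ∧ (d = 2 → 4 < orderOf x) := by
    intro a ha x hx hmv
    obtain ⟨i, hi⟩ := IsPGroup.iff_orderOf.mp hP ⟨x, hx⟩
    rw [Subgroup.orderOf_mk] at hi
    constructor
    · by_contra hle
      push Not at hle
      rw [hi, hd2, Nat.pow_le_pow_iff_right (by norm_num : 1 < 2)] at hle
      have hKP : F ⊔ Subgroup.zpowers x ≤ P := sup_le hFP (Subgroup.zpowers_le.mpr hx)
      obtain ⟨E, hE, hxE⟩ : ∃ E : Subgroup (F ⊔ Subgroup.zpowers x : Subgroup X),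
          Nat.card E = 2 ^ e₀ ∧ (Subgroup.zpowers x).subgroupOf _ ≤ E := by
        refine Sylow.exists_subgroup_card_pow_prime_le 2 ?_ ((Subgroup.zpowers x).subgroupOf _) ?_ hle
        · obtain ⟨f, hf⟩ := IsPGroup.iff_card.mp (hP.to_le hKP)
          rw [hf]
          refine pow_dvd_pow 2 ((Nat.pow_le_pow_iff_right (by norm_num : 1 < 2)).mp ?_)
          rw [← hf, ← hd2]
          exact hFd.trans (Subgroup.card_le_of_le le_sup_left)
        · rw [Nat.card_congr (Subgroup.subgroupOfEquivOfLe le_sup_right).toEquiv, Nat.card_zpowers, hi]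
      refine hmv (hline a ha x hx ?_)
      have h1 := hinv (E.map (Subgroup.subtype _)) ((Subgroup.map_subtype_le E).trans hKP)
        (Or.inl (by rw [Subgroup.card_map_of_injective (Subgroup.subtype_injective _), hE, hd2]))
      exact Subgroup.map_subtype_le E (Coprime.conj_mem_of_le_normalizer h1 ha
        ⟨⟨x, Subgroup.mem_sup_right (Subgroup.mem_zpowers x)⟩, hxE (Subgroup.mem_zpowers x), rfl⟩)
    · intro hd'
      by_contra hle
      push Not at hle
      rw [hi, show (4 : ℕ) = 2 ^ 2 by norm_num, Nat.pow_le_pow_iff_right (by norm_num : 1 < 2)] at hle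
      have h1 : A ≤ Subgroup.normalizer ((Subgroup.zpowers x : Subgroup X) : Set X) ∨ i ≤ 1 := by
        rcases (show i ≤ 1 ∨ i = 2 by omega) with h | h
        · exact Or.inr h
        · exact Or.inl (hinv _ (Subgroup.zpowers_le.mpr hx) (Or.inr ⟨hd', by rw [Nat.card_zpowers, hi, h]; norm_num⟩))
      rcases h1 with h1 | h1
      · exact hmv (hline a ha x hx (Subgroup.mem_sup_right
          (Coprime.conj_mem_of_le_normalizer h1 ha (Subgroup.mem_zpowers x))))
      · rcases (show i = 0 ∨ i = 1 by omega) with h | h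
        · rw [h, pow_zero, orderOf_eq_one_iff] at hi
          exact hmv (by rw [hi]; simp)
        · refine hmv (hline a ha x hx (Subgroup.mem_sup_right ?_))
          refine Coprime.conj_mem_of_le_normalizer ?_ ha (Subgroup.mem_zpowers x)
          exact hinv _ (Subgroup.zpowers_le.mpr hx) (Or.inl (by rw [Nat.card_zpowers, hi, h, hd']; norm_num))
  -- `A` centralises `F`
  have hFC : A ≤ Subgroup.centralizer (F : Set X) := by
    rcases lt_or_eq_of_le hFd with hlt | heq
    · have hFlt : Nat.card F < n := by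
        rw [← hn]
        refine lt_of_le_of_ne (Subgroup.card_le_of_le hFP) fun h => hmoved₁ ?_
        show a₁ * k₁ * a₁⁻¹ * k₁⁻¹ ∈ F
        rw [Subgroup.eq_of_le_of_card_ge hFP h.ge]
        exact P.mul_mem (Coprime.conj_mem_of_le_normalizer hAP ha₁ hk₁) (P.inv_mem hk₁)
      refine ih _ hFlt F rfl (hP.to_le hFP) hFinv hlt ⟨fun E hE hc => hinv E (hE.trans hFP) hc, ?_⟩
      obtain ⟨f, hf⟩ := IsPGroup.iff_card.mp (hP.to_le hFP)
      have hdvd : 2 ^ e₀ ∣ Nat.card F := by
        rw [hf] at hlt ⊢; rw [hd2] at hlt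
        exact pow_dvd_pow 2 ((Nat.pow_lt_pow_iff_right (by norm_num : 1 < 2)).mp hlt).le
      obtain ⟨E, hE⟩ := Sylow.exists_subgroup_card_pow_prime (G := F) 2 hdvd
      exact ⟨E.map F.subtype, Subgroup.map_subtype_le E,
        by rw [Subgroup.card_map_of_injective F.subtype_injective, hE, hd2]⟩
    · obtain ⟨i, hi⟩ := IsPGroup.iff_orderOf.mp hP ⟨k₁, hk₁⟩
      rw [Subgroup.orderOf_mk] at hi
      have hi' : e₀ < i := by
        have := (hbig a₁ ha₁ k₁ hk₁ hmoved₁).1
        rw [hd2, hi] at this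
        exact (Nat.pow_lt_pow_iff_right (by norm_num : 1 < 2)).mp this
      have hgen : Subgroup.zpowers (k₁ ^ 2) = F := by
        refine Subgroup.eq_of_le_of_card_ge (Subgroup.zpowers_le.mpr (hsq k₁ hk₁)) ?_
        rw [← heq, Nat.card_zpowers, hd2]
        obtain ⟨i', rfl⟩ : ∃ i', i = i' + 1 := ⟨i - 1, by omega⟩
        rw [orderOf_pow' k₁ two_ne_zero, hi, pow_succ, Nat.gcd_mul_left_left, Nat.mul_div_cancel _ two_pos]
        exact Nat.pow_le_pow_right two_pos (by omega)
      intro a ha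
      obtain ⟨j, hj⟩ := IsPGroup.iff_orderOf.mp hP ⟨k₁ ^ 2, P.pow_mem hk₁ 2⟩
      rw [Subgroup.orderOf_mk] at hj
      have hfix := cyclic_two_fixed (hoa a ha) hj
        (hgen ▸ Coprime.conj_mem_of_le_normalizer hFinv ha (hgen ▸ Subgroup.mem_zpowers _))
      rw [Subgroup.mem_centralizer_iff]
      intro f hf
      have hf' : f ∈ Subgroup.zpowers (k₁ ^ 2) := hgen ▸ hf
      obtain ⟨t, rfl⟩ := Subgroup.mem_zpowers_iff.mp hf'
      have : Commute (k₁ ^ 2) a := by
        show k₁ ^ 2 * a = a * k₁ ^ 2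
        nth_rewrite 1 [← hfix]; group
      exact (this.zpow_left t).eq
  -- the commutator subgroup
  set W := ⁅P, A⁆ with hW
  have hWP : W ≤ P := Coprime.commutator_le_of_le_normalizer hAP
  have hWA : A ≤ Subgroup.normalizer (W : Set X) :=
    Coprime.le_normalizer_commutator hAP Subgroup.le_normalizer
  have hWF : ∀ w ∈ W, ∀ f ∈ F, f * w = w * f := by
    have h1 : ⁅⁅F, P⁆, A⁆ = ⊥ := by
      rw [eq_bot_iff]
      refine (Subgroup.commutator_mono ?_ le_rfl).trans
        (le_of_eq (Subgroup.commutator_eq_bot_iff_le_centralizer.mpr (Subgroup.le_centralizer_iff.mp hFC)))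
      rw [Subgroup.commutator_le]
      intro f hf x hx
      exact hcommF f (hFP hf) x hx
    have h2 : ⁅⁅A, F⁆, P⁆ = ⊥ := by
      rw [Subgroup.commutator_eq_bot_iff_le_centralizer.mpr hFC, Subgroup.commutator_bot_left]
    have h3 : ⁅⁅P, A⁆, F⁆ = ⊥ := Subgroup.commutator_commutator_eq_bot_of_rotate h2 h1
    intro w hw f hf
    exact Subgroup.mem_centralizer_iff.mp (Subgroup.commutator_eq_bot_iff_le_centralizer.mp h3 hw) f hf
  have hW2 : ∀ u ∈ W, ∀ v ∈ W, (u * v) ^ 4 = u ^ 4 * v ^ 4 := by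
    intro u hu v hv
    have hc : ∀ w ∈ W, Commute (⁅v, u⁆) w := fun w hw =>
      hWF w hw _ (hcommF v (hWP hv) u (hWP hu))
    have hu2 : Commute v (u * u) := by
      have := hWF v hv _ (hsq u (hWP hu)); rw [pow_two] at this; exact this.symm
    set c := ⁅v, u⁆ with hcdef
    have hvu : v * u = c * u * v := by rw [hcdef, commutatorElement_def]; group
    have hcc : c * c = 1 := by
      have h1 : v * (u * u) = (c * c) * (u * u) * v := by
        calc v * (u * u) = (v * u) * u := by group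
          _ = (c * u * v) * u := by rw [← hvu]
          _ = c * u * (v * u) := by group
          _ = c * u * (c * u * v) := by rw [← hvu]
          _ = c * (u * c) * u * v := by group
          _ = c * (c * u) * u * v := by rw [(hc u hu).eq]
          _ = (c * c) * (u * u) * v := by group
      rw [hu2.eq, mul_assoc (c * c)] at h1
      exact right_eq_mul.mp h1
    have h2 : (u * v) * (u * v) = c * ((u * u) * (v * v)) := by
      calc (u * v) * (u * v) = u * (v * u) * v := by group
        _ = (u * c) * u * v * v := by rw [hvu]; group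
        _ = (c * u) * u * v * v := by rw [(hc u hu).eq]
        _ = _ := by group
    have hcuv : Commute c ((u * u) * (v * v)) :=
      ((hc u hu).mul_right (hc u hu)).mul_right ((hc v hv).mul_right (hc v hv))
    have huv : Commute (u * u) (v * v) := (hu2.symm).mul_right hu2.symm
    rw [show (4 : ℕ) = 2 * 2 by norm_num, pow_mul, pow_mul, pow_mul, pow_two (u * v), h2,
      hcuv.mul_pow, huv.mul_pow, pow_two c, hcc, one_mul, pow_two u, pow_two v]
  have hW4 : ∀ w ∈ W, w ^ 4 = 1 := by
    have hcomm : ⁅W, A⁆ = W := Coprime.commutator_commutator_eq hAP (hcop _ hWP)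
    intro w hw
    have hw' : w ∈ ⁅W, A⁆ := by rw [hcomm]; exact hw
    clear hw
    induction hw' using Subgroup.closure_induction with
    | mem z hz =>
      obtain ⟨u, hu, b, hb, rfl⟩ := hz
      have hu' : b * u⁻¹ * b⁻¹ ∈ W := Coprime.conj_mem_of_le_normalizer hWA hb (W.inv_mem hu)
      rw [show ⁅u, b⁆ = u * (b * u⁻¹ * b⁻¹) by rw [commutatorElement_def]; group, hW2 u hu _ hu', conj_pow]
      have h4 : (u⁻¹) ^ 4 ∈ F := by
        rw [show (4 : ℕ) = 2 * 2 by norm_num, pow_mul]
        exact F.pow_mem (hsq _ (P.inv_mem (hWP hu))) 2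
      have : Commute b ((u⁻¹) ^ 4) := (Subgroup.mem_centralizer_iff.mp (hFC hb) _ h4).symm
      rw [this.eq, mul_inv_cancel_right, inv_pow, mul_inv_cancel]
    | one => exact one_pow 4
    | mul u v hu hv hu4 hv4 =>
      have hu0 : u ∈ W := hcomm.le hu
      have hv0 : v ∈ W := hcomm.le hv
      rw [hW2 u hu0 v hv0, hu4, hv4, one_mul]
    | inv u hu hu4 => rw [inv_pow, hu4, inv_one]
  -- conclusion
  have htriv : ∀ a ∈ A, ∀ x ∈ W, a * x * a⁻¹ * x⁻¹ ∈ F := by
    intro a ha x hx
    by_contra hmv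
    obtain ⟨h1, h2⟩ := hbig a ha x (hWP hx) hmv
    have ho : orderOf x ≤ 4 := Nat.le_of_dvd (by norm_num) (orderOf_dvd_of_pow_eq_one (hW4 x hx))
    rcases (show e₀ = 1 ∨ 2 ≤ e₀ by
      rcases Nat.eq_zero_or_pos e₀ with h | h
      · rw [h, pow_zero] at hd2; omega
      · omega) with h | h
    · have := h2 (by rw [hd2, h]; norm_num); omega
    · have : 2 ^ 2 ≤ 2 ^ e₀ := Nat.pow_le_pow_right two_pos h
      rw [hd2] at h1; omega
  apply hmoved₁
  have hWle : W ≤ F := by
    refine (Coprime.commutator_commutator_eq hAP (hcop _ hWP)).ge.trans ?_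
    rw [Subgroup.commutator_le]
    intro x hx a ha
    have := F.inv_mem (htriv a ha x hx)
    simpa [commutatorElement_def, mul_assoc] using this
  show a₁ * k₁ * a₁⁻¹ * k₁⁻¹ ∈ F
  have := F.inv_mem (hWle (Subgroup.commutator_mem_commutator hk₁ ha₁))
  rwa [show a₁ * k₁ * a₁⁻¹ * k₁⁻¹ = ⁅k₁, a₁⁆⁻¹ by rw [commutatorElement_def]; group]


/-- Let P be a 2-subgroup and A a subgroup of odd order of a finite group, with A normalizing P. Let D ≤ P with 1 < |D| < |P|. If every subgroup of P of order |D|, and also every subgroup of P of order 4 in case |D| = 2, is normalized by A, then A centralizes P. -/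
theorem result {X : Type*} [Group X] [Finite X] (P A D : Subgroup X) (hP : IsPGroup 2 P) (hA : Odd (Nat.card A))
    (hAP : A ≤ Subgroup.normalizer (P : Set X)) (hDP : D ≤ P) (hD1 : 1 < Nat.card D) (hD2 : Nat.card D < Nat.card P)
    (hinv : ∀ E : Subgroup X, E ≤ P → (Nat.card E = Nat.card D ∨ (Nat.card D = 2 ∧ Nat.card E = 4)) → A ≤ Subgroup.normalizer (E : Set X)) :
    A ≤ Subgroup.centralizer (P : Set X) := by
  exact le_centralizer_aux A (Nat.card D) hA hD1 _ P rfl hP hAP hD2 ⟨hinv, ⟨D, hDP, rfl⟩⟩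

end Cfsg.Agent.S3803
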