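import Cfsg.Statements.S3806
import Cfsg.Agent.Lib.MaxClassPow.Basic

set_option autoImplicit false
open Cfsg

namespace Cfsg.Agent.S3806

open scoped commutatorElement

/-- Let p be a prime and S a finite p-group of order pⁿ (n ≥ 2) of maximal nilpotency class n − 1 whose sectional p-rank is exactly k (every section has p-rank at most k, and some section has p-rank k). If p ≥ k + 2 then the order of S is at most p^(2k). -/
theorem result {S : Type*} [Group S] [Finite S] (p : ℕ) [Fact p.Prime] (hS : IsPGroup p S) [Group.IsNilpotent S]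
    (n : ℕ) (hn : 2 ≤ n) (hcard : Nat.card S = p ^ n) (hmax : Group.nilpotencyClass S = n - 1)
    (k : ℕ) (hk : 1 ≤ k) (hsr : Cfsg.SectionalPRankLE p k S ∧ ¬ Cfsg.SectionalPRankLE p (k - 1) S)
    (hpk : k + 2 ≤ p) : Nat.card S ≤ p ^ (2 * k) := by
  have hp := (Fact.out : p.Prime)
  by_contra hlt
  push Not at hlt
  rw [hcard] at hlt
  have hnk : 2 * k + 1 ≤ n := (Nat.pow_lt_pow_iff_right hp.one_lt).1 hlt
  obtain ⟨c, rfl⟩ : ∃ c, n = c + 1 := ⟨n - 1, by omega⟩
  rw [Nat.add_sub_cancel] at hmax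
  have hcardL := fun i (h1 : 1 ≤ i) (h2 : i ≤ c) =>
    Lib.MaxClassPow.card_lcs hS (by omega) hcard hmax h1 h2
  have hneL : ∀ j, j < c → Lib.MaxClassPow.lcs S j ≠ ⊥ := fun j hj h => by
    have := Subgroup.lowerCentralSeries_eq_bot_iff_nilpotencyClass_le.1 h
    omega
  have hidx : ∀ i, 1 ≤ i → i ≤ c → (Lib.MaxClassPow.lcs S i).index = p ^ (i + 1) := by
    intro i h1 h2
    have h3 := Subgroup.card_mul_index (Lib.MaxClassPow.lcs S i)
    rw [hcard, hcardL i h1 h2] at h3
    refine Nat.eq_of_mul_eq_mul_left (pow_pos hp.pos (c - i)) (h3.trans ?_)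
    rw [← pow_add]; congr 1; omega
  obtain ⟨hsr, -⟩ := hsr
  rcases (by omega : k = 1 ∨ 2 ≤ k) with rfl | hk2
  · -- the commutator quotient is elementary of order `p ^ 2`
    set L := Lib.MaxClassPow.lcs S 1
    have hQ : Nat.card (S ⧸ L) = p ^ 2 := hidx 1 le_rfl (by omega)
    have hsec : Lib.SectRank.IsElemSection p L ⊤ := by
      refine ⟨le_top, fun a _ b _ => ?_, fun x _ => ?_⟩
      · have h : ⁅a, b⁆ ∈ L := Subgroup.commutator_mem_commutator (Subgroup.mem_top a) (Subgroup.mem_top b)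
        simpa [commutatorElement_def] using h
      · refine (QuotientGroup.eq_one_iff _).1 ?_
        rw [QuotientGroup.mk_pow]
        obtain ⟨j, hj, hord⟩ := (Nat.dvd_prime_pow hp).1 (hQ ▸ orderOf_dvd_natCard (x : S ⧸ L))
        rcases (by omega : j ≤ 1 ∨ j = 2) with hj1 | rfl
        · exact orderOf_dvd_iff_pow_eq_one.1 (hord ▸ (pow_dvd_pow p hj1).trans (pow_one p).dvd)
        · exact absurd (Lib.MaxClassPow.lcs_one_eq_bot_of_isCyclic
            (isCyclic_of_orderOf_eq_card _ (hord.trans hQ.symm))) (hneL 1 (by omega))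
    have h := hsec.relIndex_le hsr
    rw [Subgroup.relIndex_top_right, hidx 1 le_rfl (by omega)] at h
    exact absurd h (not_le.2 (Nat.pow_lt_pow_right hp.one_lt (by norm_num)))
  set M := Lib.MaxClassPow.lcs S (2 * k)
  have hQ : Nat.card (S ⧸ M) = p ^ (2 * k + 1) := hidx (2 * k) (by omega) (by omega)
  have hQp : IsPGroup p (S ⧸ M) := hS.to_quotient _
  haveI := hQp.isNilpotent
  have hmap : ∀ i, (Lib.MaxClassPow.lcs S i).map (QuotientGroup.mk' M) =
      Lib.MaxClassPow.lcs (S ⧸ M) i := fun i => by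
    rw [Lib.MaxClassPow.lcs, Subgroup.map_lowerCentralSeries,
      Subgroup.map_top_of_surjective _ (QuotientGroup.mk'_surjective M)]
  have hclQ : Group.nilpotencyClass (S ⧸ M) = 2 * k := by
    refine le_antisymm (Subgroup.lowerCentralSeries_eq_bot_iff_nilpotencyClass_le.1 ?_) ?_
    · rw [show (⊤ : Subgroup (S ⧸ M)).lowerCentralSeries (2 * k) = _ from (hmap (2 * k)).symm,
        QuotientGroup.map_mk'_self]
    · by_contra hlt'
      have h : Lib.MaxClassPow.lcs (S ⧸ M) (2 * k - 1) = ⊥ :=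
        Subgroup.lowerCentralSeries_eq_bot_iff_nilpotencyClass_le.2 (by omega)
      rw [← hmap, Subgroup.map_eq_bot_iff, QuotientGroup.ker_mk'] at h
      refine hneL (2 * k - 1) (by omega) (Lib.MaxClassPow.lcs_eq_bot_of_stationary
        (le_antisymm (Lib.MaxClassPow.lcs_le (Nat.le_succ _)) ?_))
      rwa [show 2 * k - 1 + 1 = 2 * k by omega]
  obtain ⟨A, hA, hab, hpow⟩ := Lib.MaxClassPow.exists_elementary hQp hk2 hpk hQ hclQ
  have hsec : Lib.SectRank.IsElemSection p (⊥ : Subgroup (S ⧸ M)) A := by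
    refine ⟨bot_le, fun a ha b hb => ?_, fun a ha => by rw [Subgroup.mem_bot]; exact hpow a ha⟩
    rw [Subgroup.mem_bot, hab a ha b hb]; group
  have h := hsec.relIndex_le (Lib.SectRank.sectionalPRankLE_quotient hsr M)
  rw [Subgroup.relIndex_bot_left, hA] at h
  exact absurd h (not_le.2 (Nat.pow_lt_pow_right hp.one_lt (Nat.lt_succ_self k)))

end Cfsg.Agent.S3806
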