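import Cfsg.Statements.S3811


set_option autoImplicit false
open Cfsg

namespace Cfsg.Agent.S3811

open scoped commutatorElement

universe u

variable {P₀ : Type u} [Group P₀] [Finite P₀] {p : ℕ}

theorem exists_normalizing (hnil : Group.IsNilpotent P₀) {X L : Subgroup P₀} (h : X < L) :
    ∃ x ∈ L, x ∉ X ∧ x ∈ Subgroup.normalizer (X : Set P₀) := by
  have : Group.IsNilpotent L := Subgroup.isNilpotent L
  have hlt : X.subgroupOf L < ⊤ := lt_top_iff_ne_top.2 fun h1 =>
    h.not_ge (Subgroup.subgroupOf_eq_top.1 h1)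
  obtain ⟨x, hx, hxX⟩ := SetLike.exists_of_lt (Group.normalizerCondition_of_isNilpotent _ hlt)
  refine ⟨x, x.2, hxX, Subgroup.mem_normalizer_iff.2 fun n => ⟨fun hn => ?_, fun hn => ?_⟩⟩
  · exact (Subgroup.mem_normalizer_iff.1 hx ⟨n, h.le hn⟩).1 hn
  · have hnL : n ∈ L := by
      have := L.mul_mem (L.mul_mem (L.inv_mem x.2) (h.le hn)) x.2
      simpa [mul_assoc] using this
    exact (Subgroup.mem_normalizer_iff.1 hx ⟨n, hnL⟩).2 hn

theorem normalizer_le [hp : Fact p.Prime] (hnil : Group.IsNilpotent P₀) {X L : Subgroup P₀}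
    (h : X < L) (hidx : X.relIndex (Subgroup.normalizer (X : Set P₀)) = p) :
    Subgroup.normalizer (X : Set P₀) ≤ L := by
  obtain ⟨x, hxL, hxX, hxN⟩ := exists_normalizing hnil h
  set Y := X ⊔ Subgroup.zpowers x with hY
  have hYN : Y ≤ Subgroup.normalizer (X : Set P₀) :=
    sup_le Subgroup.le_normalizer (Subgroup.zpowers_le.2 hxN)
  have hm := Subgroup.relIndex_mul_relIndex X Y _ le_sup_left hYN
  rw [hidx] at hm
  have h1 : X.relIndex Y ≠ 1 := fun h1 =>
    hxX (Subgroup.relIndex_eq_one.1 h1 (le_sup_right (a := X) (Subgroup.mem_zpowers x)))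
  have h2 : X.relIndex Y = p := ((hp.out.eq_one_or_self_of_dvd _ (hm ▸ dvd_mul_right _ _))).resolve_left h1
  rw [h2] at hm
  have h3 : Y.relIndex (Subgroup.normalizer (X : Set P₀)) = 1 :=
    Nat.eq_of_mul_eq_mul_left hp.out.pos (by rw [hm, mul_one])
  exact (Subgroup.relIndex_eq_one.1 h3).trans (sup_le h.le (Subgroup.zpowers_le.2 hxL))

theorem comparable [Fact p.Prime] (hnil : Group.IsNilpotent P₀) {L₁ L₂ : Subgroup P₀}
    (h : (L₁ ⊓ L₂).relIndex (Subgroup.normalizer ((L₁ ⊓ L₂ : Subgroup P₀) : Set P₀)) = p) :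
    L₁ ≤ L₂ ∨ L₂ ≤ L₁ := by
  by_contra hc
  push Not at hc
  have h1 : L₁ ⊓ L₂ < L₁ := lt_of_le_not_ge inf_le_left fun h' => hc.1 (h'.trans inf_le_right)
  have h2 : L₁ ⊓ L₂ < L₂ := lt_of_le_not_ge inf_le_right fun h' => hc.2 (h'.trans inf_le_left)
  have h3 := le_inf (normalizer_le hnil h1 h) (normalizer_le hnil h2 h)
  obtain ⟨x, -, hx, hxN⟩ := exists_normalizing hnil h1
  exact hx (h3 hxN)

theorem card_le_of_pairwise {Q : Type*} [Group Q] [Finite Q] (hp : p.Prime) (hQ : Nat.card Q = p ^ 2)
    {ι : Type*} [Finite ι] (A : ι → Subgroup Q) (hA : Function.Injective A)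
    (hcard : ∀ i, Nat.card (A i) = p) : Nat.card ι ≤ p + 1 := by
  classical
  haveI := Fact.mk hp
  haveI := Fintype.ofFinite ι
  haveI := Fintype.ofFinite Q
  let S : ι → Finset Q := fun i => Finset.univ.filter fun q => q ∈ A i ∧ q ≠ 1
  have hS : ∀ i, (S i).card = p - 1 := by
    intro i
    have h1 : S i = (Finset.univ.filter fun q => q ∈ A i).erase 1 := by
      ext q; simp [S, and_comm]
    rw [h1, Finset.card_erase_of_mem (by simp [(A i).one_mem]), ← Fintype.card_subtype,
      ← Nat.card_eq_fintype_card]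
    exact congrArg (· - 1) (hcard i)
  have hdisj : ((Finset.univ : Finset ι) : Set ι).PairwiseDisjoint S := by
    intro i _ j _ hij
    rw [Function.onFun, Finset.disjoint_left]
    intro q hqi hqj
    obtain ⟨-, hqi, hq1⟩ := Finset.mem_filter.1 hqi
    obtain ⟨-, hqj, -⟩ := Finset.mem_filter.1 hqj
    refine hij (hA ?_)
    have hz : ∀ k, q ∈ A k → Subgroup.zpowers q = A k := by
      intro k hk
      refine Subgroup.eq_of_le_of_card_ge (Subgroup.zpowers_le.2 hk) ?_
      rw [hcard, Nat.card_zpowers]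
      have h := (A k).orderOf_dvd_natCard hk
      rw [hcard] at h
      rcases hp.eq_one_or_self_of_dvd _ h with h' | h'
      · exact absurd (orderOf_eq_one_iff.1 h') hq1
      · omega
    rw [← hz i hqi, ← hz j hqj]
  have hle : ((Finset.univ : Finset ι).biUnion S).card ≤ ((Finset.univ : Finset Q).erase 1).card :=
    Finset.card_le_card fun q hq => by
      simp only [Finset.mem_biUnion] at hq
      obtain ⟨i, -, hi⟩ := hq
      exact Finset.mem_erase.2 ⟨(Finset.mem_filter.1 hi).2.2, Finset.mem_univ q⟩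
  rw [Finset.card_biUnion hdisj, Finset.sum_congr rfl (fun i _ => hS i), Finset.sum_const,
    Finset.card_univ, smul_eq_mul, Finset.card_erase_of_mem (Finset.mem_univ _), Finset.card_univ,
    ← Nat.card_eq_fintype_card, ← Nat.card_eq_fintype_card, hQ] at hle
  obtain ⟨t, rfl⟩ : ∃ t, p = t + 1 := ⟨p - 1, by have := hp.one_le; omega⟩
  have ht : 0 < t := by have := hp.two_le; omega
  have h3 : (t + 1) ^ 2 - 1 = (t + 2) * t := by
    rw [show (t + 1) ^ 2 = (t + 2) * t + 1 by ring]; omega
  rw [h3, Nat.add_sub_cancel] at hle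
  exact Nat.le_of_mul_le_mul_right hle ht

theorem class_eq_one {Q : Type*} [Group Q] [Nontrivial Q] [Group.IsNilpotent Q]
    (h : ∀ a b : Q, a * b = b * a) : Group.nilpotencyClass Q = 1 := by
  have htop : Subgroup.center Q = ⊤ :=
    (Subgroup.eq_top_iff' _).2 fun a => Subgroup.mem_center_iff.2 fun b => h b a
  rw [Group.nilpotencyClass_eq_quotient_center_plus_one]
  have : Group.nilpotencyClass (Q ⧸ Subgroup.center Q) = 0 := by
    rw [Group.nilpotencyClass_zero_iff_subsingleton, QuotientGroup.subsingleton_iff]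
    exact htop
  omega

theorem main : ∀ (n : ℕ) {P : Type u} [Group P] [Finite P] [Fact p.Prime], IsPGroup p P →
    ∀ E : Subgroup P, E.index = n → (∀ a ∈ E, ∀ b ∈ E, a * b = b * a) →
      Subgroup.centralizer (E : Set P) ≤ E →
      E.relIndex (Subgroup.normalizer (E : Set P)) = p → p ^ 2 ≤ E.index →
      ∀ K : Subgroup P, E ≤ K → K ≠ ⊤ →
        K.relIndex (Subgroup.normalizer (K : Set P)) = p ∧
        ∀ [Group.IsNilpotent K] (i : ℕ), K.index * p ^ i = E.index →
          Group.nilpotencyClass K = i + 1 := by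
  intro n
  induction n using Nat.strong_induction_on with
  | _ n ih =>
  intro P _ _ hpf hP E hn hab hC hN hidx K
  have hp : p.Prime := hpf.out
  have hnil : Group.IsNilpotent P := hP.isNilpotent
  obtain ⟨m, hm⟩ : ∃ m, Nat.card K = m := ⟨_, rfl⟩
  induction m using Nat.strong_induction_on generalizing K with
  | _ m ihK =>
  intro hEK hKtop
  have hEbot : E ≠ ⊥ := by
    intro h
    have h1 : (⊤ : Subgroup P) ≤ ⊥ := by
      refine h ▸ le_trans ?_ hC
      intro x _
      refine Subgroup.mem_centralizer_iff.2 fun y hy => ?_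
      rw [show y = 1 from Subgroup.mem_bot.1 (h ▸ hy)]; simp
    exact hKtop (top_le_iff.1 (h1.trans bot_le))
  rcases eq_or_lt_of_le hEK with rfl | hlt
  · refine ⟨hN, fun i hi => ?_⟩
    have hi0 : i = 0 := by
      have h1 : E.index * p ^ i = E.index * p ^ 0 := by rw [hi, pow_zero, mul_one]
      exact Nat.pow_right_injective hp.two_le (Nat.eq_of_mul_eq_mul_left
        (Nat.pos_of_ne_zero Subgroup.index_ne_zero_of_finite) h1)
    haveI : Nontrivial E := (Subgroup.nontrivial_iff_ne_bot E).2 hEbot
    rw [hi0]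
    exact class_eq_one fun a b => Subtype.ext (hab a a.2 b b.2)
  -- the maximal member below `K`
  have hsmall : ∀ X, E ≤ X → X < K → X.relIndex (Subgroup.normalizer (X : Set P)) = p :=
    fun X hX hXK => (ihK (Nat.card X) (hm ▸ Set.ncard_lt_ncard (s := (X : Set P))
      (t := (K : Set P)) (SetLike.coe_ssubset_coe.2 hXK) (Set.toFinite _)) X rfl hX
        (fun h => not_lt_of_ge le_top (h ▸ hXK))).1
  haveI : Finite (Subgroup P) := inferInstance
  obtain ⟨M, ⟨hEM, hMK⟩, hMmax⟩ : ∃ M, (E ≤ M ∧ M < K) ∧ ∀ X, E ≤ X → X < K → M ≤ X → X = M := by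
    obtain ⟨M, hM⟩ := Set.Finite.exists_maximal (s := {X : Subgroup P | E ≤ X ∧ X < K})
      (Set.toFinite _) ⟨E, le_rfl, hlt⟩
    exact ⟨M, hM.1, fun X hX hXK hMX => le_antisymm (hM.2 ⟨hX, hXK⟩ hMX) hMX⟩
  have huniq : ∀ X, E ≤ X → X < K → X ≤ M := by
    intro X hX hXK
    rcases comparable hnil (L₁ := X) (L₂ := M)
      (hsmall _ (le_inf hX hEM) (lt_of_le_of_lt inf_le_right hMK)) with h | h
    · exact h
    · exact (hMmax X hX hXK h).le
  have hNM : Subgroup.normalizer (M : Set P) = K := by
    have h1 := normalizer_le hnil hMK (hsmall M hEM hMK)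
    rcases eq_or_lt_of_le h1 with h | h
    · exact h
    · exfalso
      have h2 := hMmax _ (hEM.trans Subgroup.le_normalizer) h Subgroup.le_normalizer
      have h3 := hsmall M hEM hMK
      rw [h2, Subgroup.relIndex_self] at h3
      exact hp.ne_one h3.symm
  obtain ⟨g, -, hgK, hgN⟩ := exists_normalizing hnil (lt_top_iff_ne_top.2 hKtop)
  have hgmem : ∀ x, x ∈ K ↔ g * x * g⁻¹ ∈ K := Subgroup.mem_normalizer_iff.1 hgN
  set E' := E.map (MulAut.conj g).toMonoidHom with hE'
  have hE'K : E' ≤ K := by
    rintro _ ⟨x, hx, rfl⟩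
    exact (hgmem x).1 (hEK hx)
  have hsup : E ⊔ E' = K := by
    rcases eq_or_lt_of_le (sup_le hEK hE'K) with h | h
    · exact h
    · exfalso
      have hle : E' ≤ M := le_sup_right.trans (huniq _ le_sup_left h)
      set M' := M.map (MulAut.conj g⁻¹).toMonoidHom with hM'
      have hcardM : Nat.card M' = Nat.card M := Subgroup.card_map_of_injective (MulEquiv.injective _)
      have hEM' : E ≤ M' := fun x hx => ⟨g * x * g⁻¹, hle ⟨x, hx, rfl⟩, by simp [mul_assoc]⟩
      have hM'K : M' < K := by
        refine lt_of_le_of_ne ?_ ?_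
        · rintro _ ⟨x, hx, rfl⟩
          refine (hgmem _).2 ?_
          simpa [mul_assoc] using hMK.le hx
        · intro he
          have : Nat.card M < Nat.card K := Set.ncard_lt_ncard (s := (M : Set P)) (t := (K : Set P))
            (SetLike.coe_ssubset_coe.2 hMK) (Set.toFinite _)
          rw [← hcardM, he] at this
          exact lt_irrefl _ this
      have hMM : M' = M := Subgroup.eq_of_le_of_card_ge (huniq M' hEM' hM'K) hcardM.ge
      have hgM : g⁻¹ ∈ Subgroup.normalizer (M : Set P) := by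
        refine Subgroup.mem_normalizer_iff.2 fun x => ⟨fun hx => ?_, fun hx => ?_⟩
        · rw [← hMM]; exact ⟨x, hx, rfl⟩
        · rw [← hMM] at hx
          obtain ⟨y, hy, hy2⟩ := hx
          exact (MulAut.conj g⁻¹).injective hy2 ▸ hy
      rw [hNM] at hgM
      exact hgK (by simpa using K.inv_mem hgM)
  set N₁ := Subgroup.normalizer (E : Set P) with hN₁
  have hN₁K : N₁ ≤ K := normalizer_le hnil hlt hN
  set Z := (Subgroup.center K).map K.subtype with hZ
  have hmemZ : ∀ z, z ∈ Z ↔ z ∈ K ∧ ∀ x ∈ K, z * x = x * z := by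
    intro z
    constructor
    · rintro ⟨w, hw, rfl⟩
      exact ⟨w.2, fun x hx => (congrArg Subtype.val (Subgroup.mem_center_iff.1 hw ⟨x, hx⟩)).symm⟩
    · rintro ⟨hz, hc⟩
      exact ⟨⟨z, hz⟩, Subgroup.mem_center_iff.2 fun x => Subtype.ext (hc x x.2).symm, rfl⟩
  have hZE : Z ≤ E := fun z hz => hC (Subgroup.mem_centralizer_iff.2 fun e he =>
    (((hmemZ z).1 hz).2 e (hEK he)).symm)
  have hEE : ∀ x, x ∈ E → x ∈ E' → x ∈ Z := by
    intro x hx hx'
    refine (hmemZ x).2 ⟨hEK hx, fun y hy => ?_⟩
    have hle : E ⊔ E' ≤ Subgroup.centralizer ({x} : Set P) := by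
      refine sup_le (fun y hy => ?_) (fun y hy => ?_)
      · exact Subgroup.mem_centralizer_iff.2 fun z hz => by
          rw [Set.mem_singleton_iff.1 hz]; exact hab x hx y hy
      · refine Subgroup.mem_centralizer_iff.2 fun z hz => ?_
        rw [Set.mem_singleton_iff.1 hz]
        obtain ⟨a, ha, rfl⟩ := hx'
        obtain ⟨b, hb, rfl⟩ := hy
        rw [← map_mul, ← map_mul, hab a ha b hb]
    exact Subgroup.mem_centralizer_iff.1 (hle (hsup ▸ hy)) x rfl
  have hZn : ∀ h ∈ Subgroup.normalizer (K : Set P), ∀ z ∈ Z, h * z * h⁻¹ ∈ Z := by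
    intro h hh z hz
    have hhm := Subgroup.mem_normalizer_iff.1 hh
    obtain ⟨hzK, hzc⟩ := (hmemZ z).1 hz
    refine (hmemZ _).2 ⟨(hhm z).1 hzK, fun x hx => ?_⟩
    have hy : h⁻¹ * x * h ∈ K := (hhm _).2 (by simpa [mul_assoc] using hx)
    calc h * z * h⁻¹ * x = h * (z * (h⁻¹ * x * h)) * h⁻¹ := by group
      _ = h * (h⁻¹ * x * h * z) * h⁻¹ := by rw [hzc _ hy]
      _ = x * (h * z * h⁻¹) := by group
  haveI hKnil : Group.IsNilpotent K := Subgroup.isNilpotent K
  have hKnab : ¬ ∀ a ∈ K, ∀ b ∈ K, a * b = b * a := fun h => hlt.ne (le_antisymm hEK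
    fun x hx => hC (Subgroup.mem_centralizer_iff.2 fun e he => h e (hEK he) x hx))
  -- key fact: `[E, N(E)]` is central in `K`
  have key : ∀ a ∈ N₁, ∀ b ∈ N₁, ⁅a, b⁆ ∈ Z := by
    haveI hZnK : (Z.subgroupOf K).Normal := ⟨fun z hz k => hZn k (Subgroup.le_normalizer k.2) z hz⟩
    obtain ⟨x, hxK, hxZ, hx2⟩ : ∃ x ∈ K, x ∉ Z ∧ ∀ k ∈ K, ⁅x, k⁆ ∈ Z := by
      have hC0 : Subgroup.center K ≠ ⊤ := fun h => hKnab fun a ha b hb => congrArg Subtype.val
        (Subgroup.mem_center_iff.1 (show (⟨b, hb⟩ : K) ∈ Subgroup.center K by rw [h]; trivial) ⟨a, ha⟩)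
      haveI : Nontrivial (K ⧸ Subgroup.center K) := by
        rw [← not_subsingleton_iff_nontrivial, QuotientGroup.subsingleton_iff]
        exact hC0
      have hKp : IsPGroup p (K ⧸ Subgroup.center K) := (hP.to_subgroup K).to_quotient _
      haveI := hKp.center_nontrivial
      obtain ⟨⟨q, hq⟩, hq1⟩ := exists_ne (1 : Subgroup.center (K ⧸ Subgroup.center K))
      obtain ⟨x, rfl⟩ := QuotientGroup.mk'_surjective _ q
      refine ⟨x, x.2, ?_, fun k hk => ?_⟩
      · intro hxZ
        refine hq1 (Subtype.ext ((QuotientGroup.eq_one_iff x).2 ?_))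
        obtain ⟨w, hw, hw2⟩ := hxZ
        exact (Subtype.ext hw2 : w = x) ▸ hw
      · have h2 : QuotientGroup.mk' (Subgroup.center K) ⁅x, ⟨k, hk⟩⁆ = 1 := by
          rw [map_commutatorElement, commutatorElement_eq_one_iff_mul_comm]
          exact (Subgroup.mem_center_iff.1 hq _).symm
        exact ⟨_, (QuotientGroup.eq_one_iff _).1 h2, rfl⟩
    -- such an `x` normalises `E` and its conjugate
    have haux : ∀ y ∈ K, (∀ k ∈ K, ⁅y, k⁆ ∈ Z) → y ∈ N₁ := by
      intro y hyK hy
      refine Subgroup.mem_normalizer_iff.2 fun e => ⟨fun he => ?_, fun he => ?_⟩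
      · have h1 := E.mul_mem (hZE (hy e (hEK he))) he
        simpa [commutatorElement_def] using h1
      · have heK : e ∈ K := by
          have h0 := K.mul_mem (K.mul_mem (K.inv_mem hyK) (hEK he)) hyK
          simpa [mul_assoc] using h0
        have h1 := E.mul_mem (E.inv_mem (hZE (hy e heK))) he
        simpa [commutatorElement_def, mul_assoc] using h1
    by_cases hcase : ∀ y ∈ K, (∀ k ∈ K, ⁅y, k⁆ ∈ Z) → y ∈ E
    · exfalso
      have h1 := hcase x hxK hx2
      set w := g⁻¹ * x * g with hw
      have hwK : w ∈ K := (hgmem w).2 (by simpa [hw, mul_assoc] using hxK)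
      have hw2 : ∀ k ∈ K, ⁅w, k⁆ ∈ Z := by
        intro k hk
        have h2 := hZn g⁻¹ (Subgroup.inv_mem _ hgN) _ (hx2 _ ((hgmem k).1 hk))
        simpa [hw, commutatorElement_def, mul_assoc] using h2
      exact hxZ (hEE x h1 ⟨w, hcase w hwK hw2, by simp [hw, mul_assoc]⟩)
    · push Not at hcase
      obtain ⟨y, hyK, hy, hyE⟩ := hcase
      have hyN := haux y hyK hy
      have hgen : E ⊔ Subgroup.zpowers y = N₁ := by
        have hle : E ⊔ Subgroup.zpowers y ≤ N₁ :=
          sup_le Subgroup.le_normalizer (Subgroup.zpowers_le.2 hyN)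
        rcases eq_or_lt_of_le hle with h | h
        · exact h
        · exfalso
          have hEY : E < E ⊔ Subgroup.zpowers y := lt_of_le_of_ne le_sup_left fun h' =>
            hyE (h' ▸ le_sup_right (a := E) (Subgroup.mem_zpowers y))
          exact h.not_ge (normalizer_le hnil hEY hN)
      let f : K →* K ⧸ Z.subgroupOf K := QuotientGroup.mk' _
      intro a ha b hb
      have hTgen : N₁.subgroupOf K = E.subgroupOf K ⊔ (Subgroup.zpowers y).subgroupOf K := by
        rw [← hgen, ← Subgroup.subgroupOf_sup hEK (Subgroup.zpowers_le.2 hyK)]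
      have hgens : ∀ u v : K, ((u : P) ∈ E ∨ (u : P) = y) → ((v : P) ∈ E ∨ (v : P) = y) →
          Commute (f u) (f v) := by
        intro u v hu hv
        refine commutatorElement_eq_one_iff_commute.1 ?_
        rw [← map_commutatorElement]
        refine (QuotientGroup.eq_one_iff _).2 (show ⁅(u : P), (v : P)⁆ ∈ Z from ?_)
        rcases hu with hu | hu
        · rcases hv with hv | hv
          · rw [commutatorElement_eq_one_iff_mul_comm.2 (hab _ hu _ hv)]; exact Z.one_mem
          · rw [hv, ← commutatorElement_inv]; exact Z.inv_mem (hy _ u.2)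
        · rw [hu]; exact hy _ v.2
      have hclosure : N₁.subgroupOf K ≤
          Subgroup.closure ({u : K | (u : P) ∈ E ∨ (u : P) = y}) := by
        rw [hTgen]
        refine sup_le (fun u hu => Subgroup.subset_closure (Or.inl hu)) ?_
        rintro ⟨u, huK⟩ ⟨i, hi⟩
        have : (⟨u, huK⟩ : K) = ⟨y, hyK⟩ ^ i := Subtype.ext (by simpa using hi.symm)
        rw [this]
        have hm : (⟨y, hyK⟩ : K) ∈ Subgroup.closure {u : K | (u : P) ∈ E ∨ (u : P) = y} :=
          Subgroup.subset_closure (show y ∈ E ∨ y = y from Or.inr rfl)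
        exact Subgroup.zpow_mem _ hm i
      have hcomm : ∀ u ∈ N₁.subgroupOf K, ∀ v ∈ N₁.subgroupOf K, Commute (f u) (f v) := by
        intro u hu v hv
        set S := {u : K | (u : P) ∈ E ∨ (u : P) = y}
        have h1 : Subgroup.closure S ≤ (Subgroup.centralizer (f '' S)).comap f :=
          (Subgroup.closure_le _).2 fun u hu => Subgroup.mem_centralizer_iff.2 (by
            rintro _ ⟨v, hv, rfl⟩; exact hgens v u hv hu)
        have h2 : Subgroup.closure S ≤
            (Subgroup.centralizer (((Subgroup.closure S).map f : Subgroup _) : Set (K ⧸ Z.subgroupOf K))).comap f :=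
          (Subgroup.closure_le _).2 fun u hu => Subgroup.mem_centralizer_iff.2 (by
            rintro _ ⟨v, hv, rfl⟩
            exact (Subgroup.mem_centralizer_iff.1 (h1 hv) _ ⟨u, hu, rfl⟩).symm)
        exact (Subgroup.mem_centralizer_iff.1 (h2 (hclosure hu)) _
          (Subgroup.mem_map_of_mem f (hclosure hv))).symm
      have := hcomm ⟨a, hN₁K ha⟩ ha ⟨b, hN₁K hb⟩ hb
      have h2 := (map_commutatorElement f _ _).trans (commutatorElement_eq_one_iff_commute.2 this)
      have h3 := (QuotientGroup.eq_one_iff _).1 h2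
      exact h3
  -- the quotient
  set NK := Subgroup.normalizer (K : Set P) with hNK
  set ZN := Z.subgroupOf NK with hZN
  haveI : ZN.Normal := ⟨fun z hz k => hZn k k.2 z hz⟩
  set φ := QuotientGroup.mk' ZN with hφ
  have hφs : Function.Surjective φ := QuotientGroup.mk'_surjective _
  have hKN : K ≤ NK := Subgroup.le_normalizer
  have hN₁N : N₁ ≤ NK := hN₁K.trans hKN
  have hker : ∀ X : Subgroup P, Z ≤ X → ((X.subgroupOf NK).map φ).comap φ = X.subgroupOf NK := by
    intro X hX
    rw [Subgroup.comap_map_eq, QuotientGroup.ker_mk', sup_eq_left]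
    exact Subgroup.comap_mono hX
  have hindex : ∀ X : Subgroup P, Z ≤ X → X ≤ NK → ((X.subgroupOf NK).map φ).index = X.relIndex NK := by
    intro X hX _
    rw [Subgroup.index_map_eq _ hφs]
    · rfl
    · rw [QuotientGroup.ker_mk']; exact Subgroup.comap_mono hX
  have hcls : Group.nilpotencyClass K = Group.nilpotencyClass (K ⧸ Subgroup.center K) + 1 := by
    haveI : Nontrivial K := (Subgroup.nontrivial_iff_ne_bot K).2 fun h =>
      hEbot (le_bot_iff.1 (h ▸ hEK))
    exact Group.nilpotencyClass_eq_quotient_center_plus_one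
  have hZlt : N₁.relIndex K * K.index * p = E.index := by
    rw [Subgroup.relIndex_mul_index hN₁K, mul_comm, ← hN]
    exact Subgroup.relIndex_mul_index Subgroup.le_normalizer
  rcases eq_or_lt_of_le hN₁K with heq | hN₁lt
  · -- `K = N(E)`
    constructor
    · -- count conjugates of `E`
      have hEidx : E.relIndex K = p := heq ▸ hN
      haveI : (Z.subgroupOf K).Normal := ⟨fun z hz k => hZn k (Subgroup.le_normalizer k.2) z hz⟩
      haveI : (E.subgroupOf K).Normal := by
        rw [← heq]; exact Subgroup.normal_in_normalizer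
      let conjE : NK → Subgroup P := fun h => E.map (MulAut.conj (h : P)).toMonoidHom
      have hconjK : ∀ h, conjE h ≤ K := by
        rintro h _ ⟨x, hx, rfl⟩
        exact (Subgroup.mem_normalizer_iff.1 h.2 x).1 (hEK hx)
      have hconjidx : ∀ h, (conjE h).relIndex K = p := by
        intro h
        have h1 : K.map (MulAut.conj (h : P)).toMonoidHom = K := by
          refine Subgroup.eq_of_le_of_card_ge ?_ (Subgroup.card_map_of_injective (MulEquiv.injective _)).ge
          rintro _ ⟨x, hx, rfl⟩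
          exact (Subgroup.mem_normalizer_iff.1 h.2 x).1 hx
        conv_lhs => rw [← h1]
        rw [Subgroup.relIndex_map_map_of_injective _ _ (MulEquiv.injective _), hEidx]
      have hZconj : ∀ h, Z ≤ conjE h := by
        intro h z hz
        exact ⟨_, hZE (hZn _ (NK.inv_mem h.2) z hz), by simp [mul_assoc]⟩
      have hE'E : ¬ E' ≤ E := fun h => hlt.ne (hsup ▸ (sup_eq_left.2 h).symm)
      have hE'idx : E'.relIndex K = p := hconjidx ⟨g, hgN⟩
      have hprod : (E ⊓ E').relIndex K = p * p := by
        rw [← Subgroup.relIndex_mul_relIndex (E ⊓ E') E K inf_le_left hEK, hEidx]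
        congr 1
        rw [Subgroup.inf_relIndex_left]
        have hdvd : E'.relIndex E ∣ p := by
          rw [← hE'idx]
          haveI : (E'.subgroupOf K).Normal := by
            have hE'cop : (E'.subgroupOf K).index = (Nat.card K).minFac := by
              obtain ⟨k, hk⟩ := IsPGroup.iff_card.1 (hP.to_subgroup K)
              rcases k with _ | k
              · rw [pow_zero, Subgroup.card_eq_one] at hk
                exact absurd (le_bot_iff.1 (hk ▸ hEK)) hEbot
              · rw [hk, hp.pow_minFac (Nat.succ_ne_zero k)]; exact hE'idx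
            exact Subgroup.normal_of_index_eq_minFac_card hE'cop
          have h1 : E'.relIndex E = (E'.subgroupOf K).relIndex (E.subgroupOf K) :=
            (Subgroup.relIndex_subgroupOf hEK).symm
          rw [h1]
          exact Subgroup.relIndex_dvd_index_of_normal _ _
        refine ((hp.eq_one_or_self_of_dvd _ hdvd).resolve_left fun h1 => ?_)
        have h2 := Subgroup.relIndex_eq_one.1 h1
        exact hE'E (Subgroup.eq_of_le_of_card_ge h2
          (by rw [hE', Subgroup.card_map_of_injective (MulEquiv.injective _)])).ge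
      have hZeq : Z = E ⊓ E' := le_antisymm (le_inf hZE (hZconj ⟨g, hgN⟩))
        (fun x hx => hEE x hx.1 hx.2)
      let Q := K ⧸ Z.subgroupOf K
      have hQ : Nat.card Q = p ^ 2 := by
        rw [pow_two, ← hprod, ← hZeq]
        rfl
      let A : Set (Subgroup P) := Set.range conjE
      have hA : Nat.card A ≤ p + 1 := by
        refine card_le_of_pairwise hp hQ
          (fun X : A => ((X : Subgroup P).subgroupOf K).map (QuotientGroup.mk' (Z.subgroupOf K))) ?_ ?_
        · rintro ⟨X, h, rfl⟩ ⟨Y, h', rfl⟩ hXY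
          have h1 := congrArg (Subgroup.comap (QuotientGroup.mk' (Z.subgroupOf K))) hXY
          simp only [Subgroup.comap_map_eq, QuotientGroup.ker_mk'] at h1
          rw [sup_eq_left.2 (show Z.subgroupOf K ≤ (conjE h).subgroupOf K from Subgroup.comap_mono (hZconj h)),
            sup_eq_left.2 (show Z.subgroupOf K ≤ (conjE h').subgroupOf K from Subgroup.comap_mono (hZconj h')),
            Subgroup.subgroupOf_inj, inf_eq_left.2 (hconjK h), inf_eq_left.2 (hconjK h')] at h1
          exact Subtype.ext h1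
        · rintro ⟨X, h, rfl⟩
          have h1 := Subgroup.card_mul_index
            (((conjE h).subgroupOf K).map (QuotientGroup.mk' (Z.subgroupOf K)))
          rw [Subgroup.index_map_eq _ (QuotientGroup.mk'_surjective _)
              (by rw [QuotientGroup.ker_mk']; exact Subgroup.comap_mono (hZconj h)),
            show Nat.card (K ⧸ Z.subgroupOf K) = p ^ 2 from hQ, pow_two] at h1
          rw [show ((conjE h).subgroupOf K).index = p from hconjidx h] at h1
          exact Nat.eq_of_mul_eq_mul_right hp.pos h1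
      have hcount : Nat.card A = K.relIndex NK := by
        refine Nat.card_congr (Equiv.ofBijective (fun X : A => (⟦Classical.choose X.2⟧ : NK ⧸ K.subgroupOf NK)) ⟨?_, ?_⟩)
        · intro X Y hXY
          have h1 : (Classical.choose X.2)⁻¹ * Classical.choose Y.2 ∈ K.subgroupOf NK :=
            QuotientGroup.eq.1 hXY
          apply Subtype.ext
          rw [← Classical.choose_spec X.2, ← Classical.choose_spec Y.2]
          set a := Classical.choose X.2
          set b := Classical.choose Y.2
          have h2 : ((a : P))⁻¹ * b ∈ N₁ := heq ▸ h1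
          ext x
          constructor
          · rintro ⟨e, he, rfl⟩
            exact ⟨((a : P)⁻¹ * b)⁻¹ * e * ((a : P)⁻¹ * b),
              (Subgroup.mem_normalizer_iff.1 h2 _).2 (by simpa [mul_assoc] using he), by simp [mul_assoc]⟩
          · rintro ⟨e, he, rfl⟩
            exact ⟨(a : P)⁻¹ * b * e * ((a : P)⁻¹ * b)⁻¹, (Subgroup.mem_normalizer_iff.1 h2 e).1 he,
              by simp [mul_assoc]⟩
        · intro q
          obtain ⟨h, rfl⟩ := QuotientGroup.mk_surjective q
          refine ⟨⟨conjE h, h, rfl⟩, QuotientGroup.eq.2 ?_⟩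
          have hh : conjE (Classical.choose (⟨h, rfl⟩ : conjE h ∈ Set.range conjE)) = conjE h :=
            Classical.choose_spec (⟨h, rfl⟩ : conjE h ∈ Set.range conjE)
          set a := Classical.choose (⟨h, rfl⟩ : conjE h ∈ Set.range conjE)
          show (a : P)⁻¹ * h ∈ K
          rw [← heq]
          refine Subgroup.mem_normalizer_iff.2 fun x => ⟨fun hx => ?_, fun hx => ?_⟩
          · have h3 : (h : P) * x * (h : P)⁻¹ ∈ conjE a := hh ▸ ⟨x, hx, rfl⟩
            obtain ⟨e, he, he2⟩ := h3
            have he3 : (a : P) * e * (a : P)⁻¹ = h * x * (h : P)⁻¹ := he2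
            have : (a : P)⁻¹ * h * x * ((a : P)⁻¹ * h)⁻¹ = e := by
              calc _ = (a : P)⁻¹ * (h * x * (h : P)⁻¹) * a := by group
                _ = e := by rw [← he3]; group
            rwa [this]
          · have h3 : (a : P) * ((a : P)⁻¹ * h * x * ((a : P)⁻¹ * h)⁻¹) * (a : P)⁻¹ ∈ conjE h :=
              hh.symm ▸ ⟨_, hx, rfl⟩
            obtain ⟨e, he, he2⟩ := h3
            have he3 : (h : P) * e * (h : P)⁻¹ = h * x * (h : P)⁻¹ := by
              refine (show (h : P) * e * (h : P)⁻¹ = _ from he2).trans ?_; group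
            exact mul_left_cancel (mul_right_cancel he3) ▸ he
      obtain ⟨k, hk⟩ := (hP.to_subgroup NK).index (K.subgroupOf NK)
      have hk' : K.relIndex NK = p ^ k := hk
      rw [hcount, hk'] at hA
      rw [hk']
      have h2p : p + 1 < p ^ 2 := by nlinarith [hp.two_le]
      rcases k with _ | _ | k
      · exfalso
        rw [pow_zero] at hk'
        exact hgK (Subgroup.relIndex_eq_one.1 hk' hgN)
      · simp
      · have : p ^ 2 ≤ p ^ (k + 1 + 1) := Nat.pow_le_pow_right hp.pos (by omega)
        omega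
    · intro _ i hi
      have hi1 : i = 1 := by
        rw [← hZlt, heq, Subgroup.relIndex_self, one_mul] at hi
        refine Nat.pow_right_injective hp.two_le (?_ : p ^ i = p ^ 1)
        rw [pow_one]
        exact Nat.eq_of_mul_eq_mul_left (Nat.pos_of_ne_zero Subgroup.index_ne_zero_of_finite) hi
      rw [hcls, hi1]
      haveI : Nontrivial (K ⧸ Subgroup.center K) := by
        rw [← not_subsingleton_iff_nontrivial, QuotientGroup.subsingleton_iff]
        exact fun h => hKnab fun a ha b hb => congrArg Subtype.val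
          (Subgroup.mem_center_iff.1 (show (⟨b, hb⟩ : K) ∈ Subgroup.center K by rw [h]; trivial) ⟨a, ha⟩)
      rw [class_eq_one (Q := K ⧸ Subgroup.center K)]
      intro a b
      obtain ⟨a, rfl⟩ := QuotientGroup.mk'_surjective _ a
      obtain ⟨b, rfl⟩ := QuotientGroup.mk'_surjective _ b
      refine commutatorElement_eq_one_iff_mul_comm.1 ?_
      rw [← map_commutatorElement]
      refine (QuotientGroup.eq_one_iff _).2 ?_
      obtain ⟨w, hw, hw2⟩ := key a (heq ▸ a.2) b (heq ▸ b.2)
      exact (Subtype.ext hw2 : w = ⁅a, b⁆) ▸ hw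
  · -- induction via the quotient
    set E₂ := (N₁.subgroupOf NK).map φ with hE₂
    have hZN₁ : Z ≤ N₁ := hZE.trans Subgroup.le_normalizer
    have hprodidx : N₁.relIndex NK = N₁.relIndex K * K.relIndex NK :=
      (Subgroup.relIndex_mul_relIndex N₁ K NK hN₁K hKN).symm
    have hgK1 : K.relIndex NK ≠ 1 := fun h => hgK (Subgroup.relIndex_eq_one.1 h hgN)
    have hdvdp : ∀ A B : Subgroup P, A.relIndex B ≠ 1 → p ≤ A.relIndex B := by
      intro A B hne
      obtain ⟨k, hk⟩ := (hP.to_subgroup B).index (A.subgroupOf B)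
      have hk' : A.relIndex B = p ^ k := hk
      rw [hk'] at hne ⊢
      rcases k with _ | k
      · simp at hne
      · exact Nat.le_self_pow (Nat.succ_ne_zero k) p
    have hlt2 : E₂.index < n := by
      rw [hindex N₁ hZN₁ hN₁N, ← hn, ← hZlt, hprodidx]
      have h1 : K.relIndex NK ≤ K.index := Nat.le_of_dvd
        (Nat.pos_of_ne_zero Subgroup.index_ne_zero_of_finite)
        (⟨NK.index, (Subgroup.relIndex_mul_index hKN).symm⟩)
      have h2 : 0 < N₁.relIndex K := Nat.pos_of_ne_zero Subgroup.index_ne_zero_of_finite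
      have h3 : 0 < K.index := Nat.pos_of_ne_zero Subgroup.index_ne_zero_of_finite
      calc N₁.relIndex K * K.relIndex NK ≤ N₁.relIndex K * K.index := Nat.mul_le_mul_left _ h1
        _ < N₁.relIndex K * K.index * p := lt_mul_of_one_lt_right (Nat.mul_pos h2 h3) hp.one_lt
    have hab2 : ∀ a ∈ E₂, ∀ b ∈ E₂, a * b = b * a := by
      rintro _ ⟨a, ha, rfl⟩ _ ⟨b, hb, rfl⟩
      refine commutatorElement_eq_one_iff_mul_comm.1 ?_
      rw [← map_commutatorElement]
      exact (QuotientGroup.eq_one_iff _).2 (key a ha b hb)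
    have hC2 : Subgroup.centralizer (E₂ : Set (NK ⧸ ZN)) ≤ E₂ := by
      intro q hq
      obtain ⟨x, rfl⟩ := hφs q
      have hxe : ∀ e ∈ N₁, ⁅(x : P), e⁆ ∈ Z := by
        intro e he
        have h1 : φ ⁅x, ⟨e, hN₁N he⟩⁆ = 1 := by
          rw [map_commutatorElement, commutatorElement_eq_one_iff_mul_comm]
          exact (Subgroup.mem_centralizer_iff.1 hq _
            (Subgroup.mem_map_of_mem φ (show (⟨e, hN₁N he⟩ : NK) ∈ N₁.subgroupOf NK from he))).symm
        have h3 := (QuotientGroup.eq_one_iff _).1 h1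
        exact h3
      refine Subgroup.mem_map_of_mem φ (show (x : P) ∈ N₁ from ?_)
      have hfwd : ∀ e ∈ E, (x : P) * e * (x : P)⁻¹ ∈ E := fun e he => by
        have := E.mul_mem (hZE (hxe e (Subgroup.le_normalizer he))) he
        simpa [commutatorElement_def] using this
      have hmap : E.map (MulAut.conj (x : P)).toMonoidHom = E :=
        Subgroup.eq_of_le_of_card_ge (by rintro _ ⟨e, he, rfl⟩; exact hfwd e he)
          (Subgroup.card_map_of_injective (MulEquiv.injective _)).ge
      refine Subgroup.mem_normalizer_iff.2 fun e => ⟨hfwd e, fun he => ?_⟩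
      rw [← hmap] at he
      obtain ⟨e', he', he2⟩ := he
      exact (MulAut.conj (x : P)).injective he2 ▸ he'
    have hnormimg : ∀ X : Subgroup P, Z ≤ X → X ≤ NK →
        ((X.subgroupOf NK).map φ).relIndex (Subgroup.normalizer ((X.subgroupOf NK).map φ : Set (NK ⧸ ZN))) =
          X.relIndex (Subgroup.normalizer (X : Set P) ⊓ NK) := by
      intro X hX hXN
      have h1 : (Subgroup.normalizer ((X.subgroupOf NK).map φ : Set (NK ⧸ ZN))).comap φ =
          (Subgroup.normalizer (X : Set P)).subgroupOf NK := by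
        rw [Subgroup.comap_normalizer_eq_of_surjective _ hφs, hker X hX, Subgroup.subgroupOf_normalizer_eq hXN]
      have h2 := Subgroup.relIndex_comap ((X.subgroupOf NK).map φ) φ
        ((Subgroup.normalizer ((X.subgroupOf NK).map φ : Set (NK ⧸ ZN))).comap φ)
      rw [Subgroup.map_comap_eq_self_of_surjective hφs, hker X hX, h1] at h2
      rw [← h2, ← Subgroup.relIndex_subgroupOf (inf_le_right : Subgroup.normalizer (X : Set P) ⊓ NK ≤ NK),
        Subgroup.inf_subgroupOf_right]
    have hN2 : E₂.relIndex (Subgroup.normalizer (E₂ : Set (NK ⧸ ZN))) = p := by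
      rw [hE₂, hnormimg N₁ hZN₁ hN₁N]
      have h1 := hsmall N₁ Subgroup.le_normalizer hN₁lt
      rwa [inf_eq_left.2 ((normalizer_le hnil hN₁lt h1).trans hKN)]
    have hidx2 : p ^ 2 ≤ E₂.index := by
      rw [hindex N₁ hZN₁ hN₁N, hprodidx, pow_two]
      exact Nat.mul_le_mul
        (hdvdp _ _ fun h => hN₁lt.not_ge (Subgroup.relIndex_eq_one.1 h)) (hdvdp _ _ hgK1)
    have hnpP : IsPGroup p (NK ⧸ ZN) := (hP.to_subgroup NK).to_quotient _
    set K₂ := (K.subgroupOf NK).map φ with hK₂
    have hZK : Z ≤ K := hZE.trans hEK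
    have hK₂top : K₂ ≠ ⊤ := by
      rw [← Subgroup.index_eq_one.ne, hindex K hZK hKN]
      exact hgK1
    obtain ⟨hi2, hcl2⟩ := ih _ hlt2 hnpP E₂ rfl hab2 hC2 hN2 hidx2 K₂
      (Subgroup.map_mono (Subgroup.comap_mono hN₁K)) hK₂top
    rw [hK₂, hnormimg K hZK hKN, inf_idem] at hi2
    refine ⟨hi2, ?_⟩
    intro _ i hi
    rcases i with _ | i
    · exfalso
      rw [pow_zero, mul_one] at hi
      have h1 := Subgroup.relIndex_mul_index hEK
      rw [hi] at h1
      have h2 : E.relIndex K = 1 := Nat.eq_of_mul_eq_mul_right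
        (Nat.pos_of_ne_zero Subgroup.index_ne_zero_of_finite) (h1.trans (one_mul _).symm)
      exact hlt.not_ge (Subgroup.relIndex_eq_one.1 h2)
    let f : K →* K₂ := (φ.comp (Subgroup.inclusion hKN)).codRestrict K₂
      (fun k => Subgroup.mem_map_of_mem φ (show (Subgroup.inclusion hKN k : P) ∈ K from k.2))
    have hfs : Function.Surjective f := by
      rintro ⟨_, ⟨k, hk, rfl⟩⟩
      exact ⟨⟨(k : P), hk⟩, Subtype.ext rfl⟩
    have hfk : f.ker = Subgroup.center K := by
      ext k
      constructor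
      · intro hk
        have h1 : φ (Subgroup.inclusion hKN k) = 1 := congrArg Subtype.val hk
        have h3 := (QuotientGroup.eq_one_iff _).1 h1
        obtain ⟨w, hw, hw2⟩ : (k : P) ∈ Z := h3
        exact (Subtype.ext hw2 : w = k) ▸ hw
      · intro hk
        exact Subtype.ext ((QuotientGroup.eq_one_iff _).2 ⟨k, hk, rfl⟩)
    let e : K ⧸ Subgroup.center K ≃* K₂ :=
      (QuotientGroup.quotientMulEquivOfEq hfk.symm).trans
        (QuotientGroup.quotientKerEquivOfSurjective f hfs)
    haveI : Group.IsNilpotent K₂ := Group.isNilpotent_congr e |>.1 inferInstance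
    have heqcls : Group.nilpotencyClass (K ⧸ Subgroup.center K) = Group.nilpotencyClass K₂ :=
      le_antisymm (Group.nilpotencyClass_le_of_surjective e.symm.toMonoidHom e.symm.surjective)
        (Group.nilpotencyClass_le_of_surjective e.toMonoidHom e.surjective)
    rw [hcls, heqcls, hcl2 i]
    rw [hindex K hZK hKN, hindex N₁ hZN₁ hN₁N, hprodidx]
    rw [← hZlt, pow_succ, ← mul_assoc] at hi
    have h4 := Nat.eq_of_mul_eq_mul_right hp.pos hi
    have h5 : p ^ i = N₁.relIndex K := Nat.eq_of_mul_eq_mul_left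
      (Nat.pos_of_ne_zero (Subgroup.index_ne_zero_of_finite (H := K))) (h4.trans (mul_comm _ _))
    rw [h5, mul_comm]


/-- Let P be a finite p-group and E an abelian subgroup of P that contains its centralizer, has index p in its normalizer, and has index at least p² in P. Then the subgroups of P containing E are totally ordered by inclusion, each proper one has index p in its normalizer (so they form the normalizer tower of E, with all steps of index p), and the i-th member of the tower above E has nilpotency class i + 1 whenever it is a proper subgroup of P. -/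
theorem result {P : Type*} [Group P] [Finite P] (p : ℕ) [Fact p.Prime] (hP : IsPGroup p P)
    (E : Subgroup P) (hEab : IsMulCommutative ↥E) (hC : Subgroup.centralizer (E : Set P) ≤ E)
    (hN : (E.subgroupOf (Subgroup.normalizer (E : Set P))).index = p) (hidx : p ^ 2 ≤ E.index) :
    (∀ K L : Subgroup P, E ≤ K → E ≤ L → K ≤ L ∨ L ≤ K) ∧
      (∀ K : Subgroup P, E ≤ K → K ≠ ⊤ → (K.subgroupOf (Subgroup.normalizer (K : Set P))).index = p) ∧
      ∀ (i : ℕ) (K : Subgroup P) [Group.IsNilpotent ↥K], E ≤ K → K ≠ ⊤ → K.index * p ^ i = E.index →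
        Group.nilpotencyClass ↥K = i + 1 := by
  have hnil : Group.IsNilpotent P := hP.isNilpotent
  have hab : ∀ a ∈ E, ∀ b ∈ E, a * b = b * a := fun a ha b hb =>
    congrArg Subtype.val (hEab.is_comm.comm ⟨a, ha⟩ ⟨b, hb⟩)
  have h := main (p := p) _ hP E rfl hab hC hN hidx
  refine ⟨?_, fun K hK hKtop => (h K hK hKtop).1, fun i K _ hK hKtop hi => (h K hK hKtop).2 i hi⟩
  intro K L hK hL
  by_cases htop : K ⊓ L = ⊤
  · exact Or.inl (le_top.trans (htop.ge.trans inf_le_right))
  · exact comparable hnil (h _ (le_inf hK hL) htop).1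

end Cfsg.Agent.S3811
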