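import Cfsg.Statements.S3814
import Cfsg.Agent.Lib.PairSpectrum.Main

set_option autoImplicit false
open Cfsg
open Cfsg.Agent.Lib

namespace Cfsg.Agent.S3814

/-- A criterion for nonsolvability from element orders: let G be a finite group and σ a set of at least four primes such that for all distinct p, q ∈ σ the product pq is the order of some element of G, while for all pairwise distinct p, q, r ∈ σ no element of G has order pqr. Then G is not solvable. -/
theorem result {G : Type*} [Group G] [Finite G]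
    (σ : Finset ℕ) (hσ : 4 ≤ σ.card) (hprime : ∀ p ∈ σ, p.Prime)
    (h2 : ∀ p ∈ σ, ∀ q ∈ σ, p ≠ q → ∃ g : G, orderOf g = p * q)
    (h3 : ∀ p ∈ σ, ∀ q ∈ σ, ∀ r ∈ σ, p ≠ q → q ≠ r → p ≠ r → ∀ g : G, orderOf g ≠ p * q * r) :
    ¬ Group.IsSolvable G := by
  intro hsolv
  obtain ⟨τ, hτσ, hτ4⟩ := Finset.exists_subset_card_eq hσ
  obtain ⟨H, hH⟩ := Hall.exists_isPiHall (G := G) (↑τ : Set ℕ)
  refine PairSpectrum.false_of_spec (G := H) (σ := τ)
    ⟨fun u hu => hprime u (hτσ hu), hH.1, ?_, ?_⟩ hτ4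
  · intro u hu v hv huv
    obtain ⟨g, hg⟩ := h2 u (hτσ hu) v (hτσ hv) huv
    have hup := hprime u (hτσ hu)
    have hvp := hprime v (hτσ hv)
    obtain ⟨c, hc⟩ := PairSpectrum.Spec.exists_conj_mem hH (U := Subgroup.zpowers g) (by
      rw [Nat.card_zpowers, hg]
      exact (by simpa using Hall.isPiNumber_pow_prime (π := (↑τ : Set ℕ)) hup hu 1 :
        Hall.IsPiNumber (↑τ : Set ℕ) u).mul
        (by simpa using Hall.isPiNumber_pow_prime (π := (↑τ : Set ℕ)) hvp hv 1))
    set h : H := ⟨c⁻¹ * g * c, hc g (Subgroup.mem_zpowers g)⟩ with hh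
    have ho : orderOf h = u * v := by
      rw [hh, Subgroup.orderOf_mk, PairSpectrum.Spec.orderOf_conj', hg]
    refine ⟨h ^ v, h ^ u, ?_, ?_, Commute.pow_pow_self h v u⟩
    · rw [orderOf_pow_of_dvd hvp.ne_zero (ho ▸ dvd_mul_left v u), ho, Nat.mul_div_cancel u hvp.pos]
    · rw [orderOf_pow_of_dvd hup.ne_zero (ho ▸ dvd_mul_right u v), ho, Nat.mul_div_cancel_left v hup.pos]
  · intro x y z hx hy hz hxy hyz hxz cxy cyz cxz
    have hxp := hprime _ (hτσ hx)
    have hyp := hprime _ (hτσ hy)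
    have hzp := hprime _ (hτσ hz)
    have hco : (orderOf x).Coprime (orderOf y) := (Nat.coprime_primes hxp hyp).mpr hxy
    have hxyo := cxy.orderOf_mul_eq_mul_orderOf_of_coprime hco
    have hco2 : (orderOf (x * y)).Coprime (orderOf z) := by
      rw [hxyo]
      exact ((Nat.coprime_primes hxp hzp).mpr hxz).mul_left ((Nat.coprime_primes hyp hzp).mpr hyz)
    refine h3 _ (hτσ hx) _ (hτσ hy) _ (hτσ hz) hxy hyz hxz ((x * y * z : H) : G) ?_
    rw [Subgroup.orderOf_coe, (cxz.mul_left cyz).orderOf_mul_eq_mul_orderOf_of_coprime hco2, hxyo]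

end Cfsg.Agent.S3814
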