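import Cfsg.Statements.S3815
import Mathlib

set_option autoImplicit false
open Cfsg

namespace Cfsg.Agent.S3815

/-- Let G be a finite group, p a prime and d ∈ G an element of order prime to p. If dg has order prime to p for every element g ∈ G of order prime to p, then d ∈ O_{p'}(G). -/
theorem result {G : Type*} [Group G] [Finite G] {p : ℕ} [Fact p.Prime]
    (d : G) (hd : (orderOf d).Coprime p)
    (h : ∀ g : G, (orderOf g).Coprime p → (orderOf (d * g)).Coprime p) :
    d ∈ Cfsg.pPrimeCore p G := by
  have hp : p.Prime := Fact.out
  let D : Subgroup G :=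
    { carrier := {e : G | ∀ g : G, (orderOf g).Coprime p → (orderOf (e * g)).Coprime p}
      one_mem' := by intro g hg; simpa using hg
      mul_mem' := by
        intro a b ha hb g hg
        rw [mul_assoc]; exact ha _ (hb g hg)
      inv_mem' := by
        intro a ha g hg
        have key : ∀ n : ℕ, ∀ g : G, (orderOf g).Coprime p → (orderOf (a ^ n * g)).Coprime p := by
          intro n
          induction n with
          | zero => intro g hg; simpa using hg
          | succ n ih => intro g hg; rw [pow_succ, mul_assoc]; exact ih _ (ha g hg)
        have : a⁻¹ = a ^ (orderOf a - 1) := by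
          rw [inv_eq_iff_mul_eq_one, ← pow_succ', Nat.sub_add_cancel (orderOf_pos a), pow_orderOf_eq_one]
        rw [this]; exact key _ g hg }
  have hD : D.Normal := by
    constructor
    intro a ha c g hg
    have hc : ∀ x : G, orderOf (c * x * c⁻¹) = orderOf x := fun x =>
      orderOf_injective (MulAut.conj c).toMonoidHom (MulAut.conj c).injective x
    have h1 : (orderOf (c⁻¹ * g * c)).Coprime p := by
      have := hc (c⁻¹ * g * c); simp [mul_assoc] at this; rw [mul_assoc, ← this]; exact hg
    have h2 := ha _ h1
    rw [← hc] at h2
    simpa [mul_assoc] using h2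
  have hco : (Nat.card D).Coprime p := by
    by_contra hc
    have hdvd : p ∣ Nat.card D := by
      rw [Nat.coprime_comm, hp.coprime_iff_not_dvd, not_not] at hc; exact hc
    obtain ⟨x, hx⟩ := exists_prime_orderOf_dvd_card' (G := D) p hdvd
    have := x.2 1 (by simp)
    simp only [mul_one] at this
    rw [Subgroup.orderOf_coe, hx, Nat.coprime_self] at this
    exact hp.ne_one this
  have hdD : d ∈ D := h
  exact (le_sSup (show D ∈ {N : Subgroup G | N.Normal ∧ (Nat.card N).Coprime p} from ⟨hD, hco⟩)) hdD

end Cfsg.Agent.S3815
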