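import Cfsg.Statements.S3818
import Cfsg.Agent.Lib.HalfFixed.Main
-- import your own Cfsg.Agent.* helpers here

set_option autoImplicit false
open Cfsg

namespace Cfsg.Agent.S3818

/-- Let G be a finite solvable group and P a subgroup of G of prime order p > 3 whose conjugates generate G. Let V be a faithful irreducible representation of G over a field of positive characteristic, finite-dimensional. Then the subspace of V fixed by P has dimension less than half the dimension of V. -/
theorem result {G : Type*} [Group G] [Finite G] [Group.IsSolvable G]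
    {p : ℕ} [Fact p.Prime] (hp : 3 < p) (P : Subgroup G) (hP : Nat.card P = p) (hgen : Subgroup.normalClosure (P : Set G) = ⊤)
    {k : Type*} [Field k] (ℓ : ℕ) [Fact ℓ.Prime] [CharP k ℓ]
    {V : Type*} [AddCommGroup V] [Module k V] [FiniteDimensional k V]
    (ρ : Representation k G V) [ρ.IsIrreducible] (hfaith : Function.Injective ρ) :
    2 * Module.finrank k ↥(⨅ g : ↥P, LinearMap.ker (ρ (g : G) - LinearMap.id)) < Module.finrank k V := by
  classical
  have hpp : p.Prime := Fact.out
  have : Nontrivial ↥P := Finite.one_lt_card_iff_nontrivial.mp (hP ▸ hpp.one_lt)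
  obtain ⟨⟨x, hxP⟩, hx1⟩ := exists_ne (1 : ↥P)
  have htop := zpowers_eq_top_of_prime_card hP hx1
  have hall : ∀ g ∈ P, g ∈ Subgroup.zpowers x := fun g hg => by
    obtain ⟨i, hi⟩ := (htop.symm ▸ Subgroup.mem_top (⟨g, hg⟩ : ↥P) :
      (⟨g, hg⟩ : ↥P) ∈ Subgroup.zpowers ⟨x, hxP⟩)
    exact ⟨i, congrArg Subtype.val hi⟩
  have hxne : x ≠ 1 := fun h => hx1 (Subtype.ext h)
  have : Nontrivial G := ⟨⟨x, 1, hxne⟩⟩
  have hxp : x ^ p = 1 := by
    have h1 : (⟨x, hxP⟩ : ↥P) ^ Nat.card ↥P = 1 := pow_card_eq_one'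
    rw [hP] at h1
    exact congrArg Subtype.val h1
  have hgen' : Subgroup.normalClosure ({x} : Set G) = ⊤ := top_le_iff.mp <| hgen ▸
    Subgroup.normalClosure_le_normal (fun g hg => (Subgroup.zpowers_le.mpr
      (Subgroup.subset_normalClosure (Set.mem_singleton x))) (hall g hg))
  have hirr : Cfsg.Agent.Lib.HalfFixed.IsIrredAct ρ := fun U hU => by
    rcases eq_bot_or_eq_top (⟨U, fun g v hv => hU g v hv⟩ : Subrepresentation ρ) with h | h
    · exact Or.inl (congrArg Subrepresentation.toSubmodule h)
    · exact Or.inr (congrArg Subrepresentation.toSubmodule h)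
  have : Nontrivial V := by
    by_contra h
    rw [not_nontrivial_iff_subsingleton] at h
    exact hxne (hfaith (LinearMap.ext fun v => Subsingleton.elim _ _))
  have hp5 : 5 ≤ p := by
    rcases Nat.lt_or_ge p 5 with h | h
    · have : p = 4 := by omega
      subst this; norm_num at hpp
    · exact h
  have hker : (⨅ g : ↥P, LinearMap.ker (ρ (g : G) - LinearMap.id)) = LinearMap.ker (ρ x - 1) := by
    refine le_antisymm (iInf_le _ (⟨x, hxP⟩ : ↥P)) (le_iInf fun g => fun v hv => ?_)
    have hv' : ρ x v = v := sub_eq_zero.mp (LinearMap.mem_ker.mp hv)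
    rw [LinearMap.mem_ker, LinearMap.sub_apply, sub_eq_zero, LinearMap.id_apply]
    obtain ⟨n, hn⟩ := mem_powers_iff_mem_zpowers.mpr (hall g g.2)
    rw [← hn]
    clear hn hall
    induction n with
    | zero => simp
    | succ n ih => simp only at ih ⊢; rw [pow_succ, Cfsg.Agent.Lib.HalfFixed.rho_mul, hv', ih]
  rw [hker]
  exact Cfsg.Agent.Lib.HalfFixed.two_mul_fixed_lt ℓ ρ hfaith hirr hpp hp5 x hxp hgen'

end Cfsg.Agent.S3818
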