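import Cfsg.Statements.S3819
import Mathlib
import Cfsg.Agent.Lib.OddLocal.InvariantPrimeSubgroup
import Cfsg.Agent.Lib.Components.GenFitting

set_option autoImplicit false
open Cfsg

namespace Cfsg.Agent.S3819

theorem flav_le_coreIn {G : Type*} [Group G] [Finite G] {q : ℕ} {Y H : Subgroup G}
    (hYH : Y ≤ H) (hn : H ≤ Subgroup.normalizer (Y : Set G)) (hc : (Nat.card Y).Coprime q) :
    Y ≤ (Cfsg.pPrimeCore q H).map H.subtype := by
  haveI : (Y.subgroupOf H).Normal := (Subgroup.normal_subgroupOf_iff_le_normalizer hYH).mpr hn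
  have h1 : Y.subgroupOf H ≤ Cfsg.pPrimeCore q H := by
    refine Cfsg.Agent.Lib.PSolvable.le_pPrimeCore ?_
    rwa [Nat.card_congr (Subgroup.subgroupOfEquivOfLe hYH).toEquiv]
  intro y hy
  exact ⟨⟨y, hYH hy⟩, h1 hy, rfl⟩

theorem flav_card_coreIn {G : Type*} [Group G] [Finite G] {q : ℕ} (H : Subgroup G) :
    (Nat.card ((Cfsg.pPrimeCore q H).map H.subtype)).Coprime q := by
  rw [Subgroup.card_map_of_injective H.subtype_injective]
  exact Cfsg.Agent.Lib.PSolvable.pPrimeCore_coprime

theorem flav_normalizes_coreIn {G : Type*} [Group G] [Finite G] {q : ℕ} {H L : Subgroup G}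
    (h : L ≤ Subgroup.normalizer (H : Set G)) :
    L ≤ Subgroup.normalizer (((Cfsg.pPrimeCore q H).map H.subtype : Subgroup G) : Set G) := by
  haveI := Cfsg.Agent.Lib.PSolvable.pPrimeCore_characteristic (p := q) (G := H)
  exact h.trans (Cfsg.Agent.Lib.Coprime.normalizer_le_normalizer_map_of_characteristic _)

theorem flav_core {G : Type*} [Group G] [Finite G] {p q : ℕ} [Fact p.Prime] [Fact q.Prime]
    (H K P : Subgroup G) [H.Normal] [K.Normal] (hKH : K ≤ H) (hK : Group.IsSolvable K)
    (hP : IsPGroup p P) (hHp : (Nat.card H).Coprime p) (hHP : ⁅H, P⁆ ≤ K)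
    (hO : ∀ M : Subgroup G, M ≤ H → H ≤ Subgroup.normalizer (M : Set G) →
      (Nat.card M).Coprime q → M = ⊥)
    (z : G) (hzH : z ∈ H) (hz : IsPGroup q (Subgroup.zpowers z))
    (X1 X2 : Subgroup G) (h1 : X1 ≤ H ⊓ Subgroup.centralizer ((Subgroup.zpowers z : Subgroup G) : Set G))
    (h1n : H ⊓ Subgroup.centralizer ((Subgroup.zpowers z : Subgroup G) : Set G) ≤
      Subgroup.normalizer (X1 : Set G))
    (h1c : (Nat.card X1).Coprime q)
    (h2 : X2 ≤ H ⊓ Subgroup.centralizer (P : Set G))
    (h2n : H ⊓ Subgroup.centralizer (P : Set G) ≤ Subgroup.normalizer (X2 : Set G))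
    (h2c : (Nat.card X2).Coprime q) :
    X1 ⊓ X2 = ⊥ := by
  have hnorm : ∀ (N : Subgroup G) [N.Normal] (S : Subgroup G),
      S ≤ Subgroup.normalizer (N : Set G) := fun N _ S =>
    le_top.trans (Subgroup.normalizer_eq_top_iff.mpr inferInstance).ge
  have hcoreK : Cfsg.pPrimeCore q K = ⊥ := by
    have h := hO ((Cfsg.pPrimeCore q K).map K.subtype) ((Subgroup.map_subtype_le _).trans hKH)
      (flav_normalizes_coreIn (hnorm K H)) (flav_card_coreIn K)
    exact (Subgroup.map_eq_bot_iff_of_injective _ K.subtype_injective).mp h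
  set Q := (Cfsg.pCore q K).map K.subtype with hQ
  haveI : Q.Normal := Cfsg.Agent.Lib.PSolvable.map_subtype_pCore_normal K
  have hQK : Q ≤ K := Subgroup.map_subtype_le _
  have hQq : IsPGroup q Q := Cfsg.Agent.Lib.PSolvable.pCore_isPGroup.map _
  have hCKQ : K ⊓ Subgroup.centralizer (Q : Set G) ≤ Q := by
    intro x hx
    have hc : (⟨x, hx.1⟩ : K) ∈ Subgroup.centralizer (Cfsg.pCore q K : Set K) :=
      Subgroup.mem_centralizer_iff.mpr fun r hr => Subtype.ext
        (Subgroup.mem_centralizer_iff.mp hx.2 r ⟨r, hr, rfl⟩)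
    haveI := hK
    exact ⟨⟨x, hx.1⟩, Cfsg.Agent.Lib.PSolvable.centralizer_pCore_le_of_isPSolvable
      Cfsg.Agent.Lib.PSolvable.isPSolvable_of_isSolvable hcoreK hc, rfl⟩
  set X := X1 ⊓ X2 with hX
  have hXc : (Nat.card X).Coprime q := h1c.coprime_dvd_left (Subgroup.card_dvd_of_le inf_le_left)
  have hXQ : X ≤ Subgroup.centralizer (Q : Set G) := by
    refine Cfsg.Agent.Lib.Coprime.thompson_PxQ (p := q) hz hXc hQq ?_ (hnorm Q _) (hnorm Q _) ?_
    · exact Subgroup.le_centralizer_iff.mp ((inf_le_left.trans h1).trans inf_le_right)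
    · intro c hc
      refine Subgroup.mem_centralizer_iff.mpr fun x hx => ?_
      have hxc : c * x * c⁻¹ * x⁻¹ ∈ Q ⊓ X1 := by
        refine ⟨?_, X1.mul_mem ?_ (X1.inv_mem hx.1)⟩
        · have h := (inferInstance : Q.Normal).conj_mem _ (Q.inv_mem hc.1) x
          simpa [mul_assoc] using Q.mul_mem hc.1 h
        · exact (Subgroup.mem_normalizer_iff.mp (h1n ⟨hKH (hQK hc.1), hc.2⟩) x).mp hx.1
      rw [Cfsg.Agent.Lib.PSolvable.inf_eq_bot_of_isPGroup_of_coprime hQq h1c, Subgroup.mem_bot,
        mul_inv_eq_one, mul_inv_eq_iff_eq_mul] at hxc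
      exact hxc.symm
  set L := H ⊓ Subgroup.centralizer (Q : Set G) with hL
  haveI : L.Normal := by rw [hL]; infer_instance
  have hLP : ⁅L, P⁆ ≤ Q := by
    refine le_trans (le_inf ((Subgroup.commutator_mono inf_le_left le_rfl).trans hHP) ?_) hCKQ
    exact (Subgroup.commutator_le_left L P).trans inf_le_right
  have hLdec : ⁅L, P⁆ ⊔ (L ⊓ Subgroup.centralizer (P : Set G)) = L := by
    haveI := hP.isNilpotent
    refine Cfsg.Agent.Lib.Coprime.commutator_sup_centralizer (hnorm L P) ?_ (Or.inl inferInstance)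
    obtain ⟨m, hm⟩ := IsPGroup.iff_card.mp hP
    rw [hm]
    exact (Nat.Coprime.pow_left m ((hHp.coprime_dvd_left
      (Subgroup.card_dvd_of_le ((Subgroup.commutator_le_left L P).trans inf_le_left))).symm))
  set D := X2 ⊓ L with hD
  have hDn : L ≤ Subgroup.normalizer (D : Set G) := by
    rw [← hLdec]
    refine sup_le ?_ ?_
    · intro a ha
      have hcomm : ∀ y ∈ D, a * y = y * a := fun y hy =>
        Subgroup.mem_centralizer_iff.mp hy.2.2 a (hLP ha)
      rw [Subgroup.mem_normalizer_iff]
      intro y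
      constructor
      · intro hy
        rwa [hcomm y hy, mul_inv_cancel_right]
      · intro hy
        have h := hcomm _ hy
        have h' : a * y * a⁻¹ = y := by
          refine mul_left_cancel (a := a) ?_
          rw [h, inv_mul_cancel_right]
        rwa [h'] at hy
    · exact le_trans (le_inf (le_trans (le_inf (inf_le_left.trans inf_le_left) inf_le_right) h2n)
        (hnorm L _)) (Subgroup.inf_normalizer_le_normalizer_inf)
  have hDbot : D = ⊥ := by
    have hDc : (Nat.card D).Coprime q := h2c.coprime_dvd_left (Subgroup.card_dvd_of_le inf_le_left)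
    have hle := flav_le_coreIn (inf_le_right : D ≤ L) hDn hDc
    refine le_bot_iff.mp (hle.trans (le_of_eq ?_))
    exact hO _ ((Subgroup.map_subtype_le _).trans inf_le_left)
      (flav_normalizes_coreIn (hnorm L H)) (flav_card_coreIn L)
  rw [eq_bot_iff, ← hDbot]
  exact le_inf inf_le_right (le_inf ((inf_le_left.trans h1).trans inf_le_left) hXQ)


/-- Let G be a finite group with Sylow p-subgroup P and H = O_{p'}(G), and suppose G = PH and the commutator subgroup [H, P] is solvable. Let q be a prime and z an element of q-power order of C_H(P). Then (O_{q'}(C_H(z)) ∩ O_{q'}(C_H(P))) · [O_{q'}(C_H(z)), P] ≤ O_{q'}(H). -/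
theorem result {G : Type*} [Group G] [Finite G] {p : ℕ} [Fact p.Prime]
    (P : Sylow p G) (hPH : Cfsg.pPrimeCore p G ⊔ (P : Subgroup G) = ⊤)
    (hsol : Group.IsSolvable ↥⁅Cfsg.pPrimeCore p G, (P : Subgroup G)⁆)
    {q : ℕ} [Fact q.Prime] (z : G) (hzH : z ∈ Cfsg.pPrimeCore p G) (hzP : z ∈ Subgroup.centralizer ((P : Subgroup G) : Set G))
    (hz : ∃ k : ℕ, orderOf z = q ^ k) :
    ((Cfsg.pPrimeCore q ↥(Cfsg.pPrimeCore p G ⊓ Subgroup.centralizer ({z} : Set G))).map
        (Cfsg.pPrimeCore p G ⊓ Subgroup.centralizer ({z} : Set G)).subtype ⊓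
      (Cfsg.pPrimeCore q ↥(Cfsg.pPrimeCore p G ⊓ Subgroup.centralizer ((P : Subgroup G) : Set G))).map
        (Cfsg.pPrimeCore p G ⊓ Subgroup.centralizer ((P : Subgroup G) : Set G)).subtype) ⊔
    ⁅(Cfsg.pPrimeCore q ↥(Cfsg.pPrimeCore p G ⊓ Subgroup.centralizer ({z} : Set G))).map
        (Cfsg.pPrimeCore p G ⊓ Subgroup.centralizer ({z} : Set G)).subtype, (P : Subgroup G)⁆ ≤
    (Cfsg.pPrimeCore q ↥(Cfsg.pPrimeCore p G)).map (Cfsg.pPrimeCore p G).subtype := by

  set H := Cfsg.pPrimeCore p G with hH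
  set K := ⁅H, (P : Subgroup G)⁆ with hK
  have hHp : (Nat.card H).Coprime p := Cfsg.Agent.Lib.PSolvable.pPrimeCore_coprime
  have hnorm : ∀ (N : Subgroup G) [N.Normal] (S : Subgroup G),
      S ≤ Subgroup.normalizer (N : Set G) := fun N _ S =>
    le_top.trans (Subgroup.normalizer_eq_top_iff.mpr inferInstance).ge
  haveI hKn : K.Normal := by
    rw [← Subgroup.normalizer_eq_top_iff, eq_top_iff, ← hPH]
    exact sup_le (Subgroup.normalizer_commutator_ge_left H P)
      (Subgroup.normalizer_commutator_ge_right H P)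
  have hKH : K ≤ H := Cfsg.Agent.Lib.Coprime.commutator_le_of_le_normalizer (hnorm H _)
  set CZ := H ⊓ Subgroup.centralizer ({z} : Set G) with hCZ
  set CP := H ⊓ Subgroup.centralizer ((P : Subgroup G) : Set G) with hCP
  set X1 := (Cfsg.pPrimeCore q CZ).map CZ.subtype with hX1
  set X2 := (Cfsg.pPrimeCore q CP).map CP.subtype with hX2
  set N := (Cfsg.pPrimeCore q H).map H.subtype with hN
  haveI : N.Normal := Cfsg.Agent.Lib.PSolvable.map_subtype_pPrimeCore_normal H
  have hCzz : Subgroup.centralizer ((Subgroup.zpowers z : Subgroup G) : Set G) =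
      Subgroup.centralizer ({z} : Set G) := by
    rw [Subgroup.zpowers_eq_closure, Subgroup.centralizer_closure]
  have hzq : IsPGroup q (Subgroup.zpowers z) := by
    obtain ⟨k, hk⟩ := hz
    exact IsPGroup.of_card (by rw [Nat.card_zpowers, hk])
  refine sup_le ?_ ?_
  · -- the intersection
    set f := QuotientGroup.mk' N with hf
    have hfs : Function.Surjective f := QuotientGroup.mk'_surjective N
    have hker : f.ker = N := QuotientGroup.ker_mk' N
    have hNH : N ≤ H := Subgroup.map_subtype_le _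
    haveI : (H.map f).Normal := Subgroup.Normal.map inferInstance f hfs
    haveI : (K.map f).Normal := Subgroup.Normal.map inferInstance f hfs
    have hK' : Group.IsSolvable (K.map f) := by
      haveI := hsol
      exact Group.isSolvable_of_surjective (f.subgroupMap_surjective K)
    have hcz : (H.map f) ⊓ Subgroup.centralizer ((Subgroup.zpowers (f z) : Subgroup _) : Set _) =
        CZ.map f := by
      rw [← MonoidHom.map_zpowers, ← Cfsg.Agent.Lib.Coprime.map_inf_centralizer f (hnorm H _) ?_
        (Or.inl inferInstance), hCzz]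
      obtain ⟨k, hk⟩ := hz
      rw [Nat.card_zpowers, hk]
      refine Nat.Coprime.pow_left k ?_
      exact ((flav_card_coreIn H).coprime_dvd_left
        (Subgroup.card_dvd_of_le (inf_le_left.trans hker.le))).symm
    have hcp : (H.map f) ⊓ Subgroup.centralizer (((P : Subgroup G).map f : Subgroup _) : Set _) =
        CP.map f := by
      haveI := P.isPGroup'.isNilpotent
      rw [← Cfsg.Agent.Lib.Coprime.map_inf_centralizer f (hnorm H _) ?_ (Or.inl inferInstance)]
      obtain ⟨k, hk⟩ := IsPGroup.iff_card.mp P.isPGroup'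
      rw [hk]
      exact Nat.Coprime.pow_left k
        ((hHp.coprime_dvd_left (Subgroup.card_dvd_of_le inf_le_right)).symm)
    have hbot : X1.map f ⊓ X2.map f = ⊥ := by
      refine flav_core (p := p) (q := q) (H.map f) (K.map f) ((P : Subgroup G).map f)
        (Subgroup.map_mono hKH) hK' (P.isPGroup'.map f)
        (hHp.coprime_dvd_left (Subgroup.card_map_dvd H f))
        (by rw [← Subgroup.map_commutator]) ?_ (f z) ⟨z, hzH, rfl⟩ ?_ _ _ ?_ ?_ ?_ ?_ ?_ ?_
      · intro M hMH hMn hMc
        refine Cfsg.Agent.Lib.PSolvable.eq_bot_of_comap_mk'_le N ?_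
        refine flav_le_coreIn ?_ ?_ ?_
        · intro x hx
          obtain ⟨y, hy, hyx⟩ := hMH hx
          have hmem : y⁻¹ * x ∈ N := by
            rw [← hker, MonoidHom.mem_ker, map_mul, map_inv, hyx, inv_mul_cancel]
          simpa using H.mul_mem hy (hNH hmem)
        · intro h hh
          rw [Subgroup.mem_normalizer_iff]
          intro x
          simp only [Subgroup.mem_comap, map_mul, map_inv]
          exact Subgroup.mem_normalizer_iff.mp (hMn ⟨h, hh, rfl⟩) (f x)
        · rw [Cfsg.Agent.Lib.PSolvable.card_comap_mk']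
          exact Nat.Coprime.mul_left (flav_card_coreIn H) hMc
      · rw [← MonoidHom.map_zpowers]; exact hzq.map f
      · rw [hcz]; exact Subgroup.map_mono (Subgroup.map_subtype_le _)
      · rw [hcz]
        exact (Subgroup.map_mono (flav_normalizes_coreIn Subgroup.le_normalizer)).trans
          (Subgroup.le_normalizer_map f)
      · exact (flav_card_coreIn CZ).coprime_dvd_left (Subgroup.card_map_dvd _ f)
      · rw [hcp]; exact Subgroup.map_mono (Subgroup.map_subtype_le _)
      · rw [hcp]
        exact (Subgroup.map_mono (flav_normalizes_coreIn Subgroup.le_normalizer)).trans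
          (Subgroup.le_normalizer_map f)
      · exact (flav_card_coreIn CP).coprime_dvd_left (Subgroup.card_map_dvd _ f)
    intro x hx
    have h : f x ∈ X1.map f ⊓ X2.map f := ⟨⟨x, hx.1, rfl⟩, ⟨x, hx.2, rfl⟩⟩
    rw [hbot, Subgroup.mem_bot, ← MonoidHom.mem_ker, hker] at h
    exact h
  · -- the commutator
    have hzC : z ∈ CZ := ⟨hzH, Subgroup.mem_centralizer_singleton_iff.mpr rfl⟩
    have hPCZ : (P : Subgroup G) ≤ Subgroup.normalizer (CZ : Set G) := by
      rw [hCZ, ← hCzz]
      refine Cfsg.Agent.Lib.Coprime.le_normalizer_inf_centralizer (hnorm H _) ?_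
      refine le_trans ?_ (Subgroup.centralizer_le_normalizer _)
      rw [hCzz]
      intro a ha
      exact Subgroup.mem_centralizer_singleton_iff.mpr
        (Subgroup.mem_centralizer_iff.mp hzP a ha).symm.symm
    have hP1 : (P : Subgroup G) ≤ Subgroup.normalizer (X1 : Set G) := flav_normalizes_coreIn hPCZ
    set Y := X1 ⊓ K with hY
    have hYle : ⁅X1, (P : Subgroup G)⁆ ≤ Y := le_inf
      (Cfsg.Agent.Lib.Coprime.commutator_le_of_le_normalizer hP1)
      (Subgroup.commutator_mono ((Subgroup.map_subtype_le _).trans inf_le_left) le_rfl)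
    refine hYle.trans ?_
    set L := K ⊔ Subgroup.zpowers z with hL
    have hLH : L ≤ H := sup_le hKH ((Subgroup.zpowers_le).mpr hzH)
    have hLsol : Group.IsSolvable L := by
      haveI := hsol
      exact Cfsg.Agent.Lib.Components.isSolvable_sup
        (le_top.trans (Subgroup.normalizer_eq_top_iff.mpr inferInstance).ge) hsol inferInstance
    have hYL : Y ≤ L := inf_le_right.trans le_sup_left
    haveI := hLsol
    let zL : L := ⟨z, Subgroup.mem_sup_right (Subgroup.mem_zpowers z)⟩
    set C := Subgroup.centralizer ({zL} : Set L) with hC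
    have hzL : IsPGroup q (Subgroup.zpowers zL) := by
      obtain ⟨k, hk⟩ := hz
      exact IsPGroup.of_card (n := k) (by rw [Nat.card_zpowers, Subgroup.orderOf_mk, hk])
    have hcC : ∀ c : L, c ∈ C → (c : G) ∈ CZ := fun c hc =>
      ⟨hLH c.2, Subgroup.mem_centralizer_singleton_iff.mpr
        (congrArg Subtype.val (Subgroup.mem_centralizer_singleton_iff.mp hc))⟩
    have hYC : Y.subgroupOf L ≤ C := fun c hc => Subgroup.mem_centralizer_singleton_iff.mpr
      (Subtype.ext (Subgroup.mem_centralizer_singleton_iff.mp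
        (Subgroup.map_subtype_le _ hc.1 : (c : G) ∈ CZ).2))
    have hCN : C ≤ Subgroup.normalizer (Y.subgroupOf L : Set L) := by
      intro c hc
      have hcY : (c : G) ∈ Subgroup.normalizer (Y : Set G) :=
        Subgroup.inf_normalizer_le_normalizer_inf
          ⟨flav_normalizes_coreIn Subgroup.le_normalizer (hcC c hc), hnorm K ⊤ trivial⟩
      rw [Subgroup.mem_normalizer_iff]
      intro x
      simp only [Subgroup.mem_subgroupOf, Subgroup.coe_mul, InvMemClass.coe_inv]
      exact Subgroup.mem_normalizer_iff.mp hcY x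
    have hYc : (Nat.card Y).Coprime q :=
      (flav_card_coreIn CZ).coprime_dvd_left (Subgroup.card_dvd_of_le inf_le_left)
    have hY2 : Y.subgroupOf L ≤ Cfsg.pPrimeCore q L := by
      refine Cfsg.Agent.Lib.OddLocal.pPrimeCore_centralizer_le
        Cfsg.Agent.Lib.PSolvable.isPSolvable_of_isSolvable hzL (flav_le_coreIn hYC hCN ?_)
      rwa [Nat.card_congr (Subgroup.subgroupOfEquivOfLe hYL).toEquiv]
    set D := (Cfsg.pPrimeCore q L).map L.subtype ⊓ K with hD
    have hYD : Y ≤ D := fun y hy => ⟨⟨⟨y, hYL hy⟩, hY2 hy, rfl⟩, hy.2⟩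
    have hDK : D ≤ (Cfsg.pPrimeCore q K).map K.subtype := by
      refine flav_le_coreIn inf_le_right ?_
        ((flav_card_coreIn L).coprime_dvd_left (Subgroup.card_dvd_of_le inf_le_left))
      exact (le_inf (flav_normalizes_coreIn (le_sup_left.trans Subgroup.le_normalizer))
        Subgroup.le_normalizer).trans Subgroup.inf_normalizer_le_normalizer_inf
    refine (hYD.trans hDK).trans (flav_le_coreIn ((Subgroup.map_subtype_le _).trans hKH)
      (flav_normalizes_coreIn (hnorm K H)) (flav_card_coreIn K))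

end Cfsg.Agent.S3819
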