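import Cfsg.Statements.S3820
import Mathlib

set_option autoImplicit false
open Cfsg

namespace Cfsg.Agent.S3820

/-- Call a subgroup H of G pronormal if H and gHg⁻¹ are conjugate inside ⟨H, gHg⁻¹⟩ for every g ∈ G. Let S ≤ H ≤ G be subgroups of a finite group with S pronormal in G (for instance S a Sylow subgroup). Then H is pronormal in G if and only if H and gHg⁻¹ are conjugate inside ⟨H, gHg⁻¹⟩ for every g ∈ N_G(S). In particular H is pronormal whenever N_G(S) ≤ H. -/
theorem result {G : Type*} [Group G] [Finite G] (S H : Subgroup G) (hSH : S ≤ H)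
    (hS : Cfsg.IsPronormal S) :
    Cfsg.IsPronormal H ↔
      ∀ g ∈ Subgroup.normalizer (S : Set G), ∃ w ∈ H ⊔ H.map (MulAut.conj g).toMonoidHom,
        H.map (MulAut.conj g).toMonoidHom = H.map (MulAut.conj w).toMonoidHom := by
  have mapmap : ∀ (K : Subgroup G) (x y : G), K.map (MulAut.conj (x * y)).toMonoidHom =
      (K.map (MulAut.conj y).toMonoidHom).map (MulAut.conj x).toMonoidHom := by
    intro K x y; rw [Subgroup.map_map]; congr 1; ext z; simp [mul_assoc]
  have map1 : ∀ (K : Subgroup G), K.map (MulAut.conj (1 : G)).toMonoidHom = K := by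
    intro K; ext z; simp
  constructor
  · intro h g _; exact h g
  · intro h g
    obtain ⟨x, hx, hxe⟩ := hS g
    -- S^g = S^x, so n = x⁻¹ g normalises S
    have hn : x⁻¹ * g ∈ Subgroup.normalizer (S : Set G) := by
      have e : S.map (MulAut.conj (x⁻¹ * g)).toMonoidHom = S := by
        rw [mapmap, hxe, ← mapmap, inv_mul_cancel, map1]
      rw [Subgroup.mem_normalizer_iff]
      intro s
      constructor
      · intro hs
        have := Subgroup.mem_map_of_mem (MulAut.conj (x⁻¹ * g)).toMonoidHom hs
        rw [e] at this; exact this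
      · intro hs
        rw [← e] at hs
        obtain ⟨w, hw, hwe⟩ := hs
        simp only [MulEquiv.coe_toMonoidHom, MulAut.conj_apply] at hwe
        have : w = s := by simpa using hwe
        rwa [← this]
    obtain ⟨w, hw, hwe⟩ := h _ hn
    set K := H ⊔ H.map (MulAut.conj g).toMonoidHom with hK
    have hxK : x ∈ K := (sup_le_sup hSH (Subgroup.map_mono hSH)) hx
    have hwK : w ∈ K := by
      have hle : H ⊔ H.map (MulAut.conj (x⁻¹ * g)).toMonoidHom ≤ K := by
        refine sup_le le_sup_left ?_
        rintro _ ⟨z, hz, rfl⟩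
        have h1 : g * z * g⁻¹ ∈ K :=
          le_sup_right (α := Subgroup G) ⟨z, hz, by simp⟩
        have h2 := K.mul_mem (K.mul_mem (K.inv_mem hxK) h1) hxK
        simpa [mul_assoc] using h2
      exact hle hw
    refine ⟨x * w, K.mul_mem hxK hwK, ?_⟩
    rw [mapmap H x w, ← hwe, ← mapmap]
    simp

end Cfsg.Agent.S3820
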