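import Cfsg.Statements.S3821
import Mathlib

set_option autoImplicit false
open Cfsg

namespace Cfsg.Agent.S3821

/-- Let A be a normal subgroup of the finite group G and H a subgroup of A. Then H is pronormal in G (H and gHg⁻¹ conjugate inside ⟨H, gHg⁻¹⟩ for every g ∈ G) if and only if H is pronormal in A and G = A · N_G(H). -/
theorem result {G : Type*} [Group G] [Finite G] (A H : Subgroup G) [A.Normal] (hHA : H ≤ A) :
    Cfsg.IsPronormal H ↔ (Cfsg.IsPronormal (H.subgroupOf A) ∧ A ⊔ Subgroup.normalizer (H : Set G) = ⊤) := by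
  have mapmap : ∀ (x y : G), H.map (MulAut.conj (x * y)).toMonoidHom =
      (H.map (MulAut.conj y).toMonoidHom).map (MulAut.conj x).toMonoidHom := by
    intro x y; rw [Subgroup.map_map]; congr 1; ext z; simp [mul_assoc]
  have hAconj : ∀ g : G, H.map (MulAut.conj g).toMonoidHom ≤ A := by
    rintro g _ ⟨h, hh, rfl⟩
    exact Subgroup.Normal.conj_mem inferInstance h (hHA hh) g
  have hfix : ∀ g : G, g ∈ Subgroup.normalizer (H : Set G) → H.map (MulAut.conj g).toMonoidHom = H := by
    intro g hg; ext z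
    simp only [Subgroup.mem_map, MulEquiv.coe_toMonoidHom, MulAut.conj_apply]
    constructor
    · rintro ⟨h, hh, rfl⟩; exact (Subgroup.mem_normalizer_iff.mp hg h).mp hh
    · intro hz; exact ⟨g⁻¹ * z * g, (Subgroup.mem_normalizer_iff.mp hg _).mpr (by simpa [mul_assoc] using hz), by simp [mul_assoc]⟩
  have hsub : ∀ a : A, (H.subgroupOf A).map (MulAut.conj a).toMonoidHom =
      (H.map (MulAut.conj (a : G)).toMonoidHom).subgroupOf A := by
    intro a; ext z
    simp only [Subgroup.mem_map, Subgroup.mem_subgroupOf, MulEquiv.coe_toMonoidHom, MulAut.conj_apply]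
    constructor
    · rintro ⟨w, hw, rfl⟩; exact ⟨w, hw, by simp⟩
    · rintro ⟨w, hw, e⟩; exact ⟨⟨w, hHA hw⟩, hw, by ext; simpa using e⟩
  constructor
  · intro hpro
    have hle : ∀ g : G, H ⊔ H.map (MulAut.conj g).toMonoidHom ≤ A := fun g => sup_le hHA (hAconj g)
    refine ⟨?_, ?_⟩
    · intro a
      obtain ⟨x, hx, hxe⟩ := hpro (a : G)
      refine ⟨⟨x, hle _ hx⟩, ?_, ?_⟩
      · rw [hsub, ← Subgroup.subgroupOf_sup hHA (hAconj _)]; exact hx
      · rw [hsub, hsub, hxe]
    · rw [eq_top_iff]
      intro g _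
      obtain ⟨x, hx, hxe⟩ := hpro g
      have : x⁻¹ * g ∈ Subgroup.normalizer (H : Set G) := by
        have e : H.map (MulAut.conj (x⁻¹ * g)).toMonoidHom = H := by
          rw [mapmap, hxe, ← mapmap, inv_mul_cancel]; ext z; simp
        rw [Subgroup.mem_normalizer_iff]
        intro h
        constructor
        · intro hh
          have := Subgroup.mem_map_of_mem (MulAut.conj (x⁻¹ * g)).toMonoidHom hh
          rw [e] at this; exact this
        · intro hh
          rw [← e] at hh
          obtain ⟨w, hw, hwe⟩ := hh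
          simp only [MulEquiv.coe_toMonoidHom, MulAut.conj_apply] at hwe
          have : w = h := by simpa using hwe
          rwa [← this]
      have := Subgroup.mul_mem_sup (hle g hx) this
      simpa using this
  · rintro ⟨hA, htop⟩ g
    have hg : g ∈ A ⊔ Subgroup.normalizer (H : Set G) := by rw [htop]; trivial
    rw [Subgroup.mem_sup_of_normal_left] at hg
    obtain ⟨a, ha, n, hn, rfl⟩ := hg
    rw [mapmap, hfix n hn]
    obtain ⟨x, hx, hxe⟩ := hA ⟨a, ha⟩
    refine ⟨x, ?_, ?_⟩
    · rw [hsub, ← Subgroup.subgroupOf_sup hHA (hAconj _)] at hx; exact hx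
    · rw [hsub, hsub] at hxe
      have e := Subgroup.subgroupOf_inj.mp hxe
      rw [inf_eq_left.mpr (hAconj _), inf_eq_left.mpr (hAconj _)] at e
      exact e

end Cfsg.Agent.S3821
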