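import Cfsg.Statements.S3822
import Cfsg.Agent.Lib.HalfFixed.Complement
import Cfsg.Agent.Lib.Fitting.Nilpotent
-- import your own Cfsg.Agent.* helpers here

set_option autoImplicit false
open Cfsg

namespace Cfsg.Agent.S3822

open Subgroup

/-- A finite subgroup lies in every subgroup containing all its Sylow subgroups. -/
theorem le_of_sylow_le {G : Type*} [Group G] [Finite G] {N K : Subgroup G}
    (h : ∀ q : ℕ, q.Prime → q ∣ Nat.card G → ∀ S : Sylow q N, (S : Subgroup N).map N.subtype ≤ K) :
    N ≤ K := by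
  have hdvd : Nat.card N ∣ Nat.card (N ⊓ K : Subgroup G) := by
    rw [Nat.dvd_iff_prime_pow_dvd_dvd]
    intro q k hq hk
    rcases Nat.eq_zero_or_pos k with rfl | hk0
    · rw [pow_zero]; exact one_dvd _
    have : Fact q.Prime := ⟨hq⟩
    obtain ⟨S⟩ : Nonempty (Sylow q N) := inferInstance
    have hqG : q ∣ Nat.card G :=
      ((dvd_pow_self q hk0.ne').trans hk).trans (card_subgroup_dvd_card N)
    refine dvd_trans ?_ (card_dvd_of_le (le_inf (map_subtype_le _) (h q hq hqG S)))
    rw [card_map_of_injective (subtype_injective _)]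
    exact S.pow_dvd_card_of_pow_dvd_card hk
  exact inf_eq_left.mp (eq_of_le_of_card_ge inf_le_left (Nat.le_of_dvd Nat.card_pos hdvd))

/-- Subgroups of prime power order for different primes which centralise each other generate a
nilpotent group. -/
theorem isNilpotent_iSup {G : Type*} [Group G] [Finite G] {ι : Type*} [Finite ι] (N : ι → Subgroup G)
    (hnil : ∀ i, Group.IsNilpotent (N i)) (hcomm : ∀ i j, i ≠ j → N i ≤ centralizer (N j : Set G)) :
    Group.IsNilpotent ↥(⨆ i, N i) := by
  have := Fintype.ofFinite ι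
  have hc : Pairwise fun i j => ∀ x y : G, x ∈ N i → y ∈ N j → Commute x y :=
    fun i j hij x y hx hy => (hcomm i j hij hx y hy).symm
  rw [← noncommPiCoprod_range (hcomm := hc)]
  exact Group.nilpotent_of_surjective (noncommPiCoprod hc).rangeRestrict
    (MonoidHom.rangeRestrict_surjective _)

/-- Let G be a finite group and P a subgroup of prime order p > 3. Consider the solvable subgroups A of G of the form A = ⟨P, aPa⁻¹⟩ for some a ∈ A, and let A be maximal under inclusion among them. Then for every nilpotent subgroup V of G normalized by A, the subgroup F(A)V generated by the Fitting subgroup of A and V is nilpotent. -/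
theorem result {G : Type*} [Group G] [Finite G]
    {p : ℕ} [Fact p.Prime] (hp : 3 < p) (P : Subgroup G) (hP : Nat.card P = p) (A : Subgroup G)
    (hA : Group.IsSolvable ↥A ∧ ∃ a ∈ A, A = P ⊔ P.map (MulAut.conj a).toMonoidHom)
    (hmax : ∀ B : Subgroup G, A ≤ B → Group.IsSolvable ↥B → (∃ b ∈ B, B = P ⊔ P.map (MulAut.conj b).toMonoidHom) → B = A)
    (V : Subgroup G) (hV : Group.IsNilpotent ↥V) (hAV : A ≤ Subgroup.normalizer (V : Set G)) :
    Group.IsNilpotent ↥((Cfsg.fittingSubgroup ↥A).map A.subtype ⊔ V) := by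
  classical
  obtain ⟨hsol, a, haA, hAgen⟩ := hA
  let F : Subgroup ↥A := Cfsg.fittingSubgroup ↥A
  have hFn : F.Normal := Subgroup.sSup_normal _ fun N h => h.1
  have hFnil : Group.IsNilpotent F := Cfsg.Agent.Lib.Fitting.fittingSubgroup_isNilpotent
  let ι := {q : ℕ // q.Prime ∧ q ∣ Nat.card G}
  have : Finite ι := Finite.of_injective (fun i : ι => (⟨i.1, Nat.lt_succ_of_le
    (Nat.le_of_dvd Nat.card_pos i.2.2)⟩ : Fin (Nat.card G + 1)))
    (fun i j h => Subtype.ext (congrArg Fin.val h :))
  let R : ι → Subgroup G := fun i => (Cfsg.pCore i.1 ↥A).map A.subtype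
  have hfact : ∀ i : ι, Fact i.1.Prime := fun i => ⟨i.2.1⟩
  have hRp : ∀ i : ι, IsPGroup i.1 (R i) := fun i =>
    haveI := hfact i
    Cfsg.Agent.Lib.PSolvable.pCore_isPGroup.map _
  have hRA : ∀ i, R i ≤ A := fun i => map_subtype_le _
  have hAR : ∀ i, A ≤ normalizer (R i : Set G) := fun i => by
    haveI : (Cfsg.pCore i.1 ↥A).Normal := Subgroup.sSup_normal _ fun N h => h.1
    intro g hg
    rw [mem_normalizer_iff]
    intro s
    constructor
    · rintro ⟨t, ht, rfl⟩
      exact ⟨_, ‹(Cfsg.pCore i.1 ↥A).Normal›.conj_mem t ht ⟨g, hg⟩, rfl⟩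
    · rintro ⟨t, ht, hts⟩
      refine ⟨_, ‹(Cfsg.pCore i.1 ↥A).Normal›.conj_mem t ht ⟨g, hg⟩⁻¹, ?_⟩
      have : (t : G) = g * s * g⁻¹ := hts
      simp [this, mul_assoc]
  have hSylow : ∀ i : ι, Nonempty (Sylow i.1 V) := fun i => inferInstance
  let W : ι → Subgroup G := fun i => ((hSylow i).some : Subgroup V).map V.subtype
  have hWn : ∀ i : ι, ((hSylow i).some : Subgroup V).Normal := fun i =>
    (Group.isNilpotent_of_finite_tfae.out 0 3 rfl rfl).mp hV i.1 (hfact i) _
  have hWchar : ∀ i : ι, ((hSylow i).some : Subgroup V).Characteristic := fun i =>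
    haveI := hfact i
    (hSylow i).some.characteristic_of_normal (hWn i)
  have hWp : ∀ i : ι, IsPGroup i.1 (W i) := fun i => (hSylow i).some.2.map _
  have hAW : ∀ i, A ≤ normalizer (W i : Set G) := fun i =>
    haveI := hWchar i
    hAV.trans (Cfsg.Agent.Lib.Coprime.normalizer_le_normalizer_map_of_characteristic _)
  have hcore : ∀ i j : ι, i ≠ j → R i ≤ centralizer (W j : Set G) := fun i j hij =>
    haveI := hfact i
    haveI := hfact j
    Cfsg.Agent.Lib.HalfFixed.le_centralizer_of_normalized hp hP hsol haA hAgen hmax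
      (fun h => hij (Subtype.ext h)) (hRp i) (hRA i) (hAR i) _ (W j) rfl (hWp j) (hAW j)
  have hcop : ∀ (i j : ι) (X Y : Subgroup G), i ≠ j → IsPGroup i.1 X → IsPGroup j.1 Y →
      X ⊓ Y = ⊥ := by
    intro i j X Y hij hX hY
    haveI := hfact i
    haveI := hfact j
    exact disjoint_iff.mp (IsPGroup.disjoint_of_ne i.1 j.1 (fun h => hij (Subtype.ext h)) X Y hX hY)
  have hRR : ∀ i j : ι, i ≠ j → R i ≤ centralizer (R j : Set G) := fun i j hij => by
    refine commutator_eq_bot_iff_le_centralizer.mp (le_bot_iff.mp ?_)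
    rw [← hcop i j _ _ hij (hRp i) (hRp j)]
    exact le_inf (Cfsg.Agent.Lib.Coprime.commutator_le_of_le_normalizer ((hRA j).trans (hAR i)))
      ((commutator_comm (R i) (R j)).le.trans
        (Cfsg.Agent.Lib.Coprime.commutator_le_of_le_normalizer ((hRA i).trans (hAR j))))
  have hWW : ∀ i j : ι, i ≠ j → W i ≤ centralizer (W j : Set G) := fun i j hij => by
    refine commutator_eq_bot_iff_le_centralizer.mp (le_bot_iff.mp ?_)
    rw [← hcop i j _ _ hij (hWp i) (hWp j)]
    have hVW : ∀ k, V ≤ normalizer (W k : Set G) := fun k =>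
      haveI := hWchar k
      (le_normalizer).trans (Cfsg.Agent.Lib.Coprime.normalizer_le_normalizer_map_of_characteristic _)
    exact le_inf (Cfsg.Agent.Lib.Coprime.commutator_le_of_le_normalizer
        ((map_subtype_le _).trans (hVW i)))
      ((commutator_comm (W i) (W j)).le.trans (Cfsg.Agent.Lib.Coprime.commutator_le_of_le_normalizer
        ((map_subtype_le _).trans (hVW j))))
  let N : ι → Subgroup G := fun i => R i ⊔ W i
  have hNnil : ∀ i, Group.IsNilpotent (N i) := fun i => by
    haveI := hfact i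
    exact (IsPGroup.to_sup_of_normal_right' (hRp i) (hWp i) ((hRA i).trans (hAW i))).isNilpotent
  have hNcomm : ∀ i j, i ≠ j → N i ≤ centralizer (N j : Set G) := by
    intro i j hij
    refine sup_le ?_ ?_ <;> rw [le_centralizer_iff] <;> refine sup_le ?_ ?_ <;> rw [le_centralizer_iff]
    · exact hRR i j hij
    · exact hcore i j hij
    · exact le_centralizer_iff.mp (hcore j i hij.symm)
    · exact hWW i j hij
  have hle : F.map A.subtype ⊔ V ≤ ⨆ i, N i := by
    refine sup_le ?_ ?_
    · rw [map_le_iff_le_comap]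
      refine le_of_sylow_le fun q hq hqA S => ?_
      have : Fact q.Prime := ⟨hq⟩
      let i : ι := ⟨q, hq, hqA.trans (card_subgroup_dvd_card A)⟩
      have : (S : Subgroup F).Normal :=
        (Group.isNilpotent_of_finite_tfae.out 0 3 rfl rfl).mp hFnil q ⟨hq⟩ S
      have : (S : Subgroup F).Characteristic := S.characteristic_of_normal this
      have hn : ((S : Subgroup F).map F.subtype).Normal := ConjAct.normal_of_characteristic_of_normal
      exact (Cfsg.Agent.Lib.PSolvable.le_pCore (S.2.map _)).trans fun s hs =>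
        (le_sup_left.trans (le_iSup N i)) (mem_map_of_mem A.subtype hs)
    · refine le_of_sylow_le fun q hq hqG S => ?_
      have : Fact q.Prime := ⟨hq⟩
      let i : ι := ⟨q, hq, hqG⟩
      have hu := Sylow.unique_of_normal (hSylow i).some (hWn i)
      rw [show S = (hSylow i).some from Subsingleton.elim (α := Sylow q V) _ _]
      exact le_sup_right.trans (le_iSup N i)
  haveI := isNilpotent_iSup N hNnil hNcomm
  exact Group.nilpotent_of_mulEquiv (Subgroup.subgroupOfEquivOfLe hle)

end Cfsg.Agent.S3822
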