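import Cfsg.Statements.S3824
import Mathlib
import Cfsg.Agent.Lib.Burnside.Paqb

set_option autoImplicit false
open Cfsg

namespace Cfsg.Agent.S3824
universe u

theorem isSolvable_aux : ∀ (n : ℕ) (G : Type u) [Group G] [Finite G], Nat.card G ≤ n →
    ∀ A : Subgroup G, IsMulCommutative A → (∃ k : ℕ, A.index = 2 ^ k) → Group.IsSolvable G := by
  intro n
  induction n with
  | zero => intro G _ _ hn; exact absurd hn (Nat.not_le.mpr Nat.card_pos)
  | succ n ih =>
    intro G _ _ hn A hA hidx
    obtain ⟨k, hk⟩ := hidx
    by_cases hN : ∃ N : Subgroup G, N.Normal ∧ N ≠ ⊥ ∧ N ≠ ⊤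
    · obtain ⟨N, hNn, hNb, hNt⟩ := hN
      haveI := hNn
      have h1 := N.card_eq_card_quotient_mul_card_subgroup
      have h2 : 1 < Nat.card N := (Subgroup.one_lt_card_iff_ne_bot N).mpr hNb
      have h3 : 1 < Nat.card (G ⧸ N) := by
        have h4 : N.index ≠ 1 := fun h => hNt (Subgroup.index_eq_one.mp h)
        have h5 : 0 < Nat.card (G ⧸ N) := Nat.card_pos
        rw [Subgroup.index] at h4
        omega
      have hNs : Group.IsSolvable N := by
        refine ih N (by nlinarith) (A.subgroupOf N) ?_ ?_
        · refine IsMulCommutative.of_comm fun a b => Subtype.ext (Subtype.ext ?_)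
          simpa using congrArg Subtype.val (hA.is_comm.comm
            (⟨((a : N) : G), a.2⟩ : A) (⟨((b : N) : G), b.2⟩ : A))
        · have h6 : (A.subgroupOf N).index ∣ 2 ^ k := by
            rw [← hk]
            show A.relIndex N ∣ A.index
            rw [← Subgroup.relIndex_mul_index (le_sup_left : A ≤ A ⊔ N), Subgroup.relIndex,
              ← Subgroup.inf_subgroupOf_right]
            refine Dvd.dvd.mul_right ?_ _
            show (A ⊓ N).relIndex N ∣ A.relIndex (A ⊔ N)
            have e1 := Subgroup.relIndex_mul_relIndex (A ⊓ N) A (A ⊔ N) inf_le_left le_sup_left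
            have e2 := Subgroup.relIndex_mul_relIndex (A ⊓ N) N (A ⊔ N) inf_le_right le_sup_right
            rw [Subgroup.inf_relIndex_left] at e1
            rw [Subgroup.relIndex_sup_right, mul_comm] at e2
            have h7 : 0 < N.relIndex A := Nat.pos_of_dvd_of_pos (N.relIndex_dvd_card A) Nat.card_pos
            exact (Nat.eq_of_mul_eq_mul_left h7 (e2.trans e1.symm)).dvd
          obtain ⟨i, _, hi⟩ := (Nat.dvd_prime_pow Nat.prime_two).mp h6
          exact ⟨i, hi⟩
      have hQs : Group.IsSolvable (G ⧸ N) := by
        refine ih (G ⧸ N) (by nlinarith) (A.map (QuotientGroup.mk' N)) ?_ ?_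
        · refine IsMulCommutative.of_comm fun a b => ?_
          obtain ⟨_, a', ha', rfl⟩ := a
          obtain ⟨_, b', hb', rfl⟩ := b
          apply Subtype.ext
          simp only [Subgroup.coe_mul, ← map_mul]
          exact congrArg (QuotientGroup.mk' N) (congrArg Subtype.val (hA.is_comm.comm ⟨a', ha'⟩ ⟨b', hb'⟩))
        · have h6 : (A.map (QuotientGroup.mk' N)).index ∣ 2 ^ k :=
            hk ▸ A.index_map_dvd (QuotientGroup.mk'_surjective N)
          obtain ⟨i, _, hi⟩ := (Nat.dvd_prime_pow Nat.prime_two).mp h6
          exact ⟨i, hi⟩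
      exact Group.isSolvable_of_ker_le_range N.subtype (QuotientGroup.mk' N)
        (by rw [QuotientGroup.ker_mk', Subgroup.range_subtype])
    · rcases subsingleton_or_nontrivial G with hs | hnt
      · infer_instance
      haveI : IsSimpleGroup G := ⟨fun N hNn => by
        by_contra h; push Not at h; exact hN ⟨N, hNn, h.1, h.2⟩⟩
      by_cases hAb : A = ⊥
      · haveI : Fact (Nat.Prime 2) := ⟨Nat.prime_two⟩
        rw [hAb, Subgroup.index_bot] at hk
        haveI := (IsPGroup.of_card hk).isNilpotent
        infer_instance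
      obtain ⟨x, hxA, hx1⟩ := A.bot_or_exists_ne_one.resolve_left hAb
      have hle : A ≤ Subgroup.centralizer ({x} : Set G) := fun a ha =>
        Subgroup.mem_centralizer_singleton_iff.mpr
          (congrArg Subtype.val (hA.is_comm.comm ⟨a, ha⟩ ⟨x, hxA⟩))
      obtain ⟨i, _, hi⟩ := (Nat.dvd_prime_pow Nat.prime_two).mp (hk ▸ Subgroup.index_dvd_of_le hle)
      rcases Nat.eq_zero_or_pos i with rfl | hipos
      · have hxc : x ∈ Subgroup.center G := by
          rw [Subgroup.mem_center_iff]
          intro g
          have : g ∈ Subgroup.centralizer ({x} : Set G) := by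
            rw [Subgroup.index_eq_one.mp (show (Subgroup.centralizer ({x} : Set G)).index = 1 by rw [hi, pow_zero])]; trivial
          exact Subgroup.mem_centralizer_singleton_iff.mp this
        have hc : Subgroup.center G = ⊤ :=
          ((Subgroup.center G).normal_of_characteristic.eq_bot_or_eq_top).resolve_left
            fun h => hx1 (by rw [h] at hxc; exact Subgroup.mem_bot.mp hxc)
        exact Group.isSolvable_of_comm fun a b =>
          (Subgroup.mem_center_iff.mp (hc ▸ Subgroup.mem_top a : a ∈ Subgroup.center G) b).symm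
      · exact Lib.Burnside.class_card_ne_prime_pow Nat.prime_two hipos ((Lib.Chars.card_conjClass_eq_index x).trans hi) |>.elim


/-- Every finite group having an abelian subgroup whose index is a power of 2 is solvable. -/
theorem result {G : Type*} [Group G] [Finite G]
    (A : Subgroup G) (hA : IsMulCommutative A) (hidx : ∃ k : ℕ, A.index = 2 ^ k) : Group.IsSolvable G := by
  exact isSolvable_aux _ G le_rfl A hA hidx

end Cfsg.Agent.S3824
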