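import Cfsg.Statements.S3825
import Mathlib

set_option autoImplicit false
open Cfsg

namespace Cfsg.Agent.S3825


open Subgroup
open scoped commutatorElement


/-- Let U be a subgroup of a finite group H and w an involution of H normalizing U and commuting with exactly two elements of U, the identity and y. If V is a non-cyclic elementary abelian 2-subgroup of U containing y which is normal in U and invariant under w, then V is a Sylow 2-subgroup of U, V has order 4, and U/V is abelian. -/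
theorem result {H : Type*} [Group H] [Finite H] (U : Subgroup H) (w : H) (hw : orderOf w = 2)
    (hwU : w ∈ Subgroup.normalizer (U : Set H)) (y : H) (hy : y ≠ 1) (hyU : y ∈ U)
    (hfix : ∀ u ∈ U, w * u * w⁻¹ = u ↔ (u = 1 ∨ u = y))
    (V : Subgroup H) (hVU : V ≤ U) (hVn : (V.subgroupOf U).Normal) (hVw : ∀ v ∈ V, w * v * w⁻¹ ∈ V)
    (hVe : Cfsg.IsElementaryAbelian 2 V) (hVc : ¬ IsCyclic ↥V) (hyV : y ∈ V) :
    ¬ 2 ∣ V.relIndex U ∧ Nat.card ↥V = 4 ∧ ⁅U, U⁆ ≤ V := by
  classical
  obtain ⟨hVc', hV2⟩ := hVe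
  have hww : w * w = 1 := by rw [← pow_two, ← hw]; exact pow_orderOf_eq_one w
  have hwinv : w⁻¹ = w := inv_eq_of_mul_eq_one_right hww
  have hcomm : ∀ a ∈ V, ∀ b ∈ V, a * b = b * a := fun a ha b hb =>
    congrArg Subtype.val (hVc'.1.1 ⟨a, ha⟩ ⟨b, hb⟩)
  have hsq : ∀ a ∈ V, a * a = 1 := fun a ha => by rw [← pow_two]; exact hV2 a ha
  have hinv : ∀ a ∈ V, a⁻¹ = a := fun a ha => inv_eq_of_mul_eq_one_right (hsq a ha)
  have hcc : ∀ a : H, w * (w * a * w⁻¹) * w⁻¹ = a := fun a => by
    rw [hwinv]; rw [show w * (w * a * w) * w = (w * w) * a * (w * w) by group, hww, one_mul, mul_one]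
  let φ : V →* H := MonoidHom.mk' (fun v => (v : H) * (w * v * w⁻¹)) (fun a b => by
    calc ((a * b : V) : H) * (w * ((a * b : V) : H) * w⁻¹)
        = (a : H) * ((b : H) * (w * a * w⁻¹)) * (w * b * w⁻¹) := by simp [mul_assoc]
      _ = (a : H) * ((w * a * w⁻¹) * (b : H)) * (w * b * w⁻¹) := by
          rw [hcomm _ b.2 _ (hVw a a.2)]
      _ = _ := by group)
  have hrange : ∀ v : V, φ v = 1 ∨ φ v = y := fun v => by
    have hv : (v : H) * (w * v * w⁻¹) ∈ U := U.mul_mem (hVU v.2) (hVU (hVw v v.2))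
    refine (hfix _ hv).1 ?_
    calc w * ((v : H) * (w * v * w⁻¹)) * w⁻¹ = (w * v * w⁻¹) * (w * (w * v * w⁻¹) * w⁻¹) := by group
      _ = (w * v * w⁻¹) * v := by rw [hcc]
      _ = _ := hcomm _ (hVw v v.2) _ v.2
  have hker : ∀ v : V, φ v = 1 → (v : H) = 1 ∨ (v : H) = y := fun v hv => by
    refine (hfix _ (hVU v.2)).1 ?_
    change (v : H) * (w * v * w⁻¹) = 1 at hv
    rw [← inv_eq_of_mul_eq_one_right hv]
    exact hinv v v.2
  have hcardpair : Nat.card ({1, y} : Set H) ≤ 2 := by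
    rw [Nat.card_coe_set_eq]; exact (Set.ncard_insert_le _ _).trans (by simp)
  have hk2 : Nat.card φ.ker ≤ 2 := by
    refine le_trans (Nat.card_le_card_of_injective
      (fun v : φ.ker => (⟨((v : V) : H), ?_⟩ : ({1, y} : Set H))) ?_) hcardpair
    · rcases hker v v.2 with h | h <;> simp [h]
    · intro a b hab; exact Subtype.ext (Subtype.ext (by simpa using congrArg Subtype.val hab))
  have hr2 : Nat.card φ.range ≤ 2 := by
    refine le_trans (Nat.card_le_card_of_injective
      (fun x : φ.range => (⟨(x : H), ?_⟩ : ({1, y} : Set H))) ?_) hcardpair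
    · obtain ⟨v, hv⟩ := x.2
      rcases hrange v with h | h <;> rw [hv] at h <;> simp [h]
    · intro a b hab; exact Subtype.ext (by simpa using congrArg Subtype.val hab)
  have hV4' : Nat.card V = Nat.card φ.ker * Nat.card φ.range := by
    rw [← index_ker, card_mul_index]
  have hp : IsPGroup 2 V := fun v => ⟨1, Subtype.ext (by simpa using hV2 v v.2)⟩
  have hV4 : Nat.card V = 4 := by
    haveI : Fact (Nat.Prime 2) := ⟨Nat.prime_two⟩
    obtain ⟨k, hk⟩ := IsPGroup.iff_card.1 hp
    have hle : 2 ^ k ≤ 4 := by rw [← hk, hV4']; exact (Nat.mul_le_mul hk2 hr2)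
    have hk3 : k ≤ 2 := by
      by_contra h
      have := Nat.pow_le_pow_right (show 0 < 2 by norm_num) (show 3 ≤ k by omega)
      omega
    interval_cases k
    · exact absurd (by
        haveI := (Nat.card_eq_one_iff_unique.1 (by simpa using hk : Nat.card V = 1)).1
        infer_instance) hVc
    · exact absurd (isCyclic_of_prime_card (p := 2) (by simpa using hk)) hVc
    · simpa using hk
  have hr : Nat.card φ.range = 2 := by nlinarith
  obtain ⟨v0, hv0⟩ : ∃ v : V, φ v = y := by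
    by_contra h
    push Not at h
    have h1 : φ.range = ⊥ := by
      rw [eq_bot_iff]
      rintro _ ⟨v, rfl⟩
      exact Subgroup.mem_bot.2 ((hrange v).resolve_right (h v))
    rw [h1] at hr
    simp at hr
  have hfixV : ∀ u ∈ U, u⁻¹ * (w * u * w⁻¹) ∈ V → u ∈ V := by
    intro u hu hv
    have h1 : w * (u⁻¹ * (w * u * w⁻¹)) * w⁻¹ = (u⁻¹ * (w * u * w⁻¹))⁻¹ := by
      calc w * (u⁻¹ * (w * u * w⁻¹)) * w⁻¹ = (w * u * w⁻¹)⁻¹ * (w * (w * u * w⁻¹) * w⁻¹) := by group
        _ = (w * u * w⁻¹)⁻¹ * u := by rw [hcc]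
        _ = _ := by group
    rw [hinv _ hv] at h1
    have fixed_mem : ∀ z ∈ U, w * z * w⁻¹ = z → z ∈ V := fun z hz hzf => by
      rcases (hfix z hz).1 hzf with h | h <;> subst h
      · exact V.one_mem
      · exact hyV
    rcases (hfix _ (hVU hv)).1 h1 with h | h
    · exact fixed_mem u hu (inv_mul_eq_one.1 h).symm
    · change (v0 : H) * (w * v0 * w⁻¹) = y at hv0
      have h2 : w * (v0 : H) * w⁻¹ = (v0 : H) * y := by
        rw [← hv0, ← mul_assoc, hsq _ v0.2, one_mul]
      have h3 : w * u * w⁻¹ = u * y := by rw [← h]; group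
      have h4 : u * (v0 : H) ∈ V := by
        refine fixed_mem _ (U.mul_mem hu (hVU v0.2)) ?_
        calc w * (u * (v0 : H)) * w⁻¹ = (w * u * w⁻¹) * (w * v0 * w⁻¹) := by group
          _ = (u * y) * ((v0 : H) * y) := by rw [h2, h3]
          _ = u * ((y * (v0 : H)) * y) := by group
          _ = u * (((v0 : H) * y) * y) := by rw [hcomm _ hyV _ v0.2]
          _ = _ := by rw [mul_assoc (v0 : H), hsq _ hyV, mul_one]
      simpa using V.mul_mem h4 (V.inv_mem v0.2)
  haveI := hVn
  set Q := ↥U ⧸ V.subgroupOf U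
  have hmem : ∀ u ∈ U, w * u * w⁻¹ ∈ U := fun u hu => (mem_normalizer_iff.1 hwU u).1 hu
  let c : U →* U := MonoidHom.mk' (fun u => ⟨w * u * w⁻¹, hmem u u.2⟩) (fun a b => Subtype.ext (by
    show w * ((a : H) * b) * w⁻¹ = (w * a * w⁻¹) * (w * b * w⁻¹)
    group))
  have hle : V.subgroupOf U ≤ (V.subgroupOf U).comap c := fun u hu => hVw u hu
  let cQ : Q →* Q := QuotientGroup.map _ _ c hle
  have hfpf : MonoidHom.FixedPointFree cQ := by
    intro q hq
    obtain ⟨u, rfl⟩ := QuotientGroup.mk'_surjective _ q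
    have hq' : ((c u : U) : Q) = (u : Q) := hq
    rw [eq_comm, QuotientGroup.eq] at hq'
    exact (QuotientGroup.eq_one_iff u).2 (hfixV u u.2 hq')
  have hinvol : Function.Involutive cQ := by
    intro q
    obtain ⟨u, rfl⟩ := QuotientGroup.mk'_surjective _ q
    exact congrArg _ (Subtype.ext (hcc u))
  refine ⟨?_, hV4, ?_⟩
  · have h := hfpf.odd_card_of_involutive hinvol
    intro h2
    exact Nat.not_even_iff_odd.2 h (even_iff_two_dvd.2 h2)
  · rw [commutator_le]
    intro a ha b hb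
    have h := hfpf.commute_all_of_involutive hinvol
      (QuotientGroup.mk' _ (⟨a, ha⟩ : U)) (QuotientGroup.mk' _ (⟨b, hb⟩ : U))
    rw [← commutatorElement_eq_one_iff_commute, ← map_commutatorElement] at h
    exact (QuotientGroup.eq_one_iff (N := V.subgroupOf U) (⁅(⟨a, ha⟩ : U), ⟨b, hb⟩⁆)).1 h

end Cfsg.Agent.S3825
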