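import Cfsg.Statements.S3835
import Cfsg.Agent.Lib.QdP.Involves

set_option autoImplicit false
open Cfsg

namespace Cfsg.Agent.S3835

open Matrix
set_option linter.style.haveILetI false
set_option linter.unusedSectionVars false

variable {p : ℕ} [Fact p.Prime]

lemma qd_row {M : Matrix.SpecialLinearGroup (Fin 3) (ZMod p)} (hM : M ∈ Cfsg.qd p) :
    M.1 2 0 = 0 ∧ M.1 2 1 = 0 ∧ M.1 2 2 = 1 := by
  rw [Cfsg.qd] at hM
  induction hM using Subgroup.closure_induction with
  | mem x hx => exact hx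
  | one => simp
  | mul x y _ _ hx hy =>
    obtain ⟨a1, a2, a3⟩ := hx
    obtain ⟨b1, b2, b3⟩ := hy
    simp [Matrix.mul_apply, Fin.sum_univ_three, a1, a2, a3, b1, b2, b3]
  | inv x _ hx =>
    obtain ⟨a1, a2, a3⟩ := hx
    have hdet : x.1 0 0 * x.1 1 1 - x.1 0 1 * x.1 1 0 = 1 := by
      have := x.2
      rw [Matrix.det_fin_three] at this
      simp [a1, a2, a3] at this
      linear_combination this
    simp [Matrix.SpecialLinearGroup.coe_inv, Matrix.adjugate_fin_three, a1, a2, a3, hdet]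

lemma mem_qd {M : Matrix.SpecialLinearGroup (Fin 3) (ZMod p)}
    (h : M.1 2 0 = 0 ∧ M.1 2 1 = 0 ∧ M.1 2 2 = 1) : M ∈ Cfsg.qd p :=
  Subgroup.subset_closure h

/-- translations and transvections -/
def trs (u v : ZMod p) : Cfsg.qd p :=
  ⟨⟨!![1, 0, u; 0, 1, v; 0, 0, 1], by simp [Matrix.det_fin_three]⟩, mem_qd (by simp)⟩

def upp (x : ZMod p) : Cfsg.qd p :=
  ⟨⟨!![1, x, 0; 0, 1, 0; 0, 0, 1], by simp [Matrix.det_fin_three]⟩, mem_qd (by simp)⟩

def low (x : ZMod p) : Cfsg.qd p :=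
  ⟨⟨!![1, 0, 0; x, 1, 0; 0, 0, 1], by simp [Matrix.det_fin_three]⟩, mem_qd (by simp)⟩

lemma pow_eq_one_of_nil (hp : p ≠ 2) (M : Cfsg.qd p)
    (hN : ((M : Matrix.SpecialLinearGroup (Fin 3) (ZMod p)).1 - 1) ^ 3 = 0) : M ^ p = 1 := by
  have h3 : 3 ≤ p := by
    have := (Fact.out : p.Prime).two_le
    omega
  apply Subtype.ext
  apply Subtype.ext
  rw [Subgroup.coe_pow, Subgroup.coe_one, Matrix.SpecialLinearGroup.coe_pow,
    Matrix.SpecialLinearGroup.coe_one]
  set A := (M : Matrix.SpecialLinearGroup (Fin 3) (ZMod p)).1 with hA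
  rw [show A = 1 + (A - 1) by abel, add_pow_char_of_commute p (Commute.one_left _), one_pow,
    pow_eq_zero_of_le h3 hN, add_zero]

/-- homomorphisms from qd p to ℤˣ are trivial (p odd) -/
lemma hom_trivial (hp : p ≠ 2) (χ : Cfsg.qd p →* ℤˣ) (M : Cfsg.qd p) : χ M = 1 := by
  have hodd : Odd p := (Fact.out : p.Prime).odd_of_ne_two hp
  have hone : ∀ z : Cfsg.qd p, z ^ p = 1 → χ z = 1 := by
    intro z hz
    have := congrArg χ hz
    rw [map_pow, map_one] at this
    rcases Int.units_eq_one_or (χ z) with h | h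
    · exact h
    · rw [h, Odd.neg_one_pow hodd] at this
      exact absurd this (by decide)
  have ht : ∀ u v : ZMod p, χ (trs u v) = 1 := fun u v => hone _ (pow_eq_one_of_nil hp _ (by
    ext i j; fin_cases i <;> fin_cases j <;> simp [trs, pow_succ, Matrix.mul_apply, Fin.sum_univ_three]))
  have hu : ∀ u : ZMod p, χ (upp u) = 1 := fun u => hone _ (pow_eq_one_of_nil hp _ (by
    ext i j; fin_cases i <;> fin_cases j <;> simp [upp, pow_succ, Matrix.mul_apply, Fin.sum_univ_three]))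
  have hl : ∀ u : ZMod p, χ (low u) = 1 := fun u => hone _ (pow_eq_one_of_nil hp _ (by
    ext i j; fin_cases i <;> fin_cases j <;> simp [low, pow_succ, Matrix.mul_apply, Fin.sum_univ_three]))
  obtain ⟨⟨A, hAdet⟩, hA⟩ := M
  obtain ⟨r0, r1, r2⟩ := qd_row hA
  simp only at r0 r1 r2
  have key : ∀ N : Cfsg.qd p, (N : Matrix.SpecialLinearGroup (Fin 3) (ZMod p)).1 1 0 ≠ 0 → χ N = 1 := by
    rintro ⟨⟨B, hBdet⟩, hB⟩ hc
    obtain ⟨s0, s1, s2⟩ := qd_row hB
    simp only at s0 s1 s2 hc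
    have hd : B 0 0 * B 1 1 - B 0 1 * B 1 0 = 1 := by
      have := hBdet
      simp [Matrix.det_fin_three, s0, s1, s2] at this
      linear_combination this
    have : (⟨⟨B, hBdet⟩, hB⟩ : Cfsg.qd p) = trs (B 0 2) (B 1 2) *
        (upp ((B 0 0 - 1) / B 1 0) * low (B 1 0) * upp ((B 1 1 - 1) / B 1 0)) := by
      apply Subtype.ext
      apply Subtype.ext
      show B = !![1, 0, B 0 2; 0, 1, B 1 2; 0, 0, 1] * (!![1, (B 0 0 - 1) / B 1 0, 0; 0, 1, 0; 0, 0, 1] *
        !![1, 0, 0; B 1 0, 1, 0; 0, 0, 1] * !![1, (B 1 1 - 1) / B 1 0, 0; 0, 1, 0; 0, 0, 1])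
      ext i j
      fin_cases i <;> fin_cases j <;>
        simp [Matrix.mul_apply, Fin.sum_univ_three, s0, s1, s2]
      all_goals field_simp
      all_goals first | linear_combination hd | linear_combination -hd | ring
    rw [this, map_mul, map_mul, map_mul, ht, hu, hl, hu]; simp
  by_cases hc : A 1 0 = 0
  · have hd : A 0 0 * A 1 1 = 1 := by
      have := hAdet
      simp [Matrix.det_fin_three, r0, r1, r2, hc] at this
      linear_combination this
    have h2 : χ (low 1 * ⟨⟨A, hAdet⟩, hA⟩) = 1 := key _ (by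
      show ((!![1, 0, 0; 1, 1, 0; 0, 0, 1] : Matrix (Fin 3) (Fin 3) (ZMod p)) * A) 1 0 ≠ 0
      simp [low, Matrix.mul_apply, Fin.sum_univ_three, hc, r0]
      exact left_ne_zero_of_mul_eq_one hd)
    rw [map_mul, hl, one_mul] at h2
    exact h2
  · exact key _ hc

lemma comm_of_lt {n : ℕ} (hn : n < p ^ 2) (P : Subgroup (alternatingGroup (Fin n))) (hP : IsPGroup p P)
    (a : alternatingGroup (Fin n)) (ha : a ∈ P) (b : alternatingGroup (Fin n)) (hb : b ∈ P) :
    a * b = b * a := by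
  classical
  suffices h : ∀ x : Fin n, ((a : Equiv.Perm (Fin n)) * b) x = ((b : Equiv.Perm (Fin n)) * a) x by
    exact Subtype.ext (Equiv.Perm.ext h)
  intro x
  let H := MulAction.stabilizer P x
  have hidx : H.index < p ^ 2 := by
    refine lt_of_le_of_lt ?_ hn
    rw [MulAction.index_stabilizer, ← Nat.card_coe_set_eq]
    exact (Finite.card_subtype_le _).trans (by simp)
  obtain ⟨k, hk⟩ := hP.index H
  have hk2 : k < 2 := (Nat.pow_lt_pow_iff_right (Fact.out : p.Prime).one_lt).mp (hk ▸ hidx)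
  have hcomm : ((⟨b, hb⟩ * ⟨a, ha⟩ : P))⁻¹ * (⟨a, ha⟩ * ⟨b, hb⟩) ∈ H := by
    interval_cases k
    · rw [pow_zero] at hk
      rw [Subgroup.index_eq_one.mp hk]; trivial
    · rw [pow_one] at hk
      haveI : H.Normal := by
        refine Subgroup.normal_of_index_eq_minFac_card ?_
        obtain ⟨m, hm⟩ := IsPGroup.iff_card.mp hP
        rw [hk, hm, Nat.Prime.pow_minFac Fact.out]
        intro h0
        have := H.index_dvd_card
        rw [hk, hm, h0, pow_zero, Nat.dvd_one] at this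
        exact (Fact.out : p.Prime).ne_one this
      haveI : IsCyclic (P ⧸ H) := isCyclic_of_prime_card (p := p) (by rw [← Subgroup.index_eq_card, hk])
      rw [← QuotientGroup.eq]
      show QuotientGroup.mk' H (⟨b, hb⟩ * ⟨a, ha⟩) = QuotientGroup.mk' H (⟨a, ha⟩ * ⟨b, hb⟩)
      rw [map_mul, map_mul]
      exact (IsCyclic.isMulCommutative (α := P ⧸ H)).is_comm.comm _ _
  have hcomm' : ((b : Equiv.Perm (Fin n)) * a)⁻¹ (((a : Equiv.Perm (Fin n)) * b) x) = x := hcomm
  exact (Equiv.Perm.inv_eq_iff_eq).mp hcomm'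

/-- affine points -/
abbrev Pt (p : ℕ) := {v : Fin 3 → ZMod p // v 2 = 1}

def affHom : Cfsg.qd p →* Equiv.Perm (Pt p) :=
  @MulAction.toPermHom (Cfsg.qd p) (Pt p) _
    { smul := fun M v => ⟨(M : Matrix.SpecialLinearGroup (Fin 3) (ZMod p)).1 *ᵥ v.1, by
        obtain ⟨a1, a2, a3⟩ := qd_row M.2
        simp [Matrix.mulVec, dotProduct, Fin.sum_univ_three, a1, a2, a3, v.2]⟩
      one_smul := fun v => Subtype.ext (by
        show (1 : Matrix (Fin 3) (Fin 3) (ZMod p)) *ᵥ v.1 = v.1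
        exact Matrix.one_mulVec _)
      mul_smul := fun M N v => Subtype.ext (by
        show ((M : Matrix.SpecialLinearGroup (Fin 3) (ZMod p)).1 *
          (N : Matrix.SpecialLinearGroup (Fin 3) (ZMod p)).1) *ᵥ v.1 =
          (M : Matrix.SpecialLinearGroup (Fin 3) (ZMod p)).1 *ᵥ ((N : Matrix.SpecialLinearGroup (Fin 3) (ZMod p)).1 *ᵥ v.1)
        exact (Matrix.mulVec_mulVec _ _ _).symm) }

lemma affHom_apply (M : Cfsg.qd p) (v : Pt p) :
    (affHom M v).1 = (M : Matrix.SpecialLinearGroup (Fin 3) (ZMod p)).1 *ᵥ v.1 := rfl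

lemma affHom_injective : Function.Injective (affHom (p := p)) := by
  intro M N h
  have hv : ∀ v : Pt p, (M : Matrix.SpecialLinearGroup (Fin 3) (ZMod p)).1 *ᵥ v.1 =
      (N : Matrix.SpecialLinearGroup (Fin 3) (ZMod p)).1 *ᵥ v.1 := fun v => by
    rw [← affHom_apply, ← affHom_apply, h]
  have h0 := hv ⟨![0, 0, 1], rfl⟩
  have h1 := hv ⟨![1, 0, 1], rfl⟩
  have h2 := hv ⟨![0, 1, 1], rfl⟩
  apply Subtype.ext
  apply Subtype.ext
  ext i j
  have e0 := congrFun h0 i
  have e1 := congrFun h1 i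
  have e2 := congrFun h2 i
  simp [Matrix.mulVec, dotProduct, Fin.sum_univ_three] at e0 e1 e2
  fin_cases j
  · simpa [e0] using e1
  · simpa [e0] using e2
  · exact e0

lemma exists_embedding (hp : p ≠ 2) {n : ℕ} (hn : p ^ 2 ≤ n) :
    ∃ H : Subgroup (alternatingGroup (Fin n)), Nonempty (↥H ≃* ↥(Cfsg.qd p)) := by
  classical
  let e : Pt p ≃ (ZMod p × ZMod p) :=
    { toFun := fun v => (v.1 0, v.1 1)
      invFun := fun w => ⟨![w.1, w.2, 1], rfl⟩
      left_inv := fun v => Subtype.ext (by ext i; fin_cases i <;> simp [v.2])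
      right_inv := fun w => by simp }
  have hcard : Fintype.card (Pt p) ≤ Fintype.card (Fin n) := by
    rw [Fintype.card_congr e, Fintype.card_prod, ZMod.card, Fintype.card_fin, ← sq]; exact hn
  obtain ⟨ι⟩ := Function.Embedding.nonempty_of_card_le hcard
  let f : Cfsg.qd p →* Equiv.Perm (Fin n) :=
    (Equiv.Perm.extendDomainHom (Equiv.ofInjective ι ι.injective)).comp affHom
  have hf : Function.Injective f :=
    (Equiv.Perm.extendDomainHom_injective _).comp affHom_injective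
  have hev : ∀ M, f M ∈ alternatingGroup (Fin n) := fun M =>
    Equiv.Perm.mem_alternatingGroup.mpr (hom_trivial hp ((Equiv.Perm.sign).comp f) M)
  let f' := f.codRestrict (alternatingGroup (Fin n)) hev
  have hf' : Function.Injective f' := fun M N h => hf (congrArg Subtype.val h)
  exact ⟨f'.range, ⟨(MonoidHom.ofInjective hf').symm⟩⟩

/-- Let p be an odd prime and n a natural number. The alternating group of degree n has a subgroup isomorphic to Qd(p) (the natural semidirect product of an elementary abelian group of order p² by SL₂(p)) if and only if n ≥ p²; and if n < p² then Qd(p) is not even involved in it. -/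
theorem result {p : ℕ} [Fact p.Prime] (hp : p ≠ 2) (n : ℕ) : ((∃ H : Subgroup (alternatingGroup (Fin n)), Nonempty (↥H ≃* ↥(Cfsg.qd p))) ↔ p ^ 2 ≤ n) ∧ (n < p ^ 2 → ¬ Cfsg.Involves ↥(Cfsg.qd p) ↥(alternatingGroup (Fin n))) := by
  refine ⟨⟨fun ⟨H, ⟨e⟩⟩ => ?_, exists_embedding hp⟩,
    fun hn => Cfsg.Agent.Lib.QdP.not_involves_qd_of_comm hp (comm_of_lt hn)⟩
  by_contra hlt
  obtain ⟨S, hS, a, ha, b, hb, hab⟩ := Cfsg.Agent.Lib.QdP.exists_noncomm_pSubgroup_qd (p := p) hp
  let f : ↥(Cfsg.qd p) →* alternatingGroup (Fin n) := H.subtype.comp e.symm.toMonoidHom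
  have hf : Function.Injective f := H.subtype_injective.comp e.symm.injective
  have := comm_of_lt (not_le.mp hlt) (S.map f) (hS.map f) (f a) ⟨a, ha, rfl⟩ (f b) ⟨b, hb, rfl⟩
  rw [← map_mul, ← map_mul] at this
  exact hab (hf this)

end Cfsg.Agent.S3835
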