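import Cfsg.Statements.S3838
import Cfsg.Agent.Lib.Transfer.Criteria

set_option autoImplicit false
open Cfsg

namespace Cfsg.Agent.S3838

open Cfsg.Agent.Lib.Transfer Subgroup
open scoped commutatorElement
set_option linter.style.haveILetI false

lemma comm_mem_of_normalizer {G : Type*} [Group G] [Finite G] {p : ℕ} [Fact p.Prime] (P : Sylow p G)
    (hN : Cfsg.HasNormalPComplement p ↥(Subgroup.normalizer ((P : Subgroup G) : Set G))) (Q : Subgroup G)
    (h1 : (commutator ↥(P : Subgroup G)).map (P : Subgroup G).subtype ≤ Q)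
    (h : G) (hh : h ∈ Subgroup.normalizer ((P : Subgroup G) : Set G)) (x : G) (hx : x ∈ (P : Subgroup G)) :
    h * x * h⁻¹ * x⁻¹ ∈ Q := by
  set N := Subgroup.normalizer ((P : Subgroup G) : Set G) with hNdef
  let Pn : Sylow p N := P.subtype le_normalizer
  have hPn : ((Pn : Subgroup N)).Normal := by
    rw [Sylow.coe_subtype]
    exact (normal_subgroupOf_iff_le_normalizer le_normalizer).mpr le_rfl
  have hd := (hasNormalPComplement_iff_inf_eq_bot Pn).mp hN
  have hs := pResidual_sup_sylow Pn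
  haveI : (Cfsg.pResidual p N).Normal := pResidual_normal
  have hm : (⟨h, hh⟩ : N) ∈ Cfsg.pResidual p N ⊔ (Pn : Subgroup N) := by rw [hs]; trivial
  obtain ⟨k, hk, u, hu, hku⟩ := mem_sup_of_normal_left.mp hm
  have huP : (u : G) ∈ (P : Subgroup G) := by rwa [Sylow.coe_subtype, mem_subgroupOf] at hu
  have hw : (u : G) * x * (u : G)⁻¹ ∈ (P : Subgroup G) :=
    mul_mem (mul_mem huP hx) (inv_mem huP)
  have hw' : (⟨(u : G) * x * (u : G)⁻¹, le_normalizer hw⟩ : N) ∈ (Pn : Subgroup N) := by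
    rw [Sylow.coe_subtype, mem_subgroupOf]; exact hw
  have hc := congrArg Subtype.val (Subgroup.commute_of_normal_of_disjoint _ _ pResidual_normal hPn
    (disjoint_iff.mpr hd) k _ hk hw').eq
  simp only [Subgroup.coe_mul] at hc
  have hh' : h = (k : G) * (u : G) := by rw [← Subgroup.coe_mul, hku]
  have he : h * x * h⁻¹ = (u : G) * x * (u : G)⁻¹ := by
    rw [hh', mul_inv_rev]
    calc (k : G) * (u : G) * x * ((u : G)⁻¹ * (k : G)⁻¹)
        = (k : G) * ((u : G) * x * (u : G)⁻¹) * (k : G)⁻¹ := by group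
      _ = (u : G) * x * (u : G)⁻¹ := by rw [hc]; group
  rw [he]
  apply h1
  refine ⟨⁅(⟨(u : G), huP⟩ : (P : Subgroup G)), ⟨x, hx⟩⁆, ?_, rfl⟩
  exact Subgroup.commutator_mem_commutator (mem_top _) (mem_top _)

/-- Let G be a finite group with Sylow p-subgroup P such that N_G(P) has a normal p-complement. Then N_G(Q) has a normal p-complement for every subgroup Q with [P, P] ≤ Q ≤ Φ(P). -/
theorem result {G : Type*} [Group G] [Finite G] {p : ℕ} [Fact p.Prime] (P : Sylow p G) (hN : Cfsg.HasNormalPComplement p ↥(Subgroup.normalizer ((P : Subgroup G) : Set G))) (Q : Subgroup G) (h1 : (commutator ↥(P : Subgroup G)).map (P : Subgroup G).subtype ≤ Q) (h2 : Q ≤ (frattini ↥(P : Subgroup G)).map (P : Subgroup G).subtype) : Cfsg.HasNormalPComplement p ↥(Subgroup.normalizer (Q : Set G)) := by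
  have hQP : Q ≤ (P : Subgroup G) := h2.trans (Subgroup.map_subtype_le _)
  set N := Subgroup.normalizer (Q : Set G) with hNdef
  have hPN : (P : Subgroup G) ≤ N := by
    have hconj : ∀ u ∈ (P : Subgroup G), ∀ n ∈ Q, u * n * u⁻¹ ∈ Q := by
      intro u hu n hn
      have hc : u * n * u⁻¹ * n⁻¹ ∈ Q :=
        h1 ⟨⁅(⟨u, hu⟩ : (P : Subgroup G)), ⟨n, hQP hn⟩⁆,
          Subgroup.commutator_mem_commutator (mem_top _) (mem_top _), rfl⟩
      have := Q.mul_mem hc hn
      rwa [inv_mul_cancel_right] at this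
    intro u hu
    rw [hNdef, mem_normalizer_iff]
    intro n
    refine ⟨hconj u hu n, fun hn => ?_⟩
    have := hconj u⁻¹ (inv_mem hu) _ hn
    simpa [mul_assoc] using this
  let P' : Sylow p N := P.subtype hPN
  let QN := Q.subgroupOf N
  haveI : QN.Normal := (normal_subgroupOf_iff_le_normalizer le_normalizer).mpr le_rfl
  let f := QuotientGroup.mk' QN
  have hf : Function.Surjective f := QuotientGroup.mk'_surjective QN
  let Pb : Sylow p (N ⧸ QN) := P'.mapSurjective hf
  have hB : Cfsg.HasNormalPComplement p (N ⧸ QN) := by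
    refine hasNormalPComplement_of_normalizer_le_centralizer Pb ?_
    intro y hy
    obtain ⟨h, rfl⟩ := hf y
    rw [Subgroup.mem_normalizer_iff] at hy
    have hhP : (h : G) ∈ Subgroup.normalizer ((P : Subgroup G) : Set G) := by
      have key : ∀ z : N, f z ∈ (Pb : Subgroup (N ⧸ QN)) ↔ (z : G) ∈ (P : Subgroup G) := by
        intro z
        rw [Sylow.coe_mapSurjective, ← Subgroup.mem_comap, Subgroup.comap_map_eq,
          QuotientGroup.ker_mk', Sylow.coe_subtype, sup_eq_left.mpr (show QN ≤ (P : Subgroup G).subgroupOf N from Subgroup.comap_mono hQP),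
          mem_subgroupOf]
      have hmaps : ∀ n : G, n ∈ (P : Subgroup G) → (h : G) * n * (h : G)⁻¹ ∈ (P : Subgroup G) := by
        intro n hn
        have := (key (h * ⟨n, hPN hn⟩ * h⁻¹)).mp (by
          rw [map_mul, map_mul, map_inv]
          exact (hy _).mp ((key ⟨n, hPN hn⟩).mpr hn))
        simpa using this
      exact Subgroup.mem_normalizer_iff.mpr fun n => ⟨hmaps n, fun hn => by
        have hfin := (key (h⁻¹ * ⟨(h : G) * n * (h : G)⁻¹, hPN hn⟩ * h)).mp (by
          rw [map_mul, map_mul, map_inv]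
          refine (hy _).mpr ?_
          have := (key ⟨(h : G) * n * (h : G)⁻¹, hPN hn⟩).mpr hn
          simpa [mul_assoc] using this)
        simpa [mul_assoc] using hfin⟩
    rw [Subgroup.mem_centralizer_iff]
    intro z hz
    rw [Sylow.coe_mapSurjective] at hz
    obtain ⟨x, hx, rfl⟩ := hz
    have hxP : (x : G) ∈ (P : Subgroup G) := by
      simpa [P', Sylow.coe_subtype, mem_subgroupOf] using hx
    have hc := comm_mem_of_normalizer P hN Q h1 h hhP x hxP
    have : f (h * x * h⁻¹ * x⁻¹) = 1 :=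
      (QuotientGroup.eq_one_iff (h * x * h⁻¹ * x⁻¹)).mpr (by simpa [QN, mem_subgroupOf] using hc)
    rw [map_mul, map_mul, map_mul, map_inv, map_inv, mul_inv_eq_one, mul_inv_eq_iff_eq_mul] at this
    exact this.symm
  refine hasNormalPComplement_of_le_frattini P' ?_
  intro x hx
  obtain ⟨hx1, hx2⟩ := hx
  have hfx : f x ∈ Cfsg.pResidual p (N ⧸ QN) ⊓ (Pb : Subgroup (N ⧸ QN)) :=
    ⟨map_pResidual_le f ⟨x, hx1, rfl⟩, by
      rw [Sylow.coe_mapSurjective]; exact ⟨x, hx2, rfl⟩⟩
  rw [(hasNormalPComplement_iff_inf_eq_bot Pb).mp hB, Subgroup.mem_bot] at hfx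
  have hxQ : (x : G) ∈ Q := mem_subgroupOf.mp ((QuotientGroup.eq_one_iff x).mp hfx)
  obtain ⟨y, hy, hyx⟩ := h2 hxQ
  let e : ↥(P : Subgroup G) →* ↥(P' : Subgroup N) :=
    { toFun := fun a => ⟨⟨a.1, hPN a.2⟩, by simp [P', Sylow.coe_subtype, mem_subgroupOf]⟩
      map_one' := rfl
      map_mul' := fun _ _ => rfl }
  have he : Function.Surjective e := by
    rintro ⟨⟨a, ha⟩, ha'⟩
    have : a ∈ (P : Subgroup G) := by simpa [P', Sylow.coe_subtype, mem_subgroupOf] using ha'
    exact ⟨⟨a, this⟩, rfl⟩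
  exact ⟨e y, (frattini_le_comap_frattini_of_surjective he) hy, Subtype.ext hyx⟩

end Cfsg.Agent.S3838
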