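import Cfsg.Statements.S3839
import Cfsg.Agent.Lib.Transfer.Criteria

set_option autoImplicit false
open Cfsg

namespace Cfsg.Agent.S3839

open Cfsg.Agent.Lib.Transfer Subgroup
open scoped Pointwise
set_option linter.style.haveILetI false
set_option linter.unusedSectionVars false

variable {G : Type*} [Group G] [Finite G] {p : ℕ} [hp : Fact p.Prime]

omit [Finite G] in
lemma mem_of_pow_prime_pow_mem {H : Subgroup G} {g : G} (hg : (orderOf g).Coprime p) {k : ℕ}
    (h : g ^ p ^ k ∈ H) : g ∈ H := by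
  obtain ⟨m, hm⟩ := exists_pow_eq_self_of_coprime (n := p ^ k) (x := g)
    (Nat.Coprime.pow_left _ hg.symm)
  rw [← hm]; exact pow_mem h m

/-- elements centralising `U` and `Q/U` -/
def stab (Q U : Subgroup G) : Subgroup G where
  carrier := {x | (∀ u ∈ U, x * u * x⁻¹ = u) ∧ ∀ q ∈ Q, x * q * x⁻¹ * q⁻¹ ∈ U}
  one_mem' := ⟨fun u _ => by group, fun q _ => by simp⟩
  mul_mem' := by
    rintro x y ⟨hx1, hx2⟩ ⟨hy1, hy2⟩
    refine ⟨fun u hu => ?_, fun q hq => ?_⟩
    · rw [show x * y * u * (x * y)⁻¹ = x * (y * u * y⁻¹) * x⁻¹ by group, hy1 u hu, hx1 u hu]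
    · rw [show x * y * q * (x * y)⁻¹ * q⁻¹
        = x * (y * q * y⁻¹ * q⁻¹) * x⁻¹ * (x * q * x⁻¹ * q⁻¹) by group, hx1 _ (hy2 q hq)]
      exact mul_mem (hy2 q hq) (hx2 q hq)
  inv_mem' := by
    rintro x ⟨hx1, hx2⟩
    have hx1' : ∀ u ∈ U, x⁻¹ * u * x⁻¹⁻¹ = u := fun u hu => by
      conv_lhs => rw [← hx1 u hu]
      group
    refine ⟨hx1', fun q hq => ?_⟩
    have h := hx1' _ (inv_mem (hx2 q hq))
    rw [show x⁻¹ * q * x⁻¹⁻¹ * q⁻¹ = x⁻¹ * (x * q * x⁻¹ * q⁻¹)⁻¹ * x⁻¹⁻¹ by group, h]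
    exact inv_mem (hx2 q hq)

lemma centralizer_le_stab (Q U : Subgroup G) (hUQ : U ≤ Q) :
    Subgroup.centralizer (Q : Set G) ≤ stab Q U := fun x hx => by
  have h : ∀ q ∈ Q, x * q * x⁻¹ = q := fun q hq => by
    rw [← mem_centralizer_iff.mp hx q hq]; group
  exact ⟨fun u hu => h u (hUQ hu), fun q hq => by rw [h q hq]; simp⟩

lemma stab_centralizes {Q U : Subgroup G} (hU : IsPGroup p U) {x : G}
    (hx : x ∈ stab Q U) (hxo : (orderOf x).Coprime p) : x ∈ Subgroup.centralizer (Q : Set G) := by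
  rw [mem_centralizer_iff]
  intro q hq
  set u := x * q * x⁻¹ * q⁻¹ with hu
  have huU : u ∈ U := hx.2 q hq
  have hiter : ∀ n : ℕ, x ^ n * q * (x ^ n)⁻¹ = u ^ n * q := by
    intro n
    induction n with
    | zero => simp
    | succ n ih =>
      rw [pow_succ' x n, show x * x ^ n * q * (x * x ^ n)⁻¹ = x * (x ^ n * q * (x ^ n)⁻¹) * x⁻¹ by group,
        ih, show x * (u ^ n * q) * x⁻¹ = x * u ^ n * x⁻¹ * (x * q * x⁻¹ * q⁻¹) * q by group,
        hx.1 _ (pow_mem huU n), ← hu, ← pow_succ]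
  have h1 := hiter (orderOf x)
  rw [pow_orderOf_eq_one, inv_one, mul_one, one_mul] at h1
  have h2 : u ^ orderOf x = 1 := mul_eq_right.mp h1.symm
  obtain ⟨k, hk⟩ := hU ⟨u, huU⟩
  have h3 : u ^ p ^ k = 1 := congrArg Subtype.val hk
  have : u = 1 := by
    have hd := Nat.dvd_gcd (orderOf_dvd_of_pow_eq_one h2) (orderOf_dvd_of_pow_eq_one h3)
    rw [Nat.Coprime.gcd_eq_one (Nat.Coprime.pow_right k hxo), Nat.dvd_one] at hd
    exact orderOf_eq_one_iff.mp hd
  rw [hu, mul_inv_eq_one, mul_inv_eq_iff_eq_mul] at this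
  exact this.symm

lemma key (S : Sylow p G) (D : Subgroup G) (hD : Cfsg.IsStronglyClosed D (S : Subgroup G))
    (h : ∀ U : Subgroup G, U ≤ D → D ⊓ Subgroup.centralizer (U : Set G) ≤ U →
      Cfsg.HasNormalPComplement p ↥(Subgroup.normalizer (U : Set G)))
    (Q : Subgroup G) (hQS : Q ≤ (S : Subgroup G))
    (IH : ∀ R : Subgroup G, IsPGroup p R → Nat.card Q < Nat.card R →
      ∀ g ∈ Subgroup.normalizer (R : Set G), (orderOf g).Coprime p →
        g ∈ Subgroup.centralizer (R : Set G))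
    (g : G) (hg : g ∈ Subgroup.normalizer (Q : Set G)) (hgo : (orderOf g).Coprime p) :
    g ∈ Subgroup.centralizer (Q : Set G) := by
  set X := Subgroup.normalizer (Q : Set G) with hX
  set U := Q ⊓ D with hU
  have hconj : ∀ x ∈ X, ∀ u ∈ U, x * u * x⁻¹ ∈ U := by
    intro x hx u hu
    have hq : x * u * x⁻¹ ∈ Q := (mem_normalizer_iff.mp hx u).mp hu.1
    exact ⟨hq, hD.2 u hu.2 x (hQS hq)⟩
  have hXU : X ≤ Subgroup.normalizer (U : Set G) := by
    intro x hx
    rw [mem_normalizer_iff]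
    refine fun n => ⟨hconj x hx n, fun hn => ?_⟩
    have := hconj x⁻¹ (inv_mem hx) _ hn
    simpa [mul_assoc] using this
  by_cases hC : D ⊓ Subgroup.centralizer (U : Set G) ≤ U
  · have hl := locallyPTrivial_of_hasNormalPComplement (h U inf_le_right hC)
      (Q.subgroupOf _) (S.2.to_le hQS).comap_subtype ⟨g, hXU hg⟩ ?_ (by rwa [← orderOf_coe])
    · rw [mem_centralizer_iff]
      intro q hq
      exact congrArg Subtype.val (mem_centralizer_iff.mp hl ⟨q, hXU (le_normalizer hq)⟩ hq)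
    · rw [mem_normalizer_iff]
      exact fun n => mem_normalizer_iff.mp hg (n : G)
  set C := D ⊓ Subgroup.centralizer (U : Set G) with hCdef
  have hCS : C ≤ (S : Subgroup G) := inf_le_left.trans hD.1
  have hQC : Q ≤ Subgroup.normalizer (C : Set G) := by
    have h1 : ∀ q ∈ Q, ∀ c ∈ C, q * c * q⁻¹ ∈ C := by
      intro q hq c hc
      refine ⟨hD.2 c hc.1 q (mul_mem (mul_mem (hQS hq) (hCS hc)) (inv_mem (hQS hq))), ?_⟩
      refine mem_centralizer_iff.mpr fun u hu => ?_
      have := mem_centralizer_iff.mp hc.2 _ (hconj q⁻¹ (inv_mem (le_normalizer hq)) u hu)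
      calc u * (q * c * q⁻¹) = q * ((q⁻¹ * u * q⁻¹⁻¹) * c) * q⁻¹ := by group
        _ = q * c * q⁻¹ * u := by rw [this]; group
    intro q hq
    rw [mem_normalizer_iff]
    refine fun n => ⟨h1 q hq n, fun hn => ?_⟩
    have := h1 q⁻¹ (inv_mem hq) _ hn
    simpa [mul_assoc] using this
  have hlt : Q < Q ⊔ C := by
    refine lt_of_le_of_ne le_sup_left fun heq => hC fun c hc => ⟨?_, hc.1⟩
    rw [heq]; exact mem_sup_right hc
  obtain ⟨m, ⟨hm, hmX⟩, hmQ⟩ := SetLike.exists_of_lt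
    (lt_inf_normalizer (S.2.to_le (sup_le hQS hCS)) hlt)
  replace hm : m ∈ ((Q ⊔ C : Subgroup G) : Set G) := hm
  rw [coe_mul_of_left_le_normalizer_right Q C hQC] at hm
  replace hmX : m ∈ X := hmX
  obtain ⟨q₀, hq₀, e, he, rfl⟩ := hm
  replace hq₀ : q₀ ∈ Q := hq₀
  replace he : e ∈ C := he
  have heX : e ∈ X := by
    have := mul_mem (inv_mem (le_normalizer (H := Q) hq₀)) hmX
    simpa using this
  have heQ : e ∉ Q := fun hh => hmQ (mul_mem hq₀ hh)
  have heA : e ∈ stab Q U := by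
    refine ⟨fun u hu => ?_, fun q hq => ⟨?_, ?_⟩⟩
    · rw [← mem_centralizer_iff.mp he.2 u hu]; group
    · show e * q * e⁻¹ * q⁻¹ ∈ Q
      exact mul_mem ((mem_normalizer_iff.mp heX q).mp hq) (inv_mem hq)
    · show e * q * e⁻¹ * q⁻¹ ∈ D
      rw [show e * q * e⁻¹ * q⁻¹ = e * (q * e⁻¹ * q⁻¹) by group]
      exact mul_mem he.1 (hD.2 _ (inv_mem he.1) q
        (mul_mem (mul_mem (hQS hq) (inv_mem (hD.1 he.1))) (inv_mem (hQS hq))))
  let A : Subgroup X := (stab Q U).subgroupOf X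
  let Q' : Subgroup X := Q.subgroupOf X
  haveI hQ'n : Q'.Normal := (normal_subgroupOf_iff_le_normalizer le_normalizer).mpr le_rfl
  haveI hAn : A.Normal := by
    refine ⟨fun a ha y => ?_⟩
    obtain ⟨ha1, ha2⟩ := mem_subgroupOf.mp ha
    refine mem_subgroupOf.mpr ⟨fun u hu => ?_, fun q hq => ?_⟩
    · simp only [Subgroup.coe_mul, Subgroup.coe_inv]
      have := ha1 _ (hconj (y : G)⁻¹ (inv_mem y.2) u hu)
      calc _ = (y : G) * ((a : G) * ((y : G)⁻¹ * u * (y : G)⁻¹⁻¹) * (a : G)⁻¹) * (y : G)⁻¹ := by group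
        _ = u := by rw [this]; group
    · simp only [Subgroup.coe_mul, Subgroup.coe_inv]
      have hq' : (y : G)⁻¹ * q * (y : G)⁻¹⁻¹ ∈ Q := (mem_normalizer_iff.mp (inv_mem y.2) q).mp hq
      have := hconj (y : G) y.2 _ (ha2 _ hq')
      convert this using 1
      group
  let B : Subgroup X := A ⊔ Q'
  haveI : B.Normal := Subgroup.sup_normal A Q'
  have hpg : IsPGroup p ((Q ⊔ zpowers e).subgroupOf X) := by
    exact ((S.2.to_le (sup_le hQS (zpowers_le.mpr (hCS he))))).comap_subtype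
  have hle : (Q ⊔ zpowers e).subgroupOf X ≤ B := by
    rw [subgroupOf_sup le_normalizer (zpowers_le.mpr heX)]
    refine sup_le le_sup_right (le_trans ?_ le_sup_left)
    intro x hx
    exact zpowers_le.mpr heA hx
  obtain ⟨R, hR⟩ := (IsPGroup.comap_subtype (K := B) hpg).exists_le_sylow
  set RG : Subgroup G := ((R : Subgroup B).map B.subtype).map X.subtype with hRG
  have hRp : IsPGroup p RG := (R.2.map _).map _
  have hmem : ∀ x : G, x ∈ Q ⊔ zpowers e → x ∈ RG := by
    intro x hx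
    have hxX : x ∈ X := (sup_le le_normalizer (zpowers_le.mpr heX)) hx
    exact ⟨⟨x, hxX⟩, ⟨⟨⟨x, hxX⟩, hle hx⟩, hR hx, rfl⟩, rfl⟩
  have hQR : Q < RG :=
    lt_of_le_of_ne (fun x hx => hmem x (mem_sup_left hx))
      fun heq => heQ (heq ▸ hmem e (mem_sup_right (mem_zpowers e)))
  have hcard : Nat.card Q < Nat.card RG := by
    refine lt_of_le_of_ne (Subgroup.card_le_of_le hQR.le) fun heq => hQR.ne ?_
    exact Subgroup.eq_of_le_of_card_ge hQR.le heq.ge
  have htop := Sylow.normalizer_sup_eq_top R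
  have hgm : (⟨g, hg⟩ : X) ∈ Subgroup.normalizer (((R : Subgroup B).map B.subtype : Subgroup X) : Set X) ⊔ B := by
    rw [htop]; trivial
  obtain ⟨n, hn, b, hb, hnb⟩ := mem_sup_of_normal_right.mp hgm
  have hnR : (n : G) ∈ Subgroup.normalizer (RG : Set G) :=
    le_normalizer_map X.subtype ⟨n, hn, rfl⟩
  obtain ⟨k, hk⟩ := exists_pow_coprime (p := p) (n : G)
  have hnk : (n : G) ^ p ^ k ∈ Subgroup.centralizer (RG : Set G) :=
    IH RG hRp hcard _ (pow_mem hnR _) hk
  have hnB : n ^ p ^ k ∈ B := mem_sup_left (mem_subgroupOf.mpr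
    (centralizer_le_stab Q U inf_le_left (by
      rw [Subgroup.coe_pow]
      exact centralizer_le hQR.le hnk)))
  have hg' : (orderOf (⟨g, hg⟩ : X)).Coprime p := by rwa [← orderOf_coe]
  have hgB : (⟨g, hg⟩ : X) ∈ B := by
    refine mem_of_pow_prime_pow_mem hg' (k := k) ?_
    have hq : QuotientGroup.mk' B (⟨g, hg⟩ : X) = QuotientGroup.mk' B n := by
      rw [← hnb, map_mul, QuotientGroup.mk'_apply B b, (QuotientGroup.eq_one_iff b).mpr hb, mul_one]
    rw [← QuotientGroup.eq_one_iff, ← QuotientGroup.mk'_apply, map_pow, hq, ← map_pow,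
      QuotientGroup.mk'_apply, QuotientGroup.eq_one_iff]
    exact hnB
  obtain ⟨a, ha, q, hq, haq⟩ := mem_sup_of_normal_left.mp hgB
  obtain ⟨j, hj⟩ := (S.2.to_le hQS) ⟨(q : G), hq⟩
  have hgA : (⟨g, hg⟩ : X) ∈ A := by
    refine mem_of_pow_prime_pow_mem hg' (k := j) ?_
    have hq1 : q ^ p ^ j = 1 := by
      apply Subtype.ext
      simpa using congrArg Subtype.val hj
    rw [← QuotientGroup.eq_one_iff, ← QuotientGroup.mk'_apply, map_pow, ← haq, map_mul,
      QuotientGroup.mk'_apply A a, (QuotientGroup.eq_one_iff a).mpr ha, one_mul, ← map_pow, hq1, map_one]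
  exact stab_centralizes (S.2.to_le (inf_le_left.trans hQS)) (mem_subgroupOf.mp hgA) hgo

lemma locally (S : Sylow p G) (D : Subgroup G) (hD : Cfsg.IsStronglyClosed D (S : Subgroup G))
    (h : ∀ U : Subgroup G, U ≤ D → D ⊓ Subgroup.centralizer (U : Set G) ≤ U →
      Cfsg.HasNormalPComplement p ↥(Subgroup.normalizer (U : Set G))) :
    LocallyPTrivial p G := by
  suffices ∀ (n : ℕ) (Q : Subgroup G), Nat.card G - Nat.card Q = n → IsPGroup p Q →
      ∀ g ∈ Subgroup.normalizer (Q : Set G), (orderOf g).Coprime p →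
        g ∈ Subgroup.centralizer (Q : Set G) from fun Q hQ => this _ Q rfl hQ
  intro n
  induction n using Nat.strong_induction_on with
  | _ n IH =>
  intro Q hn hQ g hg hgo
  obtain ⟨T, hT⟩ := hQ.exists_le_sylow
  obtain ⟨a, ha⟩ := exists_sylow_map_conj_eq S T
  set f := (MulAut.conj a).toMonoidHom
  have hfg : f g ∈ Subgroup.normalizer ((Q.map f : Subgroup G) : Set G) :=
    le_normalizer_map f ⟨g, hg, rfl⟩
  have ho : (orderOf (f g)).Coprime p := by
    rwa [orderOf_injective f (MulAut.conj a).injective]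
  have hcq : Nat.card (Q.map f) = Nat.card Q :=
    Subgroup.card_map_of_injective (MulAut.conj a).injective
  have hc := key S D hD h (Q.map f) ((Subgroup.map_mono hT).trans_eq ha)
    (fun R hR hlt g' hg' hgo' => IH (Nat.card G - Nat.card R) (by
      have := Subgroup.card_le_card_group R
      omega) R rfl hR g' hg' hgo') (f g) hfg ho
  refine mem_centralizer_iff.mpr fun q hq => (MulAut.conj a).injective ?_
  rw [map_mul, map_mul]
  exact mem_centralizer_iff.mp hc _ ⟨q, hq, rfl⟩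

/-- A Frobenius normal p-complement criterion relative to a strongly closed subgroup. Let G be a finite group, S a Sylow p-subgroup and D a subgroup of S strongly closed in S with respect to G. Then G has a normal p-complement if and only if N_G(U) has a normal p-complement for every subgroup U of D with C_D(U) ≤ U. -/
theorem result {G : Type*} [Group G] [Finite G] {p : ℕ} [Fact p.Prime] (S : Sylow p G) (D : Subgroup G) (hD : Cfsg.IsStronglyClosed D (S : Subgroup G)) : Cfsg.HasNormalPComplement p G ↔ ∀ U : Subgroup G, U ≤ D → D ⊓ Subgroup.centralizer (U : Set G) ≤ U → Cfsg.HasNormalPComplement p ↥(Subgroup.normalizer (U : Set G)) := by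
  exact ⟨fun h U _ _ => Cfsg.Agent.Lib.Transfer.hasNormalPComplement_subgroup h _,
    fun h => hasNormalPComplement_iff_locallyPTrivial.mpr (locally S D hD h)⟩

end Cfsg.Agent.S3839
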