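import Cfsg.Statements.S3858
import Mathlib
import Cfsg.Agent.Lib.H66.UniqueMax

set_option autoImplicit false
open Cfsg

namespace Cfsg.Agent.S3858


open Subgroup Cfsg.Agent.Lib.H66


/-- Let G be a finite group with a normal non-abelian simple subgroup T whose centralizer is trivial (G almost simple with socle T), r a prime and R a Sylow r-subgroup of G meeting T nontrivially. Then R lies in exactly one maximal subgroup of G if and only if G has exactly one conjugacy class of maximal subgroups whose index is prime to r. -/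
theorem result {G : Type*} [Group G] [Finite G] (T : Subgroup G) [T.Normal] (hT : IsSimpleGroup T) (hna : ¬ IsMulCommutative T)
    (hC : Subgroup.centralizer (T : Set G) = ⊥) {r : ℕ} [Fact r.Prime] (R : Sylow r G) (hR0 : (R : Subgroup G) ⊓ T ≠ ⊥) :
    (∃! M : Subgroup G, IsCoatom M ∧ (R : Subgroup G) ≤ M) ↔
      ((∃ M : Subgroup G, IsCoatom M ∧ ¬ r ∣ M.index) ∧
        ∀ M₁ M₂ : Subgroup G, IsCoatom M₁ → ¬ r ∣ M₁.index → IsCoatom M₂ → ¬ r ∣ M₂.index → ∃ g : G, M₂ = M₁.map (MulAut.conj g).toMonoidHom) := by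
  constructor
  · rintro ⟨M, ⟨hM, hRM⟩, hu⟩
    refine ⟨⟨M, hM, not_dvd_index_of_sylow_le R hRM⟩, ?_⟩
    intro M₁ M₂ h1 h1' h2 h2'
    have key : ∀ M' : Subgroup G, IsCoatom M' → ¬ r ∣ M'.index →
        ∃ g : G, M' = M.map (MulAut.conj g).toMonoidHom := by
      intro M' hM' hd
      obtain ⟨g, hg⟩ := exists_conj_sylow_le R hd
      refine ⟨g, ?_⟩
      have h3 : M'.map (MulAut.conj g⁻¹).toMonoidHom = M := by
        refine hu _ ⟨?_, ?_⟩
        · exact ((MulAut.conj g⁻¹).mapSubgroup.isCoatom_iff M').2 hM'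
        · intro x hx
          exact ⟨g * x * g⁻¹, hg ⟨x, hx, rfl⟩, by simp [mul_assoc]⟩
      rw [← h3, Subgroup.map_map]
      ext x
      constructor
      · intro hx; exact ⟨x, hx, by simp [mul_assoc]⟩
      · rintro ⟨y, hy, rfl⟩; simpa [mul_assoc] using hy
    obtain ⟨a, rfl⟩ := key M₁ h1 h1'
    obtain ⟨b, rfl⟩ := key M₂ h2 h2'
    refine ⟨b * a⁻¹, ?_⟩
    rw [Subgroup.map_map]
    congr 1
    ext x
    simp [mul_assoc]
  · rintro ⟨⟨M₀, hM₀, hd₀⟩, hconj⟩
    obtain ⟨M, hM, hNM⟩ := exists_coatom_ge (normalizer_ne_top_of_socle T hT hna R hR0).2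
    have hRM : (R : Subgroup G) ≤ M := le_normalizer.trans hNM
    refine ⟨M, ⟨hM, hRM⟩, ?_⟩
    rintro M' ⟨hM', hRM'⟩
    obtain ⟨g, hg⟩ := hconj M M' hM (not_dvd_index_of_sylow_le R hRM) hM'
      (not_dvd_index_of_sylow_le R hRM')
    have hgR : ((g⁻¹ • R : Sylow r G) : Subgroup G) ≤ M := by
      rintro _ ⟨x, hx, rfl⟩
      have h1 : x ∈ M.map (MulAut.conj g).toMonoidHom := hg ▸ hRM' hx
      obtain ⟨y, hy, rfl⟩ := h1
      simpa [mul_assoc] using hy
    obtain ⟨m, hm⟩ := MulAction.exists_smul_eq M ((g⁻¹ • R).subtype hgR) (R.subtype hRM)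
    rw [Sylow.smul_subtype] at hm
    have h2 : ((m : G) * g⁻¹) • R = R := by rw [mul_smul]; exact Sylow.subtype_injective hm
    have h3 : (m : G) * g⁻¹ ∈ M := hNM (Sylow.smul_eq_iff_mem_normalizer.1 h2)
    have h4 : g ∈ M := by simpa using M.inv_mem ((M.mul_mem_cancel_left m.2).1 h3)
    rw [hg]
    exact Subgroup.mem_normalizer_iff_map_conj_eq.1 (le_normalizer h4)

end Cfsg.Agent.S3858
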