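import Cfsg.Statements.S3859
import Mathlib
import Cfsg.Agent.Lib.H66.UniqueMax
import Cfsg.Agent.Lib.SZ.Card

set_option autoImplicit false
open Cfsg

namespace Cfsg.Agent.S3859


open Subgroup Cfsg.Agent.Lib.H66


/-- Let G be a finite group with a normal non-abelian simple subgroup T whose centralizer is trivial (G almost simple with socle T), r a prime and R a Sylow r-subgroup of G meeting T nontrivially. If R lies in exactly one maximal subgroup of G, then G/T is an r-group. -/
theorem result {G : Type*} [Group G] [Finite G] (T : Subgroup G) [T.Normal] (hT : IsSimpleGroup T) (hna : ¬ IsMulCommutative T)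
    (hC : Subgroup.centralizer (T : Set G) = ⊥) {r : ℕ} [Fact r.Prime] (R : Sylow r G) (hR0 : (R : Subgroup G) ⊓ T ≠ ⊥)
    (huniq : ∃! M : Subgroup G, IsCoatom M ∧ (R : Subgroup G) ≤ M) : IsPGroup r (G ⧸ T) := by
  obtain ⟨M, ⟨hM, hRM⟩, hu⟩ := huniq
  have hu' : ∀ M' : Subgroup G, IsCoatom M' → (R : Subgroup G) ≤ M' → M' = M :=
    fun M' h1 h2 => hu M' ⟨h1, h2⟩
  have htop : (R : Subgroup G) ⊔ T = ⊤ := by
    by_contra hne
    obtain ⟨M₁, hM₁, hle⟩ := exists_coatom_ge hne
    have hTM : T ≤ M := hu' M₁ hM₁ (le_sup_left.trans hle) ▸ le_sup_right.trans hle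
    have hne2 := (normalizer_ne_top_of_socle T hT hna R hR0).1
    obtain ⟨M₂, hM₂, hle₂⟩ := exists_coatom_ge hne2
    have hRn : (R : Subgroup G) ≤ normalizer (((R : Subgroup G) ⊓ T : Subgroup G) : Set G) := by
      intro g hg
      rw [mem_normalizer_iff]
      intro x
      have h1 : x ∈ (R : Subgroup G) ↔ g * x * g⁻¹ ∈ (R : Subgroup G) :=
        mem_normalizer_iff.1 (le_normalizer hg) x
      have h2 : x ∈ T ↔ g * x * g⁻¹ ∈ T := by
        have : g ∈ normalizer (T : Set G) := by rw [normalizer_eq_top]; trivial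
        exact mem_normalizer_iff.1 this x
      rw [mem_inf, mem_inf, h1, h2]
    have hnM : normalizer (((R : Subgroup G) ⊓ T : Subgroup G) : Set G) ≤ M :=
      hu' M₂ hM₂ (hRn.trans hle₂) ▸ hle₂
    obtain ⟨S⟩ : Nonempty (Sylow r T) := inferInstance
    have hST : ∃ S : Sylow r T, (S : Subgroup T).map T.subtype = (R : Subgroup G) ⊓ T := by
      have hp : IsPGroup r (((R : Subgroup G) ⊓ T).subgroupOf T) :=
        (R.isPGroup'.to_le inf_le_left).comap_of_injective _ T.subtype_injective
      have hd : ¬ r ∣ (((R : Subgroup G) ⊓ T).subgroupOf T).index := by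
        intro hd
        rw [← relIndex, inf_relIndex_right] at hd
        have e : (R : Subgroup G).relIndex T = (R : Subgroup G).relIndex ((R : Subgroup G) ⊔ T) := by
          have k := Cfsg.Agent.Lib.SZ.card_sup_mul_card_inf (R : Subgroup G) T
          have a1 : Nat.card ((R : Subgroup G) ⊓ T : Subgroup G) * (R : Subgroup G).relIndex T
              = Nat.card T := by
            rw [← inf_relIndex_right]
            rw [← relIndex_bot_left, relIndex_mul_relIndex _ _ _ bot_le inf_le_right,
              relIndex_bot_left]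
          have a2 : Nat.card (R : Subgroup G) * (R : Subgroup G).relIndex ((R : Subgroup G) ⊔ T)
              = Nat.card ((R : Subgroup G) ⊔ T : Subgroup G) := by
            rw [← relIndex_bot_left, relIndex_mul_relIndex _ _ _ bot_le le_sup_left,
              relIndex_bot_left]
          apply Nat.eq_of_mul_eq_mul_left (show 0 < Nat.card (R : Subgroup G) *
            Nat.card ((R : Subgroup G) ⊓ T : Subgroup G) from Nat.mul_pos Nat.card_pos Nat.card_pos)
          calc Nat.card (R : Subgroup G) * Nat.card ((R : Subgroup G) ⊓ T : Subgroup G)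
                * (R : Subgroup G).relIndex T
              = Nat.card (R : Subgroup G) * Nat.card T := by rw [mul_assoc, a1]
            _ = Nat.card ((R : Subgroup G) ⊔ T : Subgroup G)
                * Nat.card ((R : Subgroup G) ⊓ T : Subgroup G) := k.symm
            _ = _ := by rw [← a2]; ring
        rw [e] at hd
        exact R.not_dvd_index (hd.trans ⟨_, (relIndex_mul_index le_sup_left).symm⟩)
      refine ⟨hp.toSylow hd, ?_⟩
      rw [IsPGroup.toSylow_coe, map_subgroupOf_eq_of_le inf_le_right]
    obtain ⟨S', hS'⟩ := hST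
    have hfr := Sylow.normalizer_sup_eq_top S'
    rw [hS'] at hfr
    apply hM.1
    rw [eq_top_iff, ← hfr]
    exact sup_le hnM hTM
  have hsurj : Function.Surjective ((QuotientGroup.mk' T).comp (R : Subgroup G).subtype) := by
    intro y
    obtain ⟨g, rfl⟩ := QuotientGroup.mk'_surjective T y
    obtain ⟨a, ha, t, ht, rfl⟩ := mem_sup_of_normal_right.1 (htop ▸ mem_top g)
    refine ⟨⟨a, ha⟩, ?_⟩
    simp only [MonoidHom.comp_apply, map_mul]
    rw [show QuotientGroup.mk' T t = 1 from (QuotientGroup.eq_one_iff t).2 ht, mul_one]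
    rfl
  exact R.isPGroup'.of_surjective _ hsurj

end Cfsg.Agent.S3859
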