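import Cfsg.Statements.S3861
import Mathlib
import Cfsg.Agent.Lib.Elem69.RealOdd

set_option autoImplicit false
open Cfsg

namespace Cfsg.Agent.S3861



/-- A finite group G has no non-identity element of odd order that is conjugate to its inverse if and only if the Sylow 2-subgroups of G are normal. -/
theorem result {G : Type*} [Group G] [Finite G] (P : Sylow 2 G) : (∀ x : G, x ≠ 1 → Odd (orderOf x) → ¬ IsConj x x⁻¹) ↔ (P : Subgroup G).Normal := by
  constructor
  · intro h
    refine Cfsg.Agent.Lib.Elem69.sylow_two_normal_of_no_real_odd (fun x g hx hg => ?_) P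
    by_contra hx1
    exact h x hx1 hx (isConj_iff.2 ⟨g, hg⟩)
  · intro hP x hx1 hx hconj
    obtain ⟨g, hg⟩ := isConj_iff.1 hconj
    apply hx1
    set π := QuotientGroup.mk' (P : Subgroup G)
    have hodd : Odd (P : Subgroup G).index := by
      rw [← Nat.not_even_iff_odd, even_iff_two_dvd]; exact P.not_dvd_index
    have h1 : π g * π x * (π g)⁻¹ = (π x)⁻¹ := by rw [← map_inv, ← map_inv, ← map_mul, ← map_mul, hg]
    obtain ⟨k, hk⟩ := hodd
    have hgo : (π g) ^ (2 * k + 1) = 1 := by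
      rw [← hk]; exact pow_card_eq_one'
    have key : ∀ m : ℕ, (π g) ^ (2 * m + 1) * π x * ((π g) ^ (2 * m + 1))⁻¹ = (π x)⁻¹ := by
      intro m
      induction m with
      | zero => simpa using h1
      | succ m ih =>
        rw [show 2 * (m + 1) + 1 = (2 * m + 1) + 1 + 1 by ring, pow_succ', pow_succ']
        calc π g * (π g * π g ^ (2 * m + 1)) * π x * (π g * (π g * π g ^ (2 * m + 1)))⁻¹
            = π g * (π g * (π g ^ (2 * m + 1) * π x * (π g ^ (2 * m + 1))⁻¹) * (π g)⁻¹) * (π g)⁻¹ := by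
              group
          _ = π g * (π g * π x * (π g)⁻¹)⁻¹ * (π g)⁻¹ := by rw [ih]; group
          _ = π g * π x * (π g)⁻¹ := by rw [h1, inv_inv, h1]
          _ = _ := h1
    have h2 := key k
    rw [hgo, one_mul, inv_one, mul_one] at h2
    have h3 : (π x) ^ 2 = 1 := by rw [pow_two]; exact mul_eq_one_iff_eq_inv.2 h2
    have h4 : π x = 1 := by
      have a1 : orderOf (π x) ∣ 2 := orderOf_dvd_of_pow_eq_one h3
      have a2 : orderOf (π x) ∣ 2 * k + 1 := hk ▸ orderOf_dvd_natCard _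
      exact orderOf_eq_one_iff.1 (Nat.eq_one_of_dvd_coprimes
        (Nat.coprime_two_left.2 ⟨k, rfl⟩) a1 a2)
    have hxP : x ∈ (P : Subgroup G) := (QuotientGroup.eq_one_iff x).1 h4
    obtain ⟨j, hj⟩ := IsPGroup.iff_orderOf.1 P.isPGroup' ⟨x, hxP⟩
    rw [Subgroup.orderOf_mk] at hj
    exact orderOf_eq_one_iff.1 (Nat.eq_one_of_dvd_coprimes
      ((Nat.coprime_two_left.2 hx).pow_left j) (hj ▸ dvd_rfl) dvd_rfl)

end Cfsg.Agent.S3861
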