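import Cfsg.Statements.S3862
import Mathlib
import Cfsg.Agent.Lib.Transfer.Criteria
import Cfsg.Agent.Lib.PGroupAut.MinimalAction

set_option autoImplicit false
open Cfsg

namespace Cfsg.Agent.S3862


open Subgroup
open scoped commutatorElement
open Cfsg.Agent.Lib


/-- If every 2-element of the finite group G that is conjugate to its inverse lies in the centre of G, then G has a normal 2-complement. -/
theorem result {G : Type*} [Group G] [Finite G] (h : ∀ x : G, (∃ j : ℕ, orderOf x = 2 ^ j) → IsConj x x⁻¹ → x ∈ Subgroup.center G) : Cfsg.HasNormalPComplement 2 G := by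
  rw [Transfer.hasNormalPComplement_iff_locallyPTrivial]
  intro Q hQ g hg hgo
  by_contra hgc
  set A := Subgroup.zpowers g with hA
  have hAQ : A ≤ Subgroup.normalizer (Q : Set G) := zpowers_le.2 hg
  have hQA : ⁅Q, A⁆ ≠ ⊥ := by
    intro hb
    rw [commutator_eq_bot_iff_le_centralizer, le_centralizer_iff] at hb
    exact hgc (hb (mem_zpowers g))
  obtain ⟨P, hP, hmin⟩ : ∃ P : Subgroup G, (IsPGroup 2 P ∧ A ≤ Subgroup.normalizer (P : Set G) ∧ ⁅P, A⁆ ≠ ⊥) ∧
      ∀ U : Subgroup G, U < P → A ≤ Subgroup.normalizer (U : Set G) → ⁅U, A⁆ = ⊥ := by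
    obtain ⟨P, -, hP⟩ := (Set.toFinite {P : Subgroup G | IsPGroup 2 P ∧
      A ≤ Subgroup.normalizer (P : Set G) ∧ ⁅P, A⁆ ≠ ⊥}).exists_le_minimal
      (a := Q) ⟨hQ, hAQ, hQA⟩
    refine ⟨P, hP.1, fun U hU hUn => ?_⟩
    by_contra hne
    exact hU.not_ge (hP.2 ⟨hP.1.1.to_le hU.le, hUn, hne⟩ hU.le)
  obtain ⟨hP2, hPn, hPA⟩ := hP
  have hcop : (Nat.card A).Coprime (Nat.card P) := by
    haveI : Fact (Nat.Prime 2) := ⟨Nat.prime_two⟩
    obtain ⟨k, hk⟩ := IsPGroup.iff_card.1 hP2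
    rw [hA, Nat.card_zpowers, hk]
    exact hgo.pow_right k
  haveI : Fact (Nat.Prime 2) := ⟨Nat.prime_two⟩
  have D := PGroupAut.minimalAction hP2 hPn le_rfl le_normalizer hcop hPA hmin
  set F := (frattini ↥P).map P.subtype with hF
  have hDF : ⁅P, P⁆ ≤ F := by
    rw [← P.map_subtype_commutator]
    exact Subgroup.map_mono (PFrattini.commutator_le_frattini hP2)
  have hzc : ∀ z ∈ ⁅P, P⁆, ∀ v ∈ P, v * z = z * v := fun z hz v hv =>
    mem_centralizer_iff.1 (D.frattini_le_centralizer (hDF hz)) v hv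
  have hlin : ∀ u ∈ P, ∀ v ∈ P, ∀ w ∈ P, ⁅u, v * w⁆ = ⁅u, v⁆ * ⁅u, w⁆ := by
    intro u hu v hv w hw
    rw [commutatorElement_mul_right_eq_mul_conj, mul_assoc ⁅u, v⁆, hzc _ (commutator_mem_commutator hu hw) v hv]
    group
  let M : G → Subgroup G := fun u =>
    Subgroup.closure {z | ∃ v ∈ P, z = ⁅u, v⁆}
  have hMmem : ∀ u ∈ P, ∀ z ∈ M u, ∃ v ∈ P, z = ⁅u, v⁆ := by
    intro u hu z hz
    induction hz using Subgroup.closure_induction with
    | mem z hz => exact hz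
    | one => exact ⟨1, P.one_mem, by simp⟩
    | mul a b _ _ iha ihb =>
      obtain ⟨v, hv, rfl⟩ := iha
      obtain ⟨w, hw, rfl⟩ := ihb
      exact ⟨v * w, P.mul_mem hv hw, (hlin u hu v hv w hw).symm⟩
    | inv a _ iha =>
      obtain ⟨v, hv, rfl⟩ := iha
      refine ⟨v⁻¹, P.inv_mem hv, inv_eq_of_mul_eq_one_right ?_⟩
      rw [← hlin u hu v hv _ (P.inv_mem hv), mul_inv_cancel, commutatorElement_one_right]
  have hD : ⁅P, P⁆ ≤ P := commutator_le_self P
  have key : ∀ u ∈ P, u ∉ ⁅P, P⁆ → ∀ z ∈ ⁅P, P⁆, ∃ v ∈ P, z = ⁅u, v⁆ := by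
    intro u hu huD z hz
    refine hMmem u hu z ?_
    have hMD : M u ≤ ⁅P, P⁆ := (closure_le _).2 (by
      rintro _ ⟨v, hv, rfl⟩; exact commutator_mem_commutator hu hv)
    by_contra hzM
    have hlin' : ∀ a ∈ P, ∀ b ∈ P, ∀ v ∈ P, ⁅a * b, v⁆ = ⁅a, v⁆ * ⁅b, v⁆ := by
      intro a ha b hb v hv
      rw [commutatorElement_mul_left_eq_conj_mul, hzc _ (commutator_mem_commutator hb hv) a ha,
        mul_inv_cancel_right]
      exact hzc _ (commutator_mem_commutator ha hv) _ (hD (commutator_mem_commutator hb hv))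
    let Z : Subgroup G :=
      { carrier := {a | a ∈ P ∧ ∀ v ∈ P, ⁅a, v⁆ ∈ M u}
        one_mem' := ⟨P.one_mem, fun v _ => by rw [commutatorElement_one_left]; exact one_mem _⟩
        mul_mem' := fun {a b} ha hb => ⟨P.mul_mem ha.1 hb.1, fun v hv => by
          rw [hlin' a ha.1 b hb.1 v hv]; exact mul_mem (ha.2 v hv) (hb.2 v hv)⟩
        inv_mem' := fun {a} ha => ⟨P.inv_mem ha.1, fun v hv => by
          have h1 := hlin' _ (P.inv_mem ha.1) a ha.1 v hv
          rw [inv_mul_cancel, commutatorElement_one_left] at h1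
          rw [eq_inv_of_mul_eq_one_left h1.symm]
          exact inv_mem (ha.2 v hv)⟩ }
    have hfix : ∀ a ∈ A, ∀ d ∈ ⁅P, P⁆, a * d * a⁻¹ = d := fun a ha d hd => by
      rw [mem_centralizer_iff.1 (D.frattini_fixed (hDF hd)) a ha, mul_inv_cancel_right]
    have hZn : A ≤ Subgroup.normalizer (Z : Set G) := by
      intro a ha
      rw [mem_normalizer_iff_map_conj_eq]
      refine eq_of_le_of_card_ge ?_ (card_map_of_injective (MulEquiv.injective _)).ge
      rintro _ ⟨b, hb, rfl⟩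
      refine ⟨(mem_normalizer_iff.1 (hPn ha) b).1 hb.1, fun v hv => ?_⟩
      have hv' : a⁻¹ * v * a ∈ P := (mem_normalizer_iff''.1 (hPn ha) v).1 hv
      have e : ⁅a * b * a⁻¹, v⁆ = a * ⁅b, a⁻¹ * v * a⁆ * a⁻¹ := by
        simp only [commutatorElement_def]; group
      show ⁅a * b * a⁻¹, v⁆ ∈ M u
      rw [e, hfix a ha _ (commutator_mem_commutator hb.1 hv')]
      exact hb.2 _ hv'
    have hZP : Z < P := by
      refine lt_of_le_of_ne (fun b hb => hb.1) fun he => hzM ?_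
      exact commutator_le.2 (fun a ha b hb => ((he.symm ▸ ha : a ∈ Z)).2 b hb) hz
    have hZc := commutator_eq_bot_iff_le_centralizer.1 (hmin Z hZP hZn)
    exact huD (D.fixed_le_commutator ⟨hu, hZc ⟨hu, fun v hv => subset_closure ⟨v, hv, rfl⟩⟩⟩)
  obtain ⟨u, hu, huD⟩ : ∃ u ∈ P, u ∉ ⁅P, P⁆ := by
    by_contra hh
    push Not at hh
    apply hPA
    rw [commutator_eq_bot_iff_le_centralizer]
    exact le_trans (le_trans hh hDF) D.frattini_fixed
  have hu2 : u ^ 2 ∈ ⁅P, P⁆ := by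
    have h2 : u ^ 2 ∈ F := ⟨(⟨u, hu⟩ : P) ^ 2, PFrattini.pow_mem_frattini hP2 _, rfl⟩
    exact D.fixed_le_commutator ⟨P.pow_mem hu 2, D.frattini_fixed h2⟩
  have hreal : IsConj u u⁻¹ := by
    obtain ⟨v, hv, he⟩ := key u hu huD (u ^ 2) hu2
    refine isConj_iff.2 ⟨v, ?_⟩
    have hvu : v * u * v⁻¹ = ⁅u, v⁆⁻¹ * u := by rw [commutatorElement_inv, commutatorElement_def]; group
    rw [hvu, ← he]; group
  have huc := h u (IsPGroup.iff_orderOf.1 hP2 ⟨u, hu⟩ |>.imp fun j hj => by rwa [Subgroup.orderOf_mk] at hj) hreal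
  have hD1 : ⁅P, P⁆ = ⊥ := by
    rw [eq_bot_iff]
    intro z hz
    obtain ⟨v, -, rfl⟩ := key u hu huD z hz
    rw [Subgroup.mem_bot, commutatorElement_eq_one_iff_mul_comm]
    exact ((mem_center_iff.1 huc) v).symm
  apply huD
  refine D.fixed_le_commutator ⟨hu, ?_⟩
  show u ∈ Subgroup.centralizer (A : Set G)
  rw [mem_centralizer_iff]
  exact fun a _ => (mem_center_iff.1 huc) a

end Cfsg.Agent.S3862
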