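import Cfsg.Statements.S3865
import Cfsg.Agent.Lib.H66.MaxClass.Fusion
import Cfsg.Agent.Lib.H66.MaxClass.Uniform
import Cfsg.Agent.Lib.PGroup.SylowNormal
import Cfsg.Agent.Lib.PSolvable.Core

set_option autoImplicit false
open Cfsg

namespace Cfsg.Agent.S3865


set_option linter.style.haveILetI false

open Subgroup
open scoped commutatorElement
open Cfsg.Agent.Lib.H66 Cfsg.Agent.Lib

universe u

/-- If `Z = P ⊓ M` is central in `P` and inside `P'`, then `N_M(Z)` centralises `Z`. -/
theorem normalizer_le_centralizer_aux {G : Type u} [Group G] [Finite G] {p : ℕ} [Fact p.Prime]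
    (P : Sylow p G) (M : Subgroup G) [hMn : M.Normal] {Z : Subgroup G}
    (hPM : (P : Subgroup G) ⊓ M = Z) (hZc : (P : Subgroup G) ≤ centralizer (Z : Set G))
    (hZd : Z ≤ (_root_.commutator ↥(P : Subgroup G)).map (P : Subgroup G).subtype)
    {a : G} (haM : a ∈ M) (haN : a ∈ Subgroup.normalizer (Z : Set G)) :
    a ∈ centralizer (Z : Set G) := by
  set C := centralizer (Z : Set G) with hC
  set T := C ⊓ ((P : Subgroup G) ⊔ M) with hT
  have hPT : (P : Subgroup G) ≤ T := le_inf hZc le_sup_left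
  have hCn := MaxClass.mem_normalizer_centralizer haN
  have hle : ((a • P : Sylow p G) : Subgroup G) ≤ T := by
    rw [Transfer.sylow_smul_coe]
    rintro _ ⟨u, hu, rfl⟩
    exact Subgroup.mem_inf.mpr ⟨(mem_normalizer_iff.mp hCn u).mp (hZc hu),
      mul_mem (mul_mem (mem_sup_right haM) (mem_sup_left hu)) (inv_mem (mem_sup_right haM))⟩
  obtain ⟨t, ht⟩ := Transfer.exists_sylow_map_conj_eq (P.subtype hPT) ((a • P).subtype hle)
  obtain ⟨htC, htS⟩ : (t : G) ∈ C ∧ (t : G) ∈ (P : Subgroup G) ⊔ M := t.2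
  obtain ⟨u, hu, m, hm, hum⟩ := mem_sup_of_normal_right.mp htS
  have hmC : m ∈ C := by
    have := mul_mem (inv_mem (hZc hu)) htC
    rwa [← hum, inv_mul_cancel_left] at this
  -- `m * a` lies in `M` and normalises `P`
  have hbP : ∀ g ∈ (P : Subgroup G), m * a * g * (m * a)⁻¹ ∈ (P : Subgroup G) := by
    intro g hg
    have hg' : a * g * a⁻¹ ∈ ((a • P : Sylow p G) : Subgroup G) := by
      rw [Transfer.sylow_smul_coe]; exact ⟨g, hg, rfl⟩
    have h1 : (MulAut.conj t).toMonoidHom ⟨a * g * a⁻¹, hle hg'⟩ ∈ (P.subtype hPT : Subgroup T) := by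
      rw [← ht]; exact mem_map_of_mem _ (by rw [Sylow.coe_subtype, mem_subgroupOf]; exact hg')
    rw [Sylow.coe_subtype, mem_subgroupOf] at h1
    have h2 : (t : G) * (a * g * a⁻¹) * (t : G)⁻¹ ∈ (P : Subgroup G) := h1
    have := mul_mem (mul_mem (inv_mem hu) h2) hu
    rwa [show u⁻¹ * ((t : G) * (a * g * a⁻¹) * (t : G)⁻¹) * u = m * a * g * (m * a)⁻¹ by
      rw [← hum]; group] at this
  have hbZ : ∀ g ∈ (P : Subgroup G), m * a * g * (m * a)⁻¹ * g⁻¹ ∈ Z := by
    intro g hg
    rw [← hPM]
    refine Subgroup.mem_inf.mpr ⟨mul_mem (hbP g hg) (inv_mem hg), ?_⟩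
    have := mul_mem (mul_mem hm haM) (hMn.conj_mem _ (inv_mem (mul_mem hm haM)) g)
    rwa [show m * a * (g * (m * a)⁻¹ * g⁻¹) = m * a * g * (m * a)⁻¹ * g⁻¹ by group] at this
  have key : ∀ {z u w : G}, z ∈ Z → u ∈ (P : Subgroup G) → w ∈ (P : Subgroup G) →
      ⁅z * u, w⁆ = ⁅u, w⁆ ∧ ⁅u, z * w⁆ = ⁅u, w⁆ := by
    intro z u w hz hu hw
    have hc : ∀ g ∈ (P : Subgroup G), Commute z g := fun g hg => mem_centralizer_iff.mp (hZc hg) z hz
    constructor
    · rw [show ⁅z * u, w⁆ = z * ⁅u, w⁆ * z⁻¹ * ⁅z, w⁆ by simp only [commutatorElement_def]; group,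
        commutatorElement_eq_one_iff_commute.mpr (hc w hw), mul_one,
        (hc ⁅u, w⁆ (mul_mem (mul_mem (mul_mem hu hw) (inv_mem hu)) (inv_mem hw))).eq, mul_inv_cancel_right]
    · rw [show ⁅u, z * w⁆ = ⁅u, z⁆ * (z * ⁅u, w⁆ * z⁻¹) by simp only [commutatorElement_def]; group,
        commutatorElement_eq_one_iff_commute.mpr (hc u hu).symm, one_mul,
        (hc ⁅u, w⁆ (mul_mem (mul_mem (mul_mem hu hw) (inv_mem hu)) (inv_mem hw))).eq, mul_inv_cancel_right]
  have hfix : _root_.commutator ↥(P : Subgroup G) ≤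
      (centralizer ({m * a} : Set G)).comap (P : Subgroup G).subtype := by
    rw [_root_.commutator_def, Subgroup.commutator_le]
    intro g _ k _
    rw [mem_comap, mem_centralizer_singleton_iff, map_commutatorElement, coe_subtype]
    have e : m * a * ⁅(g : G), (k : G)⁆ * (m * a)⁻¹ =
        ⁅(m * a * g * (m * a)⁻¹ * (g : G)⁻¹) * g, (m * a * k * (m * a)⁻¹ * (k : G)⁻¹) * k⁆ := by
      simp only [commutatorElement_def]; group
    rw [(key (hbZ g g.2) g.2 (mul_mem (hPM.ge (hbZ k k.2)).1 k.2)).1, (key (hbZ k k.2) g.2 k.2).2,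
      mul_inv_eq_iff_eq_mul] at e
    exact e.symm
  rw [hC, mem_centralizer_iff]
  intro z hz
  obtain ⟨d, hd, rfl⟩ := hZd hz
  have h1 : d.1 * (m * a) = m * a * d.1 := mem_centralizer_singleton_iff.mp (hfix hd)
  have h2 : d.1 * m = m * d.1 := mem_centralizer_iff.mp hmC _ hz
  show d.1 * a = a * d.1
  calc d.1 * a = m⁻¹ * (m * d.1) * a := by group
    _ = m⁻¹ * (d.1 * (m * a)) := by rw [← h2]; group
    _ = a * d.1 := by rw [h1]; group

theorem main {G : Type u} [Group G] [Finite G] (p : ℕ) [hp : Fact p.Prime] (P : Sylow p G) (n : ℕ)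
    (hP : Nat.card P = p ^ n) (hn : 2 ≤ n)
    (hmax : Group.nilpotencyClass ↥(P : Subgroup G) = n - 1) (hcore : Cfsg.pPrimeCore p G = ⊥)
    (hres : ∀ N : Subgroup G, N.Normal → (N.index).Coprime p → N = ⊤) :
    (∃ x ∈ (P : Subgroup G),
        (Nat.card (Subgroup.centralizer ({x} : Set G))).factorization p = 2) ∨
      (Cfsg.IsQuasisimple G ∧ Nat.card (Subgroup.center G) ≤ p) := by
  classical
  have h : MaxClass.IsMax p ↥(P : Subgroup G) n := ⟨hP, hn, hmax⟩
  rcases eq_or_lt_of_le hn with hn2 | hn3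
  · refine Or.inl ⟨1, one_mem _, ?_⟩
    rw [show centralizer ({1} : Set G) = ⊤ from eq_top_iff.2 fun g _ =>
      mem_centralizer_singleton_iff.2 (by simp), Subgroup.card_top]
    have := P.card_eq_multiplicity
    rw [hP] at this
    rw [hn2]; exact (Nat.pow_right_injective hp.out.two_le this).symm
  have hn3' : 3 ≤ n := hn3
  haveI := h.isNilpotent
  have hPle : ∀ N : Subgroup G, N.Normal → (P : Subgroup G) ≤ N → N = ⊤ := fun N hN hle =>
    hres N hN ((hp.out.coprime_iff_not_dvd.mpr fun hd =>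
      P.not_dvd_index (hd.trans (index_dvd_of_le hle))).symm)
  by_cases hA : ∃ M : Subgroup G, M.Normal ∧ M ≠ ⊤ ∧ p ^ 2 ≤ Nat.card (M.subgroupOf (P : Subgroup G))
  · obtain ⟨M, hMn, hMt, hMc⟩ := hA
    have hne : M.subgroupOf (P : Subgroup G) ≠ ⊤ := fun e =>
      hMt (hPle M hMn (subgroupOf_eq_top.mp e))
    obtain ⟨x, hxM, hx⟩ := h.exists_small_centralizer n _ hne
    refine Or.inl ⟨x, x.2, MaxClass.factorization_centralizer h hn3' hx (M := M) ?_
      (fun hm => hxM (mem_subgroupOf.mpr hm))⟩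
    refine (map_mono (?_ : MaxClass.L ↥(P : Subgroup G) (max (n - 3) 1) ≤ M.subgroupOf _)).trans
      (by rw [subgroupOf_map_subtype]; exact inf_le_left)
    rcases eq_or_lt_of_le hn3' with hn4 | hn4
    · rw [show max (n - 3) 1 = n - 2 by omega]
      refine h.le_of_normal_ne_bot hn3' _ fun hb => ?_
      rw [hb, card_bot] at hMc
      exact absurd hMc (not_le.mpr (Nat.one_lt_pow two_ne_zero hp.out.one_lt))
    · rw [show max (n - 3) 1 = n - 3 by omega]
      exact h.le_of_normal_of_lt_card hn4 _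
        (lt_of_lt_of_le (lt_self_pow₀ hp.out.one_lt one_lt_two) hMc)
  right
  push Not at hA
  set Z := (MaxClass.L ↥(P : Subgroup G) (n - 2)).map (P : Subgroup G).subtype with hZdef
  have hZcard : Nat.card Z = p := by
    rw [hZdef, card_map_of_injective (subtype_injective _), h.card_L (by omega) (by omega),
      show n - 1 - (n - 2) = 1 by omega, pow_one]
  have hZc : (P : Subgroup G) ≤ centralizer (Z : Set G) := by
    intro g hg
    refine mem_centralizer_iff.mpr ?_
    rintro _ ⟨z, hz, rfl⟩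
    have hzc : z ∈ center ↥(P : Subgroup G) := by rw [h.center_eq hn3']; exact hz
    exact congrArg Subtype.val (mem_center_iff.mp hzc ⟨g, hg⟩).symm
  -- a proper normal subgroup is central of order at most `p`
  have hsmall : ∀ M : Subgroup G, M.Normal → M ≠ ⊤ → M ≤ center G ∧ Nat.card M ≤ p := by
    intro M hMn hMt
    rcases eq_or_ne M ⊥ with rfl | hMb
    · exact ⟨bot_le, by rw [card_bot]; exact hp.out.one_lt.le⟩
    obtain ⟨S, hS⟩ := SylowNormal.exists_sylow_map_eq_inf P M
    have hcore' : ∀ O : Subgroup M, O.Normal → (Nat.card O).Coprime p → O = ⊥ := by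
      intro O hO hOc
      have h1 := PSolvable.le_pPrimeCore (p := p) hOc
      have := PSolvable.map_subtype_pPrimeCore_normal (p := p) M
      have h2 : (Cfsg.pPrimeCore p M).map M.subtype ≤ Cfsg.pPrimeCore p G :=
        PSolvable.le_pPrimeCore (by
          rw [card_map_of_injective (subtype_injective _)]; exact PSolvable.pPrimeCore_coprime)
      rw [hcore, le_bot_iff, Subgroup.map_eq_bot_iff, ker_subtype, le_bot_iff] at h2
      exact le_bot_iff.mp (h2 ▸ h1)
    have hPM : (P : Subgroup G) ⊓ M = Z := by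
      have hc := hA M hMn hMt
      obtain ⟨e, he⟩ := h.exists_card_eq (M.subgroupOf (P : Subgroup G))
      rw [he, Nat.pow_lt_pow_iff_right hp.out.one_lt] at hc
      have hne : M.subgroupOf (P : Subgroup G) ≠ ⊥ := by
        intro hb
        rw [subgroupOf_eq_bot, disjoint_iff, inf_comm] at hb
        rw [hb, Subgroup.map_eq_bot_iff, ker_subtype, le_bot_iff] at hS
        have hnd := S.not_dvd_index
        rw [hS, index_bot] at hnd
        refine hMb ?_
        have := hcore' ⊤ inferInstance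
          (by rw [Subgroup.card_top]; exact (hp.out.coprime_iff_not_dvd.mpr hnd).symm)
        rw [← M.range_subtype, MonoidHom.range_eq_map, this, Subgroup.map_bot]
      have hle := h.le_of_normal_ne_bot hn3' _ hne
      have heq : MaxClass.L ↥(P : Subgroup G) (n - 2) = M.subgroupOf (P : Subgroup G) :=
        eq_of_le_of_card_ge hle (by
          rw [he, h.card_L (by omega) (by omega)]
          exact Nat.pow_le_pow_right hp.out.pos (by omega))
      rw [hZdef, heq, subgroupOf_map_subtype, inf_comm]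
    have hZd : Z ≤ (_root_.commutator ↥(P : Subgroup G)).map (P : Subgroup G).subtype :=
      map_mono (MaxClass.L_anti (show 1 ≤ n - 2 by omega))
    have hSN : Subgroup.normalizer ((S : Subgroup M) : Set M) ≤ centralizer ((S : Subgroup M) : Set M) := by
      intro g hg
      have hgN : (g : G) ∈ Subgroup.normalizer (Z : Set G) := by
        rw [← hPM, ← hS]
        exact le_normalizer_map _ ⟨g, hg, rfl⟩
      have := normalizer_le_centralizer_aux P M hPM hZc hZd g.2 hgN
      refine mem_centralizer_iff.mpr fun s hs => Subtype.ext ?_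
      exact mem_centralizer_iff.mp this (s : G) (by rw [← hPM, ← hS]; exact ⟨s, hs, rfl⟩)
    obtain ⟨S', O, hO, hOS⟩ := Transfer.hasNormalPComplement_of_normalizer_le_centralizer S hSN
    have hOb : O = ⊥ := by
      refine hcore' O hO ?_
      rw [← hOS.index_eq_card]
      exact (hp.out.coprime_iff_not_dvd.mpr S'.not_dvd_index).symm
    have hMZ : M = Z := by
      refine (eq_of_le_of_card_ge (hPM ▸ inf_le_right) ?_).symm
      have h1 := hOS.card_mul_card
      rw [hOb, card_bot, one_mul] at h1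
      rw [← hPM, ← hS, card_map_of_injective (subtype_injective _), ← h1,
        S'.card_eq_multiplicity, S.card_eq_multiplicity]
    subst hMZ
    refine ⟨?_, hZcard.le⟩
    have := hPle (centralizer (Z : Set G)) inferInstance hZc
    rwa [centralizer_eq_top_iff_subset] at this
  have hZne : center G ≠ ⊤ := by
    intro ht
    have hcom : IsMulCommutative ↥(P : Subgroup G) := ⟨⟨fun a b => Subtype.ext
      ((mem_center_iff.mp (ht ▸ mem_top (b : G) : (b : G) ∈ center G) a))⟩⟩
    have := Group.IsNilpotent.nilpotencyClass_le_one_iff.2 hcom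
    omega
  have hperf : _root_.commutator G = ⊤ := by
    by_contra hne
    have hc := (hsmall _ inferInstance hne).1
    haveI : Group.IsNilpotent G :=
      Subgroup.isNilpotent_of_ker_le_center (Abelianization.of (G := G))
        (by rw [Abelianization.ker_of]; exact hc)
    haveI : (P : Subgroup G).Normal := Sylow.normal_of_normalizerCondition Group.normalizerCondition_of_isNilpotent P
    have hPtop := hPle P inferInstance le_rfl
    obtain ⟨x, -, hx⟩ := SetLike.exists_of_lt (lt_top_iff_ne_top.2 hZne)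
    let x' : ↥(P : Subgroup G) := ⟨x, hPtop ▸ mem_top x⟩
    set R := zpowers x' ⊔ MaxClass.L ↥(P : Subgroup G) 1
    haveI hRn : R.Normal := ⟨fun b hb g => by
      have := mul_mem (mem_sup_right (MaxClass.comm_top_mem (a := 0) (mem_top g) b) :
        ⁅g, b⁆ ∈ zpowers x' ⊔ MaxClass.L ↥(P : Subgroup G) 1) hb
      rwa [show ⁅g, b⁆ * b = g * b * g⁻¹ by simp only [commutatorElement_def]; group] at this⟩
    have hRG : (R.map (P : Subgroup G).subtype).Normal := by
      refine ⟨fun a ha g => ?_⟩
      obtain ⟨b, hb, rfl⟩ := ha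
      exact ⟨_, hRn.conj_mem b hb ⟨g, hPtop ▸ mem_top g⟩, rfl⟩
    refine hx ((hsmall _ hRG fun e => h.pow_mem_L_one_aux x' hn3' ?_).1 ⟨x', mem_sup_left (mem_zpowers x'), rfl⟩)
    refine eq_top_iff.2 fun g _ => ?_
    obtain ⟨b, hb, he⟩ : (g : G) ∈ R.map (P : Subgroup G).subtype := e ▸ mem_top _
    exact (Subtype.ext he : b = g) ▸ hb
  refine ⟨⟨⟨hperf⟩, ?_⟩, (hsmall _ inferInstance hZne).2⟩
  haveI : Nontrivial (G ⧸ center G) := by
    rw [← Finite.one_lt_card_iff_nontrivial, ← index_eq_card]
    exact Nat.one_lt_iff_ne_zero_and_ne_one.mpr ⟨index_ne_zero_of_finite, fun e => hZne (index_eq_one.mp e)⟩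
  refine ⟨fun N hN => ?_⟩
  rcases eq_or_ne (N.comap (QuotientGroup.mk' (center G))) ⊤ with ht | ht
  · right
    rw [← map_comap_eq_self_of_surjective (QuotientGroup.mk'_surjective (center G)) N, ht,
      map_top_of_surjective _ (QuotientGroup.mk'_surjective _)]
  · left
    rw [← map_comap_eq_self_of_surjective (QuotientGroup.mk'_surjective (center G)) N,
      Subgroup.map_eq_bot_iff, QuotientGroup.ker_mk']
    exact (hsmall _ (hN.comap _) ht).1


/-- Let G be a finite group whose Sylow p-subgroup P has order p ^ n with n ≥ 2 and nilpotency class n - 1 (maximal class), whose largest normal subgroup of order prime to p is trivial, and which has no proper normal subgroup of index prime to p. Then either some x ∈ P has a centralizer in G whose order has p-part p ^ 2, or G is quasisimple with centre of order at most p. -/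
theorem result {G : Type*} [Group G] [Finite G] (p : ℕ) [Fact p.Prime] (P : Sylow p G) (n : ℕ) (hP : Nat.card P = p ^ n) (hn : 2 ≤ n) (hmax : Group.nilpotencyClass ↥(P : Subgroup G) = n - 1) (hcore : Cfsg.pPrimeCore p G = ⊥) (hres : ∀ N : Subgroup G, N.Normal → (N.index).Coprime p → N = ⊤) : (∃ x ∈ (P : Subgroup G), (Nat.card (Subgroup.centralizer ({x} : Set G))).factorization p = 2) ∨ (Cfsg.IsQuasisimple G ∧ Nat.card (Subgroup.center G) ≤ p) := by
  exact main p P n hP hn hmax hcore hres

end Cfsg.Agent.S3865
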