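import Cfsg.Statements.S3866
import Mathlib

set_option autoImplicit false
open Cfsg

namespace Cfsg.Agent.S3866


open Subgroup

theorem commutator_le_self {G : Type*} [Group G] (A : Subgroup G) [A.Normal] (x : G) {a : G}
    (ha : a ∈ A) : x * a * x⁻¹ * a⁻¹ ∈ A :=
  A.mul_mem (‹A.Normal›.conj_mem a ha x) (A.inv_mem ha)

/-- `a ↦ [x, a]` on a commutative normal subgroup. -/
noncomputable def commHom {G : Type*} [Group G] (A : Subgroup G) [A.Normal]
    (hA : IsMulCommutative A) (x : G) : A →* G :=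
  MonoidHom.mk' (fun a => x * (a : G) * x⁻¹ * (a : G)⁻¹) (fun a b => by
    have hc : (a : G)⁻¹ * (x * b * x⁻¹ * (b : G)⁻¹) = (x * b * x⁻¹ * (b : G)⁻¹) * (a : G)⁻¹ :=
      congrArg Subtype.val (hA.1.1 ⟨_, A.inv_mem a.2⟩ ⟨_, commutator_le_self A x b.2⟩)
    have hc' : (a : G) * b = b * a := congrArg Subtype.val (hA.1.1 a b)
    calc x * ((a * b : A) : G) * x⁻¹ * ((a * b : A) : G)⁻¹
        = x * (a : G) * x⁻¹ * ((x * b * x⁻¹ * (b : G)⁻¹) * (a : G)⁻¹) := by
          simp only [Subgroup.coe_mul]; group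
      _ = x * (a : G) * x⁻¹ * ((a : G)⁻¹ * (x * b * x⁻¹ * (b : G)⁻¹)) := by rw [hc]
      _ = _ := by group)

theorem range_eq {G : Type*} [Group G] (A : Subgroup G) [A.Normal] (hA : IsMulCommutative A)
    (x : G) (hgen : A ⊔ Subgroup.zpowers x = ⊤) : (commHom A hA x).range = commutator G := by
  set R := (commHom A hA x).range with hR
  have hle : R ≤ commutator G := by
    rintro _ ⟨a, rfl⟩
    rw [commutator_def]
    exact commutator_mem_commutator (mem_top x) (mem_top (a : G))
  have hRA : R ≤ A := by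
    rintro _ ⟨a, rfl⟩
    exact commutator_le_self A x a.2
  have hAn : A ≤ normalizer (R : Set G) := by
    intro a ha
    rw [mem_normalizer_iff]
    intro r
    constructor
    · intro hr
      have e : (a : G) * r = r * a := congrArg Subtype.val (hA.1.1 ⟨a, ha⟩ ⟨r, hRA hr⟩)
      rw [e, mul_inv_cancel_right]; exact hr
    · intro hr
      have hr' : r ∈ A := by
        have := A.mul_mem (A.mul_mem (A.inv_mem ha) (hRA hr)) ha
        simpa [mul_assoc] using this
      have e : (a : G) * r = r * a := congrArg Subtype.val (hA.1.1 ⟨a, ha⟩ ⟨r, hr'⟩)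
      rwa [e, mul_inv_cancel_right] at hr
  have hxn : x ∈ normalizer (R : Set G) := by
    rw [mem_normalizer_iff]
    intro r
    constructor
    · rintro ⟨a, rfl⟩
      refine ⟨⟨x * a * x⁻¹, ‹A.Normal›.conj_mem _ a.2 x⟩, ?_⟩
      show x * (x * (a : G) * x⁻¹) * x⁻¹ * (x * (a : G) * x⁻¹)⁻¹
        = x * (x * (a : G) * x⁻¹ * (a : G)⁻¹) * x⁻¹
      group
    · rintro ⟨b, hb⟩
      refine ⟨⟨x⁻¹ * b * x, by simpa using ‹A.Normal›.conj_mem _ b.2 x⁻¹⟩, ?_⟩
      change x * (b : G) * x⁻¹ * (b : G)⁻¹ = x * r * x⁻¹ at hb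
      show x * (x⁻¹ * (b : G) * x) * x⁻¹ * (x⁻¹ * (b : G) * x)⁻¹ = r
      have : r = x⁻¹ * (x * r * x⁻¹) * x := by group
      rw [this, ← hb]; group
  have hn : R.Normal := by
    rw [← normalizer_eq_top_iff, eq_top_iff, ← hgen]
    exact sup_le hAn (zpowers_le.2 hxn)
  refine le_antisymm hle ?_
  have hq : ∀ a ∈ A, Commute (QuotientGroup.mk' R x) (QuotientGroup.mk' R a) := fun a ha => by
    rw [← commutatorElement_eq_one_iff_commute, ← map_commutatorElement,
      QuotientGroup.mk'_apply, QuotientGroup.eq_one_iff]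
    exact ⟨⟨a, ha⟩, rfl⟩
  have hcl : ∀ g : G, ∀ h : G, Commute (QuotientGroup.mk' R g) (QuotientGroup.mk' R h) := by
    have hA' : ∀ a ∈ A, ∀ b ∈ A, Commute (QuotientGroup.mk' R a) (QuotientGroup.mk' R b) :=
      fun a ha b hb => by
        have e : (a : G) * b = b * a := congrArg Subtype.val (hA.1.1 ⟨a, ha⟩ ⟨b, hb⟩)
        exact (show Commute a b from e).map _
    have hxc : ∀ g : G, g ∈ A ⊔ zpowers x → g ∈ (centralizer
        ({QuotientGroup.mk' R x} : Set (G ⧸ R))).comap (QuotientGroup.mk' R) := by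
      intro g hg
      refine (sup_le ?_ ?_ : A ⊔ zpowers x ≤ _) hg
      · intro a ha
        rw [mem_comap, mem_centralizer_singleton_iff]; exact ((hq a ha).eq).symm
      · rw [zpowers_le, mem_comap, mem_centralizer_singleton_iff]
    have hac : ∀ a ∈ A, ∀ g : G, Commute (QuotientGroup.mk' R a) (QuotientGroup.mk' R g) := by
      intro a ha g
      have hg : g ∈ A ⊔ zpowers x := hgen ▸ mem_top g
      have hg' : g ∈ (centralizer ({QuotientGroup.mk' R a} : Set (G ⧸ R))).comap
          (QuotientGroup.mk' R) := by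
        refine (sup_le ?_ ?_ : A ⊔ zpowers x ≤ _) hg
        · intro b hb
          rw [mem_comap, mem_centralizer_singleton_iff]; exact (hA' b hb a ha).eq
        · rw [zpowers_le, mem_comap, mem_centralizer_singleton_iff]; exact (hq a ha).eq
      rw [mem_comap, mem_centralizer_singleton_iff] at hg'
      exact hg'.symm
    intro g h
    have hg : g ∈ (centralizer ({QuotientGroup.mk' R h} : Set (G ⧸ R))).comap
        (QuotientGroup.mk' R) := by
      refine (sup_le ?_ ?_ : A ⊔ zpowers x ≤ _) (hgen ▸ mem_top g)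
      · intro a ha
        rw [mem_comap, mem_centralizer_singleton_iff]; exact (hac a ha h).eq
      · rw [zpowers_le, mem_comap, mem_centralizer_singleton_iff]
        have := hxc h (hgen ▸ mem_top h)
        rw [mem_comap, mem_centralizer_singleton_iff] at this
        exact this.symm
    rw [mem_comap, mem_centralizer_singleton_iff] at hg
    exact hg
  rw [commutator_def, commutator_le]
  intro g _ h _
  rw [← QuotientGroup.eq_one_iff, ← QuotientGroup.mk'_apply, map_commutatorElement,
    commutatorElement_eq_one_iff_commute]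
  exact hcl g h


/-- Let A be a commutative normal subgroup of the finite group G with G generated by A and an element x. Then a ↦ x a x⁻¹ a⁻¹ is a surjective homomorphism from A onto the commutator subgroup of G whose kernel is the centralizer of x in A; in particular the commutator subgroup has order equal to the index in A of that centralizer. -/
theorem result {G : Type*} [Group G] [Finite G] (A : Subgroup G) [A.Normal] (hA : IsMulCommutative A) (x : G) (hgen : A ⊔ Subgroup.zpowers x = ⊤) : (∀ a ∈ A, x * a * x⁻¹ * a⁻¹ ∈ commutator G) ∧ (∀ c ∈ commutator G, ∃ a ∈ A, x * a * x⁻¹ * a⁻¹ = c) ∧ (∀ a ∈ A, ∀ b ∈ A, x * (a * b) * x⁻¹ * (a * b)⁻¹ = (x * a * x⁻¹ * a⁻¹) * (x * b * x⁻¹ * b⁻¹)) ∧ Nat.card (commutator G) * Nat.card ↥(A ⊓ Subgroup.centralizer ({x} : Set G)) = Nat.card A := by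
  have hr := range_eq A hA x hgen
  refine ⟨fun a ha => hr ▸ ⟨⟨a, ha⟩, rfl⟩, ?_, ?_, ?_⟩
  · intro c hc
    rw [← hr] at hc
    obtain ⟨a, rfl⟩ := hc
    exact ⟨a, a.2, rfl⟩
  · intro a ha b hb
    exact map_mul (commHom A hA x) ⟨a, ha⟩ ⟨b, hb⟩
  · have hk : (commHom A hA x).ker = (A ⊓ Subgroup.centralizer ({x} : Set G)).subgroupOf A := by
      ext a
      rw [MonoidHom.mem_ker, Subgroup.mem_subgroupOf, Subgroup.mem_inf,
        Subgroup.mem_centralizer_singleton_iff]
      show x * (a : G) * x⁻¹ * (a : G)⁻¹ = 1 ↔ _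
      rw [mul_inv_eq_one, mul_inv_eq_iff_eq_mul]
      exact ⟨fun h => ⟨a.2, h.symm⟩, fun h => h.2.symm⟩
    have h1 := (commHom A hA x).ker.card_mul_index
    rw [Subgroup.index_ker, hr, hk, Nat.card_congr (Subgroup.subgroupOfEquivOfLe inf_le_left).toEquiv,
      mul_comm] at h1
    exact h1

end Cfsg.Agent.S3866
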