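import Cfsg.Statements.S3867
import Mathlib
import Cfsg.Agent.Lib.SZ.Card

set_option autoImplicit false
open Cfsg

namespace Cfsg.Agent.S3867


open Subgroup

theorem map_conj_normal {G : Type*} [Group G] (M : Subgroup G) [M.Normal] (g : G) :
    M.map (MulAut.conj g : G →* G) = M := by
  have h : g ∈ normalizer (M : Set G) := by rw [normalizer_eq_top]; trivial
  exact mem_normalizer_iff_map_conj_eq.1 h

theorem le_normalizer_sup_normal {G : Type*} [Group G] (H M : Subgroup G) [M.Normal] :
    normalizer (H : Set G) ≤ normalizer ((H ⊔ M : Subgroup G) : Set G) := by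
  intro g hg
  rw [mem_normalizer_iff_map_conj_eq] at hg ⊢
  rw [Subgroup.map_sup, hg, map_conj_normal M g]

theorem sup_inf_sup_eq {G : Type*} [Group G] [Finite G] {p : ℕ} [Fact p.Prime] (P : Sylow p G)
    (M N : Subgroup G) [M.Normal] [N.Normal] (hMN : M ⊓ N = ⊥) :
    ((P : Subgroup G) ⊔ M) ⊓ ((P : Subgroup G) ⊔ N) = P := by
  refine le_antisymm ?_ (le_inf le_sup_left le_sup_left)
  have hD : M ⊓ ((P : Subgroup G) ⊔ N) ≤ P := by
    set D := M ⊓ ((P : Subgroup G) ⊔ N) with hDdef
    have hDp : IsPGroup p D := by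
      have hmap : D.map (QuotientGroup.mk' N) ≤ (P : Subgroup G).map (QuotientGroup.mk' N) := by
        calc D.map (QuotientGroup.mk' N) ≤ ((P : Subgroup G) ⊔ N).map (QuotientGroup.mk' N) :=
              map_mono inf_le_right
          _ ≤ _ := by
              rw [Subgroup.map_sup, QuotientGroup.map_mk'_self, sup_bot_eq]
      have h1 : IsPGroup p (D.map (QuotientGroup.mk' N)) :=
        (P.isPGroup'.map _).to_le hmap
      refine h1.of_injective ((QuotientGroup.mk' N).subgroupMap D) ?_
      rw [← MonoidHom.ker_eq_bot_iff, eq_bot_iff]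
      intro d hd
      rw [MonoidHom.mem_ker] at hd
      have h2 : (d : G) ∈ N := (QuotientGroup.eq_one_iff _).1 (congrArg Subtype.val hd)
      have h3 : (d : G) ∈ M ⊓ N := ⟨d.2.1, h2⟩
      rw [hMN] at h3
      exact Subtype.ext h3
    have hPn : (P : Subgroup G) ≤ normalizer (D : Set G) := by
      intro g hg
      have h1 : g ∈ normalizer (((P : Subgroup G) ⊔ N : Subgroup G) : Set G) :=
        le_normalizer (mem_sup_left hg)
      rw [mem_normalizer_iff_map_conj_eq] at h1 ⊢
      rw [hDdef, Subgroup.map_inf _ _ _ (MulEquiv.injective _), h1,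
        map_conj_normal M g]
    have hsup : IsPGroup p ((P : Subgroup G) ⊔ D : Subgroup G) :=
      P.isPGroup'.to_sup_of_normal_right' hDp hPn
    have := P.is_maximal' hsup le_sup_left
    rw [← this]; exact le_sup_right
  intro y hy
  obtain ⟨q, hq, m, hm, rfl⟩ := mem_sup_of_normal_right.1 hy.1
  refine Subgroup.mul_mem _ hq (hD ⟨hm, ?_⟩)
  simpa using Subgroup.mul_mem _ (inv_mem (mem_sup_left hq)) hy.2

theorem map_normalizer_sylow {G : Type*} [Group G] [Finite G] {p : ℕ} [Fact p.Prime]
    (P : Sylow p G) (M : Subgroup G) [M.Normal] :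
    (normalizer ((P : Subgroup G) : Set G)).map (QuotientGroup.mk' M)
      = normalizer (((P.mapSurjective (QuotientGroup.mk'_surjective M)) : Subgroup (G ⧸ M)) : Set (G ⧸ M)) := by
  apply le_antisymm
  · rw [Sylow.coe_mapSurjective]
    exact le_normalizer_map _
  · intro y hy
    obtain ⟨g, rfl⟩ := QuotientGroup.mk'_surjective M y
    rw [Sylow.coe_mapSurjective, mem_normalizer_iff_map_conj_eq] at hy
    set H := (P : Subgroup G) ⊔ M with hH
    have hHc : ((P : Subgroup G).map (QuotientGroup.mk' M)).comap (QuotientGroup.mk' M) = H := by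
      rw [comap_map_eq, QuotientGroup.ker_mk']
    have hgP : ((g • P : Sylow p G) : Subgroup G) ≤ H := by
      rw [← hHc, ← map_le_iff_le_comap]
      rintro _ ⟨_, ⟨x, hx, rfl⟩, rfl⟩
      rw [← hy]
      refine ⟨_, ⟨x, hx, rfl⟩, ?_⟩
      show QuotientGroup.mk' M g * QuotientGroup.mk' M x * (QuotientGroup.mk' M g)⁻¹
        = QuotientGroup.mk' M (g * x * g⁻¹)
      simp only [map_mul, map_inv]
    obtain ⟨h, hh⟩ := MulAction.exists_smul_eq H ((g • P).subtype hgP) (P.subtype le_sup_left)
    rw [Sylow.smul_subtype] at hh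
    have hh' : ((h : G) * g) • P = P := by
      rw [mul_smul]
      exact Sylow.subtype_injective hh
    have hn := Sylow.smul_eq_iff_mem_normalizer.1 hh'
    obtain ⟨q, hq, m, hm, hqm⟩ := mem_sup_of_normal_right.1 h.2
    refine ⟨q⁻¹ * ((h : G) * g), Subgroup.mul_mem _ (inv_mem (le_normalizer hq)) hn, ?_⟩
    rw [← hqm]
    simp only [map_mul, map_inv, QuotientGroup.mk'_apply]
    rw [(QuotientGroup.eq_one_iff m).2 hm]
    group

theorem card_sylow_quotient {G : Type*} [Group G] [Finite G] {p : ℕ} [Fact p.Prime]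
    (P : Sylow p G) (M : Subgroup G) [M.Normal] :
    Nat.card (Sylow p (G ⧸ M)) = (normalizer ((P : Subgroup G) : Set G) ⊔ M).index := by
  rw [(P.mapSurjective (QuotientGroup.mk'_surjective M)).card_eq_index_normalizer]
  show (normalizer (((P.mapSurjective (QuotientGroup.mk'_surjective M)) : Subgroup (G ⧸ M))
      : Set (G ⧸ M))).index = _
  rw [← map_normalizer_sylow, index_map, QuotientGroup.ker_mk',
    MonoidHom.range_eq_top.2 (QuotientGroup.mk'_surjective M), index_top, mul_one]


/-- Let M and N be nontrivial normal subgroups of the finite group G with M ⊓ N trivial, and let p be a prime. Writing n(X) for the number of Sylow p-subgroups of a group X, one has n(G) · n(G/MN) = n(G/M) · n(G/N). -/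
theorem result {G : Type*} [Group G] [Finite G] (p : ℕ) [Fact p.Prime] (M N : Subgroup G) [M.Normal] [N.Normal] (hM : M ≠ ⊥) (hN : N ≠ ⊥) (hMN : M ⊓ N = ⊥) : Nat.card (Sylow p G) * Nat.card (Sylow p (G ⧸ (M ⊔ N))) = Nat.card (Sylow p (G ⧸ M)) * Nat.card (Sylow p (G ⧸ N)) := by
  have P : Sylow p G := default
  rw [card_sylow_quotient P, card_sylow_quotient P, card_sylow_quotient P,
    P.card_eq_index_normalizer]
  set L := Subgroup.normalizer ((P : Subgroup G) : Set G) with hL
  set a := L ⊔ M with ha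
  set b := L ⊔ N with hb
  have hc : L ⊔ (M ⊔ N) = b ⊔ M := by rw [hb, sup_assoc, sup_comm N M]
  have hbM : b ⊓ M = L ⊓ M := by
    refine le_antisymm ?_ (inf_le_inf_right M le_sup_left)
    intro m hm
    refine ⟨?_, hm.2⟩
    have h1 : b ≤ Subgroup.normalizer (((P : Subgroup G) ⊔ N : Subgroup G) : Set G) :=
      sup_le (le_normalizer_sup_normal _ _) (le_trans le_sup_right Subgroup.le_normalizer)
    have h2 : M ≤ Subgroup.normalizer (((P : Subgroup G) ⊔ M : Subgroup G) : Set G) :=
      le_trans le_sup_right Subgroup.le_normalizer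
    have e1 := Subgroup.mem_normalizer_iff_map_conj_eq.1 (h1 hm.1)
    have e2 := Subgroup.mem_normalizer_iff_map_conj_eq.1 (h2 hm.2)
    show m ∈ Subgroup.normalizer ((P : Subgroup G) : Set G)
    rw [Subgroup.mem_normalizer_iff_map_conj_eq, ← sup_inf_sup_eq P M N hMN,
      Subgroup.map_inf _ _ _ (MulEquiv.injective _), e1, e2]
  have k1 := Cfsg.Agent.Lib.SZ.card_sup_mul_card_inf L M
  have k2 := Cfsg.Agent.Lib.SZ.card_sup_mul_card_inf b M
  rw [hbM] at k2
  rw [← ha] at k1
  rw [hc]
  have key : Nat.card L * Nat.card (b ⊔ M : Subgroup G) = Nat.card a * Nat.card b := by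
    have hpos : 0 < Nat.card (L ⊓ M : Subgroup G) := Nat.card_pos
    apply Nat.eq_of_mul_eq_mul_right hpos
    calc Nat.card L * Nat.card (b ⊔ M : Subgroup G) * Nat.card (L ⊓ M : Subgroup G)
        = Nat.card L * (Nat.card b * Nat.card M) := by rw [mul_assoc, k2]
      _ = Nat.card b * (Nat.card L * Nat.card M) := by ring
      _ = Nat.card b * (Nat.card a * Nat.card (L ⊓ M : Subgroup G)) := by rw [k1]
      _ = _ := by ring
  have i0 := L.card_mul_index
  have i1 := a.card_mul_index
  have i2 := b.card_mul_index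
  have i3 := (b ⊔ M).card_mul_index
  apply Nat.eq_of_mul_eq_mul_left (show 0 < Nat.card L * Nat.card (b ⊔ M : Subgroup G) from
    Nat.mul_pos Nat.card_pos Nat.card_pos)
  conv_rhs => rw [key]
  calc Nat.card L * Nat.card (b ⊔ M : Subgroup G) * (L.index * (b ⊔ M).index)
      = (Nat.card L * L.index) * (Nat.card (b ⊔ M : Subgroup G) * (b ⊔ M).index) := by ring
    _ = (Nat.card a * a.index) * (Nat.card b * b.index) := by rw [i0, i1, i2, i3]
    _ = _ := by ring

end Cfsg.Agent.S3867
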