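import Cfsg.Statements.S3868
import Mathlib
import Cfsg.Agent.Lib.H66.MinNonClosed
import Cfsg.Agent.Lib.H66.PClosed
import Cfsg.Agent.Lib.MinimalNormal

set_option autoImplicit false
open Cfsg

namespace Cfsg.Agent.S3868


open Subgroup Cfsg.Agent.Lib.H66

/-- A normal `p`-subgroup of index prime to `p` is the only Sylow `p`-subgroup. -/
theorem isPClosed_of_normal_sylow {H : Type*} [Group H] [Finite H] {p : ℕ} [Fact p.Prime]
    (P : Sylow p H) (hP : (P : Subgroup H).Normal) : Cfsg.IsPClosed p H := by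
  intro Q
  haveI := Sylow.unique_of_normal P hP
  rw [Subsingleton.elim Q P]; exact hP


/-- Structure of the non-simple minimal non-p-closed groups. Call a finite group p-closed when its Sylow p-subgroups are normal, and minimal non-p-closed when it is not p-closed but every proper subgroup and every proper quotient is. If such a group G is not simple, then there is a prime q ≠ p such that G has order p · q^e, where e is the multiplicative order of q modulo p, and G has a normal subgroup A of order q^e that is elementary abelian and is a minimal normal subgroup of G (so G is the semidirect product of A by a group of order p acting irreducibly). -/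
theorem result {G : Type*} [Group G] [Finite G] {p : ℕ} [Fact p.Prime]
    (hnc : ¬ Cfsg.IsPClosed p G) (hsub : ∀ H : Subgroup G, H ≠ ⊤ → Cfsg.IsPClosed p ↥H)
    (hquo : ∀ (N : Subgroup G) [N.Normal], N ≠ ⊥ → Cfsg.IsPClosed p (G ⧸ N)) (hns : ¬ IsSimpleGroup G) :
    ∃ q : ℕ, q.Prime ∧ q ≠ p ∧ Nat.card G = p * q ^ orderOf (q : ZMod p) ∧
      ∃ A : Subgroup G, A.Normal ∧ Nat.card ↥A = q ^ orderOf (q : ZMod p) ∧ Cfsg.IsElementaryAbelian q A ∧
        ∀ B : Subgroup G, B.Normal → B ≤ A → B = ⊥ ∨ B = A := by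
  have P : Sylow p G := default
  haveI : Nontrivial G := by
    by_contra h
    rw [not_nontrivial_iff_subsingleton] at h
    exact hnc fun Q => ⟨fun a ha g => by rwa [Subsingleton.elim (g * a * g⁻¹) a]⟩
  obtain ⟨N, hN, hNb, hNt⟩ : ∃ N : Subgroup G, N.Normal ∧ N ≠ ⊥ ∧ N ≠ ⊤ := by
    by_contra h
    push Not at h
    exact hns ⟨fun N hN => (em (N = ⊥)).imp id (h N hN)⟩
  obtain ⟨A, hA, hAb, hAN, hmin⟩ := Cfsg.Agent.Lib.MinimalNormal.exists_minimal_normal_le hN hNb
  have hAt : A ≠ ⊤ := fun h => hNt (top_le_iff.1 (h ▸ hAN))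
  haveI := hA
  have hnoP : ∀ B : Subgroup G, B.Normal → IsPGroup p B → B = ⊥ := by
    intro B hB hBp
    by_contra hBb
    haveI := hB
    apply hnc
    apply isPClosed_of_normal_sylow P
    have hq := hquo B hBb (P.mapSurjective (QuotientGroup.mk'_surjective B))
    rw [Sylow.coe_mapSurjective] at hq
    have h1 := hq.comap (QuotientGroup.mk' B)
    rwa [Subgroup.comap_map_eq, QuotientGroup.ker_mk', sup_eq_left.2 (hBp.le_sylow_of_normal P)] at h1
  have hpA : ¬ p ∣ Nat.card A := by
    intro hd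
    obtain ⟨S⟩ : Nonempty (Sylow p A) := inferInstance
    haveI := hsub A hAt S
    haveI : (S : Subgroup A).Characteristic := S.characteristic_of_normal inferInstance
    have h1 := hnoP ((S : Subgroup A).map A.subtype) inferInstance (S.isPGroup'.map _)
    rw [Subgroup.map_eq_bot_iff_of_injective _ A.subtype_injective] at h1
    exact S.ne_bot_of_dvd_card hd h1
  have hPne : (P : Subgroup G) ≠ ⊥ := fun h => hnc (isPClosed_of_normal_sylow P (h ▸ inferInstance))
  have hPA : (P : Subgroup G) ⊔ A = ⊤ := by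
    by_contra hne
    have hHn : ((P : Subgroup G) ⊔ A).Normal := by
      have hq := hquo A hAb (P.mapSurjective (QuotientGroup.mk'_surjective A))
      rw [Sylow.coe_mapSurjective] at hq
      have h1 := hq.comap (QuotientGroup.mk' A)
      rwa [Subgroup.comap_map_eq, QuotientGroup.ker_mk'] at h1
    haveI := hHn
    set H := (P : Subgroup G) ⊔ A with hH
    set S : Sylow p H := P.subtype le_sup_left with hS
    haveI := hsub H hne S
    haveI : (S : Subgroup H).Characteristic := S.characteristic_of_normal inferInstance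
    have h1 := hnoP ((S : Subgroup H).map H.subtype) inferInstance (S.isPGroup'.map _)
    rw [hS, Sylow.coe_subtype, map_subgroupOf_eq_of_le le_sup_left] at h1
    exact hPne h1
  haveI hPnil := P.isPGroup'.isNilpotent
  have hnoNormalP : ∀ B : Subgroup G, B ≤ (P : Subgroup G) →
      (P : Subgroup G) ≤ normalizer (B : Set G) → B ⊔ A ≠ ⊤ → B = ⊥ := by
    intro B hBP hBn hBA
    refine hnoP B ?_ (P.isPGroup'.to_le hBP)
    rw [← normalizer_eq_top_iff, eq_top_iff, ← hPA]
    refine sup_le hBn ?_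
    intro a ha
    rw [mem_normalizer_iff_map_conj_eq]
    refine eq_of_le_of_card_ge ?_ (card_map_of_injective (MulEquiv.injective _)).ge
    rintro _ ⟨b, hb, rfl⟩
    show a * b * a⁻¹ ∈ B
    have hc : a * b * a⁻¹ * b⁻¹ ∈ A := by
      have := A.mul_mem ha (hA.conj_mem _ (A.inv_mem ha) b)
      simpa [mul_assoc] using this
    set K := B ⊔ A
    have hJ := isPGroup_sup_of_pClosed (hsub K hBA) (P.isPGroup'.to_le hBP)
      ((P.isPGroup'.to_le hBP).map (MulAut.conj a).toMonoidHom) le_sup_left (by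
        rintro _ ⟨c, hc, rfl⟩
        exact K.mul_mem (K.mul_mem (mem_sup_right ha) (mem_sup_left hc)) (K.inv_mem (mem_sup_right ha)))
    obtain ⟨j, hj⟩ := IsPGroup.iff_orderOf.1 hJ ⟨a * b * a⁻¹ * b⁻¹,
      Subgroup.mul_mem _ (mem_sup_right ⟨b, hb, rfl⟩) (mem_sup_left (B.inv_mem hb))⟩
    rw [Subgroup.orderOf_mk] at hj
    have h1 : orderOf (a * b * a⁻¹ * b⁻¹) = 1 :=
      Nat.eq_one_of_dvd_coprimes (((Fact.out : p.Prime).coprime_iff_not_dvd.2 hpA).pow_left j)
        (hj ▸ dvd_rfl) (A.orderOf_dvd_natCard hc)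
    rw [orderOf_eq_one_iff, mul_inv_eq_one] at h1
    rw [h1]; exact hb
  have hcardP : Nat.card (P : Subgroup G) = p := by
    obtain ⟨k, hk⟩ := IsPGroup.iff_card.1 P.isPGroup'
    have hk0 : k ≠ 0 := by rintro rfl; exact hPne (card_eq_one.1 (by simpa using hk))
    obtain ⟨B, hB⟩ := Sylow.exists_subgroup_card_pow_prime p
      (show p ^ (k - 1) ∣ Nat.card (P : Subgroup G) from hk ▸ pow_dvd_pow p (Nat.sub_le _ _))
    have hlt : B < ⊤ := lt_top_iff_ne_top.2 fun h => by
      rw [h, card_top, hk] at hB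
      have := Nat.pow_right_injective (Fact.out : p.Prime).two_le hB
      omega
    have hBco : IsCoatom B := by
      refine ⟨hlt.ne, fun C hC => ?_⟩
      obtain ⟨c, -, hc⟩ := (Nat.dvd_prime_pow (Fact.out : p.Prime)).1 (hk ▸ C.card_subgroup_dvd_card)
      refine eq_top_of_card_eq C ?_
      have hh : Nat.card B < Nat.card C :=
        lt_of_le_of_ne (Nat.le_of_dvd Nat.card_pos (card_dvd_of_le hC.le)) fun e =>
          hC.ne (eq_of_le_of_card_ge hC.le e.ge)
      rw [hB, hc, Nat.pow_lt_pow_iff_right (Fact.out : p.Prime).one_lt] at hh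
      have hle := Nat.le_of_dvd Nat.card_pos C.card_subgroup_dvd_card
      rw [hc, hk, Nat.pow_le_pow_iff_right (Fact.out : p.Prime).one_lt] at hle
      rw [hc, hk]; congr 1; omega
    have hBn : B.Normal :=
      NormalizerCondition.normal_of_coatom B Group.normalizerCondition_of_isNilpotent hBco
    set B' := B.map (P : Subgroup G).subtype with hB'
    have hB'P : B' ≤ (P : Subgroup G) := map_subtype_le _
    have h1 := hnoNormalP B' hB'P ?_ ?_
    · rw [hB', map_eq_bot_iff_of_injective _ (P : Subgroup G).subtype_injective] at h1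
      rw [h1, card_bot] at hB
      have hk1 : k - 1 = 0 := ((Nat.pow_eq_one).1 hB.symm).resolve_left (Fact.out : p.Prime).ne_one
      rw [hk, show k = 1 by omega, pow_one]
    · intro g hg
      rw [mem_normalizer_iff_map_conj_eq]
      refine eq_of_le_of_card_ge ?_ (card_map_of_injective (MulEquiv.injective _)).ge
      rintro _ ⟨_, ⟨b, hb, rfl⟩, rfl⟩
      exact ⟨_, hBn.conj_mem b hb ⟨g, hg⟩, rfl⟩
    · intro htop
      apply hlt.ne
      apply map_injective (P : Subgroup G).subtype_injective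
      rw [← MonoidHom.range_eq_map, range_subtype]
      refine le_antisymm hB'P fun g hg => ?_
      obtain ⟨b, hb, a, ha, rfl⟩ := mem_sup_of_normal_right.1 (htop ▸ mem_top g : g ∈ B' ⊔ A)
      have haP : a ∈ (P : Subgroup G) := by
        simpa using (P : Subgroup G).mul_mem ((P : Subgroup G).inv_mem (hB'P hb)) hg
      have : orderOf a = 1 := by
        obtain ⟨j, hj⟩ := IsPGroup.iff_orderOf.1 P.isPGroup' ⟨a, haP⟩
        rw [Subgroup.orderOf_mk] at hj
        exact Nat.eq_one_of_dvd_coprimes (((Fact.out : p.Prime).coprime_iff_not_dvd.2 hpA).pow_left j)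
          (hj ▸ dvd_rfl) (A.orderOf_dvd_natCard ha)
      rw [orderOf_eq_one_iff.1 this, mul_one]; exact hb
  obtain ⟨x, hxP⟩ := exists_prime_orderOf_dvd_card' (G := (P : Subgroup G)) p (dvd_of_eq hcardP.symm)
  rw [← Subgroup.orderOf_coe] at hxP
  have hPx : Subgroup.zpowers (x : G) = (P : Subgroup G) :=
    eq_of_le_of_card_ge (zpowers_le.2 x.2) (by rw [Nat.card_zpowers, hxP, hcardP])
  refine structure_of_proper_centralized A hpA hmin (x : G) hxP (by rw [hPx, sup_comm, hPA]) ?_ ?_
  · intro hc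
    apply hPne
    refine hnoP _ ?_ P.isPGroup'
    rw [← normalizer_eq_top_iff, eq_top_iff, ← hPA]
    refine sup_le le_normalizer ?_
    intro a ha
    rw [mem_normalizer_iff_map_conj_eq]
    refine eq_of_le_of_card_ge ?_ (card_map_of_injective (MulEquiv.injective _)).ge
    rintro _ ⟨b, hb, rfl⟩
    rw [← hPx] at hb ⊢
    obtain ⟨k, rfl⟩ := mem_zpowers_iff.1 hb
    refine mem_zpowers_iff.2 ⟨k, ?_⟩
    show (x : G) ^ k = a * (x : G) ^ k * a⁻¹
    rw [eq_mul_inv_iff_mul_eq]
    exact ((show Commute (x : G) a from (mem_centralizer_iff.1 hc a ha).symm).zpow_left k).eq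
  · intro R hRA hxR hne
    rw [mem_centralizer_iff]
    intro b hb
    set K := R ⊔ Subgroup.zpowers (x : G)
    have hxp : IsPGroup p (Subgroup.zpowers (x : G)) := hPx.symm ▸ P.isPGroup'
    have hJ := isPGroup_sup_of_pClosed (hsub K hne) hxp
      (hxp.map (MulAut.conj b).toMonoidHom) le_sup_right (by
        rintro _ ⟨c, hc, rfl⟩
        exact K.mul_mem (K.mul_mem (mem_sup_left hb) (mem_sup_right hc)) (K.inv_mem (mem_sup_left hb)))
    obtain ⟨j, hj⟩ := IsPGroup.iff_orderOf.1 hJ ⟨b * x * b⁻¹ * (x : G)⁻¹,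
      Subgroup.mul_mem _ (mem_sup_right ⟨x, mem_zpowers _, rfl⟩)
        (mem_sup_left (Subgroup.inv_mem _ (mem_zpowers _)))⟩
    rw [Subgroup.orderOf_mk] at hj
    have hc : b * x * b⁻¹ * (x : G)⁻¹ ∈ A := by
      have := A.mul_mem (hRA hb) (hA.conj_mem _ (A.inv_mem (hRA hb)) (x : G))
      simpa [mul_assoc] using this
    have h1 : orderOf (b * x * b⁻¹ * (x : G)⁻¹) = 1 :=
      Nat.eq_one_of_dvd_coprimes (((Fact.out : p.Prime).coprime_iff_not_dvd.2 hpA).pow_left j)
        (hj ▸ dvd_rfl) (A.orderOf_dvd_natCard hc)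
    rw [orderOf_eq_one_iff, mul_inv_eq_one, mul_inv_eq_iff_eq_mul] at h1
    exact h1

end Cfsg.Agent.S3868
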