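import Cfsg.Statements.S3869
import Mathlib
import Cfsg.Agent.Lib.H66.MinNonClosed

set_option autoImplicit false
open Cfsg

namespace Cfsg.Agent.S3869


open Subgroup Cfsg.Agent.Lib.H66

theorem isPClosed_of_comm {H : Type*} [Group H] (p : ℕ) (h : ∀ a b : H, a * b = b * a) :
    Cfsg.IsPClosed p H := fun _ => ⟨fun a ha g => by rwa [h g a, mul_inv_cancel_right]⟩


/-- Let p and q be distinct primes and G a finite non-abelian group with a normal elementary abelian q-subgroup A that is a minimal normal subgroup of G and has index p. Then A has order q^e with e the multiplicative order of q modulo p, and G is minimal non-p-closed: its Sylow p-subgroups are not normal, while in every proper subgroup and in every proper quotient of G the Sylow p-subgroups are normal. -/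
theorem result {G : Type*} [Group G] [Finite G] {p q : ℕ} [Fact p.Prime] (hq : q.Prime) (hpq : q ≠ p)
    (hna : ¬ IsMulCommutative G) (A : Subgroup G) [A.Normal] (hA : Cfsg.IsElementaryAbelian q A) (hidx : A.index = p)
    (hmin : ∀ B : Subgroup G, B.Normal → B ≤ A → B = ⊥ ∨ B = A) :
    Nat.card ↥A = q ^ orderOf (q : ZMod p) ∧ ¬ Cfsg.IsPClosed p G ∧ (∀ H : Subgroup G, H ≠ ⊤ → Cfsg.IsPClosed p ↥H) ∧
      ∀ (N : Subgroup G) [N.Normal], N ≠ ⊥ → Cfsg.IsPClosed p (G ⧸ N) := by
  classical
  have hcA := card_eq_of_minimal_prime_index hq hpq hna A hA hidx hmin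
  haveI := hA.1
  have hpA : ¬ p ∣ Nat.card A := by
    rw [hcA]
    exact fun h => hpq ((Nat.prime_dvd_prime_iff_eq Fact.out hq).1 ((Fact.out : p.Prime).dvd_of_dvd_pow h)).symm
  have hcommA : ∀ a ∈ A, ∀ b ∈ A, a * b = b * a := fun a ha b hb =>
    congrArg Subtype.val (mul_comm' (⟨a, ha⟩ : A) ⟨b, hb⟩)
  have hpG : p ∣ Nat.card G := hidx ▸ A.index_dvd_card
  obtain ⟨x, hx⟩ := exists_prime_orderOf_dvd_card' (G := G) p hpG
  have hxA : ∀ y : G, orderOf y = p → y ∉ A := fun y hy h => hpA (hy ▸ A.orderOf_dvd_natCard h)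
  have hAne : A ≠ ⊤ := fun h => by rw [h, index_top] at hidx; exact (Fact.out : p.Prime).ne_one hidx.symm
  have hbad : ∀ K : Subgroup G, K ⊔ A = ⊤ → (∀ a ∈ A, ∀ k ∈ K, a * k = k * a) →
      (∀ k ∈ K, ∀ k' ∈ K, k * k' = k' * k) → False := by
    intro K htop h1 h2
    apply hna
    refine ⟨⟨fun g h => ?_⟩⟩
    obtain ⟨k, hk, a, ha, rfl⟩ := mem_sup_of_normal_right.1 (htop ▸ mem_top g : g ∈ K ⊔ A)
    obtain ⟨k', hk', a', ha', rfl⟩ := mem_sup_of_normal_right.1 (htop ▸ mem_top h : h ∈ K ⊔ A)
    calc k * a * (k' * a') = k * (a * k') * a' := by group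
      _ = k * (k' * a) * a' := by rw [h1 a ha k' hk']
      _ = (k * k') * (a * a') := by group
      _ = (k' * k) * (a' * a) := by rw [h2 k hk k' hk', hcommA a ha a' ha']
      _ = k' * (k * a') * a := by group
      _ = k' * (a' * k) * a := by rw [h1 a' ha' k hk]
      _ = _ := by group
  refine ⟨hcA, ?_, ?_, ?_⟩
  · intro hc
    have P : Sylow p G := default
    haveI := hc P
    have hle : Subgroup.zpowers x ≤ (P : Subgroup G) := by
      have hxp : IsPGroup p (Subgroup.zpowers x) :=
        IsPGroup.of_card (n := 1) (by rw [Nat.card_zpowers, hx, pow_one])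
      obtain ⟨Q, hQ⟩ := hxp.exists_le_sylow
      haveI := Sylow.unique_of_normal P inferInstance
      rwa [Subsingleton.elim P Q]
    have hinf : (P : Subgroup G) ⊓ A = ⊥ := by
      rcases ((P.isPGroup'.to_le inf_le_left : IsPGroup p ((P : Subgroup G) ⊓ A : Subgroup G))).card_eq_or_dvd with h | h
      · exact card_eq_one.1 h
      · exact absurd (h.trans (card_dvd_of_le inf_le_right)) hpA
    refine hbad (Subgroup.zpowers x) (by rw [sup_comm]; exact sup_zpowers_of_prime_index hidx (hxA x hx))
      (fun a ha k hk => ?_) (fun k hk k' hk' => ?_)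
    · exact Subgroup.commute_of_normal_of_disjoint A (P : Subgroup G) inferInstance inferInstance
        (disjoint_iff.2 (inf_comm A (P : Subgroup G) ▸ hinf)) a k ha (hle hk)
    · obtain ⟨i, rfl⟩ := mem_zpowers_iff.1 hk
      obtain ⟨j, rfl⟩ := mem_zpowers_iff.1 hk'
      exact (Commute.zpow_zpow_self x i j).eq
  · intro H hH
    by_cases hd : p ∣ Nat.card H
    · obtain ⟨y, hy⟩ := exists_prime_orderOf_dvd_card' (G := H) p hd
      rw [← Subgroup.orderOf_coe] at hy
      have hgen := sup_zpowers_of_prime_index hidx (hxA _ hy)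
      have hn : (H ⊓ A).Normal := by
        rw [← normalizer_eq_top_iff, eq_top_iff, ← hgen]
        refine sup_le ?_ (zpowers_le.2 ?_)
        · intro a ha
          rw [mem_normalizer_iff]
          intro b
          constructor
          · intro hb; rw [hcommA a ha b hb.2, mul_inv_cancel_right]; exact hb
          · intro hb
            have hbA : b ∈ A := by
              simpa [mul_assoc] using A.mul_mem (A.mul_mem (A.inv_mem ha) hb.2) ha
            rwa [hcommA a ha b hbA, mul_inv_cancel_right] at hb
        · rw [mem_normalizer_iff]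
          intro b
          constructor
          · rintro ⟨h1, h2⟩
            exact ⟨H.mul_mem (H.mul_mem y.2 h1) (H.inv_mem y.2), ‹A.Normal›.conj_mem b h2 y⟩
          · rintro ⟨h1, h2⟩
            exact ⟨by simpa [mul_assoc] using H.mul_mem (H.mul_mem (H.inv_mem y.2) h1) y.2,
              by simpa [mul_assoc] using ‹A.Normal›.conj_mem _ h2 (y : G)⁻¹⟩
      rcases hmin _ hn inf_le_right with h | h
      · let f : H →* G ⧸ A := (QuotientGroup.mk' A).comp H.subtype
        have hf : Function.Injective f := by
          rw [← MonoidHom.ker_eq_bot_iff, eq_bot_iff]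
          intro a ha
          have : (a : G) ∈ H ⊓ A := ⟨a.2, (QuotientGroup.eq_one_iff _).1 ha⟩
          rw [h] at this
          exact Subtype.ext this
        haveI := isCyclic_of_prime_card (α := G ⧸ A) (p := p) (by rw [← Subgroup.index_eq_card, hidx])
        letI := IsCyclic.commGroup (α := G ⧸ A)
        exact isPClosed_of_comm p fun a b => hf (by rw [map_mul, map_mul, mul_comm])
      · refine absurd ?_ hH
        rw [eq_top_iff, ← hgen]
        exact sup_le (h ▸ inf_le_left) (zpowers_le.2 y.2)
    · intro P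
      have : (P : Subgroup H) = ⊥ := by
        rcases P.isPGroup'.card_eq_or_dvd with h | h
        · exact card_eq_one.1 h
        · exact absurd (h.trans (P : Subgroup H).card_subgroup_dvd_card) hd
      rw [this]; infer_instance
  · intro N hN hNb
    rcases hmin (N ⊓ A) inferInstance inf_le_right with h | h
    · exfalso
      obtain ⟨z, hzN, hzA⟩ : ∃ z ∈ N, z ∉ A := by
        by_contra hh; push Not at hh
        exact hNb (eq_bot_iff.2 fun z hz => h ▸ (⟨hz, hh z hz⟩ : z ∈ N ⊓ A))
      refine hbad (Subgroup.zpowers z) (by rw [sup_comm]; exact sup_zpowers_of_prime_index hidx hzA)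
        (fun a ha k hk => ?_) (fun k hk k' hk' => ?_)
      · exact Subgroup.commute_of_normal_of_disjoint A N inferInstance inferInstance
          (disjoint_iff.2 (inf_comm A N ▸ h)) a k ha (zpowers_le.2 hzN hk)
      · obtain ⟨i, rfl⟩ := mem_zpowers_iff.1 hk
        obtain ⟨j, rfl⟩ := mem_zpowers_iff.1 hk'
        exact (Commute.zpow_zpow_self z i j).eq
    · have hd : Nat.card (G ⧸ N) ∣ p := by
        rw [← Subgroup.index_eq_card, ← hidx]
        exact index_dvd_of_le (inf_eq_right.1 h)
      have : IsCyclic (G ⧸ N) := by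
        rcases (Nat.dvd_prime (Fact.out : p.Prime)).1 hd with h1 | h1
        · haveI := (Nat.card_eq_one_iff_unique.1 h1).1
          infer_instance
        · exact isCyclic_of_prime_card h1
      letI := IsCyclic.commGroup (α := G ⧸ N)
      exact isPClosed_of_comm p mul_comm

end Cfsg.Agent.S3869
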