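import Cfsg.Statements.S3870
import Mathlib
import Cfsg.Agent.Lib.H66.PClosed

set_option autoImplicit false
open Cfsg

namespace Cfsg.Agent.S3870


open Subgroup


/-- Let G be a finite simple group whose Sylow p-subgroups are not normal but such that every proper subgroup of G has a normal Sylow p-subgroup. Then any two distinct Sylow p-subgroups of G intersect trivially, and for every Sylow p-subgroup P the normalizer of every non-identity subgroup of P lies in the normalizer of P. -/
theorem result {G : Type*} [Group G] [Finite G] [IsSimpleGroup G] {p : ℕ} [Fact p.Prime]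
    (hnc : ¬ Cfsg.IsPClosed p G) (hsub : ∀ H : Subgroup G, H ≠ ⊤ → Cfsg.IsPClosed p ↥H) :
    (∀ P Q : Sylow p G, P ≠ Q → (P : Subgroup G) ⊓ (Q : Subgroup G) = ⊥) ∧
      ∀ (P : Sylow p G) (R : Subgroup G), R ≤ P → R ≠ ⊥ →
        Subgroup.normalizer (R : Set G) ≤ Subgroup.normalizer ((P : Subgroup G) : Set G) := by
  have hTI := Cfsg.Agent.Lib.H66.sylow_TI_of_subgroups_pClosed hnc hsub
  refine ⟨hTI, ?_⟩
  intro P R hR hR0 g hg
  refine Sylow.smul_eq_iff_mem_normalizer.1 ?_
  by_contra hne
  apply hR0
  rw [eq_bot_iff, ← hTI (g • P) P hne]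
  refine le_inf ?_ hR
  intro x hx
  have h2 := (Subgroup.mem_normalizer_iff''.1 hg x).1 hx
  exact ⟨g⁻¹ * x * g, hR h2, by simp [mul_assoc]⟩

end Cfsg.Agent.S3870
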