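import Cfsg.Statements.S3872
import Mathlib
import Cfsg.Agent.Lib.HallPetresco.Basic
import Cfsg.Agent.Lib.Regular.Torsion

set_option autoImplicit false
open Cfsg

namespace Cfsg.Agent.S3872


open Subgroup
open scoped commutatorElement


/-- Say that a finite group is p-exponent closed when its elements of order dividing p form a subgroup. Let G be a finite p-group that is not p-exponent closed, but all of whose proper subgroups and proper quotients are. Then G is generated by two elements, has nilpotency class at least p, has exponent p², has cyclic center, and has order at least p^(p+1). -/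
theorem result {G : Type*} [Group G] [Finite G] {p : ℕ} [Fact p.Prime] (hG : IsPGroup p G)
    (hnc : ¬ (∃ H : Subgroup G, (H : Set G) = {g : G | g ^ p = 1})) (hsub : ∀ K : Subgroup G, K ≠ ⊤ → (∃ H : Subgroup ↥K, (H : Set ↥K) = {g : ↥K | g ^ p = 1}))
    (hquo : ∀ (N : Subgroup G) [N.Normal], N ≠ ⊥ → (∃ H : Subgroup (G ⧸ N), (H : Set (G ⧸ N)) = {g : (G ⧸ N) | g ^ p = 1})) :
    (∃ x y : G, Subgroup.closure ({x, y} : Set G) = ⊤) ∧ (⊤ : Subgroup G).lowerCentralSeries (p - 1) ≠ ⊥ ∧
      Monoid.exponent G = p ^ 2 ∧ IsCyclic ↥(Subgroup.center G) ∧ p ^ (p + 1) ≤ Nat.card G := by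
  have hp : p.Prime := Fact.out
  obtain ⟨x, y, hx, hy, hxy⟩ : ∃ x y : G, x ^ p = 1 ∧ y ^ p = 1 ∧ (x * y) ^ p ≠ 1 := by
    by_contra h
    push Not at h
    exact hnc ⟨{ carrier := {g : G | g ^ p = 1}, one_mem' := one_pow _,
                 mul_mem' := fun {a b} ha hb => h a b ha hb,
                 inv_mem' := fun {a} (ha : a ^ p = 1) => show a⁻¹ ^ p = 1 by rw [inv_pow, ha, inv_one] }, rfl⟩
  have hgen : Subgroup.closure ({x, y} : Set G) = ⊤ := by
    by_contra hne
    obtain ⟨H, hH⟩ := hsub _ hne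
    have h1 := H.mul_mem ((Set.ext_iff.1 hH ⟨x, subset_closure (by simp)⟩).2 (Subtype.ext hx))
      ((Set.ext_iff.1 hH ⟨y, subset_closure (by simp)⟩).2 (Subtype.ext hy))
    have h2 := (Set.ext_iff.1 hH _).1 h1
    simp only [Set.mem_ofPred_eq] at h2
    exact hxy (congrArg Subtype.val h2)
  have hquot : ∀ z : G, z ∈ center G → z ^ p = 1 → z ≠ 1 → ∀ g : G, g ^ p ∈ Subgroup.zpowers z := by
    intro z hzc _ hz1 g
    haveI : (Subgroup.zpowers z).Normal := ⟨fun a ha g => by
      obtain ⟨k, rfl⟩ := mem_zpowers_iff.1 ha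
      rwa [(mem_center_iff.1 (Subgroup.zpow_mem _ hzc k)) g, mul_inv_cancel_right]⟩
    obtain ⟨H, hH⟩ := hquo (Subgroup.zpowers z) (fun h => hz1 (by simpa using h))
    have h1 : ⊤ ≤ H.comap (QuotientGroup.mk' (Subgroup.zpowers z)) := by
      rw [← hgen, closure_le]
      rintro a ha
      refine (Set.ext_iff.1 hH _).2 ?_
      show (QuotientGroup.mk' _ a) ^ p = 1
      rcases ha with rfl | ha
      · rw [← map_pow, hx, map_one]
      · rw [Set.mem_singleton_iff.1 ha, ← map_pow, hy, map_one]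
    have h2 : (QuotientGroup.mk' (Subgroup.zpowers z) g) ^ p = 1 := (Set.ext_iff.1 hH _).1 (h1 (mem_top g))
    rw [← map_pow] at h2
    exact (QuotientGroup.eq_one_iff _).1 h2
  haveI hnt : Nontrivial G := ⟨⟨(x * y) ^ p, 1, hxy⟩⟩
  haveI hcnt : Nontrivial (center G) := hG.center_nontrivial
  obtain ⟨z, hzc, hz1, hzp⟩ : ∃ z : G, z ∈ center G ∧ z ≠ 1 ∧ z ^ p = 1 := by
    obtain ⟨k, hk0, hk⟩ := (hG.to_subgroup (center G)).nontrivial_iff_card.1 hcnt
    obtain ⟨z, hz⟩ := exists_prime_orderOf_dvd_card' (G := center G) p (hk ▸ dvd_pow_self p hk0.ne')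
    refine ⟨z, z.2, fun h => ?_, ?_⟩
    · rw [← Subgroup.orderOf_coe, h, orderOf_one] at hz
      exact hp.ne_one hz.symm
    · rw [← hz, ← Subgroup.orderOf_coe, pow_orderOf_eq_one]
  have hsq : ∀ g : G, g ^ (p ^ 2) = 1 := by
    intro g
    obtain ⟨k, hk⟩ := mem_zpowers_iff.1 (hquot z hzc hzp hz1 g)
    rw [pow_two, pow_mul, ← hk, ← zpow_natCast, ← zpow_mul, mul_comm k, zpow_mul, zpow_natCast, hzp,
      one_zpow]
  have hexp : Monoid.exponent G = p ^ 2 := by
    obtain ⟨k, hk2, hk⟩ := (Nat.dvd_prime_pow hp).1 (Monoid.exponent_dvd_iff_forall_pow_eq_one.2 hsq)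
    rcases Nat.lt_or_ge k 2 with h | h
    · exfalso
      apply hxy
      have := Monoid.pow_exponent_eq_one (x * y)
      rw [hk] at this
      interval_cases k
      · rw [pow_zero, pow_one] at this; rw [this, one_pow]
      · rwa [pow_one] at this
    · rw [hk, show k = 2 by omega]
  have hT : ∀ v : G, v ∈ center G → v ^ p = 1 → v ∈ Subgroup.zpowers z := by
    intro v hvc hvp
    by_cases hv1 : v = 1
    · rw [hv1]; exact one_mem _
    by_contra hvz
    have hcard : ∀ w : G, w ≠ 1 → w ^ p = 1 → Nat.card (Subgroup.zpowers w) = p := fun w h1 h2 => by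
      rw [Nat.card_zpowers, orderOf_eq_prime h2 h1]
    have hne : Subgroup.zpowers v ⊓ Subgroup.zpowers z = ⊥ := by
      rcases (Nat.dvd_prime hp).1 ((hcard v hv1 hvp) ▸ card_dvd_of_le
        (inf_le_left : Subgroup.zpowers v ⊓ Subgroup.zpowers z ≤ _)) with h | h
      · exact card_eq_one.1 h
      · refine absurd ?_ hvz
        have := eq_of_le_of_card_ge (inf_le_left : Subgroup.zpowers v ⊓ Subgroup.zpowers z ≤ _)
          (by rw [h, hcard v hv1 hvp])
        exact (this.symm ▸ mem_zpowers v : v ∈ Subgroup.zpowers v ⊓ Subgroup.zpowers z).2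
    have h1 : (x * y) ^ p ∈ Subgroup.zpowers v ⊓ Subgroup.zpowers z :=
      ⟨hquot v hvc hvp hv1 _, hquot z hzc hzp hz1 _⟩
    rw [hne] at h1
    exact hxy (mem_bot.1 h1)
  have hcyc : IsCyclic ↥(center G) := by
    by_cases hw : ∃ w ∈ center G, w ^ p ≠ 1
    · obtain ⟨w, hwc, hwp⟩ := hw
      have hgw : center G = Subgroup.zpowers w := by
        refine le_antisymm (fun v hv => ?_) (zpowers_le.2 hwc)
        have hwz : Subgroup.zpowers (w ^ p) = Subgroup.zpowers z := by
          have h1 : w ^ p ∈ Subgroup.zpowers z :=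
            hT _ (pow_mem hwc p) (by rw [← pow_mul, ← pow_two]; exact hsq w)
          refine eq_of_le_of_card_ge (zpowers_le.2 h1) ?_
          rw [Nat.card_zpowers, Nat.card_zpowers, orderOf_eq_prime hzp hz1,
            orderOf_eq_prime (by rw [← pow_mul, ← pow_two]; exact hsq w) hwp]
        have h2 : v ^ p ∈ Subgroup.zpowers z :=
          hT _ (pow_mem hv p) (by rw [← pow_mul, ← pow_two]; exact hsq v)
        rw [← hwz] at h2
        obtain ⟨k, hk⟩ := mem_zpowers_iff.1 h2
        have hc : Commute v (w ^ k)⁻¹ := (mem_center_iff.1 (inv_mem (zpow_mem hwc k)) v)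
        have h3 : (v * (w ^ k)⁻¹) ^ p = 1 := by
          rw [hc.mul_pow, inv_pow, ← hk, ← zpow_natCast (w ^ k), ← zpow_mul, ← zpow_natCast w,
            ← zpow_mul, mul_comm k, mul_inv_cancel]
        have h4 := hT _ (mul_mem hv (inv_mem (zpow_mem hwc k))) h3
        rw [← hwz] at h4
        have h5 := mul_mem (zpowers_le.2 (npow_mem_zpowers w p) h4) (zpow_mem (mem_zpowers w) k)
        rwa [inv_mul_cancel_right] at h5
      rw [hgw]
      infer_instance
    · push Not at hw
      have hgz : center G = Subgroup.zpowers z :=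
        le_antisymm (fun v hv => hT v hv (hw v hv)) (zpowers_le.2 hzc)
      rw [hgz]
      infer_instance
  have hcl : (⊤ : Subgroup G).lowerCentralSeries (p - 1) ≠ ⊥ := by
    intro h
    have hreg := Cfsg.Agent.Lib.HallPetresco.isRegularPGroup_of_lowerCentralSeries_eq_bot hG h
    obtain ⟨Om, hOm⟩ : ∃ Om : Subgroup G, (Om : Set G) = {g : G | g ^ p ^ 1 = 1} :=
      ⟨Cfsg.Agent.Lib.Regular.regularOmega hreg 1, rfl⟩
    exact hnc ⟨Om, by rw [hOm, pow_one]⟩
  refine ⟨⟨x, y, hgen⟩, hcl, hexp, hcyc, ?_⟩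
  haveI := hG.isNilpotent
  obtain ⟨c, hc⟩ := Subgroup.nilpotent_iff_lowerCentralSeries.1 (inferInstance : Group.IsNilpotent G)
  set L := (⊤ : Subgroup G).lowerCentralSeries with hL
  have hstrict : ∀ k, L k ≠ ⊥ → L (k + 1) < L k := by
    intro k hk
    refine lt_of_le_of_ne (Subgroup.lowerCentralSeries_antitone _ (Nat.le_succ k)) fun he => hk ?_
    have hs : ∀ j, L (k + j) = L k := by
      intro j
      induction j with
      | zero => rfl
      | succ j ih =>
        rw [← add_assoc, hL, Subgroup.lowerCentralSeries_succ, ← hL, ih]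
        exact he
    rw [← hs c, ← le_bot_iff, ← hc]
    exact Subgroup.lowerCentralSeries_antitone _ (Nat.le_add_left c k)
  have hcard : ∀ j k, k + j ≤ p - 1 → p ^ (j + 1) ≤ Nat.card (L k) := by
    intro j
    induction j with
    | zero =>
      intro k hk
      have hne : L k ≠ ⊥ := fun h => hcl (le_bot_iff.1 (h ▸ Subgroup.lowerCentralSeries_antitone _ hk))
      obtain ⟨e, he⟩ := IsPGroup.iff_card.1 (hG.to_subgroup (L k))
      rw [he]
      refine Nat.pow_le_pow_right hp.pos ?_
      by_contra h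
      obtain rfl : e = 0 := by omega
      exact hne (card_eq_one.1 (by simpa using he))
    | succ j ih =>
      intro k hk
      have hne : L k ≠ ⊥ := fun h => hcl (le_bot_iff.1 (h ▸ Subgroup.lowerCentralSeries_antitone _ (by omega)))
      have hlt := hstrict k hne
      obtain ⟨e, he⟩ := IsPGroup.iff_card.1 (hG.to_subgroup (L k))
      obtain ⟨f, hf⟩ := IsPGroup.iff_card.1 (hG.to_subgroup (L (k + 1)))
      have h1 := ih (k + 1) (by omega)
      rw [hf, Nat.pow_le_pow_iff_right hp.one_lt] at h1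
      rw [he]
      refine Nat.pow_le_pow_right hp.pos ?_
      by_contra h
      refine hlt.ne (eq_of_le_of_card_ge hlt.le ?_)
      rw [he, hf]
      exact Nat.pow_le_pow_right hp.pos (by omega)
  have hL0 : L 0 ≠ ⊥ := by rw [hL, Subgroup.lowerCentralSeries_zero]; exact top_ne_bot
  have hp2 : 2 ≤ p := hp.two_le
  have h1 : L 1 ≠ ⊥ := fun h => hcl (le_bot_iff.1 (h ▸ Subgroup.lowerCentralSeries_antitone _ (by omega)))
  have hidx : p ^ 2 ≤ (L 1).index := by
    obtain ⟨e, he⟩ := IsPGroup.iff_card.1 (hG.to_quotient (L 1))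
    rw [index_eq_card, he]
    refine Nat.pow_le_pow_right hp.pos ?_
    by_contra hlt
    apply (hstrict 1 h1).not_ge
    have hcy : IsCyclic (G ⧸ L 1) := by
      interval_cases e
      · haveI := (Nat.card_eq_one_iff_unique.1 (by simpa using he)).1
        infer_instance
      · exact isCyclic_of_prime_card (p := p) (by simpa using he)
    have hle : L 2 ≤ L 1 := Subgroup.lowerCentralSeries_antitone _ (by norm_num)
    let f : G ⧸ L 2 →* G ⧸ L 1 := QuotientGroup.map (L 2) (L 1) (MonoidHom.id G) (by simpa using hle)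
    have hf : f.ker ≤ center (G ⧸ L 2) := by
      intro q hq
      obtain ⟨g, rfl⟩ := QuotientGroup.mk'_surjective (L 2) q
      have hg : g ∈ L 1 := (QuotientGroup.eq_one_iff g).1 hq
      rw [mem_center_iff]
      intro r
      obtain ⟨h, rfl⟩ := QuotientGroup.mk'_surjective (L 2) r
      rw [eq_comm, ← commutatorElement_eq_one_iff_mul_comm, ← map_commutatorElement]
      exact (QuotientGroup.eq_one_iff _).2 (commutator_mem_commutator hg (mem_top h))
    show L 1 ≤ L 2
    rw [hL, Subgroup.lowerCentralSeries_succ, Subgroup.lowerCentralSeries_zero, ← hL, commutator_le]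
    intro g _ h _
    rw [← QuotientGroup.eq_one_iff, ← QuotientGroup.mk'_apply, map_commutatorElement,
      commutatorElement_eq_one_iff_mul_comm]
    exact commutative_of_cyclic_center_quotient f hf _ _
  have h2 := hcard (p - 2) 1 (by omega)
  rw [show p - 2 + 1 = p - 1 by omega] at h2
  calc p ^ (p + 1) = p ^ (p - 1) * p ^ 2 := by rw [← pow_add]; congr 1; omega
    _ ≤ Nat.card (L 1) * (L 1).index := Nat.mul_le_mul h2 hidx
    _ = Nat.card G := card_mul_index _

end Cfsg.Agent.S3872
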