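import Cfsg.Statements.S3873
import Mathlib
import Cfsg.Agent.Lib.H66.MinNonClosed
import Cfsg.Agent.Lib.MinimalNormal

set_option autoImplicit false
open Cfsg

namespace Cfsg.Agent.S3873


open Subgroup Cfsg.Agent.Lib.H66


/-- Say that a finite group is p-exponent closed when its elements of order dividing p form a subgroup. Let G be a finite group that is not p-exponent closed, but all of whose proper subgroups and proper quotients are, and suppose G is neither simple nor a p-group. Then there is a prime q ≠ p such that G has order p · q^e, where e is the multiplicative order of q modulo p, and G has a normal elementary abelian subgroup of order q^e that is a minimal normal subgroup of G. -/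
theorem result {G : Type*} [Group G] [Finite G] {p : ℕ} [Fact p.Prime]
    (hnc : ¬ (∃ H : Subgroup G, (H : Set G) = {g : G | g ^ p = 1})) (hsub : ∀ K : Subgroup G, K ≠ ⊤ → (∃ H : Subgroup ↥K, (H : Set ↥K) = {g : ↥K | g ^ p = 1}))
    (hquo : ∀ (N : Subgroup G) [N.Normal], N ≠ ⊥ → (∃ H : Subgroup (G ⧸ N), (H : Set (G ⧸ N)) = {g : (G ⧸ N) | g ^ p = 1}))
    (hns : ¬ IsSimpleGroup G) (hnp : ¬ IsPGroup p G) :
    ∃ q : ℕ, q.Prime ∧ q ≠ p ∧ Nat.card G = p * q ^ orderOf (q : ZMod p) ∧
      ∃ A : Subgroup G, A.Normal ∧ Nat.card ↥A = q ^ orderOf (q : ZMod p) ∧ Cfsg.IsElementaryAbelian q A ∧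
        ∀ B : Subgroup G, B.Normal → B ≤ A → B = ⊥ ∨ B = A := by
  classical
  have hp : p.Prime := Fact.out
  have hgen : Subgroup.closure {g : G | g ^ p = 1} = ⊤ := by
    by_contra hne
    obtain ⟨H, hH⟩ := hsub _ hne
    refine hnc ⟨H.map (Subgroup.closure {g : G | g ^ p = 1}).subtype, ?_⟩
    ext g
    constructor
    · rintro ⟨a, ha, rfl⟩
      have h1 : a ^ p = 1 := (Set.ext_iff.1 hH a).1 ha
      simpa using congrArg Subtype.val h1
    · intro hg
      exact ⟨⟨g, subset_closure hg⟩, (Set.ext_iff.1 hH _).2 (Subtype.ext hg), rfl⟩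
  haveI : Nontrivial G := by
    by_contra h
    rw [not_nontrivial_iff_subsingleton] at h
    exact hnc ⟨⊤, Set.ext fun g => ⟨fun _ => Subsingleton.elim _ _, fun _ => Subgroup.mem_top g⟩⟩
  obtain ⟨N, hN, hNb, hNt⟩ : ∃ N : Subgroup G, N.Normal ∧ N ≠ ⊥ ∧ N ≠ ⊤ := by
    by_contra h
    push Not at h
    exact hns ⟨fun N hN => (em (N = ⊥)).imp id (h N hN)⟩
  obtain ⟨A, hA, hAb, hAN, hmin⟩ := Cfsg.Agent.Lib.MinimalNormal.exists_minimal_normal_le hN hNb
  have hAt : A ≠ ⊤ := fun h => hNt (top_le_iff.1 (h ▸ hAN))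
  haveI := hA
  have hquot : ∀ g : G, g ^ p ∈ A := by
    obtain ⟨H, hH⟩ := hquo A hAb
    have h1 : ⊤ ≤ H.comap (QuotientGroup.mk' A) := by
      rw [← hgen, closure_le]
      intro g hg
      refine (Set.ext_iff.1 hH _).2 ?_
      show (QuotientGroup.mk' A g) ^ p = 1
      rw [← map_pow, show g ^ p = 1 from hg, map_one]
    intro g
    have h2 : (QuotientGroup.mk' A g) ^ p = 1 := (Set.ext_iff.1 hH _).1 (h1 (mem_top g))
    rw [← map_pow] at h2
    exact (QuotientGroup.eq_one_iff _).1 h2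
  have hpA : ¬ p ∣ Nat.card A := by
    intro hd
    obtain ⟨H, hH⟩ := hsub A hAt
    set B := H.map A.subtype with hB
    have hmemB : ∀ g, g ∈ B ↔ g ∈ A ∧ g ^ p = 1 := by
      intro g
      constructor
      · rintro ⟨a, ha, rfl⟩
        exact ⟨a.2, by simpa using congrArg Subtype.val ((Set.ext_iff.1 hH a).1 ha : a ^ p = 1)⟩
      · rintro ⟨ha, hg⟩
        exact ⟨⟨g, ha⟩, (Set.ext_iff.1 hH _).2 (Subtype.ext hg), rfl⟩
    have hBn : B.Normal := ⟨fun b hb g => by
      rw [hmemB] at hb ⊢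
      exact ⟨hA.conj_mem b hb.1 g, by rw [conj_pow, hb.2, mul_one, mul_inv_cancel]⟩⟩
    obtain ⟨a, ha⟩ := exists_prime_orderOf_dvd_card' (G := A) p hd
    have haB : (a : G) ∈ B := by
      rw [hmemB]
      exact ⟨a.2, by rw [← ha, ← Subgroup.orderOf_coe, pow_orderOf_eq_one]⟩
    have hBA : B = A := (hmin B hBn (map_subtype_le _)).resolve_left fun h => by
      rw [h, mem_bot] at haB
      rw [← Subgroup.orderOf_coe, haB, orderOf_one] at ha
      exact hp.ne_one ha.symm
    refine hnp fun g => ⟨2, ?_⟩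
    have := ((hmemB _).1 (hBA.symm ▸ hquot g)).2
    rwa [pow_two, pow_mul]
  have hcop : ∀ a ∈ A, a ^ p = 1 → a = 1 := by
    intro a ha hap
    rw [← orderOf_eq_one_iff]
    exact Nat.eq_one_of_dvd_coprimes (hp.coprime_iff_not_dvd.2 hpA) (orderOf_dvd_of_pow_eq_one hap)
      (A.orderOf_dvd_natCard ha)
  obtain ⟨x, hxp, hxc⟩ : ∃ x : G, x ^ p = 1 ∧ x ∉ centralizer (A : Set G) := by
    by_contra h
    push Not at h
    have hAz : ∀ a ∈ A, ∀ g : G, g * a = a * g := by
      intro a ha g
      have : g ∈ centralizer (A : Set G) :=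
        (closure_le _).2 (fun y hy => h y hy) (hgen ▸ mem_top g)
      exact (mem_centralizer_iff.1 this a ha).symm
    obtain ⟨P⟩ : Nonempty (Sylow p G) := inferInstance
    have hPA : (P : Subgroup G) ⊔ A = ⊤ := by
      rw [eq_top_iff, ← hgen, closure_le]
      intro y hy
      have hyp : IsPGroup p (Subgroup.zpowers y) := by
        obtain ⟨j, -, hj⟩ := (Nat.dvd_prime_pow hp).1 (show orderOf y ∣ p ^ 1 by
          rw [pow_one]; exact orderOf_dvd_of_pow_eq_one hy)
        exact IsPGroup.of_card (n := j) (by rw [Nat.card_zpowers, hj])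
      obtain ⟨Q, hQ⟩ := hyp.exists_le_sylow
      have hq : IsPGroup p (G ⧸ A) := fun q => by
        obtain ⟨g, rfl⟩ := QuotientGroup.mk'_surjective A q
        refine ⟨1, ?_⟩
        rw [pow_one, ← map_pow]
        exact (QuotientGroup.eq_one_iff _).2 (hquot g)
      have hsurj : (P : Subgroup G).map (QuotientGroup.mk' A) = ⊤ := by
        have e := (P.mapSurjective (QuotientGroup.mk'_surjective A)).is_maximal'
          (hq.to_subgroup ⊤) le_top
        rw [Sylow.coe_mapSurjective] at e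
        exact e.symm
      have h2 : QuotientGroup.mk' A y ∈ (P : Subgroup G).map (QuotientGroup.mk' A) := by
        rw [hsurj]; exact mem_top _
      rw [← mem_comap, comap_map_eq, QuotientGroup.ker_mk'] at h2
      exact h2
    have hPn : (P : Subgroup G).Normal := by
      rw [← normalizer_eq_top_iff, eq_top_iff, ← hPA]
      refine sup_le le_normalizer fun a ha => ?_
      rw [mem_normalizer_iff]
      intro b
      rw [← hAz a ha b, mul_inv_cancel_right]
    haveI := Sylow.unique_of_normal P hPn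
    refine hnp (P.isPGroup'.of_equiv ?_)
    have hPtop : (P : Subgroup G) = ⊤ := by
      rw [eq_top_iff, ← hgen, closure_le]
      intro y hy
      have hyp : IsPGroup p (Subgroup.zpowers y) := by
        obtain ⟨j, -, hj⟩ := (Nat.dvd_prime_pow hp).1 (show orderOf y ∣ p ^ 1 by
          rw [pow_one]; exact orderOf_dvd_of_pow_eq_one hy)
        exact IsPGroup.of_card (n := j) (by rw [Nat.card_zpowers, hj])
      obtain ⟨Q, hQ⟩ := hyp.exists_le_sylow
      rw [Subsingleton.elim P Q]
      exact hQ (mem_zpowers y)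
    exact (MulEquiv.subgroupCongr hPtop).trans Subgroup.topEquiv
  have hx : orderOf x = p := orderOf_eq_prime hxp fun h => hxc (h ▸ one_mem _)
  have hcent : ∀ R : Subgroup G, R ≤ A → R ⊔ Subgroup.zpowers x ≠ ⊤ →
      x ∈ centralizer (R : Set G) := by
    intro R hRA hne
    rw [mem_centralizer_iff]
    intro b hb
    obtain ⟨H, hH⟩ := hsub _ hne
    have hxH : (⟨x, mem_sup_right (mem_zpowers x)⟩ : ↥(R ⊔ Subgroup.zpowers x)) ∈ H :=
      (Set.ext_iff.1 hH _).2 (Subtype.ext hxp)
    have hbH : (⟨b, mem_sup_left hb⟩ : ↥(R ⊔ Subgroup.zpowers x)) * ⟨x, mem_sup_right (mem_zpowers x)⟩ *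
        (⟨b, mem_sup_left hb⟩ : ↥(R ⊔ Subgroup.zpowers x))⁻¹ ∈ H :=
      (Set.ext_iff.1 hH _).2 (show _ ^ p = 1 by
        rw [conj_pow, show (⟨x, _⟩ : ↥(R ⊔ Subgroup.zpowers x)) ^ p = 1 from Subtype.ext hxp,
          mul_one, mul_inv_cancel])
    have hcH := (Set.ext_iff.1 hH _).1 (H.mul_mem hbH (H.inv_mem hxH))
    simp only [Set.mem_ofPred_eq] at hcH
    have h1 := congrArg Subtype.val hcH
    simp only [SubmonoidClass.coe_pow, Subgroup.coe_mul, InvMemClass.coe_inv, OneMemClass.coe_one] at h1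
    have hc : b * x * b⁻¹ * x⁻¹ ∈ A := by
      have := A.mul_mem (hRA hb) (hA.conj_mem _ (A.inv_mem (hRA hb)) x)
      simpa [mul_assoc] using this
    have h2 := hcop _ hc h1
    rw [mul_inv_eq_one, mul_inv_eq_iff_eq_mul] at h2
    exact h2
  have htop : A ⊔ Subgroup.zpowers x = ⊤ := by
    by_contra hne
    exact hxc (hcent A le_rfl hne)
  exact structure_of_proper_centralized A hpA hmin x hx htop hxc fun R hRA _ hne => hcent R hRA hne

end Cfsg.Agent.S3873
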