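import Cfsg.Statements.S3875
import Mathlib
import Cfsg.Agent.Lib.LeastNonClosed.Bound
import Cfsg.Agent.Lib.LinGroup.Simple
import Cfsg.Agent.Lib.LinGroup.Order

set_option autoImplicit false
open Cfsg

namespace Cfsg.Agent.S3875

open Subgroup

/-- Multiplication by units on the additive group of a field. -/
def mulHom (F : Type) [Field F] : Fˣ →* MulAut (Multiplicative F) where
  toFun u :=
    { toFun := fun a => Multiplicative.ofAdd ((u : F) * Multiplicative.toAdd a)
      invFun := fun a => Multiplicative.ofAdd ((↑u⁻¹ : F) * Multiplicative.toAdd a)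
      left_inv := fun a => by simp
      right_inv := fun a => by simp
      map_mul' := fun a b => by simp [mul_add] }
  map_one' := MulEquiv.ext fun a => by simp
  map_mul' u v := MulEquiv.ext fun a => by simp [mul_assoc]

theorem exists_affine (p : ℕ) [hp : Fact p.Prime] {m : ℕ} (hm : IsPrimePow m) (hm1 : m % p = 1) :
    ∃ (H : Type) (_ : Group H) (_ : Finite H), Nat.card H = p * m ∧ ¬ Cfsg.IsPClosed p H := by
  obtain ⟨r, a, hr, ha, rfl⟩ := hm
  have : Fact r.Prime := ⟨hr.nat_prime⟩
  let F := GaloisField r a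
  have hF : Nat.card F = r ^ a := GaloisField.card r a ha.ne'
  have := Fintype.ofFinite F
  have hdvd : p ∣ Nat.card Fˣ := by
    rw [Nat.card_units, hF]
    have : p ∣ r ^ a - r ^ a % p := Nat.dvd_sub_mod _
    rwa [hm1] at this
  obtain ⟨u, hu⟩ := exists_prime_orderOf_dvd_card' p hdvd
  let φ : zpowers u →* MulAut (Multiplicative F) := (mulHom F).comp (zpowers u).subtype
  let H := SemidirectProduct (Multiplicative F) (zpowers u) φ
  have hfin : Finite H := Finite.of_equiv _ SemidirectProduct.equivProd.symm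
  have hcard : Nat.card H = p * r ^ a := by
    rw [SemidirectProduct.card, Nat.card_zpowers, hu, mul_comm]
    exact congrArg (p * ·) hF
  refine ⟨H, inferInstance, hfin, hcard, fun hc => ?_⟩
  let x : H := SemidirectProduct.inr ⟨u, mem_zpowers u⟩
  let b : H := SemidirectProduct.inl (Multiplicative.ofAdd (1 : F))
  obtain ⟨P, hP⟩ := (IsPGroup.of_card (n := 1) (G := zpowers x) (by
    rw [Nat.card_zpowers, pow_one, orderOf_injective SemidirectProduct.inr
      SemidirectProduct.inr_injective, Subgroup.orderOf_mk, hu])).exists_le_sylow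
  have hPc : Nat.card P = p := by
    have hnp : ¬ p ∣ r ^ a := fun h => by
      rw [Nat.mod_eq_zero_of_dvd h] at hm1
      omega
    rw [P.card_eq_multiplicity, hcard, Nat.factorization_mul hp.out.ne_zero (pow_ne_zero a hr.nat_prime.ne_zero),
      Finsupp.add_apply, hp.out.factorization_self, Nat.factorization_eq_zero_of_not_dvd hnp, pow_one]
  have hle : (P : Subgroup H) ≤ (SemidirectProduct.inr : zpowers u →* H).range := by
    rw [← eq_of_le_of_card_ge hP (by
      rw [hPc, Nat.card_zpowers, orderOf_injective SemidirectProduct.inr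
        SemidirectProduct.inr_injective, Subgroup.orderOf_mk, hu]), zpowers_le]
    exact ⟨_, rfl⟩
  obtain ⟨c, hcx⟩ := hle ((hc P).conj_mem x (hP (mem_zpowers x)) b)
  have hc' : c = ⟨u, mem_zpowers u⟩ := by
    have h := congrArg SemidirectProduct.rightHom hcx
    simp only [x, b, map_mul, map_inv, SemidirectProduct.rightHom_inr, SemidirectProduct.rightHom_inl, one_mul, inv_one, mul_one] at h
    exact h
  subst hc'
  have hcomm : x * b * x⁻¹ = b := by
    rw [mul_inv_eq_iff_eq_mul]
    exact eq_mul_inv_iff_mul_eq.mp hcx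
  have hinl : SemidirectProduct.inl (φ := φ) (φ ⟨u, mem_zpowers u⟩ (Multiplicative.ofAdd (1 : F))) = b := by
    rw [SemidirectProduct.inl_aut]
    exact (congrArg (fun z => x * b * z) (map_inv SemidirectProduct.inr _)).trans hcomm
  have h := SemidirectProduct.inl_injective hinl
  have h1 : (u : F) = 1 := by
    simpa [φ, mulHom] using congrArg Multiplicative.toAdd h
  rw [Units.val_eq_one.mp h1, orderOf_one] at hu
  exact hp.out.ne_one hu.symm

theorem exists_psl (p : ℕ) [hp : Fact p.Prime] (h5 : 5 ≤ p) :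
    ∃ (H : Type) (_ : Group H) (_ : Finite H),
      Nat.card H = p * (p ^ 2 - 1) / 2 ∧ ¬ Cfsg.IsPClosed p H := by
  have hcard := Lib.LinGroup.card_PSL_mul (F := ZMod p) 2 (by norm_num)
  have hodd : p % 2 = 1 := hp.out.eq_two_or_odd.resolve_left (by omega)
  rw [ZMod.card, Fin.prod_univ_two, Nat.gcd_eq_left (by omega : 2 ∣ p - 1)] at hcard
  simp only [Fin.val_zero, Fin.val_one, pow_zero, pow_one] at hcard
  set c := Nat.card (Matrix.ProjectiveSpecialLinearGroup (Fin 2) (ZMod p)) with hc
  have hc2 : 2 * c = p * (p ^ 2 - 1) := by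
    refine Nat.eq_of_mul_eq_mul_left (by omega : 0 < p - 1) ?_
    rw [Nat.mul_left_comm, hcard, pow_two, show p * p - p = (p - 1) * p by rw [Nat.sub_mul, one_mul]]
    ring
  refine ⟨Matrix.ProjectiveSpecialLinearGroup (Fin 2) (ZMod p), inferInstance, inferInstance,
    by omega, fun hcl => ?_⟩
  have : IsSimpleGroup (Matrix.ProjectiveSpecialLinearGroup (Fin 2) (ZMod p)) :=
    Lib.LinGroup.isSimpleGroup_PSL_fin (by norm_num) (fun _ => by rw [Nat.card_zmod]; omega)
  obtain ⟨P⟩ : Nonempty (Sylow p (Matrix.ProjectiveSpecialLinearGroup (Fin 2) (ZMod p))) := inferInstance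
  have hpc : p ∣ c := by
    rcases hp.out.dvd_mul.mp (hc2 ▸ dvd_mul_right p _ : p ∣ 2 * c) with h | h
    · have := Nat.le_of_dvd (by omega) h
      omega
    · exact h
  rcases (hcl P).eq_bot_or_eq_top with h | h
  · exact P.ne_bot_of_dvd_card hpc h
  · obtain ⟨j, hj⟩ := P.isPGroup'.exists_card_eq
    rw [h, card_top, ← hc] at hj
    have h2 : 2 ∣ p * (p ^ 2 - 1) / 2 := by
      have h4 : 4 ∣ p ^ 2 - 1 := by
        obtain ⟨w, rfl⟩ : ∃ w, p = 2 * w + 1 := ⟨p / 2, by omega⟩
        exact ⟨w * w + w, by ring_nf; omega⟩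
      obtain ⟨w, hw⟩ := h4
      exact ⟨p * w, by rw [hw, show p * (4 * w) = 2 * (p * w) * 2 by ring, Nat.mul_div_cancel _ two_pos]⟩
    rw [show p * (p ^ 2 - 1) / 2 = c by omega, hj] at h2
    have := (Nat.prime_dvd_prime_iff_eq Nat.prime_two hp.out).mp (Nat.prime_two.dvd_of_dvd_pow h2)
    omega

/-- Let p be an odd prime and let m be the least prime power congruent to 1 modulo p. Then the least order of a finite group whose Sylow p-subgroups are not normal is the smaller of p · m and p(p² − 1)/2: every finite group whose Sylow p-subgroups are not normal has at least that order, and some group of exactly that order has non-normal Sylow p-subgroups. -/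
theorem result (p : ℕ) [Fact p.Prime] (hp : p ≠ 2) (m : ℕ) (hm : IsPrimePow m) (hm1 : m % p = 1)
    (hleast : ∀ k : ℕ, IsPrimePow k → k % p = 1 → m ≤ k) :
    (∀ (H : Type) [Group H] [Finite H], ¬ Cfsg.IsPClosed p H → min (p * m) (p * (p ^ 2 - 1) / 2) ≤ Nat.card H) ∧
      ∃ (H : Type) (_ : Group H) (_ : Finite H), Nat.card H = min (p * m) (p * (p ^ 2 - 1) / 2) ∧ ¬ Cfsg.IsPClosed p H := by
  refine ⟨fun H _ _ h => Lib.LeastNonClosed.le_card hp hleast (Nat.card H) H le_rfl h, ?_⟩
  by_cases hle : p * m ≤ p * (p ^ 2 - 1) / 2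
  · rw [min_eq_left hle]
    exact exists_affine p hm hm1
  · rw [min_eq_right (le_of_not_ge hle)]
    refine exists_psl p ?_
    by_contra h5
    have hprime := (Fact.out : p.Prime)
    have hp3 : p = 3 := by
      have := hprime.two_le
      rcases (show p = 3 ∨ p = 4 by omega) with h | rfl
      · exact h
      · norm_num at hprime
    subst hp3
    have := hleast 4 ⟨2, 2, Nat.prime_two.prime, by norm_num, by norm_num⟩ (by norm_num)
    omega

end Cfsg.Agent.S3875
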