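import Cfsg.Statements.S3883
import Mathlib
import Cfsg.Agent.Lib.Metacyclic.Elements

set_option autoImplicit false
open Cfsg

namespace Cfsg.Agent.S3883


open Subgroup Cfsg.Agent.Lib.Metacyclic


/-- Let p be an odd prime and G a finite metacyclic p-group (G has a cyclic normal subgroup with cyclic quotient). Suppose G is non-abelian. Then an element g of G lies outside the Frattini subgroup if and only if its centralizer C_G(g) is abelian. -/
theorem result {G : Type*} [Group G] [Finite G] {p : ℕ} [Fact p.Prime] (hp : p ≠ 2) (hG : IsPGroup p G) (hmc : Cfsg.IsMetacyclic G) (hna : ¬ IsMulCommutative G) (g : G) :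
    g ∉ frattini G ↔ IsMulCommutative ↥(Subgroup.centralizer ({g} : Set G)) := by
  obtain ⟨C⟩ := exists_coord hG hmc
  have hn : 0 < C.n := by
    refine Nat.pos_of_ne_zero fun h => hna ?_
    have := C.card_commutator
    rw [h, pow_zero, Subgroup.card_eq_one, commutator_eq_bot_iff] at this
    exact this
  rw [C.not_mem_frattini_iff hp hG hn, C.isMulCommutative_centralizer_iff hp hn]

end Cfsg.Agent.S3883
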