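import Cfsg.Statements.S3884
import Mathlib
import Cfsg.Agent.Lib.Metacyclic.Subgroups

set_option autoImplicit false
open Cfsg

namespace Cfsg.Agent.S3884


open Subgroup Cfsg.Agent.Lib.Metacyclic

theorem fixed_point_exists {p : ℕ} (F : ℕ → ℕ)
    (hF : ∀ k w w', w ≡ w' [MOD p ^ k] → F w ≡ F w' [MOD p ^ (k + 1)]) (m : ℕ) :
    ∃ w, F w ≡ w [MOD p ^ m] := by
  refine ⟨F^[m] 0, ?_⟩
  induction m with
  | zero => simp [Nat.modEq_one]
  | succ k ih =>
    rw [Function.iterate_succ_apply']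
    exact hF k _ _ ih

theorem inf_zpowers_eq_bot {G : Type*} [Group G] [Finite G] (A : Subgroup G) (y : G)
    (h : ∀ k : ℕ, y ^ k ∈ A → y ^ k = 1) : A ⊓ Subgroup.zpowers y = ⊥ := by
  rw [eq_bot_iff]
  rintro z ⟨hzA, hzy⟩
  obtain ⟨k, rfl⟩ := mem_powers_iff_mem_zpowers.2 hzy
  exact Subgroup.mem_bot.2 (h k hzA)


/-- Let p be an odd prime and G a finite metacyclic p-group (G has a cyclic normal subgroup with cyclic quotient). Then G is the product of two cyclic subgroups with trivial intersection: there are cyclic subgroups A and B with A ∩ B = 1 and |A| · |B| = |G|. -/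
theorem result {G : Type*} [Group G] [Finite G] {p : ℕ} [Fact p.Prime] (hp : p ≠ 2) (hG : IsPGroup p G) (hmc : Cfsg.IsMetacyclic G) : ∃ A B : Subgroup G, IsCyclic ↥A ∧ IsCyclic ↥B ∧ A ⊓ B = ⊥ ∧ Nat.card ↥A * Nat.card ↥B = Nat.card G := by
  obtain ⟨C⟩ := exists_coord hG hmc
  have hp' : p.Prime := Fact.out
  obtain ⟨s₀, hs₀⟩ := C.pow_l
  obtain ⟨s, hsm, hs⟩ : ∃ s < p ^ C.m, C.x ^ p ^ C.l = C.a ^ s :=
    ⟨s₀ % p ^ C.m, Nat.mod_lt _ (pow_pos hp'.pos _), by
      rw [hs₀, ← C.orderOf_a, pow_mod_orderOf]⟩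
  have hcG := C.card_group
  have hpm : 1 ≤ p ^ C.m := Nat.one_le_pow _ _ hp'.pos
  by_cases hls : p ^ C.l ∣ s
  · obtain ⟨s', rfl⟩ := hls
    obtain ⟨A, hA, hA'⟩ := exists_gsum_pow_eq hp C.r_cast C.l
    obtain ⟨A', hAA⟩ := exists_mul_modEq_one (M := C.m) hA'
    set t := A' * ((p ^ C.m - 1) * s')
    set x' := C.a ^ t * C.x ^ 1 with hx'
    have hx'1 : x' ^ p ^ C.l = 1 := by
      rw [hx', C.rep_pow, pow_one, one_mul, hs, ← pow_add, hA,
        ← orderOf_dvd_iff_pow_eq_one, C.orderOf_a]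
      have h1 : t * A + s' ≡ 0 [MOD p ^ C.m] := by
        have h2 : t * A ≡ (p ^ C.m - 1) * s' [MOD p ^ C.m] := by
          have := hAA.mul_right ((p ^ C.m - 1) * s')
          rw [one_mul] at this
          rwa [show t * A = A * A' * ((p ^ C.m - 1) * s') by simp only [t]; ring]
        refine (h2.add_right s').trans ?_
        rw [show (p ^ C.m - 1) * s' + s' = p ^ C.m * s' by
          conv_rhs => rw [show p ^ C.m = p ^ C.m - 1 + 1 by omega]
          ring]
        exact Nat.modEq_zero_iff_dvd.2 (dvd_mul_right _ _)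
      rw [show t * (p ^ C.l * A) + p ^ C.l * s' = p ^ C.l * (t * A + s') by ring]
      exact dvd_mul_of_dvd_right (Nat.modEq_zero_iff_dvd.1 h1) _
    have hk : ∀ k : ℕ, x' ^ k ∈ Subgroup.zpowers C.a → p ^ C.l ∣ k := by
      intro k hk
      refine C.dvd_of_mem k ?_
      rw [hx', C.rep_pow, one_mul] at hk
      exact (Subgroup.mul_mem_cancel_left _ (npow_mem_zpowers _ _)).1 hk
    have hox : orderOf x' = p ^ C.l := Nat.dvd_antisymm (orderOf_dvd_of_pow_eq_one hx'1)
      (hk _ (by rw [pow_orderOf_eq_one]; exact Subgroup.one_mem _))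
    refine ⟨Subgroup.zpowers C.a, Subgroup.zpowers x', Subgroup.isCyclic_zpowers _,
      Subgroup.isCyclic_zpowers _, ?_, ?_⟩
    · refine inf_zpowers_eq_bot _ _ fun k hk' => ?_
      rw [← orderOf_dvd_iff_pow_eq_one, hox]
      exact hk k hk'
    · rw [Nat.card_zpowers, Nat.card_zpowers, C.orderOf_a, hox, hcG, pow_add]
  · have hs0 : s ≠ 0 := fun h => hls (h ▸ dvd_zero _)
    obtain ⟨σ, u, hu, rfl⟩ := Nat.exists_eq_pow_mul_and_not_dvd hs0 p hp'.ne_one
    have hσl : σ < C.l := by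
      by_contra h
      exact hls ((pow_dvd_pow p (not_lt.1 h)).trans (dvd_mul_right _ _))
    have hσm : σ < C.m := by
      by_contra h
      have h1 : p ^ C.m ≤ p ^ σ * u :=
        (Nat.pow_le_pow_right hp'.pos (not_lt.1 h)).trans
          (Nat.le_mul_of_pos_right _ (Nat.pos_of_ne_zero fun hu0 => hu (hu0 ▸ dvd_zero _)))
      omega
    set Q := C.r ^ p ^ (C.l - σ) with hQ
    have hQc : (Q : ZMod p) = 1 := cast_pow_eq_one C.r_cast _
    let A : ℕ → ℕ := fun w => gsum (Q ^ w) (p ^ σ) / p ^ σ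
    have hA : ∀ w, gsum (Q ^ w) (p ^ σ) = p ^ σ * A w := fun w =>
      (Nat.mul_div_cancel' (pow_dvd_gsum_pow (cast_pow_eq_one hQc w) σ)).symm
    obtain ⟨u', huu⟩ := exists_mul_modEq_one (M := C.m) hu
    let F : ℕ → ℕ := fun w => u' * ((p ^ C.m - 1) * A w)
    have hF : ∀ k w w', w ≡ w' [MOD p ^ k] → F w ≡ F w' [MOD p ^ (k + 1)] := by
      intro k w w' h
      refine (Nat.ModEq.mul_left _ ?_).mul_left _
      have h1 := pow_sub_pow_dvd hQc h
      have h2 : ((p ^ (σ + (k + 1)) : ℕ) : ℤ) ∣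
          (gsum (Q ^ w) (p ^ σ) : ℤ) - gsum (Q ^ w') (p ^ σ) :=
        sub_gsum_pow_dvd hp (cast_pow_eq_one hQc w) (cast_pow_eq_one hQc w')
          (by push_cast; exact_mod_cast h1) σ
      rw [hA, hA, pow_add, Nat.cast_mul, Nat.cast_mul, Nat.cast_mul, ← mul_sub] at h2
      have h3 := (mul_dvd_mul_iff_left (by exact_mod_cast pow_ne_zero σ hp'.ne_zero)).1 h2
      exact (Nat.modEq_iff_dvd.2 h3).symm
    obtain ⟨w, hw⟩ := fixed_point_exists F hF C.m
    set y := C.a ^ 1 * C.x ^ (p ^ (C.l - σ) * w) with hy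
    have hpσ : p ^ (C.l - σ) * p ^ σ = p ^ C.l := by rw [← pow_add]; congr 1; omega
    have hy1 : y ^ p ^ σ = 1 := by
      rw [hy, C.rep_pow, one_mul, pow_mul C.r, ← hQ, hA,
        show p ^ (C.l - σ) * w * p ^ σ = p ^ C.l * w by rw [← hpσ]; ring, pow_mul C.x, hs, ← pow_mul,
        ← pow_add, ← orderOf_dvd_iff_pow_eq_one, C.orderOf_a, mul_assoc, ← mul_add]
      refine dvd_mul_of_dvd_right (Nat.modEq_zero_iff_dvd.1 ?_) _
      have h1 : u * w ≡ (p ^ C.m - 1) * A w [MOD p ^ C.m] := by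
        refine ((hw.symm.mul_left u)).trans ?_
        have := huu.mul_right ((p ^ C.m - 1) * A w)
        rw [one_mul] at this
        rwa [show u * F w = u * u' * ((p ^ C.m - 1) * A w) by simp only [F]; ring]
      refine (h1.add_left (A w)).trans ?_
      rw [show A w + (p ^ C.m - 1) * A w = p ^ C.m * A w by
        conv_rhs => rw [show p ^ C.m = p ^ C.m - 1 + 1 by omega]
        ring]
      exact Nat.modEq_zero_iff_dvd.2 (dvd_mul_right _ _)
    have hk : ∀ k : ℕ, y ^ k ∈ Subgroup.zpowers C.x → p ^ σ ∣ k := by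
      intro k hk
      rw [hy, C.rep_pow, one_mul] at hk
      have h1 := (Subgroup.mul_mem_cancel_right _ (npow_mem_zpowers _ _)).1 hk
      obtain ⟨z, hz⟩ := mem_powers_iff_mem_zpowers.2 h1
      simp only at hz
      obtain ⟨c, rfl⟩ := C.dvd_of_mem z (hz ▸ npow_mem_zpowers _ _)
      rw [pow_mul, hs, ← pow_mul, pow_eq_pow_iff_modEq, C.orderOf_a] at hz
      have h2 := ((hz.of_dvd (pow_dvd_pow p hσm.le)).dvd_iff dvd_rfl).1
        ((dvd_mul_right _ _).trans (dvd_mul_right _ _))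
      exact (pow_dvd_gsum_iff hp (cast_pow_eq_one C.r_cast _) σ k).1 h2
    have hoy : orderOf y = p ^ σ := Nat.dvd_antisymm (orderOf_dvd_of_pow_eq_one hy1)
      (hk _ (by rw [pow_orderOf_eq_one]; exact Subgroup.one_mem _))
    have hox : orderOf C.x = p ^ (C.l + (C.m - σ)) := by
      have hd : p ^ C.l ∣ orderOf C.x :=
        C.dvd_of_mem _ (by rw [pow_orderOf_eq_one]; exact Subgroup.one_mem _)
      have h1 := orderOf_pow_of_dvd (x := C.x) (pow_ne_zero _ hp'.ne_zero) hd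
      rw [hs, orderOf_pow, C.orderOf_a, Nat.Coprime.gcd_mul_right_cancel_right _
        ((hp'.coprime_iff_not_dvd.2 hu).symm.pow_right _), Nat.gcd_eq_right (pow_dvd_pow p hσm.le),
        Nat.pow_div hσm.le hp'.pos] at h1
      rw [pow_add, h1, Nat.mul_div_cancel' hd]
    refine ⟨Subgroup.zpowers C.x, Subgroup.zpowers y, Subgroup.isCyclic_zpowers _,
      Subgroup.isCyclic_zpowers _, ?_, ?_⟩
    · refine inf_zpowers_eq_bot _ _ fun k hk' => ?_
      rw [← orderOf_dvd_iff_pow_eq_one, hoy]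
      exact hk k hk'
    · rw [Nat.card_zpowers, Nat.card_zpowers, hox, hoy, hcG, ← pow_add]
      congr 1
      omega

end Cfsg.Agent.S3884
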