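import Cfsg.Statements.S3885
import Mathlib
import Cfsg.Agent.Lib.Metacyclic.Subgroups

set_option autoImplicit false
open Cfsg

namespace Cfsg.Agent.S3885


open Subgroup Cfsg.Agent.Lib.Metacyclic


/-- Let p be an odd prime and G a finite metacyclic p-group (G has a cyclic normal subgroup with cyclic quotient). Then every abelian subgroup K of G containing the center of G is the center of its own centralizer: K = Z(C_G(K)). -/
theorem result {G : Type*} [Group G] [Finite G] {p : ℕ} [Fact p.Prime] (hp : p ≠ 2) (hG : IsPGroup p G) (hmc : Cfsg.IsMetacyclic G) (K : Subgroup G) (hK : IsMulCommutative ↥K) (hZ : Subgroup.center G ≤ K) :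
    K = Subgroup.centralizer (K : Set G) ⊓ Subgroup.centralizer (Subgroup.centralizer (K : Set G) : Set G) := by
  obtain ⟨C⟩ := exists_coord hG hmc
  set D := Subgroup.centralizer (K : Set G) with hD
  have hKD : K ≤ D := by
    intro a ha
    rw [hD, Subgroup.mem_centralizer_iff]
    exact fun b hb => congrArg Subtype.val (hK.1.1 ⟨b, hb⟩ ⟨a, ha⟩)
  have hKK : K ≤ Subgroup.centralizer (D : Set G) := Subgroup.le_centralizer_iff.1 le_rfl
  have e1 := (C.card_mul_card_centralizer_le hp K).2.2 hZ
  have e2 := (C.card_mul_card_centralizer_le hp D).2.2 (Subgroup.center_le_centralizer _)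
  rw [← hD, mul_comm] at e1
  have e3 := Nat.eq_of_mul_eq_mul_left Nat.card_pos (e2.trans e1.symm)
  rw [← Subgroup.eq_of_le_of_card_ge hKK e3.le]
  exact (inf_eq_right.2 hKD).symm

end Cfsg.Agent.S3885
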