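import Cfsg.Statements.S3886
import Mathlib
import Cfsg.Agent.Lib.Metacyclic.Subgroups

set_option autoImplicit false
open Cfsg

namespace Cfsg.Agent.S3886


open Subgroup Cfsg.Agent.Lib.Metacyclic


/-- Let p be an odd prime and G a finite metacyclic p-group (G has a cyclic normal subgroup with cyclic quotient). Then the largest value of |R| · |Z(R)| over subgroups R of G is |G : G'|², and the subgroups attaining it (the centrally large subgroups) are exactly the non-abelian subgroups together with the maximal abelian subgroups of G. -/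
theorem result {G : Type*} [Group G] [Finite G] {p : ℕ} [Fact p.Prime] (hp : p ≠ 2) (hG : IsPGroup p G) (hmc : Cfsg.IsMetacyclic G) : Cfsg.maxCentralProduct G = (commutator G).index ^ 2 ∧
    ∀ R : Subgroup G, Cfsg.IsCentrallyLarge R ↔ (¬ IsMulCommutative ↥R ∨ Maximal (fun K : Subgroup G => IsMulCommutative ↥K) R) := by
  obtain ⟨C⟩ := exists_coord hG hmc
  have hnm := C.n_le_m
  have key : ∀ R : Subgroup G, Nat.card R * Nat.card (Subgroup.center R) ≤ (commutator G).index ^ 2 ∧
      (Nat.card R * Nat.card (Subgroup.center R) = (commutator G).index ^ 2 ↔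
        (¬ IsMulCommutative R ∨ Maximal (fun K : Subgroup G => IsMulCommutative ↥K) R)) := by
    intro R
    obtain ⟨α, β, γ, h⟩ := C.exists_params R
    rw [h.maximal_iff hp, h.isMulCommutative_iff hp]
    have e := h.card_mul_card_center hG hp
    have hα := h.1
    have hβ := h.2.1
    obtain ⟨k, hk⟩ : ∃ k, Nat.card R * Nat.card (Subgroup.center R) = p ^ k := by
      obtain ⟨k, -, hk⟩ := (Nat.dvd_prime_pow Fact.out).1 (⟨_, e.symm⟩ :
        Nat.card R * Nat.card (Subgroup.center R) ∣ p ^ (2 * ((C.m - α) + (C.l - β))))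
      exact ⟨k, hk⟩
    rw [hk, ← pow_add] at e
    have ek := Nat.pow_right_injective (Fact.out (p := p.Prime)).two_le e
    rw [hk, C.index_commutator, ← pow_mul,
      Nat.pow_le_pow_iff_right (Fact.out (p := p.Prime)).one_lt,
      Nat.pow_right_inj (Fact.out (p := p.Prime)).two_le]
    omega
  have hmax : Cfsg.maxCentralProduct G = (commutator G).index ^ 2 := by
    refine IsGreatest.csSup_eq ⟨⟨⊤, (key ⊤).2.2 ?_⟩, ?_⟩
    · by_cases h : IsMulCommutative (⊤ : Subgroup G)
      · exact Or.inr ⟨h, fun K _ _ => le_top⟩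
      · exact Or.inl h
    · rintro k ⟨S, rfl⟩
      exact (key S).1
  refine ⟨hmax, fun R => ?_⟩
  rw [Cfsg.IsCentrallyLarge, hmax]
  exact (key R).2

end Cfsg.Agent.S3886
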