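import Cfsg.Statements.S3889
import Mathlib

set_option autoImplicit false
open Cfsg

namespace Cfsg.Agent.S3889


open Subgroup

theorem orderOf_dvd_of_separated {G : Type*} [CommGroup G] [Finite G] (𝓑 : Set (Subgroup G))
    (hcov : ∀ g : G, ∃ B ∈ 𝓑, g ∈ B) (hdisj : ∀ B ∈ 𝓑, ∀ C ∈ 𝓑, B ≠ C → B ⊓ C = ⊥)
    {B : Subgroup G} (hB : B ∈ 𝓑) {a c : G} (ha : a ∈ B) (hc : c ∉ B) (ha1 : a ≠ 1) :
    orderOf c ∣ orderOf a := by
  obtain ⟨C, hC, hcC⟩ := hcov c
  obtain ⟨D, hD, hD'⟩ := hcov (a * c)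
  have hBC : B ≠ C := fun h => hc (h ▸ hcC)
  have hDC : D ≠ C := by
    rintro rfl
    have : a ∈ B ⊓ D := ⟨ha, by simpa using D.mul_mem hD' (D.inv_mem hcC)⟩
    rw [hdisj B hB D hC hBC] at this
    exact ha1 (mem_bot.1 this)
  apply orderOf_dvd_of_pow_eq_one
  have h1 : (a * c) ^ orderOf a = c ^ orderOf a := by rw [mul_pow, pow_orderOf_eq_one, one_mul]
  have h2 : c ^ orderOf a ∈ D ⊓ C := ⟨h1 ▸ D.pow_mem hD' _, C.pow_mem hcC _⟩
  rw [hdisj D hD C hC hDC] at h2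
  exact mem_bot.1 h2


/-- A finite abelian group that is the union of a family of proper subgroups any two of which intersect trivially is elementary abelian: its exponent is a prime. -/
theorem result {G : Type*} [CommGroup G] [Finite G] (𝓑 : Set (Subgroup G)) (hprop : ∀ B ∈ 𝓑, B ≠ ⊤)
    (hcov : ∀ g : G, ∃ B ∈ 𝓑, g ∈ B) (hdisj : ∀ B ∈ 𝓑, ∀ C ∈ 𝓑, B ≠ C → B ⊓ C = ⊥) :
    (Monoid.exponent G).Prime := by
  classical
  have hall : ∀ a b : G, a ≠ 1 → b ≠ 1 → orderOf a = orderOf b := by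
    intro a b ha hb
    obtain ⟨B, hB, haB⟩ := hcov a
    obtain ⟨C, hC, hbC⟩ := hcov b
    have key : ∀ c : G, c ∉ B → orderOf c = orderOf a := by
      intro c hc
      obtain ⟨D, hD, hcD⟩ := hcov c
      have hc1 : c ≠ 1 := fun h => hc (h ▸ B.one_mem)
      have haD : a ∉ D := fun h => by
        have : a ∈ B ⊓ D := ⟨haB, h⟩
        rw [hdisj B hB D hD (fun h' => hc (h' ▸ hcD))] at this
        exact ha (Subgroup.mem_bot.1 this)
      exact Nat.dvd_antisymm (orderOf_dvd_of_separated 𝓑 hcov hdisj hB haB hc ha)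
        (orderOf_dvd_of_separated 𝓑 hcov hdisj hD hcD haD hc1)
    by_cases hbB : b ∈ B
    · obtain ⟨c, hc⟩ : ∃ c, c ∉ B := by
        by_contra h; push Not at h; exact hprop B hB ((Subgroup.eq_top_iff' B).2 h)
      obtain ⟨D, hD, hcD⟩ := hcov c
      have hc1 : c ≠ 1 := fun h => hc (h ▸ B.one_mem)
      have hbD : b ∉ D := fun h => by
        have : b ∈ B ⊓ D := ⟨hbB, h⟩
        rw [hdisj B hB D hD (fun h' => hc (h' ▸ hcD))] at this
        exact hb (Subgroup.mem_bot.1 this)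
      rw [← key c hc]
      exact Nat.dvd_antisymm (orderOf_dvd_of_separated 𝓑 hcov hdisj hB hbB hc hb)
        (orderOf_dvd_of_separated 𝓑 hcov hdisj hD hcD hbD hc1)
    · exact (key b hbB).symm
  have hnt : ∃ a : G, a ≠ 1 := by
    by_contra h
    push Not at h
    obtain ⟨B, hB, -⟩ := hcov 1
    exact hprop B hB ((Subgroup.eq_top_iff' B).2 fun g => (h g).symm ▸ B.one_mem)
  obtain ⟨a, ha⟩ := hnt
  have hn1 : orderOf a ≠ 1 := fun h => ha (orderOf_eq_one_iff.1 h)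
  obtain ⟨q, hq, hqd⟩ := Nat.exists_prime_and_dvd hn1
  have hb : orderOf (a ^ (orderOf a / q)) = q := by
    rw [orderOf_pow_of_dvd]
    · exact Nat.div_div_self hqd (orderOf_pos a).ne'
    · exact (Nat.div_pos (Nat.le_of_dvd (orderOf_pos a) hqd) hq.pos).ne'
    · exact Nat.div_dvd_of_dvd hqd
  have hb1 : a ^ (orderOf a / q) ≠ 1 := fun h => hq.ne_one (by rw [← hb, h, orderOf_one])
  have hexp : Monoid.exponent G ∣ q := Monoid.exponent_dvd_iff_forall_pow_eq_one.2 fun g => by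
    by_cases hg : g = 1
    · simp [hg]
    · rw [← hb, hall _ g hb1 hg, pow_orderOf_eq_one]
  rcases (Nat.dvd_prime hq).1 hexp with h | h
  · have := Monoid.order_dvd_exponent a
    rw [h, Nat.dvd_one] at this
    exact absurd this hn1
  · rw [h]; exact hq

end Cfsg.Agent.S3889
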