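import Cfsg.Statements.S3891
import Cfsg.Agent.Lib.H66.NilpotentCover

set_option autoImplicit false
open Cfsg

namespace Cfsg.Agent.S3891

open Cfsg.Agent.Lib.H66.NilpotentCover

/-- A cover of a group is a finite set of proper subgroups whose union is the whole group; it is minimal when no cover has fewer members, and nilpotent when all its members are nilpotent. Let G be a finite group with trivial center admitting a nilpotent minimal cover, and let P be a non-normal Sylow p-subgroup of G that is cyclic, or abelian but not elementary abelian. Then the centralizer of P is nilpotent and the normalizer of P is the unique maximal subgroup of G containing the centralizer of P. -/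
theorem result {G : Type*} [Group G] [Finite G] (hZ : Subgroup.center G = ⊥) (𝓐 : Finset (Subgroup G))
    (h𝓐 : ((∀ A ∈ 𝓐, A ≠ ⊤) ∧ (∀ g : G, ∃ A ∈ 𝓐, g ∈ A)) ∧ (∀ 𝓑 : Finset (Subgroup G), (∀ A ∈ 𝓑, A ≠ ⊤) ∧ (∀ g : G, ∃ A ∈ 𝓑, g ∈ A) → 𝓐.card ≤ 𝓑.card) ∧ (∀ A ∈ 𝓐, Group.IsNilpotent ↥A)) {p : ℕ} [Fact p.Prime] (P : Sylow p G)
    (hP : IsCyclic ↥(P : Subgroup G) ∨ (IsMulCommutative ↥(P : Subgroup G) ∧ ¬ Cfsg.IsElementaryAbelian p (P : Subgroup G)))
    (hnn : ¬ (P : Subgroup G).Normal) :
    Group.IsNilpotent ↥(Subgroup.centralizer ((P : Subgroup G) : Set G)) ∧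
      IsCoatom (Subgroup.normalizer ((P : Subgroup G) : Set G)) ∧
      ∀ M : Subgroup G, IsCoatom M → Subgroup.centralizer ((P : Subgroup G) : Set G) ≤ M →
        M = Subgroup.normalizer ((P : Subgroup G) : Set G) := by
  have hab : IsMulCommutative (P : Subgroup G) := by
    rcases hP with hc | ⟨hc, -⟩
    · haveI := hc; exact IsCyclic.isMulCommutative
    · exact hc
  have h : IsCyclic (P : Subgroup G) ∨ ∃ x ∈ (P : Subgroup G), x ^ p ≠ 1 := by
    rcases hP with hc | ⟨-, hne⟩
    · exact Or.inl hc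
    · refine Or.inr ?_
      by_contra hx
      simp only [not_exists, not_and, not_not] at hx
      exact hne ⟨hab, hx⟩
  obtain ⟨A, hA, -, hC, hco, huniq, -⟩ :=
    structure_of_sylow hZ ⟨h𝓐.1, h𝓐.2.1⟩ h𝓐.2.2 P hab h hnn
  rw [hC]
  exact ⟨h𝓐.2.2 A hA, hco, huniq⟩

end Cfsg.Agent.S3891
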