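import Cfsg.Statements.S3892
import Cfsg.Agent.Lib.H66.NilpotentCover

set_option autoImplicit false
open Cfsg

namespace Cfsg.Agent.S3892

open Cfsg.Agent.Lib.H66.NilpotentCover Equiv Equiv.Perm
set_option linter.style.haveILetI false

/-- no nilpotent minimal cover, given two non-commuting elements of prime order with centralisers in one proper subgroup -/
lemma no_cover {G : Type*} [Group G] [Finite G] (_hZ : Subgroup.center G = ⊥) {q : ℕ} (hq : q.Prime)
    (hdiv : ¬ q ^ 2 ∣ Nat.card G) (H : Subgroup G) (hH : H ≠ ⊤) (x y : G) (hx : x ^ q = 1) (hy : y ^ q = 1)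
    (hCx : ∀ g : G, g * x = x * g → g ∈ H) (hCy : ∀ g : G, g * y = y * g → g ∈ H) (hxy : x * y ≠ y * x) :
    ¬ ∃ 𝓐 : Finset (Subgroup G), ((∀ A ∈ 𝓐, A ≠ ⊤) ∧ (∀ g : G, ∃ A ∈ 𝓐, g ∈ A)) ∧
      (∀ 𝓑 : Finset (Subgroup G), (∀ A ∈ 𝓑, A ≠ ⊤) ∧ (∀ g : G, ∃ A ∈ 𝓑, g ∈ A) → 𝓐.card ≤ 𝓑.card) ∧
      (∀ A ∈ 𝓐, Group.IsNilpotent ↥A) := by
  rintro ⟨𝓐, hcov, hmin, hnil⟩
  haveI := Fact.mk hq
  obtain ⟨P⟩ := (inferInstance : Nonempty (Sylow q G))
  have hab : IsMulCommutative (P : Subgroup G) := by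
    obtain ⟨k, hk⟩ := IsPGroup.iff_card.mp P.2
    have hk1 : k ≤ 1 := by
      by_contra hk2
      exact hdiv ((pow_dvd_pow q (Nat.lt_of_not_le hk2)).trans (hk ▸ Subgroup.card_subgroup_dvd_card _))
    interval_cases k
    · haveI := (Nat.card_eq_one_iff_unique.mp (hk.trans (pow_zero q))).1
      exact ⟨⟨fun a b => Subsingleton.elim _ _⟩⟩
    · haveI := isCyclic_of_prime_card (α := ↥(P : Subgroup G)) (p := q) (by simpa using hk)
      exact IsCyclic.isMulCommutative
  obtain ⟨A, hA, hxA⟩ := hcov.2 x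
  obtain ⟨B, hB, hyB⟩ := hcov.2 y
  have hA' := le_centralizer_of_pElement P hab (hnil A hA) hxA (k := 1) (by simpa using hx)
  have hB' := le_centralizer_of_pElement P hab (hnil B hB) hyB (k := 1) (by simpa using hy)
  have hAH : A ≤ H := fun g hg => hCx g (Subgroup.mem_centralizer_singleton_iff.mp (hA' hg))
  have hBH : B ≤ H := fun g hg => hCy g (Subgroup.mem_centralizer_singleton_iff.mp (hB' hg))
  have := IsMinCover.eq_of_le ⟨hcov, hmin⟩ hH hA hB hAH hBH
  subst this
  exact hxy (Subgroup.mem_centralizer_singleton_iff.mp (hA' hyB)).symm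

lemma center_perm {n : ℕ} (hn : 3 ≤ n) : Subgroup.center (Perm (Fin n)) = ⊥ := by
  rw [eq_bot_iff]
  intro g hg
  rw [Subgroup.mem_bot]
  ext a : 1
  rw [Perm.one_apply]
  by_contra hne
  obtain ⟨c, hc⟩ : ∃ c : Fin n, c ∉ ({a, g a} : Finset (Fin n)) := by
    by_contra hc
    simp only [not_exists, not_not] at hc
    have h1 := Finset.card_le_card (s := Finset.univ) (t := ({a, g a} : Finset (Fin n))) fun c _ => hc c
    have h2 : ({a, g a} : Finset (Fin n)).card ≤ 2 := Finset.card_le_two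
    rw [Finset.card_univ, Fintype.card_fin] at h1
    omega
  simp only [Finset.mem_insert, Finset.mem_singleton, not_or] at hc
  have h := Equiv.Perm.ext_iff.mp (Subgroup.mem_center_iff.mp hg (swap (g a) c)) a
  rw [Perm.mul_apply, Perm.mul_apply, swap_apply_left,
    swap_apply_of_ne_of_ne (Ne.symm hne) (Ne.symm hc.1)] at h
  exact hc.2 h

/-- permutations preserving the initial segment `≤ i` -/
def segStab {n : ℕ} (i : Fin n) : Subgroup (Perm (Fin n)) where
  carrier := {g | ∀ a, g a ≤ i ↔ a ≤ i}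
  one_mem' := fun a => Iff.rfl
  mul_mem' := fun {g h} hg hh a => (hg (h a)).trans (hh a)
  inv_mem' := fun {g} hg a => by simpa using (hg (g⁻¹ a)).symm

lemma centralizer_segStab {n : ℕ} [NeZero n] {i : Fin n} (hi : i ≠ 0) (s : Perm (Fin n)) (hs : s ∈ segStab i)
    {g : Perm (Fin n)} (hg : g * (s * i.cycleRange * s⁻¹) = (s * i.cycleRange * s⁻¹) * g) : g ∈ segStab i := by
  have hmov : ∀ a : Fin n, i.cycleRange a ≠ a ↔ a ≤ i := by
    intro a
    constructor
    · intro h
      by_contra hle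
      exact h (Fin.cycleRange_of_gt (not_le.mp hle))
    · intro hle
      rcases lt_or_eq_of_le hle with hlt | rfl
      · intro he
        have := Fin.coe_cycleRange_of_lt hlt
        rw [he] at this
        omega
      · rw [Fin.cycleRange_self]; exact hi.symm
  intro a
  have e : ∀ b, (s * i.cycleRange * s⁻¹) b ≠ b ↔ b ≤ i := by
    intro b
    have hb : (s⁻¹ b ≤ i) ↔ b ≤ i := (segStab i).inv_mem hs b
    rw [← hb, ← hmov, Perm.mul_apply, Perm.mul_apply, not_iff_not]
    exact Perm.eq_inv_iff_eq.symm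
  rw [← e, ← e]
  have := Equiv.Perm.ext_iff.mp hg a
  simp only [Perm.mul_apply] at this ⊢
  rw [← this]
  exact not_congr g.injective.eq_iff

lemma exists_big_prime {n : ℕ} (hn : 6 ≤ n) : ∃ r, r.Prime ∧ 5 ≤ r ∧ r < n ∧ n < 2 * r := by
  obtain ⟨r, hr, h1, h2⟩ := Nat.exists_prime_lt_and_le_two_mul (n / 2) (by omega)
  refine ⟨r, hr, ?_, ?_, by omega⟩
  · by_contra h
    have : r = 4 := by omega
    subst this
    norm_num at hr
  · by_contra h
    have : r = 2 * (n / 2) := by omega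
    have := (Nat.prime_dvd_prime_iff_eq Nat.prime_two hr).mp ⟨n / 2, this⟩
    omega

lemma not_sq_dvd_factorial {n r : ℕ} (hr : r.Prime) (hn : n < 2 * r) : ¬ r ^ 2 ∣ n.factorial := by
  intro h
  have hlog : Nat.log r n < 2 := by
    rcases Nat.eq_zero_or_pos n with rfl | hn0
    · simp
    apply Nat.log_lt_of_lt_pow hn0.ne'
    calc n < 2 * r := hn
      _ ≤ r ^ 2 := by rw [sq]; exact Nat.mul_le_mul_right r hr.two_le
  rw [Nat.Prime.pow_dvd_factorial_iff hr hlog] at h
  simp at h
  have : n / r < 2 := (Nat.div_lt_iff_lt_mul hr.pos).mpr hn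
  omega

lemma big {n r : ℕ} (hn : 6 ≤ n) (hr : r.Prime) (h5 : 5 ≤ r) (hrn : r < n) :
    ∃ (H : Subgroup (Perm (Fin n))) (x y : Perm (Fin n)), x ^ r = 1 ∧ y ^ r = 1 ∧
      x ∈ alternatingGroup (Fin n) ∧ y ∈ alternatingGroup (Fin n) ∧
      (∀ g, g * x = x * g → g ∈ H) ∧ (∀ g, g * y = y * g → g ∈ H) ∧ x * y ≠ y * x ∧
      ∃ t ∈ alternatingGroup (Fin n), t ∉ H := by
  haveI : NeZero n := ⟨by omega⟩
  let i : Fin n := ⟨r - 1, by omega⟩
  have hi : i ≠ 0 := by
    intro h; have := congrArg Fin.val h; simp [i] at this; omega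
  set c := i.cycleRange with hc
  let a0 : Fin n := ⟨0, by omega⟩
  let a1 : Fin n := ⟨1, by omega⟩
  let a2 : Fin n := ⟨2, by omega⟩
  let a3 : Fin n := ⟨3, by omega⟩
  let al : Fin n := ⟨n - 1, by omega⟩
  let s := swap a0 a1
  have hsH : s ∈ segStab i := by
    intro a
    by_cases ha0 : a = a0
    · subst ha0
      simp [s, i, a0, a1, Fin.le_def]; omega
    by_cases ha1 : a = a1
    · subst ha1
      simp [s, i, a0, a1, Fin.le_def]; omega
    rw [swap_apply_of_ne_of_ne ha0 ha1]
  have hord : c ^ r = 1 := by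
    have : orderOf c = r := by
      rw [← lcm_cycleType, hc, Fin.cycleType_cycleRange hi]
      simp [i]; omega
    rw [← this, pow_orderOf_eq_one]
  have hsign : Perm.sign c = 1 := by
    rw [hc, Fin.sign_cycleRange]
    have : Even (r - 1) := by
      obtain ⟨k, hk⟩ := hr.odd_of_ne_two (by omega)
      exact ⟨k, by omega⟩
    exact this.neg_one_pow
  refine ⟨segStab i, c, s * c * s⁻¹, hord, by rw [conj_pow, hord]; group, hsign, ?_, ?_, ?_, ?_, ?_⟩
  · rw [mem_alternatingGroup, map_mul, map_mul, hsign, mul_one, map_inv, mul_inv_cancel]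
  · intro g hg
    exact centralizer_segStab hi 1 (segStab i).one_mem (by simpa using hg)
  · exact fun g hg => centralizer_segStab hi s hsH hg
  · intro h
    have e := Equiv.Perm.ext_iff.mp h a0
    have c01 : c a0 = a1 := Fin.ext (by rw [hc, Fin.coe_cycleRange_of_lt (by simp [i, a0, Fin.lt_def]; omega)])
    have c12 : c a1 = a2 := Fin.ext (by rw [hc, Fin.coe_cycleRange_of_lt (by simp [i, a1, Fin.lt_def]; omega)])
    have c23 : c a2 = a3 := Fin.ext (by rw [hc, Fin.coe_cycleRange_of_lt (by simp [i, a2, Fin.lt_def]; omega)])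
    have s2 : s a2 = a2 := swap_apply_of_ne_of_ne (by simp [a0, a2, Fin.ext_iff]) (by simp [a1, a2, Fin.ext_iff])
    simp only [Perm.mul_apply, swap_inv, s, swap_apply_left, c01, c12] at e s2
    rw [s2, c23] at e
    simp [swap_apply_right, c01, swap_apply_right] at e
    simp [a3, a0, Fin.ext_iff] at e
  · refine ⟨swap a0 al * swap a1 a2, ?_, fun h => ?_⟩
    · rw [mem_alternatingGroup, map_mul, sign_swap (by simp [a0, al, Fin.ext_iff]; omega),
        sign_swap (by simp [a1, a2, Fin.ext_iff])]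
      rfl
    · have h01 : a0 ≠ a1 := fun e => by simpa [a0, a1] using congrArg Fin.val e
      have h02 : a0 ≠ a2 := fun e => by simpa [a0, a2] using congrArg Fin.val e
      have hle : a0 ≤ i := Fin.le_def.mpr (Nat.zero_le _)
      have := (h a0).mpr hle
      rw [Perm.mul_apply, swap_apply_of_ne_of_ne h01 h02, swap_apply_left] at this
      simp [al, i, Fin.le_def] at this
      omega

/-- A cover of a group is a finite set of proper subgroups whose union is the whole group; it is minimal when no cover has fewer members, and nilpotent when all its members are nilpotent. The alternating groups of degree at least 5 and the symmetric groups of degree at least 4 have no nilpotent minimal cover. -/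
theorem result (n : ℕ) :
    (5 ≤ n → ¬ ∃ 𝓐 : Finset (Subgroup ↥(alternatingGroup (Fin n))), ((∀ A ∈ 𝓐, A ≠ ⊤) ∧ (∀ g : ↥(alternatingGroup (Fin n)), ∃ A ∈ 𝓐, g ∈ A)) ∧ (∀ 𝓑 : Finset (Subgroup ↥(alternatingGroup (Fin n))), (∀ A ∈ 𝓑, A ≠ ⊤) ∧ (∀ g : ↥(alternatingGroup (Fin n)), ∃ A ∈ 𝓑, g ∈ A) → 𝓐.card ≤ 𝓑.card) ∧ (∀ A ∈ 𝓐, Group.IsNilpotent ↥A)) ∧
    (4 ≤ n → ¬ ∃ 𝓐 : Finset (Subgroup (Equiv.Perm (Fin n))), ((∀ A ∈ 𝓐, A ≠ ⊤) ∧ (∀ g : (Equiv.Perm (Fin n)), ∃ A ∈ 𝓐, g ∈ A)) ∧ (∀ 𝓑 : Finset (Subgroup (Equiv.Perm (Fin n))), (∀ A ∈ 𝓑, A ≠ ⊤) ∧ (∀ g : (Equiv.Perm (Fin n)), ∃ A ∈ 𝓑, g ∈ A) → 𝓐.card ≤ 𝓑.card) ∧ (∀ A ∈ 𝓐, Group.IsNilpotent ↥A)) := by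
  constructor
  · intro hn
    have hZ : Subgroup.center (alternatingGroup (Fin n)) = ⊥ :=
      alternatingGroup.center_eq_bot (by rw [Nat.card_fin]; omega)
    have hcard : Nat.card (alternatingGroup (Fin n)) ∣ n.factorial := by
      have := Subgroup.card_subgroup_dvd_card (alternatingGroup (Fin n))
      rwa [Nat.card_perm, Nat.card_fin] at this
    rcases eq_or_lt_of_le hn with rfl | hn6
    · let x : alternatingGroup (Fin 5) := ⟨swap 0 1 * swap 1 2, by rw [mem_alternatingGroup]; decide⟩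
      let y : alternatingGroup (Fin 5) := ⟨swap 0 1 * swap 1 3, by rw [mem_alternatingGroup]; decide⟩
      refine no_cover hZ Nat.prime_three
        (fun h => absurd (h.trans hcard) (by decide)) (MulAction.stabilizer _ (4 : Fin 5)) ?_ x y ?_ ?_ ?_ ?_ ?_
      · intro ht
        have h4 := ht ▸ Subgroup.mem_top (⟨swap 0 4 * swap 1 2, by rw [mem_alternatingGroup]; decide⟩ : alternatingGroup (Fin 5))
        exact absurd (show (swap (0 : Fin 5) 4 * swap 1 2 : Perm (Fin 5)) 4 = 4 from h4) (by decide)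
      · decide +kernel
      · decide +kernel
      · intro g hg
        have key : ∀ g : Perm (Fin 5), Perm.sign g = 1 → g * (x : Perm (Fin 5)) = (x : Perm (Fin 5)) * g → g 4 = 4 := by
          decide +kernel
        exact key g g.2 (congrArg Subtype.val hg)
      · intro g hg
        have key : ∀ g : Perm (Fin 5), Perm.sign g = 1 → g * (y : Perm (Fin 5)) = (y : Perm (Fin 5)) * g → g 4 = 4 := by
          decide +kernel
        exact key g g.2 (congrArg Subtype.val hg)
      · decide +kernel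
    · obtain ⟨r, hr, h5, hrn, hnr⟩ := exists_big_prime hn6
      obtain ⟨H, x, y, hx, hy, hxA, hyA, hCx, hCy, hxy, t, htA, htH⟩ := big hn6 hr h5 hrn
      refine no_cover hZ hr (fun h => not_sq_dvd_factorial hr hnr (h.trans hcard))
        (H.subgroupOf _) ?_ ⟨x, hxA⟩ ⟨y, hyA⟩ (Subtype.ext (by simpa using hx)) (Subtype.ext (by simpa using hy))
        (fun g hg => hCx g (congrArg Subtype.val hg)) (fun g hg => hCy g (congrArg Subtype.val hg))
        (fun h => hxy (congrArg Subtype.val h))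
      intro ht
      exact htH (Subgroup.mem_subgroupOf.mp (ht ▸ Subgroup.mem_top (⟨t, htA⟩ : alternatingGroup (Fin n))))
  · intro hn
    have hZ := center_perm (n := n) (by omega)
    have hcard : Nat.card (Perm (Fin n)) = n.factorial := by rw [Nat.card_perm, Nat.card_fin]
    have hA : ∀ m : ℕ, 2 ≤ m → alternatingGroup (Fin m) ≠ ⊤ := by
      intro m hm ht
      have h : swap (⟨0, by omega⟩ : Fin m) ⟨1, by omega⟩ ∈ alternatingGroup (Fin m) := by rw [ht]; trivial
      rw [mem_alternatingGroup, sign_swap (by simp [Fin.ext_iff])] at h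
      exact absurd h (by decide)
    by_cases hn6 : 6 ≤ n
    · obtain ⟨r, hr, h5, hrn, hnr⟩ := exists_big_prime hn6
      obtain ⟨H, x, y, hx, hy, -, -, hCx, hCy, hxy, t, -, htH⟩ := big hn6 hr h5 hrn
      exact no_cover hZ hr (hcard ▸ not_sq_dvd_factorial hr hnr) H
        (fun ht => htH (ht ▸ Subgroup.mem_top t)) x y hx hy hCx hCy hxy
    interval_cases n
    · refine no_cover hZ Nat.prime_three (by rw [hcard]; decide) _ (hA 4 (by omega))
        (swap 0 1 * swap 1 2) (swap 0 1 * swap 1 3) (by decide +kernel) (by decide +kernel) ?_ ?_ (by decide +kernel)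
      · simp only [mem_alternatingGroup]; decide +kernel
      · simp only [mem_alternatingGroup]; decide +kernel
    · refine no_cover hZ (by norm_num : Nat.Prime 5) (by rw [hcard]; decide) _ (hA 5 (by omega))
        (swap 0 1 * swap 1 2 * swap 2 3 * swap 3 4) (swap 1 0 * swap 0 2 * swap 2 3 * swap 3 4)
        (by decide +kernel) (by decide +kernel) ?_ ?_ (by decide +kernel)
      · simp only [mem_alternatingGroup]; decide +kernel
      · simp only [mem_alternatingGroup]; decide +kernel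

end Cfsg.Agent.S3892
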