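import Cfsg.Statements.S3893
import Cfsg.Agent.Lib.H66.NilpotentCover
import Cfsg.Agent.Lib.Suzuki.Centralizers
import Cfsg.Agent.Lib.SuzukiSp4.Iso

set_option autoImplicit false
open Cfsg

namespace Cfsg.Agent.S3893

open Cfsg.Agent.Lib.H66.NilpotentCover Cfsg.Agent.Lib.Suzuki
set_option linter.style.haveILetI false

lemma no_cover {G : Type*} [Group G] [Finite G] {q : ℕ} [Fact q.Prime] (P : Sylow q G)
    (hab : IsMulCommutative (P : Subgroup G)) (H : Subgroup G) (hH : H ≠ ⊤) (x y : G)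
    (hx : x ^ q = 1) (hy : y ^ q = 1)
    (hCx : ∀ g : G, g * x = x * g → g ∈ H) (hCy : ∀ g : G, g * y = y * g → g ∈ H) (hxy : x * y ≠ y * x) :
    ¬ ∃ 𝓐 : Finset (Subgroup G), ((∀ A ∈ 𝓐, A ≠ ⊤) ∧ (∀ g : G, ∃ A ∈ 𝓐, g ∈ A)) ∧
      (∀ 𝓑 : Finset (Subgroup G), (∀ A ∈ 𝓑, A ≠ ⊤) ∧ (∀ g : G, ∃ A ∈ 𝓑, g ∈ A) → 𝓐.card ≤ 𝓑.card) ∧
      (∀ A ∈ 𝓐, Group.IsNilpotent ↥A) := by
  rintro ⟨𝓐, hcov, hmin, hnil⟩
  obtain ⟨A, hA, hxA⟩ := hcov.2 x
  obtain ⟨B, hB, hyB⟩ := hcov.2 y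
  have hA' := le_centralizer_of_pElement P hab (hnil A hA) hxA (k := 1) (by simpa using hx)
  have hB' := le_centralizer_of_pElement P hab (hnil B hB) hyB (k := 1) (by simpa using hy)
  have hAH : A ≤ H := fun g hg => hCx g (Subgroup.mem_centralizer_singleton_iff.mp (hA' hg))
  have hBH : B ≤ H := fun g hg => hCy g (Subgroup.mem_centralizer_singleton_iff.mp (hB' hg))
  have := IsMinCover.eq_of_le ⟨hcov, hmin⟩ hH hA hB hAH hBH
  subst this
  exact hxy (Subgroup.mem_centralizer_singleton_iff.mp (hA' hyB)).symm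

/-- A cover of a group is a finite set of proper subgroups whose union is the whole group; it is minimal when no cover has fewer members, and nilpotent when all its members are nilpotent. The Suzuki groups Sz(q), q = 2^(2m+1) with m ≥ 1, have no nilpotent minimal cover. -/
theorem result {F : Type*} [Field F] [Fintype F] (m : ℕ) (hm : 1 ≤ m) (hF : Fintype.card F = 2 ^ (2 * m + 1)) :
    ¬ ∃ 𝓐 : Finset (Subgroup ↥(Cfsg.Lie.Sz F (2 ^ (m + 1)))), ((∀ A ∈ 𝓐, A ≠ ⊤) ∧ (∀ g : ↥(Cfsg.Lie.Sz F (2 ^ (m + 1))), ∃ A ∈ 𝓐, g ∈ A)) ∧ (∀ 𝓑 : Finset (Subgroup ↥(Cfsg.Lie.Sz F (2 ^ (m + 1)))), (∀ A ∈ 𝓑, A ≠ ⊤) ∧ (∀ g : ↥(Cfsg.Lie.Sz F (2 ^ (m + 1))), ∃ A ∈ 𝓑, g ∈ A) → 𝓐.card ≤ 𝓑.card) ∧ (∀ A ∈ 𝓐, Group.IsNilpotent ↥A) := by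
  have h : Hyp F m := ⟨hm, hF⟩
  set e := Cfsg.Agent.Lib.SuzukiSp4.szEquiv h
  obtain ⟨r, hr, hdvd⟩ := Nat.exists_prime_and_dvd (n := Nat.card Fˣ) (by
    rw [Nat.card_units, Nat.card_eq_fintype_card, hF]
    have : 2 ^ 3 ≤ 2 ^ (2 * m + 1) := Nat.pow_le_pow_right two_pos (by omega)
    omega)
  haveI := Fact.mk hr
  have hr2 : r ≠ 2 := by
    rintro rfl
    rw [Nat.card_units, Nat.card_eq_fintype_card, hF] at hdvd
    have h1 : 1 ≤ 2 ^ (2 * m + 1) := Nat.one_le_two_pow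
    have h2 : 2 ∣ 2 ^ (2 * m + 1) := dvd_pow_self 2 (by omega)
    omega
  obtain ⟨u, hu⟩ := exists_prime_orderOf_dvd_card' r hdvd
  have hu1 : u ≠ 1 := fun h1 => hr.ne_one (by rw [← hu, h1, orderOf_one])
  set x := szH h u with hxdef
  set t := szT h (1 : F) 0 with htdef
  have hxr : x ^ r = 1 := by
    show (szHHom h u) ^ r = 1
    rw [← map_pow, ← hu, pow_orderOf_eq_one, map_one]
  let P0 : Sylow r (Cfsg.Sz F m) := default
  haveI := sylow_isCyclic h hr2 P0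
  have hab0 : IsMulCommutative (P0 : Subgroup (Cfsg.Sz F m)) := IsCyclic.isMulCommutative
  let P1 : Sylow r ↥(Cfsg.Lie.Sz F (2 ^ (m + 1))) := P0.mapSurjective (f := e.toMonoidHom) e.surjective
  have hab1 : IsMulCommutative (P1 : Subgroup ↥(Cfsg.Lie.Sz F (2 ^ (m + 1)))) := by
    refine ⟨⟨fun a b => ?_⟩⟩
    obtain ⟨a, a', ha, rfl⟩ := a
    obtain ⟨b, b', hb, rfl⟩ := b
    apply Subtype.ext
    show e a' * e b' = e b' * e a'
    rw [← map_mul, ← map_mul]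
    exact congrArg e (congrArg Subtype.val (hab0.is_comm.comm ⟨a', ha⟩ ⟨b', hb⟩))
  set H0 := MulAction.stabilizer (Cfsg.Sz F m) (ovInf F m)
  have hCx : ∀ g : Cfsg.Sz F m, g * x = x * g → g ∈ H0 := by
    intro g hg
    obtain ⟨v, rfl⟩ := centralizer_szH h hu1 (Subgroup.mem_centralizer_singleton_iff.mpr hg)
    exact szH_inf h v
  have htH : t ∈ H0 := szT_inf h 1 0
  have hCy : ∀ g : Cfsg.Sz F m, g * (t * x * t⁻¹) = (t * x * t⁻¹) * g → g ∈ H0 := by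
    intro g hg
    have := hCx (t⁻¹ * g * t) (by
      calc t⁻¹ * g * t * x = t⁻¹ * (g * (t * x * t⁻¹)) * t := by group
        _ = x * (t⁻¹ * g * t) := by rw [hg]; group)
    have := H0.mul_mem (H0.mul_mem htH this) (H0.inv_mem htH)
    simpa [mul_assoc] using this
  have hne : x * (t * x * t⁻¹) ≠ (t * x * t⁻¹) * x := by
    intro hc
    obtain ⟨v, hv⟩ := centralizer_szH h hu1 (Subgroup.mem_centralizer_singleton_iff.mpr hc.symm)
    have hfix : x • (t⁻¹ • ovAff m (0 : F) 0) = t⁻¹ • ovAff m (0 : F) 0 := by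
      have h0 : (t * x * t⁻¹) • ovAff m (0 : F) 0 = ovAff m (0 : F) 0 := by
        rw [← hv]; exact szH_zero_pt h v
      apply smul_left_cancel t
      rw [smul_inv_smul, smul_smul, smul_smul, h0]
    rcases fix_szH h hu1 hfix with hp | hp
    · rw [szT_inv h, szT_zero_pt h] at hp
      exact ovAff_ne_inf _ _ hp
    · rw [szT_inv h, szT_zero_pt h] at hp
      exact one_ne_zero (ovAff_injective hp).1
  refine no_cover P1 hab1 (H0.map e.toMonoidHom) ?_ (e x) (e (t * x * t⁻¹))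
    (by rw [← map_pow, hxr, map_one]) (by rw [← map_pow, conj_pow, hxr, mul_one, mul_inv_cancel, map_one]) ?_ ?_
    (fun hc => hne (e.injective (by simpa using hc)))
  · intro htop
    have hW : szW h ∈ H0 := by
      have := htop ▸ Subgroup.mem_top (e (szW h))
      obtain ⟨w, hw, he⟩ := this
      exact e.injective he ▸ hw
    exact ovAff_ne_inf (0 : F) 0 ((szW_inf h).symm.trans hW)
  · intro g hg
    refine ⟨e.symm g, hCx _ (e.injective ?_), e.apply_symm_apply g⟩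
    simpa using hg
  · intro g hg
    refine ⟨e.symm g, hCy _ (e.injective ?_), e.apply_symm_apply g⟩
    simpa using hg

end Cfsg.Agent.S3893
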