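import Cfsg.Statements.S3897
import Mathlib
import Cfsg.Agent.Lib.PiClasses.Bounds

set_option autoImplicit false
open Cfsg
open Cfsg.Agent.Lib.PiClasses

namespace Cfsg.Agent.S3897

/-- Let p be an odd prime and G a finite group with Sylow p-subgroup P, and write k_p(G) for the number of conjugacy classes of G consisting of p-elements (elements of p-power order, the identity included). Then k_p(G) > (p + 1)|P|/(2p) if and only if G has a normal p-complement and P is abelian. -/
theorem result {G : Type*} [Group G] [Finite G] {p : ℕ} [Fact p.Prime] (hp : p ≠ 2) (P : Sylow p G) :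
    (p + 1) * Nat.card ↥(P : Subgroup G) < 2 * p * Nat.card {c : ConjClasses G // ∀ x ∈ c.carrier, ∃ k : ℕ, orderOf x = p ^ k} ↔
      Cfsg.HasNormalPComplement p G ∧ IsMulCommutative ↥(P : Subgroup G) := by
  have hk : Nat.card (PiClass ({p} : Set ℕ) G) =
      Nat.card {c : ConjClasses G // ∀ x ∈ c.carrier, ∃ k : ℕ, orderOf x = p ^ k} :=
    card_piClass_eq_of_iff fun x => isPiElt_singleton_iff x
  rw [← hk]
  refine ⟨fun h => normalPComplement_and_comm_of_pClass_bound hp P h, fun ⟨hN, hc⟩ => ?_⟩
  haveI := hc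
  have h1 := card_sylow_classes_le hN P
  have h2 : Nat.card ↥(P : Subgroup G) ≤ Nat.card (ConjClasses ↥(P : Subgroup G)) := by
    refine Nat.card_le_card_of_injective ConjClasses.mk fun a b hab => ?_
    obtain ⟨c, hc'⟩ := isConj_iff.mp (ConjClasses.mk_eq_mk_iff_isConj.mp hab)
    rw [← hc', hc.is_comm.comm c a, mul_inv_cancel_right]
  have hp3 : p + 1 < 2 * p := by
    have := (Fact.out : p.Prime).two_le
    omega
  calc (p + 1) * Nat.card ↥(P : Subgroup G)
      < 2 * p * Nat.card ↥(P : Subgroup G) := Nat.mul_lt_mul_of_pos_right hp3 Nat.card_pos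
    _ ≤ _ := Nat.mul_le_mul_left _ (h2.trans h1)

end Cfsg.Agent.S3897
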