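import Cfsg.Statements.S3898
import Mathlib
import Cfsg.Agent.Lib.PiClasses.TwoNilpotent
import Cfsg.Agent.Lib.PiClasses.Union
import Cfsg.Agent.Lib.PiClasses.Complement
import Cfsg.Agent.Lib.Coprime.Sylow

set_option autoImplicit false
open Cfsg
open Cfsg.Agent.Lib.PiClasses

namespace Cfsg.Agent.S3898
open Cfsg.Agent.Lib.PiClasses

/-- For odd `r`, more classes of `r`-elements than half the Sylow order make it abelian. -/
theorem isMulCommutative_of_bound {G : Type*} [Group G] [Finite G] {r : ℕ} [hr : Fact r.Prime]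
    (hr2 : r ≠ 2) (R : Sylow r G)
    (hk : Nat.card ↥(R : Subgroup G) < 2 * Nat.card (PiClass ({r} : Set ℕ) G)) :
    IsMulCommutative ↥(R : Subgroup G) := by
  by_contra hna
  have h1 := cube_mul_card_conjClasses_le R.2 hna
  have h2 := card_pClass_le_sylow R
  have hr3 : 3 ≤ r := by have := hr.out.two_le; omega
  have h3 : 2 * (r ^ 2 + r - 1) ≤ r ^ 3 := by
    have : 2 * (r ^ 2 + r) ≤ r ^ 3 + 2 := by nlinarith [Nat.mul_le_mul hr3 (le_refl r)]
    omega
  have h4 : r ^ 3 * Nat.card ↥(R : Subgroup G) < r ^ 3 * Nat.card ↥(R : Subgroup G) :=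
    calc r ^ 3 * Nat.card ↥(R : Subgroup G)
        < r ^ 3 * (2 * Nat.card (PiClass ({r} : Set ℕ) G)) :=
          Nat.mul_lt_mul_of_pos_left hk (pow_pos hr.out.pos 3)
      _ ≤ r ^ 3 * (2 * Nat.card (ConjClasses ↥(R : Subgroup G))) := by gcongr
      _ = 2 * (r ^ 3 * Nat.card (ConjClasses ↥(R : Subgroup G))) := by ring
      _ ≤ 2 * ((r ^ 2 + r - 1) * Nat.card ↥(R : Subgroup G)) := Nat.mul_le_mul_left _ h1
      _ ≤ r ^ 3 * Nat.card ↥(R : Subgroup G) := by
          rw [← mul_assoc]; exact Nat.mul_le_mul_right _ h3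
  exact lt_irrefl _ h4

/-- A group with an abelian normal subgroup of odd order moved by a 2-element has commuting
probability at most one half. -/
theorem two_mul_card_conjClasses_le {H : Type*} [Group H] [Finite H] {r : ℕ} [hr : Fact r.Prime]
    (hr2 : r ≠ 2) (A : Subgroup H) [A.Normal] (hA : IsPGroup r A) (hAc : IsMulCommutative A)
    {y : H} (hy : y ∉ Subgroup.centralizer (A : Set H)) :
    2 * Nat.card (ConjClasses H) ≤ Nat.card H := by
  classical
  haveI : Fintype H := Fintype.ofFinite H
  set C := Subgroup.centralizer (A : Set H) with hC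
  haveI : C.Normal := Subgroup.normal_centralizer
  have hAC : A ≤ C := Subgroup.le_centralizer A
  have hsize : ∀ h : H, h ∉ C → 3 ≤ (Subgroup.centralizer ({h} : Set H)).index := by
    intro h hh
    obtain ⟨n, hn⟩ := hA.index ((Subgroup.centralizer ({h} : Set H)).subgroupOf A)
    have hne : n ≠ 0 := by
      rintro rfl
      rw [pow_zero, Subgroup.index_eq_one, Subgroup.subgroupOf_eq_top] at hn
      exact hh (Subgroup.mem_centralizer_iff.mpr fun a ha =>
        Subgroup.mem_centralizer_singleton_iff.mp (hn ha))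
    have hdvd : ((Subgroup.centralizer ({h} : Set H)).subgroupOf A).index ≤
        (Subgroup.centralizer ({h} : Set H)).index := by
      have h0 : (Subgroup.centralizer ({h} : Set H)).index ≠ 0 := Subgroup.index_ne_zero_of_finite
      have := Subgroup.relIndex_le_of_le_right (le_top : A ≤ ⊤)
        (H := Subgroup.centralizer ({h} : Set H)) (by rwa [Subgroup.relIndex_top_right])
      rwa [Subgroup.relIndex_top_right] at this
    rw [hn] at hdvd
    have hr3 : 3 ≤ r := by have := hr.out.two_le; omega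
    exact (hr3.trans (Nat.le_self_pow hne r)).trans hdvd
  have hkin := card_classes_mul_le_center (C : Set H) 2 two_pos fun x _ hx => by
    have h0 : (Subgroup.centralizer ({x} : Set H)).index ≠ 0 := Subgroup.index_ne_zero_of_finite
    have h1 := mt (index_centralizer_eq_one_iff x).mp hx
    omega
  have hkout := card_classes_mul_le_card ((C : Set H)ᶜ) 3 fun x hx => hsize x hx
  have hsplit : Nat.card (ConjClasses H) ≤
      Nat.card {c : ConjClasses H // c.carrier ⊆ (C : Set H)} +
      Nat.card {c : ConjClasses H // c.carrier ⊆ (C : Set H)ᶜ} := by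
    rw [← Nat.card_sum]
    refine Nat.card_le_card_of_surjective (Sum.elim Subtype.val Subtype.val) fun c => ?_
    obtain ⟨x, rfl⟩ := ConjClasses.mk_surjective c
    have hsub : ∀ z ∈ (ConjClasses.mk x).carrier, (z ∈ C ↔ x ∈ C) := fun z hz => by
      obtain ⟨g, rfl⟩ := isConj_iff.mp (ConjClasses.mk_eq_mk_iff_isConj.mp
        (ConjClasses.mem_carrier_iff_mk_eq.mp hz).symm)
      exact ⟨fun h => by simpa [mul_assoc] using (inferInstance : C.Normal).conj_mem _ h g⁻¹,
        fun h => (inferInstance : C.Normal).conj_mem _ h g⟩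
    by_cases hx : x ∈ C
    · exact ⟨Sum.inl ⟨_, fun z hz => (hsub z hz).mpr hx⟩, rfl⟩
    · exact ⟨Sum.inr ⟨_, fun z hz => mt (hsub z hz).mp hx⟩, rfl⟩
  have hcards : Nat.card C + Nat.card ↥((C : Set H)ᶜ) = Nat.card H := by
    rw [← SetLike.coe_sort_coe, Nat.card_coe_set_eq, Nat.card_coe_set_eq, Set.ncard_add_ncard_compl]
  have hCle : 2 * Nat.card C ≤ Nat.card H := by
    rw [← C.card_mul_index, mul_comm 2]
    refine Nat.mul_le_mul_left _ ?_
    have h0 : C.index ≠ 0 := Subgroup.index_ne_zero_of_finite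
    have h1 : C.index ≠ 1 := fun h => hy (Subgroup.index_eq_one.mp h ▸ Subgroup.mem_top y)
    omega
  have hZle : 3 * Nat.card ↥((C : Set H) ∩ (Subgroup.center H : Set H)) ≤ Nat.card C := by
    let Z : Subgroup H := Subgroup.center H
    have hZC : Z ≤ C := fun z hz => Subgroup.mem_centralizer_iff.mpr fun a _ =>
      (Subgroup.mem_center_iff.mp hz a)
    obtain ⟨n, hn⟩ := hA.index (Z.subgroupOf A)
    have hne : n ≠ 0 := by
      rintro rfl
      rw [pow_zero, Subgroup.index_eq_one, Subgroup.subgroupOf_eq_top] at hn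
      exact hy (Subgroup.mem_centralizer_iff.mpr fun a ha =>
        (Subgroup.mem_center_iff.mp (hn ha) y).symm)
    have hr3 : 3 ≤ r := by have := hr.out.two_le; omega
    have h1 : 3 ≤ Z.relIndex C := by
      have h2 : (Z.subgroupOf A).index ≤ Z.relIndex C :=
        Subgroup.relIndex_le_of_le_right hAC Subgroup.index_ne_zero_of_finite
      rw [hn] at h2
      exact (hr3.trans (Nat.le_self_pow hne r)).trans h2
    have h2 : Nat.card ↥((C : Set H) ∩ (Z : Set H)) ≤ Nat.card Z :=
      Nat.card_le_card_of_injective (fun a => (⟨a.1, a.2.2⟩ : Z))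
        fun a b hab => Subtype.ext (congrArg Subtype.val hab :)
    have h3 : Nat.card Z * Z.relIndex C = Nat.card C := by
      rw [← Nat.card_congr (Subgroup.subgroupOfEquivOfLe hZC).toEquiv]
      exact (Z.subgroupOf C).card_mul_index
    calc 3 * _ ≤ 3 * Nat.card Z := Nat.mul_le_mul_left _ h2
      _ ≤ Nat.card Z * Z.relIndex C := by rw [mul_comm 3]; exact Nat.mul_le_mul_left _ h1
      _ = _ := h3
  rw [SetLike.coe_sort_coe] at hkin
  omega

/-- The odd primes. -/
theorem hasNormalPComplement_odd {G : Type*} [Group G] [Finite G] {r : ℕ} [hr : Fact r.Prime]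
    (hr2 : r ≠ 2) (hN2 : Cfsg.HasNormalPComplement 2 G)
    (hab : ∀ R : Sylow r G, IsMulCommutative ↥(R : Subgroup G))
    (h1 : r ^ (Nat.card G).factorization r < 2 * Nat.card (PiClass ({r} : Set ℕ) G))
    (h3 : (2 : ℕ) ^ (Nat.card G).factorization 2 * r ^ (Nat.card G).factorization r <
      2 * Nat.card (PiClass ((↑({2, r} : Finset ℕ)) : Set ℕ) G)) :
    Cfsg.HasNormalPComplement r G := by
  classical
  haveI : Fact (Nat.Prime 2) := ⟨Nat.prime_two⟩
  have hr3 : 3 ≤ r := by have := hr.out.two_le; omega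
  obtain ⟨P, N, hN, hNP⟩ := hN2
  haveI := hN
  have hNodd : ¬ 2 ∣ Nat.card N := by rw [← hNP.index_eq_card]; exact P.not_dvd_index
  have hrN : ¬ r ∣ N.index := by
    rw [hNP.symm.index_eq_card]
    obtain ⟨n, hn⟩ := IsPGroup.iff_card.mp P.2
    rw [hn]
    exact fun h => hr2 ((Nat.prime_dvd_prime_iff_eq hr.out Nat.prime_two).mp (hr.out.dvd_of_dvd_pow h))
  -- a Sylow subgroup and its normaliser
  obtain ⟨R₀⟩ : Nonempty (Sylow r N) := inferInstance
  set R' : Subgroup G := (R₀ : Subgroup N).map N.subtype with hR'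
  have hR'N : R' ≤ N := Subgroup.map_subtype_le _
  have hR'card : Nat.card R' = r ^ (Nat.card G).factorization r := by
    rw [hR', Subgroup.card_subtype, R₀.card_eq_multiplicity, ← N.card_mul_index]
    rw [Nat.factorization_mul Nat.card_pos.ne' Subgroup.index_ne_zero_of_finite, Finsupp.add_apply,
      Nat.factorization_eq_zero_of_not_dvd hrN, add_zero]
  let R : Sylow r G := Sylow.ofCard R' hR'card
  have hRcoe : (R : Subgroup G) = R' := rfl
  set M := Subgroup.normalizer (R' : Set G) with hM
  have hMN : M ⊔ N = ⊤ := Sylow.normalizer_sup_eq_top R₀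
  have hMdvd : (2 : ℕ) ^ (Nat.card G).factorization 2 ∣ Nat.card M := by
    have hsurj : Function.Surjective ((QuotientGroup.mk' N).comp M.subtype) := by
      rw [← MonoidHom.range_eq_top, MonoidHom.range_comp, Subgroup.range_subtype, eq_top_iff]
      intro q _
      obtain ⟨g, rfl⟩ := QuotientGroup.mk'_surjective N q
      have hg : g ∈ M ⊔ N := hMN ▸ Subgroup.mem_top g
      rw [← SetLike.mem_coe, Subgroup.mul_normal] at hg
      obtain ⟨m, hm, n, hn, rfl⟩ := Set.mem_mul.mp hg
      exact ⟨m, hm, by rw [map_mul, show QuotientGroup.mk' N n = 1 from (QuotientGroup.eq_one_iff n).mpr hn, mul_one]⟩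
    have h := Subgroup.card_dvd_of_surjective _ hsurj
    rwa [← Subgroup.index_eq_card, hNP.symm.index_eq_card, P.card_eq_multiplicity] at h
  obtain ⟨P₁⟩ : Nonempty (Sylow 2 M) := inferInstance
  set P₀ : Subgroup G := (P₁ : Subgroup M).map M.subtype with hP₀
  have hP₀M : P₀ ≤ M := Subgroup.map_subtype_le _
  have hP₀card : Nat.card P₀ = 2 ^ (Nat.card G).factorization 2 := by
    rw [hP₀, Subgroup.card_subtype, P₁.card_eq_multiplicity]
    congr 1
    refine le_antisymm ?_ ((Nat.prime_two.pow_dvd_iff_le_factorization Nat.card_pos.ne').mp hMdvd)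
    exact (Nat.factorization_le_iff_dvd Nat.card_pos.ne' Nat.card_pos.ne').mpr
      (Subgroup.card_subgroup_dvd_card M) 2
  by_cases hcen : ∀ y ∈ P₀, y ∈ Subgroup.centralizer (R' : Set G)
  · -- orbits of the normaliser on the Sylow subgroup have odd size
    refine ⟨R, _, MonoidHom.normal_ker _, MonoidHom.ker_transferSylow_isComplement' R ?_⟩
    by_contra hnot
    set S : Set M := {n | (n : G) ∈ R'} with hS
    have hk := card_pClass_le_normalizer R
    have hcop : ∀ x ∈ S, ¬ 2 ∣ (Subgroup.centralizer ({x} : Set M)).index ∧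
        ¬ r ∣ (Subgroup.centralizer ({x} : Set M)).index := by
      intro x hx
      constructor
      · intro hd
        refine P₁.not_dvd_index (hd.trans (Subgroup.index_dvd_of_le fun y hy => ?_))
        rw [Subgroup.mem_centralizer_singleton_iff]
        exact Subtype.ext
          (Subgroup.mem_centralizer_iff.mp (hcen (y : G) ⟨y, hy, rfl⟩) (x : G) hx).symm
      · intro hd
        have hle : R'.subgroupOf M ≤ Subgroup.centralizer ({x} : Set M) := fun y hy => by
          rw [Subgroup.mem_centralizer_singleton_iff]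
          exact Subtype.ext (show (y : G) * x = x * y from congrArg Subtype.val
            ((hab R).is_comm.comm ⟨(y : G), hy⟩ ⟨(x : G), hx⟩))
        refine R.not_dvd_index ((hd.trans (Subgroup.index_dvd_of_le hle)).trans ?_)
        rw [hRcoe]
        exact Subgroup.relIndex_dvd_index_of_le Subgroup.le_normalizer
    set s := if r = 3 then 5 else 3 with hs
    have hc := card_classes_mul_le_center S s (by rw [hs]; split <;> norm_num) fun x hx hxz => by
      obtain ⟨h2, hr'⟩ := hcop x hx
      have h0 : (Subgroup.centralizer ({x} : Set M)).index ≠ 0 := Subgroup.index_ne_zero_of_finite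
      have h1' := mt (index_centralizer_eq_one_iff x).mp hxz
      rw [hs]
      split
      · next h3' => subst h3'; omega
      · omega
    have hcardS : Nat.card S = Nat.card R' :=
      Nat.card_congr ⟨fun x => ⟨x.1.1, x.2⟩, fun y => ⟨⟨y.1, Subgroup.le_normalizer y.2⟩, y.2⟩,
        fun x => rfl, fun y => rfl⟩
    let Z : Subgroup G := (Subgroup.center M).map M.subtype ⊓ R'
    have hZlt : Z < R' := by
      refine lt_of_le_of_ne inf_le_right fun heq => hnot fun n hn => ?_
      rw [Subgroup.mem_centralizer_iff]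
      intro y hy
      obtain ⟨y', hy', rfl⟩ := Subgroup.mem_map.mp
        (inf_le_left (a := (Subgroup.center M).map M.subtype) (heq.ge hy))
      exact (congrArg Subtype.val (Subgroup.mem_center_iff.mp hy' ⟨n, hn⟩)).symm
    have hZcard : Nat.card ↥(S ∩ (Subgroup.center M : Set M)) ≤ Nat.card Z :=
      Nat.card_le_card_of_injective
        (fun x => (⟨x.1.1, Subgroup.mem_map.mpr ⟨x.1, x.2.2, rfl⟩, x.2.1⟩ : Z))
        (fun a b hab => Subtype.ext (Subtype.ext (congrArg Subtype.val hab :)))
    have hZr : r * Nat.card Z ≤ Nat.card R' := by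
      obtain ⟨d, hd⟩ := Subgroup.card_dvd_of_le hZlt.le
      have hdd : d ∣ r ^ (Nat.card G).factorization r := hR'card ▸ hd ▸ Dvd.intro_left _ rfl
      obtain ⟨j, _, rfl⟩ := (Nat.dvd_prime_pow hr.out).mp hdd
      cases j with
      | zero =>
        exact absurd (Subgroup.eq_of_le_of_card_ge hZlt.le (by simpa using hd.le)) hZlt.ne
      | succ j =>
        rw [hd, mul_comm r]
        exact Nat.mul_le_mul_left _ (Nat.le_self_pow (Nat.succ_ne_zero j) r)
    rw [← hR'card] at h1
    rw [hcardS] at hc
    have hk' : Nat.card (PiClass ({r} : Set ℕ) G) ≤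
        Nat.card {c : ConjClasses M // c.carrier ⊆ S} := hk
    rcases eq_or_ne r 3 with hr' | hr'
    · rw [hs, if_pos hr'] at hc
      rw [hr'] at hZr
      omega
    · rw [hs, if_neg hr'] at hc
      have hr5 : 5 ≤ r := by
        have h4 : r ≠ 4 := by
          intro h
          have := hr.out
          rw [h] at this
          norm_num at this
        omega
      have : 5 * Nat.card Z ≤ Nat.card R' := (Nat.mul_le_mul_right _ hr5).trans hZr
      omega
  · -- the subgroup `R P₀` carries all classes of {2, r}-elements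
    exfalso
    push Not at hcen
    obtain ⟨y₀, hy₀, hy₀n⟩ := hcen
    set H : Subgroup G := R' ⊔ P₀ with hH
    have hHM : H ≤ M := sup_le Subgroup.le_normalizer hP₀M
    haveI hRn : (R'.subgroupOf H).Normal :=
      (Subgroup.normal_subgroupOf_iff_le_normalizer le_sup_left).mpr hHM
    have hHcard : Nat.card H ≤ 2 ^ (Nat.card G).factorization 2 * r ^ (Nat.card G).factorization r := by
      rw [← hP₀card, ← hR'card, ← Nat.card_prod]
      refine Nat.card_le_card_of_surjective (fun t : P₀ × R' => (⟨(t.2 : G) * t.1,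
        mul_mem (Subgroup.mem_sup_left t.2.2) (Subgroup.mem_sup_right t.1.2)⟩ : H)) ?_
      rintro ⟨x, hx⟩
      rw [← SetLike.mem_coe, Subgroup.coe_mul_of_right_le_normalizer_left R' P₀ hP₀M] at hx
      obtain ⟨a, ha, b, hb, rfl⟩ := Set.mem_mul.mp hx
      exact ⟨(⟨b, hb⟩, ⟨a, ha⟩), rfl⟩
    have hcov : Nat.card (PiClass ((↑({2, r} : Finset ℕ)) : Set ℕ) G) ≤ Nat.card (ConjClasses H) := by
      refine card_piClass_le_of_cover (ConjClasses.map H.subtype) fun x hx => ?_
      obtain ⟨y, z, hxyz, hyz, hy, hz⟩ := exists_decomposition (p := 2) (π := ({r} : Set ℕ))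
        (x := x) fun s hs hd => by simpa using hx s hs hd
      obtain ⟨i, hi⟩ := (isPiElt_singleton_iff y).mp hy
      obtain ⟨j, hj⟩ := (isPiElt_singleton_iff z).mp hz
      have hzN : z ∈ N := by
        rw [← QuotientGroup.eq_one_iff, ← orderOf_eq_one_iff]
        refine Nat.eq_one_of_dvd_coprimes
          (Nat.Coprime.pow_left j (hr.out.coprime_iff_not_dvd.mpr hrN)) ?_ ?_
        · rw [← hj]; exact orderOf_map_dvd (QuotientGroup.mk' N) z
        · exact (orderOf_dvd_natCard _).trans (dvd_of_eq N.index_eq_card.symm)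
      obtain ⟨Q, hzQ, hyQ⟩ := Cfsg.Agent.Lib.Coprime.exists_invariant_sylow_ge (p := r)
        (A := Subgroup.zpowers y) (K := N) (U := Subgroup.zpowers z)
        (by rw [Subgroup.normalizer_eq_top_iff.mpr hN]; exact le_top)
        (by
          rw [Nat.card_zpowers, hi]
          exact Nat.Coprime.pow_left i (Nat.prime_two.coprime_iff_not_dvd.mpr hNodd))
        (Or.inl inferInstance)
        (Subgroup.zpowers_le.mpr hzN)
        (IsPGroup.of_card (n := j) (by rw [Nat.card_zpowers, hj]))
        (by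
          rw [Subgroup.zpowers_le, Subgroup.mem_normalizer_iff]
          intro w
          constructor
          · intro hw
            obtain ⟨k, rfl⟩ := Subgroup.mem_zpowers_iff.mp hw
            rw [(hyz.zpow_right k).eq, mul_inv_cancel_right]
            exact zpow_mem (Subgroup.mem_zpowers z) k
          · intro hw
            obtain ⟨k, hk⟩ := Subgroup.mem_zpowers_iff.mp hw
            have : w = z ^ k := by
              calc w = y⁻¹ * (y * w * y⁻¹) * y := by group
                _ = y⁻¹ * (z ^ k) * y := by rw [← hk]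
                _ = z ^ k := by rw [mul_assoc, ← (hyz.zpow_right k).eq, inv_mul_cancel_left]
            rw [this]
            exact zpow_mem (Subgroup.mem_zpowers z) k)
      obtain ⟨n, hn⟩ := MulAction.exists_smul_eq N Q R₀
      have hmap : ∀ w : G, w ∈ (Q : Subgroup N).map N.subtype → (n : G) * w * (n : G)⁻¹ ∈ R' := by
        rintro _ ⟨w, hw, rfl⟩
        refine ⟨n * w * n⁻¹, ?_, by simp⟩
        rw [← hn, Sylow.coe_subgroup_smul, SetLike.mem_coe, Subgroup.mem_pointwise_smul_iff_inv_smul_mem]
        simp [MulAut.smul_def, MulAut.inv_def, mul_assoc]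
        exact hw
      have hz1 : (n : G) * z * (n : G)⁻¹ ∈ R' := hmap z (hzQ (Subgroup.mem_zpowers z))
      have hy1 : (n : G) * y * (n : G)⁻¹ ∈ M := by
        have hbij : ∀ w : G, w ∈ R' → (n : G)⁻¹ * w * n ∈ (Q : Subgroup N).map N.subtype := by
          rintro _ ⟨w, hw, rfl⟩
          rw [← hn, Sylow.coe_subgroup_smul, SetLike.mem_coe,
            Subgroup.mem_pointwise_smul_iff_inv_smul_mem] at hw
          exact ⟨_, hw, by simp [MulAut.smul_def, MulAut.inv_def]⟩
        have hyN := Subgroup.mem_normalizer_iff.mp (hyQ (Subgroup.mem_zpowers y))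
        rw [hM, Subgroup.mem_normalizer_iff]
        intro w
        constructor
        · intro hw
          have := hmap _ ((hyN _).mp (hbij w hw))
          simpa [mul_assoc] using this
        · intro hw
          have h' := hbij _ hw
          have := hmap _ ((hyN ((n : G)⁻¹ * w * n)).mpr (by simpa [mul_assoc] using h'))
          simpa [mul_assoc] using this
      obtain ⟨w, hw, hwc⟩ := exists_conj_mem_sylow P₁
        (x := (⟨(n : G) * y * (n : G)⁻¹, hy1⟩ : M)) (fun s hs hd => by
          refine hy s hs ?_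
          rwa [← Subgroup.orderOf_coe, Subgroup.coe_mk,
            ← orderOf_eq_of_isConj (isConj_iff.mpr ⟨(n : G), rfl⟩)] at hd)
      obtain ⟨m, hm⟩ := isConj_iff.mp hwc
      have hm' : (m : G) * ((n : G) * y * (n : G)⁻¹) * (m : G)⁻¹ = (w : G) := congrArg Subtype.val hm
      have hwH : (w : G) ∈ H := Subgroup.mem_sup_right ⟨w, hw, rfl⟩
      have hzH : (m : G) * ((n : G) * z * (n : G)⁻¹) * (m : G)⁻¹ ∈ H :=
        Subgroup.mem_sup_left ((Subgroup.mem_normalizer_iff.mp m.2 _).mp hz1)
      refine ⟨ConjClasses.mk ⟨_, mul_mem hwH hzH⟩, ?_⟩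
      refine (ConjClasses.mk_eq_mk_iff_isConj.mpr (isConj_iff.mpr ⟨(m : G) * n, ?_⟩)).symm
      show (m : G) * n * x * ((m : G) * n)⁻¹ = _ * _
      rw [← hm', hxyz]
      group
    have hle := two_mul_card_conjClasses_le hr2 (R'.subgroupOf H)
      ((R.2.to_le le_rfl).comap_subtype)
      ⟨⟨fun a b => Subtype.ext (Subtype.ext (show (a.1 : G) * b.1 = b.1 * a.1 from congrArg Subtype.val
        ((hab R).is_comm.comm ⟨(a.1 : G), a.2⟩ ⟨(b.1 : G), b.2⟩)))⟩⟩
      (y := (⟨y₀, Subgroup.mem_sup_right hy₀⟩ : H)) (fun h => hy₀n (Subgroup.mem_centralizer_iff.mpr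
        fun a ha => congrArg Subtype.val (Subgroup.mem_centralizer_iff.mp h
          ⟨a, Subgroup.mem_sup_left ha⟩ ha)))
    omega


/-- Let π be a finite set of primes containing 2 and G a finite group. Write k_π(G) for the number of conjugacy classes of G consisting of π-elements (elements all of whose order's prime divisors lie in π) and |G|_π for the π-part of the order of G. If k_π(G) > |G|_π/2, then G has a normal π-complement (a normal subgroup of order prime to π whose index is a π-number) and an abelian Hall subgroup for the set of odd primes in π. -/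
theorem result {G : Type*} [Group G] [Finite G] (π : Finset ℕ) (hπ : ∀ r ∈ π, r.Prime) (h2 : 2 ∈ π)
    (hk : π.prod (fun r => r ^ (Nat.card G).factorization r) < 2 * Nat.card {c : ConjClasses G // ∀ x ∈ c.carrier, ∀ r : ℕ, r.Prime → r ∣ orderOf x → r ∈ π}) :
    (∃ N : Subgroup G, N.Normal ∧ (∀ r : ℕ, r.Prime → r ∣ Nat.card ↥N → r ∉ π) ∧ ∀ r : ℕ, r.Prime → r ∣ N.index → r ∈ π) ∧ ∃ H : Subgroup G, Cfsg.IsPiHall ((↑π : Set ℕ) \ {2}) H ∧ IsMulCommutative ↥H := by
  haveI h2' : Fact (Nat.Prime 2) := ⟨Nat.prime_two⟩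
  have hk' : 1 * piPart π G < 2 * Nat.card (PiClass (↑π : Set ℕ) G) := by
    rw [one_mul]; exact hk
  have hP : ∀ P : Sylow 2 G,
      Nat.card ↥(P : Subgroup G) < 2 * Nat.card (PiClass ({2} : Set ℕ) G) := fun P => by
    have := mul_pow_lt_of_mul_piPart_lt π hπ h2 hk'
    rwa [one_mul, ← P.card_eq_multiplicity] at this
  have hN2 : Cfsg.HasNormalPComplement 2 G :=
    hasNormalTwoComplement_of_twoClass_bound (default : Sylow 2 G) (hP _)
  have key : ∀ r ∈ π.erase 2, Cfsg.HasNormalPComplement r G ∧
      ∀ R : Sylow r G, IsMulCommutative ↥(R : Subgroup G) := by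
    intro r hr
    obtain ⟨hr2, hrπ⟩ := Finset.mem_erase.mp hr
    haveI : Fact r.Prime := ⟨hπ r hrπ⟩
    have h1 : 1 * r ^ (Nat.card G).factorization r < 2 * Nat.card (PiClass ({r} : Set ℕ) G) :=
      mul_pow_lt_of_mul_piPart_lt π hπ hrπ hk'
    rw [one_mul] at h1
    have hab : ∀ R : Sylow r G, IsMulCommutative ↥(R : Subgroup G) := fun R =>
      isMulCommutative_of_bound hr2 R (by rwa [R.card_eq_multiplicity])
    refine ⟨?_, hab⟩
    -- the bound for two primes
    have h3 : (2 : ℕ) ^ (Nat.card G).factorization 2 * r ^ (Nat.card G).factorization r <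
        2 * Nat.card (PiClass ((↑({2, r} : Finset ℕ)) : Set ℕ) G) := by
      have hsub : ({2, r} : Finset ℕ) ⊆ π := Finset.insert_subset h2 (Finset.singleton_subset_iff.mpr hrπ)
      have hle := card_piClass_union_le (G := G) {2, r} (π \ {2, r})
        (fun s hs => hπ s (hsub hs)) (fun s hs => hπ s (Finset.mem_sdiff.mp hs).1)
      rw [← Finset.coe_union, Finset.union_sdiff_of_subset hsub] at hle
      have hpart : piPart π G = 2 ^ (Nat.card G).factorization 2 * r ^ (Nat.card G).factorization r *
          piPart (π \ {2, r}) G := by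
        rw [piPart, piPart, ← Finset.prod_pair (f := fun s => s ^ (Nat.card G).factorization s)
          (Ne.symm hr2), mul_comm, Finset.prod_sdiff hsub]
      have h4 := hk'.trans_le (Nat.mul_le_mul_left 2 hle)
      rw [one_mul, hpart, ← mul_assoc] at h4
      exact Nat.lt_of_mul_lt_mul_right h4
    exact hasNormalPComplement_odd hr2 hN2 hab h1 h3
  obtain ⟨N, hN, hN1, hN2', -⟩ := exists_normal_piComplement π hπ fun r hr => by
    by_cases hr2 : r = 2
    · subst hr2; exact hN2
    · exact (key r (Finset.mem_erase.mpr ⟨hr2, hr⟩)).1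
  obtain ⟨H, hH, hHc⟩ := exists_abelian_piHall (π.erase 2)
    (fun r hr => hπ r (Finset.mem_of_mem_erase hr)) (fun r hr => (key r hr).1) fun r hr => (key r hr).2
  rw [Finset.coe_erase] at hH
  exact ⟨⟨N, hN, hN1, hN2'⟩, H, hH, hHc⟩

end Cfsg.Agent.S3898
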