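import Cfsg.Statements.S3899
import Mathlib
import Cfsg.Agent.Lib.PiClasses.Bounds
import Cfsg.Agent.Lib.PiClasses.Complement

set_option autoImplicit false
open Cfsg
open Cfsg.Agent.Lib.PiClasses

namespace Cfsg.Agent.S3899

/-- Let π be a finite non-empty set of odd primes with smallest member p and G a finite group. Write k_π(G) for the number of conjugacy classes of G consisting of π-elements (elements all of whose order's prime divisors lie in π) and |G|_π for the π-part of the order of G. If k_π(G) > (p + 1)|G|_π/(2p), then G has a normal π-complement (a normal subgroup of order prime to π whose index is a π-number) and an abelian Hall π-subgroup. -/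
theorem result {G : Type*} [Group G] [Finite G] (π : Finset ℕ) (hπ : ∀ r ∈ π, r.Prime) (h2 : 2 ∉ π) (p : ℕ) (hp : p ∈ π)
    (hmin : ∀ r ∈ π, p ≤ r) (hk : (p + 1) * π.prod (fun r => r ^ (Nat.card G).factorization r) < 2 * p * Nat.card {c : ConjClasses G // ∀ x ∈ c.carrier, ∀ r : ℕ, r.Prime → r ∣ orderOf x → r ∈ π}) :
    (∃ N : Subgroup G, N.Normal ∧ (∀ r : ℕ, r.Prime → r ∣ Nat.card ↥N → r ∉ π) ∧ ∀ r : ℕ, r.Prime → r ∣ N.index → r ∈ π) ∧ ∃ H : Subgroup G, Cfsg.IsPiHall (↑π : Set ℕ) H ∧ IsMulCommutative ↥H := by
  have key : ∀ r ∈ π, Cfsg.HasNormalPComplement r G ∧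
      ∀ R : Sylow r G, IsMulCommutative ↥(R : Subgroup G) := by
    intro r hr
    haveI : Fact r.Prime := ⟨hπ r hr⟩
    have h1 : (p + 1) * r ^ (Nat.card G).factorization r <
        2 * p * Nat.card (PiClass ({r} : Set ℕ) G) :=
      mul_pow_lt_of_mul_piPart_lt π hπ hr hk
    have h2 : ∀ R : Sylow r G, Cfsg.HasNormalPComplement r G ∧
        IsMulCommutative ↥(R : Subgroup G) := by
      intro R
      refine normalPComplement_and_comm_of_pClass_bound (fun h => h2 (h ▸ hr)) R ?_
      rw [R.card_eq_multiplicity]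
      refine Nat.lt_of_mul_lt_mul_left (a := p) ?_
      calc p * ((r + 1) * r ^ (Nat.card G).factorization r)
          ≤ r * ((p + 1) * r ^ (Nat.card G).factorization r) := by
            rw [← mul_assoc, ← mul_assoc]
            refine Nat.mul_le_mul_right _ ?_
            have := hmin r hr
            rw [mul_add, mul_add, mul_one, mul_one, mul_comm r p]
            omega
        _ < r * (2 * p * Nat.card (PiClass ({r} : Set ℕ) G)) :=
            Nat.mul_lt_mul_of_pos_left h1 (hπ r hr).pos
        _ = p * (2 * r * Nat.card (PiClass ({r} : Set ℕ) G)) := by ring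
    exact ⟨(h2 (Classical.arbitrary _)).1, fun R => (h2 R).2⟩
  obtain ⟨N, hN, hN1, hN2, -⟩ := exists_normal_piComplement π hπ fun r hr => (key r hr).1
  exact ⟨⟨N, hN, hN1, hN2⟩,
    exists_abelian_piHall π hπ (fun r hr => (key r hr).1) fun r hr => (key r hr).2⟩

end Cfsg.Agent.S3899
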