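import Cfsg.Statements.S3901
import Cfsg.Agent.Lib.CNTheorem.Main
import Cfsg.Agent.Lib.ZStar.Final
import Cfsg.Agent.Lib.Coprime.FrobeniusAction
import Cfsg.Agent.Lib.Burnside.Paqb
import Cfsg.Agent.Lib.PSolvable.Core

set_option autoImplicit false
open Cfsg

namespace Cfsg.Agent.S3901


open Subgroup
open Cfsg.Agent.Lib
open scoped commutatorElement

universe u

theorem even_card_of_involutive {X : Type*} [Fintype X] (σ : X → X) (hσ : Function.Involutive σ)
    (hno : ∀ x, σ x ≠ x) : Even (Fintype.card X) := by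
  classical
  have h := Equiv.Perm.card_fixedPoints_modEq (p := 2) (n := 1) (f := (σ : Function.End X))
    (funext fun x => hσ x)
  have h0 : Fintype.card (Function.fixedPoints (σ : Function.End X)) = 0 :=
    Fintype.card_eq_zero_iff.mpr ⟨fun x => hno x.1 x.2⟩
  rw [h0] at h
  exact Nat.even_iff.mpr h

/-- An element of order divisible by two distinct primes does not have prime power order. -/
theorem not_isPrimePow_orderOf {G : Type u} [Group G] {p q : ℕ} (hp : p.Prime) (hq : q.Prime)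
    (hpq : p ≠ q) {x : G} (h1 : p ∣ orderOf x) (h2 : q ∣ orderOf x) : ¬ IsPrimePow (orderOf x) := by
  intro h
  obtain ⟨r, k, hr, -, hk⟩ := (isPrimePow_nat_iff _).mp h
  rw [← hk] at h1 h2
  exact hpq (((Nat.prime_dvd_prime_iff_eq hp hr).mp (hp.dvd_of_dvd_pow h1)).trans
    ((Nat.prime_dvd_prime_iff_eq hq hr).mp (hq.dvd_of_dvd_pow h2)).symm)

variable {G : Type u} [Group G] [Finite G] (N : Subgroup G) [N.Normal]

/-- Elements outside `N` have no fixed points on elements of `N` of coprime prime order. -/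
theorem eq_one_of_commute (h : ∀ x : G, x ∉ N → IsPrimePow (orderOf x)) {x c : G} {p q j : ℕ}
    (hp : p.Prime) (hq : q.Prime) (hpq : p ≠ q) (hx : x ∉ N) (hxp : p ∣ orderOf x)
    (hxq : ¬ q ∣ orderOf x) (hc : c ∈ N) (hco : orderOf c = q ^ j) (hcomm : Commute x c) :
    c = 1 := by
  by_contra hc1
  have hj : 0 < j := Nat.pos_of_ne_zero fun e => hc1 (orderOf_eq_one_iff.mp (by rw [hco, e, pow_zero]))
  have hxc : x * c ∉ N := fun hm => hx ((Subgroup.mul_mem_cancel_right N hc).mp hm)
  obtain ⟨r, m, hr, -, hm⟩ := (isPrimePow_nat_iff _).mp (h x hx)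
  have hrp : p = r := (Nat.prime_dvd_prime_iff_eq hp hr).mp (hp.dvd_of_dvd_pow (hm.symm ▸ hxp))
  subst hrp
  have hcop : (orderOf x).Coprime (orderOf c) := by
    rw [hco]; exact ((hq.coprime_iff_not_dvd.mpr hxq).symm).pow_right j
  refine not_isPrimePow_orderOf hp hq hpq ?_ ?_ (h _ hxc) <;>
    rw [hcomm.orderOf_mul_eq_mul_orderOf_of_coprime hcop]
  · exact hxp.mul_right _
  · rw [hco]; exact (dvd_pow_self q hj.ne').mul_left _

/-- The Sylow 2-subgroups of the quotient contain only one involution. -/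
theorem unique_involution (h : ∀ x : G, x ∉ N → IsPrimePow (orderOf x))
    (hns : ¬ Group.IsSolvable N) (hGN : ¬ Group.IsSolvable (G ⧸ N)) :
    ∀ (P : Sylow 2 (G ⧸ N)) (a b : G ⧸ N), a ∈ P → b ∈ P → orderOf a = 2 → orderOf b = 2 →
      Commute a b → a = b := by
  classical
  haveI : Fact (Nat.Prime 2) := ⟨Nat.prime_two⟩
  -- an odd prime divisor of the order of `N`
  obtain ⟨r, hr, hrN, hr2⟩ : ∃ r, r.Prime ∧ r ∣ Nat.card N ∧ r ≠ 2 := by
    by_contra hcon
    push Not at hcon
    exact hns (haveI : Group.IsNilpotent N := (IsPGroup.of_card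
      (Nat.eq_prime_pow_of_unique_prime_dvd Nat.card_pos.ne' fun {d} hd hdN => hcon d hd hdN)
        : IsPGroup 2 N).isNilpotent
      inferInstance)
  haveI : Fact r.Prime := ⟨hr⟩
  obtain ⟨R₀⟩ : Nonempty (Sylow r N) := inferInstance
  set R : Subgroup G := (R₀ : Subgroup N).map N.subtype with hR
  have hRN : R ≤ N := Subgroup.map_subtype_le _
  have hL : normalizer (R : Set G) ⊔ N = ⊤ := Sylow.normalizer_sup_eq_top R₀
  obtain ⟨H, hH⟩ := (Set.toFinite {H : Subgroup G | H ≤ normalizer (R : Set G) ∧ H ⊔ N = ⊤}).exists_minimal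
    ⟨_, le_rfl, hL⟩
  obtain ⟨hHL, hHN⟩ := hH.prop
  -- `F = H ∩ N` is nilpotent
  set F : Subgroup H := N.subgroupOf H with hF
  have hFfr : F ≤ frattini H := by
    rw [frattini, Order.radical]
    simp only [le_iInf_iff]
    intro M hM
    by_contra hle
    have htop : M ⊔ F = ⊤ := hM.2 _ (lt_of_le_of_ne le_sup_left fun e => hle (e.symm ▸ le_sup_right))
    have hMN : M.map H.subtype ⊔ N = ⊤ := by
      refine top_le_iff.mp (hHN ▸ sup_le ?_ le_sup_right)
      calc H = (M ⊔ F).map H.subtype := by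
            rw [htop, ← MonoidHom.range_eq_map, Subgroup.range_subtype]
        _ ≤ _ := by
          rw [Subgroup.map_sup]
          exact sup_le_sup le_rfl (Subgroup.map_comap_le _ _)
    have heq : M.map H.subtype = H := le_antisymm (Subgroup.map_subtype_le M)
      (hH.le_of_le ⟨(Subgroup.map_subtype_le M).trans hHL, hMN⟩ (Subgroup.map_subtype_le M))
    refine hM.1 (Subgroup.map_injective H.subtype_injective ?_)
    rw [heq, ← MonoidHom.range_eq_map, Subgroup.range_subtype]
  haveI : Group.IsNilpotent (frattini H) := frattini_nilpotent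
  haveI hFnil : Group.IsNilpotent F :=
    Cfsg.Agent.Lib.CNTheorem.isNilpotent_of_injective (Subgroup.inclusion hFfr)
      (Subgroup.inclusion_injective _)
  -- the map onto the quotient
  let π : H →* G ⧸ N := (QuotientGroup.mk' N).comp H.subtype
  have hπ : Function.Surjective π := by
    intro z
    obtain ⟨g, rfl⟩ := QuotientGroup.mk'_surjective N z
    obtain ⟨y, hy, n, hn, rfl⟩ := Subgroup.mem_sup_of_normal_right.mp (hHN ▸ Subgroup.mem_top g : g ∈ H ⊔ N)
    refine ⟨⟨y, hy⟩, ?_⟩
    show QuotientGroup.mk' N y = QuotientGroup.mk' N (y * n)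
    rw [map_mul, (QuotientGroup.eq_one_iff n).mpr hn |> fun e => (show QuotientGroup.mk' N n = 1 from e),
      mul_one]
  have hπ1 : ∀ y : H, π y = 1 ↔ y ∈ F := fun y => by
    show QuotientGroup.mk' N (y : G) = 1 ↔ _
    rw [QuotientGroup.mk'_apply, QuotientGroup.eq_one_iff]; rfl
  obtain ⟨Q⟩ : Nonempty (Sylow 2 H) := inferInstance
  have hQo : ∀ x ∈ (Q : Subgroup H), ∃ m, orderOf (x : G) = 2 ^ m := fun x hx => by
    obtain ⟨m, hm⟩ := IsPGroup.iff_orderOf.mp Q.isPGroup' ⟨x, hx⟩
    exact ⟨m, by rwa [Subgroup.orderOf_mk, ← Subgroup.orderOf_coe] at hm⟩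
  -- an odd subgroup centralised by the kernel part
  obtain ⟨W, hW1, hWo, hQW, hTW, hfpf⟩ : ∃ W : Subgroup G, W ≠ ⊥ ∧ Odd (Nat.card W) ∧
      (∀ x ∈ (Q : Subgroup H), ∀ w ∈ W, (x : G) * w * (x : G)⁻¹ ∈ W) ∧
      (∀ x ∈ (Q : Subgroup H), x ∈ F → ∀ w ∈ W, Commute (x : G) w) ∧
      ∀ x ∈ (Q : Subgroup H), x ∉ F → ∀ w ∈ W, Commute (x : G) w → w = 1 := by
    have hfix : ∀ (q : ℕ), q.Prime → q ≠ 2 → ∀ x ∈ (Q : Subgroup H), x ∉ F → ∀ w ∈ N,
        (∃ j, orderOf w = q ^ j) → Commute (x : G) w → w = 1 := by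
      intro q hq hq2 x hxQ hxF w hw ⟨j, hj⟩ hc
      obtain ⟨m, hm⟩ := hQo x hxQ
      have hxN : (x : G) ∉ N := fun e => hxF (Subgroup.mem_subgroupOf.mpr e)
      have hm0 : m ≠ 0 := fun e => hxN (by
        rw [orderOf_eq_one_iff.mp (by rw [hm, e, pow_zero] : orderOf (x : G) = 1)]; exact N.one_mem)
      refine eq_one_of_commute N h Nat.prime_two hq hq2.symm hxN (hm ▸ dvd_pow_self 2 hm0) ?_ hw hj hc
      rw [hm]
      exact fun e => hq2 ((Nat.prime_dvd_prime_iff_eq hq Nat.prime_two).mp (hq.dvd_of_dvd_pow e))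
    by_cases hs : ∃ s, s.Prime ∧ s ≠ 2 ∧ s ∣ Nat.card F
    · obtain ⟨s, hs, hs2, hsF⟩ := hs
      haveI : Fact s.Prime := ⟨hs⟩
      obtain ⟨S₀⟩ : Nonempty (Sylow s F) := inferInstance
      haveI : (S₀ : Subgroup F).Characteristic := Sylow.characteristic_of_normal S₀
        ((Group.isNilpotent_of_finite_tfae (G := F)).out 0 3 rfl rfl |>.mp hFnil s ⟨hs⟩ S₀)
      set S : Subgroup H := (S₀ : Subgroup F).map F.subtype with hS
      haveI hSn : S.Normal := ConjAct.normal_of_characteristic_of_normal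
      have hcard : Nat.card (S.map H.subtype) = Nat.card (S₀ : Subgroup F) := by
        rw [Subgroup.card_map_of_injective H.subtype_injective, hS,
          Subgroup.card_map_of_injective F.subtype_injective]
      obtain ⟨j, hj⟩ := IsPGroup.iff_card.mp S₀.isPGroup'
      refine ⟨S.map H.subtype, ?_, ?_, ?_, ?_, ?_⟩
      · rw [← Subgroup.one_lt_card_iff_ne_bot, hcard, Subgroup.one_lt_card_iff_ne_bot]
        exact S₀.ne_bot_of_dvd_card hsF
      · rw [hcard, hj]; exact (hs.odd_of_ne_two hs2).pow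
      · rintro x hx _ ⟨w, hw, rfl⟩
        exact ⟨x * w * x⁻¹, hSn.conj_mem w hw x, rfl⟩
      · rintro x hx hxF _ ⟨w, ⟨u, hu, rfl⟩, rfl⟩
        obtain ⟨m, hm⟩ := hQo x hx
        obtain ⟨i, hi⟩ := IsPGroup.iff_orderOf.mp S₀.isPGroup' ⟨u, hu⟩
        have hcop : (orderOf (⟨x, hxF⟩ : F)).Coprime (orderOf u) := by
          rw [Subgroup.orderOf_mk, ← Subgroup.orderOf_coe x, hm]
          rw [Subgroup.orderOf_mk] at hi
          rw [hi]
          exact ((Nat.coprime_primes Nat.prime_two hs).mpr hs2.symm).pow m i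
        have := Cfsg.Agent.Lib.NilpotentPerm.commute_of_coprime_orderOf hFnil hcop
        exact congrArg (fun z : F => ((z : H) : G)) this
      · rintro x hx hxF _ ⟨w, ⟨u, hu, rfl⟩, rfl⟩ hc
        obtain ⟨i, hi⟩ := IsPGroup.iff_orderOf.mp S₀.isPGroup' ⟨u, hu⟩
        rw [Subgroup.orderOf_mk] at hi
        exact hfix s hs hs2 x hx hxF _ (Subgroup.mem_subgroupOf.mp u.2)
          ⟨i, by simpa [Subgroup.orderOf_coe] using hi⟩ hc
    -- otherwise `F` is a 2-group centralising the centre of `R`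
    push Not at hs
    set Z : Subgroup G := (center R).map R.subtype with hZ
    haveI : Nontrivial R := by
      rw [Subgroup.nontrivial_iff_ne_bot, hR, ← Subgroup.one_lt_card_iff_ne_bot,
        Subgroup.card_map_of_injective N.subtype_injective, Subgroup.one_lt_card_iff_ne_bot]
      exact R₀.ne_bot_of_dvd_card hrN
    have hRp : IsPGroup r R := R₀.isPGroup'.map N.subtype
    have hZR : Z ≤ R := Subgroup.map_subtype_le _
    haveI : IsMulCommutative Z := by rw [hZ]; infer_instance
    have hZn : normalizer (R : Set G) ≤ normalizer (Z : Set G) := by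
      intro g hg
      have hconj : ∀ g ∈ normalizer (R : Set G), ∀ z ∈ Z, g * z * g⁻¹ ∈ Z := by
        rintro g hg _ ⟨z, hz, rfl⟩
        refine ⟨⟨g * z * g⁻¹, (Subgroup.mem_normalizer_iff.mp hg _).mp z.2⟩, ?_, rfl⟩
        rw [SetLike.mem_coe, Subgroup.mem_center_iff]
        intro y
        have hy : g⁻¹ * y * g ∈ R := by
          simpa using (Subgroup.mem_normalizer_iff.mp (inv_mem hg) _).mp y.2
        have hcz := congrArg Subtype.val (Subgroup.mem_center_iff.mp hz ⟨_, hy⟩)
        refine Subtype.ext ?_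
        simp only [Subgroup.coe_mul] at hcz ⊢
        calc (y : G) * (g * z * g⁻¹) = g * (g⁻¹ * y * g * z) * g⁻¹ := by group
          _ = g * (z * (g⁻¹ * y * g)) * g⁻¹ := by rw [hcz]
          _ = g * z * g⁻¹ * y := by group
      rw [Subgroup.mem_normalizer_iff]
      refine fun z => ⟨hconj g hg z, fun hz => ?_⟩
      simpa [mul_assoc] using hconj g⁻¹ (inv_mem hg) _ hz
    have hFp : IsPGroup 2 F := IsPGroup.of_card
      (Nat.eq_prime_pow_of_unique_prime_dvd Nat.card_pos.ne' fun {d} hd hdF => by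
        by_contra hd2; exact hs d hd hd2 hdF)
    obtain ⟨jZ, hjZ⟩ := IsPGroup.iff_card.mp (hRp.to_le hZR)
    obtain ⟨jF, hjF⟩ := IsPGroup.iff_card.mp hFp
    -- an element of odd prime order outside `F`
    obtain ⟨s, hs', hsG, hs2, hsr⟩ : ∃ s, s.Prime ∧ s ∣ Nat.card (G ⧸ N) ∧ s ≠ 2 ∧ s ≠ r := by
      by_contra hcon
      push Not at hcon
      refine hGN (Lib.Burnside.isSolvable_of_card_eq_prime_pow_mul (p := 2) (q := r)
        (a := (Nat.card (G ⧸ N)).factorization 2) (b := (Nat.card (G ⧸ N)).factorization r)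
        Nat.prime_two hr ?_)
      conv_lhs => rw [← Nat.prod_factorization_pow_eq_self (n := Nat.card (G ⧸ N)) Nat.card_pos.ne']
      rw [Finsupp.prod_of_support_subset _ (s := {2, r}) ?_ _ (by simp), Finset.prod_pair hr2.symm]
      intro d hd
      rw [Nat.support_factorization, Nat.mem_primeFactors] at hd
      rw [Finset.mem_insert, Finset.mem_singleton]
      by_cases h' : d = 2
      · exact Or.inl h'
      · exact Or.inr (hcon d hd.1 hd.2.1 h')
    haveI : Fact s.Prime := ⟨hs'⟩
    obtain ⟨y, hy⟩ := exists_prime_orderOf_dvd_card' s (hsG.trans (Subgroup.card_dvd_of_surjective π hπ))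
    have hyo : orderOf (y : G) = s := by rw [Subgroup.orderOf_coe]; exact hy
    have hyF : y ∉ F := fun e => by
      have h1 : s ∣ Nat.card F := hy ▸ Subgroup.orderOf_dvd_natCard F e
      exact hs s hs' hs2 h1
    have hyN : (y : G) ∉ N := fun e => hyF (Subgroup.mem_subgroupOf.mpr e)
    set FG : Subgroup G := F.map H.subtype with hFG
    have hbot := Cfsg.Agent.Lib.Coprime.commutator_eq_bot_of_fixedPointFree (V := Z) (S := FG)
      (τ := (y : G)) hs' (by rw [← hyo, pow_orderOf_eq_one])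
      ((Subgroup.map_subtype_le F).trans (hHL.trans hZn)) (hZn (hHL y.2))
      (by
        rw [Subgroup.mem_normalizer_iff]
        intro z
        constructor
        · rintro ⟨u, hu, rfl⟩
          exact ⟨y * u * y⁻¹, (inferInstance : F.Normal).conj_mem u hu y, rfl⟩
        · rintro ⟨u, hu, hu'⟩
          refine ⟨y⁻¹ * u * y, by simpa using (inferInstance : F.Normal).conj_mem u hu y⁻¹, ?_⟩
          simp only [Subgroup.coe_subtype, Subgroup.coe_mul, InvMemClass.coe_inv] at hu' ⊢
          rw [hu']; group)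
      (by
        rw [eq_bot_iff]
        rintro z ⟨hz, hzc⟩
        obtain ⟨i, hi⟩ := IsPGroup.iff_orderOf.mp (hRp.to_le hZR) ⟨z, hz⟩
        rw [Subgroup.orderOf_mk] at hi
        exact Subgroup.mem_bot.mpr (eq_one_of_commute N h hs' hr hsr hyN (hyo ▸ dvd_rfl)
          (by rw [hyo, Nat.prime_dvd_prime_iff_eq hr hs']; exact hsr.symm) (hRN (hZR hz)) hi
          (Subgroup.mem_centralizer_singleton_iff.mp hzc).symm))
      (by
        rw [eq_bot_iff]
        rintro z ⟨⟨u, hu, rfl⟩, hzc⟩
        obtain ⟨i, hi⟩ := IsPGroup.iff_orderOf.mp hFp ⟨u, hu⟩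
        rw [Subgroup.orderOf_mk, ← Subgroup.orderOf_coe] at hi
        exact Subgroup.mem_bot.mpr (eq_one_of_commute N h hs' Nat.prime_two hs2 hyN (hyo ▸ dvd_rfl)
          (by rw [hyo, Nat.prime_dvd_prime_iff_eq Nat.prime_two hs']; exact hs2.symm)
          (Subgroup.mem_subgroupOf.mp hu) hi (Subgroup.mem_centralizer_singleton_iff.mp hzc).symm))
      (by
        rw [hFG, Subgroup.card_map_of_injective H.subtype_injective, hjF, hjZ]
        exact ((Nat.coprime_primes Nat.prime_two hr).mpr hr2.symm).pow _ _)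
    refine ⟨Z, ?_, ?_, ?_, ?_, ?_⟩
    · rw [hZ, ← Subgroup.one_lt_card_iff_ne_bot, Subgroup.card_map_of_injective R.subtype_injective,
        Subgroup.one_lt_card_iff_ne_bot]
      exact (Subgroup.nontrivial_iff_ne_bot _).mp hRp.center_nontrivial
    · rw [hjZ]; exact (hr.odd_of_ne_two hr2).pow
    · exact fun x _ w hw => (Subgroup.mem_normalizer_iff.mp (hZn (hHL x.2)) w).mp hw
    · intro x _ hxF w hw
      have h1 : ⁅w, (x : G)⁆ ∈ ⁅Z, FG⁆ := Subgroup.commutator_mem_commutator hw ⟨x, hxF, rfl⟩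
      rw [hbot, Subgroup.mem_bot, commutatorElement_eq_one_iff_mul_comm] at h1
      exact h1.symm
    · intro x hx hxF w hw hc
      obtain ⟨i, hi⟩ := IsPGroup.iff_orderOf.mp (hRp.to_le hZR) ⟨w, hw⟩
      rw [Subgroup.orderOf_mk] at hi
      exact hfix r hr hr2 x hx hxF w (hRN (hZR hw)) ⟨i, hi⟩ hc
  -- elements whose squares lie in the kernel invert `W`
  have hinv : ∀ x ∈ (Q : Subgroup H), x ∉ F → x * x ∈ F → ∀ w ∈ W,
      (x : G) * w * (x : G)⁻¹ = w⁻¹ := by
    intro x hx hxF hxx w hw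
    let φ : W →* W :=
      { toFun := fun v => ⟨(x : G) * v * (x : G)⁻¹, hQW x hx v v.2⟩
        map_one' := Subtype.ext (by simp)
        map_mul' := fun v v' => Subtype.ext (by simp [mul_assoc]) }
    have hφ : MonoidHom.FixedPointFree φ := fun v hv => by
      refine Subtype.ext (hfpf x hx hxF v v.2 ?_)
      exact mul_inv_eq_iff_eq_mul.mp (congrArg Subtype.val hv)
    have h2 : Function.Involutive φ := fun v => by
      refine Subtype.ext ?_
      have hc := hTW (x * x) (mul_mem hx hx) hxx v v.2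
      show (x : G) * ((x : G) * v * (x : G)⁻¹) * (x : G)⁻¹ = v
      have hc' : (x : G) * x * v = v * (x * x) := by simpa using hc.eq
      calc (x : G) * ((x : G) * v * (x : G)⁻¹) * (x : G)⁻¹
          = ((x : G) * x * v) * ((x : G) * x)⁻¹ := by group
        _ = v := by rw [hc', mul_inv_cancel_right]
    exact congrArg Subtype.val (congrFun (hφ.coe_eq_inv_of_involutive h2) ⟨w, hw⟩)
  intro P a b ha hb hao hbo hab
  obtain ⟨g, hg⟩ := MulAction.exists_smul_eq (G ⧸ N) P (Q.mapSurjective hπ)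
  have hmove : ∀ c ∈ P, ∃ x ∈ (Q : Subgroup H), π x = g * c * g⁻¹ := by
    intro c hc
    have h1 : g * c * g⁻¹ ∈ ((g • P : Sylow 2 (G ⧸ N)) : Subgroup (G ⧸ N)) := by
      rw [Sylow.coe_subgroup_smul]
      exact Subgroup.smul_mem_pointwise_smul _ (MulAut.conj g) _ hc
    rw [hg, Sylow.coe_mapSurjective] at h1
    obtain ⟨x, hx, hxe⟩ := h1
    exact ⟨x, hx, hxe⟩
  by_contra hne
  obtain ⟨x, hxQ, hxa⟩ := hmove a ha
  obtain ⟨z, hzQ, hzb⟩ := hmove b hb
  have ha1 : a ≠ 1 := fun e => by rw [e, orderOf_one] at hao; omega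
  have hb1 : b ≠ 1 := fun e => by rw [e, orderOf_one] at hbo; omega
  have haa : a * a = 1 := by rw [← sq, ← hao, pow_orderOf_eq_one]
  have hbb : b * b = 1 := by rw [← sq, ← hbo, pow_orderOf_eq_one]
  have habne : a * b ≠ 1 := fun e => hne (by
    calc a = a * (b * b) := by rw [hbb, mul_one]
      _ = b := by rw [← mul_assoc, e, one_mul])
  have hout : ∀ (x : H) (c : G ⧸ N), π x = g * c * g⁻¹ → c ≠ 1 → c * c = 1 → x ∉ F ∧ x * x ∈ F := by
    intro x c hxc hc1 hcc
    refine ⟨fun e => hc1 ?_, (hπ1 _).mp ?_⟩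
    · rw [← hπ1, hxc] at e
      simpa using e
    · rw [map_mul, hxc, show g * c * g⁻¹ * (g * c * g⁻¹) = g * (c * c) * g⁻¹ by group, hcc]
      group
  have hi1 := hinv x hxQ (hout x a hxa ha1 haa).1 (hout x a hxa ha1 haa).2
  have hi2 := hinv z hzQ (hout z b hzb hb1 hbb).1 (hout z b hzb hb1 hbb).2
  have hxz : π (x * z) = g * (a * b) * g⁻¹ := by rw [map_mul, hxa, hzb]; group
  have habab : a * b * (a * b) = 1 := by
    rw [mul_assoc, ← mul_assoc b a b, ← hab.eq, mul_assoc a b b, hbb, mul_one, haa]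
  have hi3 := hout (x * z) (a * b) hxz habne habab
  refine hW1 (eq_bot_iff.mpr fun w hw => Subgroup.mem_bot.mpr ?_)
  refine hfpf (x * z) (mul_mem hxQ hzQ) hi3.1 w hw ?_
  show ((x * z : H) : G) * w = w * ((x * z : H) : G)
  have h1 : (x : G) * z * w * ((x : G) * z)⁻¹ = w := by
    calc (x : G) * z * w * ((x : G) * z)⁻¹ = (x : G) * ((z : G) * w * (z : G)⁻¹) * (x : G)⁻¹ := by group
      _ = w := by rw [hi2 w hw, hi1 _ (inv_mem hw), inv_inv]
  exact mul_inv_eq_iff_eq_mul.mp h1

/-- A group all of whose elements have prime power order and whose Sylow 2-subgroups contain a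
unique involution is solvable. -/
theorem isSolvable_eppo {K : Type u} [Group K] [Finite K]
    (h : ∀ x : K, x ≠ 1 → IsPrimePow (orderOf x))
    (huniq : ∀ (P : Sylow 2 K) (a b : K), a ∈ P → b ∈ P → orderOf a = 2 → orderOf b = 2 →
      Commute a b → a = b) : Group.IsSolvable K := by
  classical
  haveI : Fact (Nat.Prime 2) := ⟨Nat.prime_two⟩
  have hcomm : ∀ (p q : ℕ) (x c : K), p.Prime → q.Prime → p ≠ q → p ∣ orderOf x → q ∣ orderOf c →
      ¬ Commute x c := by
    intro p q x c hp hq hpq hx hc hxc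
    have hx' : orderOf (x ^ (orderOf x / p)) = p := orderOf_pow_orderOf_div (orderOf_pos x).ne' hx
    have hc' : orderOf (c ^ (orderOf c / q)) = q := orderOf_pow_orderOf_div (orderOf_pos c).ne' hc
    have ho := (hxc.pow_pow (orderOf x / p) (orderOf c / q)).orderOf_mul_eq_mul_orderOf_of_coprime
      (by rw [hx', hc']; exact (Nat.coprime_primes hp hq).mpr hpq)
    rw [hx', hc'] at ho
    have hne : x ^ (orderOf x / p) * c ^ (orderOf c / q) ≠ 1 := fun e => by
      rw [e, orderOf_one] at ho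
      exact hp.ne_one (Nat.eq_one_of_mul_eq_one_right ho.symm)
    exact not_isPrimePow_orderOf hp hq hpq (ho ▸ dvd_mul_right p q) (ho ▸ dvd_mul_left q p) (h _ hne)
  by_cases hodd : Odd (Nat.card K)
  · refine Lib.CNTheorem.isSolvable_of_odd_cn hodd fun x hx => ?_
    obtain ⟨p, m, hp, hm, hxo⟩ := (isPrimePow_nat_iff _).mp (h x hx)
    haveI : Fact p.Prime := ⟨hp⟩
    refine IsPGroup.isNilpotent (p := p) (IsPGroup.iff_orderOf.mpr fun c => ?_)
    refine ⟨(orderOf c).primeFactorsList.length,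
      Nat.eq_prime_pow_of_unique_prime_dvd (orderOf_pos c).ne' fun {q} hq hqc => ?_⟩
    by_contra hne
    rw [← Subgroup.orderOf_coe] at hqc
    exact hcomm p q x c hp hq (Ne.symm hne) (hxo ▸ dvd_pow_self p hm.ne') hqc
      (Subgroup.mem_centralizer_singleton_iff.mp c.2).symm
  obtain ⟨z, hz⟩ := exists_prime_orderOf_dvd_card' (G := K) 2
    (even_iff_two_dvd.mp (Nat.not_odd_iff_even.mp hodd))
  have hiso : Cfsg.IsIsolatedInvolution z := by
    refine ⟨hz, fun g hg => ?_⟩
    have ho : orderOf (g * z * g⁻¹) = 2 := by rw [← MulAut.conj_apply, MulEquiv.orderOf_eq]; exact hz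
    have hgen : IsPGroup 2 ↥(Subgroup.zpowers z ⊔ Subgroup.zpowers (g * z * g⁻¹)) := by
      refine IsPGroup.to_sup_of_normal_left' (IsPGroup.of_card (n := 1) ?_) (IsPGroup.of_card (n := 1) ?_) ?_
      · rw [Nat.card_zpowers, hz, pow_one]
      · rw [Nat.card_zpowers, ho, pow_one]
      · rw [Subgroup.zpowers_le]
        refine Subgroup.centralizer_le_normalizer _ ?_
        rw [Subgroup.mem_centralizer_iff]
        rintro u ⟨i, rfl⟩
        exact (hg.zpow_left i).eq
    obtain ⟨P, hP⟩ := hgen.exists_le_sylow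
    exact (huniq P z _ (hP (Subgroup.mem_sup_left (Subgroup.mem_zpowers z)))
      (hP (Subgroup.mem_sup_right (Subgroup.mem_zpowers _))) hz ho hg).symm
  -- `O(K)` is inverted by `z`
  set O := Cfsg.oddCore K with hO
  have hOodd : Odd (Nat.card O) := Nat.coprime_two_right.mp Lib.PSolvable.pPrimeCore_coprime
  have hzfix : ∀ c : K, Odd (orderOf c) → Commute z c → c = 1 := by
    intro c hc hzc
    by_contra hc1
    obtain ⟨q, hq, hqc⟩ := Nat.exists_prime_and_dvd (n := orderOf c) (mt orderOf_eq_one_iff.mp hc1)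
    exact hcomm 2 q z c Nat.prime_two hq (fun e => by
      subst e; exact Nat.not_even_iff_odd.mpr hc (even_iff_two_dvd.mpr hqc)) (hz ▸ dvd_rfl) hqc hzc
  have hOab : ∀ u v : O, Commute u v := by
    let φ : O →* O := (MulAut.conjNormal z : MulAut O).toMonoidHom
    have hφ : MonoidHom.FixedPointFree φ := fun u hu => by
      refine Subtype.ext (hzfix u (Odd.of_dvd_nat hOodd (Subgroup.orderOf_dvd_natCard O u.2)) ?_)
      have := congrArg Subtype.val hu
      simp only [φ, MulEquiv.coe_toMonoidHom, MulAut.conjNormal_apply] at this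
      exact mul_inv_eq_iff_eq_mul.mp this
    have h2 : Function.Involutive φ := fun u => Subtype.ext (by
      simp only [φ, MulEquiv.coe_toMonoidHom, MulAut.conjNormal_apply]
      have hzz : z * z = 1 := by rw [← sq, ← hz, pow_orderOf_eq_one]
      calc z * (z * u * z⁻¹) * z⁻¹ = (z * z) * u * (z * z)⁻¹ := by group
        _ = u := by rw [hzz]; group)
    exact hφ.commute_all_of_involutive h2
  haveI : Group.IsSolvable O := Group.isSolvable_of_comm fun u v => (hOab u v).eq
  have hq : IsPGroup 2 (K ⧸ O) := by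
    rw [IsPGroup.iff_orderOf]
    intro c
    by_contra hcon
    obtain ⟨q, hq, hq2, hqc⟩ : ∃ q, q.Prime ∧ q ≠ 2 ∧ q ∣ orderOf c := by
      by_contra h'
      push Not at h'
      exact hcon ⟨_, Nat.eq_prime_pow_of_unique_prime_dvd (orderOf_pos c).ne' fun {d} hd hdc => by
        by_contra hd2; exact h' d hd hd2 hdc⟩
    haveI : Fact q.Prime := ⟨hq⟩
    obtain ⟨y, rfl⟩ := QuotientGroup.mk'_surjective O c
    have hd : q ∣ orderOf y := hqc.trans (orderOf_map_dvd _ y)
    -- a fixed point of `z` on the coset of `y`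
    let X := {u : K // QuotientGroup.mk' O u = QuotientGroup.mk' O y}
    have hkey : QuotientGroup.mk' O z * QuotientGroup.mk' O y =
        QuotientGroup.mk' O y * QuotientGroup.mk' O z := by
      have := (QuotientGroup.eq_one_iff _).mpr (Lib.ZStar.zStar K z hiso y⁻¹)
      rw [← map_mul, ← map_mul]
      have h2 : QuotientGroup.mk' O (z * y) = QuotientGroup.mk' O (y * z) := by
        rw [← mul_inv_eq_one, ← map_inv, ← map_mul]
        have h3 := Lib.ZStar.zStar K z hiso y
        have e : z * y * (y * z)⁻¹ = z * y * z⁻¹ * y⁻¹ := by group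
        rw [e]
        exact (QuotientGroup.eq_one_iff _).mpr h3
      exact h2
    have hzz : z * z = 1 := by rw [← sq, ← hz, pow_orderOf_eq_one]
    let σ : X → X := fun u => ⟨z * u.1 * z⁻¹, by
      rw [map_mul, map_mul, u.2, map_inv, hkey, mul_inv_cancel_right]⟩
    have hσ : Function.Involutive σ := fun u => Subtype.ext (by
      show z * (z * u.1 * z⁻¹) * z⁻¹ = u.1
      calc z * (z * u.1 * z⁻¹) * z⁻¹ = (z * z) * u.1 * (z * z)⁻¹ := by group
        _ = u.1 := by rw [hzz]; group)
    obtain ⟨u, hu⟩ : ∃ u : X, σ u = u := by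
      by_contra hno
      push Not at hno
      have hcard : Nat.card X = Nat.card O := Nat.card_congr
        { toFun := fun u => ⟨y⁻¹ * u.1, QuotientGroup.eq.mp u.2.symm⟩
          invFun := fun o => ⟨y * o.1, by
            rw [map_mul, (show QuotientGroup.mk' O (o : K) = 1 from (QuotientGroup.eq_one_iff _).mpr o.2),
              mul_one]⟩
          left_inv := fun u => Subtype.ext (by simp)
          right_inv := fun o => Subtype.ext (by simp) }
      haveI := Fintype.ofFinite X
      have heven : Even (Fintype.card X) :=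
        Cfsg.Agent.S3901.even_card_of_involutive σ hσ hno
      rw [← Nat.card_eq_fintype_card, hcard] at heven
      exact Nat.not_even_iff_odd.mpr hOodd heven
    have hu' : Commute z u.1 := mul_inv_eq_iff_eq_mul.mp (congrArg Subtype.val hu)
    have hqu : q ∣ orderOf u.1 := (u.2.symm ▸ hqc).trans (orderOf_map_dvd _ _)
    exact hcomm 2 q z u.1 Nat.prime_two hq hq2.symm (hz ▸ dvd_rfl) hqu hu'
  haveI : Group.IsNilpotent (K ⧸ O) := hq.isNilpotent
  exact Group.isSolvable_of_ker_le_range O.subtype (QuotientGroup.mk' O)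
    (by rw [QuotientGroup.ker_mk', Subgroup.range_subtype])
/-- Let N be a non-trivial normal subgroup of the finite group G such that every element of G outside N has prime power order. If N is not solvable, then G/N is solvable. -/
theorem result {G : Type*} [Group G] [Finite G] (N : Subgroup G) [N.Normal] (hN : N ≠ ⊥) (hns : ¬ Group.IsSolvable ↥N)
    (h : ∀ x : G, x ∉ N → IsPrimePow (orderOf x)) : Group.IsSolvable (G ⧸ N) := by
  by_contra hcon
  refine hcon (isSolvable_eppo (fun x hx => ?_) (unique_involution N h hns hcon))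
  obtain ⟨y, rfl⟩ := QuotientGroup.mk'_surjective N x
  have hy : y ∉ N := fun e => hx ((QuotientGroup.eq_one_iff y).mpr e)
  exact (h y hy).dvd (orderOf_map_dvd _ y) (mt orderOf_eq_one_iff.mp hx)

end Cfsg.Agent.S3901
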