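import Cfsg.Statements.S4039
import Cfsg.Agent.Lib.Elem69.MaximalNilpotent

set_option autoImplicit false
open Cfsg

namespace Cfsg.Agent.S4039

/-- A finite group possessing a maximal subgroup that is nilpotent of class at most 2 is solvable. -/
theorem result {G : Type*} [Group G] [Finite G]
    (M : Subgroup G) (hmax : IsCoatom M) (hnil : Group.IsNilpotent M) (hcl : Group.nilpotencyClass ↥M ≤ 2) :
    Group.IsSolvable G := by
  refine Lib.Elem69.isSolvable_of_nilpotent_coatom (fun H _ => Group.nilpotencyClass H ≤ 2) ?_ ?_ M hmax hnil hcl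
  · intro H H' _ _ _ _ f hf h
    exact (Group.nilpotencyClass_le_of_surjective f hf).trans h
  · intro G _ _ M _ hmax hcl hcore p hpf hpM
    obtain ⟨P, hPM, hPne, hPN⟩ := Lib.Elem69.exists_sylow_of_corefree hmax hcore hpM
    have hcen : ∀ a b c : M, Commute (a * b * a⁻¹ * b⁻¹) c := by
      intro a b c
      have h1 : Subgroup.lowerCentralSeries (⊤ : Subgroup M) 2 = ⊥ :=
        Subgroup.lowerCentralSeries_eq_bot_iff_nilpotencyClass_le.mpr hcl
      have h2 : a * b * a⁻¹ * b⁻¹ ∈ Subgroup.lowerCentralSeries (⊤ : Subgroup M) 1 :=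
        Subgroup.commutator_mem_commutator (Subgroup.mem_top a) (Subgroup.mem_top b)
      have h3 : (a * b * a⁻¹ * b⁻¹) * c * (a * b * a⁻¹ * b⁻¹)⁻¹ * c⁻¹ ∈ (⊥ : Subgroup M) := h1 ▸
        Subgroup.commutator_mem_commutator h2 (Subgroup.mem_top c)
      exact commutatorElement_eq_one_iff_commute.mp (Subgroup.mem_bot.mp h3)
    rw [Lib.Transfer.hasNormalPComplement_iff_locallyPTrivial]
    intro Q hQ g hg hgo
    refine Lib.Elem69.coprime_centralizes_of_class_two P ?_ ?_ Q hQ g hg hgo
    · intro a ha b hb c hc
      exact (hcen ⟨a, hPM ha⟩ ⟨b, hPM hb⟩ ⟨c, hPM hc⟩).map M.subtype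
    · intro R hRP hRne hPR y hy hyo
      have hM : ∀ m ∈ M, (orderOf m).Coprime p → m ∈ Subgroup.centralizer ((P : Subgroup G) : Set G) := by
        intro m hm hmo
        rw [Subgroup.mem_centralizer_iff]
        intro z hz
        have hl := Lib.Transfer.hasNormalPComplement_iff_locallyPTrivial.mp
          (Lib.NilpotentLocal.hasNormalPComplement_of_isNilpotent (G := M) p)
        have hc := hl ((P : Subgroup G).subgroupOf M)
          (P.isPGroup'.of_equiv (Subgroup.subgroupOfEquivOfLe hPM).symm) ⟨m, hm⟩ (by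
            rw [Subgroup.mem_normalizer_iff]
            intro w
            exact Subgroup.mem_normalizer_iff.mp (hPN.ge hm) (w : G)) (by rwa [Subgroup.orderOf_mk])
        exact congrArg Subtype.val (Subgroup.mem_centralizer_iff.mp hc ⟨z, hPM hz⟩ hz)
      have hMR : M ≤ Subgroup.normalizer (R : Set G) := by
        intro m hm
        obtain ⟨u, v, huv, -, hu, ⟨k, hv⟩, huz, hvz⟩ := Lib.Elem69.exists_prime_split m (hpf.out)
        rw [← huv]
        refine mul_mem ?_ ?_
        · have huC := Subgroup.mem_centralizer_iff.mp (hM u (Subgroup.zpowers_le.mpr hm huz) hu)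
          rw [Subgroup.mem_normalizer_iff]
          refine fun z => ⟨fun hz => ?_, fun hz => ?_⟩
          · rwa [← huC z (hRP hz), mul_inv_cancel_right]
          · have h1 := huC _ (hRP hz)
            rw [inv_mul_cancel_right] at h1
            rwa [← mul_left_cancel h1] at hz
        · refine hPR ?_
          have hvM : v ∈ M := Subgroup.zpowers_le.mpr hm hvz
          have h1 : IsPGroup p (Subgroup.zpowers v) := IsPGroup.of_card (by rw [Nat.card_zpowers, hv])
          have h2 := P.is_maximal' (h1.to_sup_of_normal_right' P.isPGroup'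
            (Subgroup.zpowers_le.mpr (hPN.ge hvM))) le_sup_right
          exact h2.le (Subgroup.mem_sup_left (Subgroup.mem_zpowers v))
      have hNR := Lib.Elem69.normalizer_eq_of_corefree hmax hcore (hRP.trans hPM) hRne hMR
      rw [hNR] at hy
      exact Subgroup.centralizer_le (SetLike.coe_subset_coe.mpr hRP) (hM y hy hyo)

end Cfsg.Agent.S4039
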