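import Cfsg.Statements.S4040
import Cfsg.Agent.Lib.Elem69.MaximalNilpotent

set_option autoImplicit false
open Cfsg

namespace Cfsg.Agent.S4040

/-- A finite group possessing a maximal subgroup that is nilpotent of odd order is solvable. -/
theorem result {G : Type*} [Group G] [Finite G]
    (M : Subgroup G) (hmax : IsCoatom M) (hnil : Group.IsNilpotent M) (hodd : Odd (Nat.card M)) :
    Group.IsSolvable G := by
  refine Lib.Elem69.isSolvable_of_nilpotent_coatom (fun H _ => Odd (Nat.card H)) ?_ ?_ M hmax hnil hodd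
  · intro H H' _ _ _ _ f hf h
    exact h.of_dvd_nat (Subgroup.card_dvd_of_surjective f hf)
  · intro G _ _ M _ hmax hodd hcore p _ hpM
    have hp2 : p ≠ 2 := by
      rintro rfl
      exact Nat.not_even_iff_odd.mpr hodd (even_iff_two_dvd.mpr hpM)
    obtain ⟨P, hPM, hPne, hPN⟩ := Lib.Elem69.exists_sylow_of_corefree hmax hcore hpM
    have hMN : M ≤ Subgroup.normalizer ((P : Subgroup G) : Set G) := hPN.ge
    have hJ : Subgroup.normalizer (Cfsg.thompsonSubgroupOf p (P : Subgroup G) : Set G) = M := by
      refine Lib.Elem69.normalizer_eq_of_corefree hmax hcore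
        ((Lib.Thompson.thompsonSubgroupOf_le p _).trans hPM) ?_ (hMN.trans (Lib.Thompson.normalizer_le p _))
      exact Lib.Thompson.thompsonSubgroupOf_ne_bot (P.dvd_card_of_dvd_card (hpM.trans M.card_subgroup_dvd_card))
    set Z : Subgroup G := (P : Subgroup G) ⊓ Subgroup.centralizer ((P : Subgroup G) : Set G) with hZ
    have hMZ : M ≤ Subgroup.normalizer (Z : Set G) := by
      refine Lib.Coprime.le_normalizer_of_conj_mem ?_
      intro m hm z hz
      have hP := fun y => Subgroup.mem_normalizer_iff.mp (hMN hm) y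
      refine ⟨(hP z).mp hz.1, Subgroup.mem_centralizer_iff.mpr fun y hy => ?_⟩
      have hy' : m⁻¹ * y * m ∈ (P : Subgroup G) := (hP _).mpr (by simp only [mul_assoc, mul_inv_cancel_left, mul_inv_cancel, mul_one]; exact hy)
      have h1 := congrArg (fun w => m * w * m⁻¹) (Subgroup.mem_centralizer_iff.mp hz.2 _ hy')
      simpa [mul_assoc] using h1
    have hZne : Z ≠ ⊥ := by
      obtain ⟨y, hy⟩ : ∃ y : Subgroup.center (P : Subgroup G), y ≠ 1 := by
        haveI : Nontrivial (P : Subgroup G) := (Subgroup.nontrivial_iff_ne_bot _).mpr hPne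
        haveI : Nontrivial (Subgroup.center (P : Subgroup G)) := P.isPGroup'.center_nontrivial
        exact exists_ne 1
      intro h
      refine hy (Subtype.ext (Subtype.ext (Subgroup.mem_bot.mp (h ▸ (⟨y.1.2, Subgroup.mem_centralizer_iff.mpr
        fun w hw => congrArg Subtype.val (Subgroup.mem_center_iff.mp y.2 ⟨w, hw⟩)⟩ : (y.1 : G) ∈ Z)))))
    have hNZ := Lib.Elem69.normalizer_eq_of_corefree hmax hcore (inf_le_left.trans hPM) hZne hMZ
    have hCM : Subgroup.centralizer (Z : Set G) ≤ M := hNZ ▸ Subgroup.centralizer_le_normalizer _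
    refine Lib.NilpotentLocal.hasNormalPComplement_of_nilpotent_locals hp2 P ?_ ?_
    · rw [hJ]; infer_instance
    · exact Group.nilpotent_of_mulEquiv (Subgroup.subgroupOfEquivOfLe hCM)

end Cfsg.Agent.S4040
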