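import Cfsg.Statements.S3903
import Mathlib
import Cfsg.Agent.S4039
import Cfsg.Agent.S4040
-- import your own Cfsg.Agent.* helpers here

set_option autoImplicit false
open Cfsg

namespace Cfsg.Agent.S3903

open scoped Pointwise

variable {G : Type*} [Group G] [Finite G]

/-- An element outside `N` has a nilpotent centraliser: a `q`-group. -/
theorem isPGroup_centralizer {N : Subgroup G} [N.Normal] (h : ∀ x : G, x ∉ N → IsPrimePow (orderOf x))
    {x : G} (hx : x ∉ N) {q k : ℕ} (hq : q.Prime) (ho : orderOf x = q ^ k) :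
    IsPGroup q (Subgroup.centralizer ({x} : Set G)) := by
  haveI := Fact.mk hq
  rw [IsPGroup.iff_card]
  refine ⟨_, Nat.eq_prime_pow_of_unique_prime_dvd Nat.card_pos.ne' ?_⟩
  intro r hr hrd
  by_contra hne
  haveI := Fact.mk hr
  obtain ⟨y, hy⟩ := exists_prime_orderOf_dvd_card' (G := Subgroup.centralizer ({x} : Set G)) r hrd
  have hxy : Commute x (y : G) := (Subgroup.mem_centralizer_singleton_iff.mp y.2).symm
  have hyo : orderOf (y : G) = r := (Subgroup.orderOf_coe y).trans hy
  have hcop : (orderOf x).Coprime (orderOf (y : G)) := by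
    rw [ho, hyo]; exact Nat.Coprime.pow_left k ((Nat.coprime_primes hq hr).mpr (Ne.symm hne))
  have hxyN : x * (y : G) ∉ N := by
    intro hmem
    apply hx
    have h1 : x ^ r ∈ N := by
      have := N.pow_mem hmem r
      rwa [hxy.mul_pow, orderOf_dvd_iff_pow_eq_one.mp (hyo.dvd), mul_one] at this
    obtain ⟨m, hm⟩ := exists_pow_eq_self_of_coprime (x := x) (n := r) (hyo ▸ hcop.symm)
    exact hm ▸ N.pow_mem h1 m
  obtain ⟨s, j, hs, -, hsj⟩ := h _ hxyN
  rw [hxy.orderOf_mul_eq_mul_orderOf_of_coprime hcop, ho, hyo] at hsj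
  have hs' := hs.nat_prime
  have hrs : r = s := (Nat.prime_dvd_prime_iff_eq hr hs').mp (hr.dvd_of_dvd_pow (hsj ▸ dvd_mul_left r (q ^ k)))
  rcases Nat.eq_zero_or_pos k with rfl | hk
  · rw [pow_zero, orderOf_eq_one_iff] at ho; exact hx (ho ▸ one_mem N)
  have hqs : q = s := (Nat.prime_dvd_prime_iff_eq hq hs').mp
    (hq.dvd_of_dvd_pow (hsj ▸ dvd_mul_of_dvd_left (dvd_pow_self q hk.ne') r))
  exact hne (hrs.trans hqs.symm)

/-- Such a centraliser is a Sylow 2-subgroup unless the group is solvable. -/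
theorem exists_sylow_eq {N : Subgroup G} [N.Normal]
    (h : ∀ x : G, x ∉ N → IsPrimePow (orderOf x) ∧ IsCoatom (Subgroup.centralizer ({x} : Set G)))
    (hns : ¬ Group.IsSolvable G) {x : G} (hx : x ∉ N) :
    ∃ P : Sylow 2 G, (P : Subgroup G) = Subgroup.centralizer ({x} : Set G) := by
  obtain ⟨⟨q, k, hq, -, ho⟩, hmax⟩ := h x hx
  have hq' := hq.nat_prime
  haveI := Fact.mk hq'
  have hC := isPGroup_centralizer (fun y hy => (h y hy).1) hx hq' ho.symm
  obtain rfl : q = 2 := by
    by_contra hq2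
    refine hns (Cfsg.Agent.S4040.result _ hmax hC.isNilpotent ?_)
    obtain ⟨j, hj⟩ := IsPGroup.iff_card.mp hC
    rw [hj]
    exact (hq'.odd_of_ne_two hq2).pow
  obtain ⟨P, hP⟩ := hC.exists_le_sylow
  refine ⟨P, ((hmax.le_iff.mp hP).resolve_left fun htop => hns ?_)⟩
  haveI := P.2.isNilpotent
  haveI : Group.IsSolvable (P : Subgroup G) := inferInstance
  exact Group.isSolvable_of_surjective (f := (P : Subgroup G).subtype)
    (fun g => ⟨⟨g, htop ▸ Subgroup.mem_top g⟩, rfl⟩)


/-- Let N be a proper normal subgroup of the finite group G such that every element x of G outside N has prime power order and has centralizer C_G(x) a maximal subgroup of G. Then N is solvable. -/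
theorem result {G : Type*} [Group G] [Finite G] (N : Subgroup G) [N.Normal] (hN : N ≠ ⊤)
    (h : ∀ x : G, x ∉ N → IsPrimePow (orderOf x) ∧ IsCoatom (Subgroup.centralizer ({x} : Set G))) : Group.IsSolvable ↥N := by
  by_contra hns'
  have hns : ¬ Group.IsSolvable G := fun hs => hns' inferInstance
  haveI : Fact (Nat.Prime 2) := ⟨Nat.prime_two⟩
  obtain ⟨x₀, hx₀⟩ : ∃ x, x ∉ N := by
    by_contra hall
    push Not at hall
    exact hN ((Subgroup.eq_top_iff' N).mpr hall)
  obtain ⟨P, hP⟩ := exists_sylow_eq h hns hx₀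
  set Q := (P : Subgroup G) with hQ
  set Z := Q ⊓ Subgroup.centralizer (Q : Set G) with hZ
  -- every element outside `N` is conjugate into the centre of `Q`
  let f : (G ⧸ Q) × {z : Z // (z : G) ∉ N} → {w : G // w ∉ N} := fun a =>
    ⟨a.1.out * (a.2.1 : G) * a.1.out⁻¹, fun hm => a.2.2 (by
      simpa [mul_assoc] using (inferInstance : N.Normal).conj_mem _ hm a.1.out⁻¹)⟩
  have hsurj : Function.Surjective f := by
    rintro ⟨w, hw⟩
    obtain ⟨P', hP'⟩ := exists_sylow_eq h hns hw
    obtain ⟨g, hg⟩ := MulAction.exists_smul_eq G P P'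
    set c := ((g : G ⧸ Q)).out with hc
    have hcg : g⁻¹ * c ∈ Q := by
      rw [← QuotientGroup.eq, hc, QuotientGroup.out_eq']
    have hcQ : ∀ y ∈ Q, c * y * c⁻¹ ∈ Subgroup.centralizer ({w} : Set G) := by
      intro y hy
      rw [← hP', ← hg, Sylow.coe_subgroup_smul, Subgroup.mem_pointwise_smul_iff_inv_smul_mem,
        ← map_inv, MulAut.smul_def, MulAut.conj_apply, inv_inv]
      have := Q.mul_mem (Q.mul_mem hcg hy) (Q.inv_mem hcg)
      simpa [mul_assoc] using this
    have hwQ : c⁻¹ * w * c ∈ Q := by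
      have h1 : w ∈ (P' : Subgroup G) := hP' ▸ Subgroup.mem_centralizer_singleton_iff.mpr rfl
      rw [← hg, Sylow.coe_subgroup_smul, Subgroup.mem_pointwise_smul_iff_inv_smul_mem,
        ← map_inv, MulAut.smul_def, MulAut.conj_apply, inv_inv] at h1
      have := Q.mul_mem (Q.mul_mem (Q.inv_mem hcg) h1) hcg
      simpa [mul_assoc] using this
    have hwZ : c⁻¹ * w * c ∈ Z := ⟨hwQ, Subgroup.mem_centralizer_iff.mpr fun y hy => by
      have h1 := Subgroup.mem_centralizer_singleton_iff.mp (hcQ y hy)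
      calc y * (c⁻¹ * w * c) = c⁻¹ * ((c * y * c⁻¹) * w) * c := by group
        _ = c⁻¹ * (w * (c * y * c⁻¹)) * c := by rw [h1]
        _ = c⁻¹ * w * c * y := by group⟩
    refine ⟨((g : G ⧸ Q), ⟨⟨_, hwZ⟩, fun hm => hw (by
      simpa [mul_assoc] using (inferInstance : N.Normal).conj_mem _ hm c)⟩), Subtype.ext ?_⟩
    show c * (c⁻¹ * w * c) * c⁻¹ = w
    group
  -- count
  classical
  haveI := Fintype.ofFinite G
  have hcard := Nat.card_le_card_of_surjective f hsurj
  rw [Nat.card_prod, ← Subgroup.index_eq_card] at hcard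
  have e1 : Nat.card {w : G // w ∉ N} = Nat.card G - Nat.card N := by
    simp only [Nat.card_eq_fintype_card]
    exact Fintype.card_subtype_compl _
  have e2 : Nat.card {z : Z // (z : G) ∉ N} = Nat.card Z - Nat.card (N.subgroupOf Z) := by
    simp only [Nat.card_eq_fintype_card]
    exact Fintype.card_subtype_compl _
  rw [e1, e2] at hcard
  set m := N.index with hm
  have hG := N.card_mul_index
  have hZN : Nat.card Z ≤ Nat.card (N.subgroupOf Z) * m := by
    rw [← (N.subgroupOf Z).card_mul_index]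
    refine Nat.mul_le_mul_left _ (Nat.le_of_dvd (Nat.pos_of_ne_zero Subgroup.index_ne_zero_of_finite) ?_)
    exact Subgroup.relIndex_dvd_index_of_normal N Z
  have hm2 : 2 ≤ m := by
    have h1 := mt Subgroup.index_eq_one.mp hN
    have h2 : m ≠ 0 := Subgroup.index_ne_zero_of_finite
    omega
  have hQZ : Nat.card Q ≤ Nat.card Z := by
    have h1 : (Nat.card G - Nat.card N) * m ≤ Q.index * (Nat.card Z - Nat.card (N.subgroupOf Z)) * m :=
      Nat.mul_le_mul_right _ hcard
    have h2 : (Nat.card Z - Nat.card (N.subgroupOf Z)) * m ≤ Nat.card Z * (m - 1) := by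
      rw [Nat.sub_mul, Nat.mul_sub, mul_one]; omega
    have h3 : (Nat.card G - Nat.card N) * m = Nat.card G * (m - 1) := by
      rw [Nat.sub_mul, Nat.mul_sub, mul_one, ← hm] at *
      rw [hG]
    have h4 : Nat.card Q * Q.index * (m - 1) ≤ Nat.card Z * Q.index * (m - 1) := by
      rw [Q.card_mul_index, ← h3]
      calc _ ≤ _ := h1
        _ = Q.index * ((Nat.card Z - Nat.card (N.subgroupOf Z)) * m) := mul_assoc _ _ _
        _ ≤ Q.index * (Nat.card Z * (m - 1)) := Nat.mul_le_mul_left _ h2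
        _ = _ := by ring
    exact Nat.le_of_mul_le_mul_right (Nat.le_of_mul_le_mul_right h4 (by omega))
      (Nat.pos_of_ne_zero Subgroup.index_ne_zero_of_finite)
  have hab : Q ≤ Subgroup.centralizer (Q : Set G) :=
    (Subgroup.eq_of_le_of_card_ge inf_le_left hQZ).ge.trans inf_le_right
  have hmax : IsCoatom Q := hP ▸ (h x₀ hx₀).2
  haveI : IsMulCommutative Q := Subgroup.le_centralizer_iff_isMulCommutative.mp hab
  refine hns (S4039.result Q hmax P.2.isNilpotent ?_)
  haveI := P.2.isNilpotent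
  refine (Subgroup.lowerCentralSeries_eq_bot_iff_nilpotencyClass_le).mp ?_
  rw [eq_bot_iff, Subgroup.lowerCentralSeries_succ]
  refine Subgroup.commutator_le.mpr fun a _ b _ => ?_
  rw [Subgroup.mem_bot, commutatorElement_eq_one_iff_mul_comm]
  exact (inferInstance : IsMulCommutative Q).is_comm.comm a b

end Cfsg.Agent.S3903
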