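import Cfsg.Statements.S3904
import Mathlib
import Cfsg.Agent.Lib.MaxCentralisers.Main
-- import your own Cfsg.Agent.* helpers here

set_option autoImplicit false
open Cfsg
open scoped Pointwise

namespace Cfsg.Agent.S3904


/-- Let G be a non-abelian finite group in which the centralizer of every non-central element is a maximal subgroup. Then G/Z(G) is either an elementary abelian p-group for some prime p, or a minimal non-abelian group (non-abelian with all proper subgroups abelian) of order p^a · q for distinct primes p, q with a normal Sylow p-subgroup. -/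
theorem result {G : Type*} [Group G] [Finite G] (hna : ¬ IsMulCommutative G)
    (h : ∀ x : G, x ∉ Subgroup.center G → IsCoatom (Subgroup.centralizer ({x} : Set G))) :
    (∃ p : ℕ, p.Prime ∧ Cfsg.IsElementaryAbelian p (⊤ : Subgroup (G ⧸ Subgroup.center G))) ∨
    (¬ IsMulCommutative (G ⧸ Subgroup.center G) ∧ (∀ H : Subgroup (G ⧸ Subgroup.center G), H ≠ ⊤ → IsMulCommutative ↥H) ∧
      ∃ p q a : ℕ, p.Prime ∧ q.Prime ∧ p ≠ q ∧ Nat.card (G ⧸ Subgroup.center G) = p ^ a * q ∧
        ∀ P : Subgroup (G ⧸ Subgroup.center G), Nat.card ↥P = p ^ a → P.Normal) := by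
  have hH : Lib.MaxCentralisers.Hyp (⊤ : Subgroup G) := fun x _ hx => h x fun hc => hx (by
    rw [Subgroup.mem_centralizer_iff]; exact fun y _ => Subgroup.mem_center_iff.mp hc y)
  have hc : (Subgroup.center (⊤ : Subgroup G)).map (Subgroup.topEquiv (G := G)).toMonoidHom =
      Subgroup.center G := by
    ext x
    constructor
    · rintro ⟨y, hy, rfl⟩
      exact Subgroup.mem_center_iff.mpr fun g =>
        congrArg Subtype.val (Subgroup.mem_center_iff.mp hy ⟨g, Subgroup.mem_top g⟩)
    · intro hx
      exact ⟨⟨x, Subgroup.mem_top x⟩, Subgroup.mem_center_iff.mpr fun g =>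
        Subtype.ext (Subgroup.mem_center_iff.mp hx (g : G)), rfl⟩
  set e := QuotientGroup.congr _ _ (Subgroup.topEquiv (G := G)) hc with he
  rcases Lib.MaxCentralisers.main (N := (⊤ : Subgroup G)) inferInstance hH with
    ⟨p, hp, hab, hexp⟩ | ⟨Q, K, p, hp, hF, hQ, hKn, hKset, hKab, hKexp⟩
  · refine Or.inl ⟨p, hp, ⟨⟨fun a b => Subtype.ext (e.symm.injective ?_)⟩⟩, fun a _ => e.symm.injective ?_⟩
    · simp only [Subgroup.coe_mul, map_mul]
      exact congrArg Subtype.val (hab.is_comm.comm ⟨e.symm a, Subgroup.mem_top _⟩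
        ⟨e.symm b, Subgroup.mem_top _⟩)
    · rw [map_pow, map_one]; exact hexp _ (Subgroup.mem_top _)
  · haveI := Fact.mk hQ
    right
    set X := (↥(⊤ : Subgroup G) ⧸ Subgroup.center (⊤ : Subgroup G))
    have hcardK : Nat.card K = Q.index := by
      rw [← Lib.Frobenius.card_frobeniusKernel hF, ← hKset]; rfl
    have hKp : IsPGroup p K := fun a => ⟨1, Subtype.ext (by simpa using hKexp a a.2)⟩
    haveI := Fact.mk hp
    obtain ⟨a, ha⟩ := IsPGroup.iff_card.mp hKp
    have hcop := Lib.Frobenius.coprime_card_index hF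
    have hidx : 1 < Q.index := Lib.Frobenius.one_lt_index hF
    have ha0 : a ≠ 0 := by rintro rfl; rw [pow_zero] at ha; omega
    have hpq : p ≠ Nat.card Q := fun e => by
      rw [← hcardK, ha, ← e] at hcop
      exact hp.ne_one (Nat.eq_one_of_dvd_coprimes hcop dvd_rfl (dvd_pow_self p ha0))
    have hcardX : Nat.card (G ⧸ Subgroup.center G) = p ^ a * Nat.card Q := by
      rw [← Nat.card_congr e.toEquiv, ← ha, hcardK, mul_comm, Subgroup.card_mul_index]
    have hKuniq : ∀ x : X, (∃ i, orderOf x = p ^ i) → x ∈ K := by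
      rintro x ⟨i, hi⟩
      rw [← QuotientGroup.eq_one_iff, ← orderOf_eq_one_iff]
      have hidK : K.index = Nat.card Q := by
        have h1 := K.card_mul_index
        rw [hcardK, ← Q.card_mul_index, mul_comm (Nat.card Q)] at h1
        exact Nat.eq_of_mul_eq_mul_left (by omega) h1
      refine Nat.eq_one_of_dvd_coprimes (a := p ^ i) (b := Nat.card Q) ?_ ?_ ?_
      · exact ((Nat.coprime_primes hp hQ).mpr hpq).pow_left i
      · exact hi ▸ orderOf_map_dvd (QuotientGroup.mk' K) x
      · rw [← hidK, Subgroup.index_eq_card]; exact orderOf_dvd_natCard _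
    refine ⟨?_, ?_, p, Nat.card Q, a, hp, hQ, hpq, hcardX, ?_⟩
    · intro hcm
      obtain ⟨q, hq, hq1⟩ := Lib.Frobenius.exists_ne_one hF
      refine hF.2.1 (eq_top_iff.mpr fun g _ => Lib.Frobenius.centralizer_le hF hq hq1 ?_)
      exact Subgroup.mem_centralizer_singleton_iff.mpr (e.injective (by
        rw [map_mul, map_mul]; exact hcm.is_comm.comm _ _))
    · intro H hH
      set S := H.comap e.toMonoidHom with hS
      have hStop : S ≠ ⊤ := fun h => hH (Subgroup.comap_injective e.surjective
        (h.trans (Subgroup.comap_top _).symm))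
      suffices hSc : ∀ a b : S, Commute (a : X) b by
        refine ⟨⟨fun a b => Subtype.ext (e.symm.injective ?_)⟩⟩
        rw [Subgroup.coe_mul, Subgroup.coe_mul, map_mul, map_mul]
        exact hSc ⟨e.symm a, by simp [hS]⟩ ⟨e.symm b, by simp [hS]⟩
      by_cases hSK : S ≤ K
      · exact fun a b => congrArg Subtype.val (hKab.is_comm.comm ⟨a, hSK a.2⟩ ⟨b, hSK b.2⟩)
      obtain ⟨s, hs, hsK⟩ := Set.not_subset.mp hSK
      have hsF : s ∉ Cfsg.frobeniusKernel Q := by rw [← hKset]; exact hsK
      simp only [Cfsg.frobeniusKernel, Set.mem_setOf_eq, not_or, not_forall, not_not] at hsF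
      obtain ⟨hs1, g, hg⟩ := hsF
      rw [Lib.Frobenius.mem_conj_smul_iff] at hg
      set t := g⁻¹ * s * g
      have ht1 : t ≠ 1 := fun h => hs1 (by
        have : s = g * t * g⁻¹ := by simp [t, mul_assoc]
        rw [this, h]; simp)
      obtain ⟨n, hn⟩ := QuotientGroup.mk'_surjective (Subgroup.center (⊤ : Subgroup G)) s
      have hnc : (n : G) ∉ Subgroup.center G := fun hc => hs1 (by
        rw [← hn]
        exact (QuotientGroup.eq_one_iff n).mpr (Subgroup.mem_center_iff.mpr fun m =>
          Subtype.ext (Subgroup.mem_center_iff.mp hc (m : G))))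
      set π := (QuotientGroup.mk' (Subgroup.center (⊤ : Subgroup G))).comp
        (Subgroup.topEquiv (G := G)).symm.toMonoidHom with hπ
      have hπs : Function.Surjective π :=
        (QuotientGroup.mk'_surjective _).comp (Subgroup.topEquiv (G := G)).symm.surjective
      have hcen : ∀ c ∈ Subgroup.centralizer ({(n : G)} : Set G), π c ∈ Subgroup.centralizer ({s} : Set X) := by
        intro c hc
        have h1 := Subgroup.mem_centralizer_singleton_iff.mp hc
        rw [Subgroup.mem_centralizer_singleton_iff, ← hn]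
        show π c * π (n : G) = π (n : G) * π c
        rw [← map_mul, ← map_mul, h1]
      have hker : π.ker ≤ Subgroup.centralizer ({(n : G)} : Set G) := by
        intro c hc
        have h1 : Subgroup.topEquiv.symm c ∈ Subgroup.center (⊤ : Subgroup G) :=
          (QuotientGroup.eq_one_iff _).mp hc
        exact Subgroup.mem_centralizer_singleton_iff.mpr
          (congrArg Subtype.val (Subgroup.mem_center_iff.mp h1 n)).symm
      set M := (Subgroup.centralizer ({(n : G)} : Set G)).map π
      have hMs : s ∈ M := ⟨n, Subgroup.mem_centralizer_singleton_iff.mpr rfl, hn⟩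
      have hM : ∀ T : Subgroup X, T ≠ ⊤ → M ≤ T → T ≤ M := by
        intro T hT hMT
        have h1 : Subgroup.centralizer ({(n : G)} : Set G) ≤ T.comap π :=
          Subgroup.map_le_iff_le_comap.mp hMT
        have h2 : T.comap π ≠ ⊤ := fun e => hT (Subgroup.comap_injective hπs
          (e.trans (Subgroup.comap_top π).symm))
        intro x hx
        obtain ⟨c, rfl⟩ := hπs x
        refine ⟨c, ?_, rfl⟩
        rw [← ((h _ hnc).le_iff.mp h1).resolve_left h2]
        exact hx
      have hMC : M ≤ MulAut.conj g • Q := by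
        rintro _ ⟨c, hc, rfl⟩
        rw [Lib.Frobenius.mem_conj_smul_iff]
        refine Lib.Frobenius.centralizer_le hF hg ht1 (Subgroup.mem_centralizer_singleton_iff.mpr ?_)
        have h1 := Subgroup.mem_centralizer_singleton_iff.mp (hcen c hc)
        calc g⁻¹ * π c * g * t = g⁻¹ * (π c * s) * g := by simp [t, mul_assoc]
          _ = g⁻¹ * (s * π c) * g := by rw [h1]
          _ = t * (g⁻¹ * π c * g) := by simp [t, mul_assoc]
      have hz : Subgroup.zpowers s = MulAut.conj g • Q := by
        refine Subgroup.eq_of_le_of_card_ge (Subgroup.zpowers_le.mpr (hMC hMs)) ?_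
        have hcg : Nat.card (MulAut.conj g • Q : Subgroup X) = Nat.card Q :=
          (Nat.card_congr (Q.equivSMul (MulAut.conj g)).toEquiv).symm
        rw [hcg]
        rcases hQ.eq_one_or_self_of_dvd _ (hcg ▸ Subgroup.card_dvd_of_le
          (Subgroup.zpowers_le.mpr (hMC hMs) : Subgroup.zpowers s ≤ MulAut.conj g • Q)) with h1 | h1
        · exact absurd (Subgroup.zpowers_eq_bot.mp (Subgroup.card_eq_one.mp h1)) hs1
        · exact h1.ge
      have hSM : S ≤ Subgroup.zpowers s :=
        (hM S hStop (hMC.trans (hz ▸ Subgroup.zpowers_le.mpr hs))).trans (hMC.trans hz.ge)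
      intro a b
      obtain ⟨i, hi⟩ := Subgroup.mem_zpowers_iff.mp (hSM a.2)
      obtain ⟨j, hj⟩ := Subgroup.mem_zpowers_iff.mp (hSM b.2)
      rw [← hi, ← hj]
      exact Commute.zpow_zpow_self s i j
    · intro P hP
      have hPeq : P.comap e.toMonoidHom = K := by
        refine Subgroup.eq_of_le_of_card_ge (fun x hx => hKuniq x ?_) ?_
        · obtain ⟨i, -, hi⟩ := (Nat.dvd_prime_pow hp).mp
            ((Subgroup.orderOf_dvd_natCard P hx).trans hP.dvd)
          exact ⟨i, (MulEquiv.orderOf_eq e x).symm.trans hi⟩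
        · rw [Subgroup.comap_equiv_eq_map_symm', Subgroup.card_map_of_injective (f := e.symm.toMonoidHom) e.symm.injective, hP, ha]
      have : P = K.map e.toMonoidHom := by
        rw [← hPeq]; exact (Subgroup.map_comap_eq_self_of_surjective (f := e.toMonoidHom) e.surjective P).symm
      rw [this]
      exact hKn.map _ e.surjective

end Cfsg.Agent.S3904
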