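import Cfsg.Statements.S3908
import Mathlib
import Cfsg.Agent.Lib.PUnique.Basic

set_option autoImplicit false
open Cfsg

namespace Cfsg.Agent.S3908
/-- A Sylow subgroup is cyclic, generalized quaternion, or of exponent `p`. -/
theorem sylow_dichotomy {G : Type*} [Group G] [Finite G]
    (hB : ∀ A B : Subgroup G, IsMulCommutative ↥A → IsMulCommutative ↥B → Nat.card ↥A = Nat.card ↥B →
      ∃ g : G, B = A.map (MulAut.conj g).toMonoidHom) {p : ℕ} [hp : Fact p.Prime] (P : Sylow p G) :
    IsCyclic ↥(P : Subgroup G) ∨ (∀ x ∈ (P : Subgroup G), x ^ p = 1) ∨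
      (p = 2 ∧ ∃ n : ℕ, Nonempty (↥(P : Subgroup G) ≃* QuaternionGroup (2 ^ n))) := by
  classical
  by_cases hexp : ∀ x ∈ (P : Subgroup G), x ^ p = 1
  · exact Or.inr (Or.inl hexp)
  push Not at hexp
  obtain ⟨x, hx, hxp⟩ := hexp
  obtain ⟨k, hk⟩ := IsPGroup.iff_orderOf.mp P.2 ⟨x, hx⟩
  rw [← Subgroup.orderOf_coe, Subgroup.coe_mk] at hk
  have hk2 : 2 ≤ k := by
    by_contra hlt
    refine hxp (orderOf_dvd_iff_pow_eq_one.mp ?_)
    rw [hk]
    exact (Nat.pow_dvd_pow p (by omega : k ≤ 1)).trans (by rw [pow_one])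
  set y := x ^ p ^ (k - 2) with hy
  have hyo : orderOf y = p ^ 2 := by
    rw [hy, orderOf_pow' x (pow_ne_zero _ hp.out.ne_zero), hk,
      Nat.gcd_eq_right (Nat.pow_dvd_pow p (by omega)), Nat.pow_div (by omega) hp.out.pos]
    congr 1; omega
  have huniq : ∀ H K : Subgroup ↥(P : Subgroup G), Nat.card H = p → Nat.card K = p → H = K := by
    intro H K hH hK
    by_contra hne
    -- a central subgroup of order p
    haveI : Nontrivial ↥(P : Subgroup G) := by
      refine ⟨⟨x, hx⟩, 1, fun h => hxp ?_⟩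
      rw [show x = 1 from congrArg Subtype.val h, one_pow]
    haveI := P.2.center_nontrivial
    obtain ⟨z, hz⟩ := exists_prime_orderOf_dvd_card' (G := Subgroup.center ↥(P : Subgroup G)) p (by
      obtain ⟨n, hn⟩ := IsPGroup.iff_card.mp (P.2.to_subgroup (Subgroup.center ↥(P : Subgroup G)))
      rw [hn]
      refine dvd_pow_self p ?_
      rintro rfl
      have h1 := Finite.one_lt_card (α := Subgroup.center ↥(P : Subgroup G))
      rw [pow_zero] at hn
      omega)
    have hzo : Nat.card (Subgroup.zpowers (z : ↥(P : Subgroup G))) = p := by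
      rw [Nat.card_zpowers, Subgroup.orderOf_coe, hz]
    obtain ⟨L, hL, hLne⟩ : ∃ L : Subgroup ↥(P : Subgroup G), Nat.card L = p ∧
        L ≠ Subgroup.zpowers (z : ↥(P : Subgroup G)) := by
      by_cases h : H = Subgroup.zpowers (z : ↥(P : Subgroup G))
      · exact ⟨K, hK, fun h' => hne (h.trans h'.symm)⟩
      · exact ⟨H, hH, h⟩
    haveI := isCyclic_of_prime_card hL
    set Z := Subgroup.zpowers (z : ↥(P : Subgroup G)) with hZ
    have hzc : ∀ a ∈ Z, ∀ b : ↥(P : Subgroup G), a * b = b * a := fun a ha b =>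
      (Subgroup.mem_center_iff.mp ((Subgroup.zpowers_le.mpr z.2) ha) b).symm
    have hdisj : L ⊓ Z = ⊥ := by
      by_contra h
      obtain ⟨d, hd⟩ : Nat.card ↥(L ⊓ Z) ∣ p := (Subgroup.card_dvd_of_le inf_le_left).trans (dvd_of_eq hL)
      rcases (Nat.dvd_prime hp.out).mp (Dvd.intro d hd.symm) with h1 | h1
      · exact h (Subgroup.card_eq_one.mp h1)
      · have e1 : L ⊓ Z = L := Subgroup.eq_of_le_of_card_ge inf_le_left (by rw [h1, hL])
        exact hLne (Subgroup.eq_of_le_of_card_ge (inf_eq_left.mp e1) (by rw [hzo, hL]))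
    let f : L × Z →* ↥(P : Subgroup G) :=
      MonoidHom.noncommCoprod L.subtype Z.subtype fun a b => (hzc b b.2 a).symm
    have hf : Function.Injective f := by
      refine (injective_iff_map_eq_one f).mpr fun t ht => ?_
      have h1 : ((t.1 : L) : ↥(P : Subgroup G)) * (t.2 : Z) = 1 := ht
      have h2 : (t.1 : ↥(P : Subgroup G)) ∈ L ⊓ Z := by
        refine ⟨t.1.2, ?_⟩
        show (t.1 : ↥(P : Subgroup G)) ∈ Z
        rw [mul_eq_one_iff_eq_inv.mp h1]
        exact inv_mem t.2.2
      rw [hdisj, Subgroup.mem_bot] at h2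
      rw [h2, one_mul] at h1
      exact Prod.ext (Subtype.ext h2) (Subtype.ext h1)
    let E : Subgroup G := f.range.map (P : Subgroup G).subtype
    have hEcard : Nat.card E = p ^ 2 := by
      rw [Subgroup.card_subtype, ← Nat.card_congr (MonoidHom.ofInjective hf).toEquiv, Nat.card_prod,
        hL, hzo, pow_two]
    have hEab : IsMulCommutative E := by
      haveI : IsMulCommutative f.range := by
        refine ⟨⟨?_⟩⟩
        rintro ⟨_, a, rfl⟩ ⟨_, b, rfl⟩
        apply Subtype.ext
        show f a * f b = f b * f a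
        rw [← map_mul, ← map_mul]
        congr 1
        refine Prod.ext ?_ ?_
        · exact Subtype.ext (congrArg Subtype.val ((IsCyclic.isMulCommutative (α := L)).is_comm.comm a.1 b.1))
        · exact Subtype.ext (hzc a.2 a.2.2 b.2)
      exact Subgroup.map_isMulCommutative f.range (P : Subgroup G).subtype
    obtain ⟨g, hg⟩ := hB E (Subgroup.zpowers y) hEab inferInstance
      (by rw [Nat.card_zpowers, hyo, hEcard])
    have hmem : y ∈ Subgroup.zpowers y := Subgroup.mem_zpowers y
    rw [hg] at hmem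
    obtain ⟨b, hb, hby⟩ := Subgroup.mem_map.mp hmem
    obtain ⟨_, ⟨t, rfl⟩, rfl⟩ := Subgroup.mem_map.mp hb
    have htp : t ^ p = 1 := Prod.ext
      (orderOf_dvd_iff_pow_eq_one.mp ((orderOf_dvd_natCard t.1).trans (dvd_of_eq hL)))
      (orderOf_dvd_iff_pow_eq_one.mp ((orderOf_dvd_natCard t.2).trans (dvd_of_eq hzo)))
    have h1 : y ^ p = 1 := by
      rw [← hby, ← map_pow, ← map_pow, ← map_pow, htp, map_one, map_one, map_one]
    have h2 := Nat.le_of_dvd hp.out.pos (hyo ▸ orderOf_dvd_of_pow_eq_one h1)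
    nlinarith [hp.out.two_le]
  rcases Lib.PUnique.isCyclic_or_quaternion P.2 huniq with h | h
  · exact Or.inl h
  · exact Or.inr (Or.inr h)


/-- Let G be a finite group in which any two abelian subgroups of the same order are conjugate. Then a Sylow 2-subgroup of G is cyclic, elementary abelian or generalized quaternion, and for an odd prime p a Sylow p-subgroup of G is cyclic or has exponent dividing p. -/
theorem result {G : Type*} [Group G] [Finite G] (hB : ∀ A B : Subgroup G, IsMulCommutative ↥A → IsMulCommutative ↥B → Nat.card ↥A = Nat.card ↥B → ∃ g : G, B = A.map (MulAut.conj g).toMonoidHom) :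
    (∀ P : Sylow 2 G, IsCyclic ↥(P : Subgroup G) ∨ Cfsg.IsElementaryAbelian 2 (P : Subgroup G) ∨ ∃ k : ℕ, Nonempty (↥(P : Subgroup G) ≃* QuaternionGroup (2 ^ k))) ∧
    ∀ (p : ℕ) [Fact p.Prime], p ≠ 2 → ∀ P : Sylow p G, IsCyclic ↥(P : Subgroup G) ∨ ∀ x ∈ (P : Subgroup G), x ^ p = 1 := by
  constructor
  · intro P
    haveI : Fact (Nat.Prime 2) := ⟨Nat.prime_two⟩
    rcases sylow_dichotomy hB P with h | h | ⟨-, n, hn⟩
    · exact Or.inl h
    · refine Or.inr (Or.inl ⟨⟨⟨fun a b => ?_⟩⟩, h⟩)
      have hsq : ∀ c : ↥(P : Subgroup G), c * c = 1 := fun c => Subtype.ext (by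
        rw [Subgroup.coe_mul, ← pow_two, Subgroup.coe_one]; exact h c c.2)
      calc a * b = (a * b) * ((b * a) * (b * a)) := by rw [hsq, mul_one]
        _ = a * (b * b) * a * (b * a) := by group
        _ = b * a := by rw [hsq, mul_one, hsq, one_mul]
    · exact Or.inr (Or.inr ⟨n, hn⟩)
  · intro p _ hp P
    rcases sylow_dichotomy hB P with h | h | ⟨h, -⟩
    · exact Or.inl h
    · exact Or.inr h
    · exact absurd h hp

end Cfsg.Agent.S3908
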