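import Cfsg.Statements.S3910
import Mathlib

set_option autoImplicit false
open Cfsg

namespace Cfsg.Agent.S3910

theorem isCyclic_sylow {G : Type*} [Group G] [Finite G] [Group.IsNilpotent G]
    (hB : ∀ A B : Subgroup G, IsMulCommutative ↥A → IsMulCommutative ↥B →
      Nat.card ↥A = Nat.card ↥B → ∃ g : G, B = A.map (MulAut.conj g).toMonoidHom)
    {p : ℕ} [Fact p.Prime] (P : Sylow p G) : IsCyclic ↥(P : Subgroup G) := by
  classical
  have hpp : p.Prime := Fact.out
  haveI : Fintype ↥(P : Subgroup G) := Fintype.ofFinite _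
  obtain ⟨x, -, hmax⟩ := Finset.exists_max_image (Finset.univ : Finset ↥(P : Subgroup G))
    orderOf Finset.univ_nonempty
  set S : Subgroup G := (P : Subgroup G) ⊔ Subgroup.centralizer ((P : Subgroup G) : Set G) with hS
  have hStop : S = ⊤ := by
    rw [← Subgroup.index_eq_one, Nat.eq_one_iff_not_exists_prime_dvd]
    intro q hq hdvd
    haveI : Fact q.Prime := ⟨hq⟩
    let Q : Sylow q G := Classical.arbitrary _
    have hle : (Q : Subgroup G) ≤ S := by
      rcases eq_or_ne q p with rfl | hqp
      · haveI := Sylow.unique_of_normal P inferInstance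
        rw [Subsingleton.elim Q P]
        exact le_sup_left
      · intro a ha
        refine Subgroup.mem_sup_right (Subgroup.mem_centralizer_iff.mpr fun b hb => ?_)
        have hPn : (P : Subgroup G).Normal := inferInstance
        have hQn : (Q : Subgroup G).Normal := inferInstance
        exact Subgroup.commute_of_normal_of_disjoint _ _ hPn hQn
          (IsPGroup.disjoint_of_ne p q hqp.symm _ _ P.2 Q.2) b a hb ha
    exact Q.not_dvd_index (hdvd.trans (Subgroup.index_dvd_of_le hle))
  have hclosed : ∀ y : ↥(P : Subgroup G),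
      y ∈ Subgroup.normalClosure ({x} : Set ↥(P : Subgroup G)) := by
    intro y
    obtain ⟨m, hm⟩ := IsPGroup.iff_orderOf.mp P.2 y
    obtain ⟨n, hn⟩ := IsPGroup.iff_orderOf.mp P.2 x
    have hmn : m ≤ n := by
      have h := hmax y (Finset.mem_univ _)
      rw [hm, hn] at h
      exact (Nat.pow_le_pow_iff_right hpp.one_lt).mp h
    set z := x ^ p ^ (n - m) with hz
    have hzo : orderOf z = p ^ m := by
      rw [hz, orderOf_pow' x (pow_ne_zero _ hpp.ne_zero), hn,
        Nat.gcd_eq_right (Nat.pow_dvd_pow p (by omega)), Nat.pow_div (by omega) hpp.pos]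
      congr 1; omega
    obtain ⟨g, hg⟩ := hB (Subgroup.zpowers (z : G)) (Subgroup.zpowers (y : G)) inferInstance
      inferInstance (by rw [Nat.card_zpowers, Nat.card_zpowers, Subgroup.orderOf_coe,
        Subgroup.orderOf_coe, hzo, hm])
    have hmem : (y : G) ∈ Subgroup.zpowers (y : G) := Subgroup.mem_zpowers _
    rw [hg] at hmem
    obtain ⟨w, hw, hwy⟩ := Subgroup.mem_map.mp hmem
    obtain ⟨k, rfl⟩ := Subgroup.mem_zpowers_iff.mp hw
    have hgS : g ∈ S := hStop ▸ Subgroup.mem_top g
    rw [hS, sup_comm, ← SetLike.mem_coe, Subgroup.coe_mul_of_left_le_normalizer_right] at hgS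
    · obtain ⟨c, hc, u, hu, rfl⟩ := Set.mem_mul.mp hgS
      have hy' : y = (⟨u, hu⟩ : ↥(P : Subgroup G)) * z ^ k * (⟨u, hu⟩ : ↥(P : Subgroup G))⁻¹ := by
        apply Subtype.ext
        have hin : u * (z : G) ^ k * u⁻¹ ∈ (P : Subgroup G) :=
          mul_mem (mul_mem hu (zpow_mem z.2 k)) (inv_mem hu)
        have hcom := Subgroup.mem_centralizer_iff.mp hc _ hin
        simp only [MulEquiv.coe_toMonoidHom, MulAut.conj_apply] at hwy
        push_cast
        rw [← hwy]
        calc c * u * (z : G) ^ k * (c * u)⁻¹ = c * (u * (z : G) ^ k * u⁻¹) * c⁻¹ := by group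
          _ = u * (z : G) ^ k * u⁻¹ := by rw [← hcom, mul_inv_cancel_right]
      rw [hy']
      refine Subgroup.normalClosure_normal.conj_mem _ (zpow_mem (pow_mem ?_ _) k) _
      exact Subgroup.subset_normalClosure (Set.mem_singleton x)
    · refine fun c hc => Subgroup.mem_normalizer_iff.mpr fun w => ?_
      have hP : ((P : Subgroup G)).Normal := inferInstance
      constructor
      · exact fun hw => hP.conj_mem w hw c
      · intro hw
        have := hP.conj_mem _ hw c⁻¹
        simpa [mul_assoc] using this
  have htop : Subgroup.zpowers x = ⊤ := by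
    by_contra hne
    obtain ⟨M, hM, hle⟩ := (eq_top_or_exists_le_coatom (Subgroup.zpowers x)).resolve_left hne
    haveI := P.2.isNilpotent
    haveI : M.Normal := Subgroup.NormalizerCondition.normal_of_coatom M
      Group.normalizerCondition_of_isNilpotent hM
    refine hM.1 (eq_top_iff.mpr fun y _ => ?_)
    exact Subgroup.normalClosure_le_normal
      (Set.singleton_subset_iff.mpr (hle (Subgroup.mem_zpowers x))) (hclosed y)
  exact isCyclic_iff_exists_zpowers_eq_top.mpr ⟨x, htop⟩

/-- A finite nilpotent group in which any two abelian subgroups of the same order are conjugate is cyclic. -/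
theorem result {G : Type*} [Group G] [Finite G] (hB : ∀ A B : Subgroup G, IsMulCommutative ↥A → IsMulCommutative ↥B → Nat.card ↥A = Nat.card ↥B → ∃ g : G, B = A.map (MulAut.conj g).toMonoidHom) (hnil : Group.IsNilpotent G) : IsCyclic G := by
  haveI := hnil
  haveI : IsZGroup G := by
    refine IsZGroup.mk fun p hp P => ?_
    haveI : Fact p.Prime := ⟨hp⟩
    exact isCyclic_sylow hB P
  infer_instance

end Cfsg.Agent.S3910
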