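import Cfsg.Statements.S3917
import Mathlib

set_option autoImplicit false
open Cfsg

namespace Cfsg.Agent.S3917

/-- Say that a group has self-centralizing non-cyclic subgroups when every non-cyclic subgroup H satisfies C_G(H) ≤ H. A finite abelian group with self-centralizing non-cyclic subgroups is cyclic or elementary abelian of order p² for a prime p. -/
theorem result {G : Type*} [CommGroup G] [Finite G] (hX : (∀ H : Subgroup G, ¬ IsCyclic ↥H → Subgroup.centralizer (H : Set G) ≤ H)) :
    IsCyclic G ∨ ∃ p : ℕ, p.Prime ∧ Nat.card G = p ^ 2 ∧ Monoid.exponent G = p := by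
  by_contra hcon
  rw [not_or] at hcon
  obtain ⟨hnc, hno⟩ := hcon
  have hsub : ∀ H : Subgroup G, ¬ IsCyclic ↥H → H = ⊤ := fun H hH =>
    top_le_iff.mp fun g _ => hX H hH (Subgroup.mem_centralizer_iff.mpr fun h _ => mul_comm h g)
  obtain ⟨p, hp, P, hP⟩ : ∃ p, p.Prime ∧ ∃ P : Sylow p G, ¬ IsCyclic ↥(P : Subgroup G) := by
    by_contra hall
    push Not at hall
    haveI : IsZGroup G := ⟨hall⟩
    exact hnc inferInstance
  haveI : Fact p.Prime := ⟨hp⟩
  have hPtop := hsub _ hP
  have hG : IsPGroup p G := by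
    intro g
    obtain ⟨k, hk⟩ := P.2 ⟨g, hPtop ▸ Subgroup.mem_top g⟩
    exact ⟨k, congrArg Subtype.val hk⟩
  haveI : Fintype G := Fintype.ofFinite G
  let E : Subgroup G := (powMonoidHom p : G →* G).ker
  have hE : ∀ e ∈ E, e ^ p = 1 := fun e he => he
  -- the kernel of the p-th power map is large
  have hEc : ¬ IsCyclic ↥E := by
    intro hcyc
    have hEp : Nat.card E ≤ p := by
      obtain ⟨e, he⟩ := hcyc.exists_generator
      rw [← orderOf_eq_card_of_forall_mem_zpowers he]
      exact Nat.le_of_dvd hp.pos (orderOf_dvd_of_pow_eq_one (Subtype.ext (hE _ e.2)))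
    obtain ⟨x, hx⟩ := Monoid.exists_orderOf_eq_exponent (Monoid.ExponentExists.of_finite (G := G))
    have hexp : ∀ y : G, orderOf y ∣ orderOf x := fun y => hx ▸ Monoid.order_dvd_exponent y
    have hxg : ∀ (k : ℕ) (y : G), y ^ p ^ k = 1 → y ∈ Subgroup.zpowers x := by
      intro k
      induction k with
      | zero => intro y hy; rw [pow_zero, pow_one] at hy; rw [hy]; exact one_mem _
      | succ k ih =>
        intro y hy
        have hyp : y ^ p ∈ Subgroup.zpowers x := ih _ (by rw [← pow_mul, ← pow_succ']; exact hy)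
        rw [← mem_powers_iff_mem_zpowers] at hyp
        obtain ⟨j, hj⟩ := hyp
        simp only at hj
        obtain ⟨n, hn⟩ := IsPGroup.iff_orderOf.mp hG x
        cases n with
        | zero =>
          have : orderOf y = 1 := Nat.dvd_one.mp (by simpa [hn] using hexp y)
          rw [orderOf_eq_one_iff.mp this]; exact one_mem _
        | succ n =>
          have hjp : p ∣ j := by
            have h1 : x ^ (j * p ^ n) = 1 := by
              rw [pow_mul, hj, ← pow_mul, ← pow_succ']
              exact orderOf_dvd_iff_pow_eq_one.mp (hn ▸ hexp y)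
            have h2 := hn ▸ orderOf_dvd_of_pow_eq_one h1
            rw [pow_succ'] at h2
            exact Nat.dvd_of_mul_dvd_mul_right (pow_pos hp.pos n) h2
          obtain ⟨i, rfl⟩ := hjp
          have he : y * (x ^ i)⁻¹ ∈ E := by
            show (y * (x ^ i)⁻¹) ^ p = 1
            rw [mul_pow, inv_pow, ← pow_mul, mul_comm i p, hj, mul_inv_cancel]
          have hxE : x ^ p ^ n ∈ E := by
            show (x ^ p ^ n) ^ p = 1
            rw [← pow_mul, ← pow_succ, ← hn, pow_orderOf_eq_one]
          have hcard : Nat.card (Subgroup.zpowers (x ^ p ^ n)) = p := by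
            rw [Nat.card_zpowers, orderOf_pow' x (pow_ne_zero _ hp.ne_zero), hn,
              Nat.gcd_eq_right (Nat.pow_dvd_pow p (by omega)), Nat.pow_div (by omega) hp.pos]
            simp
          have heq : Subgroup.zpowers (x ^ p ^ n) = E :=
            Subgroup.eq_of_le_of_card_ge (Subgroup.zpowers_le.mpr hxE) (by rw [hcard]; exact hEp)
          have hmem : y * (x ^ i)⁻¹ ∈ Subgroup.zpowers x :=
            Subgroup.zpowers_le.mpr (Subgroup.pow_mem _ (Subgroup.mem_zpowers x) _) (heq ▸ he)
          simpa using mul_mem hmem (Subgroup.pow_mem _ (Subgroup.mem_zpowers x) i)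
    exact hnc (isCyclic_iff_exists_zpowers_eq_top.mpr ⟨x, eq_top_iff.mpr fun y _ => by
      obtain ⟨k, hk⟩ := hG y
      exact hxg k y hk⟩)
  have hEtop := hsub E hEc
  have hexp : ∀ g : G, g ^ p = 1 := fun g => hE g (hEtop ▸ Subgroup.mem_top g)
  obtain ⟨n, hn⟩ := IsPGroup.iff_card.mp hG
  have hn2 : 2 ≤ n := by
    by_contra hlt
    match n, hn with
    | 0, hn =>
      haveI := (Nat.card_eq_one_iff_unique.mp (show Nat.card G = 1 by rw [hn, pow_zero])).1
      exact hnc inferInstance
    | 1, hn => exact hnc (isCyclic_of_prime_card (by simpa using hn))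
    | n + 2, _ => omega
  obtain ⟨B, hBc⟩ := Sylow.exists_subgroup_card_pow_prime (G := G) p (n := 2)
    (by rw [hn]; exact Nat.pow_dvd_pow p hn2)
  have hBtop : B = ⊤ := hsub B fun hcyc => by
    obtain ⟨b, hb⟩ := hcyc.exists_generator
    have h1 := orderOf_eq_card_of_forall_mem_zpowers hb
    have h2 := Nat.le_of_dvd hp.pos (orderOf_dvd_of_pow_eq_one (Subtype.ext (hexp b) : b ^ p = 1))
    rw [h1, hBc] at h2
    nlinarith [hp.two_le]
  refine hno ⟨p, hp, ?_, ?_⟩
  · rw [← hBc, hBtop, Subgroup.card_top]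
  · rcases (Nat.dvd_prime hp).mp (Monoid.exponent_dvd_of_forall_pow_eq_one hexp) with h | h
    · exfalso
      haveI := Monoid.exp_eq_one_iff.mp h
      exact hnc inferInstance
    · exact h

end Cfsg.Agent.S3917
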