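import Cfsg.Statements.S3918
import Mathlib
import Cfsg.Agent.Lib.PGroupNormalSq.Basic
import Cfsg.Agent.Lib.PGroup.NormalElem
-- import your own Cfsg.Agent.* helpers here

set_option autoImplicit false
open Cfsg

namespace Cfsg.Agent.S3918

open Subgroup

theorem comm_of_le_prime_sq {G : Type*} [Group G] [Finite G] {p : ℕ} [Fact p.Prime] {k : ℕ}
    (hk : Nat.card G = p ^ k) (hk2 : k ≤ 2) : IsMulCommutative G := by
  rcases (show k = 0 ∨ k = 1 ∨ k = 2 by omega) with rfl | rfl | rfl
  · haveI := (Nat.card_eq_one_iff_unique.mp (hk.trans (pow_zero p))).1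
    exact ⟨⟨fun a b => Subsingleton.elim _ _⟩⟩
  · haveI := isCyclic_of_prime_card (hk.trans (pow_one p))
    exact IsCyclic.isMulCommutative
  · exact IsPGroup.isMulCommutative_of_card_eq_prime_sq hk

theorem two_le_of_not_cyclic {G : Type*} [Group G] [Finite G] {p : ℕ} [Fact p.Prime] {k : ℕ}
    (hk : Nat.card G = p ^ k) (h : ¬ IsCyclic G) : 2 ≤ k := by
  by_contra hlt
  rcases (show k = 0 ∨ k = 1 by omega) with rfl | rfl
  · haveI := (Nat.card_eq_one_iff_unique.mp (hk.trans (pow_zero p))).1
    exact h inferInstance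
  · exact h (isCyclic_of_prime_card (hk.trans (pow_one p)))


/-- Say that a group has self-centralizing non-cyclic subgroups when every non-cyclic subgroup H satisfies C_G(H) ≤ H. For an odd prime p, a finite non-abelian p-group has self-centralizing non-cyclic subgroups if and only if it has order p³. -/
theorem result {G : Type*} [Group G] [Finite G] {p : ℕ} [Fact p.Prime] (hp : p ≠ 2) (hG : IsPGroup p G) (hna : ¬ IsMulCommutative G) :
    (∀ H : Subgroup G, ¬ IsCyclic ↥H → Subgroup.centralizer (H : Set G) ≤ H) ↔ Nat.card G = p ^ 3 := by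
  have hpp : p.Prime := Fact.out
  obtain ⟨n, hn⟩ := IsPGroup.iff_card.mp hG
  have hn3 : 3 ≤ n := by
    by_contra hlt
    exact hna (comm_of_le_prime_sq hn (by omega))
  constructor
  · intro h
    have hnc : ¬ IsCyclic (⊤ : Subgroup G) := fun hc => hna (by
      haveI : IsCyclic G := Subgroup.topEquiv.isCyclic.mp hc
      exact IsCyclic.isMulCommutative)
    obtain ⟨z, w, hz, hz1, hzp, -, hwp, -, hwz, hN⟩ :=
      Lib.PGroupNormalSq.exists_normal_sq hp hG ⊤ hnc
    haveI := hN
    set E := closure ({z, w} : Set G) with hE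
    have hEc : Nat.card E = p ^ 2 := Lib.PGroupNormalSq.card_closure_pair hz hzp hwp hz1 hwz
    have hzE : z ∈ E := subset_closure (Set.mem_insert _ _)
    have hwE : w ∈ E := subset_closure (Set.mem_insert_of_mem _ (Set.mem_singleton w))
    have hEnc : ¬ IsCyclic E := by
      intro hc
      obtain ⟨g, hg⟩ := hc.exists_generator
      have hord : orderOf g = p ^ 2 := (orderOf_eq_card_of_forall_mem_zpowers hg).trans hEc
      have hEp : ∀ u ∈ E, u ^ p = 1 := by
        intro u hu
        induction hu using closure_induction with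
        | mem u hu => rcases hu with rfl | rfl <;> assumption
        | one => exact one_pow _
        | mul a b ha hb iha ihb =>
          have hab : Commute a b := congrArg Subtype.val
            ((IsPGroup.isMulCommutative_of_card_eq_prime_sq hEc).is_comm.comm ⟨a, ha⟩ ⟨b, hb⟩)
          rw [hab.mul_pow, iha, ihb, one_mul]
        | inv a _ iha => rw [inv_pow, iha, inv_one]
      have h1 : orderOf g ∣ p := orderOf_dvd_of_pow_eq_one (Subtype.ext (hEp _ g.2))
      rw [hord] at h1
      have := Nat.le_of_dvd hpp.pos h1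
      nlinarith [hpp.two_le]
    haveI hKn : (zpowers z).Normal := ⟨fun u hu g => by
      rw [mem_center_iff.mp ((zpowers_le.mpr hz) hu) g, mul_inv_cancel_right]; exact hu⟩
    have hmem : ∀ g : G, g * w * g⁻¹ * w⁻¹ ∈ zpowers z := fun g =>
      Lib.NormalElem.commutator_mem_of_index_le hG
        (by rw [hEc, Nat.card_zpowers, orderOf_eq_prime hzp hz1, pow_two]) (zpowers_le.mpr hzE) g hwE
    have hidx : (centralizer ({w} : Set G)).index ≤ p := by
      rw [index_eq_card]
      refine le_trans ?_ (Nat.card_zpowers z ▸ (orderOf_eq_prime hzp hz1).le)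
      refine Nat.card_le_card_of_injective
        (fun q : G ⧸ centralizer ({w} : Set G) => (⟨_, hmem q.out⟩ : zpowers z)) fun a b hab => ?_
      have h1 := mul_right_cancel (congrArg Subtype.val hab)
      rw [← QuotientGroup.out_eq' a, ← QuotientGroup.out_eq' b, QuotientGroup.eq,
        mem_centralizer_singleton_iff]
      have h2 : w = a.out⁻¹ * (a.out * w * a.out⁻¹) * a.out := by group
      rw [h1] at h2
      calc a.out⁻¹ * b.out * w = a.out⁻¹ * (b.out * w * b.out⁻¹) * a.out * (a.out⁻¹ * b.out) := by group
        _ = w * (a.out⁻¹ * b.out) := by rw [← h2]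
    have hCE : centralizer ({w} : Set G) ≤ E := by
      refine le_trans (fun g hg => ?_) (h E hEnc)
      rw [hE, centralizer_closure, mem_centralizer_iff]
      rintro u (rfl | rfl)
      · exact (mem_center_iff.mp hz g).symm
      · exact (mem_centralizer_singleton_iff.mp hg).symm
    have hle : Nat.card G ≤ p ^ 3 := by
      rw [← (centralizer ({w} : Set G)).card_mul_index, pow_succ, ← hEc]
      exact Nat.mul_le_mul (Subgroup.card_le_of_le hCE) hidx
    rw [hn, Nat.pow_le_pow_iff_right hpp.one_lt] at hle
    rw [hn, show n = 3 by omega]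
  · intro hcard H hH g hg
    obtain ⟨k, hk⟩ := IsPGroup.iff_card.mp (hG.to_subgroup H)
    have hk2 := two_le_of_not_cyclic hk hH
    have hk3 : k ≤ 3 := (Nat.pow_dvd_pow_iff_le_right hpp.one_lt).mp
      (hk ▸ hcard ▸ H.card_subgroup_dvd_card)
    rcases (show k = 3 ∨ k = 2 by omega) with rfl | rfl
    · rw [H.eq_top_of_card_eq (hk.trans hcard.symm)]; exact mem_top g
    have hHC : H ≤ centralizer (H : Set G) := by
      haveI := IsPGroup.isMulCommutative_of_card_eq_prime_sq hk
      exact le_centralizer H
    obtain ⟨j, hj⟩ := IsPGroup.iff_card.mp (hG.to_subgroup (centralizer (H : Set G)))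
    have hj3 : j ≤ 3 := (Nat.pow_dvd_pow_iff_le_right hpp.one_lt).mp
      (hj ▸ hcard ▸ (centralizer (H : Set G)).card_subgroup_dvd_card)
    have hj2 : 2 ≤ j := (Nat.pow_le_pow_iff_right hpp.one_lt).mp
      (hk ▸ hj ▸ Subgroup.card_le_of_le hHC)
    rcases (show j = 3 ∨ j = 2 by omega) with rfl | rfl
    · exfalso
      have htop := (centralizer (H : Set G)).eq_top_of_card_eq (hj.trans hcard.symm)
      have hZ : H ≤ center G := fun x hx => mem_center_iff.mpr fun y =>
        (mem_centralizer_iff.mp (htop ▸ mem_top y : y ∈ centralizer (H : Set G)) x hx).symm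
      refine hna ?_
      have h1 : Nat.card (G ⧸ center G) ∣ p := by
        have h2 : H.index = p := by
          have := H.card_mul_index
          rw [hk, hcard, pow_succ] at this
          exact Nat.eq_of_mul_eq_mul_left (pow_pos hpp.pos 2) this
        rw [← index_eq_card, ← h2]
        exact index_dvd_of_le hZ
      haveI : IsCyclic (G ⧸ center G) := isCyclic_of_card_dvd_prime h1
      exact ⟨⟨commutative_of_cyclic_center_quotient (QuotientGroup.mk' (center G))
        (by rw [QuotientGroup.ker_mk'])⟩⟩
    · exact (Subgroup.eq_of_le_of_card_ge hHC (hj.trans hk.symm).le).ge hg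

end Cfsg.Agent.S3918
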