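import Cfsg.Statements.S3919
import Mathlib
import Cfsg.Agent.Lib.PGroupNormalSq.Basic
import Cfsg.Agent.Lib.PLemmas.MaximalClass
import Cfsg.Agent.Lib.UniqueInvolution.Basic
import Cfsg.Agent.S0113
import Cfsg.Agent.S0114
-- import your own Cfsg.Agent.* helpers here

set_option autoImplicit false
open Cfsg

namespace Cfsg.Agent.S3919

open Subgroup

/-- A noncyclic subgroup meets the cyclic subgroup of index two outside and the centre inside. -/
theorem selfCentralizing_of_maximalClass {G : Type*} [Group G] [Finite G] (n : ℕ) (hn : 3 ≤ n)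
    (hG : Nat.card G = 2 ^ n) (hc : Group.nilpotencyClass G = n - 1) (hna : ¬ IsMulCommutative G)
    (H : Subgroup G) (hH : ¬ IsCyclic H) : centralizer (H : Set G) ≤ H := by
  haveI : Fact (Nat.Prime 2) := ⟨Nat.prime_two⟩
  obtain ⟨C, hCc, hCi⟩ := S0113.result n hn hG hc
  obtain ⟨e⟩ := S0114.result n hn hG hc
  have hZ : Nat.card (center G) = 2 := by
    have h := (center G).card_mul_index
    rw [index_eq_card, Nat.card_congr e.toEquiv, DihedralGroup.nat_card, hG,
      show n = (n - 2) + 2 by omega, pow_add] at h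
    have hpos : 0 < 2 ^ (n - 2) := pow_pos two_pos _
    simp only [add_tsub_cancel_right] at h
    exact Nat.eq_of_mul_eq_mul_right (show 0 < 2 * 2 ^ (n - 2) by omega) (h.trans (by ring))
  haveI : IsMulCommutative C := IsCyclic.isMulCommutative
  have hCcomm : ∀ a ∈ C, ∀ b ∈ C, a * b = b * a := fun a ha b hb =>
    congrArg Subtype.val ((IsMulCommutative.is_comm (M := C)).comm ⟨a, ha⟩ ⟨b, hb⟩)
  -- an element outside `C` centralises only the centre in `C`
  have hfix : ∀ x, x ∉ C → ∀ c ∈ C, x * c = c * x → c ∈ center G := by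
    intro x hx c hc hxc
    refine mem_center_iff.mpr fun g => ?_
    by_cases hg : g ∈ C
    · exact hCcomm g hg c hc
    · have h1 : x⁻¹ * g ∈ C := (mul_mem_iff_of_index_two hCi).mpr
        ⟨fun h => absurd (inv_mem_iff.mp h) hx, fun h => absurd h hg⟩
      calc g * c = x * ((x⁻¹ * g) * c) := by group
        _ = x * (c * (x⁻¹ * g)) := by rw [hCcomm _ h1 c hc]
        _ = (x * c) * (x⁻¹ * g) := by group
        _ = (c * x) * (x⁻¹ * g) := by rw [hxc]
        _ = c * g := by group
  obtain ⟨x, hxH, hxC⟩ : ∃ x ∈ H, x ∉ C := by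
    by_contra hcon
    push Not at hcon
    exact hH (isCyclic_of_injective (Subgroup.inclusion hcon) (Subgroup.inclusion_injective hcon))
  have hZH : center G ≤ H := by
    have hne : H ⊓ C ≠ ⊥ := by
      intro hbot
      refine hH ?_
      have : H = zpowers x := by
        refine le_antisymm (fun g hg => ?_) (zpowers_le.mpr hxH)
        by_cases hgC : g ∈ C
        · have : g ∈ H ⊓ C := ⟨hg, hgC⟩
          rw [hbot, mem_bot] at this
          subst this; exact one_mem _
        · have hm : x⁻¹ * g ∈ H ⊓ C := ⟨H.mul_mem (H.inv_mem hxH) hg, (mul_mem_iff_of_index_two hCi).mpr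
            ⟨fun h => absurd (inv_mem_iff.mp h) hxC, fun h => absurd h hgC⟩⟩
          rw [hbot, mem_bot, inv_mul_eq_one] at hm
          subst hm; exact mem_zpowers _
      rw [this]; infer_instance
    obtain ⟨u, hu⟩ : ∃ u : ↥(H ⊓ C), orderOf u = 2 := by
      refine exists_prime_orderOf_dvd_card' 2 ?_
      rcases ((IsPGroup.of_card hG).to_subgroup (H ⊓ C)).card_eq_or_dvd with h | h
      · exact absurd (Subgroup.card_eq_one.mp h) hne
      · exact h
    obtain ⟨z, hz⟩ := exists_prime_orderOf_dvd_card' 2 (show 2 ∣ Nat.card (center G) by rw [hZ])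
    have hzC : (z : G) ∈ C := by
      by_contra hzC
      refine hna ⟨⟨fun a b => ?_⟩⟩
      have hfact : ∀ a : G, ∃ c ∈ C, ∃ i : ℤ, a = c * (z : G) ^ i := fun a => by
        by_cases ha : a ∈ C
        · exact ⟨a, ha, 0, by simp⟩
        · exact ⟨a * (z : G)⁻¹, (mul_mem_iff_of_index_two hCi).mpr
            ⟨fun h => absurd h ha, fun h => absurd (inv_mem_iff.mp h) hzC⟩, 1, by simp⟩
      obtain ⟨c, hc, i, rfl⟩ := hfact a
      obtain ⟨d, hd, j, rfl⟩ := hfact b
      have h1 := mem_center_iff.mp (zpow_mem z.2 i) (d * (z : G) ^ j)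
      have h2 := mem_center_iff.mp (zpow_mem z.2 j) c
      calc c * (z : G) ^ i * (d * (z : G) ^ j) = c * (d * (z : G) ^ j * (z : G) ^ i) := by rw [h1]; group
        _ = d * (c * (z : G) ^ j) * (z : G) ^ i := by
          simp only [← mul_assoc]; rw [hCcomm c hc d hd]
        _ = d * (z : G) ^ j * (c * (z : G) ^ i) := by rw [h2]; group
    obtain ⟨a, ha⟩ := hCc.exists_zpow_surjective
    have huz : (⟨(u : G), u.2.2⟩ : C) = ⟨z, hzC⟩ := by
      have key : ∀ v : C, orderOf v = 2 → zpowers v = zpowers (a ^ (orderOf a / 2)) := by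
        intro v hv
        have hd : 2 ∣ orderOf a := by
          rw [← hv]; obtain ⟨i, rfl⟩ := ha v
          exact orderOf_dvd_of_pow_eq_one (by rw [← zpow_natCast, ← zpow_mul, mul_comm, zpow_mul,
            zpow_natCast, pow_orderOf_eq_one, one_zpow])
        refine Subgroup.eq_of_le_of_card_ge (zpowers_le.mpr ?_) ?_
        · obtain ⟨i, rfl⟩ := ha v
          have h2 : (a : C) ^ (i * 2) = 1 := by
            rw [zpow_mul, show ((a ^ i) ^ (2 : ℤ)) = (a ^ i) ^ (2 : ℕ) from zpow_natCast _ 2, ← hv,
              pow_orderOf_eq_one]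
          obtain ⟨m, hm⟩ := orderOf_dvd_iff_zpow_eq_one.mpr h2
          obtain ⟨d, hd⟩ := hd
          refine ⟨m, ?_⟩
          show (a ^ (orderOf a / 2)) ^ m = a ^ i
          rw [← zpow_natCast, ← zpow_mul]
          congr 1
          rw [hd] at hm ⊢
          push_cast at hm
          rw [Nat.mul_div_cancel_left _ two_pos]
          linarith
        · rw [Nat.card_zpowers, Nat.card_zpowers, hv, orderOf_pow_of_dvd (by
            obtain ⟨d, hd'⟩ := hd; have := orderOf_pos a; omega) (Nat.div_dvd_of_dvd hd),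
            Nat.div_div_self hd (orderOf_pos a).ne']
      have hu' : orderOf (⟨(u : G), u.2.2⟩ : C) = 2 := by rw [← Subgroup.orderOf_coe]; simpa using hu
      have hz' : orderOf (⟨(z : G), hzC⟩ : C) = 2 := by rw [← Subgroup.orderOf_coe]; exact (Subgroup.orderOf_coe z).trans hz
      have h : (⟨(u : G), u.2.2⟩ : C) ∈ zpowers (⟨(z : G), hzC⟩ : C) :=
        (key _ hz').symm ▸ (key _ hu') ▸ mem_zpowers _
      obtain ⟨i, hi⟩ := h
      rcases Int.even_or_odd i with ⟨r, rfl⟩ | ⟨r, rfl⟩
      · exfalso
        have h1 : (⟨(u : G), u.2.2⟩ : C) = 1 := by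
          rw [← hi]; show _ ^ (r + r) = 1
          rw [← two_mul, zpow_mul, zpow_two, ← pow_two, ← hz', pow_orderOf_eq_one, one_zpow]
        rw [h1, orderOf_one] at hu'; omega
      · rw [← hi]; show _ ^ (2 * r + 1) = _
        rw [zpow_add, zpow_mul, zpow_two, ← pow_two, ← hz', pow_orderOf_eq_one, one_zpow, one_mul, zpow_one]
    have hzH : (z : G) ∈ H := by
      rw [show (z : G) = (u : G) from (congrArg Subtype.val huz).symm]; exact u.2.1
    intro g hg
    have h1 : zpowers (z : G) = center G := Subgroup.eq_of_le_of_card_ge (zpowers_le.mpr z.2)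
      (by rw [hZ, Nat.card_zpowers, Subgroup.orderOf_coe, hz])
    rw [← h1] at hg
    exact zpowers_le.mpr hzH hg
  intro g hg
  have hgx : x * g = g * x := mem_centralizer_iff.mp hg x hxH
  by_cases hgC : g ∈ C
  · exact hZH (hfix x hxC g hgC hgx)
  · have h1 : x⁻¹ * g ∈ C := (mul_mem_iff_of_index_two hCi).mpr
      ⟨fun h => absurd (inv_mem_iff.mp h) hxC, fun h => absurd h hgC⟩
    have h2 := hZH (hfix x hxC _ h1 (by
      calc x * (x⁻¹ * g) = x⁻¹ * (x * g) := by group
        _ = x⁻¹ * (g * x) := by rw [hgx]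
        _ = x⁻¹ * g * x := by group))
    simpa using mul_mem hxH h2

/-- A noncommutative 2-group with the property has maximal class. -/
theorem class_of_selfCentralizing {G : Type*} [Group G] [Finite G] (hna : ¬ IsMulCommutative G)
    (n : ℕ) (hn : 3 ≤ n) (hG : Nat.card G = 2 ^ n)
    (h : ∀ H : Subgroup G, ¬ IsCyclic H → centralizer (H : Set G) ≤ H) :
    (⊤ : Subgroup G).lowerCentralSeries (n - 2) ≠ ⊥ := by
  haveI : Fact (Nat.Prime 2) := ⟨Nat.prime_two⟩
  have hP := IsPGroup.of_card hG
  haveI := hP.isNilpotent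
  by_cases hu : ∀ a b : G, orderOf a = 2 → orderOf b = 2 → a = b
  · obtain ⟨m, a, hm, ha, hi, hinv⟩ := Lib.UniqueInvolution.exists_quaternion_gen hP hu hna
    obtain ⟨x, hx⟩ : ∃ x, x ∉ zpowers a := by
      by_contra hcon
      push Not at hcon
      rw [(eq_top_iff' _).mpr hcon, index_top] at hi
      omega
    have hmn : m + 1 = n := by
      have := (zpowers a).card_mul_index
      rw [Nat.card_zpowers, ha, hi, hG, ← pow_succ] at this
      exact Nat.pow_right_injective le_rfl this
    have key : ∀ j : ℕ, a ^ (2 ^ j) ∈ (⊤ : Subgroup G).lowerCentralSeries j := by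
      intro j
      induction j with
      | zero => simp
      | succ j ih =>
        rw [Subgroup.lowerCentralSeries_succ]
        have h1 := Subgroup.commutator_mem_commutator ih (mem_top x)
        have hax : x * (a ^ 2 ^ j)⁻¹ * x⁻¹ = a ^ 2 ^ j := by
          rw [← inv_pow, ← conj_pow, ← inv_inv (x * a⁻¹ * x⁻¹),
            show (x * a⁻¹ * x⁻¹)⁻¹ = x * a * x⁻¹ by group, (hinv x hx).1, inv_inv]
        convert h1 using 1
        rw [pow_succ, pow_mul, pow_two, _root_.commutatorElement_def, mul_assoc, mul_assoc,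
          ← mul_assoc x, hax]
    intro hbot
    have h1 := key (n - 2)
    rw [hbot, mem_bot] at h1
    have h2 := Nat.le_of_dvd (pow_pos two_pos _) (orderOf_dvd_of_pow_eq_one h1)
    rw [ha, Nat.pow_le_pow_iff_right (by norm_num)] at h2
    omega
  · push Not at hu
    obtain ⟨a, b, ha, hb, hab⟩ := hu
    obtain ⟨z, hzc, hz⟩ : ∃ z ∈ center G, orderOf z = 2 := by
      haveI := Finite.one_lt_card_iff_nontrivial.mp
        (hG ▸ Nat.one_lt_pow (show n ≠ 0 by omega) (by norm_num) : 1 < Nat.card G)
      haveI := hP.center_nontrivial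
      have hd : 2 ∣ Nat.card (center G) := by
        rcases (hP.to_subgroup (center G)).card_eq_or_dvd with h | h
        · exact absurd h (Finite.one_lt_card (α := center G)).ne'
        · exact h
      obtain ⟨z, hz⟩ := exists_prime_orderOf_dvd_card' 2 hd
      exact ⟨z, z.2, by rwa [← orderOf_submonoid] at hz⟩
    obtain ⟨w, hw, hwz⟩ : ∃ w, orderOf w = 2 ∧ w ≠ z := by
      by_cases h1 : a = z
      · exact ⟨b, hb, fun h2 => hab (h1.trans h2.symm)⟩
      · exact ⟨a, ha, h1⟩
    have hzp : z ^ 2 = 1 := hz ▸ pow_orderOf_eq_one z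
    have hwp : w ^ 2 = 1 := hw ▸ pow_orderOf_eq_one w
    have hz1 : z ≠ 1 := fun h => by rw [h, orderOf_one] at hz; omega
    have hw1 : w ≠ 1 := fun h => by rw [h, orderOf_one] at hw; omega
    have hwnz : w ∉ zpowers z := by
      rintro ⟨i, hi⟩
      change z ^ i = w at hi
      rcases Int.even_or_odd i with ⟨r, rfl⟩ | ⟨r, rfl⟩
      · rw [← two_mul, zpow_mul, zpow_two, ← pow_two, hzp, one_zpow] at hi
        exact hw1 hi.symm
      · rw [zpow_add, zpow_mul, zpow_two, ← pow_two, hzp, one_zpow, one_mul, zpow_one] at hi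
        exact hwz hi.symm
    set E := closure ({z, w} : Set G) with hE
    have hEc : Nat.card E = 2 ^ 2 := Lib.PGroupNormalSq.card_closure_pair hzc hzp hwp hz1 hwnz
    haveI := IsPGroup.isMulCommutative_of_card_eq_prime_sq hEc
    have hEnc : ¬ IsCyclic E := by
      intro hc
      obtain ⟨g, hg⟩ := hc.exists_generator
      have hord : orderOf g = 2 ^ 2 := (orderOf_eq_card_of_forall_mem_zpowers hg).trans hEc
      have hEp : ∀ u ∈ E, u ^ 2 = 1 := by
        intro u hu
        induction hu using closure_induction with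
        | mem u hu => rcases hu with rfl | rfl <;> assumption
        | one => exact one_pow _
        | mul c d hc hd ihc ihd =>
          have hcd : Commute c d := congrArg Subtype.val
            ((IsMulCommutative.is_comm (M := E)).comm ⟨c, hc⟩ ⟨d, hd⟩)
          rw [hcd.mul_pow, ihc, ihd, one_mul]
        | inv c _ ihc => rw [inv_pow, ihc, inv_one]
      have h1 : orderOf g ∣ 2 := orderOf_dvd_of_pow_eq_one (Subtype.ext (hEp _ g.2))
      rw [hord] at h1
      norm_num at h1
    have hC : centralizer (E : Set G) = E := le_antisymm (h E hEnc) (le_centralizer E)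
    have hcl := Lib.PLemmas.nilpotencyClass_of_self_centralizing hG E hEc hC
    intro hbot
    have := (Subgroup.lowerCentralSeries_eq_bot_iff_nilpotencyClass_le (G := G)).mp hbot
    omega


/-- Say that a group has self-centralizing non-cyclic subgroups when every non-cyclic subgroup H satisfies C_G(H) ≤ H. A finite non-abelian 2-group G of order 2^n has self-centralizing non-cyclic subgroups if and only if G has nilpotency class n − 1 (that is, G is dihedral, semidihedral or generalized quaternion). -/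
theorem result {G : Type*} [Group G] [Finite G] (hna : ¬ IsMulCommutative G) (n : ℕ) (hG : Nat.card G = 2 ^ n) :
    (∀ H : Subgroup G, ¬ IsCyclic ↥H → Subgroup.centralizer (H : Set G) ≤ H) ↔ (⊤ : Subgroup G).lowerCentralSeries (n - 2) ≠ ⊥ := by
  haveI : Fact (Nat.Prime 2) := ⟨Nat.prime_two⟩
  have hn : 3 ≤ n := by
    by_contra hlt
    apply hna
    rcases (show n = 0 ∨ n = 1 ∨ n = 2 by omega) with rfl | rfl | rfl
    · haveI := (Nat.card_eq_one_iff_unique.mp (hG.trans (pow_zero 2))).1
      exact ⟨⟨fun a b => Subsingleton.elim _ _⟩⟩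
    · haveI := isCyclic_of_prime_card (hG.trans (pow_one 2))
      exact IsCyclic.isMulCommutative
    · exact IsPGroup.isMulCommutative_of_card_eq_prime_sq hG
  constructor
  · exact class_of_selfCentralizing hna n hn hG
  · intro hl H hH
    have hP := IsPGroup.of_card hG
    haveI := hP.isNilpotent
    refine selfCentralizing_of_maximalClass n hn hG (le_antisymm
      (Lib.PLemmas.nilpotencyClass_le hP hG (by omega)) ?_) hna H hH
    by_contra hlt
    exact hl (Subgroup.lowerCentralSeries_eq_bot_iff_nilpotencyClass_le.mpr (by omega))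

end Cfsg.Agent.S3919
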