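import Cfsg.Statements.S3920
import Mathlib
-- import your own Cfsg.Agent.* helpers here

set_option autoImplicit false
open Cfsg

namespace Cfsg.Agent.S3920

open DihedralGroup

/-- The dihedral subgroup dihSub an additive subgroup of `ZMod n`. -/
def dihSub {n : ℕ} (I : AddSubgroup (ZMod n)) : Subgroup (DihedralGroup n) where
  carrier := {g | match g with | .r i => i ∈ I | .sr i => i ∈ I}
  one_mem' := by show (0 : ZMod n) ∈ I; exact I.zero_mem
  mul_mem' := by
    rintro (a | a) (b | b) ha hb <;> simp only [Set.mem_setOf_eq] at ha hb ⊢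
    · show a + b ∈ I; exact I.add_mem ha hb
    · show b - a ∈ I; exact I.sub_mem hb ha
    · show a + b ∈ I; exact I.add_mem ha hb
    · show b - a ∈ I; exact I.sub_mem hb ha
  inv_mem' := by
    rintro (a | a) ha
    · show -a ∈ I; exact I.neg_mem ha
    · exact ha

theorem exists_reflection {n : ℕ} (H : Subgroup (DihedralGroup n)) (hH : ¬ IsCyclic H) :
    ∃ i j : ZMod n, j ≠ 0 ∧ sr i ∈ H ∧ r j ∈ H := by
  by_cases h1 : ∃ i, sr i ∈ H
  · obtain ⟨i, hi⟩ := h1
    by_cases h2 : ∃ j : ZMod n, j ≠ 0 ∧ r j ∈ H
    · obtain ⟨j, hj, hjH⟩ := h2; exact ⟨i, j, hj, hi, hjH⟩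
    · exfalso
      push Not at h2
      refine hH ?_
      have : H = Subgroup.zpowers (sr i) := by
        refine le_antisymm ?_ (Subgroup.zpowers_le.mpr hi)
        rintro (a | a) ha
        · have : a = 0 := by_contra fun h => h2 a h ha
          subst this; exact one_mem _
        · have h3 := H.mul_mem hi ha
          rw [sr_mul_sr] at h3
          have : a - i = 0 := by_contra fun h => h2 _ h h3
          rw [sub_eq_zero] at this; subst this; exact Subgroup.mem_zpowers _
      rw [this]; infer_instance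
  · exfalso
    push Not at h1
    refine hH ?_
    have hle : H ≤ Subgroup.zpowers (r 1) := by
      rintro (a | a) ha
      · refine ⟨(ZMod.cast a : ℤ), ?_⟩
        simp [r_one_zpow]
      · exact absurd ha (h1 a)
    exact isCyclic_of_injective (Subgroup.inclusion hle) (Subgroup.inclusion_injective hle)


/-- Say that a group has self-centralizing non-cyclic subgroups when every non-cyclic subgroup H satisfies C_G(H) ≤ H. For n ≥ 3, the dihedral group of order 2n has self-centralizing non-cyclic subgroups if and only if n is odd or a power of 2. -/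
theorem result (n : ℕ) (hn : 3 ≤ n) : (∀ H : Subgroup (DihedralGroup n), ¬ IsCyclic ↥H → Subgroup.centralizer (H : Set (DihedralGroup n)) ≤ H) ↔ (Odd n ∨ ∃ k : ℕ, n = 2 ^ k) := by
  haveI : NeZero n := ⟨by omega⟩
  constructor
  · intro h
    rcases Nat.even_or_odd n with hev | ho
    swap
    · exact Or.inl ho
    right
    obtain ⟨a, m, hm, hnm⟩ := Nat.exists_eq_two_pow_mul_odd (show n ≠ 0 by omega)
    by_cases hm1 : m = 1
    · exact ⟨a, by rw [hnm, hm1, mul_one]⟩
    exfalso
    have hm3 : 3 ≤ m := by rcases hm with ⟨c, hc⟩; omega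
    obtain ⟨b, rfl⟩ : ∃ b, a = b + 1 := by
      refine ⟨a - 1, ?_⟩
      rcases Nat.eq_zero_or_pos a with rfl | ha
      · simp at hnm; subst hnm; exact absurd hev (Nat.not_even_iff_odd.mpr hm)
      · omega
    have hdvd : 2 ^ (b + 1) ∣ n := ⟨m, hnm⟩
    let φ := ZMod.castHom hdvd (ZMod (2 ^ (b + 1)))
    set H := dihSub φ.toAddMonoidHom.ker with hH
    have hd : r ((2 ^ (b + 1) : ℕ) : ZMod n) ∈ H := by
      show φ _ = 0
      rw [map_natCast, ZMod.natCast_self]
    have hs : sr (0 : ZMod n) ∈ H := map_zero φ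
    have hnc : ¬ IsCyclic H := by
      intro hc
      haveI := IsCyclic.isMulCommutative (α := H)
      have h3 := congrArg Subtype.val
        (Std.Commutative.comm (op := ((· * ·) : H → H → H)) ⟨_, hd⟩ ⟨_, hs⟩)
      simp only [Subgroup.coe_mul, r_mul_sr, sr_mul_r, DihedralGroup.sr.injEq, zero_sub, zero_add] at h3
      rw [neg_eq_iff_add_eq_zero, ← Nat.cast_add, ZMod.natCast_eq_zero_iff] at h3
      have h4 := Nat.le_of_dvd (by positivity) h3
      have h5 : 2 ^ (b + 1) * 3 ≤ n := hnm ▸ Nat.mul_le_mul_left _ hm3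
      have h6 : 0 < 2 ^ (b + 1) := pow_pos two_pos _
      omega
    have hz : r ((2 ^ b * m : ℕ) : ZMod n) ∈ Subgroup.centralizer (H : Set (DihedralGroup n)) := by
      have e : ((2 ^ b * m : ℕ) : ZMod n) + ((2 ^ b * m : ℕ) : ZMod n) = 0 := by
        rw [← Nat.cast_add, ZMod.natCast_eq_zero_iff]
        exact ⟨1, by rw [hnm]; ring⟩
      refine Subgroup.mem_centralizer_iff.mpr ?_
      rintro (c | c) -
      · rw [r_mul_r, r_mul_r, add_comm]
      · rw [r_mul_sr, sr_mul_r]
        congr 1
        rw [sub_eq_add_neg, neg_eq_of_add_eq_zero_left e]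
    have hmem : φ ((2 ^ b * m : ℕ) : ZMod n) = 0 := h H hnc hz
    rw [map_natCast, ZMod.natCast_eq_zero_iff, pow_succ] at hmem
    have h7 := Nat.dvd_of_mul_dvd_mul_left (pow_pos two_pos b) hmem
    rcases hm with ⟨c, hc⟩; omega
  · intro h H hH c hc
    obtain ⟨i, j, hj, hi, hjH⟩ := exists_reflection H hH
    have hcomm := Subgroup.mem_centralizer_iff.mp hc _ hi
    -- a solution of `x + x = 0` is a rotation of `H`
    have key : ∀ x : ZMod n, x + x = 0 → r x ∈ H := by
      intro x hx
      by_cases hx0 : x = 0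
      · subst hx0; exact one_mem H
      have huniq : ∀ y : ZMod n, y + y = 0 → y ≠ 0 → n = 2 * y.val := by
        intro y hy hy0
        have h1 : n ∣ 2 * y.val := by
          rw [← ZMod.natCast_eq_zero_iff, Nat.cast_mul, ZMod.natCast_zmod_val, Nat.cast_two, two_mul, hy]
        obtain ⟨q, hq⟩ := h1
        have h2 := y.val_lt
        have h3 : y.val ≠ 0 := (ZMod.val_ne_zero y).mpr hy0
        rcases q with _ | _ | q
        · omega
        · omega
        · have : n * 2 ≤ n * (q + 1 + 1) := Nat.mul_le_mul_left n (by omega)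
          omega
      rcases h with ho | ⟨k, rfl⟩
      · have := huniq x hx hx0
        rcases ho with ⟨e, he⟩; omega
      · have ho : addOrderOf j ∣ 2 ^ k := addOrderOf_dvd_iff_nsmul_eq_zero.mpr (by
          rw [nsmul_eq_mul, ZMod.natCast_self, zero_mul])
        obtain ⟨t, -, ht⟩ := (Nat.dvd_prime_pow Nat.prime_two).mp ho
        rcases t with _ | t
        · exact absurd (AddMonoid.addOrderOf_eq_one_iff.mp (by simpa using ht)) hj
        have hy : 2 ^ t • j + 2 ^ t • j = 0 := by
          rw [← add_nsmul, show 2 ^ t + 2 ^ t = addOrderOf j by rw [ht, pow_succ]; ring]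
          exact addOrderOf_nsmul_eq_zero j
        have hy0 : (2 ^ t • j : ZMod (2 ^ k)) ≠ 0 := fun h0 => by
          have := Nat.le_of_dvd (pow_pos two_pos t) (addOrderOf_dvd_iff_nsmul_eq_zero.mpr h0)
          rw [ht] at this
          exact absurd this (not_le.mpr (Nat.pow_lt_pow_right (by norm_num) (Nat.lt_succ_self t)))
        have hxy : x = 2 ^ t • j := ZMod.val_injective _ (by
          have a := huniq x hx hx0
          have b := huniq _ hy hy0
          omega)
        have hp := H.pow_mem hjH (2 ^ t)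
        rw [r_pow] at hp
        rw [hxy, nsmul_eq_mul, mul_comm]
        exact hp
    rcases c with x | x
    · rw [sr_mul_r, r_mul_sr, DihedralGroup.sr.injEq] at hcomm
      exact key x (by linear_combination hcomm)
    · rw [sr_mul_sr, sr_mul_sr, DihedralGroup.r.injEq] at hcomm
      have h2 := key (x - i) (by linear_combination hcomm)
      have h3 := H.mul_mem hi h2
      rwa [sr_mul_r, add_sub_cancel] at h3

end Cfsg.Agent.S3920
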