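import Cfsg.Statements.S3922
import Cfsg.Agent.Lib.ThreeSizes.CaseOne
import Cfsg.Agent.Lib.ThreeSizes.Monochrome

set_option autoImplicit false
open Cfsg

namespace Cfsg.Agent.S3922

/-- A finite group whose conjugacy classes have exactly three distinct sizes (1 and two further values) is solvable. -/
theorem result {G : Type*} [Group G] [Finite G] (n₁ n₂ : ℕ) (h12 : n₂ < n₁) (h2 : 1 < n₂)
    (h : ∀ x : G, (Subgroup.centralizer ({x} : Set G)).index = 1 ∨ (Subgroup.centralizer ({x} : Set G)).index = n₂ ∨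
      (Subgroup.centralizer ({x} : Set G)).index = n₁)
    (h₁ : ∃ x : G, (Subgroup.centralizer ({x} : Set G)).index = n₁) (h₂ : ∃ x : G, (Subgroup.centralizer ({x} : Set G)).index = n₂) :
    Group.IsSolvable G := by
  have hs : Lib.ThreeSizes.Sizes G n₂ n₁ := fun x hx =>
    (h x).resolve_left fun e => hx (Lib.ClassSizeTop.idx_eq_one_iff.1 e)
  have hne : ∀ (x : G) (k : ℕ), 1 < k → (Subgroup.centralizer ({x} : Set G)).index = k →
      x ∉ Subgroup.center G := fun x k hk hx hc => by
    have h3 : (Subgroup.centralizer ({x} : Set G)).index = 1 :=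
      Lib.ClassSizeTop.idx_eq_one_iff.2 hc
    omega
  by_cases hd : n₂ ∣ n₁
  · obtain ⟨m, rfl⟩ := hd
    have hm : 1 < m := by
      by_contra hm
      have := Nat.mul_le_mul_left n₂ (Nat.le_of_not_lt hm)
      omega
    exact Lib.ThreeSizes.solvable_caseTwo h2 hm hs h₂
  · obtain ⟨x, hx⟩ := h₂
    obtain ⟨y, hy⟩ := h₁
    exact Lib.ThreeSizes.solvable_caseOne hs hd
      (fun hd' => absurd (Nat.le_of_dvd (by omega) hd') (by omega))
      ⟨x, hne x n₂ h2 hx, hx⟩ ⟨y, hne y n₁ (h2.trans h12) hy, hy⟩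

end Cfsg.Agent.S3922
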