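import Cfsg.Statements.S3933
import Cfsg.Agent.Lib.SylowNumber.Small
import Cfsg.Agent.Lib.Burnside.Paqb

set_option autoImplicit false
set_option linter.style.haveILetI false
open Cfsg

namespace Cfsg.Agent.S3933

open Subgroup
open Cfsg.Agent.Lib

universe u

variable {G : Type u} [Group G] [Finite G]

/-- If `L ≥ U` has index prime to `[G : N(U)]`, it contains every conjugate of `U`. -/
theorem normalClosure_le_of_coprime {U L : Subgroup G} (hUL : U ≤ L)
    (hco : (normalizer (U : Set G)).index.Coprime L.index) (g : G) :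
    ∀ x ∈ U, g * x * g⁻¹ ∈ L := by
  set N := normalizer (U : Set G) with hN
  let f : L ⧸ N.subgroupOf L → G ⧸ N := Quotient.map' (fun l => (l : G)) (by
    intro a b hab
    rw [QuotientGroup.leftRel_apply] at hab ⊢
    simpa [mem_subgroupOf] using hab)
  have hinj : Function.Injective f := by
    rintro ⟨a⟩ ⟨b⟩ hab
    refine Quotient.sound' ?_
    have h1 := Quotient.exact' hab
    rw [QuotientGroup.leftRel_apply] at h1 ⊢
    simpa [mem_subgroupOf] using h1
  have hle : N.relIndex L ≤ N.index := by
    simpa [relIndex, index_eq_card] using Nat.card_le_card_of_injective f hinj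
  have hdvd : N.index ∣ N.relIndex L := by
    have h1 : N.relIndex L * L.index = (N ⊓ L).index := by
      rw [← inf_relIndex_right, relIndex_mul_index inf_le_right]
    exact hco.dvd_of_dvd_mul_right (h1 ▸ index_dvd_of_le inf_le_left)
  have heq : N.relIndex L = N.index :=
    le_antisymm hle (Nat.le_of_dvd (Nat.pos_of_ne_zero index_ne_zero_of_finite) hdvd)
  have hbij : Function.Bijective f :=
    (Nat.bijective_iff_injective_and_card f).2
      ⟨hinj, by simpa [relIndex, index_eq_card] using heq⟩
  obtain ⟨⟨l⟩, hl⟩ := hbij.2 (g : G ⧸ N)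
  have hm : (l : G)⁻¹ * g ∈ N := QuotientGroup.eq.1 hl
  intro x hx
  have h2 : ((l : G)⁻¹ * g) * x * ((l : G)⁻¹ * g)⁻¹ ∈ L := hUL ((mem_normalizer_iff.1 hm x).1 hx)
  have h3 := mul_mem (mul_mem l.2 h2) (inv_mem l.2)
  simpa [mul_assoc] using h3

theorem not_simple_of_primePow_sylow [IsSimpleGroup G] (hG : ¬ IsMulCommutative G)
    (h : ∀ (r : ℕ) [Fact r.Prime], ∃ q k : ℕ, q.Prime ∧ Nat.card (Sylow r G) = q ^ k) : False := by
  classical
  set S := (Nat.card G).primeFactors with hS
  have hmem : ∀ r ∈ S, r.Prime ∧ r ∣ Nat.card G := fun r hr =>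
    ⟨Nat.prime_of_mem_primeFactors hr, Nat.dvd_of_mem_primeFactors hr⟩
  -- the prime behind each Sylow number
  have hf : ∀ r ∈ S, ∃ q k : ℕ, q ∈ S ∧ q ≠ r ∧ k ≠ 0 ∧ ∃ P : Subgroup G,
      ¬ r ∣ P.index ∧ P ≠ ⊥ ∧ IsPGroup r P ∧ (normalizer (P : Set G)).index = q ^ k := by
    intro r hr
    haveI := Fact.mk (hmem r hr).1
    obtain ⟨q, k, hq, hqk⟩ := h r
    let P : Sylow r G := default
    have hidx : (normalizer ((P : Subgroup G) : Set G)).index = q ^ k :=
      (SylowNumber.card_sylow_eq_index P).symm.trans hqk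
    have hk : k ≠ 0 := by
      rintro rfl
      rw [pow_zero, index_eq_one] at hidx
      exact SmallGroups.normalizer_sylow_ne_top hG (hmem r hr).2 P hidx
    refine ⟨q, k, ?_, ?_, hk, P, P.not_dvd_index, P.ne_bot_of_dvd_card (hmem r hr).2, P.2, hidx⟩
    · exact Nat.mem_primeFactors.2 ⟨hq, (dvd_pow_self q hk).trans
        (hidx ▸ index_dvd_card _), Nat.card_pos.ne'⟩
    · rintro rfl
      have h1 : Nat.card (Sylow q G) ≡ 1 [MOD q] := card_sylow_modEq_one q G
      rw [hqk] at h1
      exact hq.not_dvd_one (((Nat.ModEq.dvd_iff h1 dvd_rfl).1 (dvd_pow_self q hk)))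
  choose! f k hfS hfne hk P hPi hPb hPp hPN using hf
  -- the basic restriction
  have key : ∀ u ∈ S, ∀ w ∈ S, f w = u ∨ f w = f u := by
    intro u hu w hw
    by_contra hne
    push Not at hne
    haveI := Fact.mk (hmem u hu).1
    set L := normalizer (P w : Set G) with hL
    obtain ⟨Q, hQ⟩ := (hPp u hu).exists_le_sylow
    have hQP : (Q : Subgroup G) = P u := by
      refine (Subgroup.eq_of_le_of_card_ge hQ ?_).symm
      obtain ⟨a, ha⟩ := (hPp u hu).exists_card_eq
      rw [Q.card_eq_multiplicity, ha]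
      refine Nat.pow_le_pow_right (hmem u hu).1.pos ?_
      have h1 := congrArg (fun n => n.factorization u) (card_mul_index (P u))
      rw [Nat.factorization_mul Nat.card_pos.ne' index_ne_zero_of_finite, Finsupp.add_apply,
        Nat.factorization_eq_zero_of_not_dvd (hPi u hu), add_zero, ha,
        (hmem u hu).1.factorization_pow, Finsupp.single_eq_same] at h1
      exact h1.ge
    have hfw : (f w).Prime := (hmem _ (hfS w hw)).1
    have hcop : ∀ r : ℕ, r.Prime → r ≠ f w → ∀ m, (r ^ m).Coprime L.index := fun r hr hr' m => by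
      rw [hL, hPN w hw]
      exact Nat.Coprime.pow _ _ ((Nat.coprime_primes hr hfw).2 hr')
    obtain ⟨R⟩ := (inferInstance : Nonempty (Sylow u L))
    obtain ⟨Q', hQ'⟩ := (R.2.map L.subtype).exists_le_sylow
    have hQL : (Q' : Subgroup G) ≤ L := by
      have hcard : Nat.card ((R : Subgroup L).map L.subtype) = Nat.card (Q' : Subgroup G) := by
        rw [Subgroup.card_map_of_injective L.subtype_injective, R.card_eq_multiplicity,
          Q'.card_eq_multiplicity, ← card_mul_index L,
          Nat.factorization_mul Nat.card_pos.ne' index_ne_zero_of_finite, Finsupp.add_apply,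
          Nat.factorization_eq_zero_of_not_dvd
            (fun hd => (hmem u hu).1.not_dvd_one (Nat.eq_one_of_dvd_coprimes
              (hcop u (hmem u hu).1 hne.1.symm 1) (dvd_of_eq (pow_one u).symm) hd ▸ dvd_rfl)),
          add_zero]
      rw [← Subgroup.eq_of_le_of_card_ge hQ' hcard.ge]
      exact map_subtype_le _
    have hidx : (normalizer ((Q' : Subgroup G) : Set G)).index = f u ^ k u := by
      rw [← hPN u hu, ← hQP, ← SylowNumber.card_sylow_eq_index, ← SylowNumber.card_sylow_eq_index]
    have hclose := normalClosure_le_of_coprime hQL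
      (hidx ▸ hcop _ (hmem _ (hfS u hu)).1 hne.2.symm _)
    have hne' : L ≠ ⊤ := fun e => by
      have h1 := hPN w hw
      rw [← hL, e, index_top] at h1
      exact (one_lt_pow₀ hfw.one_lt (hk w hw)).ne h1
    have hle : Subgroup.normalClosure ((Q' : Subgroup G) : Set G) ≤ L := by
      refine (Subgroup.closure_le _).2 fun y hy => ?_
      obtain ⟨x, hx, hxy⟩ := Group.mem_conjugatesOfSet_iff.1 hy
      obtain ⟨g, rfl⟩ := isConj_iff.1 hxy
      exact hclose g x hx
    rcases (Subgroup.normalClosure_normal (s := ((Q' : Subgroup G) : Set G))).eq_bot_or_eq_top with e | e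
    · exact Q'.ne_bot_of_dvd_card (hmem u hu).2 (le_bot_iff.1 (e ▸ Subgroup.le_normalClosure))
    · exact hne' (top_le_iff.1 (e ▸ hle))
  obtain ⟨w, hw⟩ : S.Nonempty := by
    rw [hS, Nat.nonempty_primeFactors]
    exact Finite.one_lt_card
  set q := f w with hq
  have hqS : q ∈ S := hfS w hw
  by_cases hall : S ⊆ {w, q}
  · apply hG
    have hG0 : Nat.card G ≠ 0 := Nat.card_pos.ne'
    have hwq : w ≠ q := (hfne w hw).symm
    have hcard : Nat.card G = w ^ (Nat.card G).factorization w * q ^ (Nat.card G).factorization q := by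
      conv_lhs => rw [← Nat.prod_factorization_pow_eq_self hG0]
      rw [Finsupp.prod, Nat.support_factorization]
      rw [show (Nat.card G).primeFactors = {w, q} from
        le_antisymm hall (Finset.insert_subset hw (Finset.singleton_subset_iff.2 hqS)), Finset.prod_pair hwq]
    haveI := Burnside.isSolvable_of_card_eq_prime_pow_mul (hmem w hw).1 (hmem q hqS).1 hcard
    exact ⟨⟨fun a b => IsSimpleGroup.comm_iff_isSolvable.2 inferInstance a b⟩⟩
  obtain ⟨u, hu, hu'⟩ := Finset.not_subset.1 hall
  simp only [Finset.mem_insert, Finset.mem_singleton, not_or] at hu'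
  have hfu : f u = q := ((key u hu w hw).resolve_left (fun e => hu'.2 e.symm)).symm
  have e1 : f q = w := (key w hw q hqS).resolve_right (hfne q hqS)
  have e2 : f q = u := (key u hu q hqS).resolve_right (fun e => hfne q hqS (e.trans hfu))
  exact hu'.1 (e2 ▸ e1)

theorem isSolvable_of_primePow_sylow {G : Type u} [Group G] [Finite G]
    (h : ∀ (r : ℕ) [Fact r.Prime], ∃ q k : ℕ, q.Prime ∧ Nat.card (Sylow r G) = q ^ k) :
    Group.IsSolvable G := by
  induction hN : Nat.card G using Nat.strong_induction_on generalizing G with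
  | _ N ih =>
    subst hN
    rcases subsingleton_or_nontrivial G with hG | hG
    · exact isSolvable_of_comm fun a b => Subsingleton.elim _ _
    by_cases hs : IsSimpleGroup G
    · by_cases hc : IsMulCommutative G
      · exact isSolvable_of_comm fun a b => hc.1.comm a b
      · exact (not_simple_of_primePow_sylow hc h).elim
    obtain ⟨K, hK, hKb, hKt⟩ : ∃ K : Subgroup G, K.Normal ∧ K ≠ ⊥ ∧ K ≠ ⊤ := by
      by_contra hc
      push Not at hc
      exact hs ⟨fun K hK => or_iff_not_imp_left.2 (hc K hK)⟩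
    have hdiv : ∀ (r : ℕ) [Fact r.Prime], Nat.card (Sylow r K) ∣ Nat.card (Sylow r G) ∧
        Nat.card (Sylow r (G ⧸ K)) ∣ Nat.card (Sylow r G) := by
      intro r _
      let P : Sylow r G := default
      set N := ((P : Subgroup G) ⊔ K) ⊓ normalizer (((P : Subgroup G) ⊓ K : Subgroup G) : Set G) with hN
      haveI : (((P : Subgroup G) ⊓ K).subgroupOf N).Normal :=
        Subgroup.normal_subgroupOf_of_le_normalizer inf_le_right
      have hf := SylowNumber.card_sylow_product_formula K P N rfl
      exact ⟨hf ▸ dvd_mul_of_dvd_left (dvd_mul_left _ _) _,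
        hf ▸ dvd_mul_of_dvd_left (dvd_mul_right _ _) _⟩
    have hKlt : Nat.card K < Nat.card G :=
      lt_of_le_of_ne (card_le_card_group K) fun e => hKt (eq_top_of_card_eq K e)
    have hQlt : Nat.card (G ⧸ K) < Nat.card G := by
      rw [← index_eq_card, ← card_mul_index K]
      exact lt_mul_of_one_lt_left (Nat.pos_of_ne_zero index_ne_zero_of_finite)
        ((one_lt_card_iff_ne_bot K).2 hKb)
    haveI := ih _ hKlt (fun r _ => by
      obtain ⟨q, j, hq, hj⟩ := h r
      obtain ⟨i, -, hi⟩ := (Nat.dvd_prime_pow hq).1 (hj ▸ (hdiv r).1)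
      exact ⟨q, i, hq, hi⟩) rfl
    haveI := ih _ hQlt (fun r _ => by
      obtain ⟨q, j, hq, hj⟩ := h r
      obtain ⟨i, -, hi⟩ := (Nat.dvd_prime_pow hq).1 (hj ▸ (hdiv r).2)
      exact ⟨q, i, hq, hi⟩) rfl
    exact Group.isSolvable_of_ker_le_range K.subtype (QuotientGroup.mk' K)
      (by rw [QuotientGroup.ker_mk', Subgroup.range_subtype])

/-- If for every prime r the number of Sylow r-subgroups of the finite group G is a prime power or 1, then G is solvable. -/
theorem result {G : Type*} [Group G] [Finite G] (h : ∀ (r : ℕ) [Fact r.Prime], Nat.card (Sylow r G) = 1 ∨ IsPrimePow (Nat.card (Sylow r G))) :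
    Group.IsSolvable G := by
  exact isSolvable_of_primePow_sylow fun r _ => by
    rcases h r with h1 | h1
    · exact ⟨2, 0, Nat.prime_two, h1⟩
    · obtain ⟨q, k, hq, -, hk⟩ := h1
      exact ⟨q, k, hq.nat_prime, hk.symm⟩

end Cfsg.Agent.S3933
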