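import Cfsg.Statements.S3941
import Mathlib
-- import your own Cfsg.Agent.* helpers here

set_option autoImplicit false
open Cfsg

namespace Cfsg.Agent.S3941

open Equiv

theorem two_dvd_card {m : ℕ} (hm : 4 ≤ m) : 2 ∣ Nat.card (alternatingGroup (Fin m)) := by
  haveI : Nontrivial (Fin m) := Fin.nontrivial_iff_two_le.mpr (by omega)
  have h := two_mul_nat_card_alternatingGroup (α := Fin m)
  rw [Nat.card_perm, Nat.card_fin] at h
  have h4 : 4 ∣ m.factorial := by
    have h24 : (4 : ℕ).factorial ∣ m.factorial := Nat.factorial_dvd_factorial hm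
    exact dvd_trans (by norm_num [Nat.factorial]) h24
  omega

theorem dvd_card {m p : ℕ} [Fact p.Prime] (hp : p ≠ 2) (hm : 4 ≤ m) (hpm : p ≤ m) :
    p ∣ Nat.card (alternatingGroup (Fin m)) := by
  haveI : Nontrivial (Fin m) := Fin.nontrivial_iff_two_le.mpr (by omega)
  have hpp : p.Prime := Fact.out
  have h1 : p ∣ m.factorial := hpp.dvd_factorial.mpr hpm
  have h := two_mul_nat_card_alternatingGroup (α := Fin m)
  rw [Nat.card_perm, Nat.card_fin] at h
  rw [← h] at h1
  exact (hpp.dvd_mul.mp h1).resolve_left fun h2 =>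
    hp ((Nat.prime_dvd_prime_iff_eq hpp Nat.prime_two).mp h2)

/-- No normal `p`-subgroup of index prime to `p`. -/
theorem not_normal_sylow {m p : ℕ} [Fact p.Prime] (hp : p ≠ 2) (hm : 4 ≤ m) (hpm : p ≤ m)
    (N : Subgroup (alternatingGroup (Fin m))) [hN : N.Normal] (hpN : IsPGroup p N)
    (hidx : ¬ p ∣ N.index) : False := by
  have hpp : p.Prime := Fact.out
  by_cases h5 : 5 ≤ m
  · haveI := alternatingGroup.isSimpleGroup (α := Fin m) (by simpa using h5)
    rcases hN.eq_bot_or_eq_top with h | h
    · subst h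
      rw [Subgroup.index_bot] at hidx
      exact hidx (dvd_card hp hm hpm)
    · subst h
      obtain ⟨k, hk⟩ := IsPGroup.iff_card.mp hpN
      rw [Subgroup.card_top] at hk
      have h2 := two_dvd_card hm
      rw [hk] at h2
      exact hp ((Nat.prime_dvd_prime_iff_eq Nat.prime_two hpp).mp (Nat.prime_two.dvd_of_dvd_pow h2)).symm
  · obtain rfl : m = 4 := by omega
    obtain rfl : p = 3 := by
      have h2 := hpp.two_le
      interval_cases p
      · omega
      · rfl
      · exact absurd hpp (by norm_num)
    have hmem : ∀ g : alternatingGroup (Fin 4), g ^ 3 = 1 → g ∈ N := by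
      intro g hg
      rw [← QuotientGroup.eq_one_iff, ← orderOf_eq_one_iff]
      have h1 : orderOf (g : alternatingGroup (Fin 4) ⧸ N) ∣ 3 :=
        orderOf_dvd_of_pow_eq_one (by rw [← QuotientGroup.mk_pow, hg, QuotientGroup.mk_one])
      rcases (Nat.dvd_prime hpp).mp h1 with h | h
      · exact h
      · exfalso
        apply hidx
        rw [Subgroup.index_eq_card, ← h]
        exact orderOf_dvd_natCard _
    let a : alternatingGroup (Fin 4) := ⟨swap 0 1 * swap 1 2, by simp [Perm.mem_alternatingGroup]⟩
    let b : alternatingGroup (Fin 4) := ⟨swap 0 1 * swap 1 3, by simp [Perm.mem_alternatingGroup]⟩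
    have ha : a ^ 3 = 1 := Subtype.ext (by simp only [a]; decide)
    have hb : b ^ 3 = 1 := Subtype.ext (by simp only [b]; decide)
    have hab2 : (a * b) ^ 2 = 1 := Subtype.ext (by simp only [a, b]; decide)
    have hab1 : a * b ≠ 1 := fun h => absurd (congrArg Subtype.val h) (by simp only [a, b]; decide)
    obtain ⟨k, hk⟩ := hpN ⟨a * b, N.mul_mem (hmem a ha) (hmem b hb)⟩
    have h3 : (a * b) ^ 3 ^ k = 1 := congrArg Subtype.val hk
    apply hab1
    rw [← orderOf_eq_one_iff]
    exact Nat.dvd_one.mp ((Nat.Coprime.pow_right k (by norm_num : Nat.Coprime 2 3)) ▸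
      Nat.dvd_gcd (orderOf_dvd_of_pow_eq_one hab2) (orderOf_dvd_of_pow_eq_one h3))


/-- Let n ≥ 5 and p an odd prime with p ≤ n, and suppose that every proper subgroup of the alternating group of degree n whose order is divisible by p has a normal Sylow p-subgroup. Then n = p. -/
theorem result (n p : ℕ) (hn : 5 ≤ n) [Fact p.Prime] (hp : p ≠ 2) (hpn : p ≤ n)
    (h : ∀ H : Subgroup ↥(alternatingGroup (Fin n)), H ≠ ⊤ → p ∣ Nat.card ↥H → Cfsg.IsPClosed p ↥H) : n = p := by
  by_contra hne
  obtain ⟨m, rfl⟩ : ∃ m, n = m + 1 := ⟨n - 1, by omega⟩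
  haveI : Nontrivial (Fin (m + 1)) := Fin.nontrivial_iff_two_le.mpr (by omega)
  haveI : Nontrivial (Fin m) := Fin.nontrivial_iff_two_le.mpr (by omega)
  let ι : Fin m ↪ Fin (m + 1) := Fin.castSuccEmb
  let φ : alternatingGroup (Fin m) →* alternatingGroup (Fin (m + 1)) :=
    ((Equiv.Perm.viaEmbeddingHom ι).comp (alternatingGroup (Fin m)).subtype).codRestrict _ fun g => by
      show Equiv.Perm.sign (Equiv.Perm.viaEmbeddingHom ι g.1) = 1
      rw [Equiv.Perm.viaEmbeddingHom_apply, Equiv.Perm.viaEmbedding, Equiv.Perm.sign_extendDomain]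
      exact g.2
  have hinj : Function.Injective φ := fun a b hab => Subtype.ext
    (Equiv.Perm.viaEmbeddingHom_injective ι (congrArg Subtype.val hab))
  have e := MonoidHom.ofInjective hinj
  have hcard : Nat.card φ.range = Nat.card (alternatingGroup (Fin m)) := (Nat.card_congr e.toEquiv).symm
  have htop : φ.range ≠ ⊤ := by
    intro htop
    rw [htop, Subgroup.card_top] at hcard
    have h1 := two_mul_nat_card_alternatingGroup (α := Fin (m + 1))
    have h2 := two_mul_nat_card_alternatingGroup (α := Fin m)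
    rw [Nat.card_perm, Nat.card_fin] at h1 h2
    rw [hcard, h2, Nat.factorial_succ] at h1
    have h4 : 1 < m + 1 := by omega
    have h5 := lt_mul_left m.factorial_pos h4
    omega
  have hcl := h φ.range htop (hcard ▸ dvd_card hp (by omega) (by omega))
  let P : Sylow p φ.range := default
  haveI := hcl P
  let N : Subgroup (alternatingGroup (Fin m)) := (P : Subgroup φ.range).comap e.toMonoidHom
  haveI : N.Normal := Subgroup.normal_comap e.toMonoidHom
  refine not_normal_sylow hp (by omega) (by omega) N
    (P.2.comap_of_injective _ e.injective) ?_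
  rw [Subgroup.index_comap_of_surjective _ e.surjective]
  exact P.not_dvd_index

end Cfsg.Agent.S3941
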