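import Cfsg.Statements.S3946
import Mathlib
import Cfsg.Agent.S4249

/-!
Kegel: a group with a splitting automorphism of prime order is nilpotent. In the semidirect
product all elements outside the base group have prime order, so this is Hughes--Thompson.
-/

set_option autoImplicit false
open Cfsg

namespace Cfsg.Agent.S3946

/-- `(x a)^n` in the semidirect product is the twisted product times `a^n`. -/
theorem mul_pow_eq {G : Type*} [Group G] (α : MulAut G) (A : Subgroup (MulAut G)) (hα : α ∈ A)
    (x : G) (n : ℕ) :
    ((SemidirectProduct.inl x : G ⋊[A.subtype] A) * SemidirectProduct.inr ⟨α, hα⟩) ^ n =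
      SemidirectProduct.inl ((List.range n).map (fun i : ℕ => (α ^ i) x)).prod *
        SemidirectProduct.inr ⟨α, hα⟩ ^ n := by
  induction n with
  | zero => simp
  | succ n ih =>
    rw [pow_succ, ih, List.range_succ, List.map_append, List.prod_append]
    simp only [List.map_cons, List.map_nil, List.prod_cons, List.prod_nil, mul_one, map_mul]
    have h := SemidirectProduct.inl_aut (φ := A.subtype) ((⟨α, hα⟩ : A) ^ n) x
    simp only [map_pow, Subgroup.coe_subtype, map_inv] at h
    rw [pow_succ, h]
    group

/-- Call an automorphism α of order n of a group G splitting when x · α(x) · α²(x) ⋯ α^(n−1)(x) = 1 for every x ∈ G. A finite group admitting a splitting automorphism of prime order is nilpotent (this contains the case of a fixed-point-free automorphism of prime order). -/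
theorem result {G : Type*} [Group G] [Finite G] (α : MulAut G) (hp : (orderOf α).Prime)
    (hsplit : ∀ x : G, (((List.range (orderOf α)).map (fun i : ℕ => (α ^ i) x)).prod = 1)) : Group.IsNilpotent G := by
  haveI := Fact.mk hp
  set p := orderOf α with hpdef
  set A : Subgroup (MulAut G) := Subgroup.zpowers α with hA
  haveI : Finite (MulAut G) :=
    Finite.of_injective (fun e : MulAut G => (⇑e : G → G)) DFunLike.coe_injective
  haveI : Finite (G ⋊[A.subtype] A) := Finite.of_equiv _ SemidirectProduct.equivProd.symm
  set H : Subgroup (G ⋊[A.subtype] A) := (SemidirectProduct.inl : G →* G ⋊[A.subtype] A).range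
    with hH
  have hmem : ∀ g : G ⋊[A.subtype] A, g ∈ H ↔ g.right = 1 := by
    intro g
    rw [hH, SemidirectProduct.range_inl_eq_ker_rightHom]
    rfl
  let a : A := ⟨α, Subgroup.mem_zpowers α⟩
  have ha : orderOf a = p := by rw [← Subgroup.orderOf_coe]
  have hone : ∀ y : G, ((SemidirectProduct.inl y : G ⋊[A.subtype] A) *
      SemidirectProduct.inr a) ^ p = 1 := by
    intro y
    rw [mul_pow_eq, hsplit, map_one, one_mul, ← map_pow, ← ha, pow_orderOf_eq_one, map_one]
  have key : ∀ g : G ⋊[A.subtype] A, g ∉ H → g ^ p = 1 := by
    intro g hg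
    rw [hmem] at hg
    obtain ⟨j, hj⟩ : ∃ j : ℕ, a ^ j = g.right := by
      obtain ⟨k, hk⟩ := g.right.2
      refine ⟨(k % (p : ℤ)).toNat, Subtype.ext ?_⟩
      rw [Subgroup.coe_pow, ← zpow_natCast,
        Int.toNat_of_nonneg (Int.emod_nonneg _ (by exact_mod_cast hp.ne_zero)), hpdef,
        zpow_mod_orderOf]
      exact hk
    have hjp : j.Coprime p := by
      refine (hp.coprime_iff_not_dvd.mpr fun hd => hg ?_).symm
      obtain ⟨c, rfl⟩ := hd
      rw [← hj, pow_mul, ← ha, pow_orderOf_eq_one, one_pow]
    obtain ⟨s, -, hs⟩ := Nat.exists_mul_mod_eq_one_of_coprime hjp hp.one_lt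
    let f : G → G := fun y =>
      (((SemidirectProduct.inl y : G ⋊[A.subtype] A) * SemidirectProduct.inr a) ^ j).left
    have hright : ∀ y : G,
        (((SemidirectProduct.inl y : G ⋊[A.subtype] A) * SemidirectProduct.inr a) ^ j).right =
          a ^ j := fun y => by
      change SemidirectProduct.rightHom _ = _
      rw [map_pow, map_mul, SemidirectProduct.rightHom_inl, SemidirectProduct.rightHom_inr, one_mul]
    have hinj : Function.Injective f := by
      intro y y' h
      have h2 := congrArg (· ^ s)
        (SemidirectProduct.ext h ((hright y).trans (hright y').symm))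
      simp only [← pow_mul] at h2
      rw [pow_eq_pow_mod (j * s) (hone y), pow_eq_pow_mod (j * s) (hone y'), hs, pow_one,
        pow_one] at h2
      exact SemidirectProduct.inl_injective (mul_right_cancel h2)
    obtain ⟨y, hy⟩ := (Finite.injective_iff_surjective.mp hinj) g.left
    have hgy : g = ((SemidirectProduct.inl y : G ⋊[A.subtype] A) * SemidirectProduct.inr a) ^ j :=
      SemidirectProduct.ext hy.symm (by rw [hright, hj])
    rw [hgy, ← pow_mul, mul_comm, pow_mul, hone, one_pow]
  have hne : H ≠ ⊤ := by
    intro h
    have h1 : (SemidirectProduct.inr a : G ⋊[A.subtype] A) ∈ H := h ▸ Subgroup.mem_top _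
    rw [hmem, SemidirectProduct.right_inr] at h1
    rw [h1, orderOf_one] at ha
    exact hp.ne_one ha.symm
  haveI : H.Normal := by
    rw [hH, SemidirectProduct.range_inl_eq_ker_rightHom]
    infer_instance
  haveI : Group.IsNilpotent H := S4249.main (p := p) _ _ rfl H inferInstance hne key
  exact Group.nilpotent_of_mulEquiv
    (MonoidHom.ofInjective (SemidirectProduct.inl_injective (φ := A.subtype))).symm

end Cfsg.Agent.S3946
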