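import Cfsg.Statements.S3949
import Mathlib

set_option autoImplicit false
open Cfsg

namespace Cfsg.Agent.S3949

/-- Let G be a finite group and α an automorphism of G of order 2 such that the elements g·α(g)⁻¹ generate G. Let j be a positive integer such that 2^j divides the order of no element inverted by α. Then the set of values of the j-th iterate of the map c ↦ c·α(c)⁻¹ is exactly the set of elements of odd order inverted by α. -/
theorem result {G : Type*} [Group G] [Finite G] (α : MulAut G) (hα : orderOf α = 2) (hG : Subgroup.closure (Set.range (fun c : G => c * (α c)⁻¹)) = ⊤)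
    (j : ℕ) (hj : ∀ g : G, α g = g⁻¹ → ¬ 2 ^ j ∣ orderOf g) :
    Set.range ((fun c : G => c * (α c)⁻¹)^[j]) = {g : G | Odd (orderOf g) ∧ α g = g⁻¹} := by
  have hinv : ∀ c : G, α (α c) = c := fun c => by
    have h := pow_orderOf_eq_one α
    rw [hα, pow_two] at h
    exact DFunLike.congr_fun h c
  set f : G → G := fun c => c * (α c)⁻¹ with hf
  have hfinv : ∀ c, α (f c) = (f c)⁻¹ := fun c => by simp [hf, hinv]
  have hiter : ∀ (i : ℕ) (y : G), α y = y⁻¹ → f^[i] y = y ^ (2 ^ i) := by
    intro i
    induction i with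
    | zero => intro y _; simp
    | succ i ih =>
      intro y hy
      rw [Function.iterate_succ_apply', ih y hy, pow_succ, pow_mul]
      simp only [hf, map_pow, hy, inv_pow, inv_inv, pow_two]
  obtain ⟨i, rfl⟩ : ∃ i, j = i + 1 := by
    cases j with
    | zero => exact absurd (by simp) (hj 1 (by simp))
    | succ i => exact ⟨i, rfl⟩
  ext g
  constructor
  · rintro ⟨c, rfl⟩
    rw [Function.iterate_succ_apply, hiter i _ (hfinv c)]
    refine ⟨?_, by rw [map_pow, hfinv, inv_pow]⟩
    set o := orderOf (f c) with ho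
    have ho0 : o ≠ 0 := (orderOf_pos _).ne'
    have hle : o.factorization 2 ≤ i := by
      by_contra hlt
      refine hj (f c) (hfinv c) (Dvd.dvd.trans ?_ (Nat.ordProj_dvd o 2))
      exact Nat.pow_dvd_pow 2 (by omega)
    have hodd : Odd (o / 2 ^ o.factorization 2) := by
      rw [Nat.odd_iff, ← Nat.two_dvd_ne_zero]
      exact Nat.not_dvd_ordCompl Nat.prime_two ho0
    refine Odd.of_dvd_nat hodd (orderOf_dvd_of_pow_eq_one ?_)
    rw [← pow_mul]
    refine orderOf_dvd_iff_pow_eq_one.mp ?_
    rw [← ho]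
    calc o = 2 ^ o.factorization 2 * (o / 2 ^ o.factorization 2) :=
          (Nat.ordProj_mul_ordCompl_eq_self o 2).symm
      _ ∣ _ := Nat.mul_dvd_mul_right (Nat.pow_dvd_pow 2 hle) _
  · rintro ⟨hg, hgi⟩
    have hcop : (2 ^ (i + 1)).Coprime (orderOf g) :=
      Nat.Coprime.pow_left _ (Nat.coprime_two_left.mpr hg)
    obtain ⟨k, hk⟩ := exists_pow_eq_self_of_coprime hcop
    refine ⟨g ^ k, ?_⟩
    rw [hiter _ _ (by rw [map_pow, hgi, inv_pow]), ← pow_mul, mul_comm, pow_mul, hk]

end Cfsg.Agent.S3949
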