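import Cfsg.Statements.S3950
import Mathlib
import Cfsg.Agent.Lib.SchurExtra.Heis

set_option autoImplicit false
open Cfsg
open Cfsg.Agent.Lib.Schur
open Cfsg.Agent.Lib.SchurExtra

namespace Cfsg.Agent.S3950
open scoped commutatorElement

/-- A finite non-cyclic abelian group maps onto `ZMod p × ZMod p` for a prime `p`. -/
theorem exists_hom_sq {G : Type*} [CommGroup G] [Finite G] (hnc : ¬ IsCyclic G) :
    ∃ p : ℕ, p.Prime ∧ ∃ φ : G →* Multiplicative (ZMod p × ZMod p), Function.Surjective φ := by
  classical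
  obtain ⟨ι, _, n, hn, ⟨e⟩⟩ := CommGroup.equiv_prod_multiplicative_zmod_of_finite G
  obtain ⟨i, j, hij, hcop⟩ : ∃ i j, i ≠ j ∧ ¬ (n i).Coprime (n j) := by
    by_contra hcon
    push Not at hcon
    haveI : ∀ i, NeZero (n i) := fun i => ⟨by have := hn i; omega⟩
    apply hnc
    let f : Multiplicative (ZMod (∏ i, n i)) →* G :=
      e.symm.toMonoidHom.comp
        { toFun := fun x i => Multiplicative.ofAdd (ZMod.prodEquivPi n (fun a b h => hcon a b h) x.toAdd i)
          map_one' := by funext i; simp
          map_mul' := fun x y => by funext i; simp }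
    refine isCyclic_of_surjective f (e.symm.surjective.comp fun y => ?_)
    obtain ⟨x, hx⟩ := (ZMod.prodEquivPi n (fun a b h => hcon a b h)).surjective fun i => (y i).toAdd
    exact ⟨Multiplicative.ofAdd x, funext fun i => by simp [hx]⟩
  obtain ⟨p, hp, hpi, hpj⟩ := Nat.Prime.not_coprime_iff_dvd.mp hcop
  refine ⟨p, hp, MonoidHom.mk' (fun g => Multiplicative.ofAdd
    (ZMod.castHom hpi (ZMod p) (e g i).toAdd, ZMod.castHom hpj (ZMod p) (e g j).toAdd))
    (fun a b => by
      apply Multiplicative.toAdd.injective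
      simp only [map_mul, Pi.mul_apply, toAdd_mul, toAdd_ofAdd, map_add, Prod.mk_add_mk]), fun q => ?_⟩
  obtain ⟨a, ha⟩ := ZMod.castHom_surjective hpi q.toAdd.1
  obtain ⟨b, hb⟩ := ZMod.castHom_surjective hpj q.toAdd.2
  refine ⟨e.symm (Function.update (Function.update 1 i (Multiplicative.ofAdd a)) j
    (Multiplicative.ofAdd b)), ?_⟩
  apply Multiplicative.toAdd.injective
  simp only [MonoidHom.mk'_apply, MulEquiv.apply_symm_apply, toAdd_ofAdd, Function.update_self,
    Function.update_of_ne hij, ha, hb]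


/-- A finite abelian group has trivial Schur multiplier if and only if it is cyclic. -/
theorem result {G : Type*} [CommGroup G] [Finite G] : Cfsg.HasCyclicSchurMultiplier G 1 ↔ IsCyclic G := by
  constructor
  · intro h
    by_contra hnc
    obtain ⟨p, hp, φ, hφ⟩ := exists_hom_sq hnc
    haveI : Fact p.Prime := ⟨hp⟩
    let H := Heis p p (dvd_refl p)
    let X : Subgroup (H × G) :=
      ((Heis.proj p p (dvd_refl p)).comp (MonoidHom.fst H G)).eqLocus (φ.comp (MonoidHom.snd H G))
    let σ : X →* G := (MonoidHom.snd H G).comp X.subtype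
    have hσ : Function.Surjective σ := fun g => by
      obtain ⟨x, hx⟩ := Heis.proj_surjective (h := dvd_refl p) (φ g)
      exact ⟨⟨(x, g), hx⟩, rfl⟩
    have hc : σ.ker ≤ Subgroup.center X := by
      intro z hz
      have h1 : (z : H × G).2 = 1 := hz
      have h2 : (z : H × G).1 ∈ Subgroup.center H := Heis.ker_proj_le_center (by
        have h3 : Heis.proj p p (dvd_refl p) (z : H × G).1 = φ (z : H × G).2 := z.2
        rw [h1, map_one] at h3
        exact h3)
      rw [Subgroup.mem_center_iff]
      intro w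
      apply Subtype.ext
      exact Prod.ext (Subgroup.mem_center_iff.mp h2 _) (mul_comm _ _)
    have hbot := ker_inf_commutator_eq_bot h σ hσ hc
    obtain ⟨u, hu⟩ := hφ (Multiplicative.ofAdd ((1 : ZMod p), (0 : ZMod p)))
    obtain ⟨v, hv⟩ := hφ (Multiplicative.ofAdd ((0 : ZMod p), (1 : ZMod p)))
    let x : X := ⟨((⟨((1 : ℕ) : ZMod p), 0, 0⟩ : H), u), by
      show Heis.proj p p (dvd_refl p) _ = φ u
      rw [hu, Nat.cast_one]; rfl⟩
    let y : X := ⟨((⟨0, 1, 0⟩ : H), v), by
      show Heis.proj p p (dvd_refl p) _ = φ v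
      rw [hv]; rfl⟩
    have hmem : ⁅x, y⁆ ∈ σ.ker ⊓ commutator X := by
      refine ⟨MonoidHom.mem_ker.mpr ?_,
        Subgroup.commutator_mem_commutator (Subgroup.mem_top _) (Subgroup.mem_top _)⟩
      rw [map_commutatorElement,
        commutatorElement_eq_one_iff_mul_comm]
      exact mul_comm _ _
    rw [hbot, Subgroup.mem_bot] at hmem
    have h1 := congrArg (fun w => ((MonoidHom.fst H G).comp X.subtype) w) hmem
    simp only [map_commutatorElement, map_one] at h1
    have h2 : ⁅(⟨((1 : ℕ) : ZMod p), 0, 0⟩ : H), (⟨0, 1, 0⟩ : H)⁆ = 1 := h1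
    rw [Heis.commutator_generators] at h2
    have h3 := congrArg Heis.c h2
    simp [Heis.one_def] at h3
  · intro hcyc
    refine hasCyclicSchurMultiplier_one_of fun Y _ τ hτ hc => ?_
    haveI := hcyc
    have hcomm : commutator Y = ⊥ := by
      rw [commutator_def, Subgroup.commutator_eq_bot_iff_le_centralizer]
      intro a _
      rw [Subgroup.mem_centralizer_iff]
      intro b _
      exact commutative_of_cyclic_center_quotient τ hc b a
    rw [hcomm, inf_bot_eq]

end Cfsg.Agent.S3950
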