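import Cfsg.Statements.S3951
import Mathlib
import Cfsg.Agent.Lib.SchurExtra.Heis

set_option autoImplicit false
open Cfsg
open Cfsg.Agent.Lib.Schur
open Cfsg.Agent.Lib.SchurExtra

namespace Cfsg.Agent.S3951

/-- For positive integers `m` and `n` with `n` dividing `m`, the Schur multiplier of the abelian group `ZMod m × ZMod n` (written multiplicatively) is cyclic of order `n`. In particular the elementary abelian group of order `p ^ 2` has multiplier of order `p`. -/
theorem result (m n : ℕ) [NeZero m] [NeZero n] (hnm : n ∣ m) : Cfsg.HasCyclicSchurMultiplier (Multiplicative (ZMod m × ZMod n)) n := by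
  let A := Multiplicative (ZMod n)
  have hker : ∀ x ∈ (Heis.proj m n hnm).ker ⊓ commutator (Heis m n hnm),
      x.a = 0 ∧ x.b = 0 := fun x hx => (Heis.mem_ker_proj x).mp hx.1
  let g : ↥((Heis.proj m n hnm).ker ⊓ commutator (Heis m n hnm)) →* A :=
    { toFun := fun x => Multiplicative.ofAdd x.1.c
      map_one' := rfl
      map_mul' := fun x y => by
        show Multiplicative.ofAdd (x.1.c + y.1.c + ZMod.castHom hnm (ZMod n) x.1.a * y.1.b) = _
        rw [(hker x.1 x.2).1, map_zero, zero_mul, add_zero]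
        rfl }
  refine hasSchurMultiplier_of_bound (Heis.proj m n hnm) Heis.proj_surjective
    Heis.ker_proj_le_center g ?_ ?_
  · intro a
    refine ⟨⟨⟨0, 0, a.toAdd⟩, (Heis.mem_ker_proj _).mpr ⟨rfl, rfl⟩, ?_⟩, rfl⟩
    rw [← ZMod.natCast_zmod_val a.toAdd]
    exact Heis.mem_commutator _
  · intro Y _ τ hτ hc
    obtain ⟨x, hx⟩ := hτ (Multiplicative.ofAdd ((1 : ZMod m), (0 : ZMod n)))
    obtain ⟨y, hy⟩ := hτ (Multiplicative.ofAdd ((0 : ZMod m), (1 : ZMod n)))
    have hcard : Nat.card A = n := (Nat.card_congr Multiplicative.toAdd).trans (Nat.card_zmod n)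
    rw [hcard]
    refine card_inf_commutator_le_of_two τ hc (NeZero.pos n) x y ?_ ?_
    · rw [hy, ← ofAdd_nsmul, Prod.smul_mk]
      simp
    · rw [hx, hy, eq_top_iff]
      intro q _
      have : q = Multiplicative.ofAdd ((1 : ZMod m), (0 : ZMod n)) ^ (q.toAdd.1.val) *
          Multiplicative.ofAdd ((0 : ZMod m), (1 : ZMod n)) ^ (q.toAdd.2.val) := by
        rw [← ofAdd_nsmul, ← ofAdd_nsmul, ← ofAdd_add]
        apply Multiplicative.toAdd.injective
        simp [Prod.ext_iff]
      rw [this]
      have h1 : Multiplicative.ofAdd ((1 : ZMod m), (0 : ZMod n)) ∈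
          Subgroup.closure ({Multiplicative.ofAdd ((1 : ZMod m), (0 : ZMod n)),
            Multiplicative.ofAdd ((0 : ZMod m), (1 : ZMod n))} : Set (Multiplicative (ZMod m × ZMod n))) :=
        Subgroup.subset_closure (Set.mem_insert _ _)
      have h2 : Multiplicative.ofAdd ((0 : ZMod m), (1 : ZMod n)) ∈
          Subgroup.closure ({Multiplicative.ofAdd ((1 : ZMod m), (0 : ZMod n)),
            Multiplicative.ofAdd ((0 : ZMod m), (1 : ZMod n))} : Set (Multiplicative (ZMod m × ZMod n))) :=
        Subgroup.subset_closure (Set.mem_insert_of_mem _ (Set.mem_singleton _))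
      exact Subgroup.mul_mem _ (Subgroup.pow_mem _ h1 _) (Subgroup.pow_mem _ h2 _)

end Cfsg.Agent.S3951
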