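import Cfsg.Statements.S3952
import Mathlib
import Cfsg.Agent.Lib.Chars.Basic
import Cfsg.Agent.Lib.Schur.Sylow
import Cfsg.Agent.Lib.SchurExtra.Lift

set_option autoImplicit false
open Cfsg
open Cfsg.Agent.Lib.Schur
open Cfsg.Agent.Lib.SchurExtra

namespace Cfsg.Agent.S3952
open Cfsg.Agent.Lib.SchurExtra
open scoped ComplexConjugate

universe w

theorem exists_irreducible_scalar {G : Type*} [Group G] [Finite G] {A : Type*} (f : A → G)
    (c : A → ℂ) : ∀ (n : ℕ) (V : Type w) [AddCommGroup V] [Module ℂ V] [FiniteDimensional ℂ V]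
    [Nontrivial V] (ρ : Representation ℂ G V), Module.finrank ℂ V = n →
    (∀ a, ∀ v, ρ (f a) v = c a • v) →
    ∃ (W : Type w) (_ : AddCommGroup W) (_ : Module ℂ W) (_ : FiniteDimensional ℂ W)
      (ω : Representation ℂ G W), ω.IsIrreducible ∧ ∀ a, ∀ v, ω (f a) v = c a • v := by
  intro n
  induction n using Nat.strong_induction_on with
  | _ n ih =>
    intro V _ _ _ _ ρ hn hρ
    by_cases hirr : ρ.IsIrreducible
    · exact ⟨V, inferInstance, inferInstance, inferInstance, ρ, hirr, hρ⟩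
    obtain ⟨S, hS0, hS1⟩ := Lib.Chars.exists_proper_of_not_irreducible ρ hirr
    haveI : Nontrivial S.toSubmodule := Submodule.nontrivial_iff_ne_bot.mpr hS0
    exact ih (Module.finrank ℂ S.toSubmodule) (hn ▸ Submodule.finrank_lt hS1) _ S.toRepresentation
      rfl fun a v => Subtype.ext (hρ a v.1)

/-- An element of prime power order in a central subgroup and in the derived subgroup forces a
large index. -/
theorem pow_two_le_index {H : Type w} [Group H] [Finite H] (A : Subgroup H)
    (hA : A ≤ Subgroup.center H) {p k : ℕ} [hp : Fact p.Prime] (hk : 0 < k) {a : H} (haA : a ∈ A)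
    (had : a ∈ commutator H) (hao : orderOf a = p ^ k) : (p ^ k) ^ 2 ≤ A.index := by
  classical
  haveI : A.Normal := ⟨fun x hx g => by
    rwa [Subgroup.mem_center_iff.mp (hA hx) g, mul_inv_cancel_right]⟩
  let τ := QuotientGroup.mk' A
  have hker : τ.ker = A := QuotientGroup.ker_mk' A
  have hc : τ.ker ≤ Subgroup.center H := hker.le.trans hA
  letI : CommGroup τ.ker :=
    { (inferInstance : Group τ.ker) with
      mul_comm := fun u v => Subtype.ext (Subgroup.mem_center_iff.mp (hc v.2) u.1) }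
  let a' : τ.ker := ⟨a, by rw [hker]; exact haA⟩
  have hne : a' ^ p ^ (k - 1) ≠ 1 := fun h => by
    have h1 : a ^ p ^ (k - 1) = 1 := congrArg Subtype.val h
    have h2 := orderOf_dvd_of_pow_eq_one h1
    rw [hao, Nat.pow_dvd_pow_iff_le_right hp.out.one_lt] at h2
    omega
  obtain ⟨l, hl⟩ := CommGroup.exists_apply_ne_one_of_hasEnoughRootsOfUnity τ.ker ℂ hne
  obtain ⟨ρ, hρ⟩ := exists_monomialRep τ (QuotientGroup.mk'_surjective A) hc l
  let m := Nat.card (H ⧸ A)
  haveI : Nonempty (Fin m) := ⟨⟨0, Nat.card_pos⟩⟩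
  let R : Representation ℂ H (Fin m → ℂ) :=
    (Matrix.toLinAlgEquiv' : Matrix (Fin m) (Fin m) ℂ ≃ₐ[ℂ] _).toAlgHom.toMonoidHom.comp
      ((Units.coeHom _).comp ρ)
  have hR : ∀ (b : τ.ker) (v : Fin m → ℂ), R (b : H) v = (l b : ℂ) • v := by
    intro b v
    show Matrix.toLinAlgEquiv' (ρ (b : H) : Matrix (Fin m) (Fin m) ℂ) v = _
    rw [hρ]
    funext i
    simp [Matrix.GeneralLinearGroup.scalar, Matrix.toLinAlgEquiv'_apply]
  obtain ⟨W, _, _, _, ω, hirr, hω⟩ :=
    exists_irreducible_scalar (fun b : τ.ker => (b : H)) (fun b => (l b : ℂ)) _ _ R rfl hR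
  haveI := Lib.Chars.nontrivial_of_isIrreducible ω
  set d := Module.finrank ℂ W with hd
  have hd0 : 0 < d := Module.finrank_pos
  have hscal : ∀ b : τ.ker, ω (b : H) = (l b : ℂ) • (1 : Module.End ℂ W) := fun b =>
    LinearMap.ext fun v => hω b v
  -- the degree is divisible by the order
  have hdet : (l a' : ℂ) ^ d = 1 := by
    let D : H →* ℂˣ := ((LinearMap.det : Module.End ℂ W →* ℂ).comp ω).toHomUnits
    have h1 : D a = 1 := MonoidHom.mem_ker.mp (Abelianization.commutator_subset_ker D had)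
    have h2 : LinearMap.det (ω a) = 1 := congrArg Units.val h1
    rw [show a = (a' : H) from rfl, hscal, LinearMap.det_smul, map_one, mul_one] at h2
    exact h2
  have hord : orderOf (l a') = p ^ k := by
    obtain ⟨j, hj⟩ : ∃ j, k = j + 1 := ⟨k - 1, by omega⟩
    subst hj
    refine orderOf_eq_prime_pow ?_ ?_
    · rw [← map_pow]
      exact hl
    · rw [← map_pow, show a' ^ p ^ (j + 1) = 1 from Subtype.ext (by
        rw [Subgroup.coe_pow]; exact hao ▸ pow_orderOf_eq_one a), map_one]
  have hdvd : p ^ k ∣ d := hord ▸ orderOf_dvd_of_pow_eq_one (Units.ext (by simpa using hdet))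
  have hkd : p ^ k ≤ d := Nat.le_of_dvd hd0 hdvd
  -- the degree is bounded by the index
  letI : Fintype H := Fintype.ofFinite H
  haveI := hirr
  have horth := Lib.Chars.classInner_self_of_irreducible ω
  rw [Cfsg.classInner, inv_mul_eq_one₀ Lib.Chars.natCard_ne_zero] at horth
  simp only [Complex.mul_conj] at horth
  have hreal : (Nat.card H : ℝ) = ∑ g : H, Complex.normSq (ω.character g) := by exact_mod_cast horth
  have hsub : ∑ g ∈ Finset.univ.filter (fun g => g ∈ A), Complex.normSq (ω.character g) ≤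
      (Nat.card H : ℝ) := by
    rw [hreal]
    exact Finset.sum_le_sum_of_subset_of_nonneg (Finset.subset_univ _) fun g _ _ => Complex.normSq_nonneg _
  have hval : ∀ g ∈ Finset.univ.filter (fun g => g ∈ A),
      Complex.normSq (ω.character g) = (d : ℝ) ^ 2 := by
    intro g hg
    have hg' : g ∈ τ.ker := by rw [hker]; exact (Finset.mem_filter.mp hg).2
    have h1 : ω.character g = (l ⟨g, hg'⟩ : ℂ) * d := by
      show LinearMap.trace ℂ W (ω ((⟨g, hg'⟩ : τ.ker) : H)) = _
      rw [hscal, map_smul, LinearMap.trace_one, smul_eq_mul]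
    have h2 : ‖(l ⟨g, hg'⟩ : ℂ)‖ = 1 := by
      refine Lib.Chars.norm_eq_one_of_pow_eq_one (m := Nat.card τ.ker) Nat.card_pos ?_
      rw [← Units.val_pow_eq_pow_val, ← map_pow, pow_card_eq_one', map_one, Units.val_one]
    rw [h1, map_mul, Complex.normSq_eq_norm_sq, h2, Complex.normSq_natCast]
    ring
  rw [Finset.sum_congr rfl hval, Finset.sum_const, nsmul_eq_mul] at hsub
  have hcard : (Finset.univ.filter (fun g => g ∈ A)).card = Nat.card A := by
    rw [Nat.card_eq_fintype_card, Fintype.card_subtype]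
  rw [hcard, ← A.card_mul_index, Nat.cast_mul] at hsub
  have h3 : (d : ℝ) ^ 2 ≤ A.index :=
    le_of_mul_le_mul_left hsub (by exact_mod_cast Nat.card_pos (α := A))
  exact (Nat.pow_le_pow_left hkd 2).trans (by exact_mod_cast h3)


/-- If `A` is the Schur multiplier of the finite group `Q`, then the square of the exponent of `A` divides the order of `Q`. -/
theorem result {Q : Type*} [Group Q] [Finite Q] {A : Type*} [CommGroup A] (hA : Cfsg.HasSchurMultiplier Q A) : Monoid.exponent A ^ 2 ∣ Nat.card Q := by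
  classical
  obtain ⟨⟨Γ, _, _, σ, hσ, ⟨e⟩⟩, -⟩ := hA
  haveI : IsMulCommutative σ.ker :=
    ⟨⟨fun a b => Subtype.ext (Subgroup.mem_center_iff.mp (hσ.2.1 b.2) a.1)⟩⟩
  letI : CommGroup σ.ker :=
    { (inferInstance : Group σ.ker) with
      mul_comm := fun a b => Subtype.ext (Subgroup.mem_center_iff.mp (hσ.2.1 b.2) a.1) }
  rw [← Monoid.exponent_eq_of_mulEquiv e]
  set E := Monoid.exponent σ.ker with hE
  have hE0 : E ≠ 0 := Monoid.exponent_ne_zero_of_finite
  obtain ⟨x, hx⟩ := Monoid.exists_orderOf_eq_exponent (Monoid.ExponentExists.of_finite (G := σ.ker))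
  rw [← Nat.factorization_le_iff_dvd (pow_ne_zero 2 hE0) Nat.card_pos.ne']
  intro p
  by_cases hp : p.Prime
  swap
  · simp [Nat.factorization_eq_zero_of_not_prime _ hp]
  haveI : Fact p.Prime := ⟨hp⟩
  rw [Nat.factorization_pow, Finsupp.smul_apply, smul_eq_mul]
  set k := E.factorization p with hk
  obtain hk0 | hk0 := Nat.eq_zero_or_pos k
  · simp [hk0]
  rw [← hp.pow_dvd_iff_le_factorization Nat.card_pos.ne']
  set a : σ.ker := x ^ (E / p ^ k) with ha
  have hao : orderOf a = p ^ k := by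
    have h := orderOf_pow_orderOf_div (x := x) (n := p ^ k) (by rw [hx]; exact hE0)
      (by rw [hx]; exact Nat.ordProj_dvd E p)
    rw [hx] at h
    exact h
  have hao' : orderOf (a : Γ) = p ^ k := by rw [Subgroup.orderOf_coe, hao]
  obtain ⟨P⟩ : Nonempty (Sylow p Γ) := inferInstance
  have hpg : IsPGroup p (Subgroup.zpowers (a : Γ)) :=
    IsPGroup.of_card (n := k) (by rw [Nat.card_zpowers, hao'])
  have haP := mem_sylow_of_central P hpg (hσ.2.1 a.2)
  have had := mem_commutator_sylow_of_central P (a : Γ) haP (hσ.2.1 a.2) (hσ.2.2 a.2)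
  have hcen : σ.ker.subgroupOf (P : Subgroup Γ) ≤ Subgroup.center ↥(P : Subgroup Γ) := fun z hz => by
    rw [Subgroup.mem_center_iff]
    exact fun w => Subtype.ext (Subgroup.mem_center_iff.mp (hσ.2.1 hz) w.1)
  have hle := pow_two_le_index (σ.ker.subgroupOf (P : Subgroup Γ)) hcen (p := p) (k := k) hk0
    (a := ⟨(a : Γ), haP⟩) a.2 had (by rw [← Subgroup.orderOf_coe]; exact hao')
  obtain ⟨n, hn⟩ := P.2.index (σ.ker.subgroupOf (P : Subgroup Γ))
  rw [hn, ← pow_mul, mul_comm, Nat.pow_le_pow_iff_right hp.one_lt] at hle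
  have hdvd : (σ.ker.subgroupOf (P : Subgroup Γ)).index ∣ Nat.card Q := by
    have h1 : (σ.ker.subgroupOf (P : Subgroup Γ)).index = σ.ker.relIndex (P : Subgroup Γ) := rfl
    rw [h1]
    refine (Subgroup.relIndex_dvd_index_of_normal _ _).trans ?_
    rw [Subgroup.index_ker, MonoidHom.range_eq_top.mpr hσ.1, Subgroup.card_top]
  exact (Nat.pow_dvd_pow p hle).trans (hn ▸ hdvd)

end Cfsg.Agent.S3952
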