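import Cfsg.Statements.S3953
import Mathlib
import Cfsg.Agent.Lib.SchurExtra.Transfer

set_option autoImplicit false
open Cfsg
open Cfsg.Agent.Lib.Schur
open Cfsg.Agent.Lib.SchurExtra

namespace Cfsg.Agent.S3953

/-- Let `P` be a Sylow `p`-subgroup of the finite group `G`, let `A` be the Schur multiplier of `G` and `B` that of `P`. Then the `p`-primary component of `A` is isomorphic to a direct factor of `B`: there are subgroups `C` and `D` of `B` meeting trivially and generating `B`, with `C` isomorphic to the `p`-primary component of `A`. -/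
theorem result {G : Type*} [Group G] [Finite G] (p : ℕ) [Fact p.Prime] (P : Sylow p G) {A B : Type*} [CommGroup A] [CommGroup B] (hA : Cfsg.HasSchurMultiplier G A) (hB : Cfsg.HasSchurMultiplier P B) : ∃ C D : Subgroup B, C ⊓ D = ⊥ ∧ C ⊔ D = ⊤ ∧ Nonempty (CommGroup.primaryComponent A p ≃* C) := by
  classical
  have hp : p.Prime := Fact.out
  obtain ⟨a⟩ := hasSchurMultiplier_canon_iff.mp hA
  obtain ⟨b⟩ := hasSchurMultiplier_canon_iff.mp hB
  haveI : Finite A := (finite_of_hasSchurMultiplier hA).2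
  obtain ⟨tr₀, cor₀, h₀⟩ := exists_transfer_maps (P : Subgroup G)
  let tr : A →* B := b.symm.toMonoidHom.comp (tr₀.comp a.toMonoidHom)
  let cor : B →* A := a.symm.toMonoidHom.comp (cor₀.comp b.toMonoidHom)
  set m := (P : Subgroup G).index with hm
  have h : ∀ x, cor (tr x) = x ^ m := fun x => by simp [cor, tr, h₀, ← hm]
  set Ap := CommGroup.primaryComponent A p with hAp
  set n := Nat.card A with hn
  have hcop : Nat.Coprime (p ^ n.factorization p) (n / p ^ n.factorization p) :=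
    Nat.Coprime.pow_left _ (Nat.coprime_ordCompl hp Nat.card_pos.ne')
  obtain ⟨k, hk1, hk2⟩ := Nat.chineseRemainder hcop 1 0
  have hproj : ∀ x : A, x ^ k ∈ Ap := fun x => by
    rw [hAp, CommGroup.mem_primaryComponent]
    refine ⟨n.factorization p, ?_⟩
    rw [← pow_mul]
    refine orderOf_dvd_iff_pow_eq_one.mp ((orderOf_dvd_natCard x).trans ?_)
    rw [← hn]
    refine (dvd_of_eq ((mul_comm _ _).trans (Nat.ordProj_mul_ordCompl_eq_self n p)).symm).trans ?_
    exact Nat.mul_dvd_mul ((Nat.modEq_zero_iff_dvd).mp hk2) dvd_rfl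
  have hfix : ∀ x ∈ Ap, x ^ k = x := by
    intro x hx
    rw [hAp, CommGroup.mem_primaryComponent] at hx
    obtain ⟨j, hj⟩ := hx
    obtain ⟨i, -, hi⟩ := (Nat.dvd_prime_pow hp).mp (orderOf_dvd_of_pow_eq_one hj)
    have h1 : orderOf x ∣ p ^ n.factorization p := by
      rw [hi]
      refine Nat.pow_dvd_pow p ((hp.pow_dvd_iff_le_factorization Nat.card_pos.ne').mp ?_)
      rw [← hi]; exact orderOf_dvd_natCard x
    conv_rhs => rw [← pow_one x]
    exact pow_eq_pow_iff_modEq.mpr (hk1.of_dvd h1)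
  have hinj : ∀ x ∈ Ap, x ^ m = 1 → x = 1 := by
    intro x hx hxm
    rw [hAp, CommGroup.mem_primaryComponent] at hx
    obtain ⟨j, hj⟩ := hx
    exact orderOf_eq_one_iff.mp (Nat.eq_one_of_dvd_coprimes
      (Nat.Coprime.pow_left j (hp.coprime_iff_not_dvd.mpr P.not_dvd_index))
      (orderOf_dvd_of_pow_eq_one hj) (orderOf_dvd_of_pow_eq_one hxm))
  have htinj : ∀ x ∈ Ap, tr x = 1 → x = 1 := fun x hx h1 => hinj x hx (by rw [← h, h1, map_one])
  refine ⟨Ap.map tr, ((powMonoidHom k).comp cor).ker, ?_, ?_, ⟨?_⟩⟩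
  · rw [eq_bot_iff]
    rintro _ ⟨⟨x, hx, rfl⟩, h2⟩
    have h3 : cor (tr x) ^ k = 1 := h2
    rw [h, hfix _ (pow_mem hx m)] at h3
    rw [hinj x hx h3, map_one]
    exact one_mem _
  · rw [eq_top_iff]
    intro y _
    obtain ⟨j, hj⟩ : ∃ j, ((cor y ^ k) ^ m) ^ j = cor y ^ k := by
      have hy := hproj (cor y)
      rw [hAp, CommGroup.mem_primaryComponent] at hy
      obtain ⟨i, hi⟩ := hy
      exact exists_pow_eq_self_of_coprime (Nat.Coprime.coprime_dvd_right (orderOf_dvd_of_pow_eq_one hi)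
        ((hp.coprime_iff_not_dvd.mpr P.not_dvd_index).pow_left i).symm)
    set x := (cor y ^ k) ^ j with hx
    have hxA : x ∈ Ap := pow_mem (hproj _) _
    rw [show y = tr x * ((tr x)⁻¹ * y) by group]
    refine Subgroup.mul_mem_sup ⟨x, hxA, rfl⟩ ?_
    show cor ((tr x)⁻¹ * y) ^ k = 1
    rw [map_mul, map_inv, h, mul_pow, inv_pow, hfix _ (pow_mem hxA m), hx, ← pow_mul, mul_comm j m,
      pow_mul, hj, inv_mul_cancel]
  · exact MulEquiv.ofBijective (tr.subgroupMap Ap)
      ⟨(injective_iff_map_eq_one _).mpr fun x hx =>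
        Subtype.ext (htinj x.1 x.2 (congrArg Subtype.val hx)), tr.subgroupMap_surjective Ap⟩

end Cfsg.Agent.S3953
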