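import Cfsg.Statements.S3954
import Mathlib
import Cfsg.Agent.Lib.SchurExtra.Transfer

set_option autoImplicit false
open Cfsg
open Cfsg.Agent.Lib.Schur
open Cfsg.Agent.Lib.SchurExtra

namespace Cfsg.Agent.S3954

/-- Let `U` be a subgroup of index `m` in the finite group `G`, let `A` be the Schur multiplier of `G` and `B` that of `U`. Then the subgroup of `m`-th powers of `A` is isomorphic to a subgroup of `B`. -/
theorem result {G : Type*} [Group G] [Finite G] (U : Subgroup G) {A B : Type*} [CommGroup A] [CommGroup B] (hA : Cfsg.HasSchurMultiplier G A) (hB : Cfsg.HasSchurMultiplier U B) : ∃ C : Subgroup B, Nonempty ((powMonoidHom U.index : A →* A).range ≃* C) := by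
  classical
  obtain ⟨a⟩ := hasSchurMultiplier_canon_iff.mp hA
  obtain ⟨b⟩ := hasSchurMultiplier_canon_iff.mp hB
  haveI : Finite A := (finite_of_hasSchurMultiplier hA).2
  haveI : Finite B := (finite_of_hasSchurMultiplier hB).2
  obtain ⟨tr₀, cor₀, h₀⟩ := exists_transfer_maps U
  let tr : A →* B := b.symm.toMonoidHom.comp (tr₀.comp a.toMonoidHom)
  let cor : B →* A := a.symm.toMonoidHom.comp (cor₀.comp b.toMonoidHom)
  have h : ∀ x, cor (tr x) = x ^ U.index := fun x => by simp [cor, tr, h₀]
  set Pm := (powMonoidHom U.index : A →* A).range with hPm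
  let ψ : tr.range →* Pm := (cor.comp tr.range.subtype).codRestrict Pm fun y => by
    obtain ⟨_, x, rfl⟩ := y
    exact ⟨x, (h x).symm⟩
  have hψ : Function.Surjective ψ := by
    rintro ⟨_, x, rfl⟩
    exact ⟨⟨tr x, x, rfl⟩, Subtype.ext (h x)⟩
  obtain ⟨e₁⟩ := CommGroup.monoidHom_mulEquiv_of_hasEnoughRootsOfUnity Pm ℂ
  obtain ⟨e₂⟩ := CommGroup.monoidHom_mulEquiv_of_hasEnoughRootsOfUnity tr.range ℂ
  let dual : (Pm →* ℂˣ) →* (tr.range →* ℂˣ) :=
    { toFun := fun l => l.comp ψ
      map_one' := rfl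
      map_mul' := fun _ _ => rfl }
  let f : Pm →* B := tr.range.subtype.comp
    (e₂.toMonoidHom.comp (dual.comp e₁.symm.toMonoidHom))
  have hf : Function.Injective f := by
    intro u v huv
    have h1 : dual (e₁.symm u) = dual (e₁.symm v) := e₂.injective (Subtype.val_injective huv)
    refine e₁.symm.injective (MonoidHom.ext fun y => ?_)
    obtain ⟨w, rfl⟩ := hψ y
    exact DFunLike.congr_fun h1 w
  exact ⟨f.range, ⟨MonoidHom.ofInjective hf⟩⟩

end Cfsg.Agent.S3954
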