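import Cfsg.Statements.S3955
import Mathlib
import Cfsg.Agent.Lib.SchurExtra.Lift

set_option autoImplicit false
open Cfsg
open Cfsg.Agent.Lib.Schur
open Cfsg.Agent.Lib.SchurExtra

namespace Cfsg.Agent.S3955

/-- Let `Q` be a finite group with Schur multiplier `A`, and let `σ : Γ →* Q` be a finite stem extension whose kernel is isomorphic to `A` (a Schur covering group of `Q`). Then every homomorphism `γ` from `Q` to the quotient of `GL n ℂ` by its centre lifts along `σ`: there is a homomorphism `ρ : Γ →* GL n ℂ` which, followed by the quotient map, equals `γ ∘ σ`. -/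
theorem result {Q : Type*} [Group Q] [Finite Q] {A : Type*} [CommGroup A] (hA : Cfsg.HasSchurMultiplier Q A) {Γ : Type*} [Group Γ] [Finite Γ] (σ : Γ →* Q) (hσ : Cfsg.IsStemExtension σ) (hk : Nonempty (σ.ker ≃* A)) (n : ℕ) (γ : Q →* (GL (Fin n) ℂ ⧸ Subgroup.center (GL (Fin n) ℂ))) : ∃ ρ : Γ →* GL (Fin n) ℂ, (QuotientGroup.mk' (Subgroup.center (GL (Fin n) ℂ))).comp ρ = γ.comp σ := by
  classical
  obtain ⟨e⟩ := hasSchurMultiplier_canon_iff.mp hA
  obtain ⟨k⟩ := hk
  have hπ := canon_surjective Q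
  obtain ⟨h, hh⟩ := exists_covLift (canon Q) σ hσ.1 hσ.2.1
  have hmap : (mult (canon Q)).map h = σ.ker := by
    rw [map_mult hπ σ hσ.2.1 h hh, inf_eq_left.mpr hσ.2.2]
  haveI := finite_mult (canon Q)
  have hinj : ∀ c ∈ mult (canon Q), h c = 1 → c = 1 := by
    intro c hc hc1
    have hb : Function.Bijective (h.subgroupMap (mult (canon Q))) :=
      (h.subgroupMap_surjective _).bijective_of_nat_card_le
        (by rw [hmap]; exact (Nat.card_congr (k.trans e).toEquiv).ge)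
    have := hb.1 (a₁ := ⟨c, hc⟩) (a₂ := 1) (Subtype.ext (by simp [hc1]))
    exact congrArg Subtype.val this
  have hsurj : Function.Surjective h := by
    intro x
    obtain ⟨c, hc⟩ := covProj_surjective hπ (σ x)
    have hm : (h c)⁻¹ * x ∈ σ.ker := by
      rw [MonoidHom.mem_ker, map_mul, map_inv, ← MonoidHom.comp_apply, hh, hc, inv_mul_cancel]
    rw [← hmap] at hm
    obtain ⟨m, -, hm⟩ := hm
    exact ⟨c * m, by rw [map_mul, hm, mul_inv_cancel_left]⟩
  -- the pullback of the projective representation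
  let q := QuotientGroup.mk' (Subgroup.center (GL (Fin n) ℂ))
  let X : Subgroup (Q × GL (Fin n) ℂ) :=
    (γ.comp (MonoidHom.fst _ _)).eqLocus (q.comp (MonoidHom.snd _ _))
  let sX : X →* Q := (MonoidHom.fst _ _).comp X.subtype
  have hsX : Function.Surjective sX := fun x => by
    obtain ⟨g, hg⟩ := QuotientGroup.mk'_surjective _ (γ x)
    exact ⟨⟨(x, g), hg.symm⟩, rfl⟩
  have hcX : sX.ker ≤ Subgroup.center X := by
    intro x hx
    have h1 : (x : Q × GL (Fin n) ℂ).1 = 1 := hx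
    have h2 : (x : Q × GL (Fin n) ℂ).2 ∈ Subgroup.center (GL (Fin n) ℂ) := by
      have h3 : γ (x : Q × GL (Fin n) ℂ).1 = q (x : Q × GL (Fin n) ℂ).2 := x.2
      rw [h1, map_one] at h3
      exact (QuotientGroup.eq_one_iff _).mp h3.symm
    rw [Subgroup.mem_center_iff]
    intro y
    apply Subtype.ext
    apply Prod.ext
    · simp [h1]
    · exact Subgroup.mem_center_iff.mp h2 _
  obtain ⟨f, hf⟩ := exists_covLift (canon Q) sX hsX hcX
  let ρ₀ : cov (canon Q) →* GL (Fin n) ℂ := ((MonoidHom.snd _ _).comp X.subtype).comp f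
  have hρ₀ : ∀ c, q (ρ₀ c) = γ (σ (h c)) := fun c => by
    rw [← MonoidHom.comp_apply σ h, hh, ← hf]
    exact (f c).2.symm
  have hK : h.ker ⊓ commutator (cov (canon Q)) = ⊥ := by
    rw [eq_bot_iff]
    intro c hc
    have hr : covProj (canon Q) c = 1 := by
      rw [← hh, MonoidHom.comp_apply, MonoidHom.mem_ker.mp hc.1, map_one]
    exact Subgroup.mem_bot.mpr (hinj c ⟨hr, hc.2⟩ hc.1)
  let φ : h.ker →* ↥(Subgroup.center (GL (Fin n) ℂ)) := (ρ₀.comp h.ker.subtype).codRestrict _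
    fun c => (QuotientGroup.eq_one_iff _).mp
      (show q (ρ₀ c) = 1 by rw [hρ₀, MonoidHom.mem_ker.mp c.2, map_one, map_one])
  obtain ⟨χ, hχ⟩ := exists_extension_center_GL h.ker hK n φ
  let ρ₁ : cov (canon Q) →* GL (Fin n) ℂ :=
    { toFun := fun c => ρ₀ c * (χ c : GL (Fin n) ℂ)⁻¹
      map_one' := by simp
      map_mul' := fun a b => by
        have hcomm := Subgroup.mem_center_iff.mp ((Subgroup.center _).inv_mem (χ a).2) (ρ₀ b)
        rw [map_mul, map_mul, Subgroup.coe_mul, mul_inv_rev]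
        calc ρ₀ a * ρ₀ b * ((χ b : GL (Fin n) ℂ)⁻¹ * (χ a : GL (Fin n) ℂ)⁻¹)
            = ρ₀ a * ρ₀ b * ((χ a : GL (Fin n) ℂ)⁻¹ * (χ b : GL (Fin n) ℂ)⁻¹) := by
              rw [← Subgroup.mem_center_iff.mp ((Subgroup.center _).inv_mem (χ a).2)]
          _ = ρ₀ a * (ρ₀ b * (χ a : GL (Fin n) ℂ)⁻¹) * (χ b : GL (Fin n) ℂ)⁻¹ := by group
          _ = _ := by rw [hcomm]; group }
  have hker : h.ker ≤ ρ₁.ker := fun c hc => by
    show ρ₀ c * (χ c : GL (Fin n) ℂ)⁻¹ = 1
    rw [hχ ⟨c, hc⟩]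
    exact mul_inv_cancel _
  refine ⟨h.liftOfSurjective hsurj ⟨ρ₁, hker⟩, MonoidHom.ext fun x => ?_⟩
  obtain ⟨c, rfl⟩ := hsurj x
  simp only [MonoidHom.comp_apply]
  rw [MonoidHom.liftOfRightInverse_comp_apply]
  show q (ρ₀ c * (χ c : GL (Fin n) ℂ)⁻¹) = _
  rw [map_mul, hρ₀, map_inv,
    show q (χ c : GL (Fin n) ℂ) = 1 from (QuotientGroup.eq_one_iff _).mpr (χ c).2, inv_one, mul_one]

end Cfsg.Agent.S3955
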