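import Cfsg.Statements.S3956
import Mathlib
import Cfsg.Agent.Lib.SchurExtra.Lift

set_option autoImplicit false
set_option maxHeartbeats 400000
universe u v
open Cfsg
open Cfsg.Agent.Lib.SchurExtra

namespace Cfsg.Agent.S3956

/-- Let `σ : Γ →* Q` be a finite stem extension of the finite group `Q` such that every homomorphism from `Q` to the quotient of `GL n ℂ` by its centre, for every `n`, lifts along `σ` to a homomorphism `Γ →* GL n ℂ`. Then `σ` is a Schur covering group of `Q`: for every finite stem extension `τ : Δ →* Q` with `Δ` in the same universe as `Q`, the kernel of `τ` is a homomorphic image of the kernel of `σ`. -/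
theorem result {Q : Type u} [Group Q] [Finite Q] {Γ : Type v} [Group Γ] [Finite Γ] (σ : Γ →* Q) (hσ : Cfsg.IsStemExtension σ) (hlift : ∀ (n : ℕ) (γ : Q →* (GL (Fin n) ℂ ⧸ Subgroup.center (GL (Fin n) ℂ))), ∃ ρ : Γ →* GL (Fin n) ℂ, (QuotientGroup.mk' (Subgroup.center (GL (Fin n) ℂ))).comp ρ = γ.comp σ) (Δ : Type u) [Group Δ] [Finite Δ] (τ : Δ →* Q) (hτ : Cfsg.IsStemExtension τ) : ∃ π : σ.ker →* τ.ker, Function.Surjective π := by
  classical
  obtain ⟨hs1, hs2, hs3⟩ := hσ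
  obtain ⟨ht1, ht2, ht3⟩ := hτ
  let X : Subgroup (Γ × Δ) := (σ.comp (MonoidHom.fst Γ Δ)).eqLocus (τ.comp (MonoidHom.snd Γ Δ))
  have hXmem : ∀ x : X, σ (x : Γ × Δ).1 = τ (x : Γ × Δ).2 := fun x => x.2
  let p₁ : X →* Γ := (MonoidHom.fst Γ Δ).comp X.subtype
  let p₂ : X →* Δ := (MonoidHom.snd Γ Δ).comp X.subtype
  have hp₁ : Function.Surjective p₁ := fun g => by
    obtain ⟨d, hd⟩ := ht1 (σ g); exact ⟨⟨(g, d), hd.symm⟩, rfl⟩
  have hp₂ : Function.Surjective p₂ := fun d => by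
    obtain ⟨g, hg⟩ := hs1 (τ d); exact ⟨⟨(g, d), hg⟩, rfl⟩
  -- a point of the derived subgroup of the fibre product is determined by its first entry
  have key : ∀ x : X, x ∈ commutator X → p₁ x = 1 → p₂ x = 1 := by
    intro x hx hx1
    by_contra hne
    have ha : p₂ x ∈ τ.ker := by
      have h := hXmem x
      show τ (p₂ x) = 1
      rw [show (x : Γ × Δ).1 = 1 from hx1, map_one] at h
      exact h.symm
    haveI : IsMulCommutative τ.ker :=
      ⟨⟨fun a b => Subtype.ext (Subgroup.mem_center_iff.mp (ht2 b.2) a.1)⟩⟩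
    letI : CommGroup τ.ker :=
      { (inferInstance : Group τ.ker) with
        mul_comm := fun a b => Subtype.ext (Subgroup.mem_center_iff.mp (ht2 b.2) a.1) }
    obtain ⟨l, hl⟩ := CommGroup.exists_apply_ne_one_of_hasEnoughRootsOfUnity τ.ker ℂ
      (a := (⟨p₂ x, ha⟩ : τ.ker)) (fun h => hne (congrArg Subtype.val h))
    obtain ⟨ρ, hρ⟩ := exists_monomialRep τ ht1 ht2 l
    let q := QuotientGroup.mk' (Subgroup.center (GL (Fin (Nat.card Q)) ℂ))
    have hker : τ.ker ≤ (q.comp ρ).ker := fun a ha => by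
      show q (ρ a) = 1
      rw [show ρ a = ρ ((⟨a, ha⟩ : τ.ker) : Δ) from rfl, hρ]
      exact (QuotientGroup.eq_one_iff _).mpr (scalar_mem_center_GL _ _)
    obtain ⟨ρ', hρ'⟩ := hlift _ (τ.liftOfSurjective ht1 ⟨q.comp ρ, hker⟩)
    have hcen : ∀ y : X, ρ' (p₁ y) * (ρ (p₂ y))⁻¹ ∈ Subgroup.center (GL (Fin (Nat.card Q)) ℂ) := by
      intro y
      refine (QuotientGroup.eq_one_iff _).mp (show q (ρ' (p₁ y) * (ρ (p₂ y))⁻¹) = 1 from ?_)
      rw [map_mul, map_inv, ← MonoidHom.comp_apply q ρ', hρ', MonoidHom.comp_apply,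
        show σ (p₁ y) = τ (p₂ y) from hXmem y, MonoidHom.liftOfRightInverse_comp_apply,
        MonoidHom.comp_apply, mul_inv_cancel]
    let c : X →* ↥(Subgroup.center (GL (Fin (Nat.card Q)) ℂ)) :=
      { toFun := fun y => ⟨ρ' (p₁ y) * (ρ (p₂ y))⁻¹, hcen y⟩
        map_one' := by apply Subtype.ext; simp
        map_mul' := fun y z => by
          apply Subtype.ext
          simp only [map_mul, mul_inv_rev, Subgroup.coe_mul]
          have h := Subgroup.mem_center_iff.mp (hcen z) (ρ (p₂ y))⁻¹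
          calc ρ' (p₁ y) * ρ' (p₁ z) * ((ρ (p₂ z))⁻¹ * (ρ (p₂ y))⁻¹)
              = ρ' (p₁ y) * ((ρ' (p₁ z) * (ρ (p₂ z))⁻¹) * (ρ (p₂ y))⁻¹) := by group
            _ = ρ' (p₁ y) * ((ρ (p₂ y))⁻¹ * (ρ' (p₁ z) * (ρ (p₂ z))⁻¹)) := by rw [h]
            _ = _ := by group }
    have hcx : c x = 1 := MonoidHom.mem_ker.mp (commutator_le_ker_center c hx)
    have h1 : ρ' (p₁ x) * (ρ (p₂ x))⁻¹ = 1 := congrArg Subtype.val hcx
    rw [hx1, map_one, one_mul, inv_eq_one,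
      show ρ (p₂ x) = ρ ((⟨p₂ x, ha⟩ : τ.ker) : Δ) from rfl, hρ] at h1
    haveI : Nonempty (Fin (Nat.card Q)) := ⟨⟨0, Nat.card_pos⟩⟩
    have h2 := congrArg (fun g : GL (Fin (Nat.card Q)) ℂ =>
      (g : Matrix (Fin (Nat.card Q)) (Fin (Nat.card Q)) ℂ) ⟨0, Nat.card_pos⟩ ⟨0, Nat.card_pos⟩) h1
    simp [Matrix.GeneralLinearGroup.scalar] at h2
    exact hl h2
  have hex : ∀ z : σ.ker, ∃ a : τ.ker, ∃ x ∈ commutator X, p₁ x = z ∧ p₂ x = a := by
    intro z
    have hz : (z : Γ) ∈ commutator Γ := hs3 z.2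
    rw [← map_commutator_of_surjective p₁ hp₁] at hz
    obtain ⟨x, hx, hxz⟩ := hz
    refine ⟨⟨p₂ x, ?_⟩, x, hx, hxz, rfl⟩
    show τ (p₂ x) = 1
    rw [show τ (p₂ x) = σ (p₁ x) from (hXmem x).symm, hxz]
    exact z.2
  choose f hf using hex
  have huniq : ∀ (z : σ.ker) (a : τ.ker), (∃ x ∈ commutator X, p₁ x = z ∧ p₂ x = a) → f z = a := by
    rintro z a ⟨x, hx, hx1, hx2⟩
    obtain ⟨y, hy, hy1, hy2⟩ := hf z
    have h := key (x⁻¹ * y) (mul_mem (inv_mem hx) hy) (by simp [hx1, hy1])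
    rw [map_mul, map_inv, inv_mul_eq_one, hx2, hy2] at h
    exact Subtype.ext h.symm
  refine ⟨MonoidHom.mk' f fun z w => ?_, fun a => ?_⟩
  · obtain ⟨x, hx, hx1, hx2⟩ := hf z
    obtain ⟨y, hy, hy1, hy2⟩ := hf w
    exact huniq _ _ ⟨x * y, mul_mem hx hy, by simp [hx1, hy1], by simp [hx2, hy2]⟩
  · have ha : (a : Δ) ∈ commutator Δ := ht3 a.2
    rw [← map_commutator_of_surjective p₂ hp₂] at ha
    obtain ⟨x, hx, hxa⟩ := ha
    have hz : p₁ x ∈ σ.ker := by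
      show σ (p₁ x) = 1
      rw [show σ (p₁ x) = τ (p₂ x) from hXmem x, hxa]
      exact a.2
    exact ⟨⟨p₁ x, hz⟩, huniq _ _ ⟨x, hx, rfl, hxa⟩⟩

end Cfsg.Agent.S3956
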