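import Cfsg.Statements.S3957
import Mathlib
import Cfsg.Agent.Lib.Schur.Cover

set_option autoImplicit false
universe u v
open Cfsg
open Cfsg.Agent.Lib.Schur

namespace Cfsg.Agent.S3957
open Cfsg.Agent.Lib.Schur

/-- A complement of the multiplier that lies inside a given subgroup of the kernel. -/
theorem exists_complement_in {Q : Type*} [Group Q] {α : Type*} [Finite α] (π : FreeGroup α →* Q)
    (K : Subgroup (cov π)) (hK : K ≤ (covProj π).ker) :
    ∃ C : Subgroup (cov π), C ≤ K ∧ Disjoint C (commutator (cov π)) ∧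
      ∀ r ∈ K, ∃ c ∈ C, c⁻¹ * r ∈ mult π := by
  classical
  cases nonempty_fintype α
  letI : CommGroup K :=
    { (inferInstance : Group K) with
      mul_comm := fun a b => Subtype.ext
        (Subgroup.mem_center_iff.mp (covProj_ker_le_center π (hK b.2)) a.1) }
  let h : K →* Multiplicative (α → ℤ) := (covAb π).comp K.subtype
  let p : Additive K →ₗ[ℤ] (α → ℤ) := (MonoidHom.toAdditiveLeft h).toIntLinearMap
  haveI : Module.Finite ℤ (LinearMap.range p) := Module.Finite.of_fg (IsNoetherian.noetherian _)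
  haveI : Module.Free ℤ (LinearMap.range p) := Module.free_of_finite_type_torsion_free'
  obtain ⟨s, hs⟩ := Module.projective_lifting_property p.rangeRestrict LinearMap.id
    p.surjective_rangeRestrict
  let S : Multiplicative (LinearMap.range p) →* cov π :=
    K.subtype.comp (AddMonoidHom.toMultiplicativeLeft s.toAddMonoidHom)
  have hS : ∀ l, covAb π (S l) =
      Multiplicative.ofAdd ((l.toAdd : LinearMap.range p) : α → ℤ) := fun l => by
    have := congrArg Subtype.val (DFunLike.congr_fun hs l.toAdd)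
    exact congrArg Multiplicative.ofAdd this
  refine ⟨S.range, ?_, ?_, ?_⟩
  · rintro _ ⟨l, rfl⟩
    exact (AddMonoidHom.toMultiplicativeLeft s.toAddMonoidHom l).2
  · rw [Subgroup.disjoint_def]
    rintro _ ⟨l, rfl⟩ h2
    rw [← ker_covAb, MonoidHom.mem_ker, hS] at h2
    have hl : l = 1 :=
      Multiplicative.toAdd.injective (Subtype.ext (Multiplicative.ofAdd.injective h2))
    rw [hl, map_one]
  · intro r hr
    let l : Multiplicative (LinearMap.range p) :=
      Multiplicative.ofAdd (p.rangeRestrict (Additive.ofMul ⟨r, hr⟩))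
    refine ⟨S l, ⟨l, rfl⟩, Subgroup.mem_inf.mpr ⟨?_, ?_⟩⟩
    · exact Subgroup.mul_mem _ (Subgroup.inv_mem _
        (hK (AddMonoidHom.toMultiplicativeLeft s.toAddMonoidHom l).2)) (hK hr)
    · rw [← ker_covAb, MonoidHom.mem_ker, map_mul, map_inv, hS, inv_mul_eq_one]
      rfl


/-- Let `Q` be a finite group with Schur multiplier `A` and let `τ : Δ →* Q` be a finite stem extension, `Δ` in the universe of `Q`. Then there is a finite stem extension `σ : Γ →* Q` with kernel isomorphic to `A` (a Schur covering group) and a surjective homomorphism `β : Γ →* Δ` with `τ ∘ β = σ`. -/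
theorem result {Q : Type u} [Group Q] [Finite Q] {A : Type v} [CommGroup A] (hA : Cfsg.HasSchurMultiplier Q A) {Δ : Type u} [Group Δ] [Finite Δ] (τ : Δ →* Q) (hτ : Cfsg.IsStemExtension τ) : ∃ (Γ : Type u) (_ : Group Γ) (_ : Finite Γ) (σ : Γ →* Q), Cfsg.IsStemExtension σ ∧ Nonempty (σ.ker ≃* A) ∧ ∃ β : Γ →* Δ, Function.Surjective β ∧ τ.comp β = σ := by
  classical
  obtain ⟨eA⟩ := hasSchurMultiplier_canon_iff.mp hA
  have hπ := canon_surjective Q
  obtain ⟨f, hf⟩ := exists_covLift (canon Q) τ hτ.1 hτ.2.1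
  have hmap : (mult (canon Q)).map f = τ.ker := by
    rw [map_mult hπ τ hτ.2.1 f hf, inf_eq_left.mpr hτ.2.2]
  have hfR : f.ker ≤ (covProj (canon Q)).ker := fun c hc => by
    rw [MonoidHom.mem_ker, ← hf, MonoidHom.comp_apply, MonoidHom.mem_ker.mp hc, map_one]
  obtain ⟨C, hCK, hdisj, hsupK⟩ := exists_complement_in (canon Q) f.ker hfR
  have hC : C ≤ (covProj (canon Q)).ker := hCK.trans hfR
  have hsup : ∀ r, covProj (canon Q) r = 1 → ∃ c ∈ C, c⁻¹ * r ∈ mult (canon Q) := by
    intro r hr
    have h1 : f r ∈ τ.ker := by rw [MonoidHom.mem_ker, ← MonoidHom.comp_apply, hf, hr]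
    rw [← hmap] at h1
    obtain ⟨m, hm, hmr⟩ := h1
    obtain ⟨c, hc, hcm⟩ := hsupK (r * m⁻¹) (by
      rw [MonoidHom.mem_ker, map_mul, map_inv, hmr, mul_inv_cancel])
    refine ⟨c, hc, ?_⟩
    have h2 := mul_mem hcm hm
    rwa [show c⁻¹ * (r * m⁻¹) * m = c⁻¹ * r by group] at h2
  haveI hN : C.Normal := ⟨fun c hc g => by
    rwa [Subgroup.mem_center_iff.mp (covProj_ker_le_center _ (hC hc)) g, mul_inv_cancel_right]⟩
  let σ : cov (canon Q) ⧸ C →* Q := QuotientGroup.lift C (covProj (canon Q)) hC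
  let g : mult (canon Q) →* σ.ker :=
    ((QuotientGroup.mk' C).comp (mult (canon Q)).subtype).codRestrict _ fun m => m.2.1
  have hg : Function.Bijective g := by
    refine ⟨(injective_iff_map_eq_one g).mpr fun m hm => Subtype.ext ?_, fun r => ?_⟩
    · exact Subgroup.disjoint_def.mp hdisj
        ((QuotientGroup.eq_one_iff _).mp (congrArg Subtype.val hm)) m.2.2
    · obtain ⟨r', hr'⟩ := QuotientGroup.mk'_surjective C r.1
      have h1 : covProj (canon Q) r' = 1 := by
        have h2 := r.2
        rw [MonoidHom.mem_ker, ← hr'] at h2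
        exact h2
      obtain ⟨c, hc, hm⟩ := hsup r' h1
      refine ⟨⟨_, hm⟩, Subtype.ext ?_⟩
      rw [← hr']
      show QuotientGroup.mk' C (c⁻¹ * r') = QuotientGroup.mk' C r'
      rw [map_mul, (MonoidHom.mem_ker (f := QuotientGroup.mk' C)).mp
        (by rw [QuotientGroup.ker_mk']; exact inv_mem hc), one_mul]
  have hstem : Cfsg.IsStemExtension σ := by
    refine ⟨fun q => ?_, fun r hr => ?_, fun r hr => ?_⟩
    · obtain ⟨x, rfl⟩ := covProj_surjective hπ q
      exact ⟨QuotientGroup.mk' C x, rfl⟩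
    · obtain ⟨r', rfl⟩ := QuotientGroup.mk'_surjective C r
      rw [Subgroup.mem_center_iff]
      intro y
      obtain ⟨y, rfl⟩ := QuotientGroup.mk'_surjective C y
      rw [← map_mul, ← map_mul, Subgroup.mem_center_iff.mp (covProj_ker_le_center _ hr) y]
    · obtain ⟨m, hm⟩ := hg.2 ⟨r, hr⟩
      rw [show r = ((g m : σ.ker) : cov (canon Q) ⧸ C) from (congrArg Subtype.val hm).symm]
      have h2 : (commutator (cov (canon Q))).map (QuotientGroup.mk' C) ≤ commutator _ := by
        rw [commutator_def, commutator_def, Subgroup.map_commutator]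
        exact Subgroup.commutator_mono le_top le_top
      exact h2 ⟨m.1, m.2.2, rfl⟩
  haveI := finite_mult (canon Q)
  haveI : Finite σ.ker := Finite.of_surjective g hg.2
  haveI hfin : Finite (cov (canon Q) ⧸ C) := by
    haveI : Finite ((cov (canon Q) ⧸ C) ⧸ σ.ker) :=
      Finite.of_equiv _ (QuotientGroup.quotientKerEquivOfSurjective σ hstem.1).symm.toEquiv
    exact Finite.of_subgroup_quotient σ.ker
  refine ⟨cov (canon Q) ⧸ C, inferInstance, hfin, σ, hstem,
    ⟨(MulEquiv.ofBijective g hg).symm.trans eA.symm⟩, QuotientGroup.lift C f hCK, ?_, ?_⟩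
  · intro x
    obtain ⟨c, hc⟩ := covProj_surjective hπ (τ x)
    have hm : (f c)⁻¹ * x ∈ τ.ker := by
      rw [MonoidHom.mem_ker, map_mul, map_inv, ← MonoidHom.comp_apply, hf, hc, inv_mul_cancel]
    rw [← hmap] at hm
    obtain ⟨m, -, hm⟩ := hm
    exact ⟨QuotientGroup.mk' C (c * m), by
      show f (c * m) = x
      rw [map_mul, hm, mul_inv_cancel_left]⟩
  · refine QuotientGroup.monoidHom_ext _ (MonoidHom.ext fun x => ?_)
    exact DFunLike.congr_fun hf x

end Cfsg.Agent.S3957
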