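import Cfsg.Statements.S3962
import Mathlib

set_option autoImplicit false
open Cfsg

namespace Cfsg.Agent.S3962

/-- Let `G` be a perfect group and `π : G →* Q` a surjective homomorphism whose kernel is central. Then `π` maps the centre of `G` onto the centre of `Q`. Taking `π` to be the map to `G ⧸ Z(G)` shows that the central quotient of a perfect group has trivial centre. -/
theorem result {G Q : Type*} [Group G] [Group Q] (hG : Group.IsPerfect G) (π : G →* Q) (hπ : Function.Surjective π) (hker : π.ker ≤ Subgroup.center G) : (Subgroup.center G).map π = Subgroup.center Q := by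
  refine le_antisymm ?_ fun q hq => ?_
  · rintro _ ⟨z, hz, rfl⟩
    rw [Subgroup.mem_center_iff]
    intro q
    obtain ⟨g, rfl⟩ := hπ q
    rw [← map_mul, ← map_mul, Subgroup.mem_center_iff.mp hz g]
  · obtain ⟨g, rfl⟩ := hπ q
    refine ⟨g, ?_, rfl⟩
    have key : ∀ x, g * x * g⁻¹ * x⁻¹ ∈ π.ker := fun x => by
      rw [MonoidHom.mem_ker]
      simp only [map_mul, map_inv]
      rw [← Subgroup.mem_center_iff.mp hq (π x), mul_assoc (π x), mul_inv_cancel, mul_one, mul_inv_cancel]
    have hcomm : ∀ a b : π.ker, a * b = b * a := fun a b =>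
      Subtype.ext (Subgroup.mem_center_iff.mp (hker b.2) a.1)
    let C : CommGroup π.ker := { (inferInstance : Group π.ker) with mul_comm := hcomm }
    let f : G →* π.ker := MonoidHom.mk' (fun x => ⟨g * x * g⁻¹ * x⁻¹, key x⟩) fun x y => Subtype.ext (by
      show g * (x * y) * g⁻¹ * (x * y)⁻¹ = g * x * g⁻¹ * x⁻¹ * (g * y * g⁻¹ * y⁻¹)
      calc g * (x * y) * g⁻¹ * (x * y)⁻¹
          = g * x * g⁻¹ * ((g * y * g⁻¹ * y⁻¹) * x⁻¹) := by group
        _ = g * x * g⁻¹ * (x⁻¹ * (g * y * g⁻¹ * y⁻¹)) := by
            rw [Subgroup.mem_center_iff.mp (hker (key y)) x⁻¹]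
        _ = _ := by group)
    rw [SetLike.mem_coe, Subgroup.mem_center_iff]
    intro x
    have h1 : f x = 1 := Abelianization.commutator_subset_ker f (by
      rw [hG.commutator_eq_top]; exact Subgroup.mem_top x)
    have h2 : g * x * g⁻¹ * x⁻¹ = 1 := congrArg Subtype.val h1
    rw [mul_inv_eq_one, mul_inv_eq_iff_eq_mul] at h2
    exact h2.symm

end Cfsg.Agent.S3962
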