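import Cfsg.Statements.S3967
import Mathlib
import Cfsg.Agent.Lib.Schur.Metacyclic

set_option autoImplicit false
open Cfsg

namespace Cfsg.Agent.S3967

/-- Let `m, n ≥ 1`, `r ≥ 1` with `r ^ n ≡ 1 (mod m)`, and `l` a natural number; put `d = gcd(m, r - 1)`, `t = m l / d` and `h = d · gcd(m, 1 + r + ⋯ + r^(n-1)) / m`. The group presented by generators `a, b` and relations `a ^ m = 1`, `b ^ n = a ^ t`, `b a b⁻¹ = a ^ r` (a metacyclic group of order `m n`) has Schur multiplier cyclic of order `gcd(l, h)`. -/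
theorem result (m n r l : ℕ) (hm : 0 < m) (hn : 0 < n) (hr : 0 < r) (hrn : r ^ n ≡ 1 [MOD m]) : Cfsg.HasCyclicSchurMultiplier (PresentedGroup ({FreeGroup.of true ^ m, (FreeGroup.of false) ^ n * (FreeGroup.of true ^ (m * l / Nat.gcd m (r - 1)))⁻¹, FreeGroup.of false * FreeGroup.of true * (FreeGroup.of false)⁻¹ * (FreeGroup.of true ^ r)⁻¹} : Set (FreeGroup Bool))) (Nat.gcd l (Nat.gcd m (r - 1) * Nat.gcd m (∑ i ∈ Finset.range n, r ^ i) / m)) := by
  refine Cfsg.Agent.Lib.Schur.Metacyclic.multiplier (a := PresentedGroup.of true)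
    (b := PresentedGroup.of false) m n r l hm hn hr hrn ?_ ?_ ?_ ?_ ?_
  · rw [eq_top_iff, ← PresentedGroup.closure_range_of, Subgroup.closure_le]
    rintro z ⟨b, rfl⟩
    cases b
    · exact Subgroup.subset_closure (Or.inr rfl)
    · exact Subgroup.subset_closure (Or.inl rfl)
  · refine (map_pow (PresentedGroup.mk _) _ _).symm.trans ?_
    exact PresentedGroup.one_of_mem (Or.inl rfl)
  · refine (map_pow (PresentedGroup.mk _) _ _).symm.trans (Eq.trans ?_ (map_pow (PresentedGroup.mk _) _ _))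
    exact PresentedGroup.mk_eq_mk_of_mul_inv_mem (Or.inr (Or.inl rfl))
  · refine Eq.trans ?_ (map_pow (PresentedGroup.mk _) _ _)
    refine Eq.trans ?_ (PresentedGroup.mk_eq_mk_of_mul_inv_mem (Or.inr (Or.inr rfl)))
    simp [PresentedGroup.of]
  · intro H _ a' b' h1 h2 h3
    refine ⟨PresentedGroup.toGroup (f := fun c => if c then a' else b') ?_, ?_, ?_⟩
    · rintro w (rfl | rfl | rfl) <;> simp [h1, h2, h3]
    · rw [PresentedGroup.toGroup.of]; simp
    · rw [PresentedGroup.toGroup.of]; simp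

end Cfsg.Agent.S3967
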