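import Cfsg.Statements.S3968
import Mathlib
import Cfsg.Agent.Lib.Burnside.Core
import Cfsg.Agent.Lib.Involution.Basic

set_option autoImplicit false
open Cfsg
open scoped Pointwise

namespace Cfsg.Agent.S3968

/-- Let `p` be a prime and `G` a finite group with a faithful irreducible complex character of degree `p` (so `G` is an irreducible linear group in `p` variables). If `p ^ 2` divides the order of `G`, then the centre of `G` is nontrivial. -/
theorem result {G : Type*} [Group G] [Finite G] (p : ℕ) (hp : p.Prime) (χ : Cfsg.IrrCharacter G) (hdeg : χ.1 1 = p) (hfaith : ∀ g : G, χ.1 g = χ.1 1 → g = 1) (hdiv : p ^ 2 ∣ Nat.card G) : Subgroup.center G ≠ ⊥ := by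
  obtain ⟨n, ρ, hirr, hρ⟩ := χ.2
  haveI := hirr
  have hdim : (Module.finrank ℂ (Fin n → ℂ) : ℂ) = p := by rw [← ρ.char_one, hρ, hdeg]
  have hdim' : Module.finrank ℂ (Fin n → ℂ) = p := by exact_mod_cast hdim
  have hinj : ∀ g, ρ g = 1 → g = 1 := fun g hg => hfaith g (by
    rw [← hρ]; simp [Representation.character, hg])
  intro hZ
  haveI : Fact p.Prime := ⟨hp⟩
  let P : Sylow p G := default
  -- values on the centre of `P`
  set Z := (Subgroup.center (P : Subgroup G)).map (P : Subgroup G).subtype
  have hval : ∀ x ∈ Z, x ≠ 1 → ρ.character x = 0 := by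
    rintro _ ⟨x, hx, rfl⟩ hx1
    have hP : (P : Subgroup G) ≤ Subgroup.centralizer {(x : G)} := fun w hw =>
      Subgroup.mem_centralizer_singleton_iff.mpr
        (congrArg Subtype.val (Subgroup.mem_center_iff.mp hx ⟨w, hw⟩))
    have hcop : (Nat.card {y : G // IsConj (x : G) y}).Coprime (Module.finrank ℂ (Fin n → ℂ)) := by
      have h := Cfsg.Agent.Lib.Involution.card_isConj_mul_card_centralizer (x : G)
      have hidx : Nat.card {y : G // IsConj (x : G) y} = (Subgroup.centralizer {(x : G)}).index := by
        rw [← Subgroup.index_mul_card (Subgroup.centralizer {(x : G)})] at h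
        exact Nat.eq_of_mul_eq_mul_right Nat.card_pos h
      rw [hdim', hidx, Nat.coprime_comm, hp.coprime_iff_not_dvd]
      exact fun hd => P.not_dvd_index (hd.trans (Subgroup.index_dvd_of_le hP))
    rcases Cfsg.Agent.Lib.Burnside.char_eq_zero_or_scalar ρ (x : G) hcop with h | ⟨c, hc⟩
    · exact h
    · refine absurd ((Subgroup.eq_bot_iff_forall _).mp hZ _ (Subgroup.mem_center_iff.mpr fun g => ?_)) hx1
      apply mul_inv_eq_one.mp
      refine hinj _ ?_
      have hcomm : ρ g * ρ (x : G) = ρ (x : G) * ρ g := by rw [hc]; simp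
      show ρ (g * (x : G) * ((x : G) * g)⁻¹) = 1
      rw [map_mul, map_mul, hcomm, ← map_mul, ← map_mul, mul_inv_cancel, map_one]
  haveI : Nontrivial (P : Subgroup G) := by
    rw [← Finite.one_lt_card_iff_nontrivial, P.card_eq_multiplicity]
    exact Nat.one_lt_pow (hp.factorization_pos_of_dvd Nat.card_pos.ne'
      ((dvd_pow_self p two_ne_zero).trans hdiv)).ne' hp.one_lt
  have hP2 : p ^ 2 ∣ Nat.card (P : Subgroup G) := by
    rw [P.card_eq_multiplicity]
    exact pow_dvd_pow p ((hp.pow_dvd_iff_le_factorization Nat.card_pos.ne').mp hdiv)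
  have hZcard : Nat.card Z = p := by
    cases nonempty_fintype Z
    let σ : Representation ℂ Z (Fin n → ℂ) := ρ.comp Z.subtype
    haveI : Invertible (Nat.card Z : ℂ) := invertibleOfNonzero (Nat.cast_ne_zero.mpr Nat.card_pos.ne')
    have h := Representation.card_inv_mul_sum_char_eq_finrank σ
    rw [show (∑ g, σ.character g) = ∑ g : Z, ρ.character (g : G) from rfl,
      Finset.sum_eq_single (1 : Z) (fun z _ hz => hval z.1 z.2 (fun hc => hz (Subtype.ext hc)))
      (fun h => absurd (Finset.mem_univ _) h), OneMemClass.coe_one, ρ.char_one, hdim'] at h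
    have hd : Nat.card Z ∣ p := ⟨Module.finrank ℂ σ.invariants, by
      have h2 := congrArg (fun z : ℂ => (Nat.card Z : ℂ) * z) h
      simp only [Nat.card_eq_fintype_card] at h2 ⊢
      rw [mul_inv_cancel_left₀ (Nat.cast_ne_zero.mpr Fintype.card_pos.ne')] at h2
      exact_mod_cast h2⟩
    rcases hp.eq_one_or_self_of_dvd _ hd with h1 | h1
    · have hcn := P.isPGroup'.center_nontrivial
      rw [Subgroup.card_map_of_injective (P : Subgroup G).subtype_injective] at h1
      exact absurd h1 (Finite.one_lt_card_iff_nontrivial.mpr hcn).ne'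
    · exact h1
  -- a generator of the centre has simple spectrum
  obtain ⟨⟨z, hz⟩, hz1⟩ : ∃ z : Z, z ≠ 1 := by
    haveI : Nontrivial Z := Finite.one_lt_card_iff_nontrivial.mp (hZcard ▸ hp.one_lt)
    exact exists_ne 1
  have hzo : orderOf z = p := by
    have h := orderOf_eq_prime (p := p) (x := (⟨z, hz⟩ : Z)) (hZcard ▸ pow_card_eq_one') hz1
    rwa [Subgroup.orderOf_mk] at h
  obtain ⟨ι, hι, b, μ, hμ, hb⟩ := Cfsg.Agent.Lib.Chars.exists_eigenbasis ρ z
  have hcardι : Fintype.card ι = p := (Module.finrank_eq_card_basis b).symm.trans hdim'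
  have hμinj : Function.Injective μ := by
    classical
    intro i j hij
    by_contra hne
    have hpow : ∀ k : ℕ, ∑ i, μ i ^ k = ρ.character (z ^ k) := fun k =>
      (Cfsg.Agent.Lib.Chars.trace_eq_sum_of_eigenbasis _ b _ fun i => by
        rw [map_pow]
        induction k with
        | zero => simp
        | succ k ih => rw [pow_succ, Module.End.mul_apply, hb, map_smul, ih, smul_smul, pow_succ']).symm
    have hne0 : μ j ≠ 0 := fun h => by
      have := hμ j
      rw [h, zero_pow (orderOf_pos z).ne'] at this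
      exact zero_ne_one this
    -- count the indices with eigenvalue `μ j`
    have hsum : ∀ ζ : ℂ, ζ ^ p = 1 → ∑ k ∈ Finset.range p, ζ ^ k = if ζ = 1 then (p : ℂ) else 0 := by
      intro ζ hζ
      split_ifs with h
      · simp [h]
      · rw [geom_sum_eq h, hζ, sub_self, zero_div]
    have h1 : ∑ k ∈ Finset.range p, ((μ j)⁻¹) ^ k * ∑ i, μ i ^ k =
        ((Finset.univ.filter fun i => μ i = μ j).card : ℂ) * p := by
      simp only [Finset.mul_sum, ← mul_pow]
      rw [Finset.sum_comm]
      have : ∀ i, ∑ k ∈ Finset.range p, ((μ j)⁻¹ * μ i) ^ k = if μ i = μ j then (p : ℂ) else 0 := by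
        intro i
        rw [hsum _ (by rw [mul_pow, inv_pow, ← hzo, hμ, hμ, inv_one, one_mul])]
        refine if_congr ⟨fun h => ?_, fun h => by rw [h, inv_mul_cancel₀ hne0]⟩ rfl rfl
        exact ((inv_mul_eq_one₀ hne0).mp h).symm
      simp only [this, Finset.sum_ite, Finset.sum_const_zero, add_zero, Finset.sum_const, nsmul_eq_mul]
    rw [Finset.sum_eq_single 0 (fun k hk hk0 => by
        rw [hpow, hval _ (pow_mem hz k) (pow_ne_one_of_lt_orderOf hk0
          (hzo.symm ▸ Finset.mem_range.mp hk)), mul_zero])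
      (fun h => absurd (Finset.mem_range.mpr hp.pos) h)] at h1
    have h1' : (Finset.univ.filter fun i => μ i = μ j).card * p = 1 * p := by
      have h3 : (((Finset.univ.filter fun i => μ i = μ j).card : ℂ)) * p = p :=
        h1.symm.trans (by simp [hcardι])
      rw [one_mul]
      exact_mod_cast h3
    have h2 : 1 < (Finset.univ.filter fun i => μ i = μ j).card :=
      Finset.one_lt_card.mpr ⟨i, by simp [hij], j, by simp, hne⟩
    have := Nat.eq_of_mul_eq_mul_right hp.pos h1'
    omega
  have hdiag : ∀ w ∈ (P : Subgroup G), ∃ d : ι → ℂ, ∀ i, ρ w (b i) = d i • b i := by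
    intro w hw
    obtain ⟨⟨z', hz'P⟩, hz'c, hzz'⟩ := hz
    have hcom : ρ w * ρ z = ρ z * ρ w := by
      have h : w * z' = z' * w := congrArg Subtype.val (Subgroup.mem_center_iff.mp hz'c ⟨w, hw⟩)
      change z' = z at hzz'
      rw [← map_mul, ← map_mul, ← hzz', h]
    refine ⟨fun i => b.repr (ρ w (b i)) i, fun i => b.repr.injective (Finsupp.ext fun k => ?_)⟩
    rw [map_smul, b.repr_self, Finsupp.smul_apply, smul_eq_mul]
    rcases eq_or_ne k i with rfl | hk
    · simp
    · rw [Finsupp.single_eq_of_ne hk, mul_zero]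
      have h1 : ρ z (ρ w (b i)) = μ i • ρ w (b i) := by
        rw [← Module.End.mul_apply, ← hcom, Module.End.mul_apply, hb, map_smul]
      have h2 : ∀ v, b.repr (ρ z v) k = μ k * b.repr v k := fun v => by
        have hlin : (b.coord k).comp (ρ z) = μ k • b.coord k := b.ext fun i' => by
          simp only [LinearMap.comp_apply, hb, map_smul, LinearMap.smul_apply,
            Module.Basis.coord_apply, b.repr_self, smul_eq_mul]
          rcases eq_or_ne k i' with rfl | hne
          · simp
          · simp [hne]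
        exact LinearMap.congr_fun hlin v
      have h3 := congrArg (fun v => b.repr v k) h1
      simp only [h2, map_smul, Finsupp.smul_apply, smul_eq_mul] at h3
      rcases mul_eq_mul_right_iff.mp h3 with h4 | h4
      · exact absurd (hμinj h4) hk
      · exact h4
  have hab : (Subgroup.center (P : Subgroup G)) = ⊤ := by
    rw [Subgroup.eq_top_iff']
    intro x
    rw [Subgroup.mem_center_iff]
    intro y
    obtain ⟨d, hd⟩ := hdiag x x.2
    obtain ⟨e, he⟩ := hdiag y y.2
    refine Subtype.ext (mul_inv_eq_one.mp (hinj _ ?_))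
    have hc : ρ (y : G) * ρ (x : G) = ρ (x : G) * ρ (y : G) :=
      b.ext fun i => by simp [hd, he, smul_smul, mul_comm]
    show ρ ((y : G) * x * ((x : G) * y)⁻¹) = 1
    rw [map_mul, map_mul, hc, ← map_mul, ← map_mul, mul_inv_cancel, map_one]
  rw [Subgroup.card_map_of_injective (P : Subgroup G).subtype_injective, hab, Subgroup.card_top] at hZcard
  rw [hZcard] at hP2
  exact absurd (Nat.le_of_dvd hp.pos hP2) (by nlinarith [hp.two_le])

end Cfsg.Agent.S3968
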