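import Cfsg.Statements.S3970
import Mathlib
import Cfsg.Agent.Lib.AbelianSylow.Rank
import Cfsg.Agent.Lib.Transfer.Criteria

set_option autoImplicit false
open Cfsg

namespace Cfsg.Agent.S3970

universe u

/-- The induction behind the criterion. -/
theorem main : ∀ (N : ℕ) (G : Type u) [Group G] [Finite G], Nat.card G = N →
    (∀ p : ℕ, p.Prime → p ∣ Nat.card G → (∃ q : ℕ, q.Prime ∧ q ∣ Nat.card G ∧ p < q) →
      ∀ P : Sylow p G, IsMulCommutative (P : Subgroup G) ∧ Group.rank (P : Subgroup G) ≤ 2) →
    ¬ 12 ∣ Nat.card G → Group.IsSolvable G := by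
  intro N
  induction N using Nat.strong_induction_on with
  | _ N ih =>
  intro G _ _ hN h h12
  subst hN
  rcases eq_or_ne (Nat.card G) 1 with h1 | h1
  · haveI := (Nat.card_eq_one_iff_unique.mp h1).1
    infer_instance
  -- the least prime divisor
  set p := (Nat.card G).minFac
  have hp : p.Prime := Nat.minFac_prime h1
  have hpd : p ∣ Nat.card G := Nat.minFac_dvd _
  haveI := Fact.mk hp
  by_cases hq : ∃ q : ℕ, q.Prime ∧ q ∣ Nat.card G ∧ p < q
  swap
  · -- a `p`-group
    have hG : IsPGroup p G := by
      refine IsPGroup.of_card (n := (Nat.card G).primeFactorsList.length) ?_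
      refine Nat.eq_prime_pow_of_unique_prime_dvd Nat.card_pos.ne' fun {q} hq' hqd => ?_
      by_contra hne
      exact hq ⟨q, hq', hqd, lt_of_le_of_ne (Nat.minFac_le_of_dvd hq'.two_le hqd) (Ne.symm hne)⟩
    haveI := hG.isNilpotent
    infer_instance
  let P : Sylow p G := default
  obtain ⟨hab, hrk⟩ := h p hp hpd hq P
  have hcompl : Cfsg.HasNormalPComplement p G := by
    have hgt : ∀ r : ℕ, r.Prime → r ∣ Nat.card G → r ≠ p → p < r := fun r hr hrd hne =>
      lt_of_le_of_ne (Nat.minFac_le_of_dvd hr.two_le hrd) (Ne.symm hne)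
    by_cases hcase : p = 2 ∧ 3 ∣ Nat.card G
    · -- the Sylow 2-subgroup has order two
      obtain ⟨hp2, h3⟩ := hcase
      have h4 : ¬ 4 ∣ Nat.card G := fun h4 => h12 (by
        simpa using Nat.Coprime.mul_dvd_of_dvd_of_dvd (by norm_num : Nat.Coprime 4 3) h4 h3)
      obtain ⟨k, hk⟩ := IsPGroup.iff_card.mp P.isPGroup'
      refine Cfsg.Agent.Lib.Transfer.hasNormalPComplement_of_forall_prime P hab hk
        fun r hr hrd hne i hi1 hi2 hri => ?_
      have hk1 : k ≤ 1 := by
        by_contra hk1
        apply h4
        have h5 : p ^ 2 ∣ Nat.card G :=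
          ((pow_dvd_pow p (show 2 ≤ k by omega)).trans (dvd_of_eq hk.symm)).trans
            (Subgroup.card_subgroup_dvd_card (P : Subgroup G))
        rwa [hp2] at h5
      rw [show i = 1 by omega, pow_one, hp2] at hri
      exact hr.not_dvd_one hri
    · refine Cfsg.Agent.Lib.AbelianSylow.hasNormalPComplement_of_rank P hab
        fun r hr hrd hne i hi1 hi2 hri => ?_
      have hpr := hgt r hr hrd hne
      have hp1 := hp.two_le
      have h2 : r ∣ p - 1 ∨ r ∣ p + 1 := by
        rcases (show i = 1 ∨ i = 2 by omega) with rfl | rfl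
        · left; rwa [pow_one] at hri
        · apply hr.dvd_mul.mp
          rw [mul_comm, ← Nat.sq_sub_sq, one_pow]
          exact hri
      rcases h2 with h2 | h2
      · exact absurd (Nat.le_of_dvd (by omega) h2) (by omega)
      · have hle : r = p + 1 := le_antisymm (Nat.le_of_dvd (by omega) h2) (by omega)
        rcases hp.eq_two_or_odd' with hp2 | hodd
        · exact hcase ⟨hp2, by rw [hp2] at hle; rw [hle] at hrd; exact hrd⟩
        · obtain ⟨t, ht⟩ := hodd
          have : 2 ∣ r := ⟨t + 1, by omega⟩
          have := (Nat.prime_dvd_prime_iff_eq Nat.prime_two hr).mp this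
          omega
  obtain ⟨P', K, hK, hc⟩ := hcompl
  have hmul := hc.card_mul
  have hP'1 : 1 < Nat.card (P' : Subgroup G) := by
    rw [P'.card_eq_multiplicity]
    exact Nat.one_lt_pow (hp.factorization_pos_of_dvd Nat.card_pos.ne' hpd).ne' hp.one_lt
  have hlt : Nat.card K < Nat.card G := by
    have := lt_mul_right (Nat.card_pos (α := K)) hP'1
    omega
  have hKd : Nat.card K ∣ Nat.card G := Subgroup.card_subgroup_dvd_card K
  haveI hKs : Group.IsSolvable K := by
    refine ih _ hlt K rfl (fun r hr hrd ⟨q, hq', hqd, hrq⟩ R => ?_) fun h => h12 (h.trans hKd)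
    haveI := Fact.mk hr
    obtain ⟨S, hS⟩ := (R.isPGroup'.map K.subtype).exists_le_sylow
    obtain ⟨hSab, hSrk⟩ := h r hr (hrd.trans hKd) ⟨q, hq', hqd.trans hKd, hrq⟩ S
    have heq : (R : Subgroup K).map K.subtype = (S : Subgroup G) := by
      refine Subgroup.eq_of_le_of_card_ge hS ?_
      rw [Subgroup.card_map_of_injective K.subtype_injective, R.card_eq_multiplicity, S.card_eq_multiplicity]
      refine Nat.pow_le_pow_right hr.pos ?_
      have hrp : r ≠ p := fun he => by
        have hz : ¬ p ∣ Nat.card K := by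
          rw [← hc.index_eq_card]; exact P'.not_dvd_index
        exact hz (he ▸ hrd)
      have hm := congrArg (fun m => m.factorization r) hmul
      simp only [P'.card_eq_multiplicity] at hm
      rw [Nat.factorization_mul Nat.card_pos.ne' (pow_ne_zero _ hp.ne_zero), Finsupp.add_apply,
        Nat.Prime.factorization_pow hp, Finsupp.single_eq_of_ne hrp, add_zero] at hm
      exact hm.ge
    have e : (R : Subgroup K) ≃* (S : Subgroup G) :=
      ((R : Subgroup K).equivMapOfInjective K.subtype K.subtype_injective).trans (MulEquiv.subgroupCongr heq)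
    exact ⟨⟨⟨fun x y => e.injective (by rw [map_mul, map_mul]; exact hSab.is_comm.comm _ _)⟩⟩,
      (Group.rank_congr e).trans_le hSrk⟩
  haveI : Group.IsNilpotent (G ⧸ K) := by
    obtain ⟨k, hk⟩ := IsPGroup.iff_card.mp P'.isPGroup'
    exact (IsPGroup.of_card (p := p) (n := k) (by
      rw [← Subgroup.index_eq_card, hc.symm.index_eq_card, hk])).isNilpotent
  exact Group.isSolvable_of_ker_le_range K.subtype (QuotientGroup.mk' K)
    (by rw [QuotientGroup.ker_mk', Subgroup.range_subtype])

/-- Let `G` be a finite group such that for every prime `p` dividing its order, other than the largest such prime, the Sylow `p`-subgroups are abelian and generated by at most two elements, and suppose `12` does not divide the order of `G`. Then `G` is solvable. In particular a group of cube-free order not divisible by `12` is solvable. -/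
theorem result {G : Type*} [Group G] [Finite G] (h : ∀ p : ℕ, p.Prime → p ∣ Nat.card G → (∃ q : ℕ, q.Prime ∧ q ∣ Nat.card G ∧ p < q) → ∀ P : Sylow p G, IsMulCommutative (P : Subgroup G) ∧ Group.rank (P : Subgroup G) ≤ 2) (h12 : ¬ 12 ∣ Nat.card G) : Group.IsSolvable G := by
  exact Cfsg.Agent.S3970.main _ G rfl h h12

end Cfsg.Agent.S3970
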