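import Cfsg.Statements.S3971
import Mathlib
import Cfsg.Agent.Lib.AbelianSylow.Rank
import Cfsg.Agent.Lib.Transfer.Criteria

set_option autoImplicit false
open Cfsg

namespace Cfsg.Agent.S3971

/-- In a 2-group with a cyclic subgroup of index at most two, an automorphism of prime order
`r ≥ 5` is trivial. -/
theorem aut_eq_one {Q : Type*} [Group Q] [Finite Q] (hQ : IsPGroup 2 Q) (C : Subgroup Q)
    (hC : IsCyclic C) (hidx : C.index ≤ 2) {r : ℕ} (hr : r.Prime) (hr5 : 5 ≤ r) (β : MulAut Q)
    (hβ : β ^ r = 1) : β = 1 := by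
  haveI := Fact.mk hr
  have hr2 : r ≠ 2 := by omega
  -- automorphisms of cyclic 2-groups of odd order are trivial
  have hcyc : ∀ (D : Subgroup Q), IsCyclic D → ∀ δ : MulAut D, δ ^ r = 1 → δ = 1 := by
    intro D hD δ hδ
    obtain ⟨k, hk⟩ := IsPGroup.iff_card.mp (hQ.to_subgroup D)
    have h1 : orderOf δ ∣ Nat.totient (2 ^ k) := by
      have := orderOf_dvd_natCard δ
      rwa [IsCyclic.card_mulAut (h := hD), hk] at this
    rcases (Nat.dvd_prime hr).mp (orderOf_dvd_of_pow_eq_one hδ) with h | h
    · exact orderOf_eq_one_iff.mp h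
    · exfalso
      rw [h] at h1
      cases k with
      | zero => simp at h1; omega
      | succ k =>
        rw [Nat.totient_prime_pow_succ Nat.prime_two, show (2 - 1 : ℕ) = 1 from rfl, mul_one] at h1
        exact hr2 ((Nat.prime_dvd_prime_iff_eq hr Nat.prime_two).mp (hr.dvd_of_dvd_pow h1))
  -- restriction to an invariant subgroup
  have hrestr : ∀ (D : Subgroup Q), IsCyclic D → D.map β.toMonoidHom = D → ∀ d ∈ D, β d = d := by
    intro D hD hmap d hd
    let δ : MulAut D := (β.subgroupMap D).trans (MulEquiv.subgroupCongr hmap)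
    have hval : ∀ k : ℕ, ∀ a : D, ((δ ^ k) a : Q) = (β ^ k) a.1 := by
      intro k
      induction k with
      | zero => intro a; rfl
      | succ k ih =>
        intro a
        rw [pow_succ', pow_succ', MulAut.mul_apply, MulAut.mul_apply, ← ih a]
        rfl
    have h1 := hcyc D hD δ (MulEquiv.ext fun a => Subtype.ext (by rw [hval, hβ]; rfl))
    have h2 := hval 1 ⟨d, hd⟩
    rw [h1, one_pow, pow_one] at h2
    exact h2.symm
  rcases Nat.lt_or_ge C.index 2 with hlt | hge
  · -- cyclic
    have hCt : C = ⊤ := Subgroup.index_eq_one.mp (by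
      have := Nat.pos_of_ne_zero (Subgroup.index_ne_zero_of_finite (H := C))
      omega)
    refine MulEquiv.ext fun a => hrestr C hC ?_ a (hCt ▸ Subgroup.mem_top a)
    rw [hCt, ← MonoidHom.range_eq_map, MonoidHom.range_eq_top.mpr β.surjective]
  have hidx2 : C.index = 2 := le_antisymm hidx hge
  obtain ⟨u, hu⟩ := (Subgroup.isCyclic_iff_exists_zpowers_eq_top C).mp hC
  obtain ⟨v, hv⟩ : ∃ v, v ∉ C := by
    by_contra hall; push Not at hall
    rw [(Subgroup.eq_top_iff' C).mpr hall, Subgroup.index_top] at hidx2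
    omega
  have hinC : ∀ w, w ∉ C → v⁻¹ * w ∈ C := fun w hw => by
    rw [Subgroup.mul_mem_iff_of_index_two hidx2, inv_mem_iff]
    exact iff_of_false hv hw
  -- the index two subgroups are determined by two bits
  have hdet : ∀ D E : Subgroup Q, D.index = 2 → E.index = 2 → (u ∈ D ↔ u ∈ E) → (v ∈ D ↔ v ∈ E) → D = E := by
    intro D E hD hE hDu hDv
    let S : Subgroup Q :=
      { carrier := {w | w ∈ D ↔ w ∈ E}
        mul_mem' := fun {a b} ha hb => by
          show a * b ∈ D ↔ a * b ∈ E
          rw [Subgroup.mul_mem_iff_of_index_two hD, Subgroup.mul_mem_iff_of_index_two hE]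
          exact iff_congr ha hb
        one_mem' := iff_of_true D.one_mem E.one_mem
        inv_mem' := fun {a} ha => by show a⁻¹ ∈ D ↔ a⁻¹ ∈ E; rw [inv_mem_iff, inv_mem_iff]; exact ha }
    have hCS : C ≤ S := hu ▸ Subgroup.zpowers_le.mpr hDu
    have htop : ∀ w, w ∈ S := fun w => by
      by_cases hw : w ∈ C
      · exact hCS hw
      · have := S.mul_mem hDv (hCS (hinC w hw))
        rwa [mul_inv_cancel_left] at this
    exact Subgroup.ext htop
  -- the orbit of C has fewer than r elements
  let φ : Subgroup Q → Subgroup Q := fun D => D.map β.toMonoidHom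
  have hφk : ∀ k : ℕ, φ^[k] C = C.map (β ^ k : MulAut Q).toMonoidHom := by
    intro k
    induction k with
    | zero => exact (Subgroup.map_id C).symm
    | succ k ih =>
      rw [Function.iterate_succ_apply', ih]
      simp only [φ, Subgroup.map_map]
      congr 1
      exact MonoidHom.ext fun a => by simp [pow_succ', MulAut.mul_apply]
  have hper : Function.IsPeriodicPt φ r C := by
    show φ^[r] C = C
    rw [hφk, hβ]
    exact Subgroup.map_id C
  have hfix : φ C = C := by
    rcases (Nat.dvd_prime hr).mp hper.minimalPeriod_dvd with h | h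
    · exact Function.minimalPeriod_eq_one_iff_isFixedPt.mp h
    · exfalso
      classical
      have hidxk : ∀ k, (φ^[k] C).index = 2 := fun k => by
        rw [hφk]; exact (Subgroup.index_map_equiv C (β ^ k)).trans hidx2
      have hinj : Function.Injective fun k : Fin r => (decide (u ∈ φ^[k.1] C), decide (v ∈ φ^[k.1] C)) := by
        intro i j hij
        simp only [Prod.mk.injEq, decide_eq_decide] at hij
        have := hdet _ _ (hidxk i) (hidxk j) hij.1 hij.2
        exact Fin.ext (Function.iterate_injOn_Iio_minimalPeriod (h.symm ▸ i.2) (h.symm ▸ j.2) this)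
      have := Fintype.card_le_of_injective _ hinj
      simp only [Fintype.card_fin, Fintype.card_prod, Fintype.card_bool] at this
      omega
  have hC1 := hrestr C hC hfix
  have hc : v⁻¹ * β v ∈ C := by
    refine hinC _ fun hbv => hv ?_
    rw [← hfix] at hbv
    obtain ⟨w, hw, hwv⟩ := hbv
    rwa [← β.injective hwv]
  have hit : ∀ j : ℕ, (β ^ j) v = v * (v⁻¹ * β v) ^ j := by
    intro j
    induction j with
    | zero => simp
    | succ j ih =>
      rw [pow_succ', MulAut.mul_apply, ih, map_mul, map_pow, hC1 _ hc, pow_succ', ← mul_assoc v,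
        mul_inv_cancel_left]
  have h3 := hit r
  rw [hβ, MulAut.one_apply, left_eq_mul] at h3
  obtain ⟨k, hk⟩ := IsPGroup.iff_orderOf.mp hQ (v⁻¹ * β v)
  have hvfix : β v = v := by
    have h4 : v⁻¹ * β v = 1 := orderOf_eq_one_iff.mp (Nat.eq_one_of_dvd_coprimes
      (((Nat.coprime_primes hr Nat.prime_two).mpr hr2).pow_right k)
      (orderOf_dvd_of_pow_eq_one h3) (dvd_of_eq hk))
    exact (inv_mul_eq_one.mp h4).symm
  refine MulEquiv.ext fun a => ?_
  by_cases ha : a ∈ C
  · exact hC1 a ha
  · have := hC1 _ (hinC a ha)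
    rw [map_mul, map_inv, hvfix, mul_right_inj] at this
    exact this

/-- Let `G` be a finite group of order `2 ^ a * n` with `n` odd and not divisible by `3`, and suppose `G` has an element of order `2 ^ (a - 1)` (so a Sylow `2`-subgroup has a cyclic subgroup of index at most `2`). Then `G` has a normal subgroup of order `n`. -/
theorem result {G : Type*} [Group G] [Finite G] (a n : ℕ) (hG : Nat.card G = 2 ^ a * n) (hn : Odd n) (h3 : ¬ 3 ∣ n) (hx : ∃ x : G, orderOf x = 2 ^ (a - 1)) : ∃ N : Subgroup G, N.Normal ∧ Nat.card N = n := by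
  have hcompl : Cfsg.HasNormalPComplement 2 G := by
    rw [Cfsg.Agent.Lib.Transfer.hasNormalPComplement_iff_locallyPTrivial]
    intro Q hQ g hg hgo
    set f := Q.normalizerMonoidHom
    by_contra hgc
    have hne : orderOf (f ⟨g, hg⟩) ≠ 1 := fun h1 => hgc (by
      have hk : (⟨g, hg⟩ : Subgroup.normalizer (Q : Set G)) ∈ f.ker := orderOf_eq_one_iff.mp h1
      rw [Subgroup.normalizerMonoidHom_ker] at hk
      exact hk)
    obtain ⟨r, hr, hrd⟩ := Nat.exists_prime_and_dvd hne
    have hro : r ∣ orderOf g := hrd.trans ((orderOf_map_dvd f _).trans (dvd_of_eq (Subgroup.orderOf_mk g hg)))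
    have hr2 : r ≠ 2 := fun h => by
      subst h
      exact Nat.not_coprime_of_dvd_of_dvd one_lt_two hro dvd_rfl hgo
    have hr3 : r ≠ 3 := fun h => by
      subst h
      have h1 := hro.trans (orderOf_dvd_natCard g)
      rw [hG] at h1
      exact h3 (((Nat.coprime_primes Nat.prime_three Nat.prime_two).mpr (by norm_num)).pow_right a |>.dvd_of_dvd_mul_left h1)
    have hr5 : 5 ≤ r := by
      have := hr.two_le
      rcases Nat.lt_or_ge r 5 with h | h
      · interval_cases r <;> first | exact absurd rfl hr2 | exact absurd rfl hr3 | exact absurd hr (by norm_num)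
      · exact h
    -- a cyclic subgroup of index at most two in Q
    obtain ⟨x, hx⟩ := hx
    have hxp : IsPGroup 2 (Subgroup.zpowers x) := IsPGroup.of_card (n := a - 1) (by rw [Nat.card_zpowers, hx])
    obtain ⟨S, hS⟩ := hxp.exists_le_sylow
    obtain ⟨T, hT⟩ := hQ.exists_le_sylow
    obtain ⟨c, hc⟩ := MulAction.exists_smul_eq G S T
    set K := (Subgroup.zpowers x).map (MulAut.conj c).toMonoidHom
    have hSc : Nat.card (T : Subgroup G) = 2 ^ a := by
      rw [T.card_eq_multiplicity, hG, Nat.factorization_mul (by positivity) (Nat.ne_of_gt hn.pos),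
        Finsupp.add_apply, Nat.factorization_eq_zero_of_not_dvd (p := 2) (n := n) (by
          rw [← even_iff_two_dvd]; exact Nat.not_even_iff_odd.mpr hn),
        Nat.Prime.factorization_pow Nat.prime_two, Finsupp.single_eq_same, add_zero]
    have hKT : K ≤ (T : Subgroup G) := by
      rw [← hc]; exact Subgroup.map_mono hS
    have hrel : K.relIndex (T : Subgroup G) ≤ 2 := by
      have h1 := (K.subgroupOf (T : Subgroup G)).index_mul_card
      rw [Nat.card_congr (Subgroup.subgroupOfEquivOfLe hKT).toEquiv, hSc,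
        show K = (Subgroup.zpowers x).map (MulAut.conj c).toMonoidHom from rfl,
        Subgroup.card_map_of_injective (MulAut.conj c).injective, Nat.card_zpowers, hx] at h1
      show (K.subgroupOf (T : Subgroup G)).index ≤ 2
      rcases Nat.eq_zero_or_pos a with rfl | ha
      · rw [Nat.zero_sub, pow_zero, mul_one] at h1
        exact le_trans (le_of_eq h1) one_le_two
      · obtain ⟨b, rfl⟩ : ∃ b, a = b + 1 := ⟨a - 1, by omega⟩
        rw [Nat.add_sub_cancel, pow_succ'] at h1
        exact le_of_eq (Nat.eq_of_mul_eq_mul_right (pow_pos two_pos b) h1)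
    haveI : IsCyclic K := isCyclic_of_surjective _ ((MulAut.conj c).toMonoidHom.subgroupMap_surjective _)
    let C : Subgroup Q := K.subgroupOf Q
    have hCc : IsCyclic C := isCyclic_of_injective
      ((Q.subtype.comp C.subtype).codRestrict K fun q => q.2) fun q₁ q₂ h =>
        Subtype.ext (Subtype.ext (congrArg (fun z : K => (z : G)) h))
    have hCi : C.index ≤ 2 := by
      refine le_trans ?_ hrel
      exact Subgroup.relIndex_le_of_le_right hT Subgroup.index_ne_zero_of_finite
    have hb1 := Cfsg.Agent.S3971.aut_eq_one hQ C hCc hCi hr hr5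
      ((f ⟨g, hg⟩) ^ (orderOf (f ⟨g, hg⟩) / r))
      (by rw [← pow_mul, Nat.div_mul_cancel hrd, pow_orderOf_eq_one])
    have h2 := orderOf_pow_orderOf_div (n := r) (isOfFinOrder_of_finite (f ⟨g, hg⟩)).orderOf_pos.ne' hrd
    rw [hb1, orderOf_one] at h2
    exact hr.one_lt.ne h2
  obtain ⟨P, N, hN, hc⟩ := hcompl
  refine ⟨N, hN, ?_⟩
  have h1 := hc.card_mul
  rw [P.card_eq_multiplicity, hG, Nat.factorization_mul (by positivity) (Nat.ne_of_gt hn.pos),
    Finsupp.add_apply, Nat.factorization_eq_zero_of_not_dvd (p := 2) (n := n) (by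
      rw [← even_iff_two_dvd]; exact Nat.not_even_iff_odd.mpr hn),
    Nat.Prime.factorization_pow Nat.prime_two, Finsupp.single_eq_same, add_zero, mul_comm] at h1
  exact Nat.eq_of_mul_eq_mul_left (pow_pos two_pos a) h1

end Cfsg.Agent.S3971
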