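import Cfsg.Statements.S3972
import Mathlib
import Cfsg.Agent.Lib.CyclicBGroup.Basic

set_option autoImplicit false
open Cfsg

namespace Cfsg.Agent.S3972

/-- Let `p` be a prime, `m ≥ 2`, and `G` a transitive but not doubly transitive permutation group on `p ^ m` points containing a permutation of order `p ^ m` (necessarily a full cycle). Then `G` is imprimitive, and the normal closure in `G` of the `p ^ (m - 1)`-th power of that permutation is an intransitive normal subgroup. -/
theorem result {Ω : Type*} [Fintype Ω] [DecidableEq Ω] (p m : ℕ) (hp : p.Prime) (hm : 2 ≤ m) (hΩ : Fintype.card Ω = p ^ m) (G : Subgroup (Equiv.Perm Ω)) (htr : MulAction.IsPretransitive G Ω) (h2 : ¬ MulAction.IsMultiplyPretransitive G Ω 2) (g : G) (hg : orderOf g = p ^ m) : ¬ MulAction.IsPreprimitive G Ω ∧ ¬ MulAction.IsPretransitive (Subgroup.normalClosure ({g ^ (p ^ (m - 1))} : Set G)) Ω := by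
  classical
  set N := p ^ m with hN
  haveI := Fact.mk hp
  haveI : NeZero N := ⟨pow_ne_zero m hp.ne_zero⟩
  set q := p ^ (m - 1) with hq
  have hpq : N = p * q := by rw [hN, hq, ← pow_succ', Nat.sub_add_cancel (by omega)]
  have hq1 : 1 < q := Nat.one_lt_pow (by omega) hp.one_lt
  set g₀ : Equiv.Perm Ω := (g : Equiv.Perm Ω) with hg₀
  have hgo : orderOf g₀ = N := by rw [hg₀, Subgroup.orderOf_coe, hg]
  -- `g` is a full cycle
  obtain ⟨ω, hω⟩ : ∃ ω : Ω, (g₀ ^ q) ω ≠ ω := by
    by_contra hall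
    push Not at hall
    have h1 : g₀ ^ q = 1 := Equiv.ext hall
    have h2 := Nat.le_of_dvd (by omega) (orderOf_dvd_of_pow_eq_one h1)
    rw [hgo, hpq] at h2
    nlinarith [hp.two_le]
  have hper : MulAction.period g₀ ω = N := by
    have h1 : MulAction.period g₀ ω ∣ N :=
      MulAction.pow_smul_eq_iff_period_dvd.mp (show g₀ ^ N • ω = ω by
        rw [← hgo, pow_orderOf_eq_one, one_smul])
    obtain ⟨j, hj, hj'⟩ := (Nat.dvd_prime_pow hp).mp h1
    rcases Nat.lt_or_ge j m with h | h
    · exfalso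
      refine hω ?_
      have : MulAction.period g₀ ω ∣ q := hj' ▸ pow_dvd_pow p (by omega)
      exact MulAction.pow_smul_eq_iff_period_dvd.mpr this
    · rw [hj', show j = m by omega]
  have hmod : ∀ a : ℕ, g₀ ^ (a % N) = g₀ ^ a := fun a => by rw [← hgo, pow_mod_orderOf]
  let f : ZMod N → Ω := fun k => (g₀ ^ k.val) ω
  have hf : Function.Injective f := by
    intro i j hij
    wlog hle : i.val ≤ j.val generalizing i j
    · exact (this hij.symm (le_of_not_ge hle)).symm
    have h1 : (g₀ ^ (j.val - i.val)) ω = ω := by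
      apply (g₀ ^ i.val).injective
      rw [← Equiv.Perm.mul_apply, ← pow_add, Nat.add_sub_cancel' hle]
      exact hij.symm
    have h2 := MulAction.pow_smul_eq_iff_period_dvd.mp (show g₀ ^ (j.val - i.val) • ω = ω from h1)
    rw [hper] at h2
    have h3 := Nat.eq_zero_of_dvd_of_lt h2 (by have := ZMod.val_lt j; omega)
    exact ZMod.val_injective N (by omega)
  let e : ZMod N ≃ Ω := Equiv.ofBijective f ((Fintype.bijective_iff_injective_and_card f).mpr
    ⟨hf, by rw [ZMod.card, hΩ]⟩)
  have he : ∀ k a : ZMod N, e (k + a) = (g₀ ^ a.val) (e k) := fun k a => by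
    show (g₀ ^ (k + a).val) ω = (g₀ ^ a.val) ((g₀ ^ k.val) ω)
    rw [ZMod.val_add, hmod, ← Equiv.Perm.mul_apply, ← pow_add, add_comm]
  let φ : Equiv.Perm Ω →* Equiv.Perm (ZMod N) :=
    MonoidHom.mk' (fun γ => e.trans (γ.trans e.symm)) fun a b => by ext k; simp
  set Γ := G.map φ with hΓ
  have hφ : ∀ (γ : Equiv.Perm Ω) (k : ZMod N), e (φ γ k) = γ (e k) := fun γ k => by simp [φ]
  have htr' : ∀ a : ZMod N, Equiv.addRight a ∈ Γ := fun a =>
    ⟨g₀ ^ a.val, pow_mem g.2 _, Equiv.ext fun k => e.injective (by rw [hφ]; exact (he k a).symm)⟩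
  -- an invariant subgroup partition
  obtain ⟨L, hLb, hLt, hL⟩ : ∃ L : AddSubgroup (ZMod N), L ≠ ⊥ ∧ L ≠ ⊤ ∧
      ∀ γ ∈ Γ, ∀ i j : ZMod N, j - i ∈ L → γ j - γ i ∈ L := by
    by_contra hno
    have hprim : Cfsg.Agent.Lib.CyclicBGroup.Prim Γ := fun L h1 h2 h3 => hno ⟨L, h1, h2, h3⟩
    refine h2 (MulAction.is_two_pretransitive_iff.mpr ?_)
    intro a b c d hab hcd
    have hx : e.symm b - e.symm a ≠ 0 := sub_ne_zero.mpr fun h => hab (e.symm.injective h).symm
    have hy : e.symm d - e.symm c ≠ 0 := sub_ne_zero.mpr fun h => hcd (e.symm.injective h).symm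
    obtain ⟨_, ⟨γ, hγ, rfl⟩, i, hi⟩ := Cfsg.Agent.Lib.CyclicBGroup.transitive_nonzero
      (Γ := Γ) htr' hpq hq1 hprim hx hy
    obtain ⟨α, hα, hαe⟩ := htr' (i - e.symm a)
    obtain ⟨β, hβ, hβe⟩ := htr' (e.symm c - φ γ i)
    refine ⟨⟨β * γ * α, G.mul_mem (G.mul_mem hβ hγ) hα⟩, ?_, ?_⟩
    · show β (γ (α a)) = c
      have h1 : α a = e i := by
        rw [← e.apply_symm_apply a, ← hφ, hαe]; simp
      rw [h1, ← hφ, ← hφ, hβe]
      simp
    · show β (γ (α b)) = d
      have h1 : α b = e (i + (e.symm b - e.symm a)) := by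
        rw [← e.apply_symm_apply b, ← hφ, hαe]; simp; abel_nf
      rw [h1, ← hφ, ← hφ, hβe]
      simp only [Equiv.coe_addRight]
      rw [show φ γ (i + (e.symm b - e.symm a)) + (e.symm c - φ γ i) = e.symm d by
        rw [sub_eq_iff_eq_add.mp hi]; abel, e.apply_symm_apply]
  have hG : ∀ γ : G, ∀ i j : ZMod N, j - i ∈ L →
      e.symm ((γ : Equiv.Perm Ω) (e j)) - e.symm ((γ : Equiv.Perm Ω) (e i)) ∈ L :=
    fun γ i j h => hL (φ γ) ⟨γ, γ.2, rfl⟩ i j h
  obtain ⟨x, hx⟩ : ∃ x, x ∉ L := by
    by_contra hall; push Not at hall; exact hLt ((AddSubgroup.eq_top_iff' L).mpr hall)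
  refine ⟨fun hprim => ?_, fun htrans => ?_⟩
  · set B : Set Ω := {w | e.symm w ∈ L}
    have hB : MulAction.IsBlock G B := by
      rw [MulAction.isBlock_iff_smul_eq_of_nonempty]
      rintro γ ⟨w, ⟨u, hu, rfl⟩, hw⟩
      have huL : e.symm ((γ : Equiv.Perm Ω) u) ∈ L := hw
      have hu' : e.symm u ∈ L := hu
      ext v
      constructor
      · rintro ⟨v, hv, rfl⟩
        have := L.add_mem (hG γ (e.symm u) (e.symm v) (L.sub_mem hv hu')) huL
        rw [e.apply_symm_apply, e.apply_symm_apply, sub_add_cancel] at this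
        exact this
      · intro hv
        refine ⟨(γ : Equiv.Perm Ω).symm v, ?_, Equiv.apply_symm_apply (γ : Equiv.Perm Ω) v⟩
        show e.symm _ ∈ L
        have := L.add_mem (hG γ⁻¹ (e.symm ((γ : Equiv.Perm Ω) u)) (e.symm v) (L.sub_mem hv huL)) hu'
        simp only [Subgroup.coe_inv, e.apply_symm_apply] at this
        simpa using this
    rcases hprim.isTrivialBlock_of_isBlock hB with h | h
    · obtain ⟨a, ha⟩ := (AddSubgroup.nontrivial_iff_ne_bot L).mpr hLb |>.exists_pair_ne
      obtain ⟨b, hab⟩ := ha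
      exact hab (Subtype.ext (e.injective
        (h (show e.symm (e a.1) ∈ L by simp) (show e.symm (e b.1) ∈ L by simp))))
    · have : e x ∈ B := h ▸ Set.mem_univ _
      exact hx (by simpa [B] using this)
  · -- the kernel of the action on the cosets
    let K : Subgroup G :=
      { carrier := {γ | ∀ i : ZMod N, e.symm ((γ : Equiv.Perm Ω) (e i)) - i ∈ L}
        one_mem' := fun i => by simp
        mul_mem' := fun {a b} ha hb i => by
          have := L.add_mem (ha (e.symm ((b : Equiv.Perm Ω) (e i)))) (hb i)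
          simpa using this
        inv_mem' := fun {a} ha i => by
          have := L.neg_mem (ha (e.symm ((a : Equiv.Perm Ω).symm (e i))))
          simpa [Equiv.Perm.inv_def] using this }
    haveI hKn : K.Normal := ⟨fun δ hδ γ i => by
      have := hG γ _ _ (hδ (e.symm ((γ : Equiv.Perm Ω).symm (e i))))
      simpa [Equiv.Perm.inv_def] using this⟩
    have hqL : (q : ZMod N) ∈ L := by
      obtain ⟨a, ha⟩ := exists_prime_addOrderOf_dvd_card' (G := L) p (by
        obtain ⟨j, -, hj⟩ := (Nat.dvd_prime_pow hp).mp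
          (show Nat.card L ∣ p ^ m by
            have := L.card_addSubgroup_dvd_card; rwa [Nat.card_zmod] at this)
        rcases Nat.eq_zero_or_pos j with rfl | hj0
        · exact absurd (AddSubgroup.card_eq_one.mp (hj.trans (pow_zero p))) hLb
        · exact hj ▸ dvd_pow_self p hj0.ne')
      have ha' : (p : ZMod N) * a.1 = 0 := by
        rw [← nsmul_eq_mul, ← AddSubgroup.coe_nsmul, ← ha, addOrderOf_nsmul_eq_zero]; rfl
      obtain ⟨k, hk⟩ := Cfsg.Agent.Lib.CyclicBGroup.mem_qmul_of_pmul hpq ha'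
      have hk0 : (k : ℕ) ≠ 0 := fun h => by
        rw [h, Nat.cast_zero, zero_mul] at hk
        rw [show a = 0 from Subtype.ext hk, addOrderOf_zero] at ha
        exact hp.one_lt.ne ha
      obtain ⟨s, t, hst⟩ := Int.isCoprime_iff_gcd_eq_one.mpr
        (show Int.gcd (k : ℕ) p = 1 from
          (hp.coprime_iff_not_dvd.mpr (fun h => hk0 (Nat.eq_zero_of_dvd_of_lt h k.2))).symm)
      have h1 : (q : ZMod N) = s • a.1 := by
        have h2 : ((s * (k : ℕ) + t * p : ℤ) : ZMod N) * (q : ZMod N) = q := by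
          rw [hst, Int.cast_one, one_mul]
        rw [zsmul_eq_mul, hk]
        push_cast at h2
        rw [add_mul, mul_assoc, mul_assoc, Cfsg.Agent.Lib.CyclicBGroup.natCast_mul_natCast hpq,
          mul_zero, add_zero] at h2
        exact h2.symm
      rw [h1]
      exact L.zsmul_mem a.2 s
    have hle : Subgroup.normalClosure ({g ^ (p ^ (m - 1))} : Set G) ≤ K := by
      refine Subgroup.normalClosure_le_normal (Set.singleton_subset_iff.mpr fun i => ?_)
      have hqv : ((q : ℕ) : ZMod N).val = q := ZMod.val_natCast_of_lt (by rw [hpq]; nlinarith [hp.two_le])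
      have h1 := he i (q : ZMod N)
      rw [hqv] at h1
      rw [SubmonoidClass.coe_pow, ← hg₀, ← hq, ← h1, e.symm_apply_apply, add_sub_cancel_left]
      exact hqL
    obtain ⟨γ, hγ⟩ := htrans.exists_smul_eq (e 0) (e x)
    have h := hle γ.2 0
    rw [show ((γ : G) : Equiv.Perm Ω) (e 0) = e x from hγ, e.symm_apply_apply, sub_zero] at h
    exact hx h

end Cfsg.Agent.S3972
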