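import Cfsg.Statements.S3973
import Mathlib
import Cfsg.Agent.Lib.Schur.Cover

set_option autoImplicit false
open Cfsg

namespace Cfsg.Agent.S3973

/-- If a finite group is presented by `n` generators and a finite set of `r` relators, then its Schur multiplier can be generated by `r - n` elements. In particular a finite group with a presentation having as many relators as generators has trivial Schur multiplier. -/
theorem result (n : ℕ) (rels : Finset (FreeGroup (Fin n))) [Finite (PresentedGroup (rels : Set (FreeGroup (Fin n))))] {A : Type*} [CommGroup A] [Finite A] (hA : Cfsg.HasSchurMultiplier (PresentedGroup (rels : Set (FreeGroup (Fin n)))) A) : Group.rank A ≤ rels.card - n := by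
  classical
  set π : FreeGroup (Fin n) →* PresentedGroup (rels : Set (FreeGroup (Fin n))) :=
    PresentedGroup.mk _ with hπdef
  have hπ : Function.Surjective π := PresentedGroup.mk_surjective _
  have hker : π.ker = Subgroup.normalClosure (rels : Set (FreeGroup (Fin n))) :=
    QuotientGroup.ker_mk' _
  obtain ⟨e⟩ := (Cfsg.Agent.Lib.Schur.hasSchurMultiplier_iff hπ).mp hA
  set mk := QuotientGroup.mk' (Cfsg.Agent.Lib.Schur.covKer π) with hmk
  have hcen := Cfsg.Agent.Lib.Schur.covProj_ker_le_center π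
  set RB := (Cfsg.Agent.Lib.Schur.covProj π).ker with hRB
  letI : CommGroup RB :=
    { (inferInstance : Group RB) with
      mul_comm := fun a b => Subtype.ext (Subgroup.mem_center_iff.mp (hcen b.2) a) }
  have hrel : ∀ x : {x // x ∈ rels}, mk x.1 ∈ RB := fun x => by
    rw [hRB, MonoidHom.mem_ker, Cfsg.Agent.Lib.Schur.covProj_mk, ← MonoidHom.mem_ker, hker]
    exact Subgroup.subset_normalClosure x.2
  -- the kernel of the free central extension is generated by the relators
  let φ : ({x // x ∈ rels} → ℤ) →ₗ[ℤ] Additive RB :=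
    Fintype.linearCombination ℤ fun x => Additive.ofMul (⟨mk x.1, hrel x⟩ : RB)
  have hφ : LinearMap.range φ = ⊤ := by
    set H : AddSubgroup (Additive RB) := (LinearMap.range φ).toAddSubgroup with hH
    let W : Subgroup RB := AddSubgroup.toSubgroup' H
    have hWmem : ∀ x, (⟨mk x.1, hrel x⟩ : RB) ∈ W := fun x => by
      refine ⟨Pi.single x 1, ?_⟩
      simp only [φ, Fintype.linearCombination_apply_single, one_smul]
      rfl
    set W' : Subgroup (Cfsg.Agent.Lib.Schur.cov π) := W.map RB.subtype with hW'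
    haveI : W'.Normal := ⟨fun z hz g => by
      rw [Subgroup.mem_center_iff.mp (hcen (Subgroup.map_subtype_le _ hz)) g, mul_inv_cancel_right]
      exact hz⟩
    have hle : π.ker ≤ W'.comap mk := le_of_eq_of_le hker
      (Subgroup.normalClosure_le_normal fun x hx => ⟨_, hWmem ⟨x, hx⟩, rfl⟩)
    rw [eq_top_iff]
    rintro z -
    obtain ⟨x, hx⟩ := QuotientGroup.mk'_surjective _ (Additive.toMul z).1
    have hxk : x ∈ π.ker := by
      have h2 : Cfsg.Agent.Lib.Schur.covProj π (Additive.toMul z).1 = 1 := (Additive.toMul z).2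
      rw [← hx] at h2
      exact h2
    obtain ⟨w, hw, hwx⟩ := hle hxk
    have : w = Additive.toMul z := Subtype.ext (hwx.trans hx)
    rw [this] at hw
    exact hw
  -- the free abelian image
  let h : RB →* Multiplicative (Fin n → ℤ) := (Cfsg.Agent.Lib.Schur.covAb π).comp RB.subtype
  let p : Additive RB →ₗ[ℤ] (Fin n → ℤ) := (MonoidHom.toAdditiveLeft h).toIntLinearMap
  set ψ := p.comp φ with hψ
  have hm : ∀ v : Fin n → ℤ,
      (Nat.card (PresentedGroup (rels : Set (FreeGroup (Fin n)))) : ℤ) • v ∈ LinearMap.range ψ := by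
    set M := Nat.card (PresentedGroup (rels : Set (FreeGroup (Fin n))))
    intro v
    rw [hψ, LinearMap.range_comp, hφ, Submodule.map_top]
    rw [pi_eq_sum_univ' v, Finset.smul_sum]
    refine Submodule.sum_mem _ fun i _ => ?_
    rw [smul_comm]
    refine Submodule.smul_mem _ _ ⟨Additive.ofMul ⟨(mk (FreeGroup.of i)) ^ M, ?_⟩, ?_⟩
    · rw [hRB, MonoidHom.mem_ker, map_pow, pow_card_eq_one']
    · show Multiplicative.toAdd (Cfsg.Agent.Lib.Schur.covAb π (mk (FreeGroup.of i) ^ M)) = _
      rw [map_pow, toAdd_pow]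
      simp [Cfsg.Agent.Lib.Schur.covAb, Cfsg.Agent.Lib.Schur.freeAb, hmk]
  have hrange : n ≤ Module.finrank ℤ (LinearMap.range ψ) := by
    have hM : (Nat.card (PresentedGroup (rels : Set (FreeGroup (Fin n)))) : ℤ) ≠ 0 :=
      Int.natCast_ne_zero.mpr Nat.card_pos.ne'
    let f : (Fin n → ℤ) →ₗ[ℤ] LinearMap.range ψ :=
      LinearMap.codRestrict _ ((Nat.card (PresentedGroup (rels : Set (FreeGroup (Fin n)))) : ℤ) •
        LinearMap.id) hm
    have := LinearMap.finrank_le_finrank_of_injective (f := f) fun a b hab =>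
      smul_right_injective _ hM (congrArg Subtype.val hab)
    rwa [Module.finrank_fintype_fun_eq_card, Fintype.card_fin] at this
  have hkdim : Module.finrank ℤ (LinearMap.ker ψ) ≤ rels.card - n := by
    have h1 := Submodule.finrank_quotient_add_finrank (LinearMap.ker ψ)
    rw [ψ.quotKerEquivRange.finrank_eq, Module.finrank_fintype_fun_eq_card] at h1
    have h2 : Fintype.card {x // x ∈ rels} = rels.card := Fintype.card_coe rels
    omega
  set b := Module.finBasis ℤ (LinearMap.ker ψ)
  have hmult : ∀ z : RB, Additive.ofMul z ∈ LinearMap.ker p ↔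
      (z : Cfsg.Agent.Lib.Schur.cov π) ∈ Cfsg.Agent.Lib.Schur.mult π := fun z => by
    rw [Cfsg.Agent.Lib.Schur.mult, Subgroup.mem_inf, ← Cfsg.Agent.Lib.Schur.ker_covAb]
    exact ⟨fun hz => ⟨z.2, hz⟩, fun hz => hz.2⟩
  have hin : ∀ c : LinearMap.ker ψ,
      ((Additive.toMul (φ c.1) : RB) : Cfsg.Agent.Lib.Schur.cov π) ∈ Cfsg.Agent.Lib.Schur.mult π :=
    fun c => (hmult _).mp c.2
  let g : Multiplicative (LinearMap.ker ψ) →* A :=
    e.symm.toMonoidHom.comp (MonoidHom.mk'
      (fun c => (⟨_, hin c.toAdd⟩ : Cfsg.Agent.Lib.Schur.mult π)) fun c d => Subtype.ext (by simp))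
  have hg : Function.Surjective g := by
    refine e.symm.surjective.comp fun z => ?_
    obtain ⟨c, hc⟩ : (Additive.ofMul (⟨z.1, z.2.1⟩ : RB)) ∈ LinearMap.range φ :=
      hφ ▸ Submodule.mem_top
    have hck : c ∈ LinearMap.ker ψ := by
      rw [LinearMap.mem_ker, hψ, LinearMap.comp_apply, hc]
      exact (hmult ⟨z.1, z.2.1⟩).mpr z.2
    refine ⟨Multiplicative.ofAdd ⟨c, hck⟩, Subtype.ext ?_⟩
    simp [hc]
  set S : Finset A := Finset.univ.image fun i => g (Multiplicative.ofAdd (b i))
  have hS : Subgroup.closure (S : Set A) = ⊤ := by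
    rw [eq_top_iff]
    rintro a -
    obtain ⟨c, rfl⟩ := hg a
    obtain ⟨c, rfl⟩ := Multiplicative.ofAdd.surjective c
    rw [← b.sum_repr c, ofAdd_sum, map_prod]
    refine Subgroup.prod_mem _ fun i _ => ?_
    rw [ofAdd_zsmul, map_zpow]
    exact Subgroup.zpow_mem _ (Subgroup.subset_closure (by simp [S])) _
  calc Group.rank A ≤ S.card := Group.rank_le hS
    _ ≤ Fintype.card (Fin (Module.finrank ℤ (LinearMap.ker ψ))) := Finset.card_image_le
    _ ≤ rels.card - n := by rw [Fintype.card_fin]; exact hkdim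

end Cfsg.Agent.S3973
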