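import Cfsg.Statements.S3977
import Mathlib
import Cfsg.Agent.Lib.Core.Nilpotent

set_option autoImplicit false
open Cfsg

namespace Cfsg.Agent.S3977

/-- Powers of a product when the commutator is central. -/
theorem mul_pow_of_central {G : Type*} [Group G] {a b c : G} (hc : c ∈ Subgroup.center G)
    (h : b * a = c * (a * b)) (n : ℕ) : (a * b) ^ n = a ^ n * b ^ n * c ^ n.choose 2 := by
  have hC : ∀ (k : ℕ) (g : G), g * c ^ k = c ^ k * g := fun k g =>
    Subgroup.mem_center_iff.mp (pow_mem hc k) g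
  have hba : ∀ k : ℕ, b ^ k * a = c ^ k * (a * b ^ k) := by
    intro k
    induction k with
    | zero => simp
    | succ k ih =>
      calc b ^ (k + 1) * a = b ^ k * (b * a) := by rw [pow_succ, mul_assoc]
        _ = (b ^ k * c) * (a * b) := by rw [h]; group
        _ = c * (b ^ k * a) * b := by rw [Subgroup.mem_center_iff.mp hc]; group
        _ = c * (c ^ k * (a * b ^ k)) * b := by rw [ih]
        _ = c ^ (k + 1) * (a * b ^ (k + 1)) := by rw [pow_succ' c, pow_succ b]; group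
  induction n with
  | zero => simp
  | succ n ih =>
    have hchoose : (n + 1).choose 2 = n + n.choose 2 := by
      rw [Nat.choose_succ_succ, Nat.choose_one_right]
    rw [hchoose, pow_add c, pow_succ (a * b), ih, hC (n.choose 2) (a ^ n * b ^ n)]
    calc c ^ n.choose 2 * (a ^ n * b ^ n) * (a * b)
        = c ^ n.choose 2 * a ^ n * (b ^ n * a) * b := by group
      _ = c ^ n.choose 2 * a ^ n * (c ^ n * (a * b ^ n)) * b := by rw [hba]
      _ = c ^ n.choose 2 * ((a ^ n * c ^ n) * (a * (b ^ n * b))) := by group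
      _ = c ^ n.choose 2 * (c ^ n * a ^ n * (a * (b ^ n * b))) := by rw [hC n (a ^ n)]
      _ = c ^ n.choose 2 * (c ^ n * (a ^ (n + 1) * b ^ (n + 1))) := by
        rw [pow_succ a, pow_succ b]; group
      _ = a ^ (n + 1) * b ^ (n + 1) * (c ^ n * c ^ n.choose 2) := by
        rw [← mul_assoc, ← mul_assoc, (hC (n) (c ^ n.choose 2)), ← pow_add,
          mul_assoc, ← hC (n + n.choose 2)]

universe u

theorem main (p : ℕ) (hp : p.Prime) : ∀ (m : ℕ) (G : Type u) [Group G] [Finite G],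
    Nat.card G = p ^ m → ∀ s, 1 ≤ s → s < m → (p ≠ 2 ∨ 2 ≤ s) →
    (∀ H K : Subgroup G, Nat.card H = p ^ s → Nat.card K = p ^ s → H = K) → IsCyclic G := by
  intro m
  induction m with
  | zero => intro G _ _ _ s _ hsm; omega
  | succ m ih =>
  intro G _ _ hG s hs hsm h2 huniq
  haveI : Fact p.Prime := ⟨hp⟩
  have hP : IsPGroup p G := IsPGroup.of_card hG
  have hcard : ∀ M : Subgroup G, IsCoatom M → Nat.card M = p ^ m := by
    intro M hM
    obtain ⟨-, hidx⟩ := Cfsg.Agent.Lib.Nilp.index_coatom_of_isPGroup hP hM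
    have := M.card_mul_index
    rw [hidx, hG, pow_succ] at this
    exact Nat.eq_of_mul_eq_mul_right hp.pos this
  by_contra hnc
  have hlt : ∀ g : G, Subgroup.zpowers g ≠ ⊤ := fun g h =>
    hnc ⟨g, fun x => Subgroup.mem_zpowers_iff.mp (h ▸ Subgroup.mem_top x)⟩
  have hexM : ∀ g : G, ∃ M : Subgroup G, IsCoatom M ∧ g ∈ M := fun g => by
    obtain h | ⟨M, hM, hle⟩ := IsCoatomic.eq_top_or_exists_le_coatom (Subgroup.zpowers g)
    · exact absurd h (hlt g)
    · exact ⟨M, hM, hle (Subgroup.mem_zpowers g)⟩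
  obtain ⟨M₁, hM₁, -⟩ := hexM 1
  obtain ⟨g, hg⟩ : ∃ g, g ∉ M₁ := by
    by_contra h; push Not at h; exact hM₁.1 ((Subgroup.eq_top_iff' M₁).mpr h)
  obtain ⟨M₂, hM₂, hgM₂⟩ := hexM g
  have hne : M₁ ≠ M₂ := fun h => hg (h ▸ hgM₂)
  rcases (Nat.lt_succ_iff.mp hsm).eq_or_lt with rfl | hsm'
  · exact hne (huniq M₁ M₂ (hcard _ hM₁) (hcard _ hM₂))
  -- all proper subgroups are cyclic
  have hcycM : ∀ M : Subgroup G, IsCoatom M → IsCyclic M := fun M hM =>
    ih M (hcard M hM) s hs hsm' h2 fun H K hH hK => Subgroup.map_injective M.subtype_injective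
      (huniq _ _ (by rw [Subgroup.card_map_of_injective M.subtype_injective, hH])
        (by rw [Subgroup.card_map_of_injective M.subtype_injective, hK]))
  have hgen : ∀ M : Subgroup G, IsCoatom M → ∃ x, Subgroup.zpowers x = M ∧ orderOf x = p ^ m := by
    intro M hM
    obtain ⟨x, hx⟩ := (Subgroup.isCyclic_iff_exists_zpowers_eq_top M).mp (hcycM M hM)
    exact ⟨x, hx, by rw [← Nat.card_zpowers, hx, hcard M hM]⟩
  have hnormM : ∀ M : Subgroup G, IsCoatom M → ∀ a, a ^ p ∈ M := by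
    intro M hM a
    obtain ⟨hN, hidx⟩ := Cfsg.Agent.Lib.Nilp.index_coatom_of_isPGroup hP hM
    haveI := hN
    simpa [hidx] using M.pow_index_mem a
  obtain ⟨x, hx, hxo⟩ := hgen M₁ hM₁
  obtain ⟨y, hy, hyo⟩ := hgen M₂ hM₂
  have hxM : x ∈ M₁ := hx ▸ Subgroup.mem_zpowers x
  have hyM : y ∈ M₂ := hy ▸ Subgroup.mem_zpowers y
  have hy1 : y ∉ M₁ := fun h => hne <| (Subgroup.eq_of_le_of_card_ge
    (hy ▸ Subgroup.zpowers_le.mpr h) (le_of_eq ((hcard _ hM₁).trans (hcard _ hM₂).symm))).symm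
  have hjoin : M₁ ⊔ M₂ = ⊤ := by
    refine hM₁.2 _ (lt_of_le_of_ne le_sup_left fun h => hy1 ?_)
    rw [h]; exact le_sup_right (a := M₁) hyM
  -- centre
  have hcomm : ∀ z, z ∈ M₁ → z ∈ M₂ → z ∈ Subgroup.center G := by
    intro z hz1 hz2
    rw [← hx] at hz1; rw [← hy] at hz2
    obtain ⟨i, rfl⟩ := hz1
    obtain ⟨j, hj⟩ := hz2
    have hle : M₁ ⊔ M₂ ≤ Subgroup.centralizer {x ^ i} := sup_le
      (by rw [← hx, Subgroup.zpowers_le, Subgroup.mem_centralizer_singleton_iff]
          exact ((Commute.refl x).zpow_right i).eq)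
      (by rw [← hy, Subgroup.zpowers_le, Subgroup.mem_centralizer_singleton_iff]
          show y * x ^ i = x ^ i * y
          simp only at hj
          rw [← hj]; exact ((Commute.refl y).zpow_right j).eq)
    rw [Subgroup.mem_center_iff]
    intro w
    exact Subgroup.mem_centralizer_singleton_iff.mp (hle (hjoin ▸ Subgroup.mem_top w))
  set c := y * x * y⁻¹ * x⁻¹ with hcdef
  have hN₁ := (Cfsg.Agent.Lib.Nilp.index_coatom_of_isPGroup hP hM₁).1
  have hN₂ := (Cfsg.Agent.Lib.Nilp.index_coatom_of_isPGroup hP hM₂).1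
  have hc1 : c ∈ M₁ := M₁.mul_mem (hN₁.conj_mem x hxM y) (M₁.inv_mem hxM)
  have hc2 : c ∈ M₂ := by
    have h := M₂.mul_mem hyM (hN₂.conj_mem y⁻¹ (M₂.inv_mem hyM) x)
    rwa [show y * (x * y⁻¹ * x⁻¹) = c by rw [hcdef]; group] at h
  have hc := hcomm c hc1 hc2
  have hyx : y * x = c * (x * y) := by rw [hcdef]; group
  have hyxk : ∀ k : ℕ, y * x ^ k * y⁻¹ = c ^ k * x ^ k := fun k => by
    rw [← conj_pow, show y * x * y⁻¹ = c * x by rw [hcdef]; group,
      (show Commute c x from (Subgroup.mem_center_iff.mp hc x).symm).mul_pow]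
  have hxp : x ^ p ∈ Subgroup.center G :=
    hcomm _ (M₁.pow_mem hxM p) (hnormM M₂ hM₂ x)
  have hcp : c ^ p = 1 := by
    have h := hyxk p
    rw [Subgroup.mem_center_iff.mp hxp y, mul_inv_cancel_right] at h
    exact mul_eq_right.mp h.symm
  obtain ⟨m', rfl⟩ : ∃ m', m = m' + 1 := ⟨m - 1, by omega⟩
  have hm' : 1 ≤ m' := by omega
  -- y ^ p is a p-th power in M₁
  obtain ⟨j, hj⟩ : ∃ j : ℤ, y ^ p = x ^ ((p : ℤ) * j) := by
    obtain ⟨e, he⟩ : y ^ p ∈ Subgroup.zpowers x := hx ▸ hnormM M₁ hM₁ y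
    simp only at he
    have h1 : (x ^ e) ^ p ^ m' = 1 := by
      rw [he, ← pow_mul, ← pow_succ', ← hyo, pow_orderOf_eq_one]
    rw [← zpow_natCast, ← zpow_mul, ← orderOf_dvd_iff_zpow_eq_one, hxo] at h1
    push_cast at h1
    rw [pow_succ', mul_comm e] at h1
    obtain ⟨e', rfl⟩ : (p : ℤ) ∣ e := by
      rw [mul_comm ((p : ℤ) ^ m') e] at h1
      exact Int.dvd_of_mul_dvd_mul_right (pow_ne_zero m' (Int.natCast_ne_zero.mpr hp.ne_zero)) (by simpa [mul_comm] using h1)
    exact ⟨e', he.symm⟩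
  -- an element of order p outside M₁
  obtain ⟨i, hi⟩ : ∃ i : ℤ, (x ^ i * y) ^ p = 1 := by
    have hcen : ∀ i : ℤ, ∃ d ∈ Subgroup.center G, y * x ^ i = d * (x ^ i * y) ∧ d = c ^ i := by
      intro i
      refine ⟨c ^ i, zpow_mem hc i, ?_, rfl⟩
      have : y * x ^ i * y⁻¹ = c ^ i * x ^ i := by
        rw [← conj_zpow, show y * x * y⁻¹ = c * x by rw [hcdef]; group,
          (show Commute c x from (Subgroup.mem_center_iff.mp hc x).symm).mul_zpow]
      rw [← mul_assoc, ← this]; group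
    rcases hp.eq_two_or_odd' with rfl | hodd
    · have hs2 : 2 ≤ s := h2.resolve_left (fun h => h rfl)
      obtain ⟨e, he⟩ : c ∈ Subgroup.zpowers x := hx ▸ hc1
      simp only at he
      obtain ⟨e', he'⟩ : (2 : ℤ) ^ m' ∣ e := by
        have h1 : x ^ (e * (2 : ℕ)) = 1 := by rw [zpow_mul, he, zpow_natCast, hcp]
        rw [← orderOf_dvd_iff_zpow_eq_one, hxo] at h1
        push_cast at h1
        rw [pow_succ] at h1
        exact Int.dvd_of_mul_dvd_mul_right two_ne_zero h1
      obtain ⟨h, rfl⟩ : ∃ h, m' = h + 1 := ⟨m' - 1, by omega⟩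
      have hh : 1 ≤ h := by omega
      refine ⟨-j * (1 - (2 : ℤ) ^ h * e'), ?_⟩
      obtain ⟨d, hd, hd1, rfl⟩ := hcen (-j * (1 - (2 : ℤ) ^ h * e'))
      rw [mul_pow_of_central hd hd1, hj, ← zpow_natCast, ← zpow_mul, Nat.choose_self, pow_one,
        ← he, ← zpow_mul, ← zpow_add, ← zpow_add, ← orderOf_dvd_iff_zpow_eq_one, hxo, he']
      obtain ⟨h', rfl⟩ : ∃ h', h = h' + 1 := ⟨h - 1, by omega⟩
      push_cast
      exact ⟨j * e' * e' * 2 ^ h', by ring⟩
    · refine ⟨-j, ?_⟩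
      obtain ⟨d, hd, hd1, rfl⟩ := hcen (-j)
      rw [mul_pow_of_central hd hd1, hj]
      have hd0 : (c ^ (-j)) ^ p.choose 2 = 1 := by
        obtain ⟨q, hq⟩ : p ∣ p.choose 2 := hp.dvd_choose_self two_ne_zero (by
          rcases hodd with ⟨r, hr⟩
          have := hp.two_le
          omega)
        rw [hq, pow_mul, ← zpow_natCast _ p, zpow_comm, zpow_natCast, hcp, one_zpow, one_pow]
      rw [hd0, mul_one, ← zpow_natCast, ← zpow_mul, ← zpow_add, show -j * (p : ℤ) + (p : ℤ) * j = 0 by ring,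
        zpow_zero]
  set y' := x ^ i * y
  have hy' : y' ∉ M₁ := fun h => hy1 (by
    have := M₁.mul_mem (M₁.inv_mem (M₁.zpow_mem hxM i)) h
    simpa [y'] using this)
  set z := x ^ p ^ m'
  have hzc : z ∈ Subgroup.center G := by
    obtain ⟨k, rfl⟩ : ∃ k, m' = k + 1 := ⟨m' - 1, by omega⟩
    rw [show z = (x ^ p) ^ p ^ k by rw [← pow_mul, ← pow_succ']]
    exact pow_mem hxp _
  have hzp : z ^ p = 1 := by rw [← pow_mul, ← pow_succ, ← hxo, pow_orderOf_eq_one]
  have hz1 : z ≠ 1 := fun h => by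
    have h1 := orderOf_dvd_of_pow_eq_one (show x ^ p ^ m' = 1 from h)
    rw [hxo, Nat.pow_dvd_pow_iff_le_right hp.one_lt] at h1
    omega
  have hy'1 : y' ≠ 1 := fun h => hy' (h ▸ M₁.one_mem)
  -- the elementary group generated by y' and z is proper, hence cyclic
  have hcz : Commute y' z := Subgroup.mem_center_iff.mp hzc y'
  let S : Subgroup G := Subgroup.closure {y', z}
  have hSe : ∀ a ∈ S, a ^ p = 1 ∧ Commute a y' ∧ Commute a z := by
    intro a ha
    induction ha using Subgroup.closure_induction with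
    | mem a ha =>
      rcases ha with rfl | rfl
      · exact ⟨hi, Commute.refl _, hcz⟩
      · exact ⟨hzp, hcz.symm, Commute.refl _⟩
    | one => exact ⟨one_pow p, Commute.one_left _, Commute.one_left _⟩
    | inv a _ h => exact ⟨by rw [inv_pow, h.1, inv_one], h.2.1.inv_left, h.2.2.inv_left⟩
    | mul a b ha hb h₁ h₂ =>
      have hab : Commute a b := by
        have : S ≤ Subgroup.centralizer {a} := (Subgroup.closure_le _).mpr (by
          rintro w (rfl | rfl)
          · exact Subgroup.mem_centralizer_singleton_iff.mpr h₁.2.1.eq.symm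
          · exact Subgroup.mem_centralizer_singleton_iff.mpr h₁.2.2.eq.symm)
        exact (Subgroup.mem_centralizer_singleton_iff.mp (this hb)).symm
      exact ⟨by rw [hab.mul_pow, h₁.1, h₂.1, one_mul], h₁.2.1.mul_left h₂.2.1, h₁.2.2.mul_left h₂.2.2⟩
  have hStop : S ≠ ⊤ := fun h => by
    have hx' : x ∈ S := h ▸ Subgroup.mem_top x
    have h1 := orderOf_dvd_of_pow_eq_one (hSe x hx').1
    rw [hxo] at h1
    have h3 := (Nat.pow_dvd_pow_iff_le_right hp.one_lt).mp (h1.trans (dvd_of_eq (pow_one p).symm))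
    omega
  obtain h | ⟨M, hM, hSM⟩ := IsCoatomic.eq_top_or_exists_le_coatom S
  · exact hStop h
  haveI := hcycM M hM
  have hy'S : y' ∈ M := hSM (Subgroup.subset_closure (Set.mem_insert _ _))
  have hzS : z ∈ M := hSM (Subgroup.subset_closure (Set.mem_insert_of_mem _ rfl))
  -- the cyclic group M has only one subgroup of order p
  classical
  haveI := Fintype.ofFinite M
  obtain ⟨k, hk⟩ : (⟨y', hy'S⟩ : M) ∈ Subgroup.zpowers (⟨z, hzS⟩ : M) := by
    let T := Finset.univ.filter fun a : M => a ∈ Subgroup.zpowers (⟨z, hzS⟩ : M)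
    let U := Finset.univ.filter fun a : M => a ^ p = 1
    have hTU : T ⊆ U := fun a ha => by
      obtain ⟨k, rfl⟩ := (Finset.mem_filter.mp ha).2
      refine Finset.mem_filter.mpr ⟨Finset.mem_univ _, ?_⟩
      simp only
      rw [← zpow_natCast, zpow_comm, zpow_natCast, show (⟨z, hzS⟩ : M) ^ p = 1 from Subtype.ext hzp,
        one_zpow]
    have hT : T.card = p := by
      rw [← Fintype.card_subtype, ← Nat.card_eq_fintype_card]
      exact (Nat.card_zpowers _).trans (by rw [Subgroup.orderOf_mk, orderOf_eq_prime hzp hz1])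
    have hU : U.card ≤ p := by
      convert IsCyclic.card_pow_eq_one_le (α := M) hp.pos
    have hmem : (⟨y', hy'S⟩ : M) ∈ U := Finset.mem_filter.mpr ⟨Finset.mem_univ _, Subtype.ext hi⟩
    rw [← Finset.eq_of_subset_of_card_le hTU (hT ▸ hU)] at hmem
    exact (Finset.mem_filter.mp hmem).2
  have hk' : z ^ k = y' := congrArg Subtype.val hk
  exact hy' (hk' ▸ M₁.zpow_mem (M₁.pow_mem hxM _) k)

/-- Let `p` be a prime and `G` a group of order `p ^ m` which has exactly one subgroup of order `p ^ s`, where `1 ≤ s < m`, and where `s ≥ 2` if `p = 2`. Then `G` is cyclic. (For `p = 2` and `s = 1` the generalized quaternion groups also occur; that case is the classical criterion for a unique involution.) -/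
theorem result {G : Type*} [Group G] [Finite G] (p m s : ℕ) (hp : p.Prime) (hG : Nat.card G = p ^ m) (hs : 1 ≤ s) (hsm : s < m) (h2 : p ≠ 2 ∨ 2 ≤ s) (huniq : ∀ H K : Subgroup G, Nat.card H = p ^ s → Nat.card K = p ^ s → H = K) : IsCyclic G := by
  exact Cfsg.Agent.S3977.main p hp m G hG s hs hsm h2 huniq

end Cfsg.Agent.S3977
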