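import Cfsg.Statements.S3978
import Mathlib
import Cfsg.Agent.Lib.Schur.Perfect

set_option autoImplicit false
open Cfsg
open scoped IsMulCommutative

namespace Cfsg.Agent.S3978

/-- A finite group `Q` has trivial Schur multiplier if and only if, for every `n`, every homomorphism from `Q` to the projective general linear group (the quotient of `GL n ℂ` by its centre) lifts to a homomorphism into `GL n ℂ`. -/
theorem result {Q : Type*} [Group Q] [Finite Q] : Cfsg.HasCyclicSchurMultiplier Q 1 ↔ ∀ (n : ℕ) (γ : Q →* (GL (Fin n) ℂ ⧸ Subgroup.center (GL (Fin n) ℂ))), ∃ ρ : Q →* GL (Fin n) ℂ, (QuotientGroup.mk' (Subgroup.center (GL (Fin n) ℂ))).comp ρ = γ := by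
  constructor
  · intro h n γ
    have hdiv : ∀ k : ℕ, k ≠ 0 → ∀ z : Subgroup.center (GL (Fin n) ℂ), ∃ w, w ^ k = z := by
      intro k hk z
      obtain ⟨r, hr⟩ := Matrix.GeneralLinearGroup.mem_center_iff_val_mem_range_scalar.mp z.2
      rcases isEmpty_or_nonempty (Fin n) with hn | hn
      · haveI : Subsingleton (Matrix (Fin n) (Fin n) ℂ) := Matrix.subsingleton_of_empty_left
        exact ⟨1, Subsingleton.elim _ _⟩
      · obtain ⟨s, hs⟩ := IsAlgClosed.exists_pow_nat_eq r (Nat.pos_of_ne_zero hk)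
        have hr0 : r ≠ 0 := by
          rintro rfl
          rw [map_zero] at hr
          exact z.1.ne_zero hr.symm
        have hs0 : s ≠ 0 := by
          rintro rfl
          rw [zero_pow hk] at hs
          exact hr0 hs.symm
        refine ⟨⟨Matrix.GeneralLinearGroup.scalar (Fin n) (Units.mk0 s hs0), ?_⟩, ?_⟩
        · rw [Matrix.GeneralLinearGroup.center_eq_range_scalar]
          exact ⟨_, rfl⟩
        · refine Subtype.ext (Units.ext ?_)
          rw [SubmonoidClass.coe_pow, Units.val_pow_eq_pow_val]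
          show (Matrix.scalar (Fin n) s) ^ k = _
          rw [← map_pow, hs, hr]
    obtain ⟨hs, hc⟩ := Cfsg.Agent.Lib.Schur.pullback_fst_central γ (QuotientGroup.mk' _)
      (QuotientGroup.mk'_surjective (Subgroup.center (GL (Fin n) ℂ))) (le_of_eq (QuotientGroup.ker_mk' _))
    set E := Cfsg.Agent.Lib.Schur.pullback γ (QuotientGroup.mk' (Subgroup.center (GL (Fin n) ℂ)))
    set fst' : E →* Q := (MonoidHom.fst Q _).comp E.subtype
    have hbot := Cfsg.Agent.Lib.Schur.ker_inf_commutator_eq_bot h fst' hs hc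
    have hin : ∀ z : Subgroup.center (GL (Fin n) ℂ), (((1 : Q), (z : GL (Fin n) ℂ))) ∈ E := fun z => by
      rw [Cfsg.Agent.Lib.Schur.mem_pullback, map_one]
      exact ((QuotientGroup.eq_one_iff _).mpr z.2).symm
    let i : Subgroup.center (GL (Fin n) ℂ) →* Abelianization E := Abelianization.of.comp
      (MonoidHom.mk' (fun z => (⟨_, hin z⟩ : E)) fun a b => Subtype.ext (Prod.ext (one_mul 1).symm rfl))
    have hi : Function.Injective i := (injective_iff_map_eq_one i).mpr fun z hz => by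
      have h1 : (⟨_, hin z⟩ : E) ∈ fst'.ker ⊓ commutator E :=
        ⟨rfl, (Abelianization.ker_of (G := E)).le hz⟩
      rw [hbot, Subgroup.mem_bot] at h1
      exact Subtype.ext (congrArg (fun e : E => e.1.2) h1)
    letI : DivisibleBy (Additive (Subgroup.center (GL (Fin n) ℂ))) ℕ :=
      divisibleByOfSMulRightSurj _ _ fun {k} hk z => by
        obtain ⟨w, hw⟩ := hdiv k hk (Additive.toMul z)
        exact ⟨Additive.ofMul w, hw⟩
    letI : DivisibleBy (Additive (Subgroup.center (GL (Fin n) ℂ))) ℤ :=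
      AddGroup.divisibleByIntOfDivisibleByNat _
    obtain ⟨l, hl⟩ := (Module.Baer.of_divisible
      (Additive (Subgroup.center (GL (Fin n) ℂ)))).extension_property_addMonoidHom
      (MonoidHom.toAdditive i) (fun _ _ hab => hi hab) (AddMonoidHom.id _)
    let r : E →* Subgroup.center (GL (Fin n) ℂ) :=
      (MonoidHom.toAdditive.symm l).comp Abelianization.of
    have hr : ∀ z, r ⟨_, hin z⟩ = z := fun z => DFunLike.congr_fun hl (Additive.ofMul z)
    let s : E →* GL (Fin n) ℂ := MonoidHom.mk' (fun e => e.1.2 * (r e : GL (Fin n) ℂ)⁻¹) fun a b => by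
      show a.1.2 * b.1.2 * (r (a * b) : GL (Fin n) ℂ)⁻¹ =
        a.1.2 * (r a : GL (Fin n) ℂ)⁻¹ * (b.1.2 * (r b : GL (Fin n) ℂ)⁻¹)
      rw [map_mul, Subgroup.coe_mul, mul_inv_rev]
      calc a.1.2 * b.1.2 * ((r b : GL (Fin n) ℂ)⁻¹ * (r a : GL (Fin n) ℂ)⁻¹)
          = a.1.2 * (b.1.2 * (r b : GL (Fin n) ℂ)⁻¹ * (r a : GL (Fin n) ℂ)⁻¹) := by group
        _ = a.1.2 * ((r a : GL (Fin n) ℂ)⁻¹ * (b.1.2 * (r b : GL (Fin n) ℂ)⁻¹)) := by
          rw [Subgroup.mem_center_iff.mp (inv_mem (r a).2)]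
        _ = _ := by group
    have hker : fst'.ker ≤ s.ker := fun e he => by
      have he1 : e.1.1 = 1 := he
      have hz : e.1.2 ∈ Subgroup.center (GL (Fin n) ℂ) := by
        rw [← QuotientGroup.eq_one_iff, ← QuotientGroup.mk'_apply,
          ← Cfsg.Agent.Lib.Schur.mem_pullback.mp e.2, he1, map_one]
      have he2 : e = ⟨_, hin ⟨_, hz⟩⟩ := Subtype.ext (Prod.ext he1 rfl)
      show e.1.2 * (r e : GL (Fin n) ℂ)⁻¹ = 1
      rw [he2, hr, mul_inv_cancel]
    choose t ht using hs
    refine ⟨MonoidHom.mk' (fun q => s (t q)) fun a b => ?_, MonoidHom.ext fun q => ?_⟩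
    · rw [← map_mul, ← inv_mul_eq_one, ← map_inv, ← map_mul]
      exact hker (by rw [MonoidHom.mem_ker, map_mul, map_inv, map_mul, ht, ht, ht, inv_mul_cancel])
    · show QuotientGroup.mk' _ ((t q).1.2 * (r (t q) : GL (Fin n) ℂ)⁻¹) = γ q
      rw [map_mul, QuotientGroup.mk'_apply _ ((r (t q) : GL (Fin n) ℂ)⁻¹),
        (QuotientGroup.eq_one_iff _).mpr (inv_mem (r (t q)).2), mul_one,
        ← Cfsg.Agent.Lib.Schur.mem_pullback.mp (t q).2]
      exact congrArg γ (ht q)
  · intro h
    have hstem : ∀ (Γ : Type _) [Group Γ] [Finite Γ] (τ : Γ →* Q), Cfsg.IsStemExtension τ →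
        τ.ker = ⊥ := by
      intro Γ _ _ τ hτ
      by_contra hne
      obtain ⟨a, ha, ha1⟩ : ∃ a ∈ τ.ker, a ≠ 1 := by
        by_contra hall; push_neg at hall; exact hne ((Subgroup.eq_bot_iff_forall _).mpr hall)
      letI : CommGroup τ.ker := { (inferInstance : Group τ.ker) with
        mul_comm := fun a b => Subtype.ext (Subgroup.mem_center_iff.mp (hτ.2.1 b.2) a.1) }
      obtain ⟨lam, hlam⟩ := CommGroup.exists_apply_ne_one_of_hasEnoughRootsOfUnity τ.ker ℂ
        (a := ⟨a, ha⟩) (fun hc => ha1 (congrArg Subtype.val hc))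
      -- functions transforming by `lam` under the kernel
      let V : Submodule ℂ (Γ → ℂ) :=
        { carrier := {f | ∀ (k : τ.ker) (x : Γ), f (k.1 * x) = (lam k : ℂ) * f x}
          add_mem' := fun {f g} hf hg k x => by simp only [Pi.add_apply, hf k x, hg k x, mul_add]
          zero_mem' := fun k x => by simp
          smul_mem' := fun c f hf k x => by simp only [Pi.smul_apply, smul_eq_mul, hf k x]; ring }
      let tr : Γ → Module.End ℂ V := fun y =>
        { toFun := fun f => ⟨fun x => f.1 (x * y), fun k x => by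
            simp only [mul_assoc]; exact f.2 k (x * y)⟩
          map_add' := fun f g => rfl
          map_smul' := fun c f => rfl }
      let tr' : Γ →* Module.End ℂ V :=
        { toFun := tr
          map_one' := LinearMap.ext fun f => Subtype.ext (funext fun x => congrArg f.1 (mul_one x))
          map_mul' := fun y z => LinearMap.ext fun f => Subtype.ext (funext fun x =>
            congrArg f.1 (mul_assoc x y z).symm) }
      classical
      haveI : FiniteDimensional ℂ V := FiniteDimensional.finiteDimensional_submodule V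
      let b := Module.finBasis ℂ V
      let toMat := LinearMap.toMatrixAlgEquiv b
      let ρ : Γ →* GL (Fin (Module.finrank ℂ V)) ℂ :=
        (Units.map toMat.toAlgHom.toRingHom.toMonoidHom).comp tr'.toHomUnits
      have hscal : ∀ k : τ.ker, (ρ k.1).val = Matrix.scalar _ (lam k : ℂ) := by
        intro k
        have h1 : tr' k.1 = algebraMap ℂ (Module.End ℂ V) (lam k : ℂ) := by
          refine LinearMap.ext fun f => Subtype.ext (funext fun x => ?_)
          show f.1 (x * k.1) = (lam k : ℂ) * f.1 x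
          rw [Subgroup.mem_center_iff.mp (hτ.2.1 k.2) x]
          exact f.2 k x
        show toMat (tr' k.1) = _
        rw [h1, AlgEquiv.commutes]
        rfl
      have hc : ∀ k : τ.ker, ρ k.1 ∈ Subgroup.center (GL (Fin (Module.finrank ℂ V)) ℂ) := fun k =>
        Matrix.GeneralLinearGroup.mem_center_iff_val_mem_range_scalar.mpr ⟨_, (hscal k).symm⟩
      let γ₀ : Γ →* GL (Fin (Module.finrank ℂ V)) ℂ ⧸ Subgroup.center _ := (QuotientGroup.mk' _).comp ρ
      have hγ₀ : τ.ker ≤ γ₀.ker := fun k hk => (QuotientGroup.eq_one_iff _).mpr (hc ⟨k, hk⟩)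
      let γ := MonoidHom.liftOfSurjective τ hτ.1 ⟨γ₀, hγ₀⟩
      have hγ : ∀ x, γ (τ x) = γ₀ x := fun x =>
        MonoidHom.liftOfRightInverse_comp_apply τ _ _ ⟨γ₀, hγ₀⟩ x
      obtain ⟨ρ', hρ'⟩ := h _ γ
      have hcen : ∀ x, ρ x * (ρ' (τ x))⁻¹ ∈ Subgroup.center (GL (Fin (Module.finrank ℂ V)) ℂ) := fun x => by
        rw [← QuotientGroup.eq_one_iff, ← QuotientGroup.mk'_apply, map_mul, map_inv, mul_inv_eq_one]
        exact ((DFunLike.congr_fun hρ' (τ x)).trans (hγ x)).symm
      let c : Γ →* Subgroup.center (GL (Fin (Module.finrank ℂ V)) ℂ) :=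
        MonoidHom.mk' (fun x => ⟨_, hcen x⟩) fun x y => Subtype.ext (by
          show ρ (x * y) * (ρ' (τ (x * y)))⁻¹ = ρ x * (ρ' (τ x))⁻¹ * (ρ y * (ρ' (τ y))⁻¹)
          rw [map_mul, map_mul, map_mul, mul_inv_rev, mul_assoc (ρ x) (ρ' (τ x))⁻¹,
            Subgroup.mem_center_iff.mp (hcen y) (ρ' (τ x))⁻¹]
          group)
      have h1 : c a = 1 := Abelianization.commutator_subset_ker c (hτ.2.2 ha)
      have h2 : ρ a = 1 := by
        have h3 : ρ a * (ρ' (τ a))⁻¹ = 1 := congrArg Subtype.val h1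
        rwa [MonoidHom.mem_ker.mp ha, map_one, inv_one, mul_one] at h3
      -- a nonzero function in `V`
      let f₀ : Γ → ℂ := fun x => if hx : x ∈ τ.ker then (lam ⟨x, hx⟩ : ℂ) else 0
      have hf₀ : f₀ ∈ V := fun k x => by
        by_cases hx : x ∈ τ.ker
        · simp only [f₀, hx, mul_mem k.2 hx, ↓reduceDIte]
          rw [show (⟨k.1 * x, _⟩ : τ.ker) = k * ⟨x, hx⟩ from rfl, map_mul, Units.val_mul]
        · have : ¬ k.1 * x ∈ τ.ker := fun hkx => hx (by simpa using mul_mem (inv_mem k.2) hkx)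
          simp only [f₀, hx, this, ↓reduceDIte, mul_zero]
      have h3 : tr' a = 1 := toMat.injective (by
        show toMat (tr' a) = toMat 1
        rw [map_one]; exact congrArg Units.val h2)
      have h4 := congrArg (fun f : V => f.1 1) (LinearMap.congr_fun h3 ⟨f₀, hf₀⟩)
      simp only [tr', MonoidHom.coe_mk, OneHom.coe_mk, LinearMap.coe_mk, AddHom.coe_mk,
        Module.End.one_apply, tr, one_mul, f₀, ha, one_mem, ↓reduceDIte] at h4
      rw [show (⟨1, _⟩ : τ.ker) = 1 from rfl, map_one, Units.val_one, Units.val_eq_one] at h4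
      exact hlam h4
    refine ⟨⟨Q, inferInstance, inferInstance, MonoidHom.id Q, ⟨Function.surjective_id, by simp, by simp⟩,
      ⟨?_⟩⟩, fun Γ _ _ σ hσ => ⟨1, fun k => ⟨1, ?_⟩⟩⟩
    · haveI : Subsingleton (MonoidHom.id Q).ker := ⟨fun a b => Subtype.ext (a.2.trans b.2.symm)⟩
      letI : Unique (MonoidHom.id Q).ker := uniqueOfSubsingleton 1
      exact MulEquiv.ofUnique
    · exact Subtype.ext ((Subgroup.eq_bot_iff_forall _).mp (hstem Γ σ hσ) k.1 k.2).symm

end Cfsg.Agent.S3978
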