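import Cfsg.Statements.S3980
import Mathlib
import Cfsg.Agent.Lib.Schur.Product

set_option autoImplicit false
universe u v w
open Cfsg

namespace Cfsg.Agent.S3980

/-- Let `Q₁` and `Q₂` be finite groups whose commutator quotients have coprime orders, with Schur multipliers `A` and `B`. Then the Schur multiplier of `Q₁ × Q₂` is isomorphic to `A × B`. -/
theorem result {Q₁ : Type u} {Q₂ : Type v} [Group Q₁] [Group Q₂] [Finite Q₁] [Finite Q₂] {A B : Type w} [CommGroup A] [CommGroup B] (hA : Cfsg.HasSchurMultiplier Q₁ A) (hB : Cfsg.HasSchurMultiplier Q₂ B) (hcop : Nat.Coprime (Nat.card (Abelianization Q₁)) (Nat.card (Abelianization Q₂))) : Cfsg.HasSchurMultiplier (Q₁ × Q₂) (A × B) := by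
  have h := Cfsg.Agent.Lib.Schur.hasSchurMultiplier_prod hA hB
  have h0 : ∀ t : Cfsg.Agent.Lib.Schur.AbTensor Q₁ Q₂, t = 0 := by
    intro t
    induction t using TensorProduct.induction_on with
    | zero => rfl
    | tmul m n =>
      have h1 : addOrderOf (m ⊗ₜ[ℤ] n) ∣ Nat.card (Abelianization Q₁) := by
        refine addOrderOf_dvd_of_nsmul_eq_zero ?_
        rw [TensorProduct.smul_tmul', ← Nat.card_congr (Additive.ofMul (α := Abelianization Q₁)).symm,
          card_nsmul_eq_zero', TensorProduct.zero_tmul]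
      have h2 : addOrderOf (m ⊗ₜ[ℤ] n) ∣ Nat.card (Abelianization Q₂) := by
        refine addOrderOf_dvd_of_nsmul_eq_zero ?_
        rw [← TensorProduct.tmul_smul, ← Nat.card_congr (Additive.ofMul (α := Abelianization Q₂)).symm,
          card_nsmul_eq_zero', TensorProduct.tmul_zero]
      exact AddMonoid.addOrderOf_eq_one_iff.mp (Nat.eq_one_of_dvd_coprimes hcop h1 h2)
    | add s t hs ht => rw [hs, ht, add_zero]
  haveI : Subsingleton (Multiplicative (Cfsg.Agent.Lib.Schur.AbTensor Q₁ Q₂)) :=
    ⟨fun s t => (h0 (Multiplicative.toAdd s)).trans (h0 (Multiplicative.toAdd t)).symm⟩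
  refine Cfsg.Agent.Lib.Schur.hasSchurMultiplier_congr h (MulEquiv.refl _) ?_
  exact
    { toFun := fun x => (x.1, x.2.1)
      invFun := fun y => (y.1, y.2, 1)
      left_inv := fun x => Prod.ext rfl (Prod.ext rfl (Subsingleton.elim _ _))
      right_inv := fun y => rfl
      map_mul' := fun x y => rfl }

end Cfsg.Agent.S3980
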