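import Cfsg.Statements.S3982
import Mathlib
import Cfsg.Agent.Lib.CharCount.InvertingInvolution
import Cfsg.Agent.Lib.Involution.Basic

set_option autoImplicit false
open Cfsg
open scoped Pointwise

namespace Cfsg.Agent.S3982

/-- Let p be an odd prime and G a finite group of even order divisible by p in which the centralizer of every non-identity p-element has odd order. If some nontrivial p-subgroup of G has a normalizer of even order, then the normalizer of every Sylow p-subgroup of G has even order. -/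
theorem result {G : Type*} [Group G] [Finite G] (p : ℕ) [Fact p.Prime] (hp2 : p ≠ 2) (hpG : p ∣ Nat.card G) (h2G : 2 ∣ Nat.card G) (hC : ∀ g : G, g ≠ 1 → (∃ k : ℕ, orderOf g = p ^ k) → Odd (Nat.card ↥(Subgroup.centralizer ({g} : Set G)))) (Q : Subgroup G) (hQ : IsPGroup p ↥Q) (hQ1 : Q ≠ ⊥) (hev : Even (Nat.card ↥(Subgroup.normalizer (Q : Set G)))) (P : Sylow p G) : Even (Nat.card ↥(Subgroup.normalizer ((P : Subgroup G) : Set G))) := by
  have hp : p.Prime := Fact.out
  obtain ⟨y, hyN, hy⟩ := Cfsg.Agent.Lib.Involution.exists_orderOf_eq_two _ hev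
  have hy2 : y * y = 1 := by rw [← sq, ← hy]; exact pow_orderOf_eq_one y
  have hyinv : y⁻¹ = y := inv_eq_of_mul_eq_one_right hy2
  -- a maximal `y`-invariant `p`-subgroup above `Q`
  obtain ⟨R, ⟨hR, hQR, hyR⟩, hmax⟩ : ∃ R : Subgroup G, (IsPGroup p R ∧ Q ≤ R ∧ y ∈ Subgroup.normalizer (R : Set G)) ∧
      ∀ S : Subgroup G, (IsPGroup p S ∧ Q ≤ S ∧ y ∈ Subgroup.normalizer (S : Set G)) → R ≤ S → S = R := by
    obtain ⟨R, hR1, hR2⟩ := (Set.toFinite
      {S : Subgroup G | IsPGroup p S ∧ Q ≤ S ∧ y ∈ Subgroup.normalizer (S : Set G)}).exists_maximal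
      ⟨Q, hQ, le_rfl, hyN⟩
    exact ⟨R, hR1, fun S hS hle => le_antisymm (hR2 hS hle) hle⟩
  have hfix : ∀ g : G, (∃ k, orderOf g = p ^ k) → g * y = y * g → g = 1 := by
    intro g hg hgy
    by_contra hg1
    have hodd := hC g hg1 hg
    have hmem : y ∈ Subgroup.centralizer ({g} : Set G) :=
      Subgroup.mem_centralizer_singleton_iff.mpr hgy.symm
    exact Nat.not_even_iff_odd.mpr hodd (Cfsg.Agent.Lib.Involution.even_card_of_mem hy hmem)
  have hpel : ∀ g ∈ R, ∃ k, orderOf g = p ^ k := fun g hg => by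
    obtain ⟨k, hk⟩ := IsPGroup.iff_orderOf.mp hR ⟨g, hg⟩
    exact ⟨k, by rw [← hk, Subgroup.orderOf_mk]⟩
  have hinvR : ∀ a ∈ R, y * a * y⁻¹ = a⁻¹ := fun a ha =>
    Cfsg.Agent.Lib.CharCount.inverts_of_fixedPointFree hy2
      (fun b hb => (Subgroup.mem_normalizer_iff.mp hyR b).mp hb)
      (fun b hb hby => hfix b (hpel b hb) (mul_inv_eq_iff_eq_mul.mp hby).symm) ha
  set N := Subgroup.normalizer (R : Set G)
  set C := Subgroup.centralizer (R : Set G)
  have habel : R ≤ C := fun a ha => Subgroup.mem_centralizer_iff.mpr fun b hb => by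
    have h1 := hinvR _ (R.mul_mem ha hb)
    rw [← conj_mul, hinvR a ha, hinvR b hb, ← mul_inv_rev] at h1
    exact inv_injective h1
  -- modulo `C` the involution is central in `N`
  have hcentral : ∀ g ∈ N, g⁻¹ * (y * g * y⁻¹) ∈ C := by
    intro g hg
    rw [Subgroup.mem_centralizer_iff]
    intro a ha
    have h3 : ∀ b ∈ R, g⁻¹ * b * g ∈ R := fun b hb => by
      have := (Subgroup.mem_normalizer_iff.mp (N.inv_mem hg) b).mp hb
      rwa [inv_inv] at this
    have h4 : (g⁻¹ * (y * g * y⁻¹)) * a * (g⁻¹ * (y * g * y⁻¹))⁻¹ = a := by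
      have hga : g * (y * a * y⁻¹) * g⁻¹ ∈ R :=
        (Subgroup.mem_normalizer_iff.mp hg _).mp ((Subgroup.mem_normalizer_iff.mp hyR a).mp ha)
      calc (g⁻¹ * (y * g * y⁻¹)) * a * (g⁻¹ * (y * g * y⁻¹))⁻¹
          = g⁻¹ * (y * (g * (y⁻¹ * a * y) * g⁻¹) * y⁻¹) * g := by group
        _ = g⁻¹ * (y * (g * (y * a * y⁻¹) * g⁻¹) * y⁻¹) * g := by rw [hyinv]
        _ = g⁻¹ * (g * (y * a * y⁻¹) * g⁻¹)⁻¹ * g := by rw [hinvR _ hga]
        _ = (y * a * y⁻¹)⁻¹ := by group
        _ = a := by rw [hinvR a ha, inv_inv]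
    exact (mul_inv_eq_iff_eq_mul.mp h4).symm
  have hCodd : Odd (Nat.card C) := by
    obtain ⟨q, hq, hq1⟩ : ∃ q ∈ Q, q ≠ 1 := by
      by_contra hall; push Not at hall; exact hQ1 ((Subgroup.eq_bot_iff_forall _).mpr hall)
    refine (hC q hq1 (hpel q (hQR hq))).of_dvd_nat (Subgroup.card_dvd_of_le ?_)
    exact Subgroup.centralizer_le (Set.singleton_subset_iff.mpr (hQR hq))
  have hCy : ∀ c ∈ C, y * c * y⁻¹ ∈ C := fun c hc => Subgroup.mem_centralizer_iff.mpr fun a ha => by
    have h1 := Subgroup.mem_centralizer_iff.mp hc _ ((Subgroup.mem_normalizer_iff.mp hyR a).mp ha)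
    have h2 := congrArg (fun z => y * z * y⁻¹) h1
    calc a * (y * c * y⁻¹) = y * ((y * a * y⁻¹) * c) * y⁻¹ := by
          rw [hyinv]; calc a * (y * c * y) = (y * y) * a * y * c * y := by rw [hy2]; group
            _ = _ := by group
      _ = y * (c * (y * a * y⁻¹)) * y⁻¹ := h2
      _ = y * c * y⁻¹ * a := by
          rw [hyinv]; calc y * (c * (y * a * y)) * y = y * c * y * a * (y * y) := by group
            _ = _ := by rw [hy2, mul_one]
  -- `R` is the Sylow subgroup of `C`
  have hRC : ¬ p ∣ (R.subgroupOf C).index := by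
    let e : C ≃* C :=
      { toFun := fun c => ⟨y * c * y⁻¹, hCy c c.2⟩
        invFun := fun c => ⟨y * c * y⁻¹, hCy c c.2⟩
        left_inv := fun c => Subtype.ext (by
          show y * (y * (c : G) * y⁻¹) * y⁻¹ = c
          rw [hyinv, show y * (y * (c : G) * y) * y = (y * y) * c * (y * y) by group, hy2, one_mul, mul_one])
        right_inv := fun c => Subtype.ext (by
          show y * (y * (c : G) * y⁻¹) * y⁻¹ = c
          rw [hyinv, show y * (y * (c : G) * y) * y = (y * y) * c * (y * y) by group, hy2, one_mul, mul_one])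
        map_mul' := fun a b => Subtype.ext (by simp [mul_assoc]) }
    classical
    cases nonempty_fintype (Sylow p C)
    let σ : Sylow p C → Sylow p C := fun S => S.mapSurjective (f := e.toMonoidHom) e.surjective
    have hσ : Function.Involutive σ := fun S => Sylow.ext (by
      show ((S : Subgroup C).map e.toMonoidHom).map e.toMonoidHom = S
      rw [Subgroup.map_map]
      convert Subgroup.map_id (S : Subgroup C)
      exact MonoidHom.ext fun c => e.left_inv c)
    obtain ⟨S, hS⟩ : ∃ S, σ S = S := by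
      have hodd : Odd (Nat.card (Sylow p C)) :=
        hCodd.of_dvd_nat ((default : Sylow p C).card_dvd_index.trans (Subgroup.index_dvd_card _))
      rw [Nat.card_eq_fintype_card] at hodd
      have : ¬ 2 ∣ Fintype.card (Sylow p C) := by rw [← even_iff_two_dvd]; exact Nat.not_even_iff_odd.mpr hodd
      obtain ⟨S, hS⟩ := Equiv.Perm.exists_fixed_point_of_prime (p := 2) (n := 1) this
        (σ := hσ.toPerm) (Equiv.ext fun S => by simp [pow_succ, hσ S])
      exact ⟨S, hS⟩
    haveI : (R.subgroupOf C).Normal := ⟨fun a ha g => by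
      rw [Subgroup.mem_subgroupOf] at ha ⊢
      show (g : G) * a * (g : G)⁻¹ ∈ R
      rwa [← (Subgroup.mem_centralizer_iff.mp g.2 _ ha), mul_inv_cancel_right]⟩
    have hRS : R.subgroupOf C ≤ (S : Subgroup C) :=
      (le_sup_left).trans (S.is_maximal' ((show IsPGroup p (R.subgroupOf C) from hR.comap_subtype).to_sup_of_normal_left S.isPGroup') le_sup_right).le
    have hSR : (S : Subgroup C).map C.subtype = R := by
      have hle : R ≤ (S : Subgroup C).map C.subtype := fun a ha => ⟨⟨a, habel ha⟩, hRS ha, rfl⟩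
      have hinto : ∀ a ∈ (S : Subgroup C).map C.subtype, y * a * y⁻¹ ∈ (S : Subgroup C).map C.subtype := by
        rintro _ ⟨a, ha, rfl⟩
        refine ⟨e a, ?_, rfl⟩
        rw [← hS]
        exact ⟨a, ha, rfl⟩
      refine hmax _ ⟨S.isPGroup'.map _, hQR.trans hle, ?_⟩ hle
      rw [Subgroup.mem_normalizer_iff]
      refine fun a => ⟨hinto a, fun ha => ?_⟩
      have := hinto _ ha
      rwa [hyinv, show y * (y * a * y) * y = (y * y) * a * (y * y) by group, hy2, one_mul, mul_one] at this
    have : R.subgroupOf C = (S : Subgroup C) := by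
      rw [← hSR]; exact Subgroup.comap_map_eq_self_of_injective C.subtype_injective _
    rw [this]
    exact S.not_dvd_index
  -- hence `R` is a Sylow subgroup of `G`
  obtain ⟨T, hT⟩ := hR.exists_le_sylow
  have hTR : (T : Subgroup G) = R := by
    by_contra hne
    haveI := T.isPGroup'.isNilpotent
    have h1 : R.subgroupOf T < Subgroup.normalizer ((R.subgroupOf T : Subgroup T) : Set T) :=
      Group.normalizerCondition_of_isNilpotent _ (lt_top_iff_ne_top.mpr fun h =>
        hne (le_antisymm (Subgroup.subgroupOf_eq_top.mp h) hT))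
    obtain ⟨a, haN, haR⟩ := SetLike.exists_of_lt h1
    have hg : (a : G) ∈ N := by
      rw [Subgroup.mem_normalizer_iff]
      intro b
      constructor <;> intro hb
      · exact (Subgroup.mem_normalizer_iff.mp haN ⟨b, hT hb⟩).mp hb
      · have hbT : b ∈ (T : Subgroup G) := by
          have := (T : Subgroup G).mul_mem ((T : Subgroup G).mul_mem ((T : Subgroup G).inv_mem a.2) (hT hb)) a.2
          simpa [mul_assoc] using this
        exact (Subgroup.mem_normalizer_iff.mp haN ⟨b, hbT⟩).mpr hb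
    have hgp : ∃ k, orderOf (a : G) = p ^ k := by
      obtain ⟨k, hk⟩ := IsPGroup.iff_orderOf.mp T.isPGroup' a
      exact ⟨k, by rw [Subgroup.orderOf_coe, hk]⟩
    -- `a` is not in `C`
    have haC : (a : G) ∉ C := by
      intro haC
      haveI : (R.subgroupOf C).Normal := ⟨fun b hb g => by
        rw [Subgroup.mem_subgroupOf] at hb ⊢
        show (g : G) * b * (g : G)⁻¹ ∈ R
        rwa [← (Subgroup.mem_centralizer_iff.mp g.2 _ hb), mul_inv_cancel_right]⟩
      obtain ⟨k, hk⟩ := hgp
      have h2 : orderOf (QuotientGroup.mk' (R.subgroupOf C) ⟨a, haC⟩) = 1 := by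
        refine Nat.eq_one_of_dvd_coprimes ((hp.coprime_iff_not_dvd.mpr hRC).pow_left k) ?_ (orderOf_dvd_natCard _)
        rw [← hk, ← Subgroup.orderOf_mk (a : G) haC]
        exact orderOf_map_dvd _ _
      exact haR (Subgroup.mem_subgroupOf.mpr (Subgroup.mem_subgroupOf.mp
        ((QuotientGroup.eq_one_iff (N := R.subgroupOf C) (⟨a, haC⟩ : C)).mp (orderOf_eq_one_iff.mp h2))))
    -- a point of the coset fixed by the involution
    have hmapsto : ∀ c : C, (a : G)⁻¹ * (y * (a * c) * y⁻¹) ∈ C := fun c => by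
      have := C.mul_mem (hcentral a hg) (hCy c c.2)
      convert this using 1
      group
    let τ : C → C := fun c => ⟨_, hmapsto c⟩
    have hτ : Function.Involutive τ := fun c => Subtype.ext (by
      show (a : G)⁻¹ * (y * (a * ((a : G)⁻¹ * (y * (a * c) * y⁻¹))) * y⁻¹) = c
      rw [mul_inv_cancel_left, hyinv, show y * (y * (a * c) * y) * y = (y * y) * (a * c) * (y * y) by group,
        hy2, one_mul, mul_one, inv_mul_cancel_left])
    classical
    cases nonempty_fintype C
    obtain ⟨c, hc⟩ : ∃ c, τ c = c := by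
      have : ¬ 2 ∣ Fintype.card C := by
        rw [← even_iff_two_dvd, ← Nat.card_eq_fintype_card]; exact Nat.not_even_iff_odd.mpr hCodd
      obtain ⟨c, hc⟩ := Equiv.Perm.exists_fixed_point_of_prime (p := 2) (n := 1) this
        (σ := hτ.toPerm) (Equiv.ext fun c => by simp [pow_succ, hτ c])
      exact ⟨c, hc⟩
    have hwy : ((a : G) * c) * y = y * ((a : G) * c) := by
      have h2 : (a : G)⁻¹ * (y * (a * c) * y⁻¹) = c := congrArg Subtype.val hc
      rw [inv_mul_eq_iff_eq_mul, mul_inv_eq_iff_eq_mul] at h2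
      exact h2.symm
    -- its p-part
    obtain ⟨k, q, hq, hwo⟩ := Nat.exists_eq_pow_mul_and_not_dvd (orderOf_pos ((a : G) * c)).ne' p hp.ne_one
    have hwq : ((a : G) * c) ^ q = 1 := by
      refine hfix _ ⟨k, ?_⟩ ((show Commute _ y from hwy).pow_left q).eq
      rw [orderOf_pow, hwo, Nat.gcd_mul_left_left, Nat.mul_div_cancel _ (Nat.pos_of_ne_zero fun h => hq (by rw [h]; exact dvd_zero p))]
    -- so `a ^ q ∈ C`
    haveI : (C.subgroupOf N).Normal := by
      refine ⟨fun b hb g => ?_⟩
      rw [Subgroup.mem_subgroupOf, Subgroup.mem_centralizer_iff] at hb ⊢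
      intro r hr
      have hr' : (g : G)⁻¹ * r * g ∈ R := by
        have := (Subgroup.mem_normalizer_iff.mp (N.inv_mem g.2) r).mp hr
        rwa [inv_inv] at this
      have h3 := congrArg (fun z => (g : G) * z * (g : G)⁻¹) (hb _ hr')
      simp only [Subgroup.coe_mul, Subgroup.coe_inv] at h3 ⊢
      calc r * ((g : G) * b * (g : G)⁻¹) = (g : G) * ((g : G)⁻¹ * r * g * b) * (g : G)⁻¹ := by group
        _ = (g : G) * (b * ((g : G)⁻¹ * r * g)) * (g : G)⁻¹ := h3
        _ = _ := by group
    have hCN : C ≤ N := Subgroup.centralizer_le_normalizer _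
    set π := QuotientGroup.mk' (C.subgroupOf N)
    have hπ : π ⟨a, hg⟩ = π (⟨(a : G) * c, N.mul_mem hg (hCN c.2)⟩) := by
      refine QuotientGroup.eq.mpr ?_
      rw [Subgroup.mem_subgroupOf]
      simp
    apply haC
    obtain ⟨j, hj⟩ := hgp
    have h5 : orderOf (π ⟨a, hg⟩) = 1 := by
      refine Nat.eq_one_of_dvd_coprimes ((hp.coprime_iff_not_dvd.mpr hq).pow_left j) ?_ ?_
      · rw [← hj, ← Subgroup.orderOf_mk (a : G) hg]; exact orderOf_map_dvd _ _
      · rw [hπ]
        refine orderOf_dvd_of_pow_eq_one ?_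
        rw [← map_pow, show (⟨(a : G) * c, _⟩ : N) ^ q = 1 from Subtype.ext hwq, map_one]
    exact Subgroup.mem_subgroupOf.mp
      ((QuotientGroup.eq_one_iff (N := C.subgroupOf N) (⟨a, hg⟩ : N)).mp (orderOf_eq_one_iff.mp h5))
  -- all Sylow normalisers are conjugate
  obtain ⟨g, rfl⟩ := MulAction.exists_smul_eq G T P
  rw [Sylow.coe_subgroup_smul]
  refine Cfsg.Agent.Lib.Involution.even_card_of_mem (t := g * y * g⁻¹) ?_ ?_
  · rw [show g * y * g⁻¹ = MulAut.conj g y from rfl, MulEquiv.orderOf_eq, hy]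
  · rw [Subgroup.mem_normalizer_iff]
    intro b
    simp only [Subgroup.mem_pointwise_smul_iff_inv_smul_mem, hTR]
    have := Subgroup.mem_normalizer_iff.mp hyR (g⁻¹ * b * g)
    simpa [MulAut.smul_def, MulAut.inv_def, mul_assoc] using this

end Cfsg.Agent.S3982
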