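import Cfsg.Statements.S3983
import Mathlib

set_option autoImplicit false
open scoped Pointwise
open Cfsg

namespace Cfsg.Agent.S3983

/-- Let P be a Sylow p-subgroup of the finite group G that meets each conjugate g P g⁻¹ with g outside N_G(P) trivially, and let U be a subgroup of G of order divisible by p. Then a Sylow p-subgroup Q of U has the same property inside U: Q meets each conjugate u Q u⁻¹ with u ∈ U outside N_U(Q) trivially. -/
theorem result {G : Type*} [Group G] [Finite G] (p : ℕ) [Fact p.Prime] (P : Sylow p G) (hTI : ∀ g : G, g ∉ Subgroup.normalizer ((P : Subgroup G) : Set G) → (P : Subgroup G) ⊓ (MulAut.conj g • (P : Subgroup G)) = ⊥) (U : Subgroup G) (hU : p ∣ Nat.card ↥U) (Q : Sylow p ↥U) : ∀ u : ↥U, u ∉ Subgroup.normalizer ((Q : Subgroup ↥U) : Set ↥U) → (Q : Subgroup ↥U) ⊓ (MulAut.conj u • (Q : Subgroup ↥U)) = ⊥ := by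
  intro u hu
  by_contra hne
  obtain ⟨g, hg⟩ : ∃ g : G, (Q : Subgroup U).map U.subtype ≤ MulAut.conj g • (P : Subgroup G) := by
    obtain ⟨R, hR⟩ := (Q.isPGroup'.map U.subtype).exists_le_sylow
    obtain ⟨g, rfl⟩ := MulAction.exists_smul_eq G P R
    exact ⟨g, hR⟩
  obtain ⟨w, hw, hw1⟩ : ∃ w ∈ (Q : Subgroup U) ⊓ MulAut.conj u • (Q : Subgroup U), w ≠ 1 := by
    by_contra hall; push Not at hall; exact hne ((Subgroup.eq_bot_iff_forall _).mpr hall)
  obtain ⟨hwQ, hwu⟩ := hw
  replace hwu : w ∈ MulAut.conj u • (Q : Subgroup U) := hwu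
  rw [Subgroup.mem_pointwise_smul_iff_inv_smul_mem] at hwu
  have h1 := hg ⟨w, hwQ, rfl⟩
  have h2 := hg ⟨_, hwu, rfl⟩
  rw [Subgroup.mem_pointwise_smul_iff_inv_smul_mem] at h1 h2
  set d := g⁻¹ * (u : G) * g with hd
  have hdN : d ∈ Subgroup.normalizer ((P : Subgroup G) : Set G) := by
    by_contra hdN
    have hb := hTI d hdN
    have hmem : g⁻¹ * (w : G) * g ∈ (P : Subgroup G) ⊓ MulAut.conj d • (P : Subgroup G) := by
      refine ⟨show g⁻¹ * (w : G) * g ∈ (P : Subgroup G) by
        simpa [MulAut.smul_def, MulAut.inv_def, mul_assoc] using h1, ?_⟩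
      show g⁻¹ * (w : G) * g ∈ MulAut.conj d • (P : Subgroup G)
      rw [Subgroup.mem_pointwise_smul_iff_inv_smul_mem]
      simpa [MulAut.smul_def, MulAut.inv_def, hd, mul_assoc] using h2
    rw [hb, Subgroup.mem_bot] at hmem
    exact hw1 (Subtype.ext (by
      show (w : G) = 1
      calc (w : G) = g * (g⁻¹ * w * g) * g⁻¹ := by group
        _ = 1 := by rw [hmem]; group))
  refine hu (?_ : u ∈ Subgroup.normalizer ((Q : Subgroup U) : Set U))
  set R := (MulAut.conj g • (P : Subgroup G)).subgroupOf U with hR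
  have hQR : (Q : Subgroup U) ≤ R := fun a ha => hg ⟨a, ha, rfl⟩
  have hQeq : (Q : Subgroup U) = R := (Q.is_maximal' (by
    refine IsPGroup.comap_subtype ?_
    exact (P.isPGroup').map _) hQR).symm
  rw [Subgroup.mem_normalizer_iff, hQeq]
  intro a
  simp only [hR, Subgroup.mem_subgroupOf, Subgroup.mem_pointwise_smul_iff_inv_smul_mem]
  have := Subgroup.mem_normalizer_iff.mp hdN (g⁻¹ * (a : G) * g)
  simpa [MulAut.smul_def, MulAut.inv_def, hd, mul_assoc] using this

end Cfsg.Agent.S3983
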