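import Cfsg.Statements.S3984
import Mathlib

set_option autoImplicit false
open scoped Pointwise
open Cfsg

namespace Cfsg.Agent.S3984

/-- Let P be a Sylow p-subgroup of the finite group G that meets each conjugate g P g⁻¹ with g outside N_G(P) trivially, and let N be a normal subgroup of G of order prime to p. Then every Sylow p-subgroup Q of G ⧸ N meets each conjugate x Q x⁻¹ with x outside its normalizer trivially. -/
theorem result {G : Type*} [Group G] [Finite G] (p : ℕ) [Fact p.Prime] (P : Sylow p G) (hTI : ∀ g : G, g ∉ Subgroup.normalizer ((P : Subgroup G) : Set G) → (P : Subgroup G) ⊓ (MulAut.conj g • (P : Subgroup G)) = ⊥) (N : Subgroup G) [N.Normal] (hN : (Nat.card ↥N).Coprime p) (Q : Sylow p (G ⧸ N)) : ∀ x : G ⧸ N, x ∉ Subgroup.normalizer ((Q : Subgroup (G ⧸ N)) : Set (G ⧸ N)) → (Q : Subgroup (G ⧸ N)) ⊓ (MulAut.conj x • (Q : Subgroup (G ⧸ N))) = ⊥ := by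
  intro x hx
  by_contra hne
  obtain ⟨w, hw, hw1⟩ : ∃ w ∈ (Q : Subgroup (G ⧸ N)) ⊓ MulAut.conj x • (Q : Subgroup (G ⧸ N)), w ≠ 1 := by
    by_contra hall; push Not at hall; exact hne ((Subgroup.eq_bot_iff_forall _).mpr hall)
  obtain ⟨hwQ, hwx⟩ := hw
  obtain ⟨y, hy⟩ := MulAction.exists_smul_eq (G ⧸ N) (P.mapSurjective (QuotientGroup.mk'_surjective N)) Q
  have hQ : ∀ a, a ∈ (Q : Subgroup (G ⧸ N)) ↔ y⁻¹ * a * y ∈ (P : Subgroup G).map (QuotientGroup.mk' N) := by
    intro a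
    rw [← hy, Sylow.coe_subgroup_smul, Subgroup.mem_pointwise_smul_iff_inv_smul_mem]
    simp [MulAut.smul_def, MulAut.inv_def, mul_assoc]
  obtain ⟨y, rfl⟩ := QuotientGroup.mk'_surjective N y
  obtain ⟨x, rfl⟩ := QuotientGroup.mk'_surjective N x
  obtain ⟨w, rfl⟩ := QuotientGroup.mk'_surjective N w
  replace hwx : (QuotientGroup.mk' N) w ∈ MulAut.conj ((QuotientGroup.mk' N) x) • (Q : Subgroup (G ⧸ N)) := hwx
  rw [Subgroup.mem_pointwise_smul_iff_inv_smul_mem] at hwx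
  have hw' : x⁻¹ * w * x ∈ (Q : Subgroup (G ⧸ N)).comap (QuotientGroup.mk' N) := by
    simpa [MulAut.smul_def, MulAut.inv_def, mul_assoc] using hwx
  obtain ⟨a, ha, haw⟩ := (hQ _).mp hwQ
  obtain ⟨b, hb, hbw⟩ := (hQ _).mp hw'
  -- `a` and `d b d⁻¹` lie in conjugate Sylow subgroups of `⟨a⟩N`
  set d := y⁻¹ * x * y with hd
  have hab : (QuotientGroup.mk' N) a = (QuotientGroup.mk' N) (d * b * d⁻¹) := by
    rw [map_mul, map_mul, hbw, haw, hd]
    simp only [map_mul, map_inv]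
    group
  set H := Subgroup.zpowers a ⊔ N
  have hb' : d * b * d⁻¹ ∈ H := by
    have : a⁻¹ * (d * b * d⁻¹) ∈ N := by
      rw [← QuotientGroup.eq_one_iff]
      show (QuotientGroup.mk' N) (a⁻¹ * (d * b * d⁻¹)) = 1
      rw [map_mul, map_inv, hab, inv_mul_cancel]
    simpa using mul_mem (Subgroup.mem_sup_left (Subgroup.mem_zpowers a) : a ∈ H) (Subgroup.mem_sup_right this)
  have hpb : IsPGroup p (Subgroup.zpowers (⟨_, hb'⟩ : H)) := by
    obtain ⟨k, hk⟩ := IsPGroup.iff_orderOf.mp P.isPGroup' ⟨b, hb⟩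
    refine IsPGroup.of_card (n := k) ?_
    rw [Nat.card_zpowers, Subgroup.orderOf_mk, show d * b * d⁻¹ = MulAut.conj d b from rfl,
      MulEquiv.orderOf_eq, ← hk, Subgroup.orderOf_mk]
  set A := (Subgroup.zpowers a).subgroupOf H
  have hA : IsPGroup p A := by
    refine IsPGroup.comap_subtype ?_
    obtain ⟨k, hk⟩ := IsPGroup.iff_orderOf.mp P.isPGroup' ⟨a, ha⟩
    exact IsPGroup.of_card (n := k) (by rw [Nat.card_zpowers, ← hk, Subgroup.orderOf_mk])
  have hAidx : ¬ p ∣ A.index := by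
    intro hdvd
    have e1 : A.index * Nat.card (Subgroup.zpowers a) = Nat.card H := by
      rw [← Nat.card_congr (Subgroup.subgroupOfEquivOfLe (le_sup_left (b := N))).toEquiv]
      exact A.index_mul_card
    have e2 : N.relIndex (Subgroup.zpowers a) * Nat.card N = Nat.card H := by
      rw [← Subgroup.relIndex_sup_right (H := Subgroup.zpowers a) (K := N),
        ← Nat.card_congr (Subgroup.subgroupOfEquivOfLe (le_sup_right (a := Subgroup.zpowers a))).toEquiv]
      exact (N.subgroupOf H).index_mul_card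
    obtain ⟨c, hc⟩ : N.relIndex (Subgroup.zpowers a) ∣ Nat.card (Subgroup.zpowers a) :=
      Subgroup.index_dvd_card _
    have hpos : 0 < N.relIndex (Subgroup.zpowers a) :=
      Nat.pos_of_ne_zero Subgroup.index_ne_zero_of_finite
    have h2 : A.index ∣ Nat.card N := ⟨c, Nat.eq_of_mul_eq_mul_left hpos
      (by rw [e2, ← e1, hc]; ring)⟩
    exact (Fact.out : p.Prime).not_dvd_one (hN.gcd_eq_one ▸ Nat.dvd_gcd (hdvd.trans h2) dvd_rfl)
  let SA : Sylow p H := hA.toSylow hAidx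
  obtain ⟨R, hR⟩ := hpb.exists_le_sylow
  obtain ⟨h, hh⟩ := MulAction.exists_smul_eq H SA R
  obtain ⟨⟨c, hc⟩, hcA, hcb⟩ := (hh ▸ hR (Subgroup.mem_zpowers _) : (⟨_, hb'⟩ : H) ∈ ((h • SA : Sylow p H) : Subgroup H))
  have hcb' : (h : G) * c * (h : G)⁻¹ = d * b * d⁻¹ := congrArg Subtype.val hcb
  have hcP : c ∈ (P : Subgroup G) := Subgroup.zpowers_le.mpr ha hcA
  obtain ⟨u, hu, n, hn, hun⟩ : ∃ u ∈ Subgroup.zpowers a, ∃ n ∈ N, u * n = (h : G) := by
    have : ((h : G)) ∈ ((Subgroup.zpowers a : Set G) * (N : Set G)) := by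
      rw [← Subgroup.mul_normal]; exact h.2
    obtain ⟨u, hu, n, hn, hun⟩ := this
    exact ⟨u, hu, n, hn, hun⟩
  have hcne : c ≠ 1 := by
    rintro rfl
    rw [mul_one, mul_inv_cancel] at hcb'
    apply hw1
    have hb1 : b = 1 := by
      calc b = d⁻¹ * (d * b * d⁻¹) * d := by group
        _ = 1 := by rw [← hcb']; group
    rw [hb1, map_one] at hbw
    calc (QuotientGroup.mk' N) w = (QuotientGroup.mk' N) x * ((QuotientGroup.mk' N) y * (((QuotientGroup.mk' N) y)⁻¹ * (QuotientGroup.mk' N) (x⁻¹ * w * x) * (QuotientGroup.mk' N) y) * ((QuotientGroup.mk' N) y)⁻¹) * ((QuotientGroup.mk' N) x)⁻¹ := by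
          simp only [map_mul, map_inv]; group
      _ = 1 := by rw [← hbw]; group
  have hdh : (h : G)⁻¹ * d ∈ Subgroup.normalizer ((P : Subgroup G) : Set G) := by
    by_contra hcon
    have hbot := hTI _ hcon
    have : c ∈ (P : Subgroup G) ⊓ MulAut.conj ((h : G)⁻¹ * d) • (P : Subgroup G) := by
      refine ⟨hcP, ⟨b, hb, ?_⟩⟩
      show (h : G)⁻¹ * d * b * ((h : G)⁻¹ * d)⁻¹ = c
      calc (h : G)⁻¹ * d * b * ((h : G)⁻¹ * d)⁻¹ = (h : G)⁻¹ * (d * b * d⁻¹) * h := by group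
        _ = c := by rw [← hcb']; group
    rw [hbot, Subgroup.mem_bot] at this
    exact hcne this
  -- hence `(QuotientGroup.mk' N) d` normalises the image of `P`
  apply hx
  have hdP : (QuotientGroup.mk' N) d ∈ Subgroup.normalizer (((P : Subgroup G).map (QuotientGroup.mk' N)) : Set (G ⧸ N)) := by
    have h1 : (QuotientGroup.mk' N) ((h : G)⁻¹ * d) ∈ Subgroup.normalizer (((P : Subgroup G).map (QuotientGroup.mk' N)) : Set (G ⧸ N)) :=
      Subgroup.le_normalizer_map (QuotientGroup.mk' N) ⟨_, hdh, rfl⟩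
    have h2 : (QuotientGroup.mk' N) (h : G) ∈ Subgroup.normalizer (((P : Subgroup G).map (QuotientGroup.mk' N)) : Set (G ⧸ N)) := by
      apply Subgroup.le_normalizer
      refine ⟨u, Subgroup.zpowers_le.mpr ha hu, ?_⟩
      rw [← hun, map_mul, show (QuotientGroup.mk' N) n = 1 from (QuotientGroup.eq_one_iff n).mpr hn, mul_one]
    simpa [map_mul, map_inv] using mul_mem h2 h1
  rw [Subgroup.mem_normalizer_iff]
  intro q
  show q ∈ (Q : Subgroup (G ⧸ N)) ↔ _
  simp only [SetLike.mem_coe, hQ]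
  have := Subgroup.mem_normalizer_iff.mp hdP (((QuotientGroup.mk' N) y)⁻¹ * q * (QuotientGroup.mk' N) y)
  simpa [hd, map_mul, map_inv, mul_assoc] using this

end Cfsg.Agent.S3984
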