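import Cfsg.Statements.S3985
import Mathlib

set_option autoImplicit false
open scoped Pointwise
open Cfsg

namespace Cfsg.Agent.S3985

/-- An element normalising a cyclic Sylow `p`-subgroup and fixing a nontrivial element of it
centralises it. -/
theorem centralizes {G : Type*} [Group G] [Finite G] (p : ℕ) [Fact p.Prime] (P : Sylow p G)
    (hcyc : IsCyclic ↥(P : Subgroup G)) (x : G) (hx : x ∈ (P : Subgroup G)) (hx1 : x ≠ 1) (g : G)
    (hgN : g ∈ Subgroup.normalizer ((P : Subgroup G) : Set G)) (hgx : g * x = x * g) :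
    g ∈ Subgroup.centralizer ((P : Subgroup G) : Set G) := by
  haveI := hcyc
  have hp : p.Prime := Fact.out
  obtain ⟨⟨z, hz⟩, hgen⟩ := IsCyclic.exists_generator (α := (P : Subgroup G))
  have hpow : ∀ a ∈ (P : Subgroup G), ∃ i : ℤ, z ^ i = a := fun a ha => by
    obtain ⟨i, hi⟩ := hgen ⟨a, ha⟩
    exact ⟨i, congrArg Subtype.val hi⟩
  obtain ⟨r, hr⟩ := hpow _ ((Subgroup.mem_normalizer_iff.mp hgN z).mp hz)
  obtain ⟨i, hi⟩ := hpow x hx
  obtain ⟨k, hk⟩ := IsPGroup.iff_orderOf.mp P.isPGroup' ⟨z, hz⟩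
  rw [Subgroup.orderOf_mk] at hk
  -- `z ^ (i (r-1)) = 1` and `z ^ i ≠ 1`, so `p` divides `r - 1`
  have h1 : z ^ ((r - 1) * i) = 1 := by
    have h2 : (z ^ r) ^ i = x := by
      rw [hr, conj_zpow, hi, hgx, mul_inv_cancel_right]
    rw [sub_mul, one_mul, zpow_sub, zpow_mul, h2, hi, mul_inv_cancel]
  have hpr : (p : ℤ) ∣ r - 1 := by
    by_contra hcon
    rw [← orderOf_dvd_iff_zpow_eq_one, hk] at h1
    push_cast at h1
    have h3 : ((p : ℤ) ^ k) ∣ i :=
      ((Nat.prime_iff_prime_int.mp hp).pow_dvd_of_dvd_mul_left k hcon h1)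
    apply hx1
    rw [← hi, ← orderOf_dvd_iff_zpow_eq_one, hk]
    exact_mod_cast h3
  -- conjugation by `g` is then an automorphism of `p`-power order, `g` having a `p'` part
  have hiter : ∀ m : ℕ, g ^ m * z * (g ^ m)⁻¹ = z ^ (r ^ m) := by
    intro m
    induction m with
    | zero => simp
    | succ m ih =>
      calc g ^ (m + 1) * z * (g ^ (m + 1))⁻¹ = g * (g ^ m * z * (g ^ m)⁻¹) * g⁻¹ := by
            rw [pow_succ']; group
        _ = (z ^ r) ^ (r ^ m) := by rw [ih, ← conj_zpow, ← hr]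
        _ = z ^ (r ^ (m + 1)) := by rw [← zpow_mul, pow_succ']
  have hppow : g ^ p ^ k * z * (g ^ p ^ k)⁻¹ = z := by
    rw [hiter]
    conv_rhs => rw [← zpow_one z]
    apply zpow_eq_zpow_iff_modEq.mpr
    rw [hk]
    push_cast
    refine (Int.modEq_iff_dvd.mpr ?_)
    have h4 := dvd_sub_pow_of_dvd_sub (R := ℤ) (p := p) (a := r) (b := 1) (by simpa using hpr) k
    rw [one_pow] at h4
    have h5 := dvd_neg.mpr ((pow_dvd_pow (p : ℤ) k.le_succ).trans h4)
    simpa using h5
  -- use the `p`-part of the order of `g`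
  obtain ⟨c, q, hq, hgo⟩ := Nat.exists_eq_pow_mul_and_not_dvd (orderOf_pos g).ne' p hp.ne_one
  have hfact : g ^ q ∈ (P : Subgroup G) := by
    have hpg : IsPGroup p (Subgroup.zpowers (g ^ q)) := by
      refine IsPGroup.of_card (n := c) ?_
      rw [Nat.card_zpowers, orderOf_pow g, hgo, Nat.gcd_mul_left_left,
        Nat.mul_div_cancel _ (Nat.pos_of_ne_zero fun h => hq (by rw [h]; exact dvd_zero p))]
    have hsup := P.isPGroup'.to_sup_of_normal_left' hpg
      (Subgroup.zpowers_le.mpr ((Subgroup.normalizer _).pow_mem hgN q))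
    exact (P.is_maximal' hsup le_sup_left).le (Subgroup.mem_sup_right (Subgroup.mem_zpowers _))
  have hzq : g ^ q * z * (g ^ q)⁻¹ = z := by
    obtain ⟨j, hj⟩ := hpow _ hfact
    rw [← hj, ((Commute.refl z).zpow_left j).eq, mul_inv_cancel_right]
  let S : Subgroup G := Subgroup.centralizer {z}
  have hmem : ∀ m : ℕ, g ^ m * z * (g ^ m)⁻¹ = z → g ^ m ∈ S := fun m hm =>
    Subgroup.mem_centralizer_singleton_iff.mpr (mul_inv_eq_iff_eq_mul.mp hm)
  have hgS : g ∈ S := by
    have hco : Nat.Coprime (p ^ k) q := (hp.coprime_iff_not_dvd.mpr hq).pow_left k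
    have hbez := Nat.gcd_eq_gcd_ab (p ^ k) q
    rw [hco.gcd_eq_one, Nat.cast_one] at hbez
    rw [← zpow_one g, hbez, zpow_add, zpow_mul, zpow_mul, zpow_natCast, zpow_natCast]
    exact mul_mem (S.zpow_mem (hmem _ hppow) _) (S.zpow_mem (hmem _ hzq) _)
  rw [Subgroup.mem_centralizer_iff]
  intro a ha
  obtain ⟨j, rfl⟩ := hpow a ha
  exact (((show Commute g z from Subgroup.mem_centralizer_singleton_iff.mp hgS)).zpow_right j).eq.symm

/-- Let P be a cyclic Sylow p-subgroup of the finite group G. Then P meets each conjugate g P g⁻¹ with g outside N_G(P) trivially if and only if P is weakly self-centralizing: C_G(x) = C_G(P) for every non-identity x ∈ P. -/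
theorem result {G : Type*} [Group G] [Finite G] (p : ℕ) [Fact p.Prime] (P : Sylow p G) (hcyc : IsCyclic ↥(P : Subgroup G)) : (∀ g : G, g ∉ Subgroup.normalizer ((P : Subgroup G) : Set G) → (P : Subgroup G) ⊓ (MulAut.conj g • (P : Subgroup G)) = ⊥) ↔ ∀ x : G, x ∈ (P : Subgroup G) → x ≠ 1 → Subgroup.centralizer ({x} : Set G) = Subgroup.centralizer ((P : Subgroup G) : Set G) := by
  constructor
  · intro hTI x hx hx1
    refine le_antisymm (fun g hg => ?_) (Subgroup.centralizer_le (Set.singleton_subset_iff.mpr hx))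
    have hgx : g * x = x * g := Subgroup.mem_centralizer_singleton_iff.mp hg
    have hgN : g ∈ Subgroup.normalizer ((P : Subgroup G) : Set G) := by
      by_contra hcon
      have := hTI g hcon
      have hmem : x ∈ (P : Subgroup G) ⊓ MulAut.conj g • (P : Subgroup G) :=
        ⟨hx, ⟨x, hx, by show g * x * g⁻¹ = x; rw [hgx, mul_inv_cancel_right]⟩⟩
      rw [this, Subgroup.mem_bot] at hmem
      exact hx1 hmem
    exact Cfsg.Agent.S3985.centralizes p P hcyc x hx hx1 g hgN hgx
  · intro hC g hg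
    by_contra hne
    obtain ⟨w, ⟨hwP, hwg⟩, hw1⟩ : ∃ w ∈ (P : Subgroup G) ⊓ MulAut.conj g • (P : Subgroup G), w ≠ 1 := by
      by_contra hall; push Not at hall; exact hne ((Subgroup.eq_bot_iff_forall _).mpr hall)
    apply hg
    obtain ⟨v, hv, hvw⟩ := hwg
    change g * v * g⁻¹ = w at hvw
    have hv1 : v ≠ 1 := by rintro rfl; simp at hvw; exact hw1 hvw.symm
    -- both `P` and its conjugate are Sylow subgroups of `C(w) = C(P)`
    have hcomm : ∀ a ∈ (P : Subgroup G), ∀ b ∈ (P : Subgroup G), a * b = b * a := by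
      intro a ha b hb
      haveI := hcyc
      obtain ⟨z, hz⟩ := IsCyclic.exists_generator (α := (P : Subgroup G))
      obtain ⟨i, hi⟩ := hz ⟨a, ha⟩
      obtain ⟨j, hj⟩ := hz ⟨b, hb⟩
      have : (⟨a, ha⟩ : (P : Subgroup G)) * ⟨b, hb⟩ = ⟨b, hb⟩ * ⟨a, ha⟩ := by
        rw [← hi, ← hj]; exact ((Commute.refl z).zpow_zpow i j).eq
      exact congrArg Subtype.val this
    have hgC : MulAut.conj g • (P : Subgroup G) ≤ Subgroup.centralizer ((P : Subgroup G) : Set G) := by
      rw [← hC w hwP hw1]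
      rintro _ ⟨b, hb, rfl⟩
      rw [Subgroup.mem_centralizer_singleton_iff]
      show g * b * g⁻¹ * w = w * (g * b * g⁻¹)
      rw [← hvw]
      calc g * b * g⁻¹ * (g * v * g⁻¹) = g * (b * v) * g⁻¹ := by group
        _ = g * (v * b) * g⁻¹ := by rw [hcomm b hb v hv]
        _ = _ := by group
    have heq : MulAut.conj g • (P : Subgroup G) = (P : Subgroup G) := by
      have hsup : IsPGroup p ((P : Subgroup G) ⊔ (MulAut.conj g • (P : Subgroup G)) : Subgroup G) := by
        refine P.isPGroup'.to_sup_of_normal_left' (P.isPGroup'.map _) ?_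
        exact hgC.trans (Subgroup.centralizer_le_normalizer _)
      refine Subgroup.eq_of_le_of_card_ge ((le_sup_right).trans (P.is_maximal' hsup le_sup_left).le) ?_
      exact (Nat.card_congr (Subgroup.equivSMul (MulAut.conj g) (P : Subgroup G)).toEquiv).le
    rw [Subgroup.mem_normalizer_iff]
    intro a
    show a ∈ (P : Subgroup G) ↔ g * a * g⁻¹ ∈ (P : Subgroup G)
    conv_rhs => rw [← heq]
    exact (Subgroup.smul_mem_pointwise_smul_iff (a := MulAut.conj g)).symm

end Cfsg.Agent.S3985
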