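import Cfsg.Statements.S3986
import Mathlib

set_option autoImplicit false
open Cfsg
open scoped Pointwise

namespace Cfsg.Agent.S3986

/-- A subgroup containing the elements of prime power order of `K` contains `K`. -/
theorem le_of_primePow_mem {G : Type*} [Group G] [Finite G] {H K : Subgroup G}
    (h : ∀ g ∈ K, (∃ q b : ℕ, q.Prime ∧ orderOf g = q ^ b) → g ∈ H) : K ≤ H := by
  have hd : Nat.card K ∣ Nat.card (K ⊓ H : Subgroup G) := by
    refine (Nat.factorization_prime_le_iff_dvd Nat.card_pos.ne' Nat.card_pos.ne').mp fun q hq => ?_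
    haveI : Fact q.Prime := ⟨hq⟩
    let Q : Sylow q K := default
    have hle : (Q : Subgroup K).map K.subtype ≤ K ⊓ H := by
      rintro _ ⟨a, ha, rfl⟩
      refine ⟨a.2, h _ a.2 ?_⟩
      obtain ⟨b, hb⟩ := IsPGroup.iff_orderOf.mp Q.isPGroup' ⟨a, ha⟩
      exact ⟨q, b, hq, by rw [← hb, Subgroup.orderOf_mk]; exact Subgroup.orderOf_coe a⟩
    have hd := Subgroup.card_dvd_of_le hle
    rw [Subgroup.card_map_of_injective K.subtype_injective, Q.card_eq_multiplicity] at hd
    exact (hq.pow_dvd_iff_le_factorization Nat.card_pos.ne').mp hd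
  exact inf_eq_left.mp (Subgroup.eq_of_le_of_card_ge inf_le_left (Nat.le_of_dvd Nat.card_pos hd))

/-- A Sylow subgroup commuting with the elements of other prime power orders is a direct factor. -/
theorem directFactor_of_commute {G : Type*} [Group G] [Finite G] (p : ℕ) [Fact p.Prime]
    (h : ∀ x y : G, (∃ a : ℕ, orderOf x = p ^ a) → (∃ q b : ℕ, q.Prime ∧ q ≠ p ∧ orderOf y = q ^ b) →
      x * y = y * x) :
    ∃ (P : Sylow p G) (K : Subgroup G), (P : Subgroup G).Normal ∧ K.Normal ∧
      (P : Subgroup G) ⊓ K = ⊥ ∧ (P : Subgroup G) ⊔ K = ⊤ := by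
  let P : Sylow p G := default
  have hcent : ∀ y : G, (∃ q b : ℕ, q.Prime ∧ q ≠ p ∧ orderOf y = q ^ b) →
      y ∈ Subgroup.centralizer ((P : Subgroup G) : Set G) := fun y hy => by
    rw [Subgroup.mem_centralizer_iff]
    intro x hx
    obtain ⟨a, ha⟩ := IsPGroup.iff_orderOf.mp P.isPGroup' ⟨x, hx⟩
    exact h x y ⟨a, by rw [← ha, Subgroup.orderOf_mk]⟩ hy
  have hN : (P : Subgroup G).Normal := by
    rw [← Subgroup.normalizer_eq_top_iff, eq_top_iff]
    have hd : Nat.card G ∣ Nat.card (Subgroup.normalizer ((P : Subgroup G) : Set G)) := by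
      refine (Nat.factorization_prime_le_iff_dvd Nat.card_pos.ne' Nat.card_pos.ne').mp fun q hq => ?_
      haveI : Fact q.Prime := ⟨hq⟩
      apply (hq.pow_dvd_iff_le_factorization Nat.card_pos.ne').mp
      rcases eq_or_ne q p with rfl | hqp
      · rw [← P.card_eq_multiplicity]; exact Subgroup.card_dvd_of_le Subgroup.le_normalizer
      · let Q : Sylow q G := default
        rw [← Q.card_eq_multiplicity]
        refine Subgroup.card_dvd_of_le fun y hy => Subgroup.centralizer_le_normalizer _ (hcent y ?_)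
        obtain ⟨b, hb⟩ := IsPGroup.iff_orderOf.mp Q.isPGroup' ⟨y, hy⟩
        exact ⟨q, b, hq, hqp, by rw [← hb, Subgroup.orderOf_mk]⟩
    exact (Subgroup.eq_top_of_card_eq _ (Nat.dvd_antisymm (Subgroup.card_subgroup_dvd_card _) hd)).ge
  obtain ⟨K, hK⟩ := Subgroup.exists_right_complement'_of_coprime (N := (P : Subgroup G)) P.card_coprime_index
  have hKc : K ≤ Subgroup.centralizer ((P : Subgroup G) : Set G) := by
    refine le_of_primePow_mem fun g hg ⟨q, b, hq, hgo⟩ => ?_
    rcases eq_or_ne q p with rfl | hqp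
    · have h1 : orderOf g ∣ (P : Subgroup G).index := by
        rw [hK.symm.index_eq_card]; exact Subgroup.orderOf_dvd_natCard K hg
      rcases Nat.eq_zero_or_pos b with rfl | hb
      · rw [pow_zero, orderOf_eq_one_iff] at hgo; rw [hgo]; exact one_mem _
      · exact absurd ((hgo ▸ dvd_pow_self q hb.ne').trans h1) P.not_dvd_index
    · exact hcent g ⟨q, b, hq, hqp, hgo⟩
  refine ⟨P, K, hN, ?_, hK.disjoint.eq_bot, hK.sup_eq_top⟩
  rw [← Subgroup.normalizer_eq_top_iff, eq_top_iff, ← hK.sup_eq_top]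
  refine sup_le (fun x hx => Subgroup.centralizer_le_normalizer _ ?_) Subgroup.le_normalizer
  rw [Subgroup.mem_centralizer_iff]
  exact fun k hk => (Subgroup.mem_centralizer_iff.mp (hKc hk) x hx).symm

/-- In a group with a Sylow `p`-subgroup as direct factor the parts commute and their centralisers
supplement one another. -/
theorem commute_of_directFactor {G : Type*} [Group G] [Finite G] {p : ℕ} [Fact p.Prime]
    {P : Sylow p G} {K : Subgroup G} (hP : (P : Subgroup G).Normal) (hK : K.Normal)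
    (hinf : (P : Subgroup G) ⊓ K = ⊥) (hsup : (P : Subgroup G) ⊔ K = ⊤) {x y : G}
    (hx : ∃ a : ℕ, orderOf x = p ^ a) (hy : ∃ q b : ℕ, q.Prime ∧ q ≠ p ∧ orderOf y = q ^ b) :
    x * y = y * x ∧ x ∈ (P : Subgroup G) ∧ y ∈ K := by
  obtain ⟨a, ha⟩ := hx
  obtain ⟨q, b, hq, hqp, hb⟩ := hy
  have hp : p.Prime := Fact.out
  have hxP : x ∈ (P : Subgroup G) := by
    rw [← QuotientGroup.eq_one_iff, ← orderOf_eq_one_iff]
    refine Nat.eq_one_of_dvd_coprimes (hp.coprime_iff_not_dvd.mpr P.not_dvd_index |>.pow_left a)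
      ?_ (orderOf_dvd_natCard _)
    rw [← ha]; exact orderOf_map_dvd (QuotientGroup.mk' _) x
  have hcompl : Subgroup.IsComplement' K (P : Subgroup G) :=
    Subgroup.isComplement'_of_disjoint_and_mul_eq_univ (disjoint_iff.mpr (by rw [inf_comm, hinf]))
      (by rw [← Subgroup.normal_mul, sup_comm, hsup, Subgroup.coe_top])
  have hyK : y ∈ K := by
    rw [← QuotientGroup.eq_one_iff, ← orderOf_eq_one_iff]
    obtain ⟨c, hc⟩ := IsPGroup.iff_card.mp P.isPGroup'
    refine Nat.eq_one_of_dvd_coprimes (((Nat.coprime_primes hq hp).mpr hqp).pow b c) ?_ ?_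
    · rw [← hb]; exact orderOf_map_dvd (QuotientGroup.mk' _) y
    · rw [← hc, ← hcompl.symm.index_eq_card]; exact orderOf_dvd_natCard _
  exact ⟨Subgroup.commute_of_normal_of_disjoint _ _ hP hK (disjoint_iff.mpr hinf) x y hxP hyK, hxP, hyK⟩

/-- Let p be a prime and G a finite group. Then some Sylow p-subgroup of G is a direct factor of G (it is normal and has a normal complement) if and only if every element of p-power order commutes with every element whose order is a power of a prime other than p. -/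
theorem result {G : Type*} [Group G] [Finite G] (p : ℕ) [Fact p.Prime] : (∃ (P : Sylow p G) (K : Subgroup G), (P : Subgroup G).Normal ∧ K.Normal ∧ (P : Subgroup G) ⊓ K = ⊥ ∧ (P : Subgroup G) ⊔ K = ⊤) ↔ ∀ x y : G, (∃ a : ℕ, orderOf x = p ^ a) → (∃ q b : ℕ, q.Prime ∧ q ≠ p ∧ orderOf y = q ^ b) → x * y = y * x := by
  refine ⟨fun ⟨P, K, hP, hK, hinf, hsup⟩ x y hx hy =>
    (Cfsg.Agent.S3986.commute_of_directFactor hP hK hinf hsup hx hy).1,
    Cfsg.Agent.S3986.directFactor_of_commute p⟩

end Cfsg.Agent.S3986
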