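import Cfsg.Statements.S3987
import Mathlib
import Cfsg.Agent.S3986

set_option autoImplicit false
open Cfsg
open scoped Pointwise

namespace Cfsg.Agent.S3987

/-- Let p be a prime and G a finite group. Then some Sylow p-subgroup of G is a direct factor of G (normal with a normal complement) if and only if for every element x of p-power order and every element y whose order is a power of a prime other than p, the conjugacy class of x y has as many elements as the product of the sizes of the classes of x and of y. -/
theorem result {G : Type*} [Group G] [Finite G] (p : ℕ) [Fact p.Prime] : (∃ (P : Sylow p G) (K : Subgroup G), (P : Subgroup G).Normal ∧ K.Normal ∧ (P : Subgroup G) ⊓ K = ⊥ ∧ (P : Subgroup G) ⊔ K = ⊤) ↔ ∀ x y : G, (∃ a : ℕ, orderOf x = p ^ a) → (∃ q b : ℕ, q.Prime ∧ q ≠ p ∧ orderOf y = q ^ b) → (Subgroup.centralizer ({x * y} : Set G)).index = (Subgroup.centralizer ({x} : Set G)).index * (Subgroup.centralizer ({y} : Set G)).index := by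
  constructor
  · rintro ⟨P, K, hP, hK, hinf, hsup⟩ x y hx hy
    obtain ⟨hcomm, hxP, hyK⟩ := Cfsg.Agent.S3986.commute_of_directFactor hP hK hinf hsup hx hy
    obtain ⟨a, ha⟩ := hx
    obtain ⟨q, b, hq, hqp, hb⟩ := hy
    have hco : Nat.Coprime (p ^ a) (q ^ b) := ((Nat.coprime_primes Fact.out hq).mpr (Ne.symm hqp)).pow a b
    -- the centraliser of the product is the intersection
    have hC : Subgroup.centralizer ({x * y} : Set G) =
        Subgroup.centralizer {x} ⊓ Subgroup.centralizer {y} := by
      refine le_antisymm ?_ fun g hg => ?_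
      · obtain ⟨e, he1, he2⟩ := Nat.chineseRemainder hco 1 0
        have hxy : (x * y) ^ e = x := by
          rw [(show Commute x y from hcomm).mul_pow]
          have h1 : y ^ e = 1 := orderOf_dvd_iff_pow_eq_one.mp (hb ▸ Nat.modEq_zero_iff_dvd.mp he2)
          rw [h1, mul_one]
          conv_rhs => rw [← pow_one x]
          exact pow_eq_pow_iff_modEq.mpr (ha ▸ he1)
        intro g hg
        rw [Subgroup.mem_centralizer_singleton_iff] at hg
        have hgx : g * x = x * g := by rw [← hxy]; exact (show Commute g (x * y) from hg).pow_right e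
        refine ⟨Subgroup.mem_centralizer_singleton_iff.mpr hgx, Subgroup.mem_centralizer_singleton_iff.mpr ?_⟩
        have h2 := (show Commute g x from hgx).inv_right.mul_right (show Commute g (x * y) from hg)
        rwa [inv_mul_cancel_left] at h2
      · exact Subgroup.mem_centralizer_singleton_iff.mpr
          ((show Commute g x from Subgroup.mem_centralizer_singleton_iff.mp hg.1).mul_right
            (Subgroup.mem_centralizer_singleton_iff.mp hg.2)).eq
    rw [hC]
    set A := Subgroup.centralizer ({x} : Set G)
    set B := Subgroup.centralizer ({y} : Set G)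
    have hKA : K ≤ A := fun k hk => Subgroup.mem_centralizer_singleton_iff.mpr
      (Subgroup.commute_of_normal_of_disjoint _ _ hP hK (disjoint_iff.mpr hinf) x k hxP hk).symm.eq
    have hPB : (P : Subgroup G) ≤ B := fun k hk => Subgroup.mem_centralizer_singleton_iff.mpr
      (Subgroup.commute_of_normal_of_disjoint _ _ hP hK (disjoint_iff.mpr hinf) k y hk hyK).eq
    have hrel : A.relIndex B = A.index := by
      refine le_antisymm ?_ ?_
      · rw [← Subgroup.relIndex_top_right]
        exact Subgroup.relIndex_le_of_le_right le_top (fun h => Subgroup.index_ne_zero_of_finite h)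
      · refine Nat.card_le_card_of_surjective (Quotient.map' (fun b : B => (b : G)) fun a c h => by
          rw [QuotientGroup.leftRel_apply] at h ⊢
          exact h) fun q => ?_
        obtain ⟨g, rfl⟩ := QuotientGroup.mk_surjective q
        have hg : g ∈ ((P : Subgroup G) : Set G) * (K : Set G) := by
          rw [← Subgroup.normal_mul, hsup]; trivial
        obtain ⟨u, hu, k, hk, rfl⟩ := hg
        refine ⟨QuotientGroup.mk ⟨u, hPB hu⟩, QuotientGroup.eq.mpr ?_⟩
        show u⁻¹ * (u * k) ∈ A
        rw [inv_mul_cancel_left]
        exact hKA hk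
    rw [← Subgroup.relIndex_mul_index (show A ⊓ B ≤ B from inf_le_right), Subgroup.inf_relIndex_right, hrel]
  · intro h
    refine Cfsg.Agent.S3986.directFactor_of_commute p fun x y hx hy => ?_
    -- the class of `x * y` is the full product of the two classes
    set f : MulAction.orbit (ConjAct G) x × MulAction.orbit (ConjAct G) y → G :=
      fun uv => uv.1.1 * uv.2.1
    have hcard : ∀ z : G, Nat.card (MulAction.orbit (ConjAct G) z) = (Subgroup.centralizer {z}).index := by
      intro z
      rw [Nat.card_coe_set_eq, ← MulAction.index_stabilizer, ConjAct.stabilizer_eq_centralizer]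
      rfl
    have hsub : MulAction.orbit (ConjAct G) (x * y) ⊆ Set.range f := by
      rintro _ ⟨g, rfl⟩
      exact ⟨(⟨g • x, g, rfl⟩, ⟨g • y, g, rfl⟩), (smul_mul' g x y).symm⟩
    haveI : Finite (Set.range f) := Set.finite_range f |>.to_subtype
    have h1 : Nat.card (MulAction.orbit (ConjAct G) (x * y)) ≤ Nat.card (Set.range f) :=
      Nat.card_le_card_of_injective _ (Set.inclusion_injective hsub)
    rw [hcard, h x y hx hy, ← hcard, ← hcard, ← Nat.card_prod] at h1
    have hinj : Function.Injective (Set.rangeFactorization f) :=
      (Set.rangeFactorization_surjective.bijective_of_nat_card_le h1).1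
    set a : MulAction.orbit (ConjAct G) x × MulAction.orbit (ConjAct G) y :=
      (⟨x, MulAction.mem_orbit_self x⟩, ⟨ConjAct.toConjAct x⁻¹ • y, MulAction.mem_orbit y _⟩)
    set b : MulAction.orbit (ConjAct G) x × MulAction.orbit (ConjAct G) y :=
      (⟨ConjAct.toConjAct y • x, MulAction.mem_orbit x _⟩, ⟨y, MulAction.mem_orbit_self y⟩)
    have hab : f a = f b := by
      simp only [f, a, b, ConjAct.smul_def, ConjAct.ofConjAct_toConjAct]
      group
    have h2 := congrArg (fun p => (Prod.fst p).1) (hinj (a₁ := a) (a₂ := b) (Subtype.ext hab))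
    simp only [a, b, ConjAct.smul_def, ConjAct.ofConjAct_toConjAct] at h2
    exact eq_mul_inv_iff_mul_eq.mp h2

end Cfsg.Agent.S3987
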