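import Cfsg.Statements.S3989
import Cfsg.Agent.Lib.Transfer.Criteria
import Cfsg.Agent.Lib.PSolvable.PSolv
import Cfsg.Agent.Lib.Primitive62.Basic
import Cfsg.Agent.Lib.Blocks.PPart

set_option autoImplicit false
open Cfsg

namespace Cfsg.Agent.S3989


open scoped Pointwise

universe u

/-- The hypothesis of the statement. -/
def ProductProperty (p : ℕ) (G : Type u) [Group G] : Prop :=
  ∀ x y : G, (∃ a : ℕ, orderOf x = p ^ a) → (∃ q b : ℕ, q.Prime ∧ q ≠ p ∧ orderOf y = q ^ b) →
    ∀ z : G, IsConj (x * y) z ↔ ∃ a b : G, z = a * x * a⁻¹ * (b * y * b⁻¹)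

theorem productProperty_quotient {G : Type u} [Group G] [Finite G] {p : ℕ} [Fact p.Prime]
    (h : ProductProperty p G) (N : Subgroup G) [N.Normal] : ProductProperty p (G ⧸ N) := by
  have hlift : ∀ (q : ℕ) [Fact q.Prime] (x : G ⧸ N), (∃ a : ℕ, orderOf x = q ^ a) →
      ∃ x' : G, (∃ a : ℕ, orderOf x' = q ^ a) ∧ QuotientGroup.mk' N x' = x := by
    intro q _ x hx
    obtain ⟨g, rfl⟩ := QuotientGroup.mk'_surjective N x
    obtain ⟨g', hg'⟩ := Cfsg.Agent.Lib.Blocks.exists_isPPart (p := q) g
    have h1 := Cfsg.Agent.Lib.Blocks.isPPart_iff.mp hg'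
    obtain ⟨_, -, -, hord, -⟩ := hg'
    refine ⟨g', hord, ?_⟩
    obtain ⟨a, ha⟩ := hx
    obtain ⟨hm, -⟩ := (Cfsg.Agent.Lib.Blocks.exists_pPartExp G q).choose_spec
    rw [h1, map_pow]
    conv_rhs => rw [← pow_one (QuotientGroup.mk' N g)]
    refine pow_eq_pow_iff_modEq.2 (hm.of_dvd ?_)
    rw [ha]
    refine pow_dvd_pow q (((Fact.out : q.Prime).pow_dvd_iff_le_factorization Nat.card_pos.ne').1 ?_)
    rw [← ha]
    exact (orderOf_map_dvd _ g).trans (orderOf_dvd_natCard g)
  intro x y hx hy z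
  obtain ⟨q, b, hq, hqp, hyo⟩ := hy
  haveI : Fact q.Prime := ⟨hq⟩
  obtain ⟨x', hx', rfl⟩ := hlift p x hx
  obtain ⟨y', ⟨b', hy'⟩, rfl⟩ := hlift q y ⟨b, hyo⟩
  constructor
  · intro hz
    obtain ⟨c, rfl⟩ := isConj_iff.mp hz
    exact ⟨c, c, by group⟩
  · rintro ⟨a', b'', rfl⟩
    obtain ⟨a, rfl⟩ := QuotientGroup.mk'_surjective N a'
    obtain ⟨b, rfl⟩ := QuotientGroup.mk'_surjective N b''
    have := (h x' y' hx' ⟨q, b', hq, hqp, hy'⟩ _).mpr ⟨a, b, rfl⟩
    simpa only [map_mul, map_inv] using (QuotientGroup.mk' N).map_isConj this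

/-- A minimal normal subgroup is locally `p`-trivial. -/
theorem locallyPTrivial_minimal {G : Type u} [Group G] [Finite G] {p : ℕ} [hp : Fact p.Prime]
    (h : ProductProperty p G) (N : Subgroup G) [N.Normal]
    (hmin : ∀ M : Subgroup G, M.Normal → M ≤ N → M = ⊥ ∨ M = N) :
    Cfsg.Agent.Lib.Transfer.LocallyPTrivial p N := by
  intro Q hQ g hg hgo
  have key : ∀ (n : ℕ) (z : N), orderOf z = n → (∃ m : ℕ, g ^ m = z) → n.Coprime p →
      z ∈ Subgroup.centralizer (Q : Set N) := by
    intro n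
    induction n using Nat.recOnPosPrimePosCoprime with
    | zero => exact fun z hz _ _ => absurd hz (orderOf_pos z).ne'
    | one => exact fun z hz _ _ => orderOf_eq_one_iff.mp hz ▸ one_mem _
    | coprime u v hu hv huv ihu ihv =>
      rintro z hz ⟨m, rfl⟩ hn
      obtain ⟨c, d, hcd⟩ : ∃ c d : ℤ, c * v + d * u = 1 := by
        refine ⟨Nat.gcdA v u, Nat.gcdB v u, ?_⟩
        have := Nat.gcd_eq_gcd_ab v u
        rw [huv.symm.gcd_eq_one, Nat.cast_one] at this
        linarith
      have h1 : orderOf ((g ^ m) ^ v) = u := by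
        rw [orderOf_pow_of_dvd (by omega) (hz ▸ dvd_mul_left v u), hz,
          Nat.mul_div_cancel _ (by omega)]
      have h2 : orderOf ((g ^ m) ^ u) = v := by
        rw [orderOf_pow_of_dvd (by omega) (hz ▸ dvd_mul_right u v), hz,
          Nat.mul_div_cancel_left _ (by omega)]
      have e1 := ihu _ h1 ⟨m * v, pow_mul g m v⟩ hn.coprime_mul_right
      have e2 := ihv _ h2 ⟨m * u, pow_mul g m u⟩ hn.coprime_mul_left
      have e3 : g ^ m = ((g ^ m) ^ v) ^ c * ((g ^ m) ^ u) ^ d := by
        rw [← zpow_natCast (g ^ m) v, ← zpow_natCast (g ^ m) u, ← zpow_mul, ← zpow_mul,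
          ← zpow_add, mul_comm (v : ℤ) c, mul_comm (u : ℤ) d, hcd, zpow_one]
      rw [e3]
      exact mul_mem (zpow_mem e1 c) (zpow_mem e2 d)
    | prime_pow r a hr ha =>
      rintro z hz ⟨m, rfl⟩ hn
      rw [Subgroup.mem_centralizer_iff]
      intro v hv
      by_contra hne
      set z : N := g ^ m with hzdef
      have hrp : r ≠ p := fun e => by
        rw [e, Nat.coprime_pow_left_iff ha, Nat.coprime_self] at hn
        exact hp.out.ne_one hn
      have hzn : z ∈ Subgroup.normalizer (Q : Set N) := pow_mem hg m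
      set u : N := z * v * z⁻¹ * v⁻¹ with hudef
      have huQ : u ∈ Q :=
        Q.mul_mem ((Subgroup.mem_normalizer_iff.mp hzn v).mp hv) (Q.inv_mem hv)
      have hu1 : u ≠ 1 := fun e => hne (by
        have h2 : z * v * z⁻¹ = v := by rwa [hudef, mul_inv_eq_one] at e
        exact (mul_inv_eq_iff_eq_mul.mp h2).symm)
      obtain ⟨j, hj⟩ : ∃ j, orderOf (u : G) = p ^ j := by
        obtain ⟨j, hj⟩ := IsPGroup.iff_orderOf.mp hQ ⟨u, huQ⟩
        exact ⟨j, by rwa [Subgroup.orderOf_coe, ← Subgroup.orderOf_mk (H := Q) u huQ]⟩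
      have hzo : orderOf (z : G) = r ^ a := by rw [Subgroup.orderOf_coe]; exact hz
      have hiff := h (u : G) (z : G) ⟨j, hj⟩ ⟨r, a, hr, hrp, hzo⟩
      have hbase : IsConj ((u : G) * (z : G)) (z : G) := (hiff _).mpr ⟨1, (v : G), by
        simp [hudef]; group⟩
      let S : Set G := {w | IsConj (z : G) w}
      have hS : ∀ b : G, b * (u : G) * b⁻¹ ∈ MulAction.stabilizer G S := by
        intro b
        refine MulAction.mem_stabilizer_iff.mpr (Set.eq_of_subset_of_ncard_le ?_
          (by rw [Set.ncard_smul_set]) (Set.toFinite _))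
        rintro _ ⟨w, hw, rfl⟩
        obtain ⟨c, rfl⟩ := isConj_iff.mp hw
        exact hbase.symm.trans ((hiff _).mpr ⟨b, c, rfl⟩)
      have hN : N ≤ MulAction.stabilizer G S := by
        have hM : Subgroup.normalClosure ({(u : G)} : Set G) ≤ MulAction.stabilizer G S := by
          rw [Subgroup.normalClosure, Subgroup.closure_le]
          intro w hw
          obtain ⟨t, ht, hwt⟩ := Group.mem_conjugatesOfSet_iff.mp hw
          rw [Set.mem_singleton_iff] at ht
          subst ht
          obtain ⟨b, rfl⟩ := isConj_iff.mp hwt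
          exact hS b
        rcases hmin _ Subgroup.normalClosure_normal
          (Subgroup.normalClosure_le_normal (Set.singleton_subset_iff.mpr u.2)) with hb | hb
        · exact absurd (Subtype.ext (Subgroup.mem_bot.mp (hb ▸ Subgroup.subset_normalClosure
            (Set.mem_singleton (u : G)))) : u = 1) hu1
        · exact hb ▸ hM
      have h1 := MulAction.mem_stabilizer_iff.mp (hN (N.inv_mem z.2))
      have : (1 : G) ∈ S := by
        rw [← h1]
        exact ⟨(z : G), IsConj.refl _, by simp⟩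
      have hz1 : z = 1 := Subtype.ext (isConj_one_left.mp this)
      exact hne (by simp [hz1])
  exact key _ g rfl ⟨1, pow_one g⟩ hgo

theorem isPSolvable_of_productProperty {p : ℕ} [Fact p.Prime] :
    ∀ (n : ℕ) (G : Type u) [Group G] [Finite G], Nat.card G = n → ProductProperty p G →
      Cfsg.IsPSolvable p G := by
  intro n
  induction n using Nat.strong_induction_on with
  | _ n ih =>
    intro G _ _ hcard h
    rcases subsingleton_or_nontrivial G with hs | hs
    · exact Cfsg.Agent.Lib.PSolvable.isPSolvable_of_coprime (by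
        rw [Nat.card_unique]; exact Nat.coprime_one_left p)
    obtain ⟨N, hN, hNne, -, hmin⟩ := Cfsg.Agent.Lib.Primitive62.exists_minimal_normal (⊤ : Subgroup G)
      (Subgroup.nontrivial_iff_ne_bot _ |>.mp inferInstance)
    obtain ⟨P, K, hK, hKP⟩ := Cfsg.Agent.Lib.Transfer.hasNormalPComplement_iff_locallyPTrivial.mpr
      (locallyPTrivial_minimal h N hmin)
    have hps : Cfsg.IsPSolvable p N := by
      refine Cfsg.Agent.Lib.PSolvable.isPSolvable_of_quotient K (Or.inr ?_)
        (Cfsg.Agent.Lib.PSolvable.isPSolvable_of_isPGroup ?_)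
      · rw [← hKP.index_eq_card]
        exact ((Fact.out : p.Prime).coprime_iff_not_dvd.mpr P.not_dvd_index).symm
      · obtain ⟨m, hm⟩ := IsPGroup.iff_card.mp P.isPGroup'
        exact IsPGroup.of_card (n := m) (by rw [← Subgroup.index_eq_card, hKP.symm.index_eq_card, hm])
    obtain ⟨M, hM, hMN, hMne, hMp⟩ := Cfsg.Agent.Lib.PSolvable.exists_normal_le_of_isPSolvable N hNne hps
    refine Cfsg.Agent.Lib.PSolvable.isPSolvable_of_quotient M ?_ ?_
    · exact hMp.imp (fun hp => IsPGroup.iff_card.mp hp) id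
    · refine ih _ ?_ (G ⧸ M) rfl (productProperty_quotient h M)
      rw [← hcard, ← M.card_mul_index, Subgroup.index_eq_card]
      exact lt_mul_left Nat.card_pos (M.one_lt_card_iff_ne_bot.mpr hMne)
/-- Let p be a prime and G a finite group such that for every element x of p-power order and every element y whose order is a power of a prime other than p, the conjugacy class of x y is the set of all products of a conjugate of x with a conjugate of y. Then G is p-solvable. -/
theorem result {G : Type*} [Group G] [Finite G] (p : ℕ) [Fact p.Prime] (h : ∀ x y : G, (∃ a : ℕ, orderOf x = p ^ a) → (∃ q b : ℕ, q.Prime ∧ q ≠ p ∧ orderOf y = q ^ b) → ∀ z : G, IsConj (x * y) z ↔ ∃ a b : G, z = a * x * a⁻¹ * (b * y * b⁻¹)) : Cfsg.IsPSolvable p G := by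
  exact isPSolvable_of_productProperty (Nat.card G) G rfl h

end Cfsg.Agent.S3989
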