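import Cfsg.Statements.S3994
import Mathlib
import Cfsg.Agent.Lib.OrderCount.Frobenius

set_option autoImplicit false
open Cfsg

namespace Cfsg.Agent.S3994

/-- Let G be a finite group and n a positive integer. The number of elements of G whose order is divisible by n is either 0 or divisible by the largest divisor of the order of G that is coprime to n. -/
theorem result {G : Type*} [Group G] [Finite G] (n : ℕ) (hn : 0 < n) :
    Nat.card {g : G // n ∣ orderOf g} = 0 ∨
      (Nat.card G / Nat.gcd (Nat.card G) (n ^ Nat.card G)) ∣ Nat.card {g : G // n ∣ orderOf g} := by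
  right
  set N := Nat.card G
  have hN : 0 < N := Nat.card_pos
  refine Cfsg.Agent.Lib.OrderCount.dvd_card_dvd_orderOf hn (Nat.div_dvd_of_dvd (Nat.gcd_dvd_left _ _)) ?_
  refine Nat.coprime_of_dvd fun q hq hq1 hq2 => ?_
  have hg : 0 < Nat.gcd N (n ^ N) := Nat.gcd_pos_of_pos_left _ hN
  -- the full q-part of N divides n ^ N
  have h1 : q ^ N.factorization q ∣ Nat.gcd N (n ^ N) :=
    Nat.dvd_gcd (Nat.ordProj_dvd N q)
      ((pow_dvd_pow_of_dvd hq2 _).trans (pow_dvd_pow n (Nat.factorization_lt q hN.ne').le))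
  have h2 : q ^ (N.factorization q + 1) ∣ N := by
    rw [pow_succ]
    exact (mul_dvd_mul h1 hq1).trans (dvd_of_eq (Nat.mul_div_cancel' (Nat.gcd_dvd_left _ _)))
  exact Nat.pow_succ_factorization_not_dvd hN.ne' hq h2

end Cfsg.Agent.S3994
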