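import Cfsg.Statements.S3995
import Mathlib
import Cfsg.Agent.Lib.OrderCount.Frobenius
import Cfsg.Agent.Lib.Schur.Cover

set_option autoImplicit false
open Cfsg

namespace Cfsg.Agent.S3995

/-- A group with one involution and orders `1, 2, 4` is cyclic or quaternion of order eight. -/
theorem quaternion_case {G : Type*} [Group G] [Finite G] (z : G) (hz : orderOf z = 2)
    (hzu : ∀ g : G, orderOf g = 2 → g = z) (hall : ∀ g : G, orderOf g = 1 ∨ orderOf g = 2 ∨ orderOf g = 4)
    (x : G) (hx : orderOf x = 4) (y : G) (hy : y ∉ Subgroup.zpowers x) :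
    Nonempty (G ≃* QuaternionGroup 2) := by
  have hx4 : x ^ 4 = 1 := hx ▸ pow_orderOf_eq_one x
  have hsq : ∀ w, w ∉ Subgroup.zpowers x → w ^ 2 = z := fun w hw => by
    rcases hall w with h | h | h
    · rw [orderOf_eq_one_iff] at h; exact absurd (h ▸ one_mem _) hw
    · exfalso
      apply hw
      rw [hzu w h, ← hzu (x ^ 2) (by rw [orderOf_pow, hx]; rfl)]
      exact pow_mem (Subgroup.mem_zpowers x) 2
    · exact hzu _ (by rw [orderOf_pow, h]; rfl)
  have hx2 : x ^ 2 = z := hzu _ (by rw [orderOf_pow, hx]; rfl)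
  have hinv : ∀ w, w ∉ Subgroup.zpowers x → w * x * w⁻¹ = x⁻¹ := fun w hw => by
    have hxw : x * w ∉ Subgroup.zpowers x := fun h => hw (by
      simpa using mul_mem (inv_mem (Subgroup.mem_zpowers x)) h)
    have h1 : x * w * x * w = w ^ 2 := by
      rw [hsq w hw, ← hsq _ hxw, sq (x * w)]; group
    have h2 : x * w * x = w := by rwa [sq, mul_left_inj] at h1
    calc w * x * w⁻¹ = x⁻¹ * (x * w * x) * w⁻¹ := by group
      _ = x⁻¹ := by rw [h2, mul_inv_cancel_right]
  have hout : ∀ w, w ∈ Subgroup.zpowers x ∨ y⁻¹ * w ∈ Subgroup.zpowers x := fun w => by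
    by_contra hc
    push Not at hc
    have h1 : (y⁻¹ * w) * x * (y⁻¹ * w)⁻¹ = x := by
      calc (y⁻¹ * w) * x * (y⁻¹ * w)⁻¹ = y⁻¹ * (w * x * w⁻¹) * y := by group
        _ = y⁻¹ * (y * x * y⁻¹) * y := by rw [hinv w hc.1, hinv y hy]
        _ = x := by group
    rw [hinv _ hc.2, inv_eq_iff_mul_eq_one] at h1
    have := orderOf_dvd_of_pow_eq_one (show x ^ 2 = 1 by rw [sq]; exact h1)
    rw [hx] at this
    norm_num at this
  have hyk : ∀ k : ℕ, y * x ^ k * y⁻¹ = (x ^ k)⁻¹ := fun k => by rw [← conj_pow, hinv y hy, inv_pow]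
  let f : QuaternionGroup 2 → G := fun q => match q with
    | .a i => x ^ i.val
    | .xa i => y * x ^ i.val
  have hsurj : Function.Surjective f := fun w => by
    have hpow : ∀ v ∈ Subgroup.zpowers x, ∃ k : ℕ, k < 4 ∧ x ^ k = v := by
      rintro _ ⟨k, rfl⟩
      refine ⟨(k % 4).toNat, by omega, ?_⟩
      show x ^ (k % 4).toNat = x ^ k
      rw [← zpow_natCast, Int.toNat_of_nonneg (Int.emod_nonneg k (by norm_num)), ← zpow_mod_orderOf x k, hx]
      norm_num
    rcases hout w with hw | hw <;> obtain ⟨k, hk, hkw⟩ := hpow _ hw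
    · exact ⟨.a (k : ZMod (2 * 2)), by simp only [f]; rw [ZMod.val_natCast_of_lt (by omega), hkw]⟩
    · exact ⟨.xa (k : ZMod (2 * 2)), by
        simp only [f]; rw [ZMod.val_natCast_of_lt (by omega), hkw, mul_inv_cancel_left]⟩
  have hval : ∀ i j : ZMod (2 * 2), x ^ (i + j).val = x ^ i.val * x ^ j.val := fun i j => by
    rw [← pow_add, ZMod.val_add, pow_eq_pow_iff_modEq, hx]
    exact Nat.mod_modEq _ _
  have hneg : ∀ i j : ZMod (2 * 2), x ^ (j - i).val = (x ^ i.val)⁻¹ * x ^ j.val := fun i j => by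
    rw [eq_inv_mul_iff_mul_eq, ← hval, add_sub_cancel]
  have hswap : ∀ k : ℕ, x ^ k * y = y * (x ^ k)⁻¹ := fun k => by
    rw [eq_comm, ← hyk, ← mul_assoc, ← mul_assoc]
    calc y * y * x ^ k * y⁻¹ = y ^ 2 * x ^ k * y⁻¹ := by rw [sq]
      _ = x ^ k * y ^ 2 * y⁻¹ := by rw [hsq y hy, ← hx2, ← pow_add, add_comm, pow_add]
      _ = x ^ k * y := by rw [sq]; group
  let F : QuaternionGroup 2 →* G :=
    { toFun := f
      map_one' := by
        show x ^ (0 : ZMod (2 * 2)).val = 1
        rw [ZMod.val_zero, pow_zero]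
      map_mul' := by
        have h22 : x ^ ((2 : ℕ) : ZMod (2 * 2)).val = y ^ 2 := by
          rw [hsq y hy, ZMod.val_natCast_of_lt (by norm_num), hx2]
        rintro (i | i) (j | j)
        · exact hval i j
        · show y * x ^ (j - i).val = x ^ i.val * (y * x ^ j.val)
          rw [hneg, ← mul_assoc, ← mul_assoc, hswap]
        · show y * x ^ (i + j).val = y * x ^ i.val * x ^ j.val
          rw [hval, mul_assoc]
        · show x ^ (((2 : ℕ) : ZMod (2 * 2)) + j - i).val = y * x ^ i.val * (y * x ^ j.val)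
          rw [add_sub_assoc, hval, hneg, h22, mul_assoc y, ← mul_assoc (x ^ i.val) y, hswap, sq]
          simp only [mul_assoc] }
  have h8 : 8 ≤ Nat.card G := by
    have hlt : Nat.card (Subgroup.zpowers x) < Nat.card G := by
      refine lt_of_le_of_ne (Subgroup.card_le_card_group _) fun h => hy ?_
      rw [Subgroup.eq_top_of_card_eq _ h]; trivial
    obtain ⟨c, hc⟩ := Subgroup.card_subgroup_dvd_card (Subgroup.zpowers x)
    rw [Nat.card_zpowers, hx] at hlt hc
    omega
  have hbij : Function.Bijective F := hsurj.bijective_of_nat_card_le (by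
    rw [Nat.card_eq_fintype_card (α := QuaternionGroup 2), QuaternionGroup.card]
    omega)
  exact ⟨(MulEquiv.ofBijective F hbij).symm⟩

/-- Products of elements killed by `p` cannot acquire the central involution. -/
theorem sign_aux {G : Type*} [Group G] [Finite G] (p : ℕ) (hp : p.Prime) (hp2 : 2 < p) (z : G)
    (hz : orderOf z = 2) (hzc : ∀ g : G, g * z = z * g) (hdec : ∀ g : G, g ^ p = 1 ∨ (z * g) ^ p = 1)
    (a b : G) (ha : a ^ p = 1) (hb : b ^ p = 1) (hab : (z * (a * b)) ^ p = 1) : False := by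
  haveI : Fact (Nat.Prime p) := ⟨hp⟩
  have hz1 : z ^ 2 = 1 := hz ▸ pow_orderOf_eq_one z
  -- a Sylow `2`-subgroup has order two, so there is a normal complement
  haveI : Fact (Nat.Prime 2) := ⟨Nat.prime_two⟩
  let T : Sylow 2 G := default
  have hT : (T : Subgroup G) ≤ Subgroup.zpowers z := fun t ht => by
    obtain ⟨c, hc⟩ := IsPGroup.iff_orderOf.mp T.isPGroup' ⟨t, ht⟩
    rw [Subgroup.orderOf_mk] at hc
    have hco : Nat.Coprime (2 ^ c) p := ((Nat.coprime_primes Nat.prime_two hp).mpr (by omega)).pow_left c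
    rcases hdec t with h | h
    · rw [orderOf_eq_one_iff.mp (Nat.eq_one_of_dvd_coprimes hco (dvd_of_eq hc) (orderOf_dvd_of_pow_eq_one h))]
      exact one_mem _
    · have h2 : (z * t) ^ 2 ^ (c + 1) = 1 := by
        rw [(show Commute z t from (hzc t).symm).mul_pow, pow_succ', pow_mul, hz1, one_pow, one_mul,
          mul_comm, pow_mul, ← hc, pow_orderOf_eq_one, one_pow]
      have h3 : z * t = 1 := orderOf_eq_one_iff.mp (Nat.eq_one_of_dvd_coprimes
        (((Nat.coprime_primes Nat.prime_two hp).mpr (by omega)).pow_left (c + 1))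
        (orderOf_dvd_of_pow_eq_one h2) (orderOf_dvd_of_pow_eq_one h))
      rw [eq_inv_of_mul_eq_one_right h3]
      exact inv_mem (Subgroup.mem_zpowers z)
  have hT2 : Subgroup.normalizer ((T : Subgroup G) : Set G) ≤ Subgroup.centralizer ((T : Subgroup G) : Set G) := by
    intro g _
    rw [Subgroup.mem_centralizer_iff]
    intro t ht
    obtain ⟨j, rfl⟩ := hT ht
    exact ((show Commute g z from hzc g).zpow_right j).eq.symm
  have hcompl := MonoidHom.ker_transferSylow_isComplement' T hT2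
  set K := (MonoidHom.transferSylow T hT2).ker
  have hmemK : ∀ g : G, g ^ p = 1 → g ∈ K := fun g hg => by
    rw [MonoidHom.mem_ker, ← orderOf_eq_one_iff]
    obtain ⟨c, hc⟩ := IsPGroup.iff_card.mp T.isPGroup'
    refine Nat.eq_one_of_dvd_coprimes (((Nat.coprime_primes hp Nat.prime_two).mpr (by omega)).pow_right c) ?_
      (hc ▸ orderOf_dvd_natCard _)
    exact orderOf_dvd_of_pow_eq_one (by rw [← map_pow, hg, map_one])
  have hzK : z ∈ K := by
    have := K.mul_mem (hmemK _ hab) (K.inv_mem (K.mul_mem (hmemK a ha) (hmemK b hb)))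
    rwa [mul_inv_cancel_right] at this
  have hzT : z ∈ (T : Subgroup G) := by
    obtain ⟨R, hR⟩ := (IsPGroup.of_card (n := 1) (by rw [Nat.card_zpowers, hz, pow_one]) :
      IsPGroup 2 (Subgroup.zpowers z)).exists_le_sylow
    obtain ⟨g, rfl⟩ := MulAction.exists_smul_eq G T R
    obtain ⟨t, ht, htz⟩ := hR (Subgroup.mem_zpowers z)
    change g * t * g⁻¹ = z at htz
    rw [mul_inv_eq_iff_eq_mul, ← hzc g] at htz
    rw [← mul_left_cancel htz]
    exact ht
  have := hcompl.disjoint.le_bot ⟨hzK, hzT⟩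
  rw [Subgroup.mem_bot] at this
  simp [this] at hz

/-- A group with one involution and orders `1, 2, p, 2p` is `Z₂ × P`. -/
theorem product_case {G : Type*} [Group G] [Finite G] (p : ℕ) (hp : p.Prime) (hp2 : 2 < p) (z : G)
    (hz : orderOf z = 2) (hzu : ∀ g : G, orderOf g = 2 → g = z) (hzc : ∀ g : G, g * z = z * g)
    (hall : ∀ g : G, orderOf g = 1 ∨ orderOf g = 2 ∨ orderOf g = p ∨ orderOf g = 2 * p)
    (hpG : p ∣ Nat.card G) :
    ∃ (p : ℕ) (P : Type) (_ : Group P) (_ : Finite P), p.Prime ∧ p ≠ 2 ∧ IsPGroup p P ∧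
      Monoid.exponent P = p ∧ Nonempty (G ≃* Multiplicative (ZMod 2) × P) := by
  have hz1 : z ^ 2 = 1 := hz ▸ pow_orderOf_eq_one z
  obtain ⟨k, hk⟩ : Odd p := hp.odd_of_ne_two (by omega)
  -- every element is `z ^ e` times an element killed by `p`
  have hdec : ∀ g : G, g ^ p = 1 ∨ (z * g) ^ p = 1 := fun g => by
    have h2p : g ^ (2 * p) = 1 := by
      rw [← orderOf_dvd_iff_pow_eq_one]
      rcases hall g with h | h | h | h <;> simp [h]
    by_cases hg : g ^ p = 1
    · exact Or.inl hg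
    · right
      have : g ^ p = z := hzu _ (orderOf_eq_prime (by rw [← pow_mul, mul_comm]; exact h2p) hg)
      rw [(show Commute z g from (hzc g).symm).mul_pow, this, ← pow_succ, hk,
        show 2 * k + 1 + 1 = 2 * (k + 1) by ring, pow_mul, hz1, one_pow]
  have hzp : z ^ p = z := by rw [hk, pow_succ, pow_mul, hz1, one_pow, one_mul]
  have hmul : ∀ a b : G, a ^ p = 1 → b ^ p = 1 → (a * b) ^ p = 1 := by
    intro a b ha hb
    rcases hdec (a * b) with h | h
    · exact h
    · exact (Cfsg.Agent.S3995.sign_aux p hp hp2 z hz hzc hdec a b ha hb h).elim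
  let P : Subgroup G :=
    { carrier := {g | g ^ p = 1}
      mul_mem' := fun {a b} ha hb => hmul a b ha hb
      one_mem' := one_pow p
      inv_mem' := fun {a} ha => by show a⁻¹ ^ p = 1; rw [inv_pow, show a ^ p = 1 from ha, inv_one] }
  obtain ⟨P', _, _, ⟨ee⟩⟩ := Cfsg.Agent.Lib.Schur.exists_copy.{0} P
  refine ⟨p, P', inferInstance, inferInstance, hp, by omega, ?_, ?_, ?_⟩
  · intro g
    refine ⟨1, ?_⟩
    rw [pow_one]
    exact ee.injective (by rw [map_pow, map_one]; exact Subtype.ext (ee g).2)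
  · rw [Monoid.exponent_eq_of_mulEquiv ee]
    refine (hp.eq_one_or_self_of_dvd _ (Monoid.exponent_dvd_of_forall_pow_eq_one fun g => Subtype.ext g.2)).resolve_left fun h1 => ?_
    haveI : Fact (Nat.Prime p) := ⟨hp⟩
    obtain ⟨g, hg⟩ := exists_prime_orderOf_dvd_card' (G := G) p hpG
    have hgP : g ∈ P := by show g ^ p = 1; rw [← hg]; exact pow_orderOf_eq_one g
    have := Monoid.order_dvd_exponent (⟨g, hgP⟩ : P)
    rw [h1, Nat.dvd_one, Subgroup.orderOf_mk, hg] at this
    exact hp.ne_one this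
  · have hzP : z ∉ P := fun h => by
      change z ^ p = 1 at h
      rw [hzp] at h
      simp [h] at hz
    let i : Multiplicative (ZMod 2) →* G :=
      AddMonoidHom.toMultiplicativeLeft (ZMod.lift 2 ⟨zmultiplesHom _ (Additive.ofMul z), by
        show ((2 : ℕ) : ℤ) • Additive.ofMul z = 0
        rw [natCast_zsmul, ← ofMul_pow, hz1, ofMul_one]⟩)
    have hi : ∀ j, i j = 1 ∨ i j = z := by
      intro j
      obtain ⟨t, ht⟩ := ZMod.intCast_surjective j.toAdd
      have hj : i j = z ^ t := by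
        show Additive.toMul _ = _
        rw [← ht, ZMod.lift_coe]
        rfl
      rw [hj, ← zpow_mod_orderOf, hz]
      rcases Int.emod_two_eq_zero_or_one t with h | h <;> simp [h]
    have hi1 : i (Multiplicative.ofAdd 1) = z := by
      show Additive.toMul _ = _
      rw [toAdd_ofAdd, ← Int.cast_one, ZMod.lift_coe]
      show z ^ (1 : ℤ) = z
      rw [zpow_one]
    let m : Multiplicative (ZMod 2) × P →* G := MonoidHom.mk' (fun a => i a.1 * a.2.1) fun a b => by
      show i (a.1 * b.1) * ((a.2 : G) * b.2) = i a.1 * a.2 * (i b.1 * b.2)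
      have hcm : Commute (a.2 : G) (i b.1) := by
        rcases hi b.1 with h | h <;> rw [h]
        exacts [Commute.one_right _, hzc _]
      rw [map_mul, hcm.mul_mul_mul_comm]
    have hm : Function.Bijective m := by
      refine ⟨(injective_iff_map_eq_one m).mpr fun a ha => ?_, fun g => ?_⟩
      · have ha' : i a.1 * (a.2 : G) = 1 := ha
        have hj : i a.1 = 1 := by
          rcases hi a.1 with h | h
          · exact h
          · rw [h, mul_eq_one_iff_eq_inv] at ha'
            exact absurd (ha' ▸ P.inv_mem a.2.2) hzP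
        rw [hj, one_mul] at ha'
        have hb : ∀ b : Multiplicative (ZMod 2), b = 1 ∨ b = Multiplicative.ofAdd 1 := by decide
        refine Prod.ext ((hb a.1).resolve_right fun hb1 => ?_) (Subtype.ext ha')
        rw [hb1, hi1] at hj
        simp [hj] at hz
      · rcases hdec g with h | h
        · exact ⟨(1, ⟨g, h⟩), by show i 1 * g = g; rw [map_one, one_mul]⟩
        · exact ⟨(Multiplicative.ofAdd 1, ⟨z * g, h⟩), by
            show i _ * (z * g) = g
            rw [hi1, ← mul_assoc, ← sq, hz1, one_mul]⟩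
    exact ⟨(MulEquiv.ofBijective m hm).symm.trans ((MulEquiv.refl _).prodCongr ee.symm)⟩

/-- Let G be a finite group such that the numbers of elements of each order that occurs in G (the numbers #{g : o(g) = m}, m ranging over the element orders of G) take exactly two values, 1 and some n ≠ 1. Then either G is a p-group of exponent p and order at least 3 for some prime p, or G is the quaternion group of order 8, or G is cyclic of order 4, or G ≅ Z₂ × P for a p-group P of exponent p with p an odd prime. -/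
theorem result {G : Type*} [Group G] [Finite G] (n : ℕ) (hn : n ≠ 1) (h : ((fun m : ℕ => Nat.card {g : G // orderOf g = m}) '' Set.range (orderOf : G → ℕ)) = {1, n}) :
    (∃ p : ℕ, p.Prime ∧ IsPGroup p G ∧ 3 ≤ Nat.card G ∧ Monoid.exponent G = p) ∨
      Nonempty (G ≃* QuaternionGroup 2) ∨ (IsCyclic G ∧ Nat.card G = 4) ∨
      (∃ (p : ℕ) (P : Type) (_ : Group P) (_ : Finite P), p.Prime ∧ p ≠ 2 ∧ IsPGroup p P ∧ Monoid.exponent P = p ∧
        Nonempty (G ≃* Multiplicative (ZMod 2) × P)) := by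
  classical
  cases nonempty_fintype G
  set s : ℕ → ℕ := fun m => Nat.card {g : G // orderOf g = m} with hs
  set R := Set.range (orderOf : G → ℕ) with hR
  have hval : ∀ m ∈ R, s m = 1 ∨ s m = n := fun m hm => by
    have h1 : s m ∈ ({1, n} : Set ℕ) := h ▸ ⟨m, hm, rfl⟩
    simpa using h1
  obtain ⟨m₀, hm₀, hsm₀⟩ : ∃ m ∈ R, s m = n := by
    have h1 : n ∈ ((fun m : ℕ => Nat.card {g : G // orderOf g = m}) '' R) := by rw [h]; simp
    exact h1
  have hone : s 1 = 1 := by
    simp only [hs, orderOf_eq_one_iff, Nat.card_eq_one_iff_unique]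
    exact ⟨⟨fun a b => Subtype.ext (a.2.trans b.2.symm)⟩, ⟨⟨1, rfl⟩⟩⟩
  have hn0 : 0 < n := by
    rw [← hsm₀]; obtain ⟨g, hg⟩ := hm₀; exact Nat.card_pos_iff.mpr ⟨⟨g, hg⟩, inferInstance⟩
  -- orders above two occur `n` times
  have hbig : ∀ m ∈ R, 2 < m → s m = n ∧ Nat.totient m ∣ n ∧ Even n := fun m hm h2 => by
    have hd : Nat.totient m ∣ s m := Cfsg.Agent.Lib.OrderCount.totient_dvd_card_orderOf (G := G) m
    have hev : Even (Nat.totient m) := Nat.totient_even h2
    rcases hval m hm with h1 | h1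
    · rw [h1, Nat.dvd_one] at hd
      rw [hd] at hev
      exact absurd hev (by decide)
    · rw [h1] at hd
      exact ⟨h1, hd, even_iff_two_dvd.mpr ((even_iff_two_dvd.mp hev).trans hd)⟩
  -- counting by orders
  have hcount : ∀ (P : ℕ → Prop) (S : Finset ℕ), (∀ g : G, P (orderOf g) ↔ orderOf g ∈ S) →
      Nat.card {g : G // P (orderOf g)} = ∑ m ∈ S, s m := by
    intro P S hPS
    simp only [hs, Nat.card_eq_fintype_card, Fintype.card_subtype]
    have e : (Finset.univ.filter fun g : G => P (orderOf g)) =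
        S.biUnion fun m => Finset.univ.filter fun g : G => orderOf g = m := by
      ext g; simp [hPS g]
    rw [e, Finset.card_biUnion]
    intro a _ b _ hab
    exact Finset.disjoint_filter.mpr fun g _ ha hb => hab (ha ▸ hb)
  have hfrob : ∀ N : ℕ, N ∣ Nat.card G → ∀ S : Finset ℕ, (∀ g : G, orderOf g ∣ N ↔ orderOf g ∈ S) →
      N ∣ ∑ m ∈ S, s m := by
    intro N hN S hS
    rw [← hcount (fun k => k ∣ N) S hS]
    exact (Cfsg.Agent.Lib.OrderCount.dvd_card_pow_eq_one hN).trans
      (dvd_of_eq (Nat.card_congr (Equiv.subtypeEquivRight fun g => orderOf_dvd_iff_pow_eq_one.symm)))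
  have hclosed : ∀ m ∈ R, ∀ d, d ∣ m → d ∈ R := by
    rintro _ ⟨g, rfl⟩ d hd
    exact ⟨g ^ (orderOf g / d), orderOf_pow_orderOf_div (orderOf_pos g).ne' hd⟩
  have hdvdG : ∀ m ∈ R, m ∣ Nat.card G := by rintro _ ⟨g, rfl⟩; exact orderOf_dvd_natCard g
  have h1R : (1 : ℕ) ∈ R := ⟨1, orderOf_one⟩
  -- an odd prime divides `n + 1`
  have hp1 : ∀ p, p.Prime → p ∈ R → 2 < p → p ∣ 1 + n := fun p hp hpR hp2 => by
    have := hfrob p (hdvdG p hpR) {1, p} fun g => by simp [Nat.dvd_prime hp]
    rwa [Finset.sum_pair hp.ne_one.symm, hone, (hbig p hpR hp2).1] at this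
  have hp2' : ∀ p, p.Prime → p ∈ R → 2 < p → p * p ∉ R := fun p hp hpR hp2 hpp => by
    have h1 := hfrob (p ^ 2) (by rw [sq]; exact hdvdG _ hpp) {1, p, p * p} fun g => by
      rw [Nat.dvd_prime_pow hp]
      simp only [Finset.mem_insert, Finset.mem_singleton]
      constructor
      · rintro ⟨i, hi, h⟩; interval_cases i <;> simp [h, sq]
      · rintro (h | h | h)
        exacts [⟨0, by omega, by simpa using h⟩, ⟨1, by omega, by simpa using h⟩, ⟨2, le_rfl, by rw [h, sq]⟩]
    have hlt : p < p * p := lt_mul_self hp.one_lt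
    rw [Finset.sum_insert (by simp; omega), Finset.sum_pair hlt.ne, hone, (hbig p hpR hp2).1,
      (hbig _ hpp (by omega)).1] at h1
    have h2 := hp1 p hp hpR hp2
    have h3 : p ∣ n := (Nat.dvd_add_right h2).mp (((dvd_pow_self p two_ne_zero).trans h1).trans
      (dvd_of_eq (by ring)))
    exact hp.not_dvd_one ((Nat.dvd_add_left h3).mp h2)
  have hpq : ∀ p q, p.Prime → q.Prime → 2 < p → 2 < q → p ≠ q → p * q ∉ R := fun p q hp hq hp2 hq2 hne hm => by
    have hpR := hclosed _ hm p (dvd_mul_right p q)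
    have hqR := hclosed _ hm q (dvd_mul_left q p)
    have h1 := hfrob (p * q) (hdvdG _ hm) {1, p, q, p * q} fun g => by
      simp only [Finset.mem_insert, Finset.mem_singleton]
      constructor
      · intro h
        obtain ⟨a, b, ha, hb, hab⟩ := exists_dvd_and_dvd_of_dvd_mul h
        rcases (Nat.dvd_prime hp).mp ha with rfl | rfl <;> rcases (Nat.dvd_prime hq).mp hb with rfl | rfl <;> simp [hab]
      · rintro (h | h | h | h) <;> simp [h]
    have l1 := lt_mul_of_one_lt_right hp.pos hq.one_lt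
    have l2 := lt_mul_of_one_lt_left hq.pos hp.one_lt
    rw [Finset.sum_insert (by simp; omega), Finset.sum_insert (by simp; omega), Finset.sum_pair (by omega),
      hone, (hbig p hpR hp2).1, (hbig q hqR hq2).1, (hbig _ hm (by omega)).1] at h1
    have h2 := hp1 p hp hpR hp2
    have h3 : p ∣ 2 * n := (Nat.dvd_add_right h2).mp (((dvd_mul_right p q).trans h1).trans
      (dvd_of_eq (by ring)))
    have h4 := ((Nat.coprime_primes hp Nat.prime_two).mpr (by omega)).dvd_of_dvd_mul_left h3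
    exact hp.not_dvd_one ((Nat.dvd_add_left h4).mp h2)
  -- odd orders are one or prime
  have hoddm : ∀ m ∈ R, ¬ 2 ∣ m → m = 1 ∨ m.Prime := by
    intro m hm h2
    by_contra hc
    push Not at hc
    obtain ⟨p, hp, hpm⟩ := Nat.exists_prime_and_dvd hc.1
    obtain ⟨k, rfl⟩ := hpm
    have hk1 : k ≠ 1 := fun h1 => hc.2 (by rw [h1, mul_one]; exact hp)
    obtain ⟨q, hq, hqk⟩ := Nat.exists_prime_and_dvd hk1
    have hp2 : 2 < p := lt_of_le_of_ne hp.two_le fun h1 => h2 (h1 ▸ dvd_mul_right p k)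
    have hq2 : 2 < q := lt_of_le_of_ne hq.two_le fun h1 => h2 (h1 ▸ hqk.trans (dvd_mul_left k p))
    have hpqR := hclosed _ hm (p * q) (mul_dvd_mul_left p hqk)
    rcases eq_or_ne p q with rfl | hne
    · exact hp2' p hp (hclosed _ hm p (dvd_mul_right p k)) hp2 hpqR
    · exact hpq p q hp hq hp2 hq2 hne hpqR
  have hodd_prime : ∀ p, p.Prime → p ∣ Nat.card G → p ∈ R := fun p hp hpd => by
    haveI : Fact p.Prime := ⟨hp⟩
    exact exists_prime_orderOf_dvd_card' p hpd
  have hcoe : ∀ (d M : ℕ), 0 < d → M ∣ Nat.card G → Nat.Coprime M d →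
      ∀ S : Finset ℕ, (∀ g : G, d ∣ orderOf g ↔ orderOf g ∈ S) → M ∣ ∑ m ∈ S, s m := fun d M hd hM hMd S hS => by
    rw [← hcount (fun k => d ∣ k) S hS]
    exact Cfsg.Agent.Lib.OrderCount.dvd_card_dvd_orderOf hd hM hMd
  have hpgroup : ∀ p, p.Prime → (∀ m ∈ R, m = 1 ∨ m = p) → m₀ ≠ 1 → (p = 2 → s 2 ≠ 1) →
      IsPGroup p G ∧ 3 ≤ Nat.card G ∧ Monoid.exponent G = p := by
    intro p hp hall hm1 h2
    refine ⟨fun g => ⟨1, ?_⟩, ?_, ?_⟩
    · rw [pow_one, ← orderOf_dvd_iff_pow_eq_one]
      rcases hall _ ⟨g, rfl⟩ with h1 | h1 <;> simp [h1]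
    · have hm : m₀ = p := (hall m₀ hm₀).resolve_left hm1
      have hsum : Nat.card G = ∑ m ∈ ({1, p} : Finset ℕ), s m := by
        rw [← hcount (fun _ => True) _ (fun g => by simpa using hall _ ⟨g, rfl⟩)]
        exact Nat.card_congr (Equiv.subtypeUnivEquiv fun _ => trivial).symm
      rw [Finset.sum_pair hp.ne_one.symm, hone, ← hm, hsm₀] at hsum
      omega
    · refine (hp.eq_one_or_self_of_dvd _ (Monoid.exponent_dvd_of_forall_pow_eq_one fun g => ?_)).resolve_left ?_
      · rw [← orderOf_dvd_iff_pow_eq_one]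
        rcases hall _ ⟨g, rfl⟩ with h1 | h1 <;> simp [h1]
      · intro h1
        obtain ⟨g, hg⟩ := hm₀
        have := Monoid.order_dvd_exponent g
        rw [h1, Nat.dvd_one, hg] at this
        exact hm1 this
  have hm1 : m₀ ≠ 1 := fun h1 => hn (by rw [← hsm₀, h1, hone])
  by_cases h2R : 2 ∈ R
  swap
  · -- odd order: one prime
    left
    have hodd : ∀ m ∈ R, ¬ 2 ∣ m := fun m hm h2 => h2R (hclosed m hm 2 h2)
    have hp : m₀.Prime := (hoddm m₀ hm₀ (hodd _ hm₀)).resolve_left hm1
    refine ⟨m₀, hp, hpgroup m₀ hp (fun q hq => ?_) hm1 (fun h1 => absurd (h1 ▸ hm₀) h2R)⟩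
    by_contra hc
    push Not at hc
    have hqp : q.Prime := (hoddm q hq (hodd q hq)).resolve_left hc.1
    have hp2 : 2 < m₀ := lt_of_le_of_ne hp.two_le fun h1 => h2R (h1 ▸ hm₀)
    have hq2 : 2 < q := lt_of_le_of_ne hqp.two_le fun h1 => h2R (h1 ▸ hq)
    have h1 := hcoe m₀ q hp.pos (hdvdG q hq) ((Nat.coprime_primes hqp hp).mpr hc.2) {m₀} fun g => by
      rw [Finset.mem_singleton]
      refine ⟨fun hd => ?_, fun hd => hd ▸ dvd_rfl⟩
      rcases hoddm _ ⟨g, rfl⟩ (hodd _ ⟨g, rfl⟩) with h1 | h1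
      · rw [h1, Nat.dvd_one] at hd; exact absurd hd hp.ne_one
      · exact ((Nat.prime_dvd_prime_iff_eq hp h1).mp hd).symm
    rw [Finset.sum_singleton, hsm₀] at h1
    exact hqp.not_dvd_one ((Nat.dvd_add_left h1).mp (hp1 q hqp hq hq2))
  rcases hval 2 h2R with h21 | h2n
  swap
  · -- many involutions: exponent two
    left
    refine ⟨2, Nat.prime_two, hpgroup 2 Nat.prime_two (fun m hm => ?_) hm1 (fun _ => by rw [h2n]; exact hn)⟩
    by_contra hc
    push Not at hc
    have hm0 : 0 < m := by obtain ⟨g, rfl⟩ := hm; exact orderOf_pos g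
    obtain ⟨-, -, hev⟩ := hbig m hm (by omega)
    have h1 := hfrob 2 (hdvdG 2 h2R) {1, 2} fun g => by simp [Nat.dvd_prime Nat.prime_two]
    rw [Finset.sum_pair (by decide), hone, h2n] at h1
    obtain ⟨k, rfl⟩ := hev
    omega
  -- a unique involution
  obtain ⟨z, hz⟩ := h2R
  have hzu : ∀ g : G, orderOf g = 2 → g = z := fun g hg => by
    have := (Nat.card_eq_one_iff_unique.mp h21).1
    exact congrArg Subtype.val (Subsingleton.elim (⟨g, hg⟩ : {g : G // orderOf g = 2}) ⟨z, hz⟩)
  have hzc : ∀ g : G, g * z = z * g := fun g => by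
    have := hzu (g * z * g⁻¹) (by rw [show g * z * g⁻¹ = MulAut.conj g z from rfl, MulEquiv.orderOf_eq, hz])
    rw [mul_inv_eq_iff_eq_mul] at this
    exact this
  have h2R : 2 ∈ R := ⟨z, hz⟩
  have h8 : 8 ∉ R := fun h8 => by
    have h4R := hclosed 8 h8 4 (by norm_num)
    have e4 := hfrob 4 (hdvdG 4 h4R) {1, 2, 4} fun g => by
      simp only [Finset.mem_insert, Finset.mem_singleton]
      refine ⟨fun hd => ?_, fun hd => by rcases hd with hd | hd | hd <;> simp [hd]⟩
      have := Nat.le_of_dvd (by norm_num) hd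
      clear h hval hbig hcount hfrob hclosed hdvdG hp1 hp2' hpq hoddm hodd_prime hcoe hpgroup hzu hzc
      revert hd
      interval_cases (orderOf g) <;> simp
    have e8 := hfrob 8 (hdvdG 8 h8) {1, 2, 4, 8} fun g => by
      simp only [Finset.mem_insert, Finset.mem_singleton]
      refine ⟨fun hd => ?_, fun hd => by rcases hd with hd | hd | hd | hd <;> simp [hd]⟩
      have := Nat.le_of_dvd (by norm_num) hd
      clear h hval hbig hcount hfrob hclosed hdvdG hp1 hp2' hpq hoddm hodd_prime hcoe hpgroup hzu hzc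
      revert hd
      interval_cases (orderOf g) <;> simp
    simp [hone, h21, (hbig 4 h4R (by norm_num)).1, (hbig 8 h8 (by norm_num)).1] at e4 e8
    omega
  have h4p : ∀ p, p.Prime → 2 < p → 4 * p ∉ R := fun p hp hp2 hm => by
    have hpR := hclosed _ hm p (dvd_mul_left p 4)
    have h4R := hclosed _ hm 4 (dvd_mul_right 4 p)
    have h2pR := hclosed _ hm (2 * p) (mul_dvd_mul_right (by norm_num) p)
    have h1 := hfrob (4 * p) (hdvdG _ hm) {1, 2, 4, p, 2 * p, 4 * p} fun g => by
      simp only [Finset.mem_insert, Finset.mem_singleton]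
      constructor
      · intro h
        obtain ⟨a, b, ha, hb, hab⟩ := exists_dvd_and_dvd_of_dvd_mul h
        have hale := Nat.le_of_dvd (by norm_num) ha
        revert ha
        rcases (Nat.dvd_prime hp).mp hb with hb' | hb' <;> rw [hab, hb'] <;>
          interval_cases a <;> simp
      · rintro (h | h | h | h | h | h) <;> rw [h] <;>
          first
            | exact one_dvd _ | exact dvd_rfl | exact dvd_mul_left p 4
            | exact mul_dvd_mul_right (by norm_num) p | exact dvd_mul_of_dvd_left (by norm_num) p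
    have hp4 : p ≠ 4 := fun h => by rw [h] at hp; norm_num at hp
    rw [Finset.sum_insert (by simp; omega), Finset.sum_insert (by simp; omega),
      Finset.sum_insert (by simp; omega), Finset.sum_insert (by simp; omega), Finset.sum_pair (by omega),
      hone, h21, (hbig 4 h4R (by norm_num)).1, (hbig p hpR hp2).1,
      (hbig _ h2pR (by omega)).1, (hbig _ hm (by omega)).1] at h1
    have h2 := hp1 p hp hpR hp2
    have h3 : p ∣ 2 * n := (Nat.dvd_add_right (dvd_mul_of_dvd_right h2 2)).mp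
      (((dvd_mul_left p 4).trans h1).trans (dvd_of_eq (by ring)))
    have h4 := ((Nat.coprime_primes hp Nat.prime_two).mpr (by omega)).dvd_of_dvd_mul_left h3
    exact hp.not_dvd_one ((Nat.dvd_add_left h4).mp h2)
  -- the shape of the orders
  have hshape : ∀ m ∈ R, m = 1 ∨ m = 2 ∨ m = 4 ∨ ∃ p, p.Prime ∧ 2 < p ∧ p ∈ R ∧ (m = p ∨ m = 2 * p) := by
    intro m hm
    have hm0 : 0 < m := by obtain ⟨g, rfl⟩ := hm; exact orderOf_pos g
    obtain ⟨a, k, hk, rfl⟩ := Nat.exists_eq_pow_mul_and_not_dvd hm0.ne' 2 (by norm_num)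
    have hkR := hclosed _ hm k (dvd_mul_left k _)
    have ha : a ≤ 2 := by
      by_contra ha
      exact h8 (hclosed _ hm 8 ((pow_dvd_pow 2 (show 3 ≤ a by omega)).trans (dvd_mul_right _ k)))
    rcases hoddm k hkR hk with rfl | hkp
    · interval_cases a <;> simp
    · have hk2 : 2 < k := lt_of_le_of_ne hkp.two_le fun h => hk (h ▸ dvd_rfl)
      interval_cases a
      · exact Or.inr (Or.inr (Or.inr ⟨k, hkp, hk2, hkR, Or.inl (by simp)⟩))
      · exact Or.inr (Or.inr (Or.inr ⟨k, hkp, hk2, hkR, Or.inr (by simp)⟩))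
      · exact absurd (by simpa using hm) (h4p k hkp hk2)
  have hs2p : ∀ p, p.Prime → 2 < p → p ∈ R → 2 * p ∈ R ∧ p ∣ Nat.card G := fun p hp hp2 hpR => by
    obtain ⟨g, hg⟩ := hpR
    exact ⟨⟨z * g, by
      rw [(show Commute z g from (hzc g).symm).orderOf_mul_eq_mul_orderOf_of_coprime (by
        rw [hz, hg]; exact (Nat.coprime_primes Nat.prime_two hp).mpr (by omega)), hz, hg]⟩,
      hg ▸ orderOf_dvd_natCard g⟩
  by_cases hex : ∃ p, p.Prime ∧ 2 < p ∧ p ∈ R
  swap
  · -- `{1, 2, 4}`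
    have hall : ∀ g : G, orderOf g = 1 ∨ orderOf g = 2 ∨ orderOf g = 4 := fun g => by
      rcases hshape _ ⟨g, rfl⟩ with h1 | h1 | h1 | ⟨p, hp, hp2, hpR, -⟩
      exacts [Or.inl h1, Or.inr (Or.inl h1), Or.inr (Or.inr h1), absurd ⟨p, hp, hp2, hpR⟩ hex]
    have h4R : 4 ∈ R := by
      obtain ⟨g, hg⟩ := hm₀
      rcases hall g with h1 | h1 | h1
      · exact absurd (hg.symm.trans h1) hm1
      · rw [hg] at h1; exact absurd (by rw [← hsm₀, h1, h21]) hn
      · exact ⟨g, h1⟩
    obtain ⟨x, hx⟩ := h4R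
    by_cases hcyc : ∀ g, g ∈ Subgroup.zpowers x
    · right; right; left
      refine ⟨⟨x, fun g => hcyc g⟩, ?_⟩
      rw [← hx, ← Nat.card_zpowers, (Subgroup.eq_top_iff' _).mpr hcyc, Subgroup.card_top]
    push Not at hcyc
    obtain ⟨y, hy⟩ := hcyc
    right; left
    exact Cfsg.Agent.S3995.quaternion_case z hz hzu hall x hx y hy
  -- one odd prime, no element of order four
  obtain ⟨p, hp, hp2, hpR⟩ := hex
  obtain ⟨h2pR, hpG⟩ := hs2p p hp hp2 hpR
  have honly : ∀ q, q.Prime → 2 < q → q ∈ R → q = p := fun q hq hq2 hqR => by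
    by_contra hne
    have h1 := hcoe q p hq.pos hpG ((Nat.coprime_primes hp hq).mpr (Ne.symm hne)) {q, 2 * q} fun g => by
      simp only [Finset.mem_insert, Finset.mem_singleton]
      refine ⟨fun hd => ?_, fun hd => by rcases hd with hd | hd <;> simp [hd]⟩
      rcases hshape _ ⟨g, rfl⟩ with h1 | h1 | h1 | ⟨r, hr, hr2, -, h1 | h1⟩
      · rw [h1, Nat.dvd_one] at hd; exact absurd hd hq.ne_one
      · rw [h1] at hd; exact absurd (Nat.le_of_dvd (by norm_num) hd) (by omega)
      · rw [h1, show (4 : ℕ) = 2 ^ 2 by norm_num] at hd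
        exact absurd ((Nat.prime_dvd_prime_iff_eq hq Nat.prime_two).mp (hq.dvd_of_dvd_pow hd)) (by omega)
      · rw [h1] at hd ⊢; exact Or.inl ((Nat.prime_dvd_prime_iff_eq hq hr).mp hd).symm
      · rw [h1] at hd ⊢
        refine Or.inr ?_
        rcases hq.dvd_mul.mp hd with hd | hd
        · exact absurd (Nat.le_of_dvd (by norm_num) hd) (by omega)
        · rw [(Nat.prime_dvd_prime_iff_eq hq hr).mp hd]
    rw [Finset.sum_pair (by omega), (hbig q hqR hq2).1,
      (hbig _ (hs2p q hq hq2 hqR).1 (by omega)).1, ← two_mul] at h1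
    have h4 := ((Nat.coprime_primes hp Nat.prime_two).mpr (by omega)).dvd_of_dvd_mul_left h1
    exact hp.not_dvd_one ((Nat.dvd_add_left h4).mp (hp1 p hp hpR hp2))
  have h4 : 4 ∉ R := fun h4R => by
    have h1 := hcoe 4 p (by norm_num) hpG
      (by rw [show (4 : ℕ) = 2 ^ 2 by norm_num]; exact ((Nat.coprime_primes hp Nat.prime_two).mpr (by omega)).pow_right 2)
      {4} fun g => by
      rw [Finset.mem_singleton]
      refine ⟨fun hd => ?_, fun hd => hd ▸ dvd_rfl⟩
      rcases hshape _ ⟨g, rfl⟩ with h1 | h1 | h1 | ⟨r, hr, hr2, -, h1 | h1⟩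
      · rw [h1] at hd; norm_num at hd
      · rw [h1] at hd; norm_num at hd
      · exact h1
      · rw [h1] at hd
        exact absurd ((Nat.prime_dvd_prime_iff_eq Nat.prime_two hr).mp ((by norm_num : 2 ∣ 4).trans hd)) (by omega)
      · rw [h1] at hd
        have h2r : 2 ∣ r := Nat.dvd_of_mul_dvd_mul_left two_pos hd
        exact absurd ((Nat.prime_dvd_prime_iff_eq Nat.prime_two hr).mp h2r) (by omega)
    rw [Finset.sum_singleton, (hbig 4 h4R (by norm_num)).1] at h1
    exact hp.not_dvd_one ((Nat.dvd_add_left h1).mp (hp1 p hp hpR hp2))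
  right; right; right
  refine Cfsg.Agent.S3995.product_case p hp hp2 z hz hzu hzc (fun g => ?_) hpG
  rcases hshape _ ⟨g, rfl⟩ with h1 | h1 | h1 | ⟨r, hr, hr2, hrR, h1 | h1⟩
  · simp [h1]
  · simp [h1]
  · exact absurd ⟨g, h1⟩ h4
  · simp [h1, honly r hr hr2 hrR]
  · simp [h1, honly r hr hr2 hrR]

end Cfsg.Agent.S3995
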