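import Cfsg.Statements.S3996
import Mathlib
import Cfsg.Agent.Lib.OrderCount.Frobenius
import Cfsg.Agent.Lib.Burnside.Paqb

set_option autoImplicit false
open Cfsg

namespace Cfsg.Agent.S3996

/-- The number of elements of order `m`. -/
noncomputable def cnt (G : Type*) [Group G] (m : ℕ) : ℕ := Nat.card {g : G // orderOf g = m}

section

variable {G : Type*} [Group G] [Finite G]

lemma card_pow_eq_sum {n : ℕ} (hn : n ≠ 0) :
    Nat.card {g : G // g ^ n = 1} = ∑ d ∈ n.divisors, cnt G d := by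
  classical
  cases nonempty_fintype G
  simp only [cnt, Nat.card_eq_fintype_card, Fintype.card_subtype]
  rw [Finset.card_eq_sum_card_fiberwise (f := fun g : G => orderOf g) (t := n.divisors)]
  · refine Finset.sum_congr rfl fun d hd => ?_
    congr 1
    ext g
    simp only [Finset.mem_filter, Finset.mem_univ, true_and, and_iff_right_iff_imp]
    intro h
    exact orderOf_dvd_iff_pow_eq_one.mp (h ▸ (Nat.mem_divisors.mp hd).1)
  · intro g hg
    simpa [hn, orderOf_dvd_iff_pow_eq_one] using hg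

lemma cnt_one : cnt G 1 = 1 := by
  rw [cnt, Nat.card_eq_one_iff_unique]
  refine ⟨⟨fun a b => Subtype.ext ((orderOf_eq_one_iff.mp a.2).trans (orderOf_eq_one_iff.mp b.2).symm)⟩,
    ⟨⟨1, orderOf_one⟩⟩⟩

lemma cnt_ne_zero {p : ℕ} (hp : p.Prime) (h : p ∣ Nat.card G) : cnt G p ≠ 0 := by
  have := Fact.mk hp
  obtain ⟨x, hx⟩ := exists_prime_orderOf_dvd_card' p h
  have : Nonempty {g : G // orderOf g = p} := ⟨⟨x, hx⟩⟩
  exact Nat.card_pos.ne'

lemma rule {p : ℕ} (hp : p.Prime) : ∀ n : ℕ, ¬ p ∣ n → p * n ∣ Nat.card G →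
    p ∣ cnt G n + cnt G (p * n) := by
  intro n
  induction n using Nat.strong_induction_on with
  | _ n ih =>
  intro hpn hdvd
  have hn : n ≠ 0 := fun h => hpn (h ▸ dvd_zero p)
  have h1 := (dvd_mul_right p n).trans
    (Cfsg.Agent.Lib.OrderCount.dvd_card_pow_eq_one (G := G) hdvd)
  have hdiv : (p * n).divisors = n.divisors ∪ n.divisors.image (p * ·) := by
    ext d
    simp only [Nat.mem_divisors, Finset.mem_union, Finset.mem_image, ne_eq, mul_eq_zero, hp.ne_zero,
      hn, or_self, not_false_eq_true, and_true]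
    constructor
    · intro hd
      by_cases hpd : p ∣ d
      · obtain ⟨e, rfl⟩ := hpd
        exact Or.inr ⟨e, (Nat.mul_dvd_mul_iff_left hp.pos).mp hd, rfl⟩
      · exact Or.inl ((hp.coprime_iff_not_dvd.mpr hpd).symm.dvd_of_dvd_mul_left hd)
    · rintro (h | ⟨e, he, rfl⟩)
      · exact h.trans (dvd_mul_left _ _)
      · exact mul_dvd_mul_left p he
  have hdisj : Disjoint n.divisors (n.divisors.image (p * ·)) := by
    rw [Finset.disjoint_right]
    intro d hd hd'
    obtain ⟨e, -, rfl⟩ := Finset.mem_image.mp hd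
    exact hpn ((dvd_mul_right p e).trans (Nat.mem_divisors.mp hd').1)
  rw [card_pow_eq_sum (mul_ne_zero hp.ne_zero hn), hdiv, Finset.sum_union hdisj,
    Finset.sum_image (fun _ _ _ _ h => Nat.eq_of_mul_eq_mul_left hp.pos h),
    ← Finset.sum_add_distrib,
    ← Finset.add_sum_erase _ _ (Nat.mem_divisors_self n hn)] at h1
  refine (Nat.dvd_add_left (Finset.dvd_sum fun d hd => ?_)).mp h1
  obtain ⟨hdn, hd⟩ := Finset.mem_erase.mp hd
  have hdd := (Nat.mem_divisors.mp hd).1
  exact ih d (lt_of_le_of_ne (Nat.le_of_dvd (Nat.pos_of_ne_zero hn) hdd) hdn)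
    (fun h => hpn (h.trans hdd)) ((mul_dvd_mul_left p hdd).trans hdvd)

lemma cast_rule {p n : ℕ} (hp : p.Prime) (h : ¬ p ∣ n) (hd : p * n ∣ Nat.card G) :
    ((cnt G (p * n) : ℕ) : ZMod p) = -((cnt G n : ℕ) : ZMod p) := by
  rw [eq_neg_iff_add_eq_zero, add_comm, ← Nat.cast_add, ZMod.natCast_eq_zero_iff]
  exact rule hp n h hd

lemma cast_prime {p : ℕ} (hp : p.Prime) (hd : p ∣ Nat.card G) :
    ((cnt G p : ℕ) : ZMod p) = -1 := by
  have := cast_rule (n := 1) (G := G) hp hp.not_dvd_one (by rwa [mul_one])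
  rwa [mul_one, cnt_one, Nat.cast_one] at this

lemma two_ne {p : ℕ} (hp : p.Prime) (h2 : p ≠ 2) : (1 : ZMod p) ≠ -1 ∧ (1 : ZMod p) ≠ 0 := by
  have := Fact.mk hp
  have : Fact (2 < p) := ⟨lt_of_le_of_ne hp.two_le h2.symm⟩
  exact ⟨(ZMod.neg_one_ne_one).symm, one_ne_zero⟩

lemma two_dvd_cnt {m : ℕ} (h : 2 < m) : 2 ∣ cnt G m :=
  (Nat.totient_even h).two_dvd.trans (Cfsg.Agent.Lib.OrderCount.totient_dvd_card_orderOf m)

/-- A group order with at most two prime divisors gives solvability. -/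
lemma solvable_two {p q : ℕ} (hp : p.Prime) (hq : q.Prime) {H : Type*} [Group H] [Finite H]
    (h : ∀ r : ℕ, r.Prime → r ∣ Nat.card H → r = p ∨ r = q) : Group.IsSolvable H := by
  have hne : Nat.card H ≠ 0 := Nat.card_pos.ne'
  refine Cfsg.Agent.Lib.Burnside.isSolvable_of_card_eq_prime_pow_mul hp hq
    (a := (Nat.card H).factorization p)
    (b := (Nat.card H / p ^ (Nat.card H).factorization p).primeFactorsList.length) ?_
  have hu := Nat.eq_prime_pow_of_unique_prime_dvd
    (n := Nat.card H / p ^ (Nat.card H).factorization p) (p := q) (Nat.ordCompl_pos p hne).ne'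
    fun {r} hr hrd => (h r hr (hrd.trans (Nat.ordCompl_dvd _ p))).resolve_left
      (fun e => Nat.not_dvd_ordCompl hp hne (e ▸ hrd))
  rw [← hu, Nat.ordProj_mul_ordCompl_eq_self]

/-- Two odd primes with the same count are impossible if the odd part has few elements of odd order. -/
lemma pair {M a b p q : ℕ} (hMo : Odd M) (hMd : M ∣ Nat.card G)
    (hpM : ∀ r : ℕ, r.Prime → r ≠ 2 → r ∣ Nat.card G → r ∣ M)
    (hM : Nat.card {g : G // Odd (orderOf g)} ≤ M)
    (hv : ∀ m, 2 < m → cnt G m = 0 ∨ cnt G m = a ∨ cnt G m = b)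
    (hp : p.Prime) (hp2 : p ≠ 2) (hpG : p ∣ Nat.card G)
    (hq : q.Prime) (hq2 : q ≠ 2) (hqG : q ∣ Nat.card G) (hpq : p ≠ q)
    (hpa : cnt G p = a) (hqa : cnt G q = a) : False := by
  have ha : ∀ r : ℕ, r.Prime → r ∣ Nat.card G → cnt G r = a → (a : ZMod r) = -1 :=
    fun r hr hrG e => e ▸ cast_prime hr hrG
  have hb : ∀ r r' : ℕ, r.Prime → r'.Prime → r ≠ r' → r ≠ 2 → r ∣ Nat.card G → r' ∣ Nat.card G →
      cnt G r = a → cnt G r' = a → cnt G (r * r') = b ∧ (b : ZMod r) = 1 := by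
    intro r r' hr hr' hne hr2 hrG hr'G e e'
    have h1 := cast_rule (G := G) hr ((Nat.prime_dvd_prime_iff_eq hr hr').not.mpr hne)
      (((Nat.coprime_primes hr hr').mpr hne).mul_dvd_of_dvd_of_dvd hrG hr'G)
    rw [e', ha r hr hrG e, neg_neg] at h1
    rcases hv (r * r') (by nlinarith [hr.two_le, hr'.two_le]) with h | h | h <;> rw [h] at h1
    · exact absurd h1.symm (by simpa using (two_ne hr hr2).2)
    · exact absurd (h1.symm.trans (ha r hr hrG e)) (two_ne hr hr2).1
    · exact ⟨h, h1⟩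
  have hall : ∀ r : ℕ, r.Prime → r ≠ 2 → r ∣ Nat.card G → cnt G r = a ∧ (b : ZMod r) = 1 := by
    intro r hr hr2 hrG
    by_cases hra : cnt G r = a
    · rcases eq_or_ne r p with e | e
      · subst e; exact ⟨hra, (hb r q hr hq hpq hr2 hrG hqG hra hqa).2⟩
      · exact ⟨hra, (hb r p hr hp e hr2 hrG hpG hra hpa).2⟩
    exfalso
    have hrb : cnt G r = b := by
      rcases hv r (lt_of_le_of_ne hr.two_le hr2.symm) with h | h | h
      · exact absurd h (cnt_ne_zero hr hrG)
      · exact absurd h hra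
      · exact h
    have hrp : r ≠ p := fun e => hra (e ▸ hpa)
    have hrq : r ≠ q := fun e => hra (e ▸ hqa)
    obtain ⟨hpqb, hbp⟩ := hb p q hp hq hpq hp2 hpG hqG hpa hqa
    have hbr : (b : ZMod r) = -1 := hrb ▸ cast_prime hr hrG
    have hprG := ((Nat.coprime_primes hp hr).mpr hrp.symm).mul_dvd_of_dvd_of_dvd hpG hrG
    have h1 := cast_rule (G := G) hp ((Nat.prime_dvd_prime_iff_eq hp hr).not.mpr hrp.symm) hprG
    rw [hrb, hbp] at h1
    have hpr : cnt G (p * r) = a := by
      rcases hv (p * r) (by nlinarith [hp.two_le, hr.two_le]) with h | h | h <;> rw [h] at h1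
      · exact absurd (h1.symm) (by simpa using (two_ne hp hp2).2)
      · exact h
      · exact absurd (hbp.symm.trans h1) (two_ne hp hp2).1
    have h2 := cast_rule (G := G) hr ((Nat.prime_dvd_prime_iff_eq hr hp).not.mpr hrp)
      (mul_comm p r ▸ hprG)
    rw [mul_comm, hpr, hpa] at h2
    have har : (a : ZMod r) = 0 := by
      have := Fact.mk hr
      have h3 : (2 : ZMod r) * a = 0 := by rw [two_mul]; nth_rw 1 [h2]; simp
      refine (mul_eq_zero.mp h3).resolve_left fun h4 => (two_ne hr hr2).1 ?_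
      rw [eq_neg_iff_add_eq_zero, ← h4]; norm_num
    have hco : Nat.Coprime r (p * q) := Nat.Coprime.mul_right ((Nat.coprime_primes hr hp).mpr hrp)
      ((Nat.coprime_primes hr hq).mpr hrq)
    have h3 := cast_rule (G := G) hr (hr.coprime_iff_not_dvd.mp hco) (hco.mul_dvd_of_dvd_of_dvd hrG
      (((Nat.coprime_primes hp hq).mpr hpq).mul_dvd_of_dvd_of_dvd hpG hqG))
    rw [hpqb, hbr, neg_neg] at h3
    rcases hv (r * (p * q)) (by nlinarith [hr.two_le, Nat.mul_le_mul hp.two_le hq.two_le]) with h | h | h <;>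
      rw [h] at h3
    · exact (two_ne hr hr2).2 (by simpa using h3.symm)
    · exact (two_ne hr hr2).2 (h3.symm.trans har)
    · exact (two_ne hr hr2).1 (h3.symm.trans hbr)
  have hsq : ∀ r : ℕ, r.Prime → r ≠ 2 → r ∣ Nat.card G → cnt G (r ^ 2) = 0 := by
    intro r hr hr2 hrG
    obtain ⟨e, hbr⟩ := hall r hr hr2 hrG
    have h1 : ((cnt G (r ^ 2) : ℕ) : ZMod r) = 0 := by
      rw [ZMod.natCast_eq_zero_iff]
      refine dvd_trans ?_ (Cfsg.Agent.Lib.OrderCount.totient_dvd_card_orderOf (r ^ 2))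
      rw [Nat.totient_prime_pow hr (by norm_num)]
      exact Dvd.intro _ (by rw [show 2 - 1 = 1 from rfl, pow_one])
    rcases hv (r ^ 2) (by nlinarith [hr.two_le]) with h | h | h
    · exact h
    · rw [h, ha r hr hrG e] at h1; simp [(two_ne hr hr2).2] at h1
    · rw [h, hbr] at h1; exact absurd h1 (two_ne hr hr2).2
  have hMa : M ∣ 1 + a := by
    refine (Nat.dvd_iff_prime_pow_dvd_dvd _ _).mpr fun r k hr hk => ?_
    rcases Nat.eq_zero_or_pos k with rfl | hk0
    · simp
    have hrM : r ∣ M := (dvd_pow_self r hk0.ne').trans hk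
    have hr2 : r ≠ 2 := fun e => Nat.not_even_iff_odd.mpr hMo (even_iff_two_dvd.mpr (e ▸ hrM))
    have hrG : r ∣ Nat.card G := hrM.trans hMd
    have h1 := Cfsg.Agent.Lib.OrderCount.dvd_card_pow_eq_one (G := G) (hk.trans hMd)
    refine h1.trans (dvd_of_eq ?_)
    rw [card_pow_eq_sum (pow_ne_zero k hr.ne_zero), Nat.sum_divisors_prime_pow hr,
      ← Finset.sum_subset (s₁ := {0, 1}) (by intro i hi; simp at hi ⊢; omega)]
    · simp [cnt_one, (hall r hr hr2 hrG).1]
    · intro i _ hi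
      by_contra hne
      obtain ⟨g, hg⟩ := (Nat.card_ne_zero.mp hne).1
      have hi2 : 2 ≤ i := by simp at hi; omega
      have hd : r ^ 2 ∣ orderOf g := hg ▸ pow_dvd_pow r hi2
      have : Nonempty {g : G // orderOf g = r ^ 2} :=
        ⟨⟨_, orderOf_pow_orderOf_div (orderOf_pos g).ne' hd⟩⟩
      exact Nat.card_pos.ne' (hsq r hr hr2 hrG)
  have hcount : 1 + a + a ≤ M := by
    classical
    cases nonempty_fintype G
    refine le_trans ?_ hM
    have h1 : ∑ d ∈ ({1, p, q} : Finset ℕ), cnt G d = 1 + a + a := by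
      rw [Finset.sum_insert (by simp [hp.ne_one.symm, hq.ne_one.symm]),
        Finset.sum_pair hpq, cnt_one, hpa, hqa]; ring
    rw [← h1]
    simp only [cnt, Nat.card_eq_fintype_card, Fintype.card_subtype]
    rw [← Finset.card_biUnion]
    · refine Finset.card_le_card fun g hg => ?_
      simp only [Finset.mem_biUnion, Finset.mem_filter, Finset.mem_univ, true_and] at hg
      obtain ⟨d, hd, rfl⟩ := hg
      simp only [Finset.mem_insert, Finset.mem_singleton] at hd
      refine Finset.mem_filter.mpr ⟨Finset.mem_univ _, ?_⟩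
      rcases hd with h | h | h <;> rw [h]
      exacts [odd_one, hp.odd_of_ne_two hp2, hq.odd_of_ne_two hq2]
    · intro x _ y _ hxy
      simp only [Function.onFun, Finset.disjoint_left, Finset.mem_filter]
      exact fun g h1 h2 => hxy (h1.2.symm.trans h2.2)
  have := Nat.le_of_dvd (by omega) hMa
  have := cnt_ne_zero (G := G) hp hpG
  omega

/-- With four dividing the order and a unique involution there is at most one odd prime. -/
lemma four_case {c d p q : ℕ} (h4 : 4 ∣ Nat.card G)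
    (hv : ∀ m, 2 < m → cnt G m = 0 ∨ cnt G m = c ∨ cnt G m = d) (hc : ¬ 4 ∣ c)
    (h4c : cnt G 4 = c) (hp : p.Prime) (hp2 : p ≠ 2) (hpG : p ∣ Nat.card G)
    (hq : q.Prime) (hq2 : q ≠ 2) (hqG : q ∣ Nat.card G) (hpq : p ≠ q) : False := by
  wlog hpc : cnt G p = c generalizing p q
  · have hpd : cnt G p = d := by
      rcases hv p (lt_of_le_of_ne hp.two_le hp2.symm) with h | h | h
      · exact absurd h (cnt_ne_zero hp hpG)
      · exact absurd h hpc
      · exact h
    by_cases hqc : cnt G q = c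
    · exact this hq hq2 hqG hp hp2 hpG hpq.symm hqc
    have hqd : cnt G q = d := by
      rcases hv q (lt_of_le_of_ne hq.two_le hq2.symm) with h | h | h
      · exact absurd h (cnt_ne_zero hq hqG)
      · exact absurd h hqc
      · exact h
    have h1 := cast_rule (G := G) hp ((Nat.prime_dvd_prime_iff_eq hp hq).not.mpr hpq)
      (((Nat.coprime_primes hp hq).mpr hpq).mul_dvd_of_dvd_of_dvd hpG hqG)
    rw [hqd] at h1
    have hdp : (d : ZMod p) = -1 := hpd ▸ cast_prime hp hpG
    rw [hdp, neg_neg] at h1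
    rcases hv (p * q) (by nlinarith [hp.two_le, hq.two_le]) with h | h | h
    · rw [h] at h1; exact (two_ne hp hp2).2 (by simpa using h1.symm)
    · refine hc (h ▸ dvd_trans ?_ (Cfsg.Agent.Lib.OrderCount.totient_dvd_card_orderOf (p * q)))
      rw [Nat.totient_mul ((Nat.coprime_primes hp hq).mpr hpq)]
      exact mul_dvd_mul (Nat.totient_even (lt_of_le_of_ne hp.two_le hp2.symm)).two_dvd
        (Nat.totient_even (lt_of_le_of_ne hq.two_le hq2.symm)).two_dvd
    · rw [h, hdp] at h1; exact (two_ne hp hp2).1 h1.symm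
  have hcop : ∀ r : ℕ, r.Prime → r ≠ 2 → Nat.Coprime r 4 := fun r hr hr2 =>
    Nat.Coprime.pow_right 2 ((Nat.coprime_primes hr Nat.prime_two).mpr hr2)
  have h0d : ∀ r n : ℕ, r.Prime → r ≠ 2 → Nat.Coprime r n → 4 ∣ n →
      cnt G (r * n) = 0 ∨ cnt G (r * n) = d := by
    intro r n hr hr2 hrn hn
    rcases Nat.eq_zero_or_pos n with rfl | hn0
    · simp at hrn; exact absurd hrn hr.ne_one
    rcases hv (r * n) (by nlinarith [hr.two_le, Nat.le_of_dvd hn0 hn]) with h | h | h
    · exact Or.inl h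
    · refine absurd (h ▸ dvd_trans ?_ (Cfsg.Agent.Lib.OrderCount.totient_dvd_card_orderOf (r * n))) hc
      rw [Nat.totient_mul hrn]
      exact mul_dvd_mul (Nat.totient_even (lt_of_le_of_ne hr.two_le hr2.symm)).two_dvd
        ((Nat.totient_even (show 2 < 4 by norm_num)).two_dvd.trans (Nat.totient_dvd_of_dvd hn))
    · exact Or.inr h
  have hcast : ∀ r n : ℕ, r.Prime → Nat.Coprime r n → r ∣ Nat.card G → n ∣ Nat.card G →
      ((cnt G (r * n) : ℕ) : ZMod r) = -((cnt G n : ℕ) : ZMod r) := fun r n hr hrn hrG hnG =>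
    cast_rule hr (hr.coprime_iff_not_dvd.mp hrn) (hrn.mul_dvd_of_dvd_of_dvd hrG hnG)
  have hcp : (c : ZMod p) = -1 := hpc ▸ cast_prime hp hpG
  have h4p := hcast p 4 hp (hcop p hp hp2) hpG h4
  rw [h4c, hcp, neg_neg] at h4p
  have hpd : cnt G (p * 4) = d ∧ (d : ZMod p) = 1 := by
    rcases h0d p 4 hp hp2 (hcop p hp hp2) dvd_rfl with h | h <;> rw [h] at h4p
    · exact absurd (by simpa using h4p.symm) (two_ne hp hp2).2
    · exact ⟨h, h4p⟩
  have hcop' : Nat.Coprime p (q * 4) :=
    Nat.Coprime.mul_right ((Nat.coprime_primes hp hq).mpr hpq) (hcop p hp hp2)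
  have hcop'' : Nat.Coprime q (p * 4) :=
    Nat.Coprime.mul_right ((Nat.coprime_primes hq hp).mpr hpq.symm) (hcop q hq hq2)
  have hq4G : q * 4 ∣ Nat.card G := (hcop q hq hq2).mul_dvd_of_dvd_of_dvd hqG h4
  have hp4G : p * 4 ∣ Nat.card G := (hcop p hp hp2).mul_dvd_of_dvd_of_dvd hpG h4
  rcases h0d q 4 hq hq2 (hcop q hq hq2) dvd_rfl with hq4 | hq4
  · have h1 := hcast q 4 hq (hcop q hq hq2) hqG h4
    rw [hq4, h4c, Nat.cast_zero, eq_comm, neg_eq_zero] at h1
    have hqd : cnt G q = d := by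
      rcases hv q (lt_of_le_of_ne hq.two_le hq2.symm) with h | h | h
      · exact absurd h (cnt_ne_zero hq hqG)
      · have h2 := cast_prime (G := G) hq hqG
        rw [h, h1] at h2
        exact absurd (neg_eq_zero.mp h2.symm) (two_ne hq hq2).2
      · exact h
    have h2 := hcast q (p * 4) hq hcop'' hqG hp4G
    have hdq : (d : ZMod q) = -1 := hqd ▸ cast_prime hq hqG
    rw [hpd.1, hdq, neg_neg] at h2
    rcases h0d q (p * 4) hq hq2 hcop'' (dvd_mul_left 4 p) with h | h <;> rw [h] at h2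
    · exact (two_ne hq hq2).2 (by simpa using h2.symm)
    · exact (two_ne hq hq2).1 (h2.symm.trans hdq)
  · have h2 := hcast p (q * 4) hp hcop' hpG hq4G
    rw [hq4, hpd.2] at h2
    rcases h0d p (q * 4) hp hp2 hcop' (dvd_mul_left 4 q) with h | h <;> rw [h] at h2
    · exact (two_ne hp hp2).2 (by simpa using h2.symm)
    · exact (two_ne hp hp2).1 (hpd.2.symm.trans h2)

end


/-- A finite group in which the numbers of elements of each order that occurs (the numbers #{g : o(g) = m}, m ranging over the element orders) take exactly three different values is solvable. -/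
theorem result {G : Type*} [Group G] [Finite G] (h : (((fun m : ℕ => Nat.card {g : G // orderOf g = m}) '' Set.range (orderOf : G → ℕ))).ncard = 3) : Group.IsSolvable G := by
  classical
  have hdiv : ∀ r : ℕ, r.Prime → r ∣ Nat.card G → cnt G r ≠ 0 := fun r hr h => cnt_ne_zero hr h
  have hmem : ∀ m, cnt G m ≠ 0 → cnt G m ∈
      (fun m : ℕ => Nat.card {g : G // orderOf g = m}) '' Set.range (orderOf : G → ℕ) := by
    intro m hm
    obtain ⟨g, hg⟩ := (Nat.card_ne_zero.mp hm).1
    exact ⟨m, ⟨g, hg⟩, rfl⟩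
  set V := (fun m : ℕ => Nat.card {g : G // orderOf g = m}) '' Set.range (orderOf : G → ℕ) with hV
  have h1V : 1 ∈ V := ⟨1, ⟨1, orderOf_one⟩, cnt_one⟩
  obtain ⟨a, b, hab, hVe⟩ := Set.ncard_eq_two.mp
    (show (V \ {1}).ncard = 2 by rw [Set.ncard_diff_singleton_of_mem h1V, h])
  have hv : ∀ m, cnt G m = 0 ∨ cnt G m = 1 ∨ cnt G m = a ∨ cnt G m = b := by
    intro m
    by_cases h0 : cnt G m = 0
    · exact Or.inl h0
    by_cases h1 : cnt G m = 1
    · exact Or.inr (Or.inl h1)
    have : cnt G m ∈ V \ {1} := ⟨hmem m h0, h1⟩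
    rw [hVe] at this
    rcases this with h | h
    · exact Or.inr (Or.inr (Or.inl h))
    · exact Or.inr (Or.inr (Or.inr h))
  have hv' : ∀ m, 2 < m → cnt G m = 0 ∨ cnt G m = a ∨ cnt G m = b := by
    intro m hm
    rcases hv m with h | h | h
    · exact Or.inl h
    · have := two_dvd_cnt (G := G) hm; omega
    · exact Or.inr h
  have hclass : ∀ p : ℕ, p.Prime → p ≠ 2 → p ∣ Nat.card G → cnt G p = a ∨ cnt G p = b :=
    fun p hp hp2 hpG => (hv' p (lt_of_le_of_ne hp.two_le hp2.symm)).resolve_left (hdiv p hp hpG)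
  -- at most one odd prime suffices
  have hone : (∀ p q : ℕ, p.Prime → q.Prime → p ≠ 2 → q ≠ 2 → p ∣ Nat.card G → q ∣ Nat.card G →
      p = q) → Group.IsSolvable G := by
    intro hh
    by_cases hex : ∃ p : ℕ, p.Prime ∧ p ≠ 2 ∧ p ∣ Nat.card G
    · obtain ⟨p, hp, hp2, hpG⟩ := hex
      exact solvable_two Nat.prime_two hp fun r hr hrG =>
        or_iff_not_imp_left.mpr fun hr2 => hh r p hr hp hr2 hp2 hrG hpG
    · exact solvable_two Nat.prime_two Nat.prime_two fun r hr hrG =>
        Or.inl (by_contra fun hr2 => hex ⟨r, hr, hr2, hrG⟩)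
  -- at most two odd primes as soon as few elements have odd order
  have htwo : ∀ M : ℕ, Odd M → M ∣ Nat.card G →
      (∀ r : ℕ, r.Prime → r ≠ 2 → r ∣ Nat.card G → r ∣ M) →
      Nat.card {g : G // Odd (orderOf g)} ≤ M →
      ∃ p q : ℕ, p.Prime ∧ q.Prime ∧
        ∀ r : ℕ, r.Prime → r ≠ 2 → r ∣ Nat.card G → r = p ∨ r = q := by
    intro M hMo hMd hpM hM
    have hne : ∀ p q : ℕ, p.Prime → q.Prime → p ≠ 2 → q ≠ 2 → p ∣ Nat.card G → q ∣ Nat.card G →
        cnt G p = cnt G q → p = q := by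
      intro p q hp hq hp2 hq2 hpG hqG he
      by_contra hpq
      rcases hclass p hp hp2 hpG with e | e
      · exact pair hMo hMd hpM hM hv' hp hp2 hpG hq hq2 hqG hpq e (he ▸ e)
      · exact pair (a := b) (b := a) hMo hMd hpM hM (fun m hm => (hv' m hm).imp_right Or.symm)
          hp hp2 hpG hq hq2 hqG hpq e (he ▸ e)
    have key : ∀ c : ℕ, ∃ p : ℕ, p.Prime ∧
        ∀ r : ℕ, r.Prime → r ≠ 2 → r ∣ Nat.card G → cnt G r = c → r = p := by
      intro c
      by_cases hex : ∃ p : ℕ, p.Prime ∧ p ≠ 2 ∧ p ∣ Nat.card G ∧ cnt G p = c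
      · obtain ⟨p, hp, hp2, hpG, hpc⟩ := hex
        exact ⟨p, hp, fun r hr hr2 hrG hrc => hne r p hr hp hr2 hp2 hrG hpG (hrc.trans hpc.symm)⟩
      · exact ⟨2, Nat.prime_two, fun r hr hr2 hrG hrc => absurd ⟨r, hr, hr2, hrG, hrc⟩ hex⟩
    obtain ⟨p, hp, hpu⟩ := key a
    obtain ⟨q, hq, hqu⟩ := key b
    exact ⟨p, q, hp, hq, fun r hr hr2 hrG =>
      (hclass r hr hr2 hrG).imp (hpu r hr hr2 hrG) (hqu r hr hr2 hrG)⟩
  by_cases h2 : 2 ∣ Nat.card G
  swap
  · obtain ⟨p, q, hp, hq, hpq⟩ := htwo (Nat.card G) (Nat.not_even_iff_odd.mp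
      (fun he => h2 (even_iff_two_dvd.mp he))) dvd_rfl (fun r _ _ hr => hr)
      (Nat.card_le_card_of_injective _ Subtype.val_injective)
    exact solvable_two hp hq fun r hr hrG => hpq r hr (fun e => h2 (e ▸ hrG)) hrG
  have hodd2 : ¬ 2 ∣ cnt G 2 := by
    have := rule (G := G) Nat.prime_two 1 (by decide) h2
    rw [cnt_one, mul_one] at this; omega
  by_cases hs2 : cnt G 2 = 1
  swap
  · -- several involutions: all other counts agree
    have hs0 := hdiv 2 Nat.prime_two h2
    have hall : ∃ e, ∀ m, 2 < m → cnt G m = 0 ∨ cnt G m = e := by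
      have h2v := ((hv 2).resolve_left hs0).resolve_left hs2
      rcases h2v with e | e
      · refine ⟨b, fun m hm => (hv' m hm).imp_right fun h => h.resolve_left fun hh => hodd2 ?_⟩
        rw [e, ← hh]; exact two_dvd_cnt hm
      · refine ⟨a, fun m hm => (hv' m hm).imp_right fun h => h.resolve_right fun hh => hodd2 ?_⟩
        rw [e, ← hh]; exact two_dvd_cnt hm
    obtain ⟨e, he⟩ := hall
    refine hone fun p q hp hq hp2 hq2 hpG hqG => by_contra fun hpq => ?_
    have hpe := (he p (lt_of_le_of_ne hp.two_le hp2.symm)).resolve_left (hdiv p hp hpG)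
    have hqe := (he q (lt_of_le_of_ne hq.two_le hq2.symm)).resolve_left (hdiv q hq hqG)
    have hcp : (e : ZMod p) = -1 := hpe ▸ cast_prime hp hpG
    have h1 := cast_rule (G := G) hp ((Nat.prime_dvd_prime_iff_eq hp hq).not.mpr hpq)
      (((Nat.coprime_primes hp hq).mpr hpq).mul_dvd_of_dvd_of_dvd hpG hqG)
    rw [hqe, hcp, neg_neg] at h1
    rcases he (p * q) (by nlinarith [hp.two_le, hq.two_le]) with h | h <;> rw [h] at h1
    · exact (two_ne hp hp2).2 (by simpa using h1.symm)
    · exact (two_ne hp hp2).1 (h1.symm.trans hcp)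
  by_cases h4 : 4 ∣ Nat.card G
  · -- a quaternion or larger cyclic Sylow 2-subgroup
    have h4s : 4 ∣ 1 + (1 + cnt G 4) := by
      have h1 := Cfsg.Agent.Lib.OrderCount.dvd_card_pow_eq_one (G := G) h4
      rwa [card_pow_eq_sum (by norm_num), show Nat.divisors 4 = {1, 2, 4} by decide,
        Finset.sum_insert (by decide), Finset.sum_pair (by decide), cnt_one, hs2] at h1
    rcases hv' 4 (by norm_num) with e | e | e
    · omega
    · exact hone fun p q hp hq hp2 hq2 hpG hqG => by_contra fun hpq =>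
        four_case h4 hv' (by omega) e hp hp2 hpG hq hq2 hqG hpq
    · exact hone fun p q hp hq hp2 hq2 hpG hqG => by_contra fun hpq =>
        four_case h4 (fun m hm => (hv' m hm).imp_right Or.symm) (by omega) e hp hp2 hpG hq hq2 hqG hpq
  -- the Sylow 2-subgroup has order two and is central
  obtain ⟨M, hM⟩ := h2
  have hMo : Odd M := Nat.not_even_iff_odd.mp fun he => h4 (by
    rw [hM]; obtain ⟨k, rfl⟩ := he; exact ⟨k, by ring⟩)
  obtain ⟨z, hz⟩ := (Nat.card_ne_zero.mp (hdiv 2 Nat.prime_two ⟨M, hM⟩)).1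
  have huniq : ∀ x : G, orderOf x = 2 → x = z := fun x hx => by
    have := (Nat.card_eq_one_iff_unique.mp hs2).1
    exact congrArg Subtype.val (Subsingleton.elim (⟨x, hx⟩ : {g : G // orderOf g = 2}) ⟨z, hz⟩)
  have hzc : ∀ x : G, Commute x z := fun x => by
    have := huniq (MulAut.conj x z) (by rw [MulEquiv.orderOf_eq, hz])
    rw [MulAut.conj_apply] at this
    exact mul_inv_eq_iff_eq_mul.mp this
  have hOM : Nat.card {g : G // Odd (orderOf g)} ≤ M := by
    let f : {g : G // Odd (orderOf g)} ⊕ {g : G // Odd (orderOf g)} → G :=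
      Sum.elim (fun g => g.1) (fun g => g.1 * z)
    have hord : ∀ g : {g : G // Odd (orderOf g)}, ¬ Odd (orderOf (g.1 * z)) := fun g => by
      rw [(hzc g.1).orderOf_mul_eq_mul_orderOf_of_coprime
        (by rw [hz]; exact Nat.coprime_two_right.mpr g.2), hz, Nat.not_odd_iff_even]
      exact even_two.mul_left _
    have hf : Function.Injective f := by
      rintro (x | x) (y | y) hxy
      · exact congrArg Sum.inl (Subtype.ext hxy)
      · exact absurd (show Odd (orderOf (y.1 * z)) by rw [← show x.1 = y.1 * z from hxy]; exact x.2) (hord y)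
      · exact absurd (show Odd (orderOf (x.1 * z)) by rw [show x.1 * z = y.1 from hxy]; exact y.2) (hord x)
      · exact congrArg Sum.inr (Subtype.ext (mul_right_cancel hxy))
    have := Nat.card_le_card_of_injective f hf
    rw [Nat.card_sum] at this
    omega
  obtain ⟨p, q, hp, hq, hpq⟩ := htwo M hMo ⟨2, by rw [hM]; ring⟩ (fun r hr hr2 hrG =>
    (((Nat.coprime_primes hr Nat.prime_two).mpr hr2).dvd_of_dvd_mul_left (hM ▸ hrG))) hOM
  have : (Subgroup.zpowers z).Normal := ⟨fun y hy x => by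
    obtain ⟨k, rfl⟩ := Subgroup.mem_zpowers_iff.mp hy
    rw [((hzc x).zpow_right k).eq, mul_inv_cancel_right]
    exact Subgroup.zpow_mem_zpowers z k⟩
  have hQ : Nat.card (G ⧸ Subgroup.zpowers z) = M := by
    have := Subgroup.card_eq_card_quotient_mul_card_subgroup (Subgroup.zpowers z)
    rw [Nat.card_zpowers, hz, hM] at this
    omega
  have : Group.IsSolvable (G ⧸ Subgroup.zpowers z) := solvable_two hp hq fun r hr hrQ => by
    rw [hQ] at hrQ
    exact hpq r hr (fun e => Nat.not_even_iff_odd.mpr hMo (even_iff_two_dvd.mpr (e ▸ hrQ)))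
      (hrQ.trans ⟨2, by rw [hM]; ring⟩)
  exact Group.isSolvable_of_ker_le_range (Subgroup.zpowers z).subtype
    (QuotientGroup.mk' (Subgroup.zpowers z)) (by rw [QuotientGroup.ker_mk', Subgroup.range_subtype])

end Cfsg.Agent.S3996
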