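import Cfsg.Statements.S3997
import Mathlib

set_option autoImplicit false
open Cfsg
open scoped Pointwise

namespace Cfsg.Agent.S3997

/-- A Sylow subgroup is normal exactly when it contains all solutions of `g ^ #P = 1`. -/
theorem sylow_normal_iff {K : Type*} [Group K] [Finite K] (p : ℕ) [Fact p.Prime] (P : Sylow p K) :
    (P : Subgroup K).Normal ↔
      Nat.card {g : K // g ^ (p ^ (Nat.card K).factorization p) = 1} = p ^ (Nat.card K).factorization p := by
  have hmem : ∀ Q : Sylow p K, ∀ x ∈ (Q : Subgroup K), x ^ (p ^ (Nat.card K).factorization p) = 1 := by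
    intro Q x hx
    rw [← Q.card_eq_multiplicity]
    exact congrArg Subtype.val (pow_card_eq_one' (x := (⟨x, hx⟩ : (Q : Subgroup K))))
  constructor
  · intro hN
    rw [← P.card_eq_multiplicity]
    refine Nat.card_congr (Equiv.subtypeEquivRight fun g => ?_)
    refine ⟨fun hg => ?_, fun hg => by rw [P.card_eq_multiplicity]; exact hmem P g hg⟩
    have hz : IsPGroup p (Subgroup.zpowers g) := by
      obtain ⟨k, -, hk⟩ := (Nat.dvd_prime_pow Fact.out).mp (P.card_eq_multiplicity ▸ orderOf_dvd_of_pow_eq_one hg)
      exact IsPGroup.of_card (by rw [Nat.card_zpowers, hk])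
    haveI := hN
    exact (P.is_maximal' (hz.to_sup_of_normal_right P.isPGroup') le_sup_right).le
      (Subgroup.mem_sup_left (Subgroup.mem_zpowers g))
  · intro h
    refine ⟨fun x hx g => ?_⟩
    classical
    cases nonempty_fintype K
    have hsub : Finset.univ.filter (fun y => y ∈ (P : Subgroup K)) ⊆
        Finset.univ.filter (fun y : K => y ^ (p ^ (Nat.card K).factorization p) = 1) := fun y hy => by
      simp only [Finset.mem_filter, Finset.mem_univ, true_and] at hy ⊢
      exact hmem P y hy
    have heq := Finset.eq_of_subset_of_card_le hsub (by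
      rw [← Fintype.card_subtype, ← Fintype.card_subtype, ← Nat.card_eq_fintype_card,
        ← Nat.card_eq_fintype_card, h]
      exact P.card_eq_multiplicity.ge)
    have : g * x * g⁻¹ ∈ Finset.univ.filter (fun y : K => y ^ (p ^ (Nat.card K).factorization p) = 1) := by
      simp only [Finset.mem_filter, Finset.mem_univ, true_and, conj_pow, hmem P x hx, mul_one,
        mul_inv_cancel]
    rw [← heq] at this
    exact (Finset.mem_filter.mp this).2

/-- Let G and H be finite groups with the same order type: for every m they have the same number of elements of order m. If G is nilpotent then so is H. -/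
theorem result {G H : Type*} [Group G] [Finite G] [Group H] [Finite H] (hT : (∀ m : ℕ, Nat.card {g : G // orderOf g = m} = Nat.card {h : H // orderOf h = m})) (hG : Group.IsNilpotent G) :
    Group.IsNilpotent H := by
  classical
  cases nonempty_fintype G
  cases nonempty_fintype H
  have hcnt : ∀ N : ℕ, 0 < N → Nat.card {g : G // g ^ N = 1} = Nat.card {h : H // h ^ N = 1} := by
    intro N hN
    simp only [Nat.card_eq_fintype_card, Fintype.card_subtype] at hT ⊢
    have e1 := sum_card_orderOf_eq_card_pow_eq_one (G := G) hN.ne'
    have e2 := sum_card_orderOf_eq_card_pow_eq_one (G := H) hN.ne'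
    convert e1.symm.trans (Eq.trans ?_ e2) using 1
    exact Finset.sum_congr rfl fun m _ => hT m
  have hcard : Nat.card G = Nat.card H := by
    have h := hcnt (Nat.card G * Nat.card H) (Nat.mul_pos Nat.card_pos Nat.card_pos)
    rwa [Nat.card_congr (Equiv.subtypeUnivEquiv fun g => by rw [pow_mul, pow_card_eq_one', one_pow]),
      Nat.card_congr (Equiv.subtypeUnivEquiv fun g => by rw [mul_comm, pow_mul, pow_card_eq_one', one_pow])] at h
  refine (Group.isNilpotent_of_finite_tfae.out 0 3).mpr fun p hp P => ?_
  haveI := hp
  rw [sylow_normal_iff p P, ← hcard, ← hcnt _ (pow_pos hp.out.pos _)]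
  obtain ⟨Q⟩ : Nonempty (Sylow p G) := inferInstance
  haveI := hG
  exact (sylow_normal_iff p Q).mp
    ((Group.isNilpotent_of_finite_tfae.out 0 3 rfl rfl).mp hG p hp Q)

end Cfsg.Agent.S3997
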