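import Cfsg.Statements.S3998
import Cfsg.Agent.Lib.Supersolvable.Props

set_option autoImplicit false
set_option maxHeartbeats 400000
open Cfsg

namespace Cfsg.Agent.S3998

open Cfsg.Agent.Lib.Supersolvable

/-- Every prime of the order of `g` is at least `k`. -/
def Big (k : ℕ) {G : Type*} [Group G] (g : G) : Prop :=
  ∀ q : ℕ, q.Prime → q ∣ orderOf g → k ≤ q

universe u

theorem exists_big_subgroup (k : ℕ) (G : Type u) [Group G] [Finite G]
    (h : IsSupersolvable G) : ∃ K : Subgroup G, K.Normal ∧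
      (∀ q : ℕ, q.Prime → q ∣ Nat.card K → k ≤ q) ∧ (∀ q : ℕ, q.Prime → q ∣ K.index → q < k) := by
  induction hn : Nat.card G using Nat.strong_induction_on generalizing G with
  | _ n ih =>
    subst hn
    by_cases hb : ∀ q : ℕ, q.Prime → q ∣ Nat.card G → q < k
    · refine ⟨⊥, inferInstance, ?_, ?_⟩
      · intro q hq hd
        rw [Subgroup.card_bot] at hd
        exact absurd (Nat.dvd_one.1 hd) hq.ne_one
      · intro q hq hd
        exact hb q hq (hd.trans (Subgroup.index_dvd_card _))
    · push Not at hb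
      obtain ⟨q, hq, hqd, hqk⟩ := hb
      have hne : (Nat.card G).primeFactors.Nonempty :=
        ⟨q, Nat.mem_primeFactors.mpr ⟨hq, hqd, Nat.card_pos.ne'⟩⟩
      set p := (Nat.card G).primeFactors.max' hne with hp
      have hpmem := Finset.max'_mem _ hne
      rw [← hp, Nat.mem_primeFactors] at hpmem
      have hmax : ∀ r : ℕ, r.Prime → r ∣ Nat.card G → r ≤ p := fun r hr hrd =>
        Finset.le_max' _ _ (Nat.mem_primeFactors.mpr ⟨hr, hrd, Nat.card_pos.ne'⟩)
      obtain ⟨N, hN, hNc⟩ := exists_normal_card_eq_max G h p hpmem.1 hpmem.2.1 hmax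
      have hne' : N ≠ ⊥ := ne_bot_of_prime_card (by rw [hNc]; exact hpmem.1)
      obtain ⟨K, hK, h1, h2⟩ := ih _ (card_quotient_lt hne') (G ⧸ N) (quotient h N) rfl
      refine ⟨K.comap (QuotientGroup.mk' N), inferInstance, ?_, ?_⟩
      · intro r hr hrd
        have e : Nat.card (K.comap (QuotientGroup.mk' N)) = Nat.card N * Nat.card K :=
          QuotientGroup.card_preimage_mk N (K : Set (G ⧸ N))
        rw [e] at hrd
        rcases hr.dvd_mul.1 hrd with e1 | e1
        · rw [hNc, Nat.prime_dvd_prime_iff_eq hr hpmem.1] at e1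
          rw [e1]
          exact hqk.trans (hmax q hq hqd)
        · exact h1 r hr e1
      · intro r hr hrd
        rw [Subgroup.index_comap_of_surjective _ (QuotientGroup.mk'_surjective N)] at hrd
        exact h2 r hr hrd

theorem mem_iff_big {k : ℕ} {G : Type u} [Group G] [Finite G] {K : Subgroup G} [K.Normal]
    (h1 : ∀ q : ℕ, q.Prime → q ∣ Nat.card K → k ≤ q)
    (h2 : ∀ q : ℕ, q.Prime → q ∣ K.index → q < k) (g : G) : g ∈ K ↔ Big k g := by
  constructor
  · intro hg q hq hd
    exact h1 q hq (hd.trans (Subgroup.orderOf_dvd_natCard K hg))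
  · intro hg
    rw [← QuotientGroup.eq_one_iff, ← orderOf_eq_one_iff, Nat.eq_one_iff_not_exists_prime_dvd]
    intro q hq hd
    have ha : q ∣ K.index := hd.trans (orderOf_dvd_natCard (g : G ⧸ K))
    have hb : q ∣ orderOf g := hd.trans (orderOf_map_dvd (QuotientGroup.mk' K) g)
    exact absurd (hg q hq hb) (not_le.2 (h2 q hq ha))

/-- The counts of `Big` elements. -/
theorem count_big (k : ℕ) (G : Type u) [Group G] [Finite G] (h : IsSupersolvable G) :
    ∃ n m : ℕ, Nat.card {g : G // Big k g} = n ∧ n * m = Nat.card G ∧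
      (∀ q : ℕ, q.Prime → q ∣ n → k ≤ q) ∧ (∀ q : ℕ, q.Prime → q ∣ m → q < k) := by
  obtain ⟨K, hK, h1, h2⟩ := exists_big_subgroup k G h
  refine ⟨Nat.card K, K.index, ?_, K.card_mul_index, h1, h2⟩
  exact Nat.card_congr (Equiv.subtypeEquivRight fun g => (mem_iff_big h1 h2 g).symm)

theorem exists_solvable_big (H : Type u) [Group H] [Finite H]
    (hc : ∀ k : ℕ, ∃ n m : ℕ, Nat.card {g : H // Big k g} = n ∧ n * m = Nat.card H ∧
      (∀ q : ℕ, q.Prime → q ∣ n → k ≤ q) ∧ (∀ q : ℕ, q.Prime → q ∣ m → q < k)) :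
    ∀ d k : ℕ, Nat.card H + 1 ≤ d + k →
      ∃ M : Subgroup H, M.Normal ∧ Group.IsSolvable M ∧ ∀ g : H, g ∈ M ↔ Big k g := by
  intro d
  induction d with
  | zero =>
    intro k hk
    refine ⟨⊥, inferInstance, inferInstance, fun g => ⟨?_, ?_⟩⟩
    · intro hg q hq hd
      rw [Subgroup.mem_bot.1 hg, orderOf_one] at hd
      exact absurd (Nat.dvd_one.1 hd) hq.ne_one
    · intro hg
      rw [Subgroup.mem_bot, ← orderOf_eq_one_iff, Nat.eq_one_iff_not_exists_prime_dvd]
      intro q hq hd
      have h1 := hg q hq hd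
      have h2 := Nat.le_of_dvd Nat.card_pos (hd.trans (orderOf_dvd_natCard g))
      omega
  | succ d ih =>
    intro k hk
    obtain ⟨M, hM, hMs, hmem⟩ := ih (k + 1) (by omega)
    by_cases hp : k.Prime
    swap
    · refine ⟨M, hM, hMs, fun g => (hmem g).trans ⟨fun hg q hq hd => ?_, fun hg q hq hd => ?_⟩⟩
      · exact Nat.le_of_succ_le (hg q hq hd)
      · rcases lt_or_eq_of_le (hg q hq hd) with e | e
        · exact e
        · exact absurd (e ▸ hq) hp
    have hkf : Fact k.Prime := ⟨hp⟩
    obtain ⟨n, m, hn, hnm, hn1, hn2⟩ := hc k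
    obtain ⟨n', m', hn', hnm', hn1', hn2'⟩ := hc (k + 1)
    have hMc : Nat.card M = n' := by
      rw [← hn']; exact Nat.card_congr (Equiv.subtypeEquivRight hmem)
    have hMi : M.index = m' := by
      have e := M.card_mul_index
      rw [hMc, ← hnm'] at e
      exact Nat.eq_of_mul_eq_mul_left (hMc ▸ Nat.card_pos) e
    let Q : Set (H ⧸ M) := {x | ∀ q : ℕ, q.Prime → q ∣ orderOf x → q = k}
    have hpre : ∀ g : H, (g : H ⧸ M) ∈ Q ↔ Big k g := by
      intro g
      constructor
      · intro hg q hq hd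
        by_cases hqk : q ∣ orderOf (g : H ⧸ M)
        · exact (hg q hq hqk).ge
        have hmm : g ^ orderOf (g : H ⧸ M) ∈ M := by
          rw [← QuotientGroup.eq_one_iff, QuotientGroup.mk_pow, pow_orderOf_eq_one]
        have hdd : orderOf g ∣ orderOf (g : H ⧸ M) * Nat.card M := by
          refine orderOf_dvd_of_pow_eq_one ?_
          rw [pow_mul]
          exact orderOf_dvd_iff_pow_eq_one.1 (Subgroup.orderOf_dvd_natCard M hmm)
        rcases hq.dvd_mul.1 (hd.trans hdd) with e | e
        · exact absurd e hqk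
        · exact (hn1' q hq (hMc ▸ e)).trans' (Nat.le_succ k)
      · intro hg q hq hd
        have ha : q ∣ m' := hMi ▸ hd.trans (orderOf_dvd_natCard (g : H ⧸ M))
        have hb : q ∣ orderOf g := hd.trans (orderOf_map_dvd (QuotientGroup.mk' M) g)
        exact le_antisymm (Nat.lt_succ_iff.1 (hn2' q hq ha)) (hg q hq hb)
    have hcount : n = n' * Nat.card Q := by
      rw [← hn, ← hMc, ← QuotientGroup.card_preimage_mk M Q]
      exact Nat.card_congr (Equiv.subtypeEquivRight fun g => (hpre g).symm)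
    have hm' : Nat.card Q * m = m' := by
      refine Nat.eq_of_mul_eq_mul_left (hMc ▸ Nat.card_pos : 0 < n') ?_
      rw [← mul_assoc, ← hcount, hnm, hnm']
    have hQ0 : Nat.card Q ≠ 0 := by
      intro e
      rw [e, zero_mul] at hm'
      exact (Subgroup.index_ne_zero_of_finite (H := M)) (hMi.trans hm'.symm)
    have hQpow : Nat.card Q = k ^ (Nat.card Q).primeFactorsList.length := by
      refine Nat.eq_prime_pow_of_unique_prime_dvd hQ0 ?_
      intro q hq hd
      have ha : q ∣ n := hcount ▸ dvd_mul_of_dvd_right hd n'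
      have hb : q ∣ m' := hm' ▸ dvd_mul_of_dvd_left hd m
      exact le_antisymm (Nat.lt_succ_iff.1 (hn2' q hq hb)) (hn1 q hq ha)
    have hkm : ¬ k ∣ m := fun e => lt_irrefl k (hn2 k hp e)
    have hcardq : Nat.card (H ⧸ M) = Nat.card Q * m := by
      rw [hm']; exact hMi
    have hsyl : ∀ P : Sylow k (H ⧸ M), ((P : Subgroup (H ⧸ M)) : Set (H ⧸ M)) = Q := by
      intro P
      have hsub : ((P : Subgroup (H ⧸ M)) : Set (H ⧸ M)) ⊆ Q := by
        intro x hx q hq hd
        obtain ⟨a, ha⟩ := P.2.exists_card_eq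
        exact (Nat.prime_dvd_prime_iff_eq hq hp).1
          (hq.dvd_of_dvd_pow (ha ▸ hd.trans (Subgroup.orderOf_dvd_natCard _ hx)))
      refine Set.eq_of_subset_of_ncard_le hsub ?_ (Set.toFinite _)
      rw [← Nat.card_coe_set_eq, ← Nat.card_coe_set_eq]
      refine Nat.le_of_dvd Nat.card_pos ?_
      rw [hQpow]
      refine P.pow_dvd_card_of_pow_dvd_card ?_
      rw [← hQpow, hcardq]
      exact dvd_mul_right _ _
    obtain ⟨P⟩ : Nonempty (Sylow k (H ⧸ M)) := inferInstance
    have hPn : (P : Subgroup (H ⧸ M)).Normal := by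
      constructor
      intro x hx g
      rw [← SetLike.mem_coe, hsyl P] at hx ⊢
      intro q hq hd
      refine hx q hq ?_
      rwa [← MulAut.conj_apply, MulEquiv.orderOf_eq] at hd
    refine ⟨(P : Subgroup (H ⧸ M)).comap (QuotientGroup.mk' M), inferInstance, ?_, ?_⟩
    · let f := (QuotientGroup.mk' M).subgroupComap (P : Subgroup (H ⧸ M))
      have : Group.IsNilpotent (P : Subgroup (H ⧸ M)) := P.2.isNilpotent
      have : Group.IsSolvable (P : Subgroup (H ⧸ M)) := inferInstance
      have hle : M ≤ (P : Subgroup (H ⧸ M)).comap (QuotientGroup.mk' M) := by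
        intro x hx
        rw [Subgroup.mem_comap, QuotientGroup.mk'_apply, (QuotientGroup.eq_one_iff x).2 hx]
        exact one_mem _
      refine Group.isSolvable_of_ker_le_range (Subgroup.inclusion hle) f ?_
      intro x hx
      have e : (QuotientGroup.mk' M) (x : H) = 1 := congrArg Subtype.val (MonoidHom.mem_ker.1 hx)
      rw [QuotientGroup.mk'_apply, QuotientGroup.eq_one_iff] at e
      exact ⟨⟨x, e⟩, Subtype.ext rfl⟩
    · intro g
      rw [Subgroup.mem_comap, QuotientGroup.mk'_apply, ← SetLike.mem_coe, hsyl P]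
      exact hpre g

/-- Let G and H be finite groups with the same order type (for every m the same number of elements of order m). If G is supersolvable then H is solvable. -/
theorem result {G H : Type*} [Group G] [Finite G] [Group H] [Finite H] (hT : (∀ m : ℕ, Nat.card {g : G // orderOf g = m} = Nat.card {h : H // orderOf h = m})) (hG : Cfsg.IsSupersolvable G) :
    Group.IsSolvable H := by
  classical
  have e : ∀ m : ℕ, {g : G // orderOf g = m} ≃ {g : H // orderOf g = m} :=
    fun m => (Finite.card_eq.1 (hT m)).some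
  let E : G ≃ H := Equiv.ofFiberEquiv e
  have hE : ∀ g, orderOf (E g) = orderOf g := fun g => Equiv.ofFiberEquiv_map e g
  have hc : ∀ k : ℕ, ∃ n m : ℕ, Nat.card {g : H // Big k g} = n ∧ n * m = Nat.card H ∧
      (∀ q : ℕ, q.Prime → q ∣ n → k ≤ q) ∧ (∀ q : ℕ, q.Prime → q ∣ m → q < k) := by
    intro k
    obtain ⟨n, m, h1, h2, h3, h4⟩ := count_big k G hG
    refine ⟨n, m, ?_, h2.trans (Nat.card_congr E), h3, h4⟩
    rw [← h1]
    exact (Nat.card_congr (E.subtypeEquiv (fun g => by unfold Big; rw [hE]))).symm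
  obtain ⟨M, -, hs, hmem⟩ := exists_solvable_big H hc (Nat.card H + 1) 0 le_rfl
  have htop : M = ⊤ := (Subgroup.eq_top_iff' M).2 fun g => (hmem g).2 fun q _ _ => Nat.zero_le q
  subst htop
  exact Group.isSolvable_of_surjective (f := (Subgroup.topEquiv (G := H)).toMonoidHom)
    Subgroup.topEquiv.surjective

end Cfsg.Agent.S3998
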