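import Cfsg.Statements.S4002
import Mathlib
import Cfsg.Agent.Lib.PrimeGraph.SolvableTriple
import Cfsg.Agent.Lib.NumberTheory.TwoPrimes

set_option autoImplicit false
open Cfsg

namespace Cfsg.Agent.S4002

/-- If the set of element orders of a finite group G is {1, 2, …, n} with n ≥ 7, then G is not solvable. -/
theorem result {G : Type*} [Group G] [Finite G] (n : ℕ) (hn : 7 ≤ n) (h : Set.range (orderOf : G → ℕ) = {k : ℕ | 1 ≤ k ∧ k ≤ n}) : ¬ Group.IsSolvable G := by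
  intro hs
  have hex : ∀ k : ℕ, 1 ≤ k → k ≤ n → ∃ g : G, orderOf g = k := fun k h1 h2 => by
    have : k ∈ Set.range (orderOf : G → ℕ) := h ▸ (⟨h1, h2⟩ : 1 ≤ k ∧ k ≤ n)
    exact this
  have hle : ∀ g : G, orderOf g ≤ n := fun g => by
    have : orderOf g ∈ {k : ℕ | 1 ≤ k ∧ k ≤ n} := h ▸ Set.mem_range_self g
    exact this.2
  suffices H : ∃ p q r : ℕ, p.Prime ∧ q.Prime ∧ r.Prime ∧ p < q ∧ q < r ∧ r ≤ n ∧ n < p * q by
    obtain ⟨p, q, r, hp, hq, hr, hpq, hqr, hrn, hpqn⟩ := H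
    have hd : ∀ k : ℕ, k.Prime → k ≤ n → k ∣ Nat.card G := fun k hk hkn => by
      obtain ⟨g, hg⟩ := hex k hk.one_lt.le hkn
      exact hg ▸ orderOf_dvd_natCard g
    have h1 : p * q < p * r := Nat.mul_lt_mul_of_pos_left hqr hp.pos
    have h2 : p * r < q * r := Nat.mul_lt_mul_of_pos_right hpq hr.pos
    rcases Cfsg.Agent.Lib.PrimeGraph.solvable_triple hp hq hr hpq.ne (hpq.trans hqr).ne hqr.ne _ G
        rfl hs (hd p hp (by omega)) (hd q hq (by omega)) (hd r hr hrn) with ⟨g, hg⟩ | ⟨g, hg⟩ | ⟨g, hg⟩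
    all_goals
      have := hle g
      omega
  rcases Nat.lt_or_ge n 11 with h11 | h11
  · exact ⟨3, 5, 7, by norm_num, by norm_num, by norm_num, by norm_num, by norm_num, hn, by omega⟩
  · obtain ⟨q, r, hq, hr, hqr, hnq, hrn⟩ := Cfsg.Agent.Lib.TwoPrimes.exists_two_primes_half n h11
    obtain ⟨p, hp, hp1, hp2⟩ := Nat.exists_prime_lt_and_le_two_mul (n / 4) (by omega)
    refine ⟨p, q, r, hp, hq, hr, by omega, hqr, hrn, ?_⟩
    have h1 : n < 4 * p := by omega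
    have h3 : n * n < 4 * p * (2 * q) := Nat.mul_lt_mul_of_lt_of_lt h1 hnq
    by_contra hcon
    have h4 : 8 * n ≤ n * n := Nat.mul_le_mul_right n (show 8 ≤ n by omega)
    nlinarith

end Cfsg.Agent.S4002
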