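import Cfsg.Statements.S4003
import Cfsg.Agent.Lib.Elem69.CyclicCount
import Cfsg.Agent.Lib.OrderCount.Frobenius

set_option autoImplicit false
open Cfsg

namespace Cfsg.Agent.S4003

/-- Let G be a finite group, p an odd prime dividing the order of G whose Sylow p-subgroups are not cyclic, and n = p^s·m with s > 1 and m coprime to p. Then the number of elements of G of order n is a multiple of p^s. -/
theorem result {G : Type*} [Group G] [Finite G] (p : ℕ) [Fact p.Prime] (hodd : p ≠ 2) (hpG : p ∣ Nat.card G)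
    (P : Sylow p G) (hP : ¬ IsCyclic ↥(P : Subgroup G)) (s m : ℕ) (hs : 1 < s) (hm : Nat.Coprime p m) :
    p ^ s ∣ Nat.card {g : G // orderOf g = p ^ s * m} := by
  classical
  cases nonempty_fintype G
  have hpp := Fact.out (p := p.Prime)
  have hcop : Nat.Coprime (p ^ s) m := hm.pow_left s
  rcases Nat.eq_zero_or_pos m with rfl | hm0
  · have : IsEmpty {g : G // orderOf g = p ^ s * 0} := ⟨fun g =>
      (orderOf_pos g.1).ne' (g.2.trans (mul_zero _))⟩
    rw [Nat.card_of_isEmpty]
    exact dvd_zero _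
  obtain ⟨a, b, hab⟩ : ∃ a b : ℤ, (p : ℤ) ^ s * a + (m : ℤ) * b = 1 :=
    ⟨Nat.gcdA (p ^ s) m, Nat.gcdB (p ^ s) m, by
      rw [← Nat.cast_pow, ← Nat.gcd_eq_gcd_ab, hcop.gcd_eq_one, Nat.cast_one]⟩
  let f : G → ℕ := fun y =>
    Nat.card {x : Subgroup.centralizer ({y} : Set G) // orderOf x = p ^ s}
  let Y : Finset G := Finset.univ.filter fun y => orderOf y = m
  -- the decomposition
  have hsum : Nat.card {g : G // orderOf g = p ^ s * m} = ∑ y ∈ Y, f y := by
    have hv : ∀ g : G, orderOf g = p ^ s * m → orderOf (g ^ ((p : ℤ) ^ s * a)) = m ∧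
        orderOf (g ^ ((m : ℤ) * b)) = p ^ s := by
      intro g hg
      have h1 : (g ^ ((p : ℤ) ^ s * a)) ^ m = 1 := by
        rw [← zpow_natCast, ← zpow_mul, mul_comm _ a, mul_assoc, ← Nat.cast_pow, ← Nat.cast_mul, ← hg,
          mul_comm, zpow_mul, zpow_natCast, pow_orderOf_eq_one, one_zpow]
      have h2 : (g ^ ((m : ℤ) * b)) ^ (p ^ s) = 1 := by
        rw [← zpow_natCast, ← zpow_mul, mul_comm _ b, mul_assoc, ← Nat.cast_mul, mul_comm m, ← hg,
          mul_comm, zpow_mul, zpow_natCast, pow_orderOf_eq_one, one_zpow]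
      have h3 := orderOf_dvd_of_pow_eq_one h1
      have h4 := orderOf_dvd_of_pow_eq_one h2
      have hcm : Commute (g ^ ((p : ℤ) ^ s * a)) (g ^ ((m : ℤ) * b)) := (Commute.refl g).zpow_zpow _ _
      have h5 := hcm.orderOf_mul_eq_mul_orderOf_of_coprime
        (Nat.Coprime.coprime_dvd_left h3 (Nat.Coprime.coprime_dvd_right h4 hcop.symm))
      rw [← zpow_add, hab, zpow_one, hg] at h5
      have h6 : orderOf (g ^ ((p : ℤ) ^ s * a)) ≤ m := Nat.le_of_dvd hm0 h3
      have h7 : orderOf (g ^ ((m : ℤ) * b)) ≤ p ^ s := Nat.le_of_dvd (pow_pos hpp.pos s) h4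
      constructor
      · nlinarith [orderOf_pos (g ^ ((p : ℤ) ^ s * a)), pow_pos hpp.pos s]
      · nlinarith [orderOf_pos (g ^ ((m : ℤ) * b)), pow_pos hpp.pos s]
    have hback : ∀ x y : G, orderOf y = m → orderOf x = p ^ s → y * x = x * y →
        (x * y) ^ ((p : ℤ) ^ s * a) = y ∧ (x * y) ^ ((m : ℤ) * b) = x := by
      intro x y hy hx hxy
      have hc : Commute x y := hxy.symm
      have hx1 : x ^ ((p : ℤ) ^ s * a) = 1 := by
        rw [← Nat.cast_pow, zpow_mul, zpow_natCast, ← hx, pow_orderOf_eq_one, one_zpow]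
      have hy1 : y ^ ((m : ℤ) * b) = 1 := by
        rw [zpow_mul, zpow_natCast, ← hy, pow_orderOf_eq_one, one_zpow]
      constructor
      · rw [hc.mul_zpow, hx1, one_mul]
        calc y ^ ((p : ℤ) ^ s * a) = y ^ ((p : ℤ) ^ s * a) * y ^ ((m : ℤ) * b) := by rw [hy1, mul_one]
          _ = y := by rw [← zpow_add, hab, zpow_one]
      · rw [hc.mul_zpow, hy1, mul_one]
        calc x ^ ((m : ℤ) * b) = x ^ ((p : ℤ) ^ s * a) * x ^ ((m : ℤ) * b) := by rw [hx1, one_mul]
          _ = x := by rw [← zpow_add, hab, zpow_one]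
    let e : {g : G // orderOf g = p ^ s * m} ≃
        Σ y : Y, {x : G // x ∈ Subgroup.centralizer ({(y : G)} : Set G) ∧ orderOf x = p ^ s} :=
      { toFun := fun g => ⟨⟨g.1 ^ ((p : ℤ) ^ s * a), Finset.mem_filter.mpr ⟨Finset.mem_univ _, (hv g.1 g.2).1⟩⟩,
          ⟨g.1 ^ ((m : ℤ) * b), Subgroup.mem_centralizer_singleton_iff.mpr
            ((Commute.refl g.1).zpow_zpow _ _).eq, (hv g.1 g.2).2⟩⟩
        invFun := fun w => ⟨(w.2.1 : G) * (w.1 : G), by
          have h1 : Commute ((w.2.1 : G)) (w.1 : G) := (Subgroup.mem_centralizer_singleton_iff.mp w.2.2.1)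
          have hy := (Finset.mem_filter.mp w.1.2).2
          have hx := w.2.2.2
          rw [h1.orderOf_mul_eq_mul_orderOf_of_coprime (by rw [hy, hx]; exact hcop), hx, hy]⟩
        left_inv := fun g => Subtype.ext (by
          show g.1 ^ ((m : ℤ) * b) * g.1 ^ ((p : ℤ) ^ s * a) = g.1
          rw [← zpow_add, add_comm, hab, zpow_one])
        right_inv := fun w => by
          obtain ⟨⟨y, hy⟩, ⟨x, hxc, hx⟩⟩ := w
          obtain ⟨h1, h2⟩ := hback x y (Finset.mem_filter.mp hy).2 hx
            (Subgroup.mem_centralizer_singleton_iff.mp hxc).symm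
          exact Sigma.subtype_ext (Subtype.ext h1) h2 }
    rw [Nat.card_congr e, Nat.card_sigma, ← Finset.sum_coe_sort Y f]
    refine Finset.sum_congr rfl fun y _ => Nat.card_congr
      { toFun := fun x => ⟨⟨x.1, x.2.1⟩, by rw [Subgroup.orderOf_mk]; exact x.2.2⟩
        invFun := fun x => ⟨x.1.1, x.1.2, by rw [Subgroup.orderOf_coe]; exact x.2⟩ }
  rw [hsum, ← Finset.sum_fiberwise_of_maps_to (g := ConjClasses.mk) (t := Y.image ConjClasses.mk)
    (fun y hy => Finset.mem_image_of_mem _ hy)]
  refine Finset.dvd_sum fun c hc => ?_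
  obtain ⟨y, hy, rfl⟩ := Finset.mem_image.mp hc
  have hym : orderOf y = m := (Finset.mem_filter.mp hy).2
  have hconst : ∀ z ∈ Y.filter (fun z => ConjClasses.mk z = ConjClasses.mk y), f z = f y := by
    intro z hz
    obtain ⟨g, hg⟩ := isConj_iff.mp (ConjClasses.mk_eq_mk_iff_isConj.mp (Finset.mem_filter.mp hz).2)
    subst hg
    refine Nat.card_congr ?_
    refine (Equiv.subtypeEquiv (β := Subgroup.centralizer ({g * z * g⁻¹} : Set G))
      { toFun := fun x => ⟨g * (x : G) * g⁻¹, Subgroup.mem_centralizer_singleton_iff.mpr (by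
          have := Subgroup.mem_centralizer_singleton_iff.mp x.2
          simp only [mul_assoc, inv_mul_cancel_left]
          rw [← mul_assoc (x : G) z, this, mul_assoc])⟩
        invFun := fun x => ⟨g⁻¹ * (x : G) * g, Subgroup.mem_centralizer_singleton_iff.mpr (by
          have h0 := Subgroup.mem_centralizer_singleton_iff.mp x.2
          have h1 := congrArg (fun w => g⁻¹ * w * g) h0
          simpa [mul_assoc] using h1)⟩
        left_inv := fun x => Subtype.ext (by simp [mul_assoc])
        right_inv := fun x => Subtype.ext (by simp [mul_assoc]) } fun x => ?_)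
    rw [← Subgroup.orderOf_coe, ← Subgroup.orderOf_coe]
    show _ ↔ orderOf (g * (x : G) * g⁻¹) = _
    rw [← MulAut.conj_apply, MulEquiv.orderOf_eq]
  rw [Finset.sum_const_nat hconst]
  have hcard : (Y.filter (fun z => ConjClasses.mk z = ConjClasses.mk y)).card =
      (Subgroup.centralizer ({y} : Set G)).index := by
    rw [← Set.ncard_coe_finset]
    have hset : (↑(Y.filter (fun z => ConjClasses.mk z = ConjClasses.mk y)) : Set G) =
        MulAction.orbit (ConjAct G) y := by
      ext z
      rw [Finset.coe_filter, Set.mem_ofPred_eq, ConjAct.mem_orbit_conjAct, ConjClasses.mk_eq_mk_iff_isConj]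
      refine ⟨fun h => h.2, fun h => ⟨Finset.mem_filter.mpr ⟨Finset.mem_univ _, ?_⟩, h⟩⟩
      obtain ⟨g, hg⟩ := isConj_iff.mp h
      rw [← hym, ← hg, ← MulAut.conj_apply, MulEquiv.orderOf_eq]
    rw [hset, ← MulAction.index_stabilizer]
    have h1 := Subgroup.card_mul_index (MulAction.stabilizer (ConjAct G) y)
    have h2 := Subgroup.card_mul_index (Subgroup.centralizer ({y} : Set G))
    rw [show Nat.card (ConjAct G) = Nat.card G from rfl, ← Subgroup.nat_card_centralizer_nat_card_stabilizer, ← h2] at h1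
    exact Nat.eq_of_mul_eq_mul_left Nat.card_pos h1
  rw [hcard]
  obtain ⟨Q⟩ : Nonempty (Sylow p (Subgroup.centralizer ({y} : Set G))) := inferInstance
  by_cases hidx : p ∣ (Subgroup.centralizer ({y} : Set G)).index
  · have h1 : p ^ (s - 1) ∣ f y := by
      refine Dvd.dvd.trans ?_ (Cfsg.Agent.Lib.OrderCount.totient_dvd_card_orderOf (p ^ s))
      rw [Nat.totient_prime_pow hpp (by omega)]
      exact Dvd.intro _ rfl
    have := Nat.mul_dvd_mul hidx h1
    rwa [← pow_succ', Nat.sub_add_cancel (by omega)] at this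
  · refine (Cfsg.Agent.Lib.Elem69.pow_dvd_card_orderOf hodd Q ?_ hs).mul_left _
    intro hQc
    apply hP
    have hQ : IsPGroup p ((Q : Subgroup _).map (Subgroup.centralizer ({y} : Set G)).subtype) := Q.isPGroup'.map _
    obtain ⟨P', hP'⟩ := hQ.exists_le_sylow
    have hc1 : Nat.card ((Q : Subgroup _).map (Subgroup.centralizer ({y} : Set G)).subtype) = Nat.card P := by
      rw [Subgroup.card_map_of_injective (Subgroup.subtype_injective _), Sylow.card_eq_multiplicity,
        Sylow.card_eq_multiplicity, ← Subgroup.card_mul_index (Subgroup.centralizer ({y} : Set G)),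
        Nat.factorization_mul Nat.card_pos.ne' Subgroup.index_ne_zero_of_finite, Finsupp.add_apply,
        Nat.factorization_eq_zero_of_not_dvd hidx, add_zero]
    have hPP : Nat.card P' = Nat.card P := by rw [Sylow.card_eq_multiplicity, Sylow.card_eq_multiplicity]
    have heq := Subgroup.eq_of_le_of_card_ge hP' (by rw [hc1]; exact hPP.le)
    have h2 : IsCyclic (P' : Subgroup G) := by
      rw [← heq]
      exact (Q.1.equivMapOfInjective _ (Subgroup.subtype_injective _)).isCyclic.mp hQc
    exact (Sylow.equiv P' P).isCyclic.mp h2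

end Cfsg.Agent.S4003
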