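import Cfsg.Statements.S4004
import Mathlib
import Cfsg.Agent.S3996
import Cfsg.Agent.Lib.Frobenius.FPF
import Cfsg.Agent.Lib.Frobenius.Basic
import Cfsg.Agent.Lib.MinimalNormal

set_option autoImplicit false
open Cfsg

namespace Cfsg.Agent.S4004

open Cfsg.Agent.S3996 Cfsg.Agent.Lib

section

variable {G : Type*} [Group G] [Finite G]

lemma exists_sq_dvd {p : ℕ} (hp : p.Prime) (h : cnt G (p ^ 2) ≠ 0) : p ^ 2 ∣ Nat.card G := by
  obtain ⟨g, hg⟩ := (Nat.card_ne_zero.mp h).1
  exact hg ▸ orderOf_dvd_natCard g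

/-- No elements of order `p ^ 2`. -/
lemma cnt_sq {a b p q : ℕ} (hv : ∀ m, 2 < m → cnt G m = 0 ∨ cnt G m = a ∨ cnt G m = b)
    (hp : p.Prime) (hp2 : p ≠ 2) (hpG : p ∣ Nat.card G)
    (hq : q.Prime) (hq2 : q ≠ 2) (hqG : q ∣ Nat.card G) (hpq : p ≠ q)
    (hpa : cnt G p = a) (hqb : cnt G q = b) : cnt G (p ^ 2) = 0 := by
  have hap : (a : ZMod p) = -1 := hpa ▸ cast_prime hp hpG
  have hbq : (b : ZMod q) = -1 := hqb ▸ cast_prime hq hqG
  have h1 : ((cnt G (p ^ 2) : ℕ) : ZMod p) = 0 := by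
    rw [ZMod.natCast_eq_zero_iff]
    refine dvd_trans ?_ (Cfsg.Agent.Lib.OrderCount.totient_dvd_card_orderOf (p ^ 2))
    rw [Nat.totient_prime_pow hp (by norm_num)]
    exact Dvd.intro _ (by rw [show 2 - 1 = 1 from rfl, pow_one])
  by_contra hne
  have hb : cnt G (p ^ 2) = b := by
    rcases hv (p ^ 2) (by nlinarith [hp.two_le]) with h | h | h
    · exact absurd h hne
    · rw [h, hap] at h1; exact absurd (neg_eq_zero.mp h1) (two_ne hp hp2).2
    · exact h
  have hco : Nat.Coprime q (p ^ 2) := Nat.Coprime.pow_right 2 ((Nat.coprime_primes hq hp).mpr hpq.symm)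
  have hd : q * p ^ 2 ∣ Nat.card G := hco.mul_dvd_of_dvd_of_dvd hqG (exists_sq_dvd hp hne)
  have h2 := cast_rule (G := G) hq (hq.coprime_iff_not_dvd.mp hco) hd
  rw [hb, hbq, neg_neg] at h2
  rcases hv (q * p ^ 2) (by nlinarith [hq.two_le, Nat.mul_le_mul hp.two_le hp.two_le]) with h | h | h
  · rw [h] at h2; exact (two_ne hq hq2).2 (by simpa using h2.symm)
  · have h3 : (a : ZMod p) = 0 := by
      rw [ZMod.natCast_eq_zero_iff, ← h]
      refine dvd_trans ?_ (Cfsg.Agent.Lib.OrderCount.totient_dvd_card_orderOf (q * p ^ 2))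
      rw [Nat.totient_mul hco, Nat.totient_prime_pow hp (by norm_num)]
      exact Dvd.dvd.mul_left (Dvd.intro _ (by rw [show 2 - 1 = 1 from rfl, pow_one])) _
    rw [hap] at h3; exact (two_ne hp hp2).2 (neg_eq_zero.mp h3)
  · rw [h, hbq] at h2; exact (two_ne hq hq2).1 h2.symm

/-- The elements of order `p * q` cannot be as many as those of order `p`. -/
lemma pq_ne {a b p q : ℕ} (hp : p.Prime) (hp2 : p ≠ 2) (hpG : p ∣ Nat.card G)
    (hq : q.Prime) (hq2 : q ≠ 2) (hqG : q ∣ Nat.card G) (hpq : p ≠ q)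
    (hpa : cnt G p = a) (hqb : cnt G q = b) : cnt G (p * q) ≠ a := by
  classical
  intro hpqa
  have := Fact.mk hp
  have := Fact.mk hq
  have h1 := cast_rule (G := G) hp ((Nat.prime_dvd_prime_iff_eq hp hq).not.mpr hpq)
    (((Nat.coprime_primes hp hq).mpr hpq).mul_dvd_of_dvd_of_dvd hpG hqG)
  have hap : (a : ZMod p) = -1 := hpa ▸ cast_prime hp hpG
  rw [hpqa, hqb, hap, neg_inj] at h1
  obtain ⟨P⟩ : Nonempty (Sylow p G) := inferInstance
  let act : MulAction P {g : G // orderOf g = q} :=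
    { smul := fun u g => ⟨(u : G) * g.1 * (u : G)⁻¹, by
        rw [show (u : G) * g.1 * (u : G)⁻¹ = MulAut.conj (u : G) g.1 from rfl, MulEquiv.orderOf_eq, g.2]⟩
      one_smul := fun g => Subtype.ext (show ((1 : P) : G) * g.1 * ((1 : P) : G)⁻¹ = g.1 by simp)
      mul_smul := fun u v g => Subtype.ext (show ((u * v : P) : G) * g.1 * ((u * v : P) : G)⁻¹ = _ by
        simp [HSMul.hSMul, SMul.smul, mul_assoc]) }
  obtain ⟨⟨⟨x, hx⟩, hxfix⟩⟩ : Nonempty (MulAction.fixedPoints P {g : G // orderOf g = q}) := by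
    by_contra h0
    rw [not_nonempty_iff] at h0
    have h2 := P.isPGroup'.card_modEq_card_fixedPoints (α := {g : G // orderOf g = q})
    rw [Nat.card_of_isEmpty (α := MulAction.fixedPoints P {g : G // orderOf g = q}),
      show Nat.card {g : G // orderOf g = q} = b from hqb, Nat.modEq_zero_iff_dvd,
      ← ZMod.natCast_eq_zero_iff, ← h1] at h2
    exact (two_ne hp hp2).2 h2
  have hw : ∀ y : {g : G // orderOf g = p}, ∃ w : G, orderOf w = q ∧ Commute y.1 w := by
    rintro ⟨y, hy⟩
    obtain ⟨P', hP'⟩ := (IsPGroup.of_card (G := Subgroup.zpowers y) (p := p) (n := 1)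
      (by rw [Nat.card_zpowers, hy, pow_one])).exists_le_sylow
    obtain ⟨g, hg⟩ := MulAction.exists_smul_eq G P P'
    have hyP := hP' (Subgroup.mem_zpowers y)
    rw [← hg, Sylow.coe_subgroup_smul] at hyP
    obtain ⟨u, hu, hue⟩ := hyP
    have hfix : u * x * u⁻¹ = x := congrArg Subtype.val (hxfix ⟨u, hu⟩)
    refine ⟨MulAut.conj g x, by rw [MulEquiv.orderOf_eq, hx], ?_⟩
    have hc : Commute u x := mul_inv_eq_iff_eq_mul.mp hfix
    have := hc.map (MulAut.conj g).toMonoidHom
    rw [show (MulAut.conj g).toMonoidHom u = y from hue] at this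
    exact this
  choose w hwo hwc using hw
  let f : {g : G // orderOf g = p} × Bool → {g : G // orderOf g = p * q} := fun i =>
    ⟨i.1.1 * w i.1 ^ (if i.2 then 2 else 1), by
      have hwk : orderOf (w i.1 ^ (if i.2 then 2 else 1)) = q := by
        rw [orderOf_pow' _ (by split <;> norm_num), hwo]
        have : Nat.gcd q (if i.2 then 2 else 1) = 1 := by
          split
          · exact (Nat.coprime_primes hq Nat.prime_two).mpr hq2
          · exact Nat.gcd_one_right q
        rw [this, Nat.div_one]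
      rw [((hwc i.1).pow_right _).orderOf_mul_eq_mul_orderOf_of_coprime
        (by rw [i.1.2, hwk]; exact (Nat.coprime_primes hp hq).mpr hpq), i.1.2, hwk]⟩
  have hf : Function.Injective f := by
    rintro ⟨y, s⟩ ⟨y', s'⟩ h
    have h2 : y.1 * w y ^ (if s then 2 else 1) = y'.1 * w y' ^ (if s' then 2 else 1) :=
      congrArg Subtype.val h
    have h3 : ∀ (i : {g : G // orderOf g = p}) (k : ℕ), (i.1 * w i ^ k) ^ q = i.1 ^ q := by
      intro i k
      rw [((hwc i).pow_right k).mul_pow, ← pow_mul, mul_comm k q, pow_mul]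
      rw [show w i ^ q = 1 by rw [← hwo i, pow_orderOf_eq_one], one_pow, mul_one]
    have h4 : y.1 ^ q = y'.1 ^ q := by rw [← h3 y, h2, h3]
    have hy : y = y' := by
      obtain ⟨m, hm⟩ := exists_pow_eq_self_of_coprime (x := y.1) (n := q)
        (by rw [y.2]; exact (Nat.coprime_primes hq hp).mpr hpq.symm)
      obtain ⟨m', hm'⟩ := exists_pow_eq_self_of_coprime (x := y'.1) (n := q)
        (by rw [y'.2]; exact (Nat.coprime_primes hq hp).mpr hpq.symm)
      refine Subtype.ext ?_
      have e1 : y.1 ∈ Subgroup.zpowers (y.1 ^ q) := ⟨(m : ℤ), by simpa using hm⟩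
      rw [h4] at e1
      obtain ⟨k, hk⟩ := e1
      have hc1 : Commute y.1 y'.1 := hk ▸ ((Commute.refl y'.1).pow_left q).zpow_left k
      have h5 : (y.1 * y'.1⁻¹) ^ q = 1 := by
        rw [hc1.inv_right.mul_pow, inv_pow, h4, mul_inv_cancel]
      have h6 : (y.1 * y'.1⁻¹) ^ p = 1 := by
        rw [hc1.inv_right.mul_pow, inv_pow, orderOf_dvd_iff_pow_eq_one.mp (dvd_of_eq y.2),
          orderOf_dvd_iff_pow_eq_one.mp (dvd_of_eq y'.2), inv_one, mul_one]
      have h7 := orderOf_eq_one_iff.mp (Nat.eq_one_of_dvd_coprimes ((Nat.coprime_primes hp hq).mpr hpq)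
        (orderOf_dvd_of_pow_eq_one h6) (orderOf_dvd_of_pow_eq_one h5))
      exact mul_inv_eq_one.mp h7
    subst hy
    have h5 := mul_left_cancel h2
    have hw1 : w y ≠ 1 := fun e => hq.ne_one (by rw [← hwo y, e, orderOf_one])
    cases s <;> cases s' <;> simp [pow_two] at h5 ⊢ <;> exact absurd h5 hw1
  have := Nat.card_le_card_of_injective f hf
  rw [Nat.card_prod, show Nat.card {g : G // orderOf g = p} = a from hpa,
    show Nat.card {g : G // orderOf g = p * q} = a from hpqa] at this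
  simp [Nat.card_eq_fintype_card] at this
  have := cnt_ne_zero (G := G) hp hpG
  omega

/-- Exponent `p` extensions: no element of order `p` normalises a fixed point free group of order `q`. -/
lemma no_normalizer {p q : ℕ} (hp : p.Prime) (hq : q.Prime) (hpq : p ≠ q) {V : Subgroup G}
    [V.Normal] (hVc : IsMulCommutative V) (hV : V ≠ ⊥) (hVp : ∀ v ∈ V, v ^ p = 1)
    (hexp : ∀ (z : G), z ^ p = 1 → ∀ v ∈ V, (v * z) ^ p = 1)
    (hno : ∀ s t : G, orderOf s = p → orderOf t = q → ¬ Commute s t)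
    {x y : G} (hx : orderOf x = q) (hy : orderOf y = p)
    (hyx : ∀ u ∈ Subgroup.zpowers x, y * u * y⁻¹ ∈ Subgroup.zpowers x) : False := by
  classical
  let _ : CommGroup V := { (inferInstance : Group V) with mul_comm := fun a b => hVc.is_comm.comm a b }
  have := Fintype.ofFinite (Subgroup.zpowers x)
  let c : G →* MulAut V := MulAut.conjNormal
  have hc : ∀ (g : G) (v : V), ((c g v : V) : G) = g * v * g⁻¹ := fun g v => MulAut.conjNormal_apply g v
  have hA : ∀ w : V, ∏ u : Subgroup.zpowers x, c (u : G) w = 1 := by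
    intro w
    set t := ∏ u : Subgroup.zpowers x, c (u : G) w
    have h1 : c x t = t := by
      rw [map_prod]
      refine Fintype.prod_equiv (Equiv.mulLeft ⟨x, Subgroup.mem_zpowers x⟩) _ _ fun u => ?_
      simp [map_mul]
    by_contra ht
    have hto : orderOf (t : G) = p := by
      rw [Subgroup.orderOf_coe]
      exact ((Nat.dvd_prime hp).mp (orderOf_dvd_of_pow_eq_one (Subtype.ext (hVp _ t.2)))).resolve_left
        (fun e => ht (orderOf_eq_one_iff.mp e))
    refine hno _ _ hto hx (Commute.symm ?_)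
    have h2 : x * (t : G) * x⁻¹ = t := by rw [← hc, h1]
    exact mul_inv_eq_iff_eq_mul.mp h2
  have hB : ∀ z : G, z ^ p = 1 → ∀ v : V, ∏ i ∈ Finset.range p, c (z ^ i) v = 1 := by
    intro z hz v
    have h : ∀ n : ℕ, ((v : G) * z) ^ n = ((∏ i ∈ Finset.range n, c (z ^ i) v : V) : G) * z ^ n := by
      intro n
      induction n with
      | zero => simp
      | succ n ih =>
        rw [pow_succ, ih, Finset.prod_range_succ, Subgroup.coe_mul, hc]
        group
    have h1 := h p
    rw [hexp z hz v v.2, hz, mul_one] at h1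
    exact Subtype.ext h1.symm
  have hyp : y ^ p = 1 := by rw [← hy, pow_orderOf_eq_one]
  have hyx' : ∀ i : ℕ, ∀ u ∈ Subgroup.zpowers x, y ^ i * u * (y ^ i)⁻¹ ∈ Subgroup.zpowers x := by
    intro i
    induction i with
    | zero => intro u hu; simpa using hu
    | succ i ih =>
      intro u hu
      have := ih _ (hyx u hu)
      convert this using 1
      rw [pow_succ]; group
  obtain ⟨⟨v, hv⟩, hv1⟩ := (Subgroup.ne_bot_iff_exists_ne_one).mp hV
  set v' : V := ⟨v, hv⟩
  have h1 : ∏ u : Subgroup.zpowers x, ∏ i ∈ Finset.range p,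
      c (((u : G) * y * (u : G)⁻¹) ^ i) v' = 1 :=
    Finset.prod_eq_one fun u _ => hB _ (by rw [conj_pow, hyp]; simp) v'
  rw [Finset.prod_comm] at h1
  rw [Finset.prod_eq_single 0] at h1
  · simp only [pow_zero, map_one, MulAut.one_apply, Finset.prod_const, Finset.card_univ] at h1
    rw [Fintype.card_eq_nat_card, Nat.card_zpowers, hx] at h1
    refine hv1 (orderOf_eq_one_iff.mp (Nat.eq_one_of_dvd_coprimes ((Nat.coprime_primes hp hq).mpr hpq)
      (orderOf_dvd_of_pow_eq_one (Subtype.ext (hVp v hv))) (orderOf_dvd_of_pow_eq_one h1)))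
  · intro i hi hi0
    have hyi : orderOf (y ^ i) = p := by
      rw [orderOf_pow' y hi0, hy]
      have : Nat.gcd p i = 1 := hp.coprime_iff_not_dvd.mpr fun h =>
        hi0 (Nat.eq_zero_of_dvd_of_lt h (Finset.mem_range.mp hi))
      rw [this, Nat.div_one]
    let f : Subgroup.zpowers x → Subgroup.zpowers x := fun u =>
      ⟨(u : G) * (y ^ i * (u : G)⁻¹ * (y ^ i)⁻¹), mul_mem u.2 (hyx' i _ (inv_mem u.2))⟩
    have hf : Function.Bijective f := by
      refine (Finite.injective_iff_bijective).mp fun u w huw => ?_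
      have h2 : (u : G) * (y ^ i * (u : G)⁻¹ * (y ^ i)⁻¹) = (w : G) * (y ^ i * (w : G)⁻¹ * (y ^ i)⁻¹) :=
        congrArg Subtype.val huw
      by_contra hne
      have ho : orderOf ((w : G)⁻¹ * u) = q := by
        refine ((Nat.dvd_prime hq).mp (hx ▸ orderOf_dvd_of_mem_zpowers
          (mul_mem (inv_mem w.2) u.2))).resolve_left fun e => hne (Subtype.ext ?_)
        exact (inv_mul_eq_one.mp (orderOf_eq_one_iff.mp e)).symm
      refine hno _ _ hyi ho (?_ : Commute _ _)
      have h3 : (u : G) * (y ^ i * (u : G)⁻¹) = (w : G) * (y ^ i * (w : G)⁻¹) := by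
        rw [← mul_left_inj (y ^ i)⁻¹, mul_assoc, mul_assoc]
        simpa [mul_assoc] using h2
      show y ^ i * ((w : G)⁻¹ * u) = (w : G)⁻¹ * u * y ^ i
      calc y ^ i * ((w : G)⁻¹ * u) = (w : G)⁻¹ * ((w : G) * (y ^ i * (w : G)⁻¹)) * u := by group
        _ = (w : G)⁻¹ * ((u : G) * (y ^ i * (u : G)⁻¹)) * u := by rw [h3]
        _ = (w : G)⁻¹ * u * y ^ i := by group
    refine Eq.trans (Fintype.prod_bijective f hf _ (fun u => c (u : G) (c (y ^ i) v')) fun u => ?_)
      (hA _)
    rw [← MulAut.mul_apply, ← map_mul, conj_pow]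
    congr 2
    simp only [f]; group
  · intro h; exact absurd (Finset.mem_range.mpr hp.pos) h

/-- The Frobenius structure, given a minimal normal `p`-subgroup. -/
lemma frob {p q : ℕ} (hp : p.Prime) (hq : q.Prime) (hq2 : q ≠ 2) (hpq : p ≠ q)
    (hqG : q ∣ Nat.card G)
    (hprimes : ∀ r : ℕ, r.Prime → r ∣ Nat.card G → r = p ∨ r = q)
    (hP2 : ∀ g : G, orderOf g ≠ p ^ 2) (hQ2 : ∀ g : G, orderOf g ≠ q ^ 2)
    (hno : ∀ g : G, orderOf g ≠ p * q)
    {V : Subgroup G} [V.Normal] (hVc : IsMulCommutative V) (hV : V ≠ ⊥)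
    (hVp : ∀ v ∈ V, v ^ p = 1) :
    ∃ C : Subgroup G, Cfsg.IsFrobeniusComplement C ∧ (Nat.card ↥C).Prime := by
  classical
  have := Fact.mk hp
  have := Fact.mk hq
  have hno' : ∀ s t : G, orderOf s = p → orderOf t = q → ¬ Commute s t := fun s t hs ht hc =>
    hno (s * t) (by rw [hc.orderOf_mul_eq_mul_orderOf_of_coprime
      (by rw [hs, ht]; exact (Nat.coprime_primes hp hq).mpr hpq), hs, ht])
  have hord : ∀ (r : ℕ), r.Prime → (∀ g : G, orderOf g ≠ r ^ 2) → ∀ (g : G) (k : ℕ),
      g ^ r ^ k = 1 → g ^ r = 1 := by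
    intro r hr hr2 g k hk
    obtain ⟨j, -, hj⟩ := (Nat.dvd_prime_pow hr).mp (orderOf_dvd_of_pow_eq_one hk)
    rcases Nat.lt_or_ge j 2 with h | h
    · exact orderOf_dvd_iff_pow_eq_one.mp (hj ▸ (by interval_cases j <;> simp))
    · exact absurd (orderOf_pow_orderOf_div (orderOf_pos g).ne' (hj ▸ pow_dvd_pow r h)) (hr2 _)
  obtain ⟨Q⟩ : Nonempty (Sylow q G) := inferInstance
  obtain ⟨n, hn⟩ := IsPGroup.iff_card.mp Q.isPGroup'
  have hn0 : n ≠ 0 := fun h0 => by
    have := Q.dvd_card_of_dvd_card hqG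
    rw [hn, h0, pow_zero] at this
    exact hq.ne_one (Nat.dvd_one.mp this)
  have hn1 : n = 1 := by
    by_contra hne
    obtain ⟨A, hA⟩ := Sylow.exists_subgroup_card_pow_prime q (n := 2) (G := G)
      ((pow_dvd_pow q (by omega : 2 ≤ n)).trans (hn ▸ Subgroup.card_subgroup_dvd_card _))
    have hAn : A ≤ Subgroup.normalizer (V : Set G) := fun a _ => by
      rw [Subgroup.normalizer_eq_top_iff.mpr ‹V.Normal›]; exact Subgroup.mem_top a
    have hfpf : ∀ a ∈ A, a ≠ 1 → V ⊓ Subgroup.centralizer {a} = ⊥ := by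
      intro a ha ha1
      rw [eq_bot_iff]
      rintro v ⟨hv, hvc⟩
      rw [Subgroup.mem_bot]
      by_contra hv1
      have hvo : orderOf v = p := ((Nat.dvd_prime hp).mp (orderOf_dvd_of_pow_eq_one (hVp v hv))).resolve_left
        (fun e => hv1 (orderOf_eq_one_iff.mp e))
      have hao : orderOf a = q := by
        have hd : orderOf a ∣ q ^ 2 := hA ▸ Subgroup.orderOf_mk a ha ▸ orderOf_dvd_natCard _
        obtain ⟨j, hj, hj'⟩ := (Nat.dvd_prime_pow hq).mp hd
        interval_cases j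
        · exact absurd (orderOf_eq_one_iff.mp (by rw [hj', pow_zero])) ha1
        · rw [hj', pow_one]
        · exact absurd hj' (hQ2 a)
      exact hno' v a hvo hao (Subgroup.mem_centralizer_singleton_iff.mp hvc)
    let _ : CommGroup V := { (inferInstance : Group V) with mul_comm := fun a b => hVc.is_comm.comm a b }
    letI := Frobenius.FPF.conjAction A V hAn
    have : Nontrivial V := (Subgroup.nontrivial_iff_ne_bot V).mpr hV
    have hcyc := Frobenius.FPF.isCyclic_of_card_prime_mul_prime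
      (Frobenius.FPF.isFPF_conjAction A V hAn hfpf) hq hq (by rw [hA, sq])
    obtain ⟨g, hg⟩ := hcyc.exists_ofOrder_eq_natCard
    exact hQ2 g (by rw [Subgroup.orderOf_coe, hg, hA])
  rw [hn1, pow_one] at hn
  obtain ⟨⟨x, hxQ⟩, hx⟩ := exists_prime_orderOf_dvd_card' (G := (Q : Subgroup G)) q hn.symm.dvd
  rw [Subgroup.orderOf_mk] at hx
  have hQx : Subgroup.zpowers x = (Q : Subgroup G) :=
    Subgroup.eq_of_le_of_card_ge (Subgroup.zpowers_le.mpr hxQ) (by rw [Nat.card_zpowers, hx]; exact hn.le)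
  have hpN : ¬ p ∣ Nat.card (Subgroup.normalizer ((Q : Subgroup G) : Set G)) := by
    intro h
    obtain ⟨⟨y, hyN⟩, hy⟩ := exists_prime_orderOf_dvd_card' p h
    rw [Subgroup.orderOf_mk] at hy
    refine no_normalizer hp hq hpq hVc hV hVp (fun z hz v hv => ?_) hno' hx hy fun u hu =>
      hQx ▸ (Subgroup.mem_normalizer_iff.mp hyN u).mp (hQx ▸ hu)
    by_cases hvz : v * z = 1
    · rw [hvz, one_pow]
    -- the order of `v * z` has no prime divisor `q`
    have hzV : QuotientGroup.mk' V (v * z) = QuotientGroup.mk' V z := by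
      rw [map_mul, show QuotientGroup.mk' V v = 1 from (QuotientGroup.eq_one_iff v).mpr hv, one_mul]
    have hzp : (v * z) ^ p ∈ V := by
      rw [← QuotientGroup.eq_one_iff, ← QuotientGroup.mk'_apply, map_pow, hzV, ← map_pow, hz, map_one]
    exact hord p hp hP2 _ 2 (by rw [pow_two, pow_mul]; exact hVp _ hzp)
  have hNQ : Subgroup.normalizer ((Q : Subgroup G) : Set G) = (Q : Subgroup G) := by
    refine (Subgroup.eq_of_le_of_card_ge Subgroup.le_normalizer ?_).symm
    set N := Subgroup.normalizer ((Q : Subgroup G) : Set G)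
    have hu := Nat.eq_prime_pow_of_unique_prime_dvd (n := Nat.card N) (p := q) Nat.card_pos.ne'
      fun {r} hr hrd => (hprimes r hr (hrd.trans (Subgroup.card_subgroup_dvd_card N))).resolve_left
        fun e => hpN (e ▸ hrd)
    refine le_trans (Nat.le_of_dvd hq.pos ?_) hn.ge
    obtain ⟨Q', hQ'⟩ := (IsPGroup.of_card hu).exists_le_sylow
    have hc : Nat.card N ∣ Nat.card Q' := Subgroup.card_dvd_of_le hQ'
    rw [Sylow.card_eq_multiplicity, ← Q.card_eq_multiplicity, hn] at hc
    exact hc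
  have hcom : Subgroup.normalizer ((Q : Subgroup G) : Set G) ≤ Subgroup.centralizer ((Q : Subgroup G) : Set G) := by
    rw [hNQ, ← hQx]
    exact Subgroup.le_centralizer _
  set K := (MonoidHom.transferSylow Q hcom).ker
  have hKc := MonoidHom.ker_transferSylow_isComplement' Q hcom
  refine ⟨Q, Frobenius.isFrobeniusComplement_of_fpf hKc ?_ (fun e => hq.ne_one ?_) ?_, hn.symm ▸ hq⟩
  · intro hK
    obtain ⟨⟨v, hv⟩, hv1⟩ := (Subgroup.ne_bot_iff_exists_ne_one).mp hV
    have hvK : v ∈ K := by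
      have h1 : (MonoidHom.transferSylow Q hcom v) ^ p = 1 := by rw [← map_pow, hVp v hv, map_one]
      have h2 : (MonoidHom.transferSylow Q hcom v) ^ q = 1 := by
        have h3 := pow_card_eq_one' (x := MonoidHom.transferSylow Q hcom v)
        rwa [hn] at h3
      exact MonoidHom.mem_ker.mpr (orderOf_eq_one_iff.mp (Nat.eq_one_of_dvd_coprimes
        ((Nat.coprime_primes hp hq).mpr hpq) (orderOf_dvd_of_pow_eq_one h1)
        (orderOf_dvd_of_pow_eq_one h2)))
    rw [show K = ⊥ from hK, Subgroup.mem_bot] at hvK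
    exact hv1 (Subtype.ext hvK)
  · rw [← hn, e, Subgroup.card_bot]
  · intro h hh h1
    rw [eq_bot_iff]
    rintro k ⟨hk, hkc⟩
    rw [Subgroup.mem_bot]
    by_contra hk1
    have hho : orderOf h = q := ((Nat.dvd_prime hq).mp (by
      rw [← hn, ← Subgroup.orderOf_mk h hh]; exact orderOf_dvd_natCard _)).resolve_left
      (fun e => h1 (orderOf_eq_one_iff.mp e))
    have hKcard : Nat.Coprime (Nat.card K) q := by
      rw [← hKc.index_eq_card]
      exact Nat.Coprime.symm (hq.coprime_iff_not_dvd.mpr Q.not_dvd_index)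
    obtain ⟨r, hr, hrd⟩ := Nat.exists_prime_and_dvd (n := orderOf k)
      (fun e => hk1 (orderOf_eq_one_iff.mp e))
    have hkK : orderOf k ∣ Nat.card K := by
      rw [← Subgroup.orderOf_mk k hk]; exact orderOf_dvd_natCard _
    have hrp : r = p := (hprimes r hr (hrd.trans (orderOf_dvd_natCard k))).resolve_right fun e =>
      hq.ne_one (Nat.eq_one_of_dvd_coprimes hKcard (e ▸ hrd.trans hkK) dvd_rfl)
    subst hrp
    refine hno' _ h (orderOf_pow_orderOf_div (orderOf_pos k).ne' hrd) hho ?_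
    exact (show Commute k h from Subgroup.mem_centralizer_singleton_iff.mp hkc).pow_left _

end


/-- Let G be a finite group of odd order in which the numbers of elements of each order that occurs (the numbers #{g : o(g) = m}, m ranging over the element orders of G) take exactly three different values. Then the order of G has at most two prime divisors; and if it has exactly two, then every Sylow subgroup of G for a prime dividing its order has prime exponent, G is a Frobenius group, and some Frobenius complement of G has prime order. -/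
theorem result {G : Type*} [Group G] [Finite G] (hodd : Odd (Nat.card G)) (h : (((fun m : ℕ => Nat.card {g : G // orderOf g = m}) '' Set.range (orderOf : G → ℕ))).ncard = 3) :
    (Nat.card G).primeFactors.card ≤ 2 ∧
      ((Nat.card G).primeFactors.card = 2 →
        (∀ (p : ℕ) [Fact p.Prime] (P : Sylow p G), p ∣ Nat.card G → Monoid.exponent ↥(P : Subgroup G) = p) ∧
        ∃ C : Subgroup G, Cfsg.IsFrobeniusComplement C ∧ (Nat.card ↥C).Prime) := by
  classical
  set V := (fun m : ℕ => Nat.card {g : G // orderOf g = m}) '' Set.range (orderOf : G → ℕ) with hV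
  have hmem : ∀ m, cnt G m ≠ 0 → cnt G m ∈ V := by
    intro m hm
    obtain ⟨g, hg⟩ := (Nat.card_ne_zero.mp hm).1
    exact ⟨m, ⟨g, hg⟩, rfl⟩
  have h1V : 1 ∈ V := ⟨1, ⟨1, orderOf_one⟩, cnt_one⟩
  obtain ⟨a, b, hab, hVe⟩ := Set.ncard_eq_two.mp
    (show (V \ {1}).ncard = 2 by rw [Set.ncard_sdiff_singleton_of_mem h1V, h])
  have hv : ∀ m, 2 < m → cnt G m = 0 ∨ cnt G m = a ∨ cnt G m = b := by
    intro m hm
    by_cases h0 : cnt G m = 0
    · exact Or.inl h0
    have h1 : cnt G m ∈ V \ {1} := ⟨hmem m h0, fun e => by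
      have := two_dvd_cnt (G := G) hm
      rw [show cnt G m = 1 from e] at this; omega⟩
    rw [hVe] at h1
    rcases h1 with h | h
    · exact Or.inr (Or.inl h)
    · exact Or.inr (Or.inr h)
  have hne2 : ∀ r : ℕ, r ∣ Nat.card G → r ≠ 2 := fun r hr e =>
    Nat.not_even_iff_odd.mpr hodd (even_iff_two_dvd.mpr (e ▸ hr))
  have hclass : ∀ p : ℕ, p.Prime → p ∣ Nat.card G → cnt G p = a ∨ cnt G p = b := fun p hp hpG =>
    (hv p (lt_of_le_of_ne hp.two_le (hne2 p hpG).symm)).resolve_left (cnt_ne_zero hp hpG)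
  have hne : ∀ p q : ℕ, p.Prime → q.Prime → p ∣ Nat.card G → q ∣ Nat.card G →
      cnt G p = cnt G q → p = q := by
    intro p q hp hq hpG hqG he
    by_contra hpq
    have hM : Nat.card {g : G // Odd (orderOf g)} ≤ Nat.card G :=
      Nat.card_le_card_of_injective _ Subtype.val_injective
    rcases hclass p hp hpG with e | e
    · exact pair hodd dvd_rfl (fun r _ _ hr => hr) hM hv hp (hne2 p hpG) hpG hq (hne2 q hqG) hqG hpq
        e (he ▸ e)
    · exact pair (a := b) (b := a) hodd dvd_rfl (fun r _ _ hr => hr) hM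
        (fun m hm => (hv m hm).imp_right Or.symm) hp (hne2 p hpG) hpG hq (hne2 q hqG) hqG hpq e (he ▸ e)
  have hle : (Nat.card G).primeFactors.card ≤ 2 := by
    refine le_trans ?_ (Finset.card_le_two (a := a) (b := b))
    refine Finset.card_le_card_of_injOn (fun r => cnt G r) (fun r hr => ?_) fun r hr s hs he => ?_
    · have := Nat.mem_primeFactors.mp hr
      simpa using hclass r this.1 this.2.1
    · have h1 := Nat.mem_primeFactors.mp hr
      have h2 := Nat.mem_primeFactors.mp hs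
      exact hne r s h1.1 h2.1 h1.2.1 h2.2.1 he
  refine ⟨hle, fun h2 => ?_⟩
  obtain ⟨p, q, hpq, hset⟩ := Finset.card_eq_two.mp h2
  have hp := Nat.mem_primeFactors.mp (show p ∈ (Nat.card G).primeFactors by rw [hset]; simp)
  have hq := Nat.mem_primeFactors.mp (show q ∈ (Nat.card G).primeFactors by rw [hset]; simp)
  have hprimes : ∀ r : ℕ, r.Prime → r ∣ Nat.card G → r = p ∨ r = q := fun r hr hrG => by
    have : r ∈ (Nat.card G).primeFactors := Nat.mem_primeFactors.mpr ⟨hr, hrG, Nat.card_pos.ne'⟩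
    rw [hset] at this; simpa using this
  have hp2 := hne2 p hp.2.1
  have hq2 := hne2 q hq.2.1
  obtain ⟨hv', hd⟩ : (∀ m, 2 < m → cnt G m = 0 ∨ cnt G m = cnt G p ∨ cnt G m = cnt G q) ∧
      cnt G p ≠ cnt G q := by
    have hd : cnt G p ≠ cnt G q := fun e => hpq (hne p q hp.1 hq.1 hp.2.1 hq.2.1 e)
    refine ⟨fun m hm => ?_, hd⟩
    rcases hclass p hp.1 hp.2.1 with e | e <;> rcases hclass q hq.1 hq.2.1 with e' | e'
    · exact absurd (e.trans e'.symm) hd
    · rw [e, e']; exact hv m hm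
    · rw [e, e']; exact (hv m hm).imp_right Or.symm
    · exact absurd (e.trans e'.symm) hd
  have hpsq := cnt_sq hv' hp.1 hp2 hp.2.1 hq.1 hq2 hq.2.1 hpq rfl rfl
  have hqsq := cnt_sq (a := cnt G q) (b := cnt G p) (fun m hm => (hv' m hm).imp_right Or.symm)
    hq.1 hq2 hq.2.1 hp.1 hp2 hp.2.1 hpq.symm rfl rfl
  have hpq0 : cnt G (p * q) = 0 := by
    rcases hv' (p * q) (by nlinarith [hp.1.two_le, hq.1.two_le]) with e | e | e
    · exact e
    · exact absurd e (pq_ne hp.1 hp2 hp.2.1 hq.1 hq2 hq.2.1 hpq rfl rfl)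
    · exact absurd (mul_comm p q ▸ e)
        (pq_ne hq.1 hq2 hq.2.1 hp.1 hp2 hp.2.1 hpq.symm rfl (rfl : cnt G p = cnt G p))
  have hnone : ∀ m : ℕ, cnt G m = 0 → ∀ g : G, orderOf g ≠ m := fun m hm g hg => by
    have : Nonempty {g : G // orderOf g = m} := ⟨⟨g, hg⟩⟩
    exact Nat.card_pos.ne' hm
  constructor
  · intro r hr P hrG
    have hsq : cnt G (r ^ 2) = 0 := by
      rcases hprimes r hr.out hrG with rfl | rfl
      · exact hpsq
      · exact hqsq
    refine (hr.out.eq_one_or_self_of_dvd _ (Monoid.exponent_dvd_of_forall_pow_eq_one fun g => ?_)).resolve_left fun e => ?_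
    · obtain ⟨j, hj⟩ := IsPGroup.iff_orderOf.mp P.isPGroup' g
      rcases Nat.lt_or_ge j 2 with h | h
      · exact orderOf_dvd_iff_pow_eq_one.mp (hj ▸ (by interval_cases j <;> simp))
      · refine absurd ?_ (hnone _ hsq ((g : G) ^ (orderOf (g : G) / r ^ 2)))
        exact orderOf_pow_orderOf_div (orderOf_pos _).ne'
          (by rw [Subgroup.orderOf_coe, hj]; exact pow_dvd_pow r h)
    · have : Subsingleton (P : Subgroup G) := ⟨fun x y => by
        have hx := Monoid.pow_exponent_eq_one x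
        have hy := Monoid.pow_exponent_eq_one y
        rw [e, pow_one] at hx hy
        rw [hx, hy]⟩
      have hd := P.dvd_card_of_dvd_card hrG
      rw [Nat.card_of_subsingleton (1 : (P : Subgroup G))] at hd
      exact hr.out.ne_one (Nat.dvd_one.mp hd)
  · have hsol : Group.IsSolvable G := solvable_two hp.1 hq.1 hprimes
    have : Nontrivial G := Finite.one_lt_card_iff_nontrivial.mp
      (lt_of_lt_of_le hp.1.one_lt (Nat.le_of_dvd Nat.card_pos hp.2.1))
    obtain ⟨N, hNn, hN1, -, hmin⟩ :=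
      MinimalNormal.exists_minimal_normal_le (M := (⊤ : Subgroup G)) inferInstance top_ne_bot
    have := hNn
    obtain ⟨hNc, r, hr, hexp⟩ := MinimalNormal.elementaryAbelian N hN1 hmin
    have hrG : r ∣ Nat.card G := by
      obtain ⟨⟨v, hv⟩, hv1⟩ := (Subgroup.ne_bot_iff_exists_ne_one).mp hN1
      rw [← ((Nat.dvd_prime hr).mp (orderOf_dvd_of_pow_eq_one (hexp v hv))).resolve_left
        (fun e => hv1 (Subtype.ext (orderOf_eq_one_iff.mp e)))]
      exact orderOf_dvd_natCard v
    rcases hprimes r hr hrG with rfl | rfl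
    · exact frob hp.1 hq.1 hq2 hpq hq.2.1 hprimes (hnone _ hpsq) (hnone _ hqsq) (hnone _ hpq0)
        hNc hN1 hexp
    · exact frob hq.1 hp.1 hp2 hpq.symm hp.2.1 (fun s hs hsG => (hprimes s hs hsG).symm) (hnone _ hqsq)
        (hnone _ hpsq) (hnone _ (mul_comm p r ▸ hpq0)) hNc hN1 hexp

end Cfsg.Agent.S4004
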