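import Cfsg.Statements.S4005
import Cfsg.Agent.Lib.Elem69.SmallElementOrders

set_option autoImplicit false
open Cfsg

namespace Cfsg.Agent.S4005

/-- A finite group whose set of element orders is exactly {1, 2, 3} has either a normal elementary abelian 3-subgroup of index 2 or a normal elementary abelian 2-subgroup of index 3. -/
theorem result {G : Type*} [Group G] [Finite G] (h : Set.range (orderOf : G → ℕ) = {k : ℕ | 1 ≤ k ∧ k ≤ 3}) :
    (∃ N : Subgroup G, N.Normal ∧ Cfsg.IsElementaryAbelian 3 N ∧ N.index = 2) ∨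
      (∃ N : Subgroup G, N.Normal ∧ Cfsg.IsElementaryAbelian 2 N ∧ N.index = 3) := by
  have hle : ∀ x : G, orderOf x ≤ 3 := fun x => (h ▸ Set.mem_range_self x : orderOf x ∈ {k : ℕ | 1 ≤ k ∧ k ≤ 3}).2
  have h4 : ∀ x : G, orderOf x ≤ 4 := fun x => (hle x).trans (by norm_num)
  have hex : ∀ k, 1 ≤ k → k ≤ 3 → ∃ x : G, orderOf x = k := fun k a b => by
    have : k ∈ Set.range (orderOf : G → ℕ) := h ▸ (⟨a, b⟩ : 1 ≤ k ∧ k ≤ 3)
    exact this
  have h22 : ∀ x : G, x ^ 4 = 1 → x ^ 2 = 1 := fun x hx => by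
    have h1 := orderOf_dvd_of_pow_eq_one hx
    have h2 := hle x
    have h0 := orderOf_pos x
    rw [← orderOf_dvd_iff_pow_eq_one]
    interval_cases orderOf x <;> omega
  haveI : Fact (Nat.Prime 2) := ⟨Nat.prime_two⟩
  obtain ⟨x3, hx3⟩ := hex 3 (by norm_num) le_rfl
  obtain ⟨x2, hx2⟩ := hex 2 (by norm_num) (by norm_num)
  haveI : Nontrivial G := ⟨⟨x3, 1, fun e => by rw [e, orderOf_one] at hx3; exact absurd hx3 (by norm_num)⟩⟩
  rcases Lib.Elem69.pCore_ne_bot_or h4 with hc | hc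
  · right
    obtain ⟨hQ, hC⟩ := Lib.Elem69.structure_two h4 ⟨x3, hx3⟩ hc
    have hNp : IsPGroup 2 (pCore 2 G) := Lib.PSolvable.pCore_isPGroup
    refine ⟨pCore 2 G, inferInstance, ⟨?_, fun a ha => h22 a (Lib.Elem69.pow_four_of_isPGroup h4 hNp ha)⟩, ?_⟩
    · refine ⟨⟨Lib.Elem69.comm_of_sq_eq_one fun a => Subtype.ext (h22 _ (Lib.Elem69.pow_four_of_isPGroup h4 hNp a.2))⟩⟩
    rcases hQ with hQ | ⟨⟨e⟩⟩
    · exact hQ
    exfalso
    obtain ⟨S⟩ : Nonempty (Sylow 2 G) := inferInstance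
    have hS2 : ∀ a ∈ (S : Subgroup G), a ^ 2 = 1 := fun a ha =>
      h22 a (Lib.Elem69.pow_four_of_isPGroup h4 S.isPGroup' ha)
    have hNS : pCore 2 G ≤ (S : Subgroup G) := Lib.PSolvable.pCore_le_sylow S
    have hSN : (S : Subgroup G) ≤ pCore 2 G := by
      refine le_trans (fun a ha => ?_) (hC 1).1
      rw [Subgroup.mem_centralizer_iff]
      intro v hv
      exact congrArg Subtype.val (Lib.Elem69.comm_of_sq_eq_one (H := (S : Subgroup G)) (fun w => Subtype.ext (hS2 w w.2)) ⟨v, hNS hv⟩ ⟨a, ha⟩)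
    refine S.not_dvd_index (dvd_trans ?_ (Subgroup.index_dvd_of_le hSN))
    rw [Subgroup.index_eq_card, Nat.card_congr e.toEquiv, Nat.card_perm, Nat.card_fin]
    norm_num [Nat.factorial]
  · left
    obtain ⟨hN, z, hz, hall⟩ := Lib.Elem69.structure_three h4 ⟨x2, hx2⟩ hc
    refine ⟨pCore 3 G, inferInstance, hN, ?_⟩
    rw [Subgroup.index_eq_card, Nat.card_eq_two_iff]
    refine ⟨1, z, hz.symm, Set.eq_univ_iff_forall.mpr fun y => ?_⟩
    obtain ⟨g, rfl⟩ := QuotientGroup.mk_surjective y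
    refine (hall _).2 ?_
    obtain ⟨h1, -⟩ := hall (g : G ⧸ pCore 3 G)
    have hd := orderOf_dvd_of_pow_eq_one h1
    have hle' := Lib.Elem69.orderOf_le_quotient h4 (pCore 3 G) (g : G ⧸ pCore 3 G)
    have hl3 : orderOf (g : G ⧸ pCore 3 G) ≤ 3 :=
      (Nat.le_of_dvd (orderOf_pos g) (orderOf_map_dvd (QuotientGroup.mk' _) g)).trans (hle g)
    have h0 := orderOf_pos (g : G ⧸ pCore 3 G)
    rw [← orderOf_dvd_iff_pow_eq_one]
    generalize orderOf (g : G ⧸ pCore 3 G) = k at *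
    interval_cases k <;> omega

end Cfsg.Agent.S4005
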