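import Cfsg.Statements.S4006
import Cfsg.Agent.Lib.Elem69.SmallElementOrders
import Cfsg.Agent.Lib.Elem69.SymThreeTop
import Cfsg.Agent.Lib.UniqueInvolution.Basic
import Cfsg.Agent.Lib.TwoGroup.Recognition
import Cfsg.Agent.Lib.SZ.Card

set_option autoImplicit false
open Cfsg

namespace Cfsg.Agent.S4006

/-- A finite group whose set of element orders is exactly {1, 2, 3, 4} has a normal subgroup N such that either N is a 2-group of exponent 4 and nilpotency class at most 2 with G/N of order 3, or N is an elementary abelian 2-group with G/N isomorphic to the symmetric group of degree 3, or N is an elementary abelian 3-group with G/N cyclic of order 4 or quaternion of order 8. -/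
theorem result {G : Type*} [Group G] [Finite G] (h : Set.range (orderOf : G → ℕ) = {k : ℕ | 1 ≤ k ∧ k ≤ 4}) :
    ∃ (N : Subgroup G) (_ : N.Normal),
      (IsPGroup 2 ↥N ∧ Monoid.exponent ↥N = 4 ∧ Group.nilpotencyClass ↥N ≤ 2 ∧ N.index = 3) ∨
      (Cfsg.IsElementaryAbelian 2 N ∧ Nonempty (G ⧸ N ≃* Equiv.Perm (Fin 3))) ∨
      (Cfsg.IsElementaryAbelian 3 N ∧ ((IsCyclic (G ⧸ N) ∧ N.index = 4) ∨ Nonempty (G ⧸ N ≃* QuaternionGroup 2))) := by
  have h4 : ∀ x : G, orderOf x ≤ 4 := fun x => (h ▸ Set.mem_range_self x : orderOf x ∈ {k : ℕ | 1 ≤ k ∧ k ≤ 4}).2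
  have hex : ∀ k, 1 ≤ k → k ≤ 4 → ∃ x : G, orderOf x = k := fun k a b => by
    have : k ∈ Set.range (orderOf : G → ℕ) := h ▸ (⟨a, b⟩ : 1 ≤ k ∧ k ≤ 4)
    exact this
  haveI : Fact (Nat.Prime 2) := ⟨Nat.prime_two⟩
  haveI : Fact (Nat.Prime 3) := ⟨Nat.prime_three⟩
  obtain ⟨x3, hx3⟩ := hex 3 (by norm_num) (by norm_num)
  obtain ⟨x2, hx2⟩ := hex 2 (by norm_num) (by norm_num)
  obtain ⟨x4, hx4⟩ := hex 4 (by norm_num) le_rfl
  haveI : Nontrivial G := ⟨⟨x3, 1, fun e => by rw [e, orderOf_one] at hx3; exact absurd hx3 (by norm_num)⟩⟩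
  rcases Lib.Elem69.pCore_ne_bot_or h4 with hc | hc
  · set N := pCore 2 G with hNdef
    obtain ⟨hQ, hC⟩ := Lib.Elem69.structure_two h4 ⟨x3, hx3⟩ hc
    have hNp : IsPGroup 2 N := Lib.PSolvable.pCore_isPGroup
    have hN4 : ∀ v ∈ N, v ^ 4 = 1 := fun v hv => Lib.Elem69.pow_four_of_isPGroup h4 hNp hv
    have hfpf : ∀ v ∈ N, Commute v x3 → v = 1 := fun v hv => (hC x3).2 hx3 v hv
    have hx33 : x3 ^ 3 = 1 := hx3 ▸ pow_orderOf_eq_one x3
    refine ⟨N, inferInstance, ?_⟩
    rcases hQ with hQ | ⟨⟨e⟩⟩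
    · left
      have h4N : x4 ∈ N := by
        rw [← QuotientGroup.eq_one_iff, ← orderOf_eq_one_iff]
        have h1 : orderOf (x4 : G ⧸ N) ∣ 4 := hx4 ▸ orderOf_map_dvd (QuotientGroup.mk' N) x4
        have h2 : orderOf (x4 : G ⧸ N) ∣ 3 := hQ ▸ (N.index_eq_card ▸ orderOf_dvd_natCard _)
        exact Nat.eq_one_of_dvd_coprimes (by norm_num) h1 h2
      refine ⟨hNp, ?_, ?_, hQ⟩
      · refine Nat.dvd_antisymm (Monoid.exponent_dvd_of_forall_pow_eq_one fun v => Subtype.ext (hN4 v v.2)) ?_
        have := Monoid.order_dvd_exponent (⟨x4, h4N⟩ : N)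
        rwa [Subgroup.orderOf_mk, hx4] at this
      · refine Lib.Elem69.class_le_two_of_fpf_three hNp (MulAut.conjNormal x3) (fun v => ?_) (fun v hv => ?_)
        · rw [← MulAut.mul_apply, ← MulAut.mul_apply, ← map_mul, ← map_mul, mul_assoc x3,
            show x3 * (x3 * x3) = 1 by rw [← mul_assoc, ← pow_two, ← pow_succ, hx33], map_one, MulAut.one_apply]
        · have h1 : x3 * (v : G) * x3⁻¹ = v := (MulAut.conjNormal_apply x3 v).symm.trans (congrArg Subtype.val hv)
          exact Subtype.ext (hfpf v v.2 (mul_inv_eq_iff_eq_mul.mp h1).symm)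
    · right; left
      refine ⟨?_, ⟨e⟩⟩
      obtain ⟨σ, hσ⟩ : ∃ σ : G ⧸ N, σ ≠ 1 ∧ σ ^ 2 = 1 := by
        refine ⟨e.symm (Equiv.swap 0 1), fun h1 => ?_, by rw [← map_pow, pow_two, Equiv.swap_mul_self, map_one]⟩
        have h2 := congrArg e h1
        rw [e.apply_symm_apply, map_one, Equiv.swap_eq_one_iff] at h2
        exact absurd h2 (by decide)
      obtain ⟨g, rfl⟩ := QuotientGroup.mk_surjective σ
      set L := Subgroup.zpowers x3 ⊔ N with hL
      have hx3N : x3 ∉ N := fun hmem => by
        have := hN4 x3 hmem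
        rw [← orderOf_dvd_iff_pow_eq_one, hx3] at this
        exact absurd this (by norm_num)
      have hmem : ∀ y, y ∈ L ↔ (y : G ⧸ N) ∈ Subgroup.zpowers (x3 : G ⧸ N) := by
        intro y
        have h1 : L = (Subgroup.zpowers (x3 : G ⧸ N)).comap (QuotientGroup.mk' N) := by
          rw [← QuotientGroup.mk'_apply, ← MonoidHom.map_zpowers, Subgroup.comap_map_eq, QuotientGroup.ker_mk']
        rw [h1]; rfl
      have hq3 : orderOf (x3 : G ⧸ N) = 3 := orderOf_eq_prime (by rw [← QuotientGroup.mk_pow, hx33]; rfl)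
        (fun e1 => hx3N ((QuotientGroup.eq_one_iff x3).mp e1))
      haveI hLn : L.Normal := by
        have hidx : (Subgroup.zpowers (x3 : G ⧸ N)).index = 2 := by
          have h1 := (Subgroup.zpowers (x3 : G ⧸ N)).card_mul_index
          rw [Nat.card_zpowers, hq3, Nat.card_congr e.toEquiv, Nat.card_perm, Nat.card_fin,
            show Nat.factorial 3 = 6 from rfl] at h1
          omega
        have hn := Subgroup.normal_of_index_eq_two hidx
        exact ⟨fun y hy a => (hmem _).mpr (by
          rw [QuotientGroup.mk_mul, QuotientGroup.mk_mul, QuotientGroup.mk_inv]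
          exact hn.conj_mem _ ((hmem y).mp hy) _)⟩
      -- `⟨x3⟩` is a Sylow subgroup of `L`
      have hx3L : x3 ∈ L := Subgroup.mem_sup_left (Subgroup.mem_zpowers x3)
      have hconj : ∀ y ∈ L, orderOf y = 3 → ∃ b ∈ L, ∃ i : ℤ, y = b * x3 ^ i * b⁻¹ := by
        intro y hy hyo
        have hR : IsPGroup 3 ((Subgroup.zpowers x3).subgroupOf L) :=
          (IsPGroup.of_card (n := 1) (by rw [Nat.card_zpowers, hx3, pow_one])).of_equiv
            (Subgroup.subgroupOfEquivOfLe le_sup_left).symm
        have hidx : ¬ 3 ∣ ((Subgroup.zpowers x3).subgroupOf L).index := by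
          intro h3d
          have h1 : ((Subgroup.zpowers x3).subgroupOf L).index ∣ Nat.card N := by
            have h5 := Lib.SZ.card_sup_mul_card_inf (Subgroup.zpowers x3) N
            have h6 := ((Subgroup.zpowers x3).subgroupOf L).card_mul_index
            rw [Nat.card_congr (Subgroup.subgroupOfEquivOfLe (le_sup_left : Subgroup.zpowers x3 ≤ L)).toEquiv] at h6
            rw [← hL, ← h6, mul_assoc] at h5
            exact ⟨_, (Nat.eq_of_mul_eq_mul_left Nat.card_pos h5).symm⟩
          obtain ⟨k, hk⟩ := IsPGroup.iff_card.mp hNp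
          have := (Nat.Prime.dvd_of_dvd_pow Nat.prime_three (h3d.trans (hk ▸ h1)))
          norm_num at this
        let R : Sylow 3 L := hR.toSylow hidx
        have hy3 : IsPGroup 3 (Subgroup.zpowers (⟨y, hy⟩ : L)) :=
          IsPGroup.of_card (n := 1) (by rw [Nat.card_zpowers, Subgroup.orderOf_mk, hyo, pow_one])
        obtain ⟨T, hT⟩ := hy3.exists_le_sylow
        obtain ⟨b, hb⟩ := MulAction.exists_smul_eq L R T
        have h1 := hT (Subgroup.mem_zpowers _)
        rw [← hb, Sylow.coe_subgroup_smul] at h1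
        obtain ⟨r, hr, hre⟩ := Subgroup.mem_smul_pointwise_iff_exists _ _ _ |>.mp h1
        rw [IsPGroup.toSylow_coe, Subgroup.mem_subgroupOf] at hr
        obtain ⟨i, hi : x3 ^ i = (r : G)⟩ := hr
        refine ⟨b, b.2, i, ?_⟩
        rw [hi]
        exact (congrArg Subtype.val hre).symm
      obtain ⟨b, hb, i, hbi⟩ := hconj (g * x3 * g⁻¹) (hLn.conj_mem x3 hx3L g)
        (by rw [← MulAut.conj_apply, MulEquiv.orderOf_eq]; exact hx3)
      set a := b⁻¹ * g with ha
      have hax : a * x3 * a⁻¹ = x3 ^ i := by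
        calc a * x3 * a⁻¹ = b⁻¹ * (g * x3 * g⁻¹) * b := by rw [ha]; group
          _ = x3 ^ i := by rw [hbi]; group
      have haL : a ∉ L := fun hmem' => by
        have hgL : g ∈ L := by
          have := mul_mem hb hmem'
          rwa [ha, mul_inv_cancel_left] at this
        have h1 := Subgroup.orderOf_dvd_natCard (Subgroup.zpowers (x3 : G ⧸ N)) ((hmem g).mp hgL)
        rw [Nat.card_zpowers, hq3] at h1
        exact hσ.1 (orderOf_eq_one_iff.mp (Nat.eq_one_of_dvd_coprimes (by norm_num : Nat.Coprime 3 2) h1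
          (orderOf_dvd_of_pow_eq_one hσ.2)))
      -- reduce `i` modulo three
      have hax' : a * x3 * a⁻¹ = x3 ∨ a * x3 * a⁻¹ = x3⁻¹ := by
        have hm := zpow_mod_orderOf x3 i
        rw [hx3] at hm
        rw [hax, ← hm]
        rcases (by omega : i % ((3 : ℕ) : ℤ) = 0 ∨ i % ((3 : ℕ) : ℤ) = 1 ∨ i % ((3 : ℕ) : ℤ) = 2) with e1 | e1 | e1 <;> rw [e1]
        · exfalso
          rw [← hm, e1, zpow_zero, mul_inv_eq_one] at hax
          rw [mul_eq_left.mp hax, orderOf_one] at hx3
          norm_num at hx3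
        · left; rw [zpow_one]
        · right
          rw [eq_inv_iff_mul_eq_one, ← zpow_add_one, show (2 : ℤ) + 1 = ((3 : ℕ) : ℤ) by norm_num, zpow_natCast, hx33]
      -- `a` has two-power order
      have ha4 : a ^ 4 = 1 := by
        rcases Lib.Elem69.pow_cases h4 a with h3 | h4'
        · exfalso
          apply haL
          rw [hmem]
          have hq := Subgroup.index_eq_card (Subgroup.zpowers (x3 : G ⧸ N))
          have hidx : (Subgroup.zpowers (x3 : G ⧸ N)).index = 2 := by
            have h1 := (Subgroup.zpowers (x3 : G ⧸ N)).card_mul_index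
            rw [Nat.card_zpowers, hq3, Nat.card_congr e.toEquiv, Nat.card_perm, Nat.card_fin,
              show Nat.factorial 3 = 6 from rfl] at h1
            omega
          have h2 := Subgroup.sq_mem_of_index_two hidx (a : G ⧸ N)
          rw [show (a : G ⧸ N) = ((a : G ⧸ N) ^ 2)⁻¹ by
            rw [eq_inv_iff_mul_eq_one, ← pow_succ', ← QuotientGroup.mk_pow, h3, QuotientGroup.mk_one]]
          exact inv_mem h2
        · exact h4'
      have hinv : a * x3 * a⁻¹ = x3⁻¹ := by
        refine hax'.resolve_left fun h1 => ?_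
        rcases Lib.Elem69.eq_one_of_commute h4 (show Commute a x3 from mul_inv_eq_iff_eq_mul.mp h1) ha4 hx33 with h5 | h5
        · exact haL (h5 ▸ one_mem L)
        · exact hx3N (h5 ▸ one_mem N)
      have ha2 : a * a = 1 := by
        have hc2 : Commute (a * a) x3 := by
          have h5 : a * x3⁻¹ * a⁻¹ = x3 := by
            calc a * x3⁻¹ * a⁻¹ = (a * x3 * a⁻¹)⁻¹ := by group
              _ = x3 := by rw [hinv, inv_inv]
          have h6 : a * a * x3 * (a * a)⁻¹ = x3 := by
            calc a * a * x3 * (a * a)⁻¹ = a * (a * x3 * a⁻¹) * a⁻¹ := by group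
              _ = x3 := by rw [hinv, h5]
          exact mul_inv_eq_iff_eq_mul.mp h6
        exact (Lib.Elem69.eq_one_of_commute h4 hc2 (by rw [← pow_two, ← pow_mul, mul_comm, pow_mul, ha4, one_pow]) hx33).resolve_right
          (fun h5 => hx3N (h5 ▸ one_mem N))
      have hsq := Lib.Elem69.sq_eq_one_of_symThree hNp hx33 ha2 hinv hfpf hN4 (fun v hv j => by
        rcases Lib.Elem69.pow_cases h4 (v * (x3 ^ j * a)) with h3 | h4'
        · exfalso
          apply haL
          have hw : v * (x3 ^ j * a) ∈ L := by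
            rw [hmem]
            have hidx : (Subgroup.zpowers (x3 : G ⧸ N)).index = 2 := by
              have h1 := (Subgroup.zpowers (x3 : G ⧸ N)).card_mul_index
              rw [Nat.card_zpowers, hq3, Nat.card_congr e.toEquiv, Nat.card_perm, Nat.card_fin,
                show Nat.factorial 3 = 6 from rfl] at h1
              omega
            have h2 := Subgroup.sq_mem_of_index_two hidx ((v * (x3 ^ j * a) : G) : G ⧸ N)
            rw [show ((v * (x3 ^ j * a) : G) : G ⧸ N) = (((v * (x3 ^ j * a) : G) : G ⧸ N) ^ 2)⁻¹ by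
              rw [eq_inv_iff_mul_eq_one, ← pow_succ', ← QuotientGroup.mk_pow, h3, QuotientGroup.mk_one]]
            exact inv_mem h2
          have := mul_mem (inv_mem (pow_mem hx3L j)) (mul_mem (inv_mem (Subgroup.mem_sup_right hv : v ∈ L)) hw)
          rwa [inv_mul_cancel_left, inv_mul_cancel_left] at this
        · exact h4')
      exact ⟨⟨⟨Lib.Elem69.comm_of_sq_eq_one fun v => Subtype.ext (hsq v v.2)⟩⟩, hsq⟩
  · refine ⟨pCore 3 G, inferInstance, Or.inr (Or.inr ⟨(Lib.Elem69.structure_three h4 ⟨x2, hx2⟩ hc).1, ?_⟩)⟩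
    obtain ⟨hN, z, hz, hall⟩ := Lib.Elem69.structure_three h4 ⟨x2, hx2⟩ hc
    let Q := G ⧸ pCore 3 G
    have hP : IsPGroup 2 Q := fun y => ⟨2, (hall y).1⟩
    have hu : ∀ a b : Q, orderOf a = 2 → orderOf b = 2 → a = b := by
      intro a b ha hb
      have key : ∀ c : Q, orderOf c = 2 → c = z := fun c hc' =>
        ((hall c).2 (hc' ▸ pow_orderOf_eq_one c)).resolve_left fun e => by rw [e, orderOf_one] at hc'; norm_num at hc'
      rw [key a ha, key b hb]
    have h4Q : ∀ y : Q, orderOf y ∣ 4 := fun y => orderOf_dvd_of_pow_eq_one (hall y).1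
    obtain ⟨g4, hg4⟩ : ∃ y : Q, orderOf y = 4 := by
      refine ⟨(x4 : Q), ?_⟩
      have h1 : orderOf (x4 : Q) ∣ 4 := h4Q _
      have h2 : ¬ orderOf (x4 : Q) ∣ 2 := by
        intro h2
        rw [orderOf_dvd_iff_pow_eq_one, ← QuotientGroup.mk_pow, QuotientGroup.eq_one_iff] at h2
        have h5 := hN.2 _ h2
        have h6 : x4 ^ 6 = 1 := by rw [show (6 : ℕ) = 2 * 3 from rfl, pow_mul]; exact h5
        have := orderOf_dvd_of_pow_eq_one h6
        rw [hx4] at this
        norm_num at this
      have h3 := Nat.le_of_dvd (by norm_num) h1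
      have h0 := orderOf_pos (x4 : Q)
      interval_cases orderOf (x4 : Q) <;> omega
    by_cases hab : IsMulCommutative Q
    · left
      have htop : Subgroup.zpowers g4 = ⊤ := by
        rw [eq_top_iff]
        intro y _
        have hc' : Commute g4 y := hab.is_comm.comm g4 y
        by_cases hy : y ^ 2 = 1
        · rcases (hall y).2 hy with h1 | h1
          · rw [h1]; exact one_mem _
          · rw [h1, ← hu (g4 ^ 2) z (by rw [orderOf_pow_of_dvd two_ne_zero (by rw [hg4]; norm_num), hg4])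
              (orderOf_eq_prime (h1 ▸ hy) hz)]
            exact pow_mem (Subgroup.mem_zpowers g4) 2
        · have e2 : y ^ 2 = g4 ^ 2 := by
            refine hu _ _ (orderOf_eq_prime (by rw [← pow_mul]; exact (hall y).1) hy) ?_
            rw [orderOf_pow_of_dvd two_ne_zero (by rw [hg4]; norm_num), hg4]
          have e3 : (g4⁻¹ * y) ^ 2 = 1 := by rw [hc'.inv_left.mul_pow, e2, inv_pow, inv_mul_cancel]
          rcases (hall _).2 e3 with h1 | h1
          · rw [inv_mul_eq_one.mp h1 |>.symm]; exact Subgroup.mem_zpowers g4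
          · have h7 : g4 ^ 2 = z := hu (g4 ^ 2) z (by rw [orderOf_pow_of_dvd two_ne_zero (by rw [hg4]; norm_num), hg4])
              (orderOf_eq_prime (h1 ▸ e3) hz)
            rw [show y = g4 * (g4⁻¹ * y) by group, h1, ← h7]
            exact mul_mem (Subgroup.mem_zpowers g4) (pow_mem (Subgroup.mem_zpowers g4) 2)
      refine ⟨isCyclic_iff_exists_zpowers_eq_top.mpr ⟨g4, htop⟩, ?_⟩
      rw [Subgroup.index_eq_card, ← Subgroup.card_top, ← htop, Nat.card_zpowers, hg4]
    · right
      obtain ⟨m, a, hm, ha, hidx, hout⟩ := Lib.UniqueInvolution.exists_quaternion_gen hP hu hab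
      have hm2 : m = 2 := by
        have h1 := Nat.le_of_dvd (by norm_num) (ha ▸ h4Q a)
        rw [show (4 : ℕ) = 2 ^ 2 from rfl] at h1
        have := (Nat.pow_le_pow_iff_right one_lt_two).mp h1
        omega
      subst hm2
      obtain ⟨b, hb⟩ : ∃ b, b ∉ Subgroup.zpowers a := by
        by_contra hcon
        push Not at hcon
        rw [(eq_top_iff.mpr fun y _ => hcon y : Subgroup.zpowers a = ⊤), Subgroup.index_top] at hidx
        norm_num at hidx
      obtain ⟨hba, hbb⟩ := hout b hb
      obtain ⟨e⟩ := Lib.TwoGroup.nonempty_mulEquiv_quaternion (m := 2) (by rw [ha]; norm_num) hbb hba hb ⊤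
        trivial trivial (fun y _ => by
          by_cases hy : y ∈ Subgroup.zpowers a
          · exact Or.inl hy
          · right
            rw [Subgroup.mul_mem_iff_of_index_two hidx]
            exact iff_of_false hb hy)
      exact ⟨Subgroup.topEquiv.symm.trans e⟩

end Cfsg.Agent.S4006
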