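import Cfsg.Statements.S4010
import Mathlib
import Cfsg.Agent.Lib.Elem69.LinearPGroup
import Cfsg.Agent.Lib.Elem69.UnipotentPGroup


set_option autoImplicit false
open Cfsg

namespace Cfsg.Agent.S4010

/-- Let F be a field, n ≥ 1, and P a finite p-group (p a prime) admitting an injective homomorphism into the general linear group of degree n over F. Then the derived length of P is at most ⌊log₂ n⌋ + 1: that term of the derived series of P is trivial. -/
theorem result {P : Type*} [Group P] [Finite P] (p : ℕ) [Fact p.Prime] (hP : IsPGroup p P) (F : Type*) [Field F] (n : ℕ) (hn : 1 ≤ n) (ρ : P →* Matrix.GeneralLinearGroup (Fin n) F) (hρ : Function.Injective ρ) : derivedSeries P (Nat.log 2 n + 1) = ⊥ := by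
  have hpp : p.Prime := Fact.out
  by_cases hpF : (p : F) = 0
  · haveI : CharP F p := by
      obtain ⟨q, hq⟩ := CharP.exists F
      have hd : q ∣ p := (CharP.cast_eq_zero_iff F q p).mp hpF
      rcases (Nat.dvd_prime hpp).mp hd with h | h
      · exact absurd h (CharP.char_ne_one F q)
      · rwa [← h]
    let σ : P →* Module.End F (Fin n → F) :=
      ((Matrix.toLinAlgEquiv' : Matrix (Fin n) (Fin n) F ≃ₐ[F] _).toMulEquiv.toMonoidHom).comp
        ((Units.coeHom _).comp ρ)
    have hσ : Function.Injective σ :=
      (Matrix.toLinAlgEquiv' : Matrix (Fin n) (Fin n) F ≃ₐ[F] _).injective.comp (Units.val_injective.comp hρ)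
    refine Cfsg.Agent.Lib.Elem69.derivedSeries_eq_bot_of_charP hP σ hσ ?_
    rw [Module.finrank_fin_fun]
    exact (Nat.lt_pow_succ_log_self one_lt_two n).le
  · let K := AlgebraicClosure F
    let i : F →+* K := algebraMap F K
    let σ : P →* Module.End K (Fin n → K) :=
      ((Matrix.toLinAlgEquiv' : Matrix (Fin n) (Fin n) K ≃ₐ[K] _).toMulEquiv.toMonoidHom).comp
        ((i.mapMatrix.toMonoidHom).comp ((Units.coeHom _).comp ρ))
    have hσ : Function.Injective σ :=
      (Matrix.toLinAlgEquiv' : Matrix (Fin n) (Fin n) K ≃ₐ[K] _).injective.comp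
        ((Matrix.map_injective i.injective).comp (Units.val_injective.comp hρ))
    have hpK : (p : K) ≠ 0 := by
      rw [← map_natCast i]; exact (map_ne_zero i).mpr hpF
    refine Cfsg.Agent.Lib.Elem69.derivedSeries_eq_bot_of_coprime_char hP hpK σ hσ ?_
    rw [Module.finrank_fin_fun]
    exact (Nat.lt_pow_succ_log_self one_lt_two n).trans_le (Nat.pow_le_pow_left hpp.two_le _)

end Cfsg.Agent.S4010
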