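import Cfsg.Statements.S4013
import Mathlib
-- import your own Cfsg.Agent.* helpers here

set_option autoImplicit false
open Cfsg

namespace Cfsg.Agent.S4013

/-- Let G be a finite p-group (p prime) and N < M normal subgroups of G such that for some g ∈ M ∖ N the conjugacy class of g is exactly M ∖ N. Then p = 2 and N has index 2 in M. -/
theorem result {G : Type*} [Group G] [Finite G] (p : ℕ) [Fact p.Prime] (hG : IsPGroup p G) (N M : Subgroup G) [N.Normal] [M.Normal] (hNM : N < M) (g : G) (hgM : g ∈ M) (hgN : g ∉ N) (hcl : {h : G | IsConj g h} = (M : Set G) \ (N : Set G)) : p = 2 ∧ N.relIndex M = 2 := by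
  classical
  have hp : p.Prime := Fact.out
  have hS : Nat.card {h : G | IsConj g h} + Nat.card N = Nat.card M := by
    rw [hcl, Nat.card_coe_set_eq]
    exact Set.ncard_sdiff_add_ncard_of_subset (show (N : Set G) ⊆ M from hNM.le) (Set.toFinite _)
  have hdvd : Nat.card {h : G | IsConj g h} ∣ Nat.card G := by
    have e : {h : G | IsConj g h} = MulAction.orbit (ConjAct G) g := by
      ext h; exact (ConjAct.mem_orbit_conjAct.trans isConj_comm).symm
    rw [e]
    have := MulAction.index_stabilizer (ConjAct G) g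
    rw [Nat.card_coe_set_eq, ← this]
    exact Subgroup.index_dvd_card _
  obtain ⟨n, hn⟩ := hG.exists_card_eq
  obtain ⟨a, -, ha⟩ := (Nat.dvd_prime_pow hp).mp (hn ▸ hdvd)
  obtain ⟨r, -, hr⟩ := (Nat.dvd_prime_pow hp).mp (hn ▸ (Subgroup.relIndex_dvd_card N M).trans M.card_subgroup_dvd_card)
  obtain ⟨b, -, hb⟩ := (Nat.dvd_prime_pow hp).mp (hn ▸ N.card_subgroup_dvd_card)
  have hMN : Nat.card N * N.relIndex M = Nat.card M := by
    rw [← Subgroup.relIndex_bot_left, ← Subgroup.relIndex_bot_left]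
    exact Subgroup.relIndex_mul_relIndex ⊥ N M bot_le hNM.le
  rw [ha, ← hMN, hr, hb, ← pow_add] at hS
  have hr0 : r ≠ 0 := by
    rintro rfl
    rw [Nat.add_zero] at hS
    have := Nat.pow_pos (n := a) hp.pos
    omega
  rw [hr]
  -- p^a + p^b = p^(b+r)
  have hab : a = b := by
    rcases Nat.lt_trichotomy a b with h | h | h
    · exfalso
      have h1 : p ^ (a + 1) ∣ p ^ b := pow_dvd_pow p (by omega)
      have h2 : p ^ (a + 1) ∣ p ^ (b + r) := pow_dvd_pow p (by omega)
      rw [← hS] at h2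
      exact Nat.not_succ_le_self a ((Nat.pow_dvd_pow_iff_le_right hp.one_lt).mp ((Nat.dvd_add_left h1).mp h2))
    · exact h
    · exfalso
      have h1 : p ^ (b + 1) ∣ p ^ a := pow_dvd_pow p (by omega)
      have h2 : p ^ (b + 1) ∣ p ^ (b + r) := pow_dvd_pow p (by omega)
      rw [← hS] at h2
      exact Nat.not_succ_le_self b ((Nat.pow_dvd_pow_iff_le_right hp.one_lt).mp ((Nat.dvd_add_right h1).mp h2))
  subst hab
  rw [pow_add, ← mul_two] at hS
  have h2 : 2 = p ^ r := Nat.eq_of_mul_eq_mul_left (Nat.pow_pos hp.pos) hS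
  have h2' : p = 2 := (Nat.prime_dvd_prime_iff_eq hp Nat.prime_two).mp (h2 ▸ dvd_pow_self p hr0)
  exact ⟨h2', h2.symm⟩

end Cfsg.Agent.S4013
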