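import Cfsg.Statements.S4014
import Mathlib
import Cfsg.Agent.Lib.Elem69.DerivedLength


set_option autoImplicit false
open Cfsg

namespace Cfsg.Agent.S4014

/-- Let p be a prime, n ≥ 1, and P a Sylow p-subgroup of the symmetric group on n letters. Then the derived length of P is exactly k = ⌊log_p n⌋ (the largest k with p^k ≤ n): the k-th derived subgroup of P is trivial and, when k ≥ 1, the (k−1)-st is not. -/
theorem result (p : ℕ) [Fact p.Prime] (n : ℕ) (hn : 1 ≤ n) (P : Sylow p (Equiv.Perm (Fin n))) : derivedSeries ↥(P : Subgroup (Equiv.Perm (Fin n))) (Nat.log p n) = ⊥ ∧ (1 ≤ Nat.log p n → derivedSeries ↥(P : Subgroup (Equiv.Perm (Fin n))) (Nat.log p n - 1) ≠ ⊥) := by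
  classical
  have hp : p.Prime := Fact.out
  constructor
  · refine Cfsg.Agent.Lib.Elem69.derivedSeries_eq_bot_of_orbits (α := Fin n) P.isPGroup' fun x => ?_
    calc (MulAction.orbit (P : Subgroup (Equiv.Perm (Fin n))) x).ncard ≤ (Set.univ : Set (Fin n)).ncard :=
          Set.ncard_le_ncard (Set.subset_univ _)
      _ = n := by rw [Set.ncard_univ, Nat.card_fin]
      _ < p ^ (Nat.log p n + 1) := Nat.lt_pow_succ_log_self hp.one_lt n
  · intro hm
    obtain ⟨j, hj⟩ : ∃ j, Nat.log p n = j + 1 := ⟨Nat.log p n - 1, by omega⟩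
    rw [hj, Nat.add_sub_cancel]
    let C := Multiplicative (ZMod p)
    have hle : Nat.card (Fin (j + 1) → C) ≤ Nat.card (Fin n) := by
      rw [Nat.card_fun, Nat.card_fin, Nat.card_fin, Nat.card_congr Multiplicative.toAdd, Nat.card_zmod, ← hj]
      exact Nat.pow_log_le_self p (by omega)
    have hle' : Fintype.card (Fin (j + 1) → C) ≤ Fintype.card (Fin n) := by
      rwa [← Nat.card_eq_fintype_card, ← Nat.card_eq_fintype_card]
    obtain ⟨ι⟩ := Function.Embedding.nonempty_of_card_le hle'
    let f : IteratedWreathProduct C (j + 1) →* Equiv.Perm (Fin n) :=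
      (Equiv.Perm.viaEmbeddingHom ι).comp (iteratedWreathToPermHom C (j + 1))
    have hf : Function.Injective f :=
      (Equiv.Perm.viaEmbeddingHom_injective ι).comp (iteratedWreathToPermHomInj C (j + 1))
    have hD : IsPGroup p (IteratedWreathProduct C (j + 1)) := IsPGroup.of_card (by
      rw [IteratedWreathProduct.card, Nat.card_congr Multiplicative.toAdd, Nat.card_zmod])
    exact Cfsg.Agent.Lib.Elem69.derivedSeries_sylow_ne_bot f hf hD
      (Cfsg.Agent.Lib.Elem69.derivedSeries_iterated_ne_bot C j) P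

end Cfsg.Agent.S4014
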