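import Cfsg.Statements.S4015
import Mathlib
import Cfsg.Agent.Lib.Elem69.FrobeniusWeights
import Cfsg.Agent.Lib.Elem69.LinearWreath


set_option autoImplicit false
open Cfsg

namespace Cfsg.Agent.S4015

universe u

/-- `GL(n, F)` contains a `p`-group of derived length exceeding `j` once `n ≥ ord_p(q) p ^ j`. -/
lemma exists_pGroup {F : Type u} [Field F] [Fintype F] {p : ℕ} [Fact p.Prime] {q : ℕ}
    (hq : Fintype.card F = q) (hpq : ¬ p ∣ q) {n j : ℕ} (hn : orderOf (q : ZMod p) * p ^ j ≤ n) :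
    ∃ (D : Type u) (_ : Group D) (f : D →* Matrix.GeneralLinearGroup (Fin n) F),
      Function.Injective f ∧ IsPGroup p D ∧ derivedSeries D j ≠ ⊥ := by
  classical
  have hpp : p.Prime := Fact.out
  set e := orderOf (q : ZMod p) with he
  have hq0 : (q : ZMod p) ≠ 0 := fun h => hpq ((ZMod.natCast_eq_zero_iff q p).mp h)
  have hepos : 0 < e := Nat.pos_of_dvd_of_pos
    (orderOf_dvd_of_pow_eq_one (ZMod.pow_card_sub_one_eq_one hq0)) (by have := hpp.two_le; omega)
  have hd : p ∣ Nat.card (Matrix.GeneralLinearGroup (Fin e) F) := by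
    rw [Matrix.card_GL_field, hq]
    refine dvd_trans ?_ (Finset.dvd_prod_of_mem _ (Finset.mem_univ (⟨0, hepos⟩ : Fin e)))
    rw [← ZMod.natCast_eq_zero_iff, Nat.cast_sub, Nat.cast_pow, pow_zero, Nat.cast_one,
      pow_orderOf_eq_one, sub_self]
    exact Nat.pow_le_pow_right (hq ▸ Fintype.card_pos) (Nat.zero_le e)
  obtain ⟨u, hu⟩ := exists_prime_orderOf_dvd_card' p hd
  let f₀ : Subgroup.zpowers u →* Module.End F (Fin e → F) :=
    ((Matrix.toLinAlgEquiv' : Matrix (Fin e) (Fin e) F ≃ₐ[F] _).toMulEquiv.toMonoidHom).comp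
      ((Units.coeHom _).comp (Subgroup.zpowers u).subtype)
  have hf₀ : Function.Injective f₀ :=
    (Matrix.toLinAlgEquiv' : Matrix (Fin e) (Fin e) F ≃ₐ[F] _).injective.comp
      (Units.val_injective.comp Subtype.val_injective)
  have hne : derivedSeries (Subgroup.zpowers u) 0 ≠ ⊥ := by
    rw [derivedSeries_zero]
    intro h
    have h1 : (⟨u, Subgroup.mem_zpowers u⟩ : Subgroup.zpowers u) ∈ (⊤ : Subgroup (Subgroup.zpowers u)) :=
      Subgroup.mem_top _
    rw [h, Subgroup.mem_bot, Subtype.ext_iff, OneMemClass.coe_one] at h1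
    have hu1 : orderOf u = 1 := orderOf_eq_one_iff.mpr h1
    rw [hu] at hu1
    exact hpp.one_lt.ne' hu1
  obtain ⟨D, _, _, f, hf, hD, hder⟩ := Cfsg.Agent.Lib.Elem69.exists_wreath_rep hepos
    (Subgroup.zpowers u) f₀ hf₀ (IsPGroup.of_card (n := 1) (by rw [Nat.card_zpowers, hu, pow_one])) hne j
  obtain ⟨r, hr⟩ := Nat.exists_eq_add_of_le hn
  subst hr
  let E : ((Fin (e * p ^ j) → F) × (Fin r → F)) ≃ₗ[F] (Fin (e * p ^ j + r) → F) :=
    (LinearEquiv.sumArrowLequivProdArrow (Fin (e * p ^ j)) (Fin r) F F).symm.trans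
      (LinearEquiv.funCongrLeft F F finSumFinEquiv.symm)
  let g₁ := Cfsg.Agent.Lib.Elem69.conjEnd E (Cfsg.Agent.Lib.Elem69.extendEnd (r := r) f)
  have hg₁ : Function.Injective g₁ := by
    refine Cfsg.Agent.Lib.Elem69.conjEnd_injective E fun a b h => hf ?_
    apply LinearMap.ext
    intro v
    exact congrArg Prod.fst (LinearMap.congr_fun h (LinearMap.inl F _ _ v))
  let g : D →* Matrix.GeneralLinearGroup (Fin (e * p ^ j + r)) F :=
    (((LinearMap.toMatrixAlgEquiv' :
        Module.End F (Fin (e * p ^ j + r) → F) ≃ₐ[F] _).toMulEquiv.toMonoidHom).comp g₁).toHomUnits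
  refine ⟨D, inferInstance, g, fun a b h => hg₁ ?_, hD, hder⟩
  exact (LinearMap.toMatrixAlgEquiv' : Module.End F (Fin (e * p ^ j + r) → F) ≃ₐ[F] _).injective
    (congrArg Units.val h)

/-- Let p be an odd prime, F a finite field with q elements where p does not divide q, and e the multiplicative order of q modulo p. Let n ≥ e and write w = ⌊n/e⌋ and k = ⌊log_p w⌋. Then a Sylow p-subgroup of GL(n, F) has derived length exactly k + 1: its (k+1)-st derived subgroup is trivial and its k-th is not. -/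
theorem result (p : ℕ) [Fact p.Prime] (hp : p ≠ 2) (F : Type*) [Field F] [Fintype F] (q : ℕ) (hq : Fintype.card F = q) (hpq : ¬ p ∣ q) (n : ℕ) (hn : orderOf (q : ZMod p) ≤ n) (P : Sylow p (Matrix.GeneralLinearGroup (Fin n) F)) : derivedSeries ↥(P : Subgroup (Matrix.GeneralLinearGroup (Fin n) F)) (Nat.log p (n / orderOf (q : ZMod p)) + 1) = ⊥ ∧ derivedSeries ↥(P : Subgroup (Matrix.GeneralLinearGroup (Fin n) F)) (Nat.log p (n / orderOf (q : ZMod p))) ≠ ⊥ := by
  have hpp : p.Prime := Fact.out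
  set e := orderOf (q : ZMod p) with he
  have hq0 : (q : ZMod p) ≠ 0 := fun h => hpq ((ZMod.natCast_eq_zero_iff q p).mp h)
  have hepos : 0 < e := Nat.pos_of_dvd_of_pos
    (orderOf_dvd_of_pow_eq_one (ZMod.pow_card_sub_one_eq_one hq0)) (by have := hpp.two_le; omega)
  refine ⟨Cfsg.Agent.Lib.Elem69.derivedSeries_eq_bot_finiteField P.isPGroup' hq hpq
    (P : Subgroup (Matrix.GeneralLinearGroup (Fin n) F)).subtype Subtype.val_injective ?_, ?_⟩
  · exact Nat.lt_pow_succ_log_self hpp.one_lt _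
  · have hw : n / e ≠ 0 := (Nat.div_pos hn hepos).ne'
    have hle : e * p ^ Nat.log p (n / e) ≤ n :=
      (Nat.mul_le_mul_left e (Nat.pow_log_le_self p hw)).trans (Nat.mul_div_le n e)
    obtain ⟨D, _, f, hf, hD, hd⟩ := exists_pGroup hq hpq hle
    exact Cfsg.Agent.Lib.Elem69.derivedSeries_sylow_ne_bot f hf hD hd P

end Cfsg.Agent.S4015
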