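import Cfsg.Statements.S4018
import Mathlib
import Cfsg.Agent.S3282
import Cfsg.Agent.Lib.SmallGroups.Basic
import Cfsg.Agent.Lib.SmallGroups.PrimeSylow
import Cfsg.Agent.Lib.CharCount.InvertingInvolution
-- import your own Cfsg.Agent.* helpers here

set_option autoImplicit false
open Cfsg

namespace Cfsg.Agent.S4018

open Subgroup

theorem mem_of_zpow {G : Type*} [Group G] {K : Subgroup G} {y : G} {d : ℕ} (hd : Odd d)
    (h1 : y ^ d ∈ K) (h2 : y ^ 2 ∈ K) : y ∈ K := by
  obtain ⟨k, rfl⟩ := hd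
  rw [pow_succ, pow_mul] at h1
  exact (K.mul_mem_cancel_left (K.pow_mem h2 k)).1 h1

/-- In a non-abelian simple group with a four-group as Sylow 2-subgroup the involutions of the
Sylow subgroup are all conjugate. -/
theorem four_group_fused {G : Type*} [Group G] [Finite G] [IsSimpleGroup G]
    (hG : ¬ IsMulCommutative G) (S : Sylow 2 G) (hS : Nat.card (S : Subgroup G) = 4)
    (hsq : ∀ x ∈ (S : Subgroup G), x * x = 1) {a b : G}
    (ha : a ∈ (S : Subgroup G)) (hb : b ∈ (S : Subgroup G)) (ha1 : a ≠ 1) (hb1 : b ≠ 1) :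
    IsConj a b := by
  haveI : IsMulCommutative (S : Subgroup G) := IsPGroup.isMulCommutative_of_card_eq_prime_sq (p := 2) hS
  set N := normalizer ((S : Subgroup G) : Set G) with hN
  have hSC : (S : Subgroup G) ≤ centralizer ((S : Subgroup G) : Set G) := Subgroup.le_centralizer _
  obtain ⟨y, hyN, hyC⟩ := SetLike.not_le_iff_exists.1
    (Cfsg.Agent.Lib.SmallGroups.not_normalizer_le_centralizer hG (p := 2)
      ((show (2 : ℕ) ∣ 4 by norm_num).trans (hS ▸ Subgroup.card_subgroup_dvd_card _)) S)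
  set d := ((centralizer ((S : Subgroup G) : Set G)).subgroupOf N).index with hd
  have hdd : d ∣ ((S : Subgroup G).subgroupOf N).index :=
    Subgroup.index_dvd_of_le (Subgroup.comap_mono hSC)
  have hodd : Odd d := by
    rw [← Nat.not_even_iff_odd, even_iff_two_dvd]
    intro h2
    have h3 : ((S : Subgroup G).subgroupOf N).index ∣ (S : Subgroup G).index :=
      Subgroup.relIndex_dvd_index_of_le Subgroup.le_normalizer
    exact S.not_dvd_index ((h2.trans hdd).trans h3)
  have hyd : y ^ d ∈ centralizer ((S : Subgroup G) : Set G) := by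
    have h := Subgroup.pow_index_mem ((centralizer ((S : Subgroup G) : Set G)).subgroupOf N) ⟨y, hyN⟩
    rw [Subgroup.mem_subgroupOf, Subgroup.coe_pow] at h
    exact h
  have hy2C : ∀ {u : G}, u ∈ (S : Subgroup G) → (y * u * y⁻¹ ∈ (S : Subgroup G)) := fun hu =>
    (mem_normalizer_iff.1 hyN _).1 hu
  have hcases : ∀ u v x : G, u ∈ (S : Subgroup G) → v ∈ (S : Subgroup G) → x ∈ (S : Subgroup G) →
      u ≠ 1 → v ≠ 1 → u ≠ v → x = 1 ∨ x = u ∨ x = v ∨ x = u * v := by
    intro u v x hu hv hx hu1 hv1 huv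
    by_contra hc
    push Not at hc
    obtain ⟨hx1, hxu, hxv, hxw⟩ := hc
    classical
    haveI : Fintype (S : Subgroup G) := Fintype.ofFinite _
    have hw1 : u * v ≠ 1 := fun h => huv (mul_right_cancel (h.trans (hsq v hv).symm))
    have h5 := Finset.card_le_univ ({1, ⟨u, hu⟩, ⟨v, hv⟩, ⟨u * v, mul_mem hu hv⟩, ⟨x, hx⟩} :
      Finset (S : Subgroup G))
    rw [Finset.card_insert_of_notMem (by simp [Subtype.ext_iff, hu1.symm, hv1.symm, hw1.symm, hx1.symm]),
      Finset.card_insert_of_notMem (by simp [huv, hxu.symm, hv1]),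
      Finset.card_insert_of_notMem (by simp [hxv.symm, hu1]),
      Finset.card_insert_of_notMem (by simp [hxw.symm]), Finset.card_singleton,
      ← Nat.card_eq_fintype_card, hS] at h5
    omega
  have hnofix : ∀ u ∈ (S : Subgroup G), u ≠ 1 → y * u * y⁻¹ ≠ u := by
    intro u hu hu1 hfix
    obtain ⟨v, hv, hv1, hvu⟩ : ∃ v ∈ (S : Subgroup G), v ≠ 1 ∧ v ≠ u := by
      by_contra hc
      push Not at hc
      have hle : (S : Subgroup G) ≤ zpowers u := fun v hv => by
        by_cases h : v = 1
        · exact h ▸ one_mem _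
        · exact hc v hv h ▸ mem_zpowers u
      have h := Subgroup.card_le_of_le hle
      rw [hS, Nat.card_zpowers, orderOf_eq_prime (p := 2) (by rw [pow_two, hsq u hu]) hu1] at h
      omega
    refine hyC ?_
    have hy2v : y ^ 2 * v * (y ^ 2)⁻¹ = v := by
      have e : y ^ 2 * v * (y ^ 2)⁻¹ = y * (y * v * y⁻¹) * y⁻¹ := by rw [pow_two]; group
      rw [e]
      rcases hcases u v _ hu hv (hy2C hv) hu1 hv1 hvu.symm with h | h | h | h
      · exact absurd (conj_eq_one_iff.1 h) hv1
      · exact absurd (mul_left_cancel (mul_right_cancel (h.trans hfix.symm))) hvu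
      · rw [h, h]
      · rw [h]
        calc y * (u * v) * y⁻¹ = (y * u * y⁻¹) * (y * v * y⁻¹) := by group
          _ = u * (u * v) := by rw [hfix, h]
          _ = v := by rw [← mul_assoc, hsq u hu, one_mul]
    have hyu : y ∈ centralizer ({u} : Set G) :=
      mem_centralizer_singleton_iff.2 (mul_inv_eq_iff_eq_mul.1 hfix)
    have hyv : y ∈ centralizer ({v} : Set G) :=
      mem_of_zpow hodd (Subgroup.centralizer_le (Set.singleton_subset_iff.2 hv) hyd)
        (mem_centralizer_singleton_iff.2 (mul_inv_eq_iff_eq_mul.1 hy2v))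
    intro x hx
    have cu : Commute y u := mem_centralizer_singleton_iff.1 hyu
    have cv : Commute y v := mem_centralizer_singleton_iff.1 hyv
    rcases hcases u v x hu hv hx hu1 hv1 hvu.symm with rfl | rfl | rfl | rfl
    · simp
    · exact cu.symm
    · exact cv.symm
    · exact (cu.mul_right cv).symm
  -- the orbit of `a` has three elements
  set c := y * a * y⁻¹ with hc
  have hcS : c ∈ (S : Subgroup G) := hy2C ha
  have hc1 : c ≠ 1 := fun h => ha1 (conj_eq_one_iff.1 h)
  have hca : c ≠ a := hnofix a ha ha1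
  rcases hcases a c b ha hcS hb ha1 hc1 hca.symm with h | rfl | rfl | rfl
  · exact absurd h hb1
  · exact IsConj.refl _
  · exact isConj_iff.2 ⟨y, rfl⟩
  · rcases hcases a c (y * c * y⁻¹) ha hcS (hy2C hcS) ha1 hc1 hca.symm with h | h | h | h
    · exact absurd (conj_eq_one_iff.1 h) hc1
    · exfalso
      have h2 : y ^ 2 ∈ centralizer ({a} : Set G) := by
        rw [mem_centralizer_singleton_iff, ← mul_inv_eq_iff_eq_mul]
        calc y ^ 2 * a * (y ^ 2)⁻¹ = y * c * y⁻¹ := by rw [hc, pow_two]; group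
          _ = a := h
      exact hca (mul_inv_eq_iff_eq_mul.2 (mem_centralizer_singleton_iff.1
        (mem_of_zpow hodd (Subgroup.centralizer_le (Set.singleton_subset_iff.2 ha) hyd) h2)))
    · exact absurd h (hnofix c hcS hc1)
    · exact isConj_iff.2 ⟨y * y, by rw [← h, hc]; group⟩


/-- Let G be a finite group with an abelian Sylow 3-subgroup P such that the normalizer of P has order 4·#P, the centralizer C of P has order 2·#P, C meets each of its conjugates by elements outside its normalizer trivially, and every proper subgroup of G of even order has order dividing 4·#P. Then G is not simple. -/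
theorem result {G : Type*} [Group G] [Finite G]
    (P : Sylow 3 G) (hab : IsMulCommutative P)
    (hN : Nat.card (Subgroup.normalizer ((P : Subgroup G) : Set G)) = 4 * Nat.card P)
    (hC : Nat.card (Subgroup.centralizer (P : Set G)) = 2 * Nat.card P)
    (hTI : Cfsg.IsTISubset (Subgroup.centralizer (P : Set G) : Set G))
    (heven : ∀ H : Subgroup G, H ≠ ⊤ → 2 ∣ Nat.card H → Nat.card H ∣ 4 * Nat.card P) :
    ¬ IsSimpleGroup G := by
  intro hsimp
  haveI := hsimp
  haveI : Fact (Nat.Prime 3) := ⟨Nat.prime_three⟩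
  haveI : Fact (Nat.Prime 2) := ⟨Nat.prime_two⟩
  replace hC : Nat.card (Subgroup.centralizer ((P : Subgroup G) : Set G)) = 2 * Nat.card (P : Subgroup G) := hC
  replace hTI : Cfsg.IsTISubset (Subgroup.centralizer ((P : Subgroup G) : Set G) : Set G) := hTI
  set m := Nat.card (P : Subgroup G) with hm
  have hm0 : 0 < m := Nat.card_pos
  obtain ⟨a₃, ha₃⟩ : ∃ a, m = 3 ^ a := IsPGroup.iff_card.1 P.isPGroup'
  have hmodd : ¬ 2 ∣ m := fun h => by
    have := Nat.prime_two.dvd_of_dvd_pow (ha₃ ▸ h : 2 ∣ 3 ^ a₃)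
    norm_num at this
  set N := Subgroup.normalizer ((P : Subgroup G) : Set G) with hNdef
  have hGpos : 0 < Nat.card G := Nat.card_pos
  have hm3 : 3 ≤ m := by
    rcases a₃ with _ | k
    · exfalso
      rw [pow_zero] at ha₃
      have hb : (P : Subgroup G) = ⊥ := Subgroup.eq_bot_of_card_eq _ (hm.symm.trans ha₃)
      have hcardN : Nat.card G = 4 := by
        have : N = ⊤ := by rw [hNdef, hb]; exact Subgroup.normalizer_eq_top_iff.2 inferInstance
        rw [this, Subgroup.card_top, ha₃, mul_one] at hN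
        exact hN
      exact Cfsg.Agent.Lib.SmallGroups.not_isPGroup (G := G)
        (Cfsg.Agent.Lib.SmallGroups.not_isMulCommutative_of_not_prime (G := G) (by rw [hcardN]; norm_num))
        (IsPGroup.of_card (p := 2) (n := 2) (by rw [hcardN]; norm_num))
    · rw [ha₃, pow_succ]
      have : 0 < 3 ^ k := pow_pos (by norm_num) k
      omega
  have h4G : 4 * m ∣ Nat.card G := hN ▸ Subgroup.card_subgroup_dvd_card _
  have hGna : ¬ IsMulCommutative G := Cfsg.Agent.Lib.SmallGroups.not_isMulCommutative_of_not_prime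
    fun hp => by
      rcases hp.eq_one_or_self_of_dvd _ h4G with h | h
      · omega
      · exact (Nat.not_prime_mul (by norm_num) (by omega)) (h ▸ hp)
  have hPbot : (P : Subgroup G) ≠ ⊥ := fun h => by
    rw [h, Subgroup.card_bot] at hm; omega
  have hPtop : (P : Subgroup G) ≠ ⊤ := fun h => by
    rw [hm, h, Subgroup.card_top] at hN hC
    have := Subgroup.card_le_card_group N
    omega
  have hNtop : N ≠ ⊤ := Cfsg.Agent.Lib.SmallGroups.normalizer_ne_top hPbot hPtop
  set C := Subgroup.centralizer ((P : Subgroup G) : Set G) with hCdef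
  have hCN : C ≤ N := Cfsg.Agent.Lib.SmallGroups.centralizer_le_normalizer' _
  have hPC : (P : Subgroup G) ≤ C := Subgroup.le_centralizer _
  -- the involution of C
  obtain ⟨z₀, hz₀⟩ := exists_prime_orderOf_dvd_card' (G := C) 2 (hC ▸ dvd_mul_right 2 _)
  set z : G := (z₀ : G) with hzdef
  have hz : orderOf z = 2 := (Subgroup.orderOf_coe z₀).trans hz₀
  have hzC : z ∈ C := z₀.2
  have hz1 : z ≠ 1 := fun h => by rw [h, orderOf_one] at hz; omega
  have hzz : z * z = 1 := by rw [← pow_two, ← hz, pow_orderOf_eq_one]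
  have hzP : z ∉ (P : Subgroup G) := fun h =>
    hmodd (hz ▸ Subgroup.orderOf_dvd_natCard _ h)
  have hrel : (P : Subgroup G).relIndex C = 2 := by
    have h := Nat.card_congr (Subgroup.subgroupOfEquivOfLe hPC).toEquiv
    have h' := ((P : Subgroup G).subgroupOf C).card_mul_index
    rw [h, ← hm, hC] at h'
    exact Nat.eq_of_mul_eq_mul_left hm0 (h'.trans (mul_comm 2 m))
  have hCcases : ∀ c ∈ C, c ∈ (P : Subgroup G) ∨ c * z ∈ (P : Subgroup G) := by
    intro c hc
    by_cases h : c ∈ (P : Subgroup G)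
    · exact Or.inl h
    · have := (Subgroup.mul_mem_iff_of_index_two (H := (P : Subgroup G).subgroupOf C) hrel
        (a := ⟨c, hc⟩) (b := z₀)).2 ⟨fun h' => absurd h' h, fun h' => absurd h' hzP⟩
      exact Or.inr this
  have hPz : ∀ p ∈ (P : Subgroup G), p * z = z * p := fun p hp => hzC p hp
  have hPab : ∀ p ∈ (P : Subgroup G), ∀ q ∈ (P : Subgroup G), p * q = q * p := fun p hp q hq =>
    congrArg Subtype.val (hab.is_comm.comm ⟨p, hp⟩ ⟨q, hq⟩)
  have hCform : ∀ c ∈ C, ∃ p ∈ (P : Subgroup G), c = p ∨ c = p * z := by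
    intro c hc
    rcases hCcases c hc with h | h
    · exact ⟨c, h, Or.inl rfl⟩
    · exact ⟨c * z, h, Or.inr (by rw [mul_assoc, hzz, mul_one])⟩
  have hCab : IsMulCommutative ↥C := ⟨⟨fun x y => Subtype.ext (by
    show (x : G) * y = y * x
    obtain ⟨p, hp, hx⟩ := hCform x x.2
    obtain ⟨q, hq, hy⟩ := hCform y y.2
    have e1 := hPab p hp q hq
    have e2 := hPz p hp
    have e3 := hPz q hq
    have c1 : Commute p q := e1
    have c2 : Commute p z := e2
    have c3 : Commute q z := e3
    rcases hx with hx | hx <;> rcases hy with hy | hy <;> rw [hx, hy]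
    · exact c1
    · exact c1.mul_right c2
    · exact c1.mul_left c3.symm
    · exact (c1.mul_right c2).mul_left (c3.symm.mul_right (Commute.refl z)))⟩⟩
  have hCinvo : ∀ c ∈ C, c * c = 1 → c = 1 ∨ c = z := by
    intro c hc h2
    obtain ⟨p, hp, hcp⟩ := hCform c hc
    have hp1 : p = 1 := by
      have hpp : p * p = 1 := by
        rcases hcp with rfl | rfl
        · exact h2
        · calc p * p = p * z * (p * z) * (z * z)⁻¹ := by
                rw [mul_assoc p z, ← mul_assoc z p, ← hPz p hp]; group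
            _ = 1 := by rw [h2, hzz]; simp
      by_contra hne
      exact hmodd (orderOf_eq_prime (by rw [pow_two, hpp]) hne ▸ Subgroup.orderOf_dvd_natCard _ hp)
    subst hp1
    simpa using hcp
  -- C(z) = N
  set H := Subgroup.centralizer ({z} : Set G) with hHdef
  have hHtop : H ≠ ⊤ := Cfsg.Agent.Lib.SmallGroups.centralizer_ne_top hGna hz1
  have hCH : C ≤ H := fun c hc => Subgroup.mem_centralizer_singleton_iff.2
    (congrArg Subtype.val (hCab.is_comm.comm ⟨c, hc⟩ z₀))
  have hHdvd : Nat.card H ∣ 4 * m := heven H hHtop ((hC ▸ dvd_mul_right 2 _ : 2 ∣ Nat.card C).trans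
    (Subgroup.card_dvd_of_le hCH))
  have h4H : 4 ∣ Nat.card H := by
    obtain ⟨S, hS⟩ := (IsPGroup.of_card (p := 2) (n := 1) (G := Subgroup.zpowers z)
      (by rw [Nat.card_zpowers, hz, pow_one])).exists_le_sylow
    have h4S : 4 ∣ Nat.card (S : Subgroup G) :=
      S.pow_dvd_card_of_pow_dvd_card (n := 2) ((dvd_mul_right 4 m).trans h4G)
    have hStop : (S : Subgroup G) ≠ ⊤ := fun h => Cfsg.Agent.Lib.SmallGroups.not_isPGroup hGna
      (p := 2) fun g => by
        obtain ⟨k, hk⟩ := S.isPGroup' ⟨g, h ▸ Subgroup.mem_top g⟩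
        exact ⟨k, congrArg Subtype.val hk⟩
    have hS4 : Nat.card (S : Subgroup G) = 4 := by
      obtain ⟨e, he⟩ := IsPGroup.iff_card.1 S.isPGroup'
      have hd := heven _ hStop ((show 2 ∣ 4 by norm_num).trans h4S)
      rw [he] at hd h4S ⊢
      have h2 : 2 ^ e ∣ 4 := (Nat.Coprime.pow_left e
        ((Nat.prime_two.coprime_iff_not_dvd).2 hmodd)).dvd_of_dvd_mul_right hd
      exact Nat.dvd_antisymm h2 h4S
    haveI : IsMulCommutative (S : Subgroup G) :=
      IsPGroup.isMulCommutative_of_card_eq_prime_sq (p := 2) hS4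
    rw [← hS4]
    refine Subgroup.card_dvd_of_le fun x hx => Subgroup.mem_centralizer_singleton_iff.2 ?_
    exact congrArg Subtype.val (IsMulCommutative.is_comm.comm (⟨x, hx⟩ : (S : Subgroup G))
      ⟨z, hS (Subgroup.mem_zpowers z)⟩)
  have hHcard : Nat.card H = 4 * m := by
    refine Nat.dvd_antisymm hHdvd (Nat.Coprime.mul_dvd_of_dvd_of_dvd ?_ h4H ?_)
    · exact Nat.Coprime.pow_left 2 ((Nat.prime_two.coprime_iff_not_dvd).2 hmodd)
    · exact Subgroup.card_dvd_of_le (hPC.trans hCH)
  have hHN : H = N := by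
    haveI hn2 : (C.subgroupOf H).Normal := by
      refine Subgroup.normal_of_index_eq_two ?_
      have h := Nat.card_congr (Subgroup.subgroupOfEquivOfLe hCH).toEquiv
      have h' := (C.subgroupOf H).card_mul_index
      rw [h, hC, hHcard] at h'
      exact Nat.eq_of_mul_eq_mul_left (by omega : 0 < 2 * m) (h'.trans (by ring))
    refine Subgroup.eq_of_le_of_card_ge (fun g hg => ?_) (by rw [hHcard, hN])
    rw [hNdef, Subgroup.mem_normalizer_iff]
    have key : ∀ g ∈ H, ∀ x ∈ (P : Subgroup G), g * x * g⁻¹ ∈ (P : Subgroup G) := by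
      intro g hg x hx
      have hgx : g * x * g⁻¹ ∈ C :=
        hn2.conj_mem ⟨x, hCH (hPC hx)⟩ (Subgroup.mem_subgroupOf.2 (hPC hx)) ⟨g, hg⟩
      obtain ⟨p, hp, h | h⟩ := hCform _ hgx
      · exact h ▸ hp
      · exfalso
        have hpm : ∀ u ∈ (P : Subgroup G), u ^ m = 1 := fun u hu =>
          orderOf_dvd_iff_pow_eq_one.1 (hm ▸ Subgroup.orderOf_dvd_natCard _ hu)
        have h1 : (g * x * g⁻¹) ^ m = 1 := by rw [conj_pow, hpm x hx]; group
        rw [h, (show Commute p z from hPz p hp).mul_pow, hpm p hp, one_mul] at h1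
        exact hmodd (hz ▸ orderOf_dvd_of_pow_eq_one h1)
    intro x
    exact ⟨key g hg x, fun h => by simpa [mul_assoc] using key g⁻¹ (inv_mem hg) _ h⟩
  -- a four-group Sylow 2-subgroup
  obtain ⟨S, hS⟩ := (IsPGroup.of_card (p := 2) (n := 1) (G := Subgroup.zpowers z)
    (by rw [Nat.card_zpowers, hz, pow_one])).exists_le_sylow
  have hzS : z ∈ (S : Subgroup G) := hS (Subgroup.mem_zpowers z)
  have hStop : (S : Subgroup G) ≠ ⊤ := fun h => Cfsg.Agent.Lib.SmallGroups.not_isPGroup hGna
    (p := 2) fun g => by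
      obtain ⟨k, hk⟩ := S.isPGroup' ⟨g, h ▸ Subgroup.mem_top g⟩
      exact ⟨k, congrArg Subtype.val hk⟩
  have h4S : 4 ∣ Nat.card (S : Subgroup G) :=
    S.pow_dvd_card_of_pow_dvd_card (n := 2) ((dvd_mul_right 4 m).trans h4G)
  have hS4 : Nat.card (S : Subgroup G) = 4 := by
    obtain ⟨e, he⟩ := IsPGroup.iff_card.1 S.isPGroup'
    have hd := heven _ hStop ((show 2 ∣ 4 by norm_num).trans h4S)
    rw [he] at hd h4S ⊢
    exact Nat.dvd_antisymm ((Nat.Coprime.pow_left e
      ((Nat.prime_two.coprime_iff_not_dvd).2 hmodd)).dvd_of_dvd_mul_right hd) h4S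
  have hSab : IsMulCommutative (S : Subgroup G) :=
    IsPGroup.isMulCommutative_of_card_eq_prime_sq (p := 2) hS4
  have hSsq : ∀ x ∈ (S : Subgroup G), x * x = 1 := by
    intro x hx
    by_contra hx2
    have hord : orderOf x = 4 := by
      have h4 := hS4 ▸ Subgroup.orderOf_dvd_natCard _ hx
      obtain ⟨i, hi, he⟩ := (Nat.dvd_prime_pow Nat.prime_two).1 (show orderOf x ∣ 2 ^ 2 by simpa using h4)
      interval_cases i
      · rw [pow_zero, orderOf_eq_one_iff] at he; simp [he] at hx2
      · rw [pow_one] at he; exact absurd (by rw [← pow_two, ← he, pow_orderOf_eq_one]) hx2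
      · simpa using he
    have hcyc : IsCyclic (S : Subgroup G) := isCyclic_of_orderOf_eq_card ⟨x, hx⟩
      (by rw [hS4, ← hord, ← Subgroup.orderOf_coe])
    refine Cfsg.Agent.Lib.SmallGroups.not_normalizer_le_centralizer hGna
      ((show (2 : ℕ) ∣ 4 by norm_num).trans (hS4 ▸ Subgroup.card_subgroup_dvd_card _)) S
      (IsCyclic.normalizer_le_centralizer (p := 2) ?_ hcyc)
    exact (Nat.minFac_eq_two_iff _).2 ((show 2 ∣ 4 by norm_num).trans
      (hS4 ▸ Subgroup.card_subgroup_dvd_card _))
  obtain ⟨s, hsS, hsC⟩ : ∃ s ∈ (S : Subgroup G), s ∉ C := by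
    by_contra hcon
    push Not at hcon
    have hle : (S : Subgroup G) ≤ Subgroup.zpowers z := fun x hx => by
      rcases hCinvo x (hcon x hx) (hSsq x hx) with rfl | rfl
      · exact one_mem _
      · exact Subgroup.mem_zpowers _
    have := Subgroup.card_le_of_le hle
    rw [hS4, Nat.card_zpowers, hz] at this
    omega
  have hs1 : s ≠ 1 := fun h => hsC (h ▸ one_mem C)
  have hss : s * s = 1 := hSsq s hsS
  have hs : orderOf s = 2 := orderOf_eq_prime (by rw [pow_two, hss]) hs1
  have hsH : s ∈ H := Subgroup.mem_centralizer_singleton_iff.2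
    (congrArg Subtype.val (hSab.is_comm.comm ⟨s, hsS⟩ ⟨z, hzS⟩))
  have hconjz : ∀ x : G, orderOf x = 2 → IsConj z x := by
    intro x hx
    obtain ⟨T, hT⟩ := (IsPGroup.of_card (p := 2) (n := 1) (G := Subgroup.zpowers x)
      (by rw [Nat.card_zpowers, hx, pow_one])).exists_le_sylow
    obtain ⟨g, hg⟩ := MulAction.exists_smul_eq G T S
    have hgx : g * x * g⁻¹ ∈ (S : Subgroup G) := by
      rw [← hg, Sylow.smul_def]
      exact ⟨x, hT (Subgroup.mem_zpowers x), rfl⟩
    have h1 : g * x * g⁻¹ ≠ 1 := fun h => by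
      rw [conj_eq_one_iff] at h; rw [h, orderOf_one] at hx; omega
    exact (four_group_fused hGna S hS4 hSsq hzS hgx hz1 h1).trans (isConj_iff.2 ⟨g⁻¹, by group⟩)
  have hNC : Subgroup.normalizer (C : Set G) = N := by
    refine (Subgroup.eq_of_le_of_card_ge (K := Subgroup.normalizer (C : Set G)) (H := N) ?_ ?_).symm
    · intro g hg
      rw [Subgroup.mem_normalizer_iff]
      have key : ∀ g ∈ N, ∀ c ∈ C, g * c * g⁻¹ ∈ C := by
        intro g hg c hc p hp
        have hp' : g⁻¹ * p * g ∈ (P : Subgroup G) := by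
          have := (Subgroup.mem_normalizer_iff.1 (inv_mem hg) p).1 hp
          simpa using this
        have h := hc _ hp'
        calc p * (g * c * g⁻¹) = g * (g⁻¹ * p * g * c) * g⁻¹ := by group
          _ = g * (c * (g⁻¹ * p * g)) * g⁻¹ := by rw [h]
          _ = g * c * g⁻¹ * p := by group
      intro c
      exact ⟨key g hg c, fun h => by simpa [mul_assoc] using key g⁻¹ (inv_mem hg) _ h⟩
    · rw [hN]
      refine Nat.le_of_dvd (by omega) (heven _ ?_ ?_)
      · refine Cfsg.Agent.Lib.SmallGroups.normalizer_ne_top (fun h => ?_) (fun h => hHtop (top_le_iff.1 (h ▸ hCH)))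
        rw [h, Subgroup.card_bot] at hC; omega
      · exact (hC ▸ dvd_mul_right 2 _ : 2 ∣ Nat.card C).trans
          (Subgroup.card_dvd_of_le Subgroup.le_normalizer)
  -- s inverts C
  have hfree : ∀ p ∈ (P : Subgroup G), s * p * s⁻¹ = p → p = 1 := by
    intro p hp hfix
    by_contra hp1
    obtain ⟨g, hg⟩ := isConj_iff.1 (hconjz s hs)
    set p' := g⁻¹ * p * g with hp'
    have hp'H : p' ∈ H := Subgroup.mem_centralizer_singleton_iff.2 (by
      have e : s * p = p * s := mul_inv_eq_iff_eq_mul.1 hfix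
      rw [← hg] at e
      calc p' * z = g⁻¹ * (p * (g * z * g⁻¹)) * g := by rw [hp']; group
        _ = g⁻¹ * (g * z * g⁻¹ * p) * g := by rw [e]
        _ = z * p' := by rw [hp']; group)
    have hp'N : p' ∈ N := hHN ▸ hp'H
    -- a 3-element of N lies in P
    have hp'P : p' ∈ (P : Subgroup G) := by
      have hle : Subgroup.zpowers p' ≤ N := Subgroup.zpowers_le.2 hp'N
      have hpg : IsPGroup 3 (Subgroup.zpowers p') := by
        obtain ⟨k, hk⟩ := P.isPGroup' ⟨p, hp⟩
        refine IsPGroup.of_card (n := (orderOf p').factorization 3) ?_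
        rw [Nat.card_zpowers]
        have hd : orderOf p' ∣ 3 ^ k := orderOf_dvd_of_pow_eq_one (by
          rw [hp', show g⁻¹ * p * g = g⁻¹ * p * (g⁻¹)⁻¹ by group, conj_pow,
            show p ^ (3 ^ k) = 1 from congrArg Subtype.val hk]
          group)
        obtain ⟨j, -, hj⟩ := (Nat.dvd_prime_pow Nat.prime_three).1 hd
        rw [hj, Nat.prime_three.factorization_pow, Finsupp.single_eq_same]
      have h := hpg.to_sup_of_normal_right' P.isPGroup' hle
      exact P.is_maximal' h le_sup_right ▸ Subgroup.mem_sup_left (Subgroup.mem_zpowers p')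
    have hgN : g ∈ N := by
      by_contra hgn
      have hg' : g⁻¹ ∉ Subgroup.normalizer (C : Set G) := fun h => hgn (by
        rw [hNC] at h; simpa using inv_mem h)
      exact hp1 (hTI g⁻¹ hg' p (hPC hp) (by simpa [hp'] using hPC hp'P))
    have : g * z * g⁻¹ ∈ C := by
      have h := Subgroup.mem_normalizer_iff.1 (hNC ▸ hgN : g ∈ Subgroup.normalizer (C : Set G)) z
      exact h.1 hzC
    exact hsC (hg ▸ this)
  have hsN : s ∈ N := hHN ▸ hsH
  have hinvP : ∀ p ∈ (P : Subgroup G), s * p * s⁻¹ = p⁻¹ := fun p hp =>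
    Cfsg.Agent.Lib.CharCount.inverts_of_fixedPointFree hss
      (fun a ha => (Subgroup.mem_normalizer_iff.1 hsN a).1 ha) hfree hp
  have hsz : s * z = z * s := Subgroup.mem_centralizer_singleton_iff.1 hsH
  have hinvC : ∀ x ∈ C, s * x * s⁻¹ = x⁻¹ := by
    intro x hx
    obtain ⟨p, hp, h | h⟩ := hCform x hx
    · rw [h]; exact hinvP p hp
    · rw [h, mul_inv_rev, inv_eq_of_mul_eq_one_right hzz]
      calc s * (p * z) * s⁻¹ = (s * p * s⁻¹) * (s * z * s⁻¹) := by group
        _ = p⁻¹ * z := by rw [hinvP p hp, mul_inv_eq_of_eq_mul hsz]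
        _ = z * p⁻¹ := hPz _ (inv_mem hp)
  have hCK : C ⊓ Subgroup.centralizer ({s} : Set G) = Subgroup.zpowers z := by
    apply le_antisymm
    · rintro x ⟨hxC, hxs⟩
      have e := hinvC x hxC
      rw [← Subgroup.mem_centralizer_singleton_iff.1 hxs, mul_inv_cancel_right] at e
      rcases hCinvo x hxC (eq_inv_iff_mul_eq_one.1 e) with rfl | rfl
      · exact one_mem _
      · exact Subgroup.mem_zpowers _
    · rw [Subgroup.zpowers_le]
      exact ⟨hzC, Subgroup.mem_centralizer_singleton_iff.2 hsz.symm⟩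
  have hsup : C ⊔ Subgroup.zpowers s = H := by
    refine Subgroup.eq_of_le_of_card_ge (sup_le hCH (Subgroup.zpowers_le.2 hsH)) ?_
    have hlt : C < C ⊔ Subgroup.zpowers s := lt_of_le_of_ne le_sup_left fun h =>
      hsC (h ▸ Subgroup.mem_sup_right (Subgroup.mem_zpowers s))
    obtain ⟨c, hc⟩ := Subgroup.card_dvd_of_le hlt.le
    have hne : c ≠ 1 := fun h => hlt.ne (Subgroup.eq_of_le_of_card_ge hlt.le (by rw [hc, h, mul_one]))
    have hc0 : c ≠ 0 := fun h => by rw [h, mul_zero] at hc; exact Nat.card_pos.ne' hc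
    rw [hHcard, hc, hC]
    have : 2 * m * 2 ≤ 2 * m * c := Nat.mul_le_mul_left _ (by omega)
    omega
  have hTI' : ∀ g : G, g ∉ H → C ⊓ C.map (MulAut.conj g).toMonoidHom = ⊥ := by
    intro g hg
    rw [eq_bot_iff]
    rintro x ⟨hxC, y, hy, rfl⟩
    have h := hTI g (fun h => hg (hHN ▸ hNC ▸ h)) y hy hxC
    simp [h]
  obtain ⟨Q, D, hcard, hQC, hDab, hD, hQD, hNQ, hX⟩ := Cfsg.Agent.S3282.result z hz C hCab hCH hzC s hs
    hsH hsC hsup hCK hinvC hTI' fun x y hx hy => (hconjz x hx).symm.trans (hconjz y hy)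
  set q := Nat.card Q with hq
  set d := Nat.card D with hd
  have hd0 : 0 < d := Nat.card_pos
  have hq3 : 3 ≤ q := by omega
  have hqodd : ¬ 2 ∣ q := by omega
  have hQbot : Q ≠ ⊥ := fun h => by rw [hq, h, Subgroup.card_bot] at hq3; omega
  have hQtop : Q ≠ ⊤ := fun h => by
    apply hqodd
    rw [hq, h, Subgroup.card_top]
    exact (show 2 ∣ 4 * m by omega).trans h4G
  have hNQtop := Cfsg.Agent.Lib.SmallGroups.normalizer_ne_top hQbot hQtop
  by_cases hdev : 2 ∣ d
  · have h1 : Nat.card (Subgroup.normalizer (Q : Set G)) ∣ 4 * m := heven _ hNQtop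
      (hdev.trans (Subgroup.card_dvd_of_le (hNQ ▸ le_sup_right)))
    have h2 : q ∣ m := by
      refine Nat.Coprime.dvd_of_dvd_mul_left ?_ ((Subgroup.card_dvd_of_le Subgroup.le_normalizer).trans h1)
      exact Nat.Coprime.pow_right 2 ((Nat.prime_two.coprime_iff_not_dvd).2 hqodd).symm
    obtain ⟨x, hxQ, hx1⟩ := (Subgroup.bot_or_exists_ne_one Q).resolve_left hQbot
    have hxp : IsPGroup 3 (Subgroup.zpowers x) := by
      obtain ⟨j, -, hj⟩ := (Nat.dvd_prime_pow Nat.prime_three).1
        (((Subgroup.orderOf_dvd_natCard _ hxQ).trans h2).trans (dvd_of_eq ha₃))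
      exact IsPGroup.of_card (n := j) (by rw [Nat.card_zpowers, hj])
    obtain ⟨T, hT⟩ := hxp.exists_le_sylow
    obtain ⟨g, hg⟩ := MulAction.exists_smul_eq G P T
    obtain ⟨p, hp, hpx⟩ : x ∈ (P : Subgroup G).map (MulAut.conj g).toMonoidHom := by
      have := hT (Subgroup.mem_zpowers x)
      rw [← hg, Sylow.smul_def] at this
      exact this
    have hpC : g * z * g⁻¹ ∈ Subgroup.centralizer ({x} : Set G) := by
      rw [Subgroup.mem_centralizer_singleton_iff, ← hpx]
      show g * z * g⁻¹ * (g * p * g⁻¹) = g * p * g⁻¹ * (g * z * g⁻¹)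
      calc g * z * g⁻¹ * (g * p * g⁻¹) = g * (z * p) * g⁻¹ := by group
        _ = g * (p * z) * g⁻¹ := by rw [hPz p hp]
        _ = _ := by group
    rw [hQC x hxQ hx1] at hpC
    have := Subgroup.orderOf_dvd_natCard _ hpC
    rw [show orderOf (g * z * g⁻¹) = orderOf z from MulEquiv.orderOf_eq (MulAut.conj g) z, hz] at this
    exact hqodd this
  · by_cases hD1 : D = ⊥
    · have hd1 : d = 1 := by rw [hd, hD1, Subgroup.card_bot]
      have hq' : q = 3 := by omega
      rw [hq'] at hcard
      have h12 : Nat.card G = 4 * m := by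
        have := Nat.le_of_dvd hGpos h4G
        omega
      exact hNtop (Subgroup.eq_top_of_card_eq _ (by rw [hN, h12]))
    · obtain ⟨-, u, hu, huD, huinv, hND⟩ := hX D le_rfl hD1
      have hNDtop : Subgroup.normalizer (D : Set G) ≠ ⊤ :=
        Cfsg.Agent.Lib.SmallGroups.normalizer_ne_top hD1 fun h => huD (h ▸ Subgroup.mem_top u)
      have h2 : Nat.card (Subgroup.normalizer (D : Set G)) ∣ 4 * m := heven _ hNDtop
        (hu ▸ Subgroup.orderOf_dvd_natCard _ (hND ▸ Subgroup.mem_sup_right (Subgroup.mem_zpowers u)))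
      have h3 : d ∣ m := by
        refine Nat.Coprime.dvd_of_dvd_mul_left ?_ ((Subgroup.card_dvd_of_le Subgroup.le_normalizer).trans h2)
        exact Nat.Coprime.pow_right 2 ((Nat.prime_two.coprime_iff_not_dvd).2 hdev).symm
      have hDp : IsPGroup 3 D := by
        obtain ⟨j, -, hj⟩ := (Nat.dvd_prime_pow Nat.prime_three).1 (h3.trans (dvd_of_eq ha₃))
        exact IsPGroup.of_card (n := j) hj
      obtain ⟨T, hT⟩ := hDp.exists_le_sylow
      obtain ⟨g, hg⟩ := MulAction.exists_smul_eq G P T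
      set w := g * z * g⁻¹ with hw
      have hwD : ∀ x ∈ D, w * x = x * w := by
        intro x hx
        obtain ⟨p, hp, rfl⟩ : x ∈ (P : Subgroup G).map (MulAut.conj g).toMonoidHom := by
          have := hT hx
          rw [← hg, Sylow.smul_def] at this
          exact this
        show g * z * g⁻¹ * (g * p * g⁻¹) = g * p * g⁻¹ * (g * z * g⁻¹)
        calc g * z * g⁻¹ * (g * p * g⁻¹) = g * (z * p) * g⁻¹ := by group
          _ = g * (p * z) * g⁻¹ := by rw [hPz p hp]
          _ = _ := by group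
      have hwN : w ∈ D ⊔ Subgroup.zpowers u := by
        rw [← hND, Subgroup.mem_normalizer_iff]
        intro x
        constructor
        · intro hx; rw [hwD x hx, mul_inv_cancel_right]; exact hx
        · intro hx
          have e := hwD _ hx
          have : w * x * w⁻¹ = x := mul_left_cancel (e.trans (inv_mul_cancel_right _ _))
          exact this ▸ hx
      have hworder : orderOf w = 2 := (MulEquiv.orderOf_eq (MulAut.conj g) z).trans hz
      -- every element of D⟨u⟩ outside D inverts D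
      have hcase : ∀ y ∈ D ⊔ Subgroup.zpowers u, (∀ x ∈ D, y * x = x * y) →
          ∀ x ∈ D, x * x = 1 ∨ y ∈ D := by
        intro y hy hyc x hx
        have hnorm : Subgroup.zpowers u ≤ Subgroup.normalizer (D : Set G) := by
          rw [hND]; exact le_sup_right
        rw [← SetLike.mem_coe, Subgroup.coe_mul_of_right_le_normalizer_left D (Subgroup.zpowers u) hnorm] at hy
        obtain ⟨d₁, hd₁, v, hv, rfl⟩ := hy
        dsimp only at hyc ⊢
        obtain ⟨k, rfl⟩ := Subgroup.mem_zpowers_iff.1 hv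
        rcases Int.even_or_odd k with ⟨j, hj⟩ | ⟨j, hj⟩
        · right
          rw [hj, ← two_mul, zpow_mul, zpow_two, ← pow_two u, ← hu, pow_orderOf_eq_one, one_zpow, mul_one]
          exact hd₁
        · left
          have hvu : u ^ k = u := by
            rw [hj, zpow_add, zpow_mul, zpow_two, ← pow_two u, ← hu, pow_orderOf_eq_one, one_zpow,
              one_mul, zpow_one]
          rw [hvu] at hyc
          have e := hyc x hx
          have hcd : d₁ * x⁻¹ = x⁻¹ * d₁ := congrArg Subtype.val (hDab.is_comm.comm (⟨d₁, hd₁⟩ : D) ⟨x⁻¹, inv_mem hx⟩)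
          have : x = x⁻¹ := by
            have e2 : d₁ * (u * x * u⁻¹) * u = x * (d₁ * u) := by rw [← e]; group
            rw [huinv x hx, hcd, mul_assoc, mul_left_inj] at e2
            exact e2.symm
          exact mul_eq_one_iff_eq_inv.2 this
      obtain ⟨x, hxD, hx1⟩ := (Subgroup.bot_or_exists_ne_one D).resolve_left hD1
      rcases hcase w hwN hwD x hxD with h | h
      · exact hdev (orderOf_eq_prime (by rw [pow_two, h]) hx1 ▸ Subgroup.orderOf_dvd_natCard _ hxD)
      · exact hdev (hworder ▸ Subgroup.orderOf_dvd_natCard _ h)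

end Cfsg.Agent.S4018
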