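import Cfsg.Statements.S4023
import Mathlib
import Cfsg.Agent.Lib.Elem69.EqualOrderConj


set_option autoImplicit false
open Cfsg

namespace Cfsg.Agent.S4023

/-- Let p be a prime and G a finite group in which any two p-subgroups of the same order are conjugate, with Sylow p-subgroup P. Then P is cyclic, or elementary abelian, or p = 2 and P is a quaternion group of order 8, or p is odd and P is non-abelian of order p³ and exponent p. -/
theorem result {G : Type*} [Group G] [Finite G]
    {p : ℕ} [Fact p.Prime] (hC : ∀ H K : Subgroup G, IsPGroup p H → IsPGroup p K → Nat.card H = Nat.card K →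
      ∃ g : G, K = H.map (MulAut.conj g).toMonoidHom) (P : Sylow p G) :
    IsCyclic P ∨ Cfsg.IsElementaryAbelian p (P : Subgroup G) ∨
      (p = 2 ∧ Nonempty ((P : Subgroup G) ≃* QuaternionGroup 2)) ∨
      (p ≠ 2 ∧ ¬ IsMulCommutative P ∧ Nat.card P = p ^ 3 ∧ Monoid.exponent P = p) := by
  classical
  have hiso : ∀ H K : Subgroup (P : Subgroup G), Nat.card H = Nat.card K → Nonempty (H ≃* K) := by
    intro H K hHK
    have e1 := H.equivMapOfInjective _ (P : Subgroup G).subtype_injective
    have e2 := K.equivMapOfInjective _ (P : Subgroup G).subtype_injective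
    obtain ⟨g, hg⟩ := hC _ _ ((P.isPGroup'.to_subgroup H).map (P : Subgroup G).subtype)
      ((P.isPGroup'.to_subgroup K).map (P : Subgroup G).subtype)
      (by rw [← Nat.card_congr e1.toEquiv, ← Nat.card_congr e2.toEquiv, hHK])
    have e3 := (H.map (P : Subgroup G).subtype).equivMapOfInjective (MulAut.conj g).toMonoidHom (MulAut.conj g).injective
    exact ⟨(e1.trans (e3.trans (MulEquiv.subgroupCongr hg.symm))).trans e2.symm⟩
  rcases Cfsg.Agent.Lib.Elem69.structure_of_iso P.isPGroup' hiso with h | h | h | h
  · exact Or.inl h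
  · refine Or.inr (Or.inl ⟨⟨⟨h.2⟩⟩, fun a ha => ?_⟩)
    have := congrArg Subtype.val (h.1 ⟨a, ha⟩)
    simpa using this
  · exact Or.inr (Or.inr (Or.inl h))
  · refine Or.inr (Or.inr (Or.inr ⟨h.1, fun hc => h.2.1 fun a b => hc.is_comm.comm a b, h.2.2.1, ?_⟩))
    have hp : p.Prime := Fact.out
    refine ((Nat.dvd_prime hp).mp (Monoid.exponent_dvd_of_forall_pow_eq_one h.2.2.2)).resolve_left ?_
    intro he
    apply h.2.1
    intro a b
    have := Monoid.exp_eq_one_iff.mp he
    exact Subsingleton.elim _ _

end Cfsg.Agent.S4023
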