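import Cfsg.Statements.S4024
import Mathlib
import Cfsg.Agent.S4023
import Cfsg.Agent.Lib.PSolvable.PSolv


set_option autoImplicit false
open Cfsg

namespace Cfsg.Agent.S4024

/-- Let p be an odd prime and G a finite group in which any two p-subgroups of the same order are conjugate, with Sylow p-subgroup P. If H is a normal p-solvable subgroup of G whose order is divisible by p, then P is abelian, and either P ≤ H or P is cyclic. -/
theorem result {G : Type*} [Group G] [Finite G]
    {p : ℕ} [Fact p.Prime] (hp : p ≠ 2) (hC : ∀ H K : Subgroup G, IsPGroup p H → IsPGroup p K → Nat.card H = Nat.card K →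
      ∃ g : G, K = H.map (MulAut.conj g).toMonoidHom) (P : Sylow p G)
    (H : Subgroup G) [H.Normal] (hsolv : Cfsg.IsPSolvable p H) (hdiv : p ∣ Nat.card H) :
    IsMulCommutative P ∧ ((P : Subgroup G) ≤ H ∨ IsCyclic P) := by
  classical
  have hpp : p.Prime := Fact.out
  -- a normal subgroup of order divisible by `p` contains every element of order `p`
  have hall : ∀ U : Subgroup G, U.Normal → p ∣ Nat.card U → ∀ x : G, x ^ p = 1 → x ∈ U := by
    intro U hU hd x hx
    rcases eq_or_ne x 1 with rfl | hx1
    · exact one_mem U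
    obtain ⟨u, hu⟩ := exists_prime_orderOf_dvd_card' p hd
    have hxo : orderOf x = p := orderOf_eq_prime hx hx1
    have hpg : ∀ w : G, orderOf w = p → IsPGroup p (Subgroup.zpowers w) := fun w hw =>
      IsPGroup.of_card (n := 1) (by rw [Nat.card_zpowers, hw, pow_one])
    obtain ⟨g, hg⟩ := hC (Subgroup.zpowers (u : G)) (Subgroup.zpowers x)
      (hpg _ (by rw [Subgroup.orderOf_coe, hu])) (hpg x hxo)
      (by rw [Nat.card_zpowers, Nat.card_zpowers, hxo, Subgroup.orderOf_coe, hu])
    have : x ∈ (Subgroup.zpowers (u : G)).map (MulAut.conj g).toMonoidHom := hg ▸ Subgroup.mem_zpowers x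
    obtain ⟨w, hw, rfl⟩ := this
    exact hU.conj_mem w (Subgroup.zpowers_le.mpr u.2 hw) g
  have hexpLe : (∀ x : (P : Subgroup G), x ^ p = 1) → ∀ U : Subgroup G, U.Normal → p ∣ Nat.card U →
      (P : Subgroup G) ≤ U := fun he U hU hd x hx =>
    hall U hU hd x (by simpa using congrArg Subtype.val (he ⟨x, hx⟩))
  rcases Cfsg.Agent.S4023.result hC P with h | h | h | h
  · have := h
    exact ⟨IsCyclic.isMulCommutative, Or.inr h⟩
  · exact ⟨h.1, Or.inl (hexpLe (fun x => Subtype.ext (by simpa using h.2 x x.2)) H inferInstance hdiv)⟩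
  · exact absurd h.1 hp
  · exfalso
    obtain ⟨-, hna, hcard, hexp⟩ := h
    have he : ∀ x : (P : Subgroup G), x ^ p = 1 := fun x => by have := Monoid.pow_exponent_eq_one x; rwa [hexp] at this
    let K := (pPrimeCore p ↥H).map H.subtype
    have hKn : K.Normal := Cfsg.Agent.Lib.PSolvable.map_subtype_pPrimeCore_normal H
    have hKp : ¬ p ∣ Nat.card K := by
      rw [← Nat.card_congr ((pPrimeCore p ↥H).equivMapOfInjective _ H.subtype_injective).toEquiv]
      exact Cfsg.Agent.Lib.PSolvable.pPrimeCore_not_dvd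
    have hpK : Nat.card K = Nat.card (pPrimeCore p ↥H) :=
      (Nat.card_congr ((pPrimeCore p ↥H).equivMapOfInjective _ H.subtype_injective).toEquiv).symm
    let π := QuotientGroup.mk' K
    have hKH : K ≤ H := Subgroup.map_subtype_le _
    have hHn : (H.map π).Normal := Subgroup.Normal.map inferInstance π (QuotientGroup.mk'_surjective _)
    have hne : H.map π ≠ ⊥ := by
      intro hb
      rw [Subgroup.map_eq_bot_iff, QuotientGroup.ker_mk'] at hb
      exact hKp (hdiv.trans (Subgroup.card_dvd_of_le hb))
    obtain ⟨M, hMn, hMle, hMne, hMp⟩ := Cfsg.Agent.Lib.PSolvable.exists_normal_le_of_isPSolvable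
      (H.map π) hne (Cfsg.Agent.Lib.PSolvable.isPSolvable_map hsolv (π.subgroupMap H) (π.subgroupMap_surjective H))
    -- `M` is a `p`-group: a normal `p'`-subgroup would enlarge the core
    have hMpg : IsPGroup p M := by
      refine hMp.resolve_right fun hco => hMne ?_
      let U := M.comap π
      have hUn : U.Normal := hMn.comap π
      have hUH : U ≤ H := (Subgroup.comap_mono hMle).trans
        (Subgroup.comap_map_eq_self (by rwa [QuotientGroup.ker_mk'])).le
      have hUc : (Nat.card (U.subgroupOf H)).Coprime p := by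
        rw [Nat.card_congr (Subgroup.subgroupOfEquivOfLe hUH).toEquiv,
          Cfsg.Agent.Lib.PSolvable.card_comap_mk']
        exact Nat.Coprime.mul_left (hpp.coprime_iff_not_dvd.mpr hKp).symm hco
      have hUs : U.subgroupOf H ≤ pPrimeCore p ↥H := Cfsg.Agent.Lib.PSolvable.le_pPrimeCore hUc
      rw [eq_bot_iff]
      intro m hm
      obtain ⟨u, rfl⟩ := QuotientGroup.mk_surjective m
      rw [Subgroup.mem_bot, QuotientGroup.eq_one_iff]
      exact ⟨⟨u, hUH hm⟩, hUs (Subgroup.mem_subgroupOf.mpr hm), rfl⟩
    have hdU : ∀ V : Subgroup (G ⧸ K), V ≠ ⊥ → IsPGroup p V → p ∣ Nat.card (V.comap π) := by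
      intro V hV hVp
      rw [Cfsg.Agent.Lib.PSolvable.card_comap_mk']
      exact Dvd.dvd.mul_left ((hVp.card_eq_or_dvd).resolve_left fun h => hV (Subgroup.card_eq_one.mp h)) _
    have hPM : (P : Subgroup G) ≤ M.comap π := hexpLe he _ (hMn.comap π) (hdU M hMne hMpg)
    let ψ : (P : Subgroup G) →* G ⧸ K := π.comp (P : Subgroup G).subtype
    have hψinj : Function.Injective ψ := by
      rw [injective_iff_map_eq_one]
      intro x hx
      have hxK : (x : G) ∈ K := (QuotientGroup.eq_one_iff _).mp hx
      obtain ⟨k, hk⟩ := IsPGroup.iff_orderOf.mp P.isPGroup' x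
      have h1 := K.orderOf_dvd_natCard hxK
      rw [Subgroup.orderOf_coe, hk] at h1
      rcases Nat.eq_zero_or_pos k with h0 | h0
      · rw [h0, pow_zero, orderOf_eq_one_iff] at hk; exact hk
      · exact absurd ((dvd_pow_self p h0.ne').trans h1) hKp
    have hrange : ψ.range = M := by
      refine Subgroup.eq_of_le_of_card_ge ?_ ?_
      · rintro _ ⟨x, rfl⟩
        exact hPM x.2
      · obtain ⟨m, hm⟩ := hMpg.exists_card_eq
        rw [← Nat.card_congr (MonoidHom.ofInjective hψinj).toEquiv, hm, P.card_eq_multiplicity]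
        refine Nat.pow_le_pow_right hpp.pos ?_
        rw [← hpp.pow_dvd_iff_le_factorization Nat.card_pos.ne', ← hm]
        refine dvd_trans ?_ (M.comap π).card_subgroup_dvd_card
        rw [Cfsg.Agent.Lib.PSolvable.card_comap_mk']
        exact Dvd.intro_left _ rfl
    have hMc : (Subgroup.center M).Characteristic := inferInstance
    let Z := (Subgroup.center M).map M.subtype
    have hZn : Z.Normal := inferInstance
    have hZne : Z ≠ ⊥ := by
      rw [ne_eq, Subgroup.map_eq_bot_iff_of_injective _ M.subtype_injective]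
      have : Nontrivial M := (Subgroup.nontrivial_iff_ne_bot M).mpr hMne
      have := hMpg.center_nontrivial
      exact (Subgroup.nontrivial_iff_ne_bot _).mp this
    have hZp : IsPGroup p Z := (hMpg.to_subgroup _).map _
    have hPZ : (P : Subgroup G) ≤ Z.comap π := hexpLe he _ (hZn.comap π) (hdU Z hZne hZp)
    apply hna
    refine ⟨⟨fun a b => hψinj ?_⟩⟩
    obtain ⟨a', ha', hae⟩ := hPZ a.2
    have hb : ψ b ∈ M := hrange ▸ ⟨b, rfl⟩
    have := congrArg Subtype.val (Subgroup.mem_center_iff.mp ha' ⟨ψ b, hb⟩)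
    simp only [Subgroup.coe_mul] at this
    rw [map_mul, map_mul, show ψ a = (a' : G ⧸ K) from hae.symm]
    exact this.symm

end Cfsg.Agent.S4024
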