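import Cfsg.Statements.S4025
import Cfsg.Agent.Lib.SubspaceTrans.Linear
import Cfsg.Agent.Lib.PSolvable.Core
import Cfsg.Agent.Lib.ClassSize.Cover

set_option autoImplicit false
open Cfsg

namespace Cfsg.Agent.S4025

open Cfsg.Agent.Lib

/-- Conjugate subgroups of an abelian Sylow subgroup are conjugate in its normaliser. -/
theorem exists_conj_normalizer {G : Type*} [Group G] [Finite G] {p : ℕ} [Fact p.Prime] (P : Sylow p G)
    (hab : ∀ a ∈ (P : Subgroup G), ∀ b ∈ (P : Subgroup G), a * b = b * a) (A B : Subgroup G)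
    (hA : A ≤ (P : Subgroup G)) (hB : B ≤ (P : Subgroup G)) (g : G)
    (hg : B = A.map (MulAut.conj g).toMonoidHom) :
    ∃ h ∈ Subgroup.normalizer ((P : Subgroup G) : Set G), B = A.map (MulAut.conj h).toMonoidHom := by
  have h1 : (P : Subgroup G) ≤ Subgroup.centralizer (B : Set G) := fun x hx =>
    Subgroup.mem_centralizer_iff.2 fun b hb => hab b (hB hb) x hx
  have h2 : ((g • P : Sylow p G) : Subgroup G) ≤ Subgroup.centralizer (B : Set G) := by
    intro x hx
    rw [Sylow.coe_subgroup_smul, Subgroup.mem_pointwise_smul_iff_inv_smul_mem] at hx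
    rw [Subgroup.mem_centralizer_iff]
    intro b hb
    rw [hg] at hb
    obtain ⟨a, ha, rfl⟩ := hb
    have := hab a (hA ha) _ hx
    simp only [MulAut.smul_def, MulAut.inv_def, MulAut.conj_symm_apply] at this
    show g * a * g⁻¹ * x = x * (g * a * g⁻¹)
    calc g * a * g⁻¹ * x = g * (a * (g⁻¹ * x * g)) * g⁻¹ := by group
      _ = x * (g * a * g⁻¹) := by rw [this]; group
  obtain ⟨c, hc⟩ := MulAction.exists_smul_eq (Subgroup.centralizer (B : Set G))
    ((g • P).subtype h2) (P.subtype h1)
  rw [Sylow.smul_subtype] at hc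
  have hc' : (c : G) • g • P = P := Sylow.subtype_injective hc
  obtain ⟨c, hcB⟩ := c
  refine ⟨c * g, ?_, ?_⟩
  · rw [← mul_smul] at hc'
    exact Sylow.smul_eq_iff_mem_normalizer.1 hc'
  · rw [hg]
    refine le_antisymm ?_ ?_
    · rintro _ ⟨a, ha, rfl⟩
      refine ⟨a, ha, ?_⟩
      have : g * a * g⁻¹ ∈ B := hg ▸ Subgroup.mem_map_of_mem _ ha
      have := Subgroup.mem_centralizer_iff.1 hcB _ this
      show c * g * a * (c * g)⁻¹ = g * a * g⁻¹
      calc c * g * a * (c * g)⁻¹ = c * (g * a * g⁻¹) * c⁻¹ := by group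
        _ = g * a * g⁻¹ := by rw [← this, mul_inv_cancel_right]
    · rintro _ ⟨a, ha, rfl⟩
      refine ⟨a, ha, ?_⟩
      have : g * a * g⁻¹ ∈ B := hg ▸ Subgroup.mem_map_of_mem _ ha
      have := Subgroup.mem_centralizer_iff.1 hcB _ this
      show g * a * g⁻¹ = c * g * a * (c * g)⁻¹
      calc g * a * g⁻¹ = c * (g * a * g⁻¹) * c⁻¹ := by rw [← this, mul_inv_cancel_right]
        _ = _ := by group

set_option maxHeartbeats 800000 in
/-- A group in which a normal Sylow subgroup is self-centralising and has conjugation transitive on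
subgroups of equal order. -/
theorem core {Q : Type*} [Group Q] [Finite Q] {p : ℕ} [Fact p.Prime] (hQ : Group.IsSolvable Q)
    (A : Subgroup Q) [A.Normal] (hAc : IsMulCommutative A) (hAe : ∀ a ∈ A, a ^ p = 1) (n : ℕ)
    (hn : 3 ≤ n) (hcard : Nat.card A = p ^ n) (hidx : ¬ p ∣ A.index)
    (hCA : ∀ q : Q, (∀ a ∈ A, q * a = a * q) → q ∈ A)
    (htr : ∀ U W : Subgroup Q, U ≤ A → W ≤ A → Nat.card U = Nat.card W →
      ∃ q : Q, W = U.map (MulAut.conj q).toMonoidHom) :
    (n = 3 ∧ (∃ f : Q →* ↥(Cfsg.semiaffineGroup (GaloisField p 3)), Function.Injective f) ∧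
      (p = 2 → Nonempty (Q ≃* Cfsg.semiaffineGroup (GaloisField 2 3)) ∨
               Nonempty (Q ≃* Cfsg.affineGroup (GaloisField 2 3)))) ∨
    (n = 5 ∧ p = 2 ∧ Nonempty (Q ≃* Cfsg.semiaffineGroup (GaloisField 2 5))) := by
  classical
  have hp : p.Prime := Fact.out
  have hco : (Nat.card A).Coprime A.index := by
    rw [hcard]
    exact ((Nat.Prime.coprime_iff_not_dvd hp).2 hidx).pow_left n
  obtain ⟨L, hL⟩ := Subgroup.exists_right_complement'_of_coprime hco
  have hLc : Nat.card L = A.index := (hL.symm.index_eq_card).symm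
  letI : CommGroup A := { (inferInstance : Group A) with mul_comm := fun a b => hAc.is_comm.comm a b }
  let φ : L →* MulAut A := (MulAut.conjNormal : Q →* MulAut A).comp L.subtype
  have hφval : ∀ (l : L) (u : A), ((φ l u : A) : Q) = (l : Q) * (u : Q) * (l : Q)⁻¹ :=
    fun l u => MulAut.conjNormal_apply _ _
  have hφ : Function.Injective φ := by
    rw [injective_iff_map_eq_one]
    intro l hl
    have hlA : (l : Q) ∈ A := hCA _ fun a ha => by
      have := hφval l ⟨a, ha⟩
      rw [hl] at this
      exact mul_inv_eq_iff_eq_mul.1 this.symm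
    exact Subtype.ext (Subgroup.disjoint_def.1 hL.disjoint hlA l.2)
  haveI : Group.IsSolvable Q := hQ
  have hLsol : Group.IsSolvable L := solvable_of_solvable_injective (f := L.subtype) L.subtype_injective
  have ht : ∀ U W : Subgroup A, Nat.card U = Nat.card W → ∃ l, W = U.map (φ l).toMonoidHom := by
    intro U W hUW
    obtain ⟨q, hq⟩ := htr (U.map A.subtype) (W.map A.subtype) (Subgroup.map_subtype_le _)
      (Subgroup.map_subtype_le _) (by
        rw [Subgroup.card_map_of_injective A.subtype_injective,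
          Subgroup.card_map_of_injective A.subtype_injective, hUW])
    obtain ⟨⟨a, l⟩, hal⟩ := hL.2 q
    refine ⟨l, (Subgroup.eq_of_le_of_card_ge ?_ (by
      rw [Subgroup.card_map_of_injective (f := (φ l).toMonoidHom) (φ l).injective, hUW])).symm⟩
    rintro _ ⟨u, hu, rfl⟩
    refine (Subgroup.mem_map_iff_mem A.subtype_injective).1 ?_
    rw [hq]
    refine ⟨(u : Q), ⟨u, hu, rfl⟩, ?_⟩
    have h3 := congrArg Subtype.val (mul_comm (φ l u) a)
    simp only [Subgroup.coe_mul, hφval] at h3
    show q * (u : Q) * q⁻¹ = ((φ l u : A) : Q)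
    rw [hφval, ← hal]
    calc (a : Q) * l * (u : Q) * ((a : Q) * l)⁻¹
        = ((a : Q) * ((l : Q) * u * (l : Q)⁻¹)) * (a : Q)⁻¹ := by group
      _ = ((l : Q) * u * (l : Q)⁻¹ * a) * (a : Q)⁻¹ := by rw [h3]
      _ = _ := mul_inv_cancel_right _ _
  obtain ⟨hn35, h23, e, he⟩ := SubspaceTrans.linear_part (fun a => Subtype.ext (hAe _ a.2)) n hn hcard hLsol φ hφ ht
  -- the affine action
  let η : A → Q ⧸ L := fun a => QuotientGroup.mk (a : Q)
  have hηb : Function.Bijective η := by
    constructor
    · intro a b hab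
      have := QuotientGroup.eq.1 hab
      exact (inv_mul_eq_one.1 (Subtype.ext (Subgroup.disjoint_def.1 hL.disjoint
        (A.mul_mem (A.inv_mem a.2) b.2) this) : a⁻¹ * b = 1))
    · intro z
      induction z using QuotientGroup.induction_on with
      | _ q =>
        obtain ⟨⟨a, l⟩, hal⟩ := hL.2 q
        refine ⟨a, QuotientGroup.eq.2 ?_⟩
        rw [← hal]
        show (a : Q)⁻¹ * ((a : Q) * l) ∈ L
        rw [inv_mul_cancel_left]
        exact l.2
  let ζ : Q ⧸ L ≃ GaloisField p n := ((Equiv.ofBijective η hηb).symm.trans Additive.ofMul).trans e.toEquiv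
  have hζ : ∀ a : A, ζ (η a) = e (Additive.ofMul a) := fun a => by
    show e (Additive.ofMul ((Equiv.ofBijective η hηb).symm (Equiv.ofBijective η hηb a))) = _
    rw [Equiv.symm_apply_apply]
  let Φ : Q →* Equiv.Perm (GaloisField p n) :=
    (ζ.permCongrHom.toMonoidHom).comp (MulAction.toPermHom Q (Q ⧸ L))
  have hΦapp : ∀ q x, Φ q x = ζ (q • ζ.symm x) := fun q x => rfl
  have hform : ∀ (a : A) (l : L) (u : A),
      Φ ((a : Q) * l) (e (Additive.ofMul u)) = e (Additive.ofMul (φ l u)) + e (Additive.ofMul a) := by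
    intro a l u
    have h1 : ζ.symm (e (Additive.ofMul u)) = η u := by rw [← hζ, Equiv.symm_apply_apply]
    rw [hΦapp, h1]
    let w : A := a * φ l u
    have h2 : ((a : Q) * l) • η u = η w := by
      show QuotientGroup.mk ((a : Q) * l * (u : Q)) = QuotientGroup.mk (w : Q)
      refine QuotientGroup.eq.2 ?_
      have : (w : Q) = (a : Q) * ((l : Q) * u * (l : Q)⁻¹) := by
        show ((a * φ l u : A) : Q) = _
        rw [Subgroup.coe_mul, hφval]
      rw [this, show ((a : Q) * l * (u : Q))⁻¹ * ((a : Q) * ((l : Q) * u * (l : Q)⁻¹)) = (l : Q)⁻¹ by group]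
      exact L.inv_mem l.2
    rw [h2, hζ, show Additive.ofMul w = Additive.ofMul a + Additive.ofMul (φ l u) from rfl, map_add,
      add_comm]
  have hmem : ∀ q, Φ q ∈ Cfsg.semiaffineGroup (GaloisField p n) := by
    intro q
    obtain ⟨⟨a, l⟩, rfl⟩ := hL.2 q
    obtain ⟨c, σ, hc, hσ⟩ := he l
    refine ⟨Units.mk0 c hc, e (Additive.ofMul a), σ, fun x => ?_⟩
    obtain ⟨v, rfl⟩ := e.surjective x
    show Φ ((a : Q) * l) (e (Additive.ofMul v.toMul)) = c * σ (e v) + e (Additive.ofMul a)
    rw [hform, hσ, ofMul_toMul]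
  have hΦinj : Function.Injective Φ := by
    rw [injective_iff_map_eq_one]
    intro q hq
    obtain ⟨⟨a, l⟩, rfl⟩ := hL.2 q
    have h0 := hform a l 1
    rw [show Φ ((a : Q) * l) = 1 from hq, Equiv.Perm.one_apply, map_one (φ l), ofMul_one, map_zero,
      zero_add] at h0
    have ha : a = 1 := Additive.ofMul.injective (e.injective (h0.symm.trans (map_zero e).symm))
    subst ha
    have hl : φ l = 1 := MulEquiv.ext fun v => Additive.ofMul.injective (e.injective (by
      have h1 := hform 1 l v
      rw [show Φ (((1 : A) : Q) * l) = 1 from hq, Equiv.Perm.one_apply, ofMul_one, map_zero,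
        add_zero] at h1
      exact h1.symm))
    show ((1 : A) : Q) * (l : Q) = 1
    rw [hφ (hl.trans (map_one φ).symm), Subgroup.coe_one, Subgroup.coe_one, one_mul]
  let f : Q →* Cfsg.semiaffineGroup (GaloisField p n) := Φ.codRestrict _ hmem
  have hf : Function.Injective f := fun a b h => hΦinj (congrArg Subtype.val h)
  have hQcard : Nat.card Q = p ^ n * Nat.card L := by
    rw [← Subgroup.card_mul_index A, hcard, hLc]
  rcases hn35 with rfl | ⟨rfl, rfl, hL155⟩
  · refine Or.inl ⟨rfl, ⟨f, hf⟩, ?_⟩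
    rintro rfl
    rcases h23 rfl rfl with h7 | h21
    · right
      have hmem' : ∀ q, Φ q ∈ Cfsg.affineGroup (GaloisField 2 3) := by
        intro q
        obtain ⟨⟨a, l⟩, rfl⟩ := hL.2 q
        obtain ⟨c, σ, hc, hσ⟩ := he l
        -- the field automorphism has order dividing three and seven
        have hpow : ∀ k : ℕ, ∃ d : GaloisField 2 3, ∀ u : A,
            e (Additive.ofMul (φ (l ^ k) u)) = d * (σ ^ k) (e (Additive.ofMul u)) := by
          intro k
          induction k with
          | zero => exact ⟨1, fun v => by simp⟩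
          | succ k ih =>
            obtain ⟨d, hd⟩ := ih
            refine ⟨c * σ d, fun v => ?_⟩
            rw [pow_succ', map_mul, MulAut.mul_apply, hσ, hd, map_mul, ← mul_assoc, pow_succ']
            rfl
        obtain ⟨d, hd⟩ := hpow 7
        have hl7 : l ^ 7 = 1 := h7 ▸ pow_card_eq_one'
        rw [hl7, map_one] at hd
        have hσ7 : σ ^ 7 = 1 := RingEquiv.ext fun x => by
          obtain ⟨v, rfl⟩ := e.surjective x
          obtain ⟨w, hw⟩ := e.surjective 1
          have h1 := hd w.toMul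
          rw [MulAut.one_apply, ofMul_toMul, hw, map_one, mul_one] at h1
          have h2 := hd v.toMul
          rw [MulAut.one_apply, ofMul_toMul, ← h1, one_mul] at h2
          exact h2.symm
        haveI : Finite (GaloisField 2 3 ≃+* GaloisField 2 3) :=
          Finite.of_injective (fun σ => (σ : GaloisField 2 3 → GaloisField 2 3)) DFunLike.coe_injective
        have hσ3 : σ ^ 3 = 1 := by
          have h0 : σ ^ Nat.card (GaloisField 2 3 ≃+* GaloisField 2 3) = 1 := pow_card_eq_one'
          rw [SubspaceTrans.card_ringAut (p := 2) (n := 3) (by norm_num)] at h0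
          exact h0
        have hσ1 : σ = 1 := by
          calc σ = σ ^ 7 * ((σ ^ 3) ^ 2)⁻¹ := by group
            _ = 1 := by rw [hσ7, hσ3, one_pow, inv_one, one_mul]
        refine ⟨Units.mk0 c hc, e (Additive.ofMul a), fun x => ?_⟩
        obtain ⟨v, rfl⟩ := e.surjective x
        show Φ ((a : Q) * l) (e (Additive.ofMul v.toMul)) = c * e v + e (Additive.ofMul a)
        rw [hform, hσ, ofMul_toMul, hσ1]
        rfl
      let g : Q →* Cfsg.affineGroup (GaloisField 2 3) := Φ.codRestrict _ hmem'
      have hg : Function.Injective g := fun a b h => hΦinj (congrArg Subtype.val h)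
      refine ⟨MulEquiv.ofBijective g ((Nat.bijective_iff_injective_and_card g).2 ⟨hg,
        le_antisymm (Nat.card_le_card_of_injective g hg) ?_⟩)⟩
      rw [hQcard, h7]
      exact SubspaceTrans.card_affine_le (p := 2) (n := 3) (by norm_num)
    · left
      refine ⟨MulEquiv.ofBijective f ((Nat.bijective_iff_injective_and_card f).2 ⟨hf,
        le_antisymm (Nat.card_le_card_of_injective f hf) ?_⟩)⟩
      rw [hQcard, h21]
      exact SubspaceTrans.card_semiaffine_le (p := 2) (n := 3) (by norm_num)
  · refine Or.inr ⟨rfl, rfl, ⟨MulEquiv.ofBijective f ((Nat.bijective_iff_injective_and_card f).2 ⟨hf,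
      le_antisymm (Nat.card_le_card_of_injective f hf) ?_⟩)⟩⟩
    refine (SubspaceTrans.card_semiaffine_le (p := 2) (n := 5) (by norm_num)).trans ?_
    rw [hQcard]
    exact Nat.mul_le_mul_left _ (le_trans (by norm_num) hL155)


/-- Let p be a prime and G a finite group in which any two p-subgroups of the same order are conjugate, and suppose a Sylow p-subgroup P of G is elementary abelian of order pⁿ with n ≥ 3. Let N be the normalizer of P and K the largest normal subgroup of N of order prime to p, and assume N/K is solvable. Then either n = 3 and N/K embeds in the one-dimensional semi-affine group over the field with p³ elements (and for p = 2 it is isomorphic to the affine or the semi-affine group over the field with 8 elements), or n = 5, p = 2 and N/K is isomorphic to the one-dimensional semi-affine group over the field with 32 elements. -/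
theorem result {G : Type*} [Group G] [Finite G]
    {p : ℕ} [Fact p.Prime] (hC : ∀ H K : Subgroup G, IsPGroup p H → IsPGroup p K → Nat.card H = Nat.card K →
      ∃ g : G, K = H.map (MulAut.conj g).toMonoidHom) (P : Sylow p G) (n : ℕ) (hn : 3 ≤ n)
    (hel : Cfsg.IsElementaryAbelian p (P : Subgroup G)) (hcard : Nat.card P = p ^ n)
    (N : Subgroup G) (hN : N = Subgroup.normalizer ((P : Subgroup G) : Set G))
    (hsolv : Group.IsSolvable (↥N ⧸ Cfsg.pPrimeCore p ↥N)) :
    (n = 3 ∧ (∃ f : ↥N ⧸ Cfsg.pPrimeCore p ↥N →* ↥(Cfsg.semiaffineGroup (GaloisField p 3)), Function.Injective f) ∧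
      (p = 2 → Nonempty (↥N ⧸ Cfsg.pPrimeCore p ↥N ≃* Cfsg.semiaffineGroup (GaloisField 2 3)) ∨
               Nonempty (↥N ⧸ Cfsg.pPrimeCore p ↥N ≃* Cfsg.affineGroup (GaloisField 2 3)))) ∨
    (n = 5 ∧ p = 2 ∧ Nonempty (↥N ⧸ Cfsg.pPrimeCore p ↥N ≃* Cfsg.semiaffineGroup (GaloisField 2 5))) := by
  subst hN
  haveI hpf : Fact p.Prime := inferInstance
  obtain ⟨hPc, hPe⟩ := hel
  let N := Subgroup.normalizer ((P : Subgroup G) : Set G)
  let K := Cfsg.pPrimeCore p N
  let PN := (P : Subgroup G).subgroupOf N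
  have hPle : (P : Subgroup G) ≤ N := Subgroup.le_normalizer
  haveI : PN.Normal := Subgroup.normal_in_normalizer
  have hPNc : Nat.card PN = p ^ n :=
    (Nat.card_congr (Subgroup.subgroupOfEquivOfLe hPle).toEquiv).trans hcard
  have hKco : (Nat.card K).Coprime p := PSolvable.pPrimeCore_coprime
  have hdisj : Disjoint PN K := Subgroup.disjoint_of_coprime_natCard
    (by rw [hPNc]; exact (hKco.symm.pow_left n))
  let π := QuotientGroup.mk' K
  let A := PN.map π
  haveI : A.Normal := Subgroup.Normal.map inferInstance π (QuotientGroup.mk'_surjective K)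
  have hinj : ∀ a ∈ PN, π a = 1 → a = 1 := fun a ha h1 =>
    Subgroup.disjoint_def.1 hdisj ha ((QuotientGroup.eq_one_iff a).1 h1)
  have hAcard : Nat.card A = p ^ n := by
    rw [← hPNc]
    refine (Nat.card_eq_of_bijective (fun a : PN => (⟨π a, a, a.2, rfl⟩ : A))
      ⟨fun a b e => ?_, fun ⟨_, a, ha, rfl⟩ => ⟨⟨a, ha⟩, rfl⟩⟩).symm
    have e' : π a = π b := congrArg Subtype.val e
    refine (inv_mul_eq_one.1 ?_ : a = b)
    exact Subtype.ext (hinj _ (PN.mul_mem (PN.inv_mem a.2) b.2) (by
      rw [Subgroup.coe_mul, Subgroup.coe_inv, map_mul, map_inv, e', inv_mul_cancel]))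
  have hidxN : ¬ p ∣ PN.index := fun hd => P.not_dvd_index (hd.trans (Subgroup.relIndex_dvd_index_of_le hPle))
  refine core hsolv A ⟨⟨?_⟩⟩ ?_ n hn hAcard ?_ ?_ ?_
  · rintro ⟨_, a, ha, rfl⟩ ⟨_, b, hb, rfl⟩
    refine Subtype.ext ?_
    show π a * π b = π b * π a
    rw [← map_mul, ← map_mul]
    exact congrArg π (Subtype.ext (show (a : G) * (b : G) = (b : G) * (a : G) from
      congrArg Subtype.val (hPc.is_comm.comm (⟨(a : G), ha⟩ : (P : Subgroup G)) ⟨(b : G), hb⟩)))
  · rintro _ ⟨a, ha, rfl⟩
    rw [← map_pow, show a ^ p = 1 from Subtype.ext (hPe _ ha), map_one]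
  · exact fun hd => hidxN (hd.trans (Subgroup.index_map_dvd _ (QuotientGroup.mk'_surjective K)))
  · intro q hq
    obtain ⟨g, rfl⟩ := QuotientGroup.mk'_surjective K q
    -- `g` centralises `P`
    have hg : ∀ a ∈ PN, g * a = a * g := by
      intro a ha
      have h1 : π (g * a * g⁻¹ * a⁻¹) = 1 := by
        rw [map_mul, map_mul, map_mul, map_inv, map_inv, hq _ ⟨a, ha, rfl⟩, mul_inv_cancel_right,
          mul_inv_cancel]
      have h2 := hinj _ (PN.mul_mem (Subgroup.Normal.conj_mem inferInstance a ha g) (PN.inv_mem ha)) h1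
      exact mul_inv_eq_iff_eq_mul.1 (mul_inv_eq_one.1 h2)
    let C := Subgroup.centralizer (PN : Set N)
    haveI : C.Normal := Subgroup.normal_centralizer
    have hPC : PN ≤ C := fun a ha => Subgroup.mem_centralizer_iff.2 fun b hb =>
      Subtype.ext (show (b : G) * (a : G) = (a : G) * (b : G) from
        congrArg Subtype.val (hPc.is_comm.comm (⟨(b : G), hb⟩ : (P : Subgroup G)) ⟨(a : G), ha⟩))
    -- split `g` into its parts
    obtain ⟨u, v, huv, hcuv, ⟨k, hu⟩, hv, hug, hvg⟩ :=
      Cfsg.Agent.Lib.ClassSize.exists_pParts (p := p) g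
    have huPN : u ∈ PN := by
      have hnd : ¬ p ∣ PN.index := hidxN
      rw [← QuotientGroup.eq_one_iff, ← orderOf_eq_one_iff]
      refine Nat.eq_one_of_dvd_coprimes ((hpf.out.coprime_iff_not_dvd.2 hnd).pow_left k)
        (hu ▸ orderOf_map_dvd (QuotientGroup.mk' PN) u) ?_
      exact orderOf_dvd_natCard _
    have hgC : g ∈ C := Subgroup.mem_centralizer_iff.2 fun a ha => (hg a ha).symm
    have hvC : v ∈ C := Subgroup.zpowers_le.2 hgC hvg
    -- the coprime elements of `C` lie in `K`
    have hvK : v ∈ K := by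
      let PC : Sylow p C := (show IsPGroup p (PN.subgroupOf C) from
        (IsPGroup.of_card (n := n) hPNc).comap_of_injective C.subtype Subtype.val_injective).toSylow
          fun hd => hidxN (hd.trans (Subgroup.relIndex_dvd_index_of_le hPC))
      have hle : Subgroup.normalizer ((PC : Subgroup C) : Set C) ≤
          Subgroup.centralizer ((PC : Subgroup C) : Set C) := by
        intro c _
        refine Subgroup.mem_centralizer_iff.2 fun b hb => Subtype.ext ?_
        exact Subgroup.mem_centralizer_iff.1 c.2 (b : N) hb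
      have hcompl := MonoidHom.ker_transferSylow_isComplement' PC hle
      let T := (MonoidHom.transferSylow PC hle).ker
      haveI : T.Normal := inferInstanceAs (MonoidHom.transferSylow PC hle).ker.Normal
      have hTi : T.index = p ^ n := by
        rw [hcompl.symm.index_eq_card, ← hPNc]
        exact Nat.card_congr (Subgroup.subgroupOfEquivOfLe hPC).toEquiv
      have hTco : (Nat.card T).Coprime p := ((hpf.out.coprime_iff_not_dvd).2 (fun hd => by
        have h1 : T.index * 1 ∣ p ^ n := by rw [mul_one, hTi]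
        apply hidxN
        have h2 := Subgroup.card_mul_index T
        rw [hTi, ← hPNc] at h2
        have h3 : Nat.card C = Nat.card PN * PN.relIndex C := by
          rw [Subgroup.relIndex, ← Nat.card_congr (Subgroup.subgroupOfEquivOfLe hPC).toEquiv,
            Subgroup.card_mul_index]
        rw [h3, mul_comm (Nat.card T)] at h2
        have h4 : Nat.card T = PN.relIndex C :=
          Nat.eq_of_mul_eq_mul_left Nat.card_pos h2
        exact (h4 ▸ hd).trans (Subgroup.relIndex_dvd_index_of_le hPC))).symm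
      haveI : T.Characteristic := by
        refine Subgroup.characteristic_iff_map_le.2 fun φ => ?_
        rintro _ ⟨t, ht, rfl⟩
        rw [← QuotientGroup.eq_one_iff, ← orderOf_eq_one_iff]
        refine Nat.eq_one_of_dvd_coprimes ?_ (orderOf_map_dvd (QuotientGroup.mk' T) (φ t))
          (orderOf_dvd_natCard _)
        show (orderOf (φ t)).Coprime T.index
        rw [hTi, MulEquiv.orderOf_eq φ t]
        exact (Nat.Coprime.coprime_dvd_left (by
          rw [show t = ((⟨t, ht⟩ : T) : C) from rfl, Subgroup.orderOf_coe]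
          exact orderOf_dvd_natCard _) hTco).pow_right n
      have hmapN : (T.map C.subtype).Normal := inferInstance
      have hTK : T.map C.subtype ≤ K := PSolvable.le_pPrimeCore (by
        rw [Subgroup.card_map_of_injective C.subtype_injective]; exact hTco)
      refine hTK ⟨⟨v, hvC⟩, ?_, rfl⟩
      rw [SetLike.mem_coe, ← QuotientGroup.eq_one_iff, ← orderOf_eq_one_iff]
      refine Nat.eq_one_of_dvd_coprimes ?_ (orderOf_map_dvd (QuotientGroup.mk' T) (⟨v, hvC⟩ : C))
        (orderOf_dvd_natCard _)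
      show (orderOf (⟨v, hvC⟩ : C)).Coprime T.index
      rw [hTi, Subgroup.orderOf_mk]
      exact hv.pow_right n
    refine ⟨u, huPN, ?_⟩
    rw [huv, map_mul, show π v = 1 from (QuotientGroup.eq_one_iff v).2 hvK, mul_one]
  · intro U W hU hW hUW
    have hback : ∀ X : Subgroup (N ⧸ K), X ≤ A → ∃ X' : Subgroup G, X' ≤ (P : Subgroup G) ∧
        X' ≤ N ∧ (X'.subgroupOf N).map π = X ∧ Nat.card X' = Nat.card X := by
      intro X hX
      refine ⟨(PN ⊓ X.comap π).map N.subtype, ?_, Subgroup.map_subtype_le _, ?_, ?_⟩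
      · rintro _ ⟨a, ha, rfl⟩
        exact ha.1
      · rw [← Subgroup.comap_subtype, Subgroup.comap_map_eq_self_of_injective N.subtype_injective]
        refine le_antisymm ?_ fun x hx => ?_
        · rintro _ ⟨a, ha, rfl⟩
          exact ha.2
        · obtain ⟨a, ha, rfl⟩ := hX hx
          exact ⟨a, ⟨ha, hx⟩, rfl⟩
      · rw [Subgroup.card_map_of_injective N.subtype_injective]
        refine Nat.card_eq_of_bijective (fun a : (PN ⊓ X.comap π : Subgroup N) =>
          (⟨π a, a.2.2⟩ : X)) ⟨fun a b e => ?_, fun ⟨x, hx⟩ => ?_⟩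
        · have e' : π a = π b := congrArg Subtype.val e
          refine (inv_mul_eq_one.1 ?_ : a = b)
          exact Subtype.ext (hinj _ (PN.mul_mem (PN.inv_mem a.2.1) b.2.1) (by
            rw [Subgroup.coe_mul, Subgroup.coe_inv, map_mul, map_inv, e', inv_mul_cancel]))
        · obtain ⟨a, ha, rfl⟩ := hX hx
          exact ⟨⟨a, ha, hx⟩, rfl⟩
    obtain ⟨U', hU'P, hU'N, hU', hUc⟩ := hback U hU
    obtain ⟨W', hW'P, hW'N, hW', hWc⟩ := hback W hW
    obtain ⟨g, hg⟩ := hC U' W' (P.isPGroup'.to_le hU'P) (P.isPGroup'.to_le hW'P) (by rw [hUc, hWc, hUW])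
    obtain ⟨h, hh, hWh⟩ := exists_conj_normalizer P (fun a ha b hb =>
      congrArg Subtype.val (hPc.is_comm.comm ⟨a, ha⟩ ⟨b, hb⟩)) U' W' hU'P hW'P g hg
    refine ⟨π ⟨h, hh⟩, ?_⟩
    rw [← hW', ← hU', Subgroup.map_map]
    have : W'.subgroupOf N = (U'.subgroupOf N).map (MulAut.conj (⟨h, hh⟩ : N)).toMonoidHom := by
      ext w
      rw [Subgroup.mem_subgroupOf, hWh]
      constructor
      · rintro ⟨u, hu, e⟩
        exact ⟨⟨u, hU'N hu⟩, hu, Subtype.ext e⟩
      · rintro ⟨u, hu, rfl⟩
        exact ⟨u, hu, rfl⟩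
    rw [this, Subgroup.map_map]
    congr 1


end Cfsg.Agent.S4025
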