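import Cfsg.Statements.S4027
import Mathlib
import Cfsg.Agent.Lib.Elem69.RealOdd


set_option autoImplicit false
open Cfsg

namespace Cfsg.Agent.S4027

/-- Let G be a finite group in which every element x of odd order satisfies N_G(⟨x⟩) = C_G(x). Then the Sylow 2-subgroups of G are normal. -/
theorem result {G : Type*} [Group G] [Finite G]
    (hirr : ∀ x : G, (∀ r : ℕ, r.Prime → r ∣ orderOf x → r ≠ 2) →
      Subgroup.normalizer ((Subgroup.zpowers x : Subgroup G) : Set G) ≤ Subgroup.centralizer {x}) (P : Sylow 2 G) :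
    (P : Subgroup G).Normal := by
  refine Cfsg.Agent.Lib.Elem69.sylow_two_normal_of_no_real_odd (fun x g hx hg => ?_) P
  have hr : ∀ r : ℕ, r.Prime → r ∣ orderOf x → r ≠ 2 := by
    intro r _ hd h2
    subst h2
    exact (Nat.not_even_iff_odd.mpr hx) (even_iff_two_dvd.mpr hd)
  have hm : g ∈ Subgroup.normalizer ((Subgroup.zpowers x : Subgroup G) : Set G) := by
    rw [Subgroup.mem_normalizer_iff_map_conj_eq, MonoidHom.map_zpowers]
    simp [MulAut.conj_apply, hg]
  have hc := Subgroup.mem_centralizer_singleton_iff.mp (hirr x hr hm)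
  have hsq : x ^ 2 = 1 := by
    rw [pow_two, mul_eq_one_iff_eq_inv, ← hg, hc]
    group
  have := orderOf_dvd_of_pow_eq_one hsq
  rcases (Nat.dvd_prime Nat.prime_two).mp this with h1 | h1
  · exact orderOf_eq_one_iff.mp h1
  · exact absurd h1 (fun h => hr 2 Nat.prime_two h.symm.dvd rfl)

end Cfsg.Agent.S4027
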