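import Cfsg.Statements.S4028
import Mathlib
-- import your own Cfsg.Agent.* helpers here

set_option autoImplicit false
open Cfsg

namespace Cfsg.Agent.S4028

/-- Let G be a finite group with Sylow 2-subgroup P. Then N_G(⟨x⟩) = C_G(x) holds for every 2-element x of G if and only if N_P(⟨y⟩) = C_P(y) holds for every y ∈ P (computed inside P). -/
theorem result {G : Type*} [Group G] [Finite G] (P : Sylow 2 G) :
    (∀ x : G, (∀ r : ℕ, r.Prime → r ∣ orderOf x → r = 2) →
      Subgroup.normalizer ((Subgroup.zpowers x : Subgroup G) : Set G) ≤ Subgroup.centralizer {x}) ↔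
    (∀ y : ↥(P : Subgroup G), Subgroup.normalizer ((Subgroup.zpowers y : Subgroup ↥(P : Subgroup G)) : Set ↥(P : Subgroup G)) ≤
        Subgroup.centralizer {y}) := by
  classical
  constructor
  · intro h y g hg
    have h2 : ∀ r : ℕ, r.Prime → r ∣ orderOf (y : G) → r = 2 := by
      intro r hr hd
      obtain ⟨k, hk⟩ := IsPGroup.iff_orderOf.mp P.isPGroup' y
      rw [Subgroup.orderOf_coe, hk] at hd
      exact (Nat.prime_dvd_prime_iff_eq hr Nat.prime_two).mp (hr.dvd_of_dvd_pow hd)
    have hgn : (g : G) ∈ Subgroup.normalizer ((Subgroup.zpowers (y : G) : Subgroup G) : Set G) := by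
      rw [Subgroup.mem_normalizer_iff_map_conj_eq, MonoidHom.map_zpowers] at hg ⊢
      have := congrArg (Subgroup.map (P : Subgroup G).subtype) hg
      rw [MonoidHom.map_zpowers, MonoidHom.map_zpowers] at this
      simpa [MulAut.conj_apply] using this
    have := Subgroup.mem_centralizer_singleton_iff.mp (h _ h2 hgn)
    exact Subgroup.mem_centralizer_singleton_iff.mpr (Subtype.ext this)
  · intro h x hx
    set N := Subgroup.normalizer ((Subgroup.zpowers x : Subgroup G) : Set G) with hN
    set C := Subgroup.centralizer ({x} : Set G) with hC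
    have hxN : Subgroup.zpowers x ≤ N := Subgroup.le_normalizer
    obtain ⟨S⟩ : Nonempty (Sylow 2 N) := inferInstance
    haveI hnorm : ((Subgroup.zpowers x).subgroupOf N).Normal := Subgroup.normal_in_normalizer
    have hX2 : IsPGroup 2 ((Subgroup.zpowers x).subgroupOf N) := by
      apply IsPGroup.of_card (n := (orderOf x).primeFactorsList.length)
      rw [Nat.card_congr (Subgroup.subgroupOfEquivOfLe hxN).toEquiv, Nat.card_zpowers]
      exact Nat.eq_prime_pow_of_unique_prime_dvd (orderOf_pos x).ne' (fun {d} hd hdd => hx d hd hdd)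
    have hXS : (Subgroup.zpowers x).subgroupOf N ≤ S := hX2.le_sylow_of_normal S
    set T := (S : Subgroup N).map N.subtype with hT
    have hT2 : IsPGroup 2 T := S.isPGroup'.map _
    obtain ⟨Q, hTQ⟩ := hT2.exists_le_sylow
    obtain ⟨g, hg⟩ := MulAction.exists_smul_eq G Q P
    have hxT : x ∈ T := by
      refine ⟨⟨x, hxN (Subgroup.mem_zpowers x)⟩, hXS ?_, rfl⟩
      exact Subgroup.mem_subgroupOf.mpr (Subgroup.mem_zpowers x)
    have hmem : ∀ t ∈ T, g * t * g⁻¹ ∈ P := by
      intro t ht
      rw [← hg]
      exact Subgroup.mem_map.mpr ⟨t, hTQ ht, rfl⟩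
    have hTC : T ≤ C := by
      intro t ht
      let y : P := ⟨g * x * g⁻¹, hmem x hxT⟩
      let u : P := ⟨g * t * g⁻¹, hmem t ht⟩
      have htN : t ∈ N := by obtain ⟨t', -, rfl⟩ := ht; exact t'.2
      have hu : u ∈ Subgroup.normalizer ((Subgroup.zpowers y : Subgroup P) : Set P) := by
        rw [Subgroup.mem_normalizer_iff_map_conj_eq, MonoidHom.map_zpowers]
        apply Subgroup.map_injective (P : Subgroup G).subtype_injective
        rw [MonoidHom.map_zpowers, MonoidHom.map_zpowers]
        rw [hN, Subgroup.mem_normalizer_iff_map_conj_eq, MonoidHom.map_zpowers] at htN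
        have := congrArg (Subgroup.map (MulAut.conj g).toMonoidHom) htN
        rw [MonoidHom.map_zpowers, MonoidHom.map_zpowers] at this
        simpa [y, u, MulAut.conj_apply, mul_assoc] using this
      have := congrArg Subtype.val (Subgroup.mem_centralizer_singleton_iff.mp (h y hu))
      rw [hC, Subgroup.mem_centralizer_singleton_iff]
      simp only [y, u, Subgroup.coe_mul] at this
      apply mul_left_cancel (a := g)
      apply mul_right_cancel (b := g⁻¹)
      simpa [mul_assoc] using this
    have hnd : ¬ 2 ∣ C.relIndex N := by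
      intro hd
      apply S.not_dvd_index
      refine hd.trans (Subgroup.index_dvd_of_le ?_)
      exact fun s hs => Subgroup.mem_subgroupOf.mpr (hTC ⟨s, hs, rfl⟩)
    by_contra hle
    obtain ⟨n, hn, hnC⟩ := SetLike.not_le_iff_exists.mp hle
    -- the relative index divides the order of the automorphism group of a cyclic 2-group
    have hcomm : n * x * n⁻¹ ∈ Subgroup.zpowers x :=
      (Subgroup.mem_normalizer_iff.mp hn x).mp (Subgroup.mem_zpowers x)
    let φ : N →* MulAut (Subgroup.zpowers x) :=
      (Subgroup.zpowers x).normalizerMonoidHom.comp (Subgroup.inclusion le_rfl)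
    have hker : φ.ker = C.subgroupOf N := by
      ext ⟨m, hm⟩
      simp only [MonoidHom.mem_ker, Subgroup.mem_subgroupOf, hC, Subgroup.mem_centralizer_singleton_iff, φ,
        MonoidHom.comp_apply, MulEquiv.ext_iff, Subtype.ext_iff, Subgroup.normalizerMonoidHom_apply_apply_coe,
        Subgroup.coe_inclusion, MulAut.one_apply]
      constructor
      · intro hh
        have := hh ⟨x, Subgroup.mem_zpowers x⟩
        exact mul_inv_eq_iff_eq_mul.mp this
      · rintro hh ⟨_, k, rfl⟩
        have : Commute m x := hh
        exact mul_inv_eq_iff_eq_mul.mpr (this.zpow_right k).eq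
    have hdiv : C.relIndex N ∣ Nat.card (MulAut (Subgroup.zpowers x)) := by
      rw [Subgroup.relIndex, ← hker, Subgroup.index_ker]
      exact Subgroup.card_subgroup_dvd_card _
    rw [IsCyclic.card_mulAut, Nat.card_zpowers] at hdiv
    have hne1 : C.relIndex N ≠ 1 := fun h1 => hnC (Subgroup.relIndex_eq_one.mp h1 hn)
    obtain ⟨r, hr, hrd⟩ := Nat.exists_prime_and_dvd hne1
    apply hnd
    suffices r = 2 by rwa [this] at hrd
    have hpow := Nat.eq_prime_pow_of_unique_prime_dvd (orderOf_pos x).ne' (fun {d} hd hdd => hx d hd hdd)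
    have hr' := hrd.trans hdiv
    rw [hpow] at hr'
    rcases Nat.eq_zero_or_pos ((orderOf x).primeFactorsList.length) with h0 | h0
    · rw [h0, pow_zero, Nat.totient_one] at hr'
      exact absurd (Nat.dvd_one.mp hr') hr.ne_one
    · rw [Nat.totient_prime_pow Nat.prime_two h0] at hr'
      norm_num at hr'
      exact (Nat.prime_dvd_prime_iff_eq hr Nat.prime_two).mp (hr.dvd_of_dvd_pow hr')

end Cfsg.Agent.S4028
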