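import Cfsg.Statements.S4029
import Mathlib
-- import your own Cfsg.Agent.* helpers here

set_option autoImplicit false
open Cfsg

namespace Cfsg.Agent.S4029

variable {P : Type*} [Group P]

lemma sq_mem_frattini [Finite P] (hP : IsPGroup 2 P) (a : P) : a * a ∈ frattini P := by
  classical
  rw [frattini, Order.radical]
  simp only [Subgroup.mem_iInf]
  intro M hM
  have := hP.isNilpotent
  have hMn : M.Normal := Subgroup.NormalizerCondition.normal_of_coatom M Group.normalizerCondition_of_isNilpotent hM
  have h2 : IsPGroup 2 (P ⧸ M) := hP.to_quotient M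
  by_contra hne
  have hane : a ∉ M := fun h => hne (mul_mem h h)
  -- the quotient has an element of order two generating it
  obtain ⟨k, hk⟩ := (hP.to_quotient M) (QuotientGroup.mk a)
  have hk0 : k ≠ 0 := by
    rintro rfl
    apply hane
    simpa [QuotientGroup.eq_one_iff] using hk
  have hex : ∃ j, (a : P ⧸ M) ^ 2 ^ j = 1 := ⟨k, hk⟩
  have hj := Nat.find_spec hex
  have hj2 : 2 ≤ Nat.find hex := by
    by_contra hlt
    rcases Nat.lt_succ_iff.mp (not_le.mp hlt) |>.eq_or_lt with h1 | h1
    · rw [h1] at hj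
      apply hne
      rw [← QuotientGroup.eq_one_iff]
      simpa [sq] using hj
    · rw [Nat.lt_one_iff.mp h1] at hj
      apply hane
      simpa [QuotientGroup.eq_one_iff] using hj
  let b : P := a ^ 2 ^ (Nat.find hex - 1)
  have hb : b ∉ M := by
    rw [← QuotientGroup.eq_one_iff, QuotientGroup.mk_pow]
    exact Nat.find_min hex (by omega)
  have hb2 : b ^ 2 ∈ M := by
    rw [← QuotientGroup.eq_one_iff, ← pow_mul, ← pow_succ, show Nat.find hex - 1 + 1 = Nat.find hex by omega,
      QuotientGroup.mk_pow]
    exact hj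
  have htop : M ⊔ Subgroup.zpowers b = ⊤ := hM.2 _ (lt_of_le_of_ne le_sup_left fun h => hb (h ▸ Subgroup.mem_sup_right (Subgroup.mem_zpowers b)))
  have haM : a ∈ M ⊔ Subgroup.zpowers b := htop ▸ Subgroup.mem_top a
  obtain ⟨m, hm, y, ⟨n, rfl⟩, hy⟩ := (Subgroup.mem_sup_of_normal_left (t := Subgroup.zpowers b)).mp haM
  have hae : (a : P ⧸ M) = (b : P ⧸ M) ^ n := by
    rw [← hy, QuotientGroup.mk_mul, (QuotientGroup.eq_one_iff m).mpr hm, one_mul]; simp
  apply hne
  rw [← QuotientGroup.eq_one_iff, QuotientGroup.mk_mul, hae, ← zpow_add, show n + n = (2:ℤ) * n by ring,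
    zpow_mul, zpow_ofNat, ← QuotientGroup.mk_pow, (QuotientGroup.eq_one_iff _).mpr hb2, one_zpow]

lemma card_sq_pairs [Fintype P] [DecidableEq P] :
    (Fintype.card P) ^ 2 ≤ (Finset.univ.image fun a : P => a * a).card *
      (Finset.univ.filter fun x : P × P => x.1 * x.1 = x.2 * x.2).card := by
  classical
  set I := Finset.univ.image fun a : P => a * a
  have h1 : Fintype.card P = ∑ z ∈ I, (Finset.univ.filter fun a : P => a * a = z).card :=
    Finset.card_eq_sum_card_image _ _
  have h2 : (Finset.univ.filter fun x : P × P => x.1 * x.1 = x.2 * x.2).card =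
      ∑ z ∈ I, (Finset.univ.filter fun a : P => a * a = z).card ^ 2 := by
    rw [Finset.card_eq_sum_card_fiberwise (f := fun x : P × P => x.1 * x.1) (t := I)
      (fun x _ => Finset.mem_image_of_mem (fun a : P => a * a) (Finset.mem_univ x.1))]
    refine Finset.sum_congr rfl fun z _ => ?_
    rw [sq, ← Finset.card_product]
    congr 1
    ext ⟨a, b⟩
    simp only [Finset.mem_filter, Finset.mem_univ, true_and, Finset.mem_product]
    constructor
    · rintro ⟨h, h'⟩; exact ⟨h', h ▸ h'⟩
    · rintro ⟨h, h'⟩; exact ⟨h.trans h'.symm, h⟩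
  rw [h1, h2]
  exact sq_sum_le_card_mul_sum_sq

lemma centralizer_card_mul_carrier [Finite P] (g : P) :
    Nat.card (Subgroup.centralizer {g}) * Nat.card (ConjClasses.mk g).carrier = Nat.card P := by
  have h := MulAction.index_stabilizer (ConjAct P) g
  rw [ConjAct.orbit_eq_carrier_conjClasses, ConjAct.stabilizer_eq_centralizer] at h
  rw [Nat.card_coe_set_eq, ← h]
  exact Subgroup.card_mul_index _

/-- Let P be a finite 2-group in which N_P(⟨y⟩) = C_P(y) for every y ∈ P. If s is the number of conjugacy classes of involutions of P, then #(P/Φ(P)) ≤ s + 1; in particular the subgroup generated by the involutions of P has order at least #(P/Φ(P)). -/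
theorem result {P : Type*} [Group P] [Finite P] (hP : IsPGroup 2 P)
    (hirr : ∀ y : P, Subgroup.normalizer ((Subgroup.zpowers y : Subgroup P) : Set P) ≤ Subgroup.centralizer {y}) :
    Nat.card (P ⧸ frattini P) ≤ Nat.card {c : ConjClasses P // ∃ y : P, ConjClasses.mk y = c ∧ orderOf y = 2} + 1 ∧
    Nat.card (P ⧸ frattini P) ≤ Nat.card (Subgroup.closure {y : P | orderOf y = 2}) := by
  classical
  haveI := Fintype.ofFinite P
  -- pairs (g, h) with h g h⁻¹ = g⁻¹
  let A := Finset.univ.filter fun x : P × P => x.2 * x.1 * x.2⁻¹ = x.1⁻¹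
  have hA : A.card = (Finset.univ.filter fun x : P × P => x.1 * x.1 = x.2 * x.2).card := by
    refine Finset.card_nbij' (fun x => (x.2⁻¹ * x.1, x.2⁻¹)) (fun y => (y.2⁻¹ * y.1, y.2⁻¹)) ?_ ?_ ?_ ?_
    · rintro ⟨g, h⟩ hx
      simp only [A, Finset.coe_filter, Finset.mem_univ, true_and, Set.mem_ofPred_eq] at hx ⊢
      have : g * (h⁻¹ * g) = h⁻¹ := by
        have e : g * h⁻¹ = h⁻¹ * g⁻¹ := by rw [← hx]; group
        rw [← mul_assoc, e]; group
      rw [mul_assoc, this]
    · rintro ⟨a, b⟩ hx
      simp only [A, Finset.coe_filter, Finset.mem_univ, true_and, Set.mem_ofPred_eq] at hx ⊢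
      apply eq_inv_of_mul_eq_one_left
      calc b⁻¹ * (b⁻¹ * a) * b⁻¹⁻¹ * (b⁻¹ * a) = b⁻¹ * b⁻¹ * (a * a) := by group
        _ = 1 := by rw [hx]; group
    · intro x _; simp
    · intro x _; simp
  let T := Finset.univ.filter fun g : P => g * g = 1
  have hA' : A.card = ∑ g ∈ T, Nat.card (Subgroup.centralizer {g}) := by
    rw [Finset.card_eq_sum_card_fiberwise (f := Prod.fst) (t := Finset.univ) (fun _ _ => Finset.mem_univ _),
      eq_comm, Finset.sum_filter]
    refine Finset.sum_congr rfl fun g _ => ?_
    have hkey : ∀ h : P, h * g * h⁻¹ = g⁻¹ → g * g = 1 ∧ h * g = g * h := by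
      intro h hh
      have hm : h ∈ Subgroup.normalizer ((Subgroup.zpowers g : Subgroup P) : Set P) := by
        rw [Subgroup.mem_normalizer_iff_map_conj_eq, MonoidHom.map_zpowers]
        simp [MulAut.conj_apply, hh]
      have hc := Subgroup.mem_centralizer_singleton_iff.mp (hirr g hm)
      have : g = g⁻¹ := by rw [← hh, hc]; group
      exact ⟨mul_eq_one_iff_eq_inv.mpr this, hc⟩
    split_ifs with hg
    · rw [Nat.card_eq_fintype_card, Fintype.card_subtype]
      refine Finset.card_nbij' (fun h => (g, h)) (fun x => x.2) ?_ ?_ ?_ ?_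
      · intro h hh
        simp only [A, Finset.coe_filter, Finset.mem_univ, true_and, Set.mem_ofPred_eq, Finset.mem_filter,
          Subgroup.mem_centralizer_singleton_iff] at hh ⊢
        refine ⟨?_, trivial⟩
        rw [hh, mul_inv_cancel_right]
        exact mul_eq_one_iff_eq_inv.mp hg
      · rintro ⟨g', h⟩ hh
        simp only [A, Finset.coe_filter, Finset.mem_univ, true_and, Set.mem_ofPred_eq, Finset.mem_filter,
          Subgroup.mem_centralizer_singleton_iff] at hh ⊢
        obtain ⟨hh, rfl⟩ := hh
        exact (hkey h hh).2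
      · intro h _; rfl
      · rintro ⟨g', h⟩ hh
        simp only [A, Finset.coe_filter, Finset.mem_univ, true_and, Set.mem_ofPred_eq, Finset.mem_filter] at hh
        exact Prod.ext hh.2.symm rfl
    · symm
      rw [Finset.card_eq_zero, Finset.filter_eq_empty_iff]
      rintro ⟨g', h⟩ hh rfl
      simp only [A, Finset.mem_filter, Finset.mem_univ, true_and] at hh
      exact hg (hkey h hh).1
  have hsum : ∑ g ∈ T, Nat.card (Subgroup.centralizer {g}) = (T.image ConjClasses.mk).card * Nat.card P := by
    rw [← Finset.sum_fiberwise_of_maps_to (g := ConjClasses.mk) (t := T.image ConjClasses.mk)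
      (fun g hg => Finset.mem_image_of_mem _ hg)]
    rw [Finset.sum_const_nat]
    intro c hc
    obtain ⟨g₀, hg₀, rfl⟩ := Finset.mem_image.mp hc
    have hset : T.filter (fun g => ConjClasses.mk g = ConjClasses.mk g₀) =
        Finset.univ.filter (fun g => g ∈ (ConjClasses.mk g₀).carrier) := by
      ext g
      simp only [T, Finset.mem_filter, Finset.mem_univ, true_and, ConjClasses.mem_carrier_iff_mk_eq]
      refine ⟨fun h => h.2, fun h => ⟨?_, h⟩⟩
      obtain ⟨c, hc⟩ := isConj_iff.mp (ConjClasses.mk_eq_mk_iff_isConj.mp h).symm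
      have h0 : g₀ * g₀ = 1 := (Finset.mem_filter.mp hg₀).2
      rw [← hc, show c * g₀ * c⁻¹ * (c * g₀ * c⁻¹) = c * (g₀ * g₀) * c⁻¹ by group, h0]; group
    rw [hset]
    have hconst : ∀ g ∈ Finset.univ.filter (fun g => g ∈ (ConjClasses.mk g₀).carrier),
        Nat.card (Subgroup.centralizer {g}) = Nat.card (Subgroup.centralizer {g₀}) := by
      intro g hg
      have he : ConjClasses.mk g = ConjClasses.mk g₀ := ConjClasses.mem_carrier_iff_mk_eq.mp (Finset.mem_filter.mp hg).2
      have := centralizer_card_mul_carrier g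
      rw [he, ← centralizer_card_mul_carrier g₀] at this
      have hne : Nonempty (ConjClasses.mk g₀).carrier := ⟨⟨g₀, ConjClasses.mem_carrier_mk⟩⟩
      exact Nat.eq_of_mul_eq_mul_right Nat.card_pos this
    rw [Finset.sum_const_nat hconst, ← centralizer_card_mul_carrier g₀, mul_comm]
    congr 1
    rw [Nat.card_eq_fintype_card, Fintype.card_subtype]
  have hTi : (T.image ConjClasses.mk).card ≤
      Nat.card {c : ConjClasses P // ∃ y : P, ConjClasses.mk y = c ∧ orderOf y = 2} + 1 := by
    rw [Nat.card_eq_fintype_card, Fintype.card_subtype]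
    refine le_trans (Finset.card_le_card (t := insert (ConjClasses.mk 1) _) ?_) (Finset.card_insert_le _ _)
    intro c hc
    obtain ⟨g, hg, rfl⟩ := Finset.mem_image.mp hc
    rcases eq_or_ne g 1 with rfl | hg1
    · exact Finset.mem_insert_self _ _
    · refine Finset.mem_insert_of_mem (Finset.mem_filter.mpr ⟨Finset.mem_univ _, g, rfl, ?_⟩)
      exact orderOf_eq_prime (by simpa [T, sq] using hg) hg1
  have hI : (Finset.univ.image fun a : P => a * a).card ≤ Nat.card (frattini P) := by
    rw [Nat.card_eq_fintype_card, Fintype.card_subtype]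
    refine Finset.card_le_card fun z hz => ?_
    obtain ⟨a, _, rfl⟩ := Finset.mem_image.mp hz
    exact Finset.mem_filter.mpr ⟨Finset.mem_univ _, sq_mem_frattini hP a⟩
  set s := Nat.card {c : ConjClasses P // ∃ y : P, ConjClasses.mk y = c ∧ orderOf y = 2}
  have hfirst : Nat.card (P ⧸ frattini P) ≤ s + 1 := by
    have h := card_sq_pairs (P := P)
    rw [← hA, hA', hsum, ← Nat.card_eq_fintype_card] at h
    have h' : Nat.card P ^ 2 ≤ Nat.card (frattini P) * ((s + 1) * Nat.card P) :=
      h.trans (Nat.mul_le_mul hI (Nat.mul_le_mul_right _ hTi))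
    rw [Subgroup.card_eq_card_quotient_mul_card_subgroup (frattini P)] at h'
    have hp : 0 < Nat.card (frattini P) := Nat.card_pos
    have hq : 0 < Nat.card (P ⧸ frattini P) := Nat.card_pos
    refine Nat.le_of_mul_le_mul_right (c := Nat.card (frattini P) ^ 2 * Nat.card (P ⧸ frattini P)) ?_ (by positivity)
    linarith [h']
  refine ⟨hfirst, hfirst.trans ?_⟩
  set C := Subgroup.closure {y : P | orderOf y = 2}
  let f : Option {c : ConjClasses P // ∃ y : P, ConjClasses.mk y = c ∧ orderOf y = 2} → C :=
    fun o => o.elim 1 fun c => ⟨c.2.choose, Subgroup.subset_closure c.2.choose_spec.2⟩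
  have hf : Function.Injective f := by
    rintro (_ | c) (_ | d) h
    · rfl
    · have h2 := d.2.choose_spec.2
      have : (1 : P) = d.2.choose := congrArg Subtype.val h
      rw [← this, orderOf_one] at h2
      omega
    · have h2 := c.2.choose_spec.2
      have : c.2.choose = (1 : P) := congrArg Subtype.val h
      rw [this, orderOf_one] at h2
      omega
    · have : c.2.choose = d.2.choose := congrArg Subtype.val h
      exact congrArg some (Subtype.ext (by rw [← c.2.choose_spec.1, this, d.2.choose_spec.1]))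
  have := Nat.card_le_card_of_injective f hf
  rwa [Finite.card_option] at this

end Cfsg.Agent.S4029
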