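import Cfsg.Statements.S4032
import Mathlib
import Cfsg.Agent.Lib.SZ.Conjugacy
import Cfsg.Agent.Lib.Elem69.Basic


set_option autoImplicit false
open Cfsg
open scoped Pointwise

namespace Cfsg.Agent.S4032

/-- Let π be a set of primes and G a finite group in which N_G(⟨x⟩) = C_G(x) for every π-element x. If N is a normal subgroup of G whose order is divisible by no prime of π, then G/N has the same property: N_{G/N}(⟨y⟩) = C_{G/N}(y) for every π-element y of G/N. -/
theorem result {G : Type*} [Group G] [Finite G] (π : Set ℕ)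
    (hirr : ∀ x : G, (∀ r : ℕ, r.Prime → r ∣ orderOf x → r ∈ π) →
      Subgroup.normalizer ((Subgroup.zpowers x : Subgroup G) : Set G) ≤ Subgroup.centralizer {x})
    (N : Subgroup G) [N.Normal] (hN : ∀ r : ℕ, r.Prime → r ∣ Nat.card N → r ∉ π) :
    ∀ y : G ⧸ N, (∀ r : ℕ, r.Prime → r ∣ orderOf y → r ∈ π) →
      Subgroup.normalizer ((Subgroup.zpowers y : Subgroup (G ⧸ N)) : Set (G ⧸ N)) ≤ Subgroup.centralizer {y} := by
  classical
  intro y hy h hh
  obtain ⟨g, rfl⟩ := QuotientGroup.mk_surjective y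
  set n := orderOf (g : G ⧸ N) with hn
  have hnpos : 0 < n := orderOf_pos _
  have hcop : n.Coprime (Nat.card N) := by
    refine Nat.coprime_of_dvd fun r hr hrn hrN => hN r hr hrN (hy r hr hrn)
  obtain ⟨u, v, huv, hc, hu, hv, -, -⟩ :
      ∃ u v : G, u * v = g ∧ Commute u v ∧ u ^ n = 1 ∧ v ^ Nat.card N = 1 ∧ True ∧ True := by
    have hg : g ^ (n * Nat.card N) = 1 := by
      have hgN : g ^ n ∈ N := by
        rw [← QuotientGroup.eq_one_iff, QuotientGroup.mk_pow]; exact pow_orderOf_eq_one _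
      rw [pow_mul]
      exact orderOf_dvd_iff_pow_eq_one.mp (N.orderOf_dvd_natCard hgN)
    obtain ⟨u, v, h1, h2, h3, h4, -, -⟩ := Cfsg.Agent.Lib.Elem69.exists_split hcop hg
    exact ⟨u, v, h1, h2, h3, h4, trivial, trivial⟩
  have hvN : v ∈ N := by
    rw [← QuotientGroup.eq_one_iff, ← orderOf_eq_one_iff]
    apply Nat.dvd_one.mp
    rw [← hcop]
    refine Nat.dvd_gcd ?_ (orderOf_dvd_of_pow_eq_one (by rw [← QuotientGroup.mk_pow N, hv, QuotientGroup.mk_one]))
    rw [orderOf_dvd_iff_pow_eq_one]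
    have hvg : (v : G ⧸ N) = (u : G ⧸ N)⁻¹ * g := by rw [← huv]; simp
    rw [hvg, Commute.mul_pow, inv_pow, ← QuotientGroup.mk_pow N u, hu, pow_orderOf_eq_one]
    · simp
    · rw [← huv, QuotientGroup.mk_mul]
      exact ((Commute.refl (u : G ⧸ N)).mul_right (by
        have := hc.map (QuotientGroup.mk' N); exact this)).inv_left
  have hgu : (g : G ⧸ N) = (u : G ⧸ N) := by
    rw [← huv, QuotientGroup.mk_mul, (QuotientGroup.eq_one_iff v).mpr hvN, mul_one]
  have huo : orderOf u = n := by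
    refine Nat.dvd_antisymm (orderOf_dvd_of_pow_eq_one hu) ?_
    rw [hn, hgu]
    exact orderOf_map_dvd (QuotientGroup.mk' N) u
  rw [hgu] at hh ⊢
  obtain ⟨a, rfl⟩ := QuotientGroup.mk_surjective h
  set u' := a * u * a⁻¹ with hu'
  let X : Subgroup G := Subgroup.zpowers u ⊔ N
  have hu'X : u' ∈ X := by
    rw [Subgroup.mem_normalizer_iff_map_conj_eq, MonoidHom.map_zpowers] at hh
    have : (u' : G ⧸ N) ∈ Subgroup.zpowers (u : G ⧸ N) := by
      rw [← hh]; simpa [hu', MulAut.conj_apply] using Subgroup.mem_zpowers _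
    obtain ⟨k, hk⟩ := this
    have h2 : (u ^ k)⁻¹ * u' ∈ N := by
      rw [← QuotientGroup.eq_one_iff, QuotientGroup.mk_mul, QuotientGroup.mk_inv, QuotientGroup.mk_zpow N]
      simp only at hk
      rw [hk, inv_mul_cancel]
    have := mul_mem (Subgroup.mem_sup_left (T := N) (Subgroup.zpow_mem_zpowers u k))
      (Subgroup.mem_sup_right (S := Subgroup.zpowers u) h2)
    rwa [mul_inv_cancel_left] at this
  have huX : Subgroup.zpowers u ≤ X := le_sup_left
  have hu'le : Subgroup.zpowers u' ≤ X := Subgroup.zpowers_le.mpr hu'X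
  have hNX : N ≤ X := le_sup_right
  have hu'o : orderOf u' = n := by
    rw [hu', ← MulAut.conj_apply, MulEquiv.orderOf_eq]; exact huo
  have hidx : (N.subgroupOf X).index = n := by
    have h1 := Subgroup.card_mul_index (N.subgroupOf X)
    rw [Cfsg.Agent.Lib.SZ.card_subgroupOf hNX, Cfsg.Agent.Lib.SZ.card_sup_of_coprime _ N
      (by rw [Nat.card_zpowers, huo]; exact hcop), Nat.card_zpowers, huo, mul_comm n] at h1
    exact Nat.eq_of_mul_eq_mul_left Nat.card_pos h1
  haveI hsol : Group.IsSolvable ((Subgroup.zpowers u').subgroupOf X) :=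
    Group.isSolvable_of_isSolvable_injective (f := (Subgroup.subgroupOfEquivOfLe hu'le).toMonoidHom)
      (MulEquiv.injective _)
  obtain ⟨b, hbN, hb⟩ := Cfsg.Agent.Lib.SZ.exists_mem_conj_of_card_eq_index (N.subgroupOf X)
    ((Subgroup.zpowers u').subgroupOf X) ((Subgroup.zpowers u).subgroupOf X)
    (by rw [Cfsg.Agent.Lib.SZ.card_subgroupOf hNX, hidx]; exact hcop.symm) (Or.inr hsol)
    (by rw [Cfsg.Agent.Lib.SZ.card_subgroupOf hu'le, Nat.card_zpowers, hu'o, hidx])
    (by rw [Cfsg.Agent.Lib.SZ.card_subgroupOf huX, Nat.card_zpowers, huo, hidx])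
  have hb' := Cfsg.Agent.Lib.SZ.exists_conj_of_subgroupOf hu'le huX b hb
  have hπ : ∀ r : ℕ, r.Prime → r ∣ orderOf u → r ∈ π := fun r hr hd => hy r hr (by rwa [huo] at hd)
  have hn' : (b : G) * a ∈ Subgroup.normalizer ((Subgroup.zpowers u : Subgroup G) : Set G) := by
    rw [Subgroup.mem_normalizer_iff_map_conj_eq, MonoidHom.map_zpowers]
    conv_rhs => rw [← hb', show MulAut.conj (b : G) • Subgroup.zpowers u' = Subgroup.zpowers ((b : G) * u' * (b : G)⁻¹) from MonoidHom.map_zpowers (MulAut.conj (b : G)).toMonoidHom u']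
    congr 1
    simp [hu', MulAut.conj_apply, mul_assoc]
  have hcent := Subgroup.mem_centralizer_singleton_iff.mp (hirr u hπ hn')
  rw [Subgroup.mem_centralizer_singleton_iff]
  have := congrArg (QuotientGroup.mk (s := N)) hcent
  rw [QuotientGroup.mk_mul, QuotientGroup.mk_mul, QuotientGroup.mk_mul, QuotientGroup.mk_mul,
    (QuotientGroup.eq_one_iff _).mpr (show (b : G) ∈ N from hbN), one_mul] at this
  exact this

end Cfsg.Agent.S4032
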