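import Cfsg.Statements.S4035
import Mathlib
import Cfsg.Agent.Lib.Elem69.Basic


set_option autoImplicit false
open Cfsg

namespace Cfsg.Agent.S4035

/-- Let G be a finite group and p a prime such that p divides the size of no conjugacy class of p-regular elements (elements of order prime to p). Then G is the internal direct product of a Sylow p-subgroup P and a normal subgroup H of order prime to p: P is normal, P ⊓ H = 1 and PH = G. -/
theorem result {G : Type*} [Group G] [Finite G] {p : ℕ} [Fact p.Prime]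
    (h : ∀ x : G, (orderOf x).Coprime p → ¬ p ∣ (ConjClasses.mk x).carrier.ncard) (P : Sylow p G) :
    (P : Subgroup G).Normal ∧ ∃ H : Subgroup G, H.Normal ∧ ¬ p ∣ Nat.card H ∧
      (P : Subgroup G) ⊓ H = ⊥ ∧ (P : Subgroup G) ⊔ H = ⊤ := by
  classical
  have hp : p.Prime := Fact.out
  set N := Subgroup.normalizer ((P : Subgroup G) : Set G) with hN
  -- a p-regular element and a p-element commuting with it normalise a common Sylow subgroup
  have key : ∀ x v : G, (orderOf x).Coprime p → (∃ k, orderOf v = p ^ k) → Commute x v →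
      ∃ Q : Sylow p G, v ∈ (Q : Subgroup G) ∧ (Q : Subgroup G) ≤ Subgroup.centralizer {x} := by
    intro x v hx ⟨k, hv⟩ hc
    set C := Subgroup.centralizer ({x} : Set G) with hC
    have hidx : ¬ p ∣ C.index := by
      have h' := h x hx
      rwa [show (ConjClasses.mk x).carrier.ncard = C.index from ?_] at h'
      rw [← ConjAct.orbit_eq_carrier_conjClasses, ← MulAction.index_stabilizer,
        ConjAct.stabilizer_eq_centralizer]
      rfl
    have hvC : v ∈ C := Subgroup.mem_centralizer_singleton_iff.mpr hc.eq.symm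
    have hvp : IsPGroup p (Subgroup.zpowers (⟨v, hvC⟩ : C)) :=
      IsPGroup.of_card (n := k) (by rw [Nat.card_zpowers, ← Subgroup.orderOf_coe, hv])
    obtain ⟨R, hR⟩ := hvp.exists_le_sylow
    have hcard : Nat.card ((R : Subgroup C).map C.subtype) = p ^ (Nat.card G).factorization p := by
      rw [Nat.card_congr ((R : Subgroup C).equivMapOfInjective _ C.subtype_injective).toEquiv.symm,
        R.card_eq_multiplicity, ← C.card_mul_index,
        Nat.factorization_mul Nat.card_pos.ne' Subgroup.index_ne_zero_of_finite, Finsupp.add_apply,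
        Nat.factorization_eq_zero_of_not_dvd hidx, add_zero]
    refine ⟨Sylow.ofCard _ hcard, ?_, ?_⟩
    · rw [Sylow.coe_ofCard]
      exact ⟨⟨v, hvC⟩, hR (Subgroup.mem_zpowers _), rfl⟩
    · rw [Sylow.coe_ofCard]
      exact Subgroup.map_subtype_le _
  have htop : N = ⊤ := by
    refine Cfsg.Agent.Lib.Elem69.eq_top_of_forall_exists_conj N fun g => ?_
    obtain ⟨u, v, huv, hc, hu, hv, -, -⟩ := Cfsg.Agent.Lib.Elem69.exists_prime_split g hp
    obtain ⟨Q, hvQ, hQC⟩ := key u v hu hv hc
    obtain ⟨c, hc'⟩ := MulAction.exists_smul_eq G P Q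
    refine ⟨c, ?_⟩
    have hgQ : g ∈ Subgroup.normalizer ((Q : Subgroup G) : Set G) := by
      rw [← huv]
      refine mul_mem ?_ (Subgroup.le_normalizer hvQ)
      rw [Subgroup.mem_normalizer_iff]
      have hcz : ∀ z ∈ (Q : Subgroup G), u * z * u⁻¹ = z := fun z hz => by
        rw [← Subgroup.mem_centralizer_singleton_iff.mp (hQC hz), mul_inv_cancel_right]
      intro z
      constructor
      · intro hz; rwa [hcz z hz]
      · intro hz
        have h2 := hcz _ hz
        have h3 : u * z * u⁻¹ = z := by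
          apply mul_left_cancel (a := u)
          apply mul_right_cancel (b := u⁻¹)
          exact h2
        rwa [← h3]
    rw [Subgroup.mem_normalizer_iff] at hgQ
    rw [hN, Subgroup.mem_normalizer_iff]
    intro z
    have hQP : ∀ w, w ∈ (Q : Subgroup G) ↔ c⁻¹ * w * c ∈ (P : Subgroup G) := by
      intro w
      rw [← hc', Sylow.coe_subgroup_smul]
      rw [Subgroup.mem_pointwise_smul_iff_inv_smul_mem]
      simp [MulAut.conj_inv_apply, MulAut.smul_def]
    have := (hQP _).symm.trans ((hgQ (c * z * c⁻¹)).trans (hQP _))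
    simpa [mul_assoc] using this
  have hPn : (P : Subgroup G).Normal := Subgroup.normalizer_eq_top_iff.mp htop
  refine ⟨hPn, ?_⟩
  obtain ⟨H, hH⟩ := Subgroup.exists_right_complement'_of_coprime (N := (P : Subgroup G))
    (P.card_coprime_index)
  have hHP : ¬ p ∣ Nat.card H := by
    have hcm := hH.card_mul
    rw [← (P : Subgroup G).card_mul_index] at hcm
    rw [Nat.eq_of_mul_eq_mul_left Nat.card_pos hcm]
    exact P.not_dvd_index
  have hcent : ∀ x ∈ H, ∀ z ∈ (P : Subgroup G), z * x = x * z := by
    intro x hx z hz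
    have hxp : (orderOf x).Coprime p := Nat.Coprime.symm (hp.coprime_iff_not_dvd.mpr fun hd =>
      hHP (hd.trans (H.orderOf_dvd_natCard hx)))
    obtain ⟨Q, -, hQC⟩ := key x 1 hxp ⟨0, by simp⟩ (Commute.one_right x)
    haveI := hPn
    haveI := Sylow.unique_of_normal P hPn
    rw [Subsingleton.elim P Q] at hz
    exact Subgroup.mem_centralizer_singleton_iff.mp (hQC hz)
  refine ⟨H, ⟨fun x hx g => ?_⟩, hHP, hH.disjoint.eq_bot, hH.sup_eq_top⟩
  obtain ⟨⟨z, y⟩, hzy⟩ := hH.2 g
  have hzy' : (z : G) * (y : G) = g := hzy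
  rw [← hzy']
  have h1 : (y : G) * x * (y : G)⁻¹ ∈ H := mul_mem (mul_mem y.2 hx) (inv_mem y.2)
  have h2 : (z : G) * y * x * ((z : G) * y)⁻¹ = (z : G) * (y * x * (y : G)⁻¹) * (z : G)⁻¹ := by group
  rw [h2, hcent _ h1 z z.2, mul_inv_cancel_right]
  exact h1

end Cfsg.Agent.S4035
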