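import Cfsg.Statements.S4036
import Mathlib


set_option autoImplicit false
open Cfsg

namespace Cfsg.Agent.S4036

/-- Let P be a finite abelian p-group and K a group of automorphisms of P (a subgroup of Aut P) whose order is divisible by p. If all non-identity elements of K have the same fixed-point subgroup on P, then K has no non-trivial normal subgroup of order prime to p. -/
theorem result {P : Type*} [CommGroup P] [Finite P] {p : ℕ}
    [Fact p.Prime] (hP : IsPGroup p P) (K : Subgroup (MulAut P)) (hK : p ∣ Nat.card K)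
    (hfix : ∀ x y : MulAut P, x ∈ K → y ∈ K → x ≠ 1 → y ≠ 1 → ∀ v : P, x v = v ↔ y v = v) :
    ∀ N : Subgroup ↥K, N.Normal → ¬ p ∣ Nat.card N → N = ⊥ := by
  classical
  intro N hN hpN
  haveI := Fintype.ofFinite N
  by_contra hne
  obtain ⟨n₀, hn₀, hn₀1⟩ := (Subgroup.bot_or_exists_ne_one N).resolve_left hne
  obtain ⟨y, hy⟩ := exists_prime_orderOf_dvd_card' p hK
  have hy1 : y ≠ 1 := fun h => by
    rw [h, orderOf_one] at hy; exact (Fact.out : p.Prime).one_lt.ne hy
  let τ : P →* P :=
    { toFun := fun v => ∏ n : N, ((n : K) : MulAut P) v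
      map_one' := by simp
      map_mul' := fun a b => by simp [Finset.prod_mul_distrib] }
  have hτfix : ∀ (m : N) (v : P), ((m : K) : MulAut P) (τ v) = τ v := by
    intro m v
    show ((m : K) : MulAut P) (∏ n : N, ((n : K) : MulAut P) v) = _
    rw [map_prod]
    exact Fintype.prod_equiv (Equiv.mulLeft m) _ _ fun n => rfl
  have hall : ∀ v : P, ((n₀ : K) : MulAut P) v = v → ∀ k : K, (k : MulAut P) v = v := by
    intro v hv k
    by_cases hk : k = 1
    · simp [hk]
    · exact (hfix _ _ n₀.2 k.2 (by simpa using hn₀1) (by simpa using hk) v).mp hv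
  have hτpow : ∀ v : P, ((n₀ : K) : MulAut P) v = v → τ v = v ^ Nat.card N := by
    intro v hv
    show (∏ n : N, ((n : K) : MulAut P) v) = _
    simp [hall v hv]
  have hcomm : ∀ v, τ ((y : MulAut P) v) = (y : MulAut P) (τ v) := by
    intro v
    show (∏ n : N, ((n : K) : MulAut P) ((y : MulAut P) v)) = (y : MulAut P) (∏ n : N, ((n : K) : MulAut P) v)
    rw [map_prod]
    refine Fintype.prod_equiv (MulAut.conjNormal (y⁻¹) : MulAut N).toEquiv _ _ fun n => ?_
    simp only [MulEquiv.toEquiv_eq_coe, EquivLike.coe_coe, MulAut.conjNormal_apply, Subgroup.coe_mul,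
      Subgroup.coe_inv, inv_inv, MulAut.mul_apply, MulAut.apply_inv_self]
  have hker : τ.ker = ⊥ := by
    by_contra hkne
    let Y := Subgroup.zpowers y
    have hmem : ∀ (k : Y) (v : τ.ker), ((k : K) : MulAut P) v ∈ τ.ker := by
      rintro ⟨k, j, rfl⟩ ⟨v, hv⟩
      have hst : ∀ w, τ w = 1 → τ ((y : MulAut P) w) = 1 ∧ τ ((y⁻¹ : MulAut P) w) = 1 := by
        intro w hw
        refine ⟨by rw [hcomm, hw, map_one], ?_⟩
        apply (y : MulAut P).injective
        rw [← hcomm, map_one, MulAut.apply_inv_self]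
        exact hw
      show τ ((((y ^ j : K)) : MulAut P) v) = 1
      induction j using Int.induction_on generalizing v with
      | zero => simpa using hv
      | succ j ih =>
        rw [zpow_add, zpow_one, Subgroup.coe_mul, MulAut.mul_apply]
        exact ih _ (hst v hv).1
      | pred j ih =>
        rw [zpow_sub, zpow_one, Subgroup.coe_mul, Subgroup.coe_inv, MulAut.mul_apply]
        exact ih _ (hst v hv).2
    letI : MulAction Y τ.ker :=
      { smul := fun k v => ⟨((k : K) : MulAut P) v, hmem k v⟩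
        one_smul := fun v => Subtype.ext rfl
        mul_smul := fun a b v => Subtype.ext rfl }
    have hYp : IsPGroup p Y := IsPGroup.of_card (n := 1) (by rw [Nat.card_zpowers, hy, pow_one])
    have hdvd : p ∣ Nat.card τ.ker := ((hP.to_subgroup τ.ker).card_eq_or_dvd).resolve_left
      (fun h => hkne (Subgroup.card_eq_one.mp h))
    obtain ⟨b, hb, hb1⟩ := hYp.exists_fixed_point_of_prime_dvd_card_of_fixed_point τ.ker hdvd
      (a := 1) (fun k => Subtype.ext (map_one ((k : K) : MulAut P)))
    have hyb : (y : MulAut P) b = b := congrArg Subtype.val (hb ⟨y, Subgroup.mem_zpowers y⟩)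
    have hn₀b : ((n₀ : K) : MulAut P) b = b :=
      (hfix _ _ y.2 n₀.2 (by simpa using hy1) (by simpa using hn₀1) b).mp hyb
    have h1 : (b : P) ^ Nat.card N = 1 := (hτpow _ hn₀b).symm.trans b.2
    obtain ⟨j, hj⟩ := IsPGroup.iff_orderOf.mp hP (b : P)
    have hd := orderOf_dvd_of_pow_eq_one h1
    rw [hj] at hd
    rcases Nat.eq_zero_or_pos j with h0 | h0
    · rw [h0, pow_zero, orderOf_eq_one_iff] at hj
      exact hb1 (Subtype.ext hj.symm)
    · exact hpN ((dvd_pow_self p h0.ne').trans hd)
  have hinj := (MonoidHom.ker_eq_bot_iff τ).mp hker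
  apply hn₀1
  apply Subtype.ext
  apply MulEquiv.ext
  intro v
  apply hinj
  show (∏ n : N, ((n : K) : MulAut P) (((n₀ : K) : MulAut P) v)) = ∏ n : N, ((n : K) : MulAut P) v
  exact Fintype.prod_equiv (Equiv.mulRight (⟨n₀, hn₀⟩ : N)) _ _ fun n => rfl

end Cfsg.Agent.S4036
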