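import Cfsg.Statements.S4043
import Mathlib
import Cfsg.Agent.Lib.SZ.Conjugacy


set_option autoImplicit false
open Cfsg

namespace Cfsg.Agent.S4043
open scoped Pointwise

variable {G : Type*} [Group G] [Finite G] {p : ℕ} [Fact p.Prime]

/-- The normal `p`-complement as a subgroup of the ambient group. -/
lemma exists_core (A : Subgroup G) (h : Cfsg.HasNormalPComplement p A) :
    ∃ K : Subgroup G, K ≤ A ∧ A ≤ Subgroup.normalizer (K : Set G) ∧ ¬ p ∣ Nat.card K ∧
      ∃ k, K.relIndex A = p ^ k := by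
  obtain ⟨P, M, hM, hMP⟩ := h
  have hidx : M.index = Nat.card (P : Subgroup A) := hMP.symm.index_eq_card
  have hcard : Nat.card M = (P : Subgroup A).index := hMP.index_eq_card.symm
  refine ⟨M.map A.subtype, Subgroup.map_subtype_le M, ?_, ?_, ?_⟩
  · intro a ha
    refine Subgroup.mem_normalizer_fintype ?_
    rintro _ ⟨m, hm, rfl⟩
    exact ⟨⟨a, ha⟩ * m * (⟨a, ha⟩ : A)⁻¹, hM.conj_mem m hm _, rfl⟩
  · rw [Nat.card_congr (M.equivMapOfInjective _ A.subtype_injective).toEquiv.symm, hcard]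
    exact P.not_dvd_index
  · obtain ⟨k, hk⟩ := P.isPGroup'.exists_card_eq
    refine ⟨k, ?_⟩
    rw [Subgroup.relIndex, Subgroup.subgroupOf, Subgroup.comap_map_eq_self_of_injective A.subtype_injective,
      hidx, hk]

/-- Two subgroups of order prime to `p` normalised by everything, of `p`-power relative index in
the same group, coincide. -/
lemma eq_of_pprime {Q : Type*} [Group Q] [Finite Q] (X Y : Subgroup Q) [X.Normal] [Y.Normal]
    (hX : ¬ p ∣ Nat.card X) (hY : ¬ p ∣ Nat.card Y) (hXi : ∃ k, X.index = p ^ k)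
    (hYi : ∃ k, Y.index = p ^ k) : X = Y := by
  have hp : p.Prime := Fact.out
  have key : ∀ (X Y : Subgroup Q) [X.Normal], ¬ p ∣ Nat.card Y → (∃ k, X.index = p ^ k) → Y ≤ X := by
    intro X Y _ hY ⟨k, hk⟩ y hy
    rw [← QuotientGroup.eq_one_iff, ← orderOf_eq_one_iff]
    have h1 : orderOf (y : Q ⧸ X) ∣ p ^ k := hk ▸ orderOf_dvd_natCard (y : Q ⧸ X)
    have h2 : orderOf (y : Q ⧸ X) ∣ Nat.card Y :=
      (orderOf_map_dvd (QuotientGroup.mk' X) y).trans (Y.orderOf_dvd_natCard hy)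
    exact Nat.eq_one_of_dvd_coprimes ((hp.coprime_iff_not_dvd.mpr hY).pow_left k) h1 h2
  exact le_antisymm (key Y X hX hYi) (key X Y hY hXi)

/-- `A₁` is the whole normalizer of its `p`-prime core when `C_N(A₁) = 1`. -/
lemma normalizer_core_le (N : Subgroup G) [N.Normal] (hN : IsPGroup p N) (A₁ K₁ : Subgroup G)
    (hA₁ : A₁.IsComplement' N) (hK : K₁ ≤ A₁) (hnorm : A₁ ≤ Subgroup.normalizer (K₁ : Set G))
    (hk : ¬ p ∣ Nat.card K₁) (hi : ∃ k, K₁.relIndex A₁ = p ^ k)
    (hC₁ : ∀ n : G, n ∈ N → (∀ a : G, a ∈ A₁ → a * n * a⁻¹ = n) → n = 1) :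
    Subgroup.normalizer (K₁ : Set G) ≤ A₁ := by
  classical
  have hp : p.Prime := Fact.out
  set D := N ⊓ Subgroup.centralizer (K₁ : Set G) with hD
  -- elements of `N` normalising `K₁` centralise it
  have hND : ∀ n ∈ N, n ∈ Subgroup.normalizer (K₁ : Set G) → n ∈ D := by
    intro n hn hnK
    refine Subgroup.mem_inf.mpr ⟨hn, Subgroup.mem_centralizer_iff.mpr fun k hk' => ?_⟩
    have h1 : n * k * n⁻¹ * k⁻¹ ∈ K₁ :=
      mul_mem ((Subgroup.mem_normalizer_iff.mp hnK k).mp hk') (inv_mem hk')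
    have h2 : n * k * n⁻¹ * k⁻¹ ∈ N := by
      rw [mul_assoc, mul_assoc]
      exact mul_mem hn (by simpa [mul_assoc] using (inferInstance : N.Normal).conj_mem _ (inv_mem hn) k)
    have h3 : orderOf (n * k * n⁻¹ * k⁻¹) = 1 := by
      obtain ⟨m, hm⟩ := hN.exists_card_eq
      exact Nat.eq_one_of_dvd_coprimes ((hp.coprime_iff_not_dvd.mpr hk).pow_left m)
        (hm ▸ N.orderOf_dvd_natCard h2) (K₁.orderOf_dvd_natCard h1)
    rw [orderOf_eq_one_iff] at h3
    calc k * n = (n * k * n⁻¹ * k⁻¹) * k * n := by rw [h3, one_mul]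
      _ = n * k := by group
  obtain ⟨P⟩ : Nonempty (Sylow p A₁) := inferInstance
  have hDstable : ∀ a ∈ A₁, ∀ d ∈ D, a * d * a⁻¹ ∈ D := by
    intro a ha d hd
    refine Subgroup.mem_inf.mpr ⟨(inferInstance : N.Normal).conj_mem _ hd.1 a,
      Subgroup.mem_centralizer_iff.mpr fun k hk' => ?_⟩
    have h1 := Subgroup.mem_centralizer_iff.mp hd.2 (a⁻¹ * k * a)
      ((Subgroup.mem_normalizer_iff''.mp (hnorm ha) k).mp hk')
    calc k * (a * d * a⁻¹) = a * ((a⁻¹ * k * a) * d) * a⁻¹ := by group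
      _ = a * (d * (a⁻¹ * k * a)) * a⁻¹ := by rw [h1]
      _ = a * d * a⁻¹ * k := by group
  have hDbot : D = ⊥ := by
    by_contra hne
    letI : MulAction (P : Subgroup A₁) D :=
      { smul := fun a d => ⟨(a : G) * d * (a : G)⁻¹, hDstable _ (a : A₁).2 _ d.2⟩
        one_smul := fun d => Subtype.ext (show ((1 : (P : Subgroup A₁)) : G) * d * _ = d by simp)
        mul_smul := fun a b d => Subtype.ext (show ((a * b : (P : Subgroup A₁)) : G) * d * ((a * b : (P : Subgroup A₁)) : G)⁻¹ = (a : G) * ((b : G) * d * (b : G)⁻¹) * (a : G)⁻¹ by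
          push_cast; group) }
    have hdvd : p ∣ Nat.card D := ((hN.to_le inf_le_left).card_eq_or_dvd).resolve_left
      (fun h => hne (Subgroup.card_eq_one.mp h))
    obtain ⟨b, hb, hb1⟩ := P.isPGroup'.exists_fixed_point_of_prime_dvd_card_of_fixed_point D hdvd
      (a := 1) (fun a => Subtype.ext (show (a : G) * 1 * (a : G)⁻¹ = 1 by simp))
    apply hb1
    refine (Subtype.ext (hC₁ b b.2.1 fun a ha => ?_)).symm
    let T : Subgroup G := Subgroup.centralizer {(b : G)}
    suffices h : A₁ ≤ T by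
      rw [Subgroup.mem_centralizer_singleton_iff.mp (h ha), mul_inv_cancel_right]
    have hK1 : K₁ ≤ T := fun k hk' =>
      Subgroup.mem_centralizer_singleton_iff.mpr (Subgroup.mem_centralizer_iff.mp b.2.2 k hk')
    have hP1 : (P : Subgroup A₁).map A₁.subtype ≤ T := by
      rintro _ ⟨a, ha', rfl⟩
      rw [Subgroup.mem_centralizer_singleton_iff]
      have := congrArg Subtype.val (hb ⟨a, ha'⟩)
      exact mul_inv_eq_iff_eq_mul.mp this
    have hidx : (T.subgroupOf A₁).index = 1 := by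
      obtain ⟨k, hk'⟩ := hi
      refine Nat.eq_one_of_dvd_coprimes (Nat.Coprime.pow_left k (hp.coprime_iff_not_dvd.mpr P.not_dvd_index))
        (hk' ▸ Subgroup.index_dvd_of_le (Subgroup.comap_mono hK1)) (Subgroup.index_dvd_of_le ?_)
      exact fun a ha' => Subgroup.mem_subgroupOf.mpr (hP1 ⟨a, ha', rfl⟩)
    intro a ha
    have := Subgroup.index_eq_one.mp hidx
    exact Subgroup.mem_subgroupOf.mp (this ▸ Subgroup.mem_top (⟨a, ha⟩ : A₁))
  intro g hg
  obtain ⟨⟨a, n⟩, han⟩ := hA₁.2 g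
  have han' : (a : G) * (n : G) = g := han
  have hn : (n : G) ∈ Subgroup.normalizer (K₁ : Set G) := by
    have : (n : G) = (a : G)⁻¹ * g := by rw [← han']; group
    rw [this]
    exact mul_mem (inv_mem (hnorm a.2)) hg
  have := hND n n.2 hn
  rw [hDbot, Subgroup.mem_bot] at this
  rw [← han', this, mul_one]
  exact a.2

/-- Let G be a finite group that is the semidirect product of a normal p-subgroup N by a subgroup A, and also of N by a subgroup A₁, where p is a prime and A and A₁ both have normal p-complements. If C_N(A) = C_N(A₁) = 1, then A₁ is conjugate to A by an element of N. -/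
theorem result {G : Type*} [Group G] [Finite G] {p : ℕ}
    [Fact p.Prime] (N : Subgroup G) [N.Normal] (hN : IsPGroup p N) (A A₁ : Subgroup G)
    (hA : A.IsComplement' N) (hA₁ : A₁.IsComplement' N)
    (hAp : Cfsg.HasNormalPComplement p A) (hA₁p : Cfsg.HasNormalPComplement p A₁)
    (hC : ∀ n : G, n ∈ N → (∀ a : G, a ∈ A → a * n * a⁻¹ = n) → n = 1)
    (hC₁ : ∀ n : G, n ∈ N → (∀ a : G, a ∈ A₁ → a * n * a⁻¹ = n) → n = 1) :
    ∃ n : G, n ∈ N ∧ A₁ = A.map (MulAut.conj n).toMonoidHom := by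
  classical
  have hp : p.Prime := Fact.out
  obtain ⟨K, hKA, hKn, hKp, hKi⟩ := exists_core A hAp
  obtain ⟨K₁, hK₁A, hK₁n, hK₁p, hK₁i⟩ := exists_core A₁ hA₁p
  let π := QuotientGroup.mk' N
  -- both cores have the same image in `G ⧸ N`
  have himg : ∀ (B L : Subgroup G), B.IsComplement' N → L ≤ B → B ≤ Subgroup.normalizer (L : Set G) →
      ¬ p ∣ Nat.card L → (∃ k, L.relIndex B = p ^ k) →
      (L.map π).Normal ∧ ¬ p ∣ Nat.card (L.map π) ∧ ∃ k, (L.map π).index = p ^ k := by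
    intro B L hB hLB hBL hLp ⟨k, hk⟩
    have hinj : Set.InjOn π (B : Set G) := by
      intro a ha b hb hab
      have h1 : a⁻¹ * b ∈ N := QuotientGroup.eq.mp hab
      have h2 : a⁻¹ * b ∈ B ⊓ N := ⟨B.mul_mem (B.inv_mem ha) hb, h1⟩
      rw [hB.disjoint.eq_bot, Subgroup.mem_bot] at h2
      exact inv_mul_eq_one.mp h2
    have hsurj : B.map π = ⊤ := by
      rw [eq_top_iff]
      intro x _
      obtain ⟨g, rfl⟩ := QuotientGroup.mk_surjective x
      obtain ⟨⟨a, n⟩, han⟩ := hB.2 g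
      refine ⟨a, a.2, ?_⟩
      have han' : (a : G) * (n : G) = g := han
      show ((a : G) : G ⧸ N) = g
      rw [← han', QuotientGroup.mk_mul, (QuotientGroup.eq_one_iff _).mpr n.2, mul_one]
    refine ⟨⟨fun x hx g => ?_⟩, fun hd => hLp (hd.trans (Subgroup.card_map_dvd L π)), k, ?_⟩
    · obtain ⟨b, hb, rfl⟩ : g ∈ B.map π := hsurj ▸ Subgroup.mem_top g
      obtain ⟨l, hl, rfl⟩ := hx
      exact ⟨b * l * b⁻¹, (Subgroup.mem_normalizer_iff.mp (hBL hb) l).mp hl, by simp⟩
    · have h1 : Nat.card (L.map π) = Nat.card L :=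
        Nat.card_image_of_injOn (s := (L : Set G)) (f := π) (hinj.mono hLB)
      have h2 : Nat.card (G ⧸ N) = Nat.card B := by
        rw [← Subgroup.index, hB.index_eq_card]
      have h3 := (L.map π).card_mul_index
      rw [h1, h2, ← Subgroup.card_mul_index (L.subgroupOf B),
        Cfsg.Agent.Lib.SZ.card_subgroupOf hLB] at h3
      rw [← hk]
      exact Nat.eq_of_mul_eq_mul_left Nat.card_pos h3
  obtain ⟨n1, c1, i1⟩ := himg A K hA hKA hKn hKp hKi
  obtain ⟨n2, c2, i2⟩ := himg A₁ K₁ hA₁ hK₁A hK₁n hK₁p hK₁i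
  haveI := n1; haveI := n2
  have heq : K.map π = K₁.map π := eq_of_pprime _ _ c1 c2 i1 i2
  have hsup : K ⊔ N = K₁ ⊔ N := by
    have := congrArg (Subgroup.comap π) heq
    simpa [π, Subgroup.comap_map_eq, QuotientGroup.ker_mk'] using this
  obtain ⟨m, hm⟩ := hN.exists_card_eq
  have hcop : ∀ L : Subgroup G, ¬ p ∣ Nat.card L → (Nat.card L).Coprime (Nat.card N) := fun L hL => by
    rw [hm]; exact ((hp.coprime_iff_not_dvd.mpr hL).symm).pow_right m
  let X := K ⊔ N
  have hKX : K ≤ X := le_sup_left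
  have hK₁X : K₁ ≤ X := by show K₁ ≤ K ⊔ N; rw [hsup]; exact le_sup_left
  have hNX : N ≤ X := le_sup_right
  have hXc : Nat.card X = Nat.card K * Nat.card N := Cfsg.Agent.Lib.SZ.card_sup_of_coprime K N (hcop K hKp)
  have hKK₁ : Nat.card K = Nat.card K₁ := by
    have h1 : Nat.card X = Nat.card K₁ * Nat.card N := by
      show Nat.card ↥(K ⊔ N) = _
      rw [hsup]; exact Cfsg.Agent.Lib.SZ.card_sup_of_coprime K₁ N (hcop K₁ hK₁p)
    exact Nat.eq_of_mul_eq_mul_right Nat.card_pos (hXc.symm.trans h1)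
  have hidx : (N.subgroupOf X).index = Nat.card K := by
    have h1 := Subgroup.card_mul_index (N.subgroupOf X)
    rw [Cfsg.Agent.Lib.SZ.card_subgroupOf hNX, hXc, mul_comm (Nat.card K)] at h1
    exact Nat.eq_of_mul_eq_mul_left Nat.card_pos h1
  have hsol : Group.IsSolvable (N.subgroupOf X) := by
    haveI := (hN.of_equiv (Subgroup.subgroupOfEquivOfLe hNX).symm).isNilpotent
    infer_instance
  obtain ⟨b, hbN, hb⟩ := Cfsg.Agent.Lib.SZ.exists_mem_conj_of_card_eq_index (N.subgroupOf X)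
    (K.subgroupOf X) (K₁.subgroupOf X)
    (by rw [Cfsg.Agent.Lib.SZ.card_subgroupOf hNX, hidx]; exact (hcop K hKp).symm) (Or.inl hsol)
    (by rw [Cfsg.Agent.Lib.SZ.card_subgroupOf hKX, hidx])
    (by rw [Cfsg.Agent.Lib.SZ.card_subgroupOf hK₁X, hidx, hKK₁])
  have hb' := Cfsg.Agent.Lib.SZ.exists_conj_of_subgroupOf hKX hK₁X b hb
  have hb'' : K.map (MulAut.conj (b : G)).toMonoidHom = K₁ := hb'
  refine ⟨b, hbN, ?_⟩
  symm
  apply Subgroup.eq_of_le_of_card_ge
  · refine le_trans ?_ (normalizer_core_le N hN A₁ K₁ hA₁ hK₁A hK₁n hK₁p hK₁i hC₁)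
    rw [← hb'', ← Subgroup.map_equiv_normalizer_eq]
    exact Subgroup.map_mono hKn
  · rw [Nat.card_congr (A.equivMapOfInjective _ (MulEquiv.injective (MulAut.conj (b : G)))).toEquiv.symm,
      ← hA.index_eq_card, ← hA₁.index_eq_card]

end Cfsg.Agent.S4043
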