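import Cfsg.Statements.S4049
import Mathlib
import Cfsg.Agent.Lib.Elem69.RealOdd


set_option autoImplicit false
open Cfsg

namespace Cfsg.Agent.S4049

/-- Let G be a finite group such that N_G(H)/C_G(H) has odd order for every nontrivial subgroup H of odd order. Then the Sylow 2-subgroups of G are normal. -/
theorem result {G : Type*} [Group G] [Finite G]
    (hhom : ∀ H : Subgroup G, H ≠ ⊥ → ¬ 2 ∣ Nat.card ↥H →
        ¬ 2 ∣ (Subgroup.centralizer (H : Set G)).relIndex (Subgroup.normalizer (H : Set G))) (P : Sylow 2 G) :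
    (P : Subgroup G).Normal := by
  refine Cfsg.Agent.Lib.Elem69.sylow_two_normal_of_no_real_odd (fun x g hx hg => ?_) P
  by_contra hx1
  set H := Subgroup.zpowers x with hH
  have hne : H ≠ ⊥ := by simpa [hH] using hx1
  have hodd : ¬ 2 ∣ Nat.card H := by
    rw [hH, Nat.card_zpowers]
    exact fun hd => (Nat.not_even_iff_odd.mpr hx) (even_iff_two_dvd.mpr hd)
  have hrel := hhom H hne hodd
  set N := Subgroup.normalizer (H : Set G) with hN
  set C := Subgroup.centralizer (H : Set G) with hC
  have hgN : g ∈ N := by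
    rw [hN, Subgroup.mem_normalizer_iff_map_conj_eq, hH, MonoidHom.map_zpowers]
    simp [MulAut.conj_apply, hg]
  have hg2 : g * g ∈ C := by
    rw [hC, Subgroup.mem_centralizer_iff]
    rintro _ ⟨k, rfl⟩
    have : Commute (g * g) x := by
      have e : g * g * x * (g * g)⁻¹ = x := by
        calc g * g * x * (g * g)⁻¹ = g * (g * x * g⁻¹) * g⁻¹ := by group
          _ = g * x⁻¹ * g⁻¹ := by rw [hg]
          _ = (g * x * g⁻¹)⁻¹ := by group
          _ = x := by rw [hg, inv_inv]
      exact mul_inv_eq_iff_eq_mul.mp e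
    exact (this.zpow_right k).eq.symm
  have hnorm : (C.subgroupOf N).Normal := by
    refine ⟨fun c hc m => ?_⟩
    rw [Subgroup.mem_subgroupOf, hC, Subgroup.mem_centralizer_iff] at hc ⊢
    intro z hz
    have hm := m.2
    simp only [hN, Subgroup.mem_normalizer_iff''] at hm
    have h1 := hc _ ((hm z).mp hz)
    push_cast
    calc z * ((m : G) * c * (m : G)⁻¹) = m * (((m : G)⁻¹ * z * m) * c) * (m : G)⁻¹ := by group
      _ = m * (c * ((m : G)⁻¹ * z * m)) * (m : G)⁻¹ := by rw [h1]
      _ = (m : G) * c * (m : G)⁻¹ * z := by group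
  have hgC : g ∈ C := by
    let q : N ⧸ C.subgroupOf N := QuotientGroup.mk ⟨g, hgN⟩
    have h2 : q ^ 2 = 1 := by
      rw [← QuotientGroup.mk_pow (C.subgroupOf N), QuotientGroup.eq_one_iff, Subgroup.mem_subgroupOf,
        Subgroup.coe_pow, pow_two]
      exact hg2
    have : q = 1 := by
      rw [← orderOf_eq_one_iff]
      rcases (Nat.dvd_prime Nat.prime_two).mp (orderOf_dvd_of_pow_eq_one h2) with h | h
      · exact h
      · exfalso
        apply hrel
        rw [Subgroup.relIndex, Subgroup.index, ← h]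
        exact orderOf_dvd_natCard q
    simpa [q, QuotientGroup.eq_one_iff, Subgroup.mem_subgroupOf] using this
  have hcomm : x * g = g * x := (Subgroup.mem_centralizer_iff.mp hgC) x (Subgroup.mem_zpowers x)
  have hsq : x ^ 2 = 1 := by
    rw [pow_two, mul_eq_one_iff_eq_inv, ← hg, ← hcomm]
    group
  rcases (Nat.dvd_prime Nat.prime_two).mp (orderOf_dvd_of_pow_eq_one hsq) with h1 | h1
  · exact hx1 (orderOf_eq_one_iff.mp h1)
  · exact hodd (by rw [hH, Nat.card_zpowers, h1])

end Cfsg.Agent.S4049
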