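import Cfsg.Statements.S4051
import Mathlib
import Cfsg.Agent.Lib.Elem69.PiClosed


set_option autoImplicit false
open Cfsg

namespace Cfsg.Agent.S4051

/-- Let π be a set of primes and G a finite group such that N_G(H)/C_G(H) is a π'-group for every nontrivial π'-subgroup H of G. If K is a normal subgroup of G such that the π-elements of K form a subgroup and the π-elements of G/K form a subgroup, then the π-elements of G form a subgroup. -/
theorem result {G : Type*} [Group G] [Finite G] (π : Set ℕ)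
    (hπ : ∀ p ∈ π, p.Prime) (hhom : (∀ H : Subgroup G, H ≠ ⊥ → (∀ p : ℕ, p.Prime → p ∣ Nat.card ↥H → p ∉ π) →
        ∀ p : ℕ, p.Prime → p ∣ (Subgroup.centralizer (H : Set G)).relIndex (Subgroup.normalizer (H : Set G)) → p ∉ π))
    (K : Subgroup G) [K.Normal]
    (hK : ∃ L : Subgroup ↥K, ∀ x : ↥K, x ∈ L ↔ ∀ p : ℕ, p.Prime → p ∣ orderOf x → p ∈ π)
    (hQ : ∃ L : Subgroup (G ⧸ K), ∀ x : G ⧸ K, x ∈ L ↔ ∀ p : ℕ, p.Prime → p ∣ orderOf x → p ∈ π) :
    (∃ K : Subgroup G, ∀ x : G, x ∈ K ↔ ∀ p : ℕ, p.Prime → p ∣ orderOf x → p ∈ π) := by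
  classical
  obtain ⟨L, hL⟩ := hK
  obtain ⟨R, hR⟩ := hQ
  have hL' : Cfsg.Agent.Lib.Elem69.IsPiElements π L := hL
  have hR' : Cfsg.Agent.Lib.Elem69.IsPiElements π R := hR
  have hRn := hR'.normal
  let A := L.map K.subtype
  let B := R.comap (QuotientGroup.mk' K)
  have hAn : A.Normal := by
    refine ⟨?_⟩
    rintro _ ⟨x, hx, rfl⟩ g
    refine ⟨⟨g * x * g⁻¹, (inferInstance : K.Normal).conj_mem _ x.2 g⟩, (hL' _).mpr ?_, rfl⟩
    have := (hL' x).mp hx
    rwa [← Subgroup.orderOf_coe, show ((⟨g * x * g⁻¹, (inferInstance : K.Normal).conj_mem _ x.2 g⟩ : K) : G)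
      = MulAut.conj g (x : G) from rfl, MulEquiv.orderOf_eq, Subgroup.orderOf_coe]
  have hAK : A ≤ K := Subgroup.map_subtype_le _
  have hKB : K ≤ B := QuotientGroup.le_comap_mk' K R
  refine ⟨_, Cfsg.Agent.Lib.Elem69.isPiElements_piCore_of_chain hhom
    (n := 4) ![⊥, A, K, B, ⊤] rfl rfl ?_ ?_⟩
  · intro i
    fin_cases i
    · exact Subgroup.normal_bot
    · exact hAn
    · show K.Normal; infer_instance
    · exact hRn.comap _
    · exact Subgroup.normal_top
  · intro i
    fin_cases i
    · left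
      intro q hq hd
      refine hL'.card q hq ?_
      have hd' : q ∣ (⊥ : Subgroup G).relIndex A := hd
      rwa [Subgroup.relIndex_bot_left,
        ← Nat.card_congr (L.equivMapOfInjective _ K.subtype_injective).toEquiv] at hd'
    · right
      intro q hq hd
      refine hL'.index q hq ?_
      have hd' : q ∣ A.relIndex K := hd
      rwa [Subgroup.relIndex, Subgroup.subgroupOf, Subgroup.comap_map_eq_self_of_injective K.subtype_injective] at hd'
    · left
      intro q hq hd
      refine hR'.card q hq ?_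
      have hd' : q ∣ K.relIndex B := hd
      have h := Subgroup.relIndex_ker (QuotientGroup.mk' K) (K := B)
      rw [QuotientGroup.ker_mk'] at h
      rwa [h, Subgroup.map_comap_eq_self_of_surjective (QuotientGroup.mk'_surjective K)] at hd'
    · right
      intro q hq hd
      refine hR'.index q hq ?_
      have hd' : q ∣ B.relIndex ⊤ := hd
      rwa [Subgroup.relIndex_top_right, Subgroup.index_comap_of_surjective _ (QuotientGroup.mk'_surjective K)] at hd'

end Cfsg.Agent.S4051
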