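import Cfsg.Statements.S4056
import Mathlib


set_option autoImplicit false
open Cfsg
open scoped commutatorElement

namespace Cfsg.Agent.S4056

/-- In a finite 2-group of nilpotency class at most 2 and exponent dividing 4, the Frattini subgroup lies in the centre and is elementary abelian. -/
theorem result {P : Type*} [Group P] [Finite P] (hP : IsPGroup 2 P)
    (hcl : Group.nilpotencyClass P ≤ 2) (hexp : Monoid.exponent P ∣ 4) :
    frattini P ≤ Subgroup.center P ∧ Cfsg.IsElementaryAbelian 2 (frattini P) := by
  classical
  have hC : ∀ a b : P, ⁅a, b⁆ ∈ Subgroup.center P := by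
    intro a b
    have h3 : (⊤ : Subgroup P).lowerCentralSeries 2 = ⊥ := by
      haveI := hP.isNilpotent
      exact lowerCentralSeries_eq_bot_iff_nilpotencyClass_le.mpr hcl
    rw [Subgroup.mem_center_iff]
    intro g
    have : ⁅⁅a, b⁆, g⁆ ∈ (⊤ : Subgroup P).lowerCentralSeries 2 := by
      rw [Subgroup.lowerCentralSeries_succ]
      refine Subgroup.commutator_mem_commutator ?_ (Subgroup.mem_top g)
      rw [Subgroup.lowerCentralSeries_succ]
      exact Subgroup.commutator_mem_commutator (Subgroup.mem_top a) (Subgroup.mem_top b)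
    rw [h3, Subgroup.mem_bot] at this
    exact (commutatorElement_eq_one_iff_commute.mp this).eq.symm
  have h4 : ∀ a : P, a ^ 4 = 1 := fun a => by
    obtain ⟨k, hk⟩ := hexp
    rw [hk, pow_mul, Monoid.pow_exponent_eq_one, one_pow]
  -- squares are central
  have hsq : ∀ a : P, a * a ∈ Subgroup.center P := by
    intro a
    rw [Subgroup.mem_center_iff]
    intro b
    have hz := Subgroup.mem_center_iff.mp (hC b a)
    set z := ⁅b, a⁆ with hzdef
    have hba : b * a = z * (a * b) := by rw [hzdef, commutatorElement_def]; group
    have hpow : ∀ n : ℕ, (b * a) ^ n = z ^ n * (a * b) ^ n := fun n => by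
      rw [hba]; exact (show Commute z (a * b) from (hz (a * b)).symm).mul_pow n
    have hsq' : z * z = 1 := by
      -- (a b)^4 = 1 gives z^6 = 1, together with z^4 = 1
      have e1 : (a * b) * (a * b) = z * (a * a * (b * b)) := by
        rw [show (a * b) * (a * b) = a * (b * a) * b by group, hba,
          show a * (z * (a * b)) * b = (a * z) * (a * (b * b)) by group, hz a]
        group
      have e2 : (b * b) * (a * a) = z * z * z * z * ((a * a) * (b * b)) := by
        have r : ∀ w, b * (a * w) = z * (a * (b * w)) := fun w => by rw [← mul_assoc b, hba]; group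
        have c : ∀ x w, x * (z * w) = z * (x * w) := fun x w => by rw [← mul_assoc, hz x, mul_assoc]
        simp only [mul_assoc, r, c, hba]
      have e4 : (a * b) ^ 4 = z * z * z * z * z * z * (a ^ 4 * b ^ 4) := by
        have c : ∀ x w, x * (z * w) = z * (x * w) := fun x w => by rw [← mul_assoc, hz x, mul_assoc]
        have r : ∀ w, (b * b) * ((a * a) * w) = z * z * z * z * ((a * a) * ((b * b) * w)) := fun w => by
          rw [← mul_assoc (b * b), e2]; group
        rw [show (a * b) ^ 4 = ((a * b) * (a * b)) * ((a * b) * (a * b)) by simp [pow_succ, mul_assoc], e1,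
          show a ^ 4 = (a * a) * (a * a) by simp [pow_succ, mul_assoc],
          show b ^ 4 = (b * b) * (b * b) by simp [pow_succ, mul_assoc]]
        simp only [mul_assoc] at r ⊢
        simp only [c, r]
      rw [h4, h4, h4, one_mul, mul_one] at e4
      have := h4 z
      simp only [pow_succ, pow_zero, one_mul] at this
      rw [this, one_mul] at e4
      exact e4.symm
    have c : ∀ x w, x * (z * w) = z * (x * w) := fun x w => by rw [← mul_assoc, hz x, mul_assoc]
    calc b * (a * a) = (b * a) * a := by group
      _ = z * (a * b) * a := by rw [hba]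
      _ = z * (a * (b * a)) := by group
      _ = z * z * (a * a * b) := by rw [hba, c a]; group
      _ = a * a * b := by rw [hsq', one_mul]
  let D : Subgroup P :=
    { carrier := {z | z ∈ Subgroup.center P ∧ z * z = 1}
      one_mem' := ⟨one_mem _, one_mul 1⟩
      mul_mem' := by
        rintro x y ⟨hx, hx2⟩ ⟨hy, hy2⟩
        refine ⟨mul_mem hx hy, ?_⟩
        rw [Commute.mul_mul_mul_comm (Subgroup.mem_center_iff.mp hx y), hx2, hy2, one_mul]
      inv_mem' := by
        rintro x ⟨hx, hx2⟩
        exact ⟨inv_mem hx, by rw [← mul_inv_rev, hx2, inv_one]⟩ }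
  have hD2 : ∀ a : P, a * a ∈ D := fun a => ⟨hsq a, by
    simpa [pow_succ, mul_assoc] using h4 a⟩
  have hΦ : frattini P ≤ D := by
    intro x hx
    by_contra hxD
    obtain ⟨M, hDM, hM⟩ := Finite.exists_le_maximal (p := fun M : Subgroup P => D ≤ M ∧ x ∉ M)
      (a := D) ⟨le_rfl, hxD⟩
    obtain ⟨hDle, hxM⟩ := hM.1
    haveI : M.Normal := by
      constructor
      intro m hm g
      have h1 : g * m * g⁻¹ = ⁅g, m⁆ * m := by rw [commutatorElement_def]; group
      have h2 : ⁅g, m⁆ ∈ D := by
        refine ⟨hC g m, ?_⟩
        have hz := Subgroup.mem_center_iff.mp (hC g m)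
        set z := ⁅g, m⁆ with hzdef
        have e : g * m = z * (m * g) := by rw [hzdef, commutatorElement_def]; group
        have hg := Subgroup.mem_center_iff.mp (hsq g) m
        have c : ∀ x w, x * (z * w) = z * (x * w) := fun x w => by rw [← mul_assoc, hz x, mul_assoc]
        have : g * g * m = z * z * (m * (g * g)) := by
          rw [mul_assoc g, e, c g, ← mul_assoc g m g, e]
          group
        rw [← hg] at this
        exact mul_eq_right.mp this.symm
      rw [h1]
      exact mul_mem (hDle h2) hm
    have hcoatom : IsCoatom M := by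
      refine ⟨fun h => hxM (h ▸ Subgroup.mem_top x), fun K hK => ?_⟩
      rw [eq_top_iff]
      have hxy : ∀ y, y ∉ M → x * y⁻¹ ∈ M := by
        intro y hy
        have hlt : M < M ⊔ Subgroup.zpowers y :=
          lt_of_le_of_ne le_sup_left fun h => hy (h ▸ Subgroup.mem_sup_right (Subgroup.mem_zpowers y))
        have hxin : x ∈ M ⊔ Subgroup.zpowers y := by
          by_contra hxn
          exact hlt.not_ge (hM.2 ⟨hDle.trans le_sup_left, hxn⟩ hlt.le)
        obtain ⟨m, hm, w, ⟨n, rfl⟩, hmw⟩ := Subgroup.mem_sup_of_normal_left.mp hxin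
        obtain ⟨k, rfl | rfl⟩ := Int.even_or_odd' n
        · exfalso
          apply hxM
          rw [← hmw]
          refine mul_mem hm ?_
          simp only [zpow_mul]
          exact zpow_mem (hDle (by simpa [sq] using hD2 y)) _
        · rw [← hmw, show (fun z : ℤ => y ^ z) (2 * k + 1) = y ^ (2 * k) * y by
            simp [zpow_add], mul_assoc, mul_inv_cancel_right]
          refine mul_mem hm ?_
          simp only [zpow_mul]
          exact zpow_mem (hDle (by simpa [sq] using hD2 y)) _
      obtain ⟨y, hyK, hyM⟩ := SetLike.exists_of_lt hK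
      have hxK : x ∈ K := by
        have := mul_mem (hK.le (hxy y hyM)) hyK
        simpa using this
      intro w _
      by_cases hw : w ∈ M
      · exact hK.le hw
      · have := mul_mem (inv_mem (hK.le (hxy w hw))) hxK
        simpa using this
    exact hxM (frattini_le_coatom hcoatom hx)
  refine ⟨fun x hx => (hΦ hx).1, ⟨⟨fun a b => Subtype.ext ?_⟩⟩, fun a ha => ?_⟩
  · exact (Subgroup.mem_center_iff.mp (hΦ a.2).1 b).symm
  · simpa [sq] using (hΦ ha).2

end Cfsg.Agent.S4056
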