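import Cfsg.Statements.S4058
import Cfsg.Agent.Lib.Indicator.Integral
import Cfsg.Agent.Lib.Chars.Real
import Cfsg.Agent.Lib.Chars.Ops
import Cfsg.Agent.Lib.Chars.Integral
import Cfsg.Agent.Lib.PGroup.Frattini

set_option autoImplicit false
set_option maxHeartbeats 400000
open Cfsg

namespace Cfsg.Agent.S4058

open scoped ComplexConjugate
open Cfsg.Agent.Lib

universe u

theorem card_stabiliser_le {G : Type u} [Group G] [Fintype G] (χ : IrrCharacter G) {n : ℕ}
    (hn : (χ : G → ℂ) 1 = n) (K : Finset (G →* ℂˣ))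
    (hK : ∀ φ ∈ K, (∀ g, conj ((φ g : ℂ)) = (φ g : ℂ)) ∧ ∀ g, (φ g : ℂ) * (χ : G → ℂ) g = (χ : G → ℂ) g) :
    K.card ≤ n ^ 2 := by
  classical
  have hch : IsCharacter G ((χ : G → ℂ) * fun g => conj ((χ : G → ℂ) g)) :=
    Chars.isCharacter_mul (Chars.irr_isCharacter χ) (Chars.isCharacter_star (Chars.irr_isCharacter χ))
  obtain ⟨m, hm⟩ := Chars.isCharacter_exists_nat_decomp hch
  have hone : ∀ φ ∈ K, m (Chars.linIrr φ) = 1 := by
    intro φ hφ
    have h1 : classInner ((χ : G → ℂ) * fun g => conj ((χ : G → ℂ) g))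
        (Chars.linIrr φ : G → ℂ) = 1 := by
      rw [← Chars.classInner_irr_self χ]
      simp only [classInner]
      congr 1
      refine Finset.sum_congr rfl fun g _ => ?_
      show (χ : G → ℂ) g * conj ((χ : G → ℂ) g) * conj ((φ g : ℂ)) = _
      rw [(hK φ hφ).1 g]
      conv_rhs => lhs; rw [← (hK φ hφ).2 g]
      ring
    rw [hm, Chars.classInner_sum_smul_irr] at h1
    exact_mod_cast h1
  choose d hd using fun ψ : IrrCharacter G => Chars.isCharacter_exists_degree (Chars.irr_isCharacter ψ)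
  have h2 : n ^ 2 = ∑ ψ, m ψ * d ψ := by
    have e := congrFun hm 1
    simp only [Pi.mul_apply, Finset.sum_apply, Pi.smul_apply, smul_eq_mul, hn] at e
    simp only [hd, Complex.conj_natCast] at e
    rw [sq]
    exact_mod_cast e
  have h3 : ∀ φ ∈ K, m (Chars.linIrr φ) * d (Chars.linIrr φ) = 1 := by
    intro φ hφ
    have : ((d (Chars.linIrr φ) : ℕ) : ℂ) = 1 := by
      rw [← hd]
      show ((φ 1 : ℂˣ) : ℂ) = 1
      simp
    rw [hone φ hφ, Nat.cast_eq_one.1 this]
  calc K.card = ∑ ψ ∈ K.image Chars.linIrr, m ψ * d ψ := by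
        rw [Finset.sum_image (Chars.linIrr_injective.injOn), Finset.sum_congr rfl h3]
        simp
    _ ≤ ∑ ψ, m ψ * d ψ := Finset.sum_le_sum_of_subset (Finset.subset_univ _)
    _ = n ^ 2 := h2.symm

/-- A sum of an invariant function is divisible by `m` if all (orbit size) * value are. -/
theorem dvd_sum_of_orbits {A X : Type*} [Group A] [MulAction A X] [Fintype X] (f : X → ℤ) (m : ℤ)
    (hinv : ∀ (a : A) (x : X), f (a • x) = f x)
    (h : ∀ x : X, m ∣ (Nat.card (MulAction.orbit A x) : ℤ) * f x) : m ∣ ∑ x, f x := by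
  classical
  rw [← Finset.sum_fiberwise Finset.univ (Quotient.mk'' : X → MulAction.orbitRel.Quotient A X) f]
  refine Finset.dvd_sum fun q _ => ?_
  obtain ⟨x, rfl⟩ := Quotient.mk''_surjective q
  have hiff : ∀ y : X, (Quotient.mk'' y : MulAction.orbitRel.Quotient A X) = Quotient.mk'' x ↔
      y ∈ MulAction.orbit A x := fun y => by
    rw [Quotient.eq'']; exact MulAction.orbitRel_apply
  rw [Finset.sum_congr rfl (g := fun _ => f x) (fun y hy => by
    obtain ⟨a, rfl⟩ := (hiff y).1 (Finset.mem_filter.1 hy).2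
    exact hinv a x)]
  rw [Finset.sum_const, nsmul_eq_mul]
  have hc : (Finset.univ.filter fun y : X =>
      (Quotient.mk'' y : MulAction.orbitRel.Quotient A X) = Quotient.mk'' x).card =
      Nat.card (MulAction.orbit A x) := by
    rw [Nat.card_eq_fintype_card, ← Set.toFinset_card]
    congr 1
    ext y
    simp [hiff]
  rw [hc]
  exact h x

/-- Let G be a finite 2-group with #(G/Φ(G)) ≥ 2^(2k+1). Then the number of elements x of G with x² = 1 is divisible by 2^(k+1). -/
theorem result {G : Type*} [Group G] [Finite G] (hG : IsPGroup 2 G) (k : ℕ)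
    (hgen : 2 ^ (2 * k + 1) ≤ Nat.card (G ⧸ frattini G)) :
    2 ^ (k + 1) ∣ Nat.card {x : G // x ^ 2 = 1} := by
  classical
  cases nonempty_fintype G
  have : Fact (Nat.Prime 2) := ⟨Nat.prime_two⟩
  set D := G ⧸ frattini G with hD
  have hcomm : commutator D = ⊥ := by
    rw [← derivedSeries_one, ← map_derivedSeries_eq (QuotientGroup.mk'_surjective (frattini G)) 1,
      derivedSeries_one, Subgroup.map_eq_bot_iff, QuotientGroup.ker_mk']
    exact PFrattini.commutator_le_frattini hG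
  have hsq : ∀ x : D, x ^ 2 = 1 := by
    intro x
    induction x using QuotientGroup.induction_on with
    | _ g =>
      rw [← QuotientGroup.mk_pow, QuotientGroup.eq_one_iff]
      exact PFrattini.pow_mem_frattini hG g
  obtain ⟨d, hd⟩ := (hG.to_quotient (frattini G)).exists_card_eq
  have hkd : 2 * k + 1 ≤ d := by
    rw [hD, hd] at hgen
    exact (Nat.pow_le_pow_iff_right (by norm_num)).1 hgen
  have hΛ : Nat.card (D →* ℂˣ) = 2 ^ d := by
    rw [Chars.card_monoidHom_units, hcomm, Subgroup.index_bot, hd]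
  have : Finite (D →* ℂˣ) := Nat.finite_of_card_ne_zero (by rw [hΛ]; positivity)
  cases nonempty_fintype (D →* ℂˣ)
  let cmp : (D →* ℂˣ) → (G →* ℂˣ) := fun φ => φ.comp (QuotientGroup.mk' (frattini G))
  have cmp_inj : Function.Injective cmp := fun a b hab =>
    MonoidHom.ext fun x => by
      obtain ⟨g, rfl⟩ := QuotientGroup.mk'_surjective (frattini G) x
      exact DFunLike.congr_fun hab g
  let _ : MulAction (D →* ℂˣ) (IrrCharacter G) :=
    { smul := fun φ χ => ⟨fun g => (cmp φ g : ℂ) * (χ : G → ℂ) g,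
        Chars.isIrrCharacter_hom_mul (cmp φ) χ.2⟩
      one_smul := fun χ => Subtype.ext (funext fun g => by
        show ((cmp 1 g : ℂˣ) : ℂ) * _ = _
        simp [cmp])
      mul_smul := fun a b χ => Subtype.ext (funext fun g => by
        show ((cmp (a * b) g : ℂˣ) : ℂ) * _ = (cmp a g : ℂ) * ((cmp b g : ℂ) * _)
        simp [cmp, mul_assoc]) }
  have smul_def : ∀ (φ : D →* ℂˣ) (χ : IrrCharacter G) (g : G),
      ((φ • χ : IrrCharacter G) : G → ℂ) g = (cmp φ g : ℂ) * (χ : G → ℂ) g := fun _ _ _ => rfl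
  have hpm : ∀ (φ : D →* ℂˣ) (g : G), (cmp φ g : ℂ) ^ 2 = 1 := by
    intro φ g
    show ((φ (g : D) : ℂˣ) : ℂ) ^ 2 = 1
    rw [← Units.val_pow_eq_pow_val, ← map_pow, hsq, map_one, Units.val_one]
  choose ν hν using fun χ : IrrCharacter G =>
    Indicator.exists_int_avg_char_sq (Chars.irr_isCharacter χ)
  choose n hn using fun χ : IrrCharacter G => Chars.isCharacter_exists_degree (Chars.irr_isCharacter χ)
  have hinvn : ∀ (φ : D →* ℂˣ) (χ : IrrCharacter G), n (φ • χ) = n χ := fun φ χ => by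
    have e : ((n (φ • χ) : ℕ) : ℂ) = (n χ : ℕ) := by
      rw [← hn, ← hn, smul_def]; simp
    exact_mod_cast e
  have hinvν : ∀ (φ : D →* ℂˣ) (χ : IrrCharacter G), ν (φ • χ) = ν χ := fun φ χ => by
    have e : ((ν (φ • χ) : ℤ) : ℂ) = (ν χ : ℤ) := by
      rw [← hν, ← hν]
      congr 1
      refine Finset.sum_congr rfl fun g _ => ?_
      rw [smul_def, map_mul, Units.val_mul, ← sq, hpm, one_mul]
    exact_mod_cast e
  have hmain : ((2 : ℤ) ^ (k + 1)) ∣ ∑ χ : IrrCharacter G, ν χ * (n χ : ℤ) := by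
    refine dvd_sum_of_orbits (A := D →* ℂˣ) _ _ (fun φ χ => by simp only [hinvn, hinvν]) ?_
    intro χ
    obtain ⟨e, he⟩ := hG.exists_card_eq
    obtain ⟨n', hn', hdvd⟩ : ∃ n' : ℕ, (χ : G → ℂ) 1 = n' ∧ n' ∣ 2 ^ e := by
      obtain ⟨r, -, hr1, hr2⟩ := Chars.irr_degree_dvd_card χ
      exact ⟨r, hr1, he ▸ hr2⟩
    have hnn : n' = n χ := by exact_mod_cast hn'.symm.trans (hn χ)
    subst hnn
    obtain ⟨a, -, ha⟩ := (Nat.dvd_prime_pow Nat.prime_two).1 hdvd
    have horb : Nat.card (MulAction.orbit (D →* ℂˣ) χ) *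
        Nat.card (MulAction.stabilizer (D →* ℂˣ) χ) = Nat.card (D →* ℂˣ) := by
      rw [mul_comm, Nat.card_coe_set_eq, ← MulAction.index_stabilizer, Subgroup.card_mul_index]
    have hstab : Nat.card (MulAction.stabilizer (D →* ℂˣ) χ) ≤ (2 ^ a) ^ 2 := by
      rw [← ha]
      have := card_stabiliser_le χ (hn χ)
        ((Finset.univ.filter fun φ : D →* ℂˣ => φ • χ = χ).image cmp) ?_
      · rw [Finset.card_image_of_injective _ cmp_inj] at this
        refine le_trans (le_of_eq ?_) this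
        rw [Nat.card_eq_fintype_card, Fintype.card_subtype]
        simp [MulAction.mem_stabilizer_iff]
      · intro ψ hψ
        obtain ⟨φ, hφ, rfl⟩ := Finset.mem_image.1 hψ
        refine ⟨fun g => ?_, fun g => ?_⟩
        · rcases sq_eq_one_iff.1 (hpm φ g) with h | h <;> rw [h] <;> simp
        · rw [← smul_def, (Finset.mem_filter.1 hφ).2]
    have hdiv : Nat.card (MulAction.orbit (D →* ℂˣ) χ) ∣ 2 ^ d := hΛ ▸ Dvd.intro _ horb
    obtain ⟨b, -, hb⟩ := (Nat.dvd_prime_pow Nat.prime_two).1 hdiv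
    have hle : d ≤ b + 2 * a := by
      refine (Nat.pow_le_pow_iff_right (by norm_num : 1 < 2)).1 ?_
      rw [← hΛ, ← horb, hb, pow_add, mul_comm 2 a, pow_mul]
      exact Nat.mul_le_mul_left _ hstab
    rw [hb, ha]
    push_cast
    rw [mul_comm (ν χ), ← mul_assoc, ← pow_add]
    exact dvd_mul_of_dvd_left (pow_dvd_pow _ (by omega)) _
  have hcount : (Nat.card {x : G // x ^ 2 = 1} : ℤ) = ∑ χ : IrrCharacter G, ν χ * (n χ : ℤ) := by
    have e : ((Nat.card {x : G // x ^ 2 = 1} : ℤ) : ℂ) =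
        ((∑ χ : IrrCharacter G, ν χ * (n χ : ℤ) : ℤ) : ℂ) := by
      push_cast
      simp only [pow_two]
      rw [Chars.card_sq_eq_one]
      exact Finset.sum_congr rfl fun χ _ => by rw [hν, hn]
    exact_mod_cast e
  rw [← Int.natCast_dvd_natCast, hcount]
  exact_mod_cast hmain

end Cfsg.Agent.S4058
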