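import Cfsg.Statements.S4065
import Mathlib
import Cfsg.Agent.Lib.SL2.Commutant

set_option autoImplicit false
open Cfsg

namespace Cfsg.Agent.S4065

open Matrix

/-- If all centralizers of nontrivial elements are abelian, they are TI-subsets. -/
lemma isTISubset_of_ca {G : Type*} [Group G]
    (hca : ∀ x : G, x ≠ 1 → ∀ a b : G, Commute a x → Commute b x → Commute a b) (x : G) :
    Cfsg.IsTISubset (Subgroup.centralizer ({x} : Set G) : Set G) := by
  intro g hg y hy hgy
  rw [SetLike.mem_coe, Subgroup.mem_centralizer_singleton_iff] at hy hgy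
  by_contra hy1
  have hgy1 : g * y * g⁻¹ ≠ 1 := fun h => hy1 (conj_eq_one_iff.mp h)
  apply hg
  by_cases hx : x = 1
  · rw [Subgroup.mem_normalizer_iff]
    intro a
    simp [hx, Subgroup.mem_centralizer_singleton_iff]
  have hC : ∀ w : G, Commute w x → w ≠ 1 → ∀ a : G, (Commute a x ↔ Commute a w) := fun w hw hw1 a =>
    ⟨fun ha => hca x hx a w ha hw, fun ha => hca w hw1 a x ha hw.symm⟩
  rw [Subgroup.mem_normalizer_iff]
  intro a
  show a ∈ Subgroup.centralizer ({x} : Set G) ↔ g * a * g⁻¹ ∈ Subgroup.centralizer ({x} : Set G)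
  rw [Subgroup.mem_centralizer_singleton_iff, Subgroup.mem_centralizer_singleton_iff]
  show Commute a x ↔ Commute (g * a * g⁻¹) x
  rw [hC y hy hy1, hC _ hgy hgy1]
  constructor
  · exact fun h => h.map (MulAut.conj g).toMonoidHom
  · intro h
    have := h.map (MulAut.conj g⁻¹).toMonoidHom
    simpa [mul_assoc] using this

lemma center_eq_bot (n : ℕ) :
    Subgroup.center (Matrix.SpecialLinearGroup (Fin 2) (GaloisField 2 n)) = ⊥ := by
  rw [eq_bot_iff]
  intro M hM
  rw [Matrix.SpecialLinearGroup.mem_center_iff] at hM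
  obtain ⟨r, hr, hrM⟩ := hM
  rw [Fintype.card_fin, sq] at hr
  have hr1 : r = 1 := by
    haveI : CharP (GaloisField 2 n) 2 := inferInstance
    have : (r - 1) * (r - 1) = 0 := by
      linear_combination hr - (r - 1) * (CharTwo.two_eq_zero : (2 : GaloisField 2 n) = 0)
    exact sub_eq_zero.mp (mul_self_eq_zero.mp this)
  rw [Subgroup.mem_bot]
  apply Subtype.ext
  rw [← hrM, hr1, map_one]
  rfl

/-- Let F be a finite field with 2ⁿ elements, n ≥ 2. In PSL₂(F) the centralizer of every element meets each of its conjugates by elements outside its normalizer trivially. -/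
theorem result (n : ℕ) (hn : 2 ≤ n)
    (x : Matrix.ProjectiveSpecialLinearGroup (Fin 2) (GaloisField 2 n)) :
    Cfsg.IsTISubset (Subgroup.centralizer ({x} : Set (Matrix.ProjectiveSpecialLinearGroup (Fin 2) (GaloisField 2 n))) :
      Set (Matrix.ProjectiveSpecialLinearGroup (Fin 2) (GaloisField 2 n))) := by
  refine isTISubset_of_ca ?_ x
  intro M hM A B hA hB
  induction M using QuotientGroup.induction_on with | _ M => ?_
  induction A using QuotientGroup.induction_on with | _ A => ?_
  induction B using QuotientGroup.induction_on with | _ B => ?_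
  have lift : ∀ X Y : Matrix.SpecialLinearGroup (Fin 2) (GaloisField 2 n),
      Commute (X : Matrix.ProjectiveSpecialLinearGroup (Fin 2) (GaloisField 2 n)) (Y : _) → Commute X Y := by
    intro X Y h
    have h' : ((X * Y : Matrix.SpecialLinearGroup (Fin 2) (GaloisField 2 n)) :
        Matrix.ProjectiveSpecialLinearGroup (Fin 2) (GaloisField 2 n)) = ((Y * X : _)) := h
    rw [QuotientGroup.eq, center_eq_bot, Subgroup.mem_bot, inv_mul_eq_one] at h'
    exact h'
  have hns : ¬ Cfsg.Agent.Lib.SL2.IsScalarMat (M : Matrix (Fin 2) (Fin 2) (GaloisField 2 n)) := by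
    rintro ⟨h01, h10, h00⟩
    apply hM
    rw [QuotientGroup.eq_one_iff]
    rw [Matrix.SpecialLinearGroup.mem_center_iff]
    refine ⟨(M : Matrix (Fin 2) (Fin 2) (GaloisField 2 n)) 0 0, ?_, ?_⟩
    · have hd := M.det_coe
      rw [Matrix.det_fin_two, h01, ← h00, zero_mul, sub_zero] at hd
      rw [Fintype.card_fin, sq, hd]
    · ext i j
      fin_cases i <;> fin_cases j <;> simp [h01, h10, h00]
  have h : Commute A B := Subtype.ext
    (Cfsg.Agent.Lib.SL2.commute_of_commute hns
      (congrArg Subtype.val (lift A M hA)) (congrArg Subtype.val (lift B M hB)))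
  exact h.map (QuotientGroup.mk' _)

end Cfsg.Agent.S4065
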