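import Cfsg.Statements.S4066
import Mathlib

set_option autoImplicit false
open Cfsg

namespace Cfsg.Agent.S4066

open scoped Pointwise

/-- Let G be a finite group in which the centralizer of every element meets each of its conjugates by elements outside its normalizer trivially. Then any two distinct Sylow p-subgroups of G, for any prime p, intersect trivially. -/
theorem result {G : Type*} [Group G] [Finite G] (hTI : ∀ x : G, Cfsg.IsTISubset (Subgroup.centralizer ({x} : Set G) : Set G))
    {p : ℕ} [Fact p.Prime] (P Q : Sylow p G) (hPQ : P ≠ Q) : (P : Subgroup G) ⊓ (Q : Subgroup G) = ⊥ := by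
  by_contra hD
  obtain ⟨⟨d, hd⟩, hd1⟩ := (Subgroup.ne_bot_iff_exists_ne_one.mp hD)
  have hd1' : d ≠ 1 := fun e => hd1 (Subtype.ext e)
  obtain ⟨hdP, hdQ⟩ := Subgroup.mem_inf.mp hd
  haveI : Nontrivial (P : Subgroup G) := ⟨⟨⟨d, hdP⟩, 1, fun e => hd1' (congrArg Subtype.val e)⟩⟩
  haveI := P.isPGroup'.center_nontrivial
  obtain ⟨⟨⟨z, hzP⟩, hzc⟩, hz1⟩ := exists_ne (1 : Subgroup.center (P : Subgroup G))
  have hzz : z ≠ 1 := fun e => hz1 (Subtype.ext (Subtype.ext e))
  have hPM : (P : Subgroup G) ≤ Subgroup.centralizer ({z} : Set G) := by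
    intro a ha
    rw [Subgroup.mem_centralizer_singleton_iff]
    exact congrArg Subtype.val (Subgroup.mem_center_iff.mp hzc ⟨a, ha⟩)
  obtain ⟨g, rfl⟩ := MulAction.exists_smul_eq G P Q
  have hQmem : ∀ a : G, a ∈ ((g • P : Sylow p G) : Subgroup G) → g⁻¹ * a * g ∈ (P : Subgroup G) := by
    intro a ha
    have : a ∈ (MulAut.conj g • (P : Subgroup G)) := ha
    rw [Subgroup.mem_pointwise_smul_iff_inv_smul_mem] at this
    simpa [MulAut.smul_def, MulAut.inv_def] using this
  have hgN : g ∈ Subgroup.normalizer (Subgroup.centralizer ({z} : Set G) : Set G) := by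
    by_contra hg
    have := hTI z g hg _ (hPM (hQmem d hdQ)) (by
      have e : g * (g⁻¹ * d * g) * g⁻¹ = d := by group
      rw [SetLike.mem_coe, e]; exact hPM hdP)
    exact hd1' (by
      have e : d = g * (g⁻¹ * d * g) * g⁻¹ := by group
      rw [e, this]; group)
  have hQM : ((g • P : Sylow p G) : Subgroup G) ≤ Subgroup.centralizer ({z} : Set G) := by
    intro a ha
    have := (Subgroup.mem_normalizer_iff.mp hgN (g⁻¹ * a * g)).mp (hPM (hQmem a ha))
    simpa [mul_assoc] using this
  set M := Subgroup.centralizer ({z} : Set G) with hM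
  set Q := (g • P : Sylow p G)
  -- inside `M` all centralisers are normal
  have hnorm : ∀ w ∈ M, ∀ m ∈ M, Commute (m * w * m⁻¹) w := by
    intro w hw m hm
    have hzw : z ∈ Subgroup.centralizer ({w} : Set G) := by
      rw [hM, Subgroup.mem_centralizer_singleton_iff] at hw
      rw [Subgroup.mem_centralizer_singleton_iff]
      exact hw.symm
    have hmN : m ∈ Subgroup.normalizer (Subgroup.centralizer ({w} : Set G) : Set G) := by
      by_contra hmn
      refine hzz (hTI w m hmn z hzw ?_)
      rw [hM, Subgroup.mem_centralizer_singleton_iff] at hm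
      rw [SetLike.mem_coe, show m * z * m⁻¹ = z by rw [hm]; group]
      exact hzw
    have hww : w ∈ Subgroup.centralizer ({w} : Set G) :=
      Subgroup.mem_centralizer_singleton_iff.mpr rfl
    exact Subgroup.mem_centralizer_singleton_iff.mp ((Subgroup.mem_normalizer_iff.mp hmN w).mp hww)
  apply hPQ
  have hle : (P : Subgroup G) ≤ (Q : Subgroup G) := by
    intro x hx
    set S : Set G := {y | ∃ m ∈ M, m * x * m⁻¹ = y} with hS
    have hcomm : ∀ a ∈ S, ∀ b ∈ S, a * b = b * a := by
      rintro _ ⟨m₁, hm₁, rfl⟩ _ ⟨m₂, hm₂, rfl⟩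
      have := (hnorm x (hPM hx) _ (mul_mem (inv_mem hm₂) hm₁)).map (MulAut.conj m₂).toMonoidHom
      have e : m₂ * (m₂⁻¹ * m₁ * x * (m₂⁻¹ * m₁)⁻¹) * m₂⁻¹ = m₁ * x * m₁⁻¹ := by group
      simp only [MulEquiv.coe_toMonoidHom, MulAut.conj_apply, e] at this
      exact this.eq
    haveI : IsMulCommutative (Subgroup.closure S) := Subgroup.isMulCommutative_closure hcomm
    have hA : IsPGroup p (Subgroup.closure S) := by
      rintro ⟨y, hy⟩
      induction hy using Subgroup.closure_induction with
      | mem y hy =>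
        obtain ⟨m, hm, rfl⟩ := hy
        obtain ⟨k, hk⟩ := P.isPGroup' ⟨x, hx⟩
        refine ⟨k, Subtype.ext ?_⟩
        have hk' : x ^ p ^ k = 1 := congrArg Subtype.val hk
        show (m * x * m⁻¹) ^ p ^ k = 1
        simp [conj_pow, hk']
      | one => exact ⟨0, by simp⟩
      | mul a b ha hb iha ihb =>
        obtain ⟨i, hi⟩ := iha
        obtain ⟨j, hj⟩ := ihb
        refine ⟨i + j, ?_⟩
        show ((⟨a, ha⟩ : Subgroup.closure S) * ⟨b, hb⟩) ^ p ^ (i + j) = 1
        have hab : Commute (⟨a, ha⟩ : Subgroup.closure S) ⟨b, hb⟩ := IsMulCommutative.is_comm.comm _ _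
        rw [hab.mul_pow,
          pow_add, pow_mul, hi, one_pow, one_mul, mul_comm (p ^ i), pow_mul, hj, one_pow]
      | inv a ha iha =>
        obtain ⟨i, hi⟩ := iha
        refine ⟨i, ?_⟩
        show (⟨a, ha⟩ : Subgroup.closure S)⁻¹ ^ p ^ i = 1
        rw [inv_pow, hi, inv_one]
    have hQn : (Q : Subgroup G) ≤ Subgroup.normalizer (Subgroup.closure S : Set G) := by
      have key : ∀ b ∈ M, ∀ y ∈ Subgroup.closure S, b * y * b⁻¹ ∈ Subgroup.closure S := by
        intro b hb y hy
        have hmap : Subgroup.closure S ≤ (Subgroup.closure S).comap (MulAut.conj b).toMonoidHom := by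
          rw [Subgroup.closure_le]
          rintro _ ⟨m, hm, rfl⟩
          refine Subgroup.subset_closure ⟨b * m, mul_mem hb hm, ?_⟩
          simp [mul_assoc]
        exact hmap hy
      intro b hb
      rw [Subgroup.mem_normalizer_iff]
      intro y
      refine ⟨key b (hQM hb) y, fun h => ?_⟩
      have := key b⁻¹ (inv_mem (hQM hb)) _ h
      simpa [mul_assoc] using this
    have hsup : IsPGroup p ((Q : Subgroup G) ⊔ Subgroup.closure S : Subgroup G) :=
      Q.isPGroup'.to_sup_of_normal_right' hA hQn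
    rw [← Q.is_maximal' hsup le_sup_left]
    exact Subgroup.mem_sup_right (Subgroup.subset_closure ⟨1, one_mem _, by simp⟩)
  exact Sylow.ext ((P.is_maximal' Q.isPGroup' hle).symm)

end Cfsg.Agent.S4066
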