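import Cfsg.Statements.S4067
import Mathlib
import Cfsg.Agent.Lib.Chars.Ops
import Cfsg.Agent.Lib.Chars.Completeness
import Cfsg.Agent.Lib.TwoGroup.RestrictedCyclic
import Cfsg.Agent.Lib.AutOrbits.CentralCommutator

set_option autoImplicit false
open Cfsg

namespace Cfsg.Agent.S4067

open Cfsg.Agent.Lib.AutOrbits Cfsg.Agent.Lib.TwoGroup

/-- The class number is at most `|G| / p` when the derived subgroup has more than `p` elements. -/
theorem card_classes_le {G : Type*} [Group G] [Finite G] {p : ℕ} (hp : p = (Nat.card G).minFac)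
    (hG1 : Nat.card G ≠ 1) (hbig : p + 1 ≤ Nat.card (commutator G)) :
    p * Nat.card (ConjClasses G) ≤ Nat.card G := by
  classical
  cases nonempty_fintype G
  have hpp : p.Prime := hp ▸ Nat.minFac_prime hG1
  choose e he0 he using fun ψ : Cfsg.IrrCharacter G => Lib.Chars.isIrrCharacter_exists_degree_pos ψ.2
  have hsq : ∑ ψ, e ψ ^ 2 = Nat.card G := by
    have := Lib.Chars.sum_degree_sq (G := G)
    simp only [he] at this
    exact_mod_cast this
  have hge : ∀ ψ, e ψ ≠ 1 → p ^ 2 ≤ e ψ ^ 2 := by
    intro ψ hne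
    refine Nat.pow_le_pow_left ?_ 2
    obtain ⟨m, -, hm, hdvd⟩ := Lib.Chars.irr_degree_dvd_card ψ
    have hem : e ψ = m := by exact_mod_cast (he ψ).symm.trans hm
    have h2 : 2 ≤ e ψ := by have := he0 ψ; omega
    rw [hp]
    exact Nat.minFac_le_of_dvd h2 (hem ▸ hdvd)
  have hlin : (Finset.univ.filter fun ψ => e ψ = 1).card = (commutator G).index := by
    rw [← Lib.Chars.card_linear_irr (G := G), Nat.card_eq_fintype_card, Fintype.card_subtype]
    refine congrArg _ (Finset.filter_congr fun ψ _ => ?_)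
    rw [he ψ, Nat.cast_eq_one]
  have hsum : (Finset.univ.filter fun ψ => e ψ = 1).card +
      p ^ 2 * (Finset.univ.filter fun ψ => ¬ e ψ = 1).card ≤ Nat.card G := by
    rw [← hsq, ← Finset.sum_filter_add_sum_filter_not Finset.univ (fun ψ => e ψ = 1) fun ψ => e ψ ^ 2]
    refine Nat.add_le_add (le_of_eq ?_) ?_
    · rw [Finset.card_eq_sum_ones]
      exact Finset.sum_congr rfl fun ψ hψ => by rw [(Finset.mem_filter.mp hψ).2, one_pow]
    · rw [mul_comm, ← smul_eq_mul]
      exact Finset.card_nsmul_le_sum _ _ _ fun ψ hψ => hge ψ (Finset.mem_filter.mp hψ).2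
  have htot : (Finset.univ.filter fun ψ => e ψ = 1).card + (Finset.univ.filter fun ψ => ¬ e ψ = 1).card =
      Nat.card (ConjClasses G) := by
    rw [Finset.card_filter_add_card_filter_not, Finset.card_univ, ← Nat.card_eq_fintype_card,
      Lib.Chars.card_irrCharacter]
  have hidx := Subgroup.card_mul_index (commutator G)
  rw [hlin] at hsum htot
  set L := (commutator G).index
  set N := (Finset.univ.filter fun ψ => ¬ e ψ = 1).card
  set o := Nat.card (commutator G)
  rw [← hidx] at hsum ⊢
  rw [← htot]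
  have h2 := hpp.two_le
  obtain ⟨d, hd⟩ : ∃ d, o = p + 1 + d := ⟨o - (p + 1), by omega⟩
  rw [hd] at hsum ⊢
  obtain ⟨q, rfl⟩ : ∃ q, p = q + 2 := ⟨p - 2, by omega⟩
  refine Nat.le_of_mul_le_mul_left ?_ (by omega : 0 < q + 2)
  nlinarith [Nat.zero_le (L * d), Nat.zero_le (L * d * q)]

theorem zmod_two_ne : ∀ i : ZMod 2, i ≠ 0 → i = 1 := by decide

theorem zmod_two_cases : ∀ i : ZMod 2, i = 0 ∨ i = 1 := by decide

/-- Conjugate elements are in one orbit of the automorphism group. -/
theorem card_orbits_le_classes {G : Type*} [Group G] [Finite G] :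
    Nat.card (AutOrbit G) ≤ Nat.card (ConjClasses G) := by
  refine Nat.card_le_card_of_surjective
    (Quot.lift (fun g => (Quotient.mk'' g : AutOrbit G)) fun a b hab => ?_) fun o => ?_
  · obtain ⟨c, rfl⟩ := isConj_iff.mp hab
    exact mk_eq_of_aut (MulAut.conj c) rfl
  · induction o using Quotient.inductionOn' with
    | h x => exact ⟨ConjClasses.mk x, rfl⟩

/-- Let G be a finite non-abelian group and p the least prime dividing its order. Then the automorphism group of G has at most #G/p orbits on G. -/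
theorem result {G : Type*} [Group G] [Finite G] (hna : ¬ IsMulCommutative G) :
    Nat.card (MulAction.orbitRel.Quotient (MulAut G) G) ≤ Nat.card G / (Nat.card G).minFac := by
  classical
  set p := (Nat.card G).minFac with hpdef
  have hG1 : Nat.card G ≠ 1 := fun h => by
    haveI := (Nat.card_eq_one_iff_unique.mp h).1
    exact hna ⟨⟨fun a b => Subsingleton.elim _ _⟩⟩
  have hp : p.Prime := Nat.minFac_prime hG1
  haveI := Fact.mk hp
  rw [Nat.le_div_iff_mul_le hp.pos, mul_comm]
  clear_value p
  have hmin : ∀ d, d ∣ Nat.card G → d ≠ 1 → p ≤ d := fun d hd hd1 => by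
    rw [hpdef]
    refine Nat.minFac_le_of_dvd ?_ hd
    rcases d with _ | _ | d
    · exact absurd (Nat.eq_zero_of_zero_dvd hd) Nat.card_pos.ne'
    · exact absurd rfl hd1
    · omega
  have hG'ne : Nat.card (commutator G) ≠ 1 := by
    intro h
    refine hna ⟨⟨fun a b => commutatorElement_eq_one_iff_mul_comm.mp (Subgroup.mem_bot.mp ?_)⟩⟩
    rw [← (Subgroup.card_eq_one.mp h), commutator_def]
    exact Subgroup.commutator_mem_commutator trivial trivial
  rcases Nat.lt_or_ge p (Nat.card (commutator G)) with hbig | hsmall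
  · exact (Nat.mul_le_mul_left _ card_orbits_le_classes).trans (card_classes_le hpdef hG1 hbig)
  have hcard : Nat.card (commutator G) = p :=
    le_antisymm hsmall (hmin _ (Subgroup.card_subgroup_dvd_card _) hG'ne)
  obtain ⟨⟨c, hcG⟩, hc⟩ := (isCyclic_of_prime_card hcard).exists_generator
  have hco : orderOf c = p := by
    rw [← Subgroup.orderOf_mk c hcG, orderOf_eq_card_of_forall_mem_zpowers hc, hcard]
  have hG'c : ∀ g ∈ commutator G, g ∈ Subgroup.zpowers c := fun g hg => by
    obtain ⟨k, hk⟩ := hc ⟨g, hg⟩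
    exact ⟨k, by simpa using congrArg Subtype.val hk⟩
  have hcc : c ∈ Subgroup.center G := by
    rw [Subgroup.mem_center_iff]
    intro g
    refine (commute_of_conj_mem_zpowers (hG'c _ ((inferInstance : (commutator G).Normal).conj_mem c hcG g)) ?_).eq
    rw [hco, Nat.totient_prime hp]
    refine Nat.coprime_of_dvd fun q hq hq1 hq2 => ?_
    have h1 := hmin q (hq1.trans (orderOf_dvd_natCard g)) hq.ne_one
    have h2 := Nat.le_of_dvd (by have := hp.two_le; omega) hq2
    have := hp.pos
    omega
  let D : Data G p :=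
    { c := c
      order := hco
      central := hcc
      comm := fun a g => by
        obtain ⟨k, hk⟩ := Subgroup.mem_zpowers_iff.mp (hG'c (a * g * a⁻¹ * g⁻¹) (by
          rw [commutator_def, ← commutatorElement_def]
          exact Subgroup.commutator_mem_commutator trivial trivial))
        exact ⟨(k : ZMod p), by rw [zmodPow_intCast (hco ▸ pow_orderOf_eq_one c), hk]⟩ }
  -- the index of the centre
  have hidx : p ^ 2 ≤ (Subgroup.center G).index := by
    set m := (Subgroup.center G).index with hm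
    have hmd : m ∣ Nat.card G := Subgroup.index_dvd_card _
    have hm1 : m ≠ 1 := fun h => hna ⟨⟨fun a b =>
      (Subgroup.mem_center_iff.mp ((Subgroup.index_eq_one.mp h).ge (Subgroup.mem_top b)) a)⟩⟩
    have hqd : m.minFac ∣ Nat.card G := (Nat.minFac_dvd m).trans hmd
    have hm' : ¬ m.Prime := fun hmp => by
      haveI := Fact.mk hmp
      haveI : IsCyclic (G ⧸ Subgroup.center G) := isCyclic_of_prime_card (p := m) rfl
      exact hna (MonoidHom.isMulCommutative_of_isCyclic_of_ker_le_center
        (QuotientGroup.mk' (Subgroup.center G)) (le_of_eq (QuotientGroup.ker_mk' _)))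
    calc p ^ 2 ≤ m.minFac ^ 2 := Nat.pow_le_pow_left (hmin _ hqd (Nat.minFac_prime hm1).ne_one) 2
      _ ≤ m := Nat.minFac_sq_le_self (Nat.pos_of_ne_zero Subgroup.index_ne_zero_of_finite) hm'
  let Ω : Subgroup G :=
    { carrier := {z | z ∈ Subgroup.center G ∧ z ^ p = 1}
      one_mem' := ⟨one_mem _, one_pow p⟩
      mul_mem' := fun {a b} ha hb => ⟨mul_mem ha.1 hb.1, by
        rw [(show Commute a b from Subgroup.mem_center_iff.mp hb.1 a).mul_pow, ha.2, hb.2, one_mul]⟩
      inv_mem' := fun {a} ha => ⟨inv_mem ha.1, by rw [inv_pow, ha.2, inv_one]⟩ }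
  haveI hΩn : Ω.Normal := ⟨fun z hz g => by
    rw [Subgroup.mem_center_iff.mp hz.1 g, mul_inv_cancel_right]; exact hz⟩
  rcases Nat.lt_or_ge (Nat.card Ω) (p ^ 2) with hΩ | hΩ
  swap
  · exact bound_of_omega_large D Ω (fun z hz => hz.1) (fun z hz => hz.2) hΩ hidx
  -- now `Ω₁(Z)` has order `p`
  have hΩ1 : Nat.card Ω = p := by
    have hΩp : IsPGroup p Ω := fun z => ⟨1, Subtype.ext (by simpa using z.2.2)⟩
    obtain ⟨k, hk⟩ := IsPGroup.iff_card.mp hΩp
    have hk1 : k < 2 := (Nat.pow_lt_pow_iff_right hp.one_lt).mp (hk ▸ hΩ)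
    have hk0 : k ≠ 0 := fun h => by
      have hcΩ : c ∈ Ω := ⟨hcc, hco ▸ pow_orderOf_eq_one c⟩
      rw [h, pow_zero, Subgroup.card_eq_one] at hk
      rw [hk, Subgroup.mem_bot] at hcΩ
      rw [hcΩ, orderOf_one] at hco
      exact hp.ne_one hco.symm
    rw [hk, show k = 1 by omega, pow_one]
  letI : CommGroup (Subgroup.center G) := { (inferInstance : Group (Subgroup.center G)) with
    mul_comm := fun a b => Subtype.ext (Subgroup.mem_center_iff.mp b.2 a) }
  set R := (powMonoidHom p : Subgroup.center G →* Subgroup.center G).range with hR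
  have hQ : Nat.card (Subgroup.center G ⧸ R) = p := by
    have h1 := Subgroup.card_mul_index (powMonoidHom p : Subgroup.center G →* Subgroup.center G).ker
    rw [Subgroup.index_ker, ← hR] at h1
    have h2 := Subgroup.card_eq_card_quotient_mul_card_subgroup R
    have h3 : Nat.card (powMonoidHom p : Subgroup.center G →* Subgroup.center G).ker = p := by
      refine Eq.trans (Nat.card_congr ?_) hΩ1
      exact
        { toFun := fun z => ⟨z.1.1, z.1.2, by simpa using congrArg Subtype.val z.2⟩
          invFun := fun z => ⟨⟨z.1, z.2.1⟩, Subtype.ext (by simpa using z.2.2)⟩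
          left_inv := fun z => rfl
          right_inv := fun z => rfl }
    rw [h3] at h1
    exact (Nat.mul_right_cancel Nat.card_pos (h1.trans h2)).symm
  let q : G → Subgroup.center G ⧸ R := fun g =>
    ((⟨g ^ p, D.pow_mem_center g⟩ : Subgroup.center G) : Subgroup.center G ⧸ R)
  have hCc : ∀ i, D.C i ∈ Subgroup.center G := D.C_mem_center
  have hq : ∀ u v : G, q (u * v) = q u * q v *
      ((⟨D.C (D.L v u), hCc _⟩ : Subgroup.center G) : Subgroup.center G ⧸ R) ^ p.choose 2 := by
    intro u v
    simp only [q, ← QuotientGroup.mk_pow, ← QuotientGroup.mk_mul]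
    refine congrArg _ (Subtype.ext ?_)
    show (u * v) ^ p = u ^ p * v ^ p * D.C (D.L v u) ^ p.choose 2
    exact mul_pow_central (hCc _) (D.L_spec v u) p
  -- lifting a congruence modulo `p`-th powers
  have hlift : ∀ (u : G) (z : G) (hz : z ∈ Subgroup.center G), u ∉ Subgroup.center G →
      q u = ((⟨z, hz⟩ : Subgroup.center G) : Subgroup.center G ⧸ R) →
      ∃ w, w ∉ Subgroup.center G ∧ w ^ p = z := by
    intro u z hz hu h
    obtain ⟨r, hr⟩ := QuotientGroup.eq.mp h.symm
    have hr' : (r : G) ^ p = z⁻¹ * u ^ p := by simpa using congrArg Subtype.val hr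
    refine ⟨u * (r : G)⁻¹, fun hm => hu (by simpa using mul_mem hm r.2), ?_⟩
    rw [(show Commute u (r : G)⁻¹ from Subgroup.mem_center_iff.mp (inv_mem r.2) u).mul_pow, inv_pow, hr',
      mul_inv_rev, inv_inv, ← mul_assoc, mul_inv_cancel, one_mul]
  obtain ⟨x, y, hxy⟩ : ∃ x y : G, ¬ Commute x y := by
    by_contra h
    push Not at h
    exact hna ⟨⟨fun a b => h a b⟩⟩
  have hxc : x ∉ Subgroup.center G := fun h => hxy (Subgroup.mem_center_iff.mp h y).symm
  rcases eq_or_ne p 2 with rfl | hp2
  · -- `p = 2`: an element with square `c`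
    set C := ((⟨c, hcc⟩ : Subgroup.center G) : Subgroup.center G ⧸ R) with hC
    have htwo : ∀ A B E : Subgroup.center G ⧸ R, A = E ∨ B = E ∨ A = B := by
      intro A B E
      haveI : Fintype (Subgroup.center G ⧸ R) := Fintype.ofFinite _
      by_contra h
      push Not at h
      have h1 : ({A, B, E} : Finset (Subgroup.center G ⧸ R)).card ≤ 2 :=
        (Finset.card_le_univ _).trans (by rw [← Nat.card_eq_fintype_card, hQ])
      rw [Finset.card_insert_of_notMem (by simp [h.1, h.2.2]), Finset.card_pair h.2.1] at h1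
      omega
    obtain ⟨w0, hw0, hw0q⟩ : ∃ w0, w0 ∉ Subgroup.center G ∧ q w0 = C := by
      rcases htwo (q x) (q y) C with h | h | h
      · exact ⟨x, hxc, h⟩
      · exact ⟨y, fun hy => hxy (Subgroup.mem_center_iff.mp hy x), h⟩
      · refine ⟨x * y, fun hm => hxy ?_, ?_⟩
        · have := Subgroup.mem_center_iff.mp hm x
          rw [mul_assoc] at this
          exact (mul_left_cancel this.symm).symm
        · have hL : D.C (D.L y x) = c := by
            have hne : D.L y x ≠ 0 := fun h0 => hxy ((D.L_eq_zero_iff y x).mp h0).symm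
            have h1 : D.L y x = 1 := by
              have h2 : ∀ i : ZMod 2, i ≠ 0 → i = 1 := zmod_two_ne
              exact h2 _ hne
            rw [h1]; exact zmodPow_one D.pow_eq_one
          rw [hq, Nat.choose_self, pow_one, h]
          have hsq : q y * q y = 1 := by
            rw [← pow_two]; conv_lhs => rw [← hQ]
            exact pow_card_eq_one'
          rw [hsq, one_mul, hC]
          congr 1
          exact Subtype.ext hL
    obtain ⟨w, hwc, hwp⟩ := hlift w0 c hcc hw0 hw0q
    haveI : (Subgroup.zpowers c).Normal := ⟨fun z hz g => by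
      rw [Subgroup.mem_center_iff.mp (Subgroup.zpowers_le.mpr hcc hz) g, mul_inv_cancel_right]; exact hz⟩
    refine bound_of_section D (Subgroup.zpowers c) rfl w hwc (fun i => w ^ i.val)
      (by simp) (fun i j => ?_) fun i => ⟨0, by rw [D.C_zero, mul_one]⟩
    have h2 : ∀ i : ZMod 2, i = 0 ∨ i = 1 := zmod_two_cases
    rcases h2 i with rfl | rfl <;> rcases h2 j with rfl | rfl
    · simp [D.C_zero]
    · simp [D.C_zero]
    · simp [D.C_zero]
    · rw [show (1 : ZMod 2) + 1 = 0 from rfl, ZMod.val_one, pow_one, ZMod.val_zero, pow_zero, one_mul,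
        show D.C 1 = c from zmodPow_one D.pow_eq_one, ← pow_two, hwp, ← pow_two]
      conv_lhs => rw [← hco]
      exact pow_orderOf_eq_one c
  · -- `p` odd: an element of order `p`
    have hchoose : p ∣ p.choose 2 :=
      hp.dvd_choose_self two_ne_zero (by have := hp.two_le; omega)
    have hqhom : ∀ u v, q (u * v) = q u * q v := fun u v => by
      rw [hq]
      obtain ⟨k, hk⟩ := hchoose
      rw [hk, pow_mul]
      have h1 : ∀ X : Subgroup.center G ⧸ R, X ^ p = 1 := fun X => by rw [← hQ]; exact pow_card_eq_one'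
      rw [h1, one_pow, mul_one]
    let qh : G →* Subgroup.center G ⧸ R := MonoidHom.mk' q hqhom
    obtain ⟨a, hac, ha⟩ : ∃ a, a ∉ Subgroup.center G ∧ q a = 1 := by
      by_cases hA : q x = 1
      · exact ⟨x, hxc, hA⟩
      have hgen : Subgroup.zpowers (q x) = ⊤ := zpowers_eq_top_of_prime_card hQ hA
      obtain ⟨m, hm⟩ := Subgroup.mem_zpowers_iff.mp (hgen.ge (Subgroup.mem_top (q y)))
      refine ⟨(x ^ m)⁻¹ * y, fun hm' => hxy ?_, ?_⟩
      · have h1 : Commute x ((x ^ m)⁻¹ * y) := Subgroup.mem_center_iff.mp hm' x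
        simpa using ((Commute.refl x).zpow_right m).mul_right h1
      · show qh ((x ^ m)⁻¹ * y) = 1
        rw [map_mul, map_inv, map_zpow, inv_mul_eq_one]
        exact hm
    obtain ⟨w, hwc, hwp⟩ := hlift a 1 (one_mem _) hac (ha.trans rfl)
    haveI : (Subgroup.zpowers c).Normal := ⟨fun z hz g => by
      rw [Subgroup.mem_center_iff.mp (Subgroup.zpowers_le.mpr hcc hz) g, mul_inv_cancel_right]; exact hz⟩
    have h2ne : (2 : ZMod p) ≠ 0 := by
      intro h
      rw [show (2 : ZMod p) = ((2 : ℕ) : ZMod p) by norm_num, ZMod.natCast_eq_zero_iff] at h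
      exact hp2 ((Nat.prime_dvd_prime_iff_eq hp Nat.prime_two).mp h)
    refine bound_of_section D (Subgroup.zpowers c) rfl w hwc
      (fun i => zmodPow w i * D.C ((2 : ZMod p)⁻¹ * i * i)) ?_ ?_ ?_
    · rw [zmodPow_zero hwp, mul_zero, D.C_zero, mul_one]
    · intro i j
      rw [zmodPow_add hwp,
        show (2 : ZMod p)⁻¹ * (i + j) * (i + j) = (2 : ZMod p)⁻¹ * i * i + (2 : ZMod p)⁻¹ * j * j + i * j by
          field_simp; ring,
        D.C_add, D.C_add]
      rw [mul_assoc (zmodPow w i) (D.C _) (zmodPow w j * _), ← mul_assoc (D.C _) (zmodPow w j), D.C_comm]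
      simp only [mul_assoc]
    · intro i
      refine ⟨(2 : ZMod p)⁻¹ * i * i, ?_⟩
      conv_lhs => rw [← ZMod.natCast_zmod_val i, zmodPow_natCast hwp]
      rw [ZMod.natCast_zmod_val]

end Cfsg.Agent.S4067
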