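import Cfsg.Statements.S4071
import Mathlib
import Cfsg.Agent.Lib.Coprime.Sylow

set_option autoImplicit false
open Cfsg

namespace Cfsg.Agent.S4071

/-- A subgroup meeting the outside of the abelian kernel is self-normalising. -/
theorem self_normalizing {G : Type*} [Group G] [Finite G] {A : Subgroup G} [A.Normal]
    (hA : IsMulCommutative A) (H : Subgroup G) {g : G} (hg : g ∈ H)
    (hgen : ∀ n : G, ∃ k : ℕ, ∃ a ∈ A, n = g ^ k * a)
    (hfpf : ∀ a ∈ A, g * a * g⁻¹ = a → a = 1) :
    Subgroup.normalizer (H : Set G) = H := by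
  refine le_antisymm (fun n hn => ?_) Subgroup.le_normalizer
  obtain ⟨k, a, ha, rfl⟩ := hgen n
  have haN : a ∈ Subgroup.normalizer (H : Set G) := by
    have := mul_mem (inv_mem (Subgroup.le_normalizer (H.pow_mem hg k))) hn
    rwa [inv_mul_cancel_left] at this
  have hcomm : ∀ u ∈ A, ∀ v ∈ A, u * v = v * u := fun u hu v hv =>
    congrArg Subtype.val (hA.is_comm.comm ⟨u, hu⟩ ⟨v, hv⟩)
  have hin : ∀ b ∈ A, b ∈ Subgroup.normalizer (H : Set G) → b * g * b⁻¹ * g⁻¹ ∈ A ⊓ H := by
    intro b hb hbN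
    refine ⟨?_, H.mul_mem ((Subgroup.mem_normalizer_iff.mp hbN g).mp hg) (H.inv_mem hg)⟩
    rw [show b * g * b⁻¹ * g⁻¹ = b * (g * b⁻¹ * g⁻¹) by group]
    exact A.mul_mem hb (Subgroup.Normal.conj_mem inferInstance _ (A.inv_mem hb) g)
  have hinj : ∀ b ∈ A, ∀ c ∈ A, b * g * b⁻¹ * g⁻¹ = c * g * c⁻¹ * g⁻¹ → b = c := by
    intro b hb c hc h
    have hcb : c⁻¹ * b ∈ A := A.mul_mem (A.inv_mem hc) hb
    have h' : b * g * b⁻¹ = c * g * c⁻¹ := mul_right_cancel h
    have h2 : g * (c⁻¹ * b) * g⁻¹ = c⁻¹ * b := by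
      rw [mul_inv_eq_iff_eq_mul]
      calc g * (c⁻¹ * b) = c⁻¹ * (c * g * c⁻¹) * b := by group
        _ = c⁻¹ * (b * g * b⁻¹) * b := by rw [h']
        _ = c⁻¹ * b * g := by group
    exact (inv_mul_eq_one.mp (hfpf _ hcb h2)).symm
  let f : ↥(A ⊓ H) → ↥(A ⊓ H) := fun b =>
    ⟨(b : G) * g * (b : G)⁻¹ * g⁻¹, hin b b.2.1 (Subgroup.le_normalizer b.2.2)⟩
  have hf : Function.Surjective f := Finite.injective_iff_surjective.mp fun b c h =>
    Subtype.ext (hinj b b.2.1 c c.2.1 (congrArg Subtype.val h))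
  obtain ⟨b, hb⟩ := hf ⟨_, hin a ha haN⟩
  have hab : (b : G) = a := hinj b b.2.1 a ha (congrArg Subtype.val hb)
  exact H.mul_mem (H.pow_mem hg k) (hab ▸ b.2.2)

/-- Let G be a finite solvable non-nilpotent group. Every non-abelian subgroup of G is self-normalizing if and only if G is a semidirect product ⟨x⟩ ⋉ A in which ⟨x⟩ is a p-group for some prime p, A is a normal abelian subgroup of order prime to p, x^p is central in G, and x acts fixed-point-freely on A (no non-identity element of A commutes with x). -/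
theorem result {G : Type*} [Group G] [Finite G]
    [Group.IsSolvable G] (hnn : ¬ Group.IsNilpotent G) :
    (∀ H : Subgroup G, ¬ IsMulCommutative H → Subgroup.normalizer (H : Set G) = H) ↔
    ∃ (x : G) (A : Subgroup G) (p : ℕ), p.Prime ∧ A.Normal ∧ IsMulCommutative A ∧ (∃ k : ℕ, orderOf x = p ^ k) ∧
      ¬ p ∣ Nat.card A ∧ (Subgroup.zpowers x).IsComplement' A ∧ x ^ p ∈ Subgroup.center G ∧
      ∀ a : G, a ∈ A → a ≠ 1 → x * a * x⁻¹ ≠ a := by
  constructor
  · intro hs
    have hab : ∀ N : Subgroup G, N.Normal → N ≠ ⊤ → IsMulCommutative N := by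
      intro N hN hne
      by_contra h
      refine hne ?_
      rw [← hs N h]
      exact Subgroup.normalizer_eq_top_iff.mpr hN
    haveI : Nontrivial G := by
      by_contra h
      haveI := not_nontrivial_iff_subsingleton.mp h
      exact hnn inferInstance
    have hlt : commutator G < ⊤ := Group.IsSolvable.commutator_lt_top_of_nontrivial G
    obtain ⟨M, hM, hGM⟩ := (IsCoatomic.eq_top_or_exists_le_coatom (commutator G)).resolve_left hlt.ne
    haveI hMn : M.Normal := Subgroup.Normal.of_commutator_le G hGM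
    have hMab := hab M hMn hM.1
    have hMc : ∀ u ∈ M, ∀ v ∈ M, u * v = v * u := fun u hu v hv =>
      congrArg Subtype.val (hMab.is_comm.comm ⟨u, hu⟩ ⟨v, hv⟩)
    -- `M` is the only maximal subgroup over the derived subgroup
    have hgen : ∀ g : G, g ∉ M → Subgroup.zpowers g ⊔ commutator G = ⊤ := by
      intro g hg
      refine (IsCoatomic.eq_top_or_exists_le_coatom _).resolve_right ?_
      rintro ⟨N, hN, hle⟩
      haveI hNn : N.Normal := Subgroup.Normal.of_commutator_le G (le_sup_right.trans hle)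
      have hgN : g ∈ N := hle (Subgroup.mem_sup_left (Subgroup.mem_zpowers g))
      have hne : M ≠ N := fun e => hg (e ▸ hgN)
      have hsup : M ⊔ N = ⊤ := by
        refine hM.2 _ (lt_of_le_of_ne le_sup_left fun e => hne ?_)
        have hNM : N ≤ M := le_sup_right.trans e.ge
        exact ((hN.le_iff.mp hNM).resolve_left hM.1)
      have hNc := hab N hNn hN.1
      have hcen : commutator G ≤ Subgroup.center G := by
        intro c hc
        rw [Subgroup.mem_center_iff]
        intro u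
        have hle' : M ⊔ N ≤ Subgroup.centralizer ({c} : Set G) := sup_le
          (fun v hv => Subgroup.mem_centralizer_singleton_iff.mpr (hMc v hv c (hGM hc)))
          (fun v hv => Subgroup.mem_centralizer_singleton_iff.mpr (congrArg Subtype.val
            (hNc.is_comm.comm ⟨v, hv⟩ ⟨c, hle (Subgroup.mem_sup_right hc)⟩)))
        exact Subgroup.mem_centralizer_singleton_iff.mp (hle' (hsup ▸ Subgroup.mem_top u))
      haveI : Group.IsNilpotent (G ⧸ commutator G) := CommGroup.isNilpotent (G := Abelianization G)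
      exact hnn (Subgroup.isNilpotent_of_ker_le_center (QuotientGroup.mk' (commutator G))
        (by rw [QuotientGroup.ker_mk']; exact hcen))
    have hidx1 : M.index ≠ 1 := fun h => hM.1 (Subgroup.index_eq_one.mp h)
    obtain ⟨p, hp, hpd⟩ := Nat.exists_prime_and_dvd hidx1
    haveI := Fact.mk hp
    obtain ⟨P⟩ : Nonempty (Sylow p G) := inferInstance
    obtain ⟨x, hxP, hxM⟩ : ∃ x ∈ (P : Subgroup G), x ∉ M := by
      by_contra hno
      push Not at hno
      exact P.not_dvd_index (hpd.trans (Subgroup.index_dvd_of_le hno))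
    obtain ⟨e, he⟩ := IsPGroup.iff_orderOf.mp P.2 ⟨x, hxP⟩
    rw [Subgroup.orderOf_mk] at he
    have htop : ∀ g : G, ∃ m ∈ M, ∃ k : ℕ, g = x ^ k * m := by
      intro g
      have hg : g ∈ Subgroup.zpowers x ⊔ M := by
        rw [show Subgroup.zpowers x ⊔ M = ⊤ from top_le_iff.mp ((hgen x hxM).ge.trans
          (sup_le_sup_left hGM _))]
        trivial
      rw [← SetLike.mem_coe, Subgroup.mul_normal] at hg
      obtain ⟨u, hu, m, hm, rfl⟩ := hg
      obtain ⟨k, rfl⟩ := mem_powers_iff_mem_zpowers.mpr hu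
      exact ⟨m, hm, k, rfl⟩
    -- the `p'`-part of `M`
    let A : Subgroup G :=
      { carrier := {a | a ∈ M ∧ (orderOf a).Coprime p}
        one_mem' := ⟨M.one_mem, by simp⟩
        mul_mem' := fun {a b} ha hb => ⟨M.mul_mem ha.1 hb.1,
          Nat.Coprime.coprime_dvd_left ((show Commute a b from hMc a ha.1 b hb.1).orderOf_mul_dvd_mul_orderOf)
            (Nat.Coprime.mul_left ha.2 hb.2)⟩
        inv_mem' := fun {a} ha => ⟨M.inv_mem ha.1, by rw [orderOf_inv]; exact ha.2⟩ }
    haveI hAn : A.Normal := ⟨fun a ha g => ⟨hMn.conj_mem a ha.1 g, by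
      rw [show orderOf (g * a * g⁻¹) = orderOf a from orderOf_injective (MulAut.conj g).toMonoidHom
        (MulAut.conj g).injective a]
      exact ha.2⟩⟩
    have hAcomm : IsMulCommutative A := ⟨⟨fun a b => Subtype.ext (hMc a a.2.1 b b.2.1)⟩⟩
    have hAp : ¬ p ∣ Nat.card A := fun h => by
      obtain ⟨⟨a, ha⟩, hao⟩ := exists_prime_orderOf_dvd_card' (G := A) p h
      rw [Subgroup.orderOf_mk] at hao
      have := ha.2
      rw [hao, Nat.coprime_self] at this
      exact hp.ne_one this
    -- elements of `M` commuting with `x`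
    have hcentral : ∀ m ∈ M, x * m = m * x → m ∈ Subgroup.center G := by
      intro m hm hc
      rw [Subgroup.mem_center_iff]
      intro g
      obtain ⟨n, hn, k, rfl⟩ := htop g
      rw [mul_assoc, hMc n hn m hm, ← mul_assoc, ((show Commute x m from hc).pow_left k).eq, mul_assoc]
    have hxp : x ^ p ∈ Subgroup.center G := by
      refine hcentral _ ?_ (Commute.self_pow x p).eq
      by_contra hn
      have h1 := hgen _ hn
      have hle : Subgroup.zpowers (x ^ p) ⊔ commutator G ≠ ⊤ := by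
        intro ht
        have hx : x ∈ ((Subgroup.zpowers (x ^ p) ⊔ commutator G : Subgroup G) : Set G) := by
          rw [ht]; trivial
        rw [Subgroup.mul_normal] at hx
        obtain ⟨u, hu, c, hc, huc⟩ := hx
        obtain ⟨k, rfl⟩ := mem_powers_iff_mem_zpowers.mpr hu
        -- `x = x ^ (p k) c` forces `x` into the derived subgroup
        have huc' : (x ^ p) ^ k * c = x := huc
        set π := QuotientGroup.mk' (commutator G) with hπ
        have h2 : π x = (π x ^ p) ^ k := by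
          conv_lhs => rw [← huc']
          rw [map_mul, map_pow, map_pow, show π c = 1 from (QuotientGroup.eq_one_iff c).mpr hc, mul_one]
        rw [← pow_mul] at h2
        have hd : orderOf (π x) ∣ p ^ e := he ▸ orderOf_map_dvd π x
        obtain ⟨i, -, hi⟩ := (Nat.dvd_prime_pow hp).mp hd
        rcases Nat.eq_zero_or_pos i with rfl | hi0
        · rw [pow_zero, orderOf_eq_one_iff] at hi
          exact hxM (hGM ((QuotientGroup.eq_one_iff x).mp hi))
        · have h3 : p * k ≡ 1 [MOD orderOf (π x)] := by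
            rw [← pow_eq_pow_iff_modEq, pow_one]; exact h2.symm
          have h4 : p * k ≡ 1 [MOD p] := h3.of_dvd (hi ▸ dvd_pow_self p hi0.ne')
          have h5 : p * k ≡ 0 [MOD p] := Nat.modEq_zero_iff_dvd.mpr (dvd_mul_right p k)
          exact hp.ne_one (Nat.dvd_one.mp (Nat.modEq_zero_iff_dvd.mp (h4.symm.trans h5)))
      exact hle h1
    have hfpf : ∀ a ∈ A, x * a * x⁻¹ = a → a = 1 := by
      intro a ha hxa
      -- `a` is a commutator `[m, x]`
      let θ : M →* G :=
        { toFun := fun m => (m : G) * x * (m : G)⁻¹ * x⁻¹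
          map_one' := by simp
          map_mul' := fun u v => by
            have h1 : (v : G) * (x * (v : G)⁻¹ * x⁻¹) ∈ M :=
              M.mul_mem v.2 (hMn.conj_mem _ (M.inv_mem v.2) x)
            have h2 : x * (u : G)⁻¹ * x⁻¹ ∈ M := hMn.conj_mem _ (M.inv_mem u.2) x
            calc ((u * v : M) : G) * x * ((u * v : M) : G)⁻¹ * x⁻¹
                = (u : G) * ((v : G) * (x * (v : G)⁻¹ * x⁻¹) * (x * (u : G)⁻¹ * x⁻¹)) := by
                  push_cast; group
              _ = (u : G) * (x * (u : G)⁻¹ * x⁻¹ * ((v : G) * (x * (v : G)⁻¹ * x⁻¹))) := by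
                  rw [hMc _ h1 _ h2]
              _ = (u : G) * x * (u : G)⁻¹ * x⁻¹ * ((v : G) * x * (v : G)⁻¹ * x⁻¹) := by group }
      have hθM : θ.range ≤ M := by
        rintro _ ⟨m, rfl⟩
        show (m : G) * x * (m : G)⁻¹ * x⁻¹ ∈ M
        rw [show (m : G) * x * (m : G)⁻¹ * x⁻¹ = (m : G) * (x * (m : G)⁻¹ * x⁻¹) by group]
        exact M.mul_mem m.2 (hMn.conj_mem _ (M.inv_mem m.2) x)
      haveI hθn : θ.range.Normal := by
        refine ⟨fun z hz g => ?_⟩
        obtain ⟨n, hn, k, rfl⟩ := htop g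
        have hz' : x ^ k * n * z * (x ^ k * n)⁻¹ = x ^ k * z * (x ^ k)⁻¹ := by
          rw [mul_inv_rev, show x ^ k * n * z * (n⁻¹ * (x ^ k)⁻¹) = x ^ k * (n * z * n⁻¹) * (x ^ k)⁻¹ by group,
            hMc n hn z (hθM hz), mul_inv_cancel_right]
        rw [hz']
        obtain ⟨m, rfl⟩ := hz
        refine ⟨⟨x ^ k * m * (x ^ k)⁻¹, hMn.conj_mem _ m.2 _⟩, ?_⟩
        show x ^ k * (m : G) * (x ^ k)⁻¹ * x * (x ^ k * (m : G) * (x ^ k)⁻¹)⁻¹ * x⁻¹ =
          x ^ k * ((m : G) * x * (m : G)⁻¹ * x⁻¹) * (x ^ k)⁻¹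
        group
      have hG' : commutator G ≤ θ.range := by
        rw [commutator_def, Subgroup.commutator_le]
        intro u _ v _
        rw [← QuotientGroup.eq_one_iff, ← QuotientGroup.mk'_apply, map_commutatorElement,
          commutatorElement_eq_one_iff_commute]
        have hx : ∀ m ∈ M, Commute (QuotientGroup.mk' θ.range m) (QuotientGroup.mk' θ.range x) := by
          intro m hm
          rw [← commutatorElement_eq_one_iff_commute, ← map_commutatorElement, QuotientGroup.mk'_apply,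
            QuotientGroup.eq_one_iff]
          exact ⟨⟨m, hm⟩, rfl⟩
        obtain ⟨n₁, hn₁, k₁, rfl⟩ := htop u
        obtain ⟨n₂, hn₂, k₂, rfl⟩ := htop v
        simp only [map_mul, map_pow]
        have c1 := (hx n₁ hn₁).pow_right k₂
        have c2 := (hx n₂ hn₂).pow_right k₁
        exact Commute.mul_left
          (Commute.mul_right (Commute.pow_pow_self _ _ _) c2.symm)
          (Commute.mul_right c1 ((show Commute n₁ n₂ from hMc _ hn₁ _ hn₂).map _))
      have haG : a ∈ commutator G := by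
        rw [← QuotientGroup.eq_one_iff]
        refine orderOf_eq_one_iff.mp (Nat.eq_one_of_dvd_coprimes (ha.2.pow_right e)
          (orderOf_map_dvd (QuotientGroup.mk' (commutator G)) a) ?_)
        have : a ∈ ((Subgroup.zpowers x ⊔ commutator G : Subgroup G) : Set G) := by
          rw [hgen x hxM]; trivial
        rw [Subgroup.mul_normal] at this
        obtain ⟨u, hu, c, hc, rfl⟩ := this
        rw [QuotientGroup.mk_mul, (QuotientGroup.eq_one_iff c).mpr hc, mul_one, ← he]
        exact (orderOf_map_dvd (QuotientGroup.mk' _) u).trans (orderOf_dvd_of_mem_zpowers hu)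
      obtain ⟨m, hm⟩ := hG' haG
      have hm' : (m : G) * x * (m : G)⁻¹ * x⁻¹ = a := hm
      have hca : Commute a x := (mul_inv_eq_iff_eq_mul.mp hxa).symm
      have hconj : (m : G) * x * (m : G)⁻¹ = a * x := by rw [← hm']; group
      have h1 : a ^ p ^ e = 1 := by
        have := congrArg (fun z => z ^ p ^ e) hconj
        simp only [conj_pow, hca.mul_pow] at this
        rw [← he, pow_orderOf_eq_one, mul_one, mul_one, mul_inv_cancel, he] at this
        exact this.symm
      exact orderOf_eq_one_iff.mp (Nat.eq_one_of_dvd_coprimes (ha.2.pow_right e) dvd_rfl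
        (orderOf_dvd_of_pow_eq_one h1))
    -- the `p`-part of `M` lies in every Sylow `p`-subgroup
    have hMp : ∀ m ∈ M, (∃ k, orderOf m = p ^ k) → m ∈ (P : Subgroup G) := by
      intro m hm ⟨k, hk⟩
      let B : Subgroup G :=
        { carrier := {b | b ∈ M ∧ ∃ j, b ^ p ^ j = 1}
          one_mem' := ⟨M.one_mem, 0, one_pow _⟩
          mul_mem' := by
            rintro a b ⟨ha, i, hi⟩ ⟨hb, j, hj⟩
            refine ⟨M.mul_mem ha hb, i + j, ?_⟩
            rw [(show Commute a b from hMc a ha b hb).mul_pow, pow_add, pow_mul, hi, one_pow, one_mul,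
              mul_comm (p ^ i), pow_mul, hj, one_pow]
          inv_mem' := by
            rintro a ⟨ha, i, hi⟩
            exact ⟨M.inv_mem ha, i, by rw [inv_pow, hi, inv_one]⟩ }
      haveI : B.Normal := ⟨fun b hb g => ⟨hMn.conj_mem b hb.1 g, by
        obtain ⟨j, hj⟩ := hb.2
        exact ⟨j, by rw [conj_pow, hj, mul_one, mul_inv_cancel]⟩⟩⟩
      have hB : IsPGroup p B := fun b => by
        obtain ⟨j, hj⟩ := b.2.2
        exact ⟨j, Subtype.ext (by simpa using hj)⟩
      exact hB.le_sylow_of_normal P ⟨hm, k, by rw [← hk, pow_orderOf_eq_one]⟩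
    have hdec : ∀ g : G, ∃ u ∈ (P : Subgroup G), ∃ a ∈ A, g = u * a := by
      intro g
      obtain ⟨m, hm, k, rfl⟩ := htop g
      obtain ⟨i, s, hs, hms⟩ := Nat.exists_eq_pow_mul_and_not_dvd (orderOf_pos m).ne' p hp.ne_one
      obtain ⟨u, v, huv⟩ : ∃ u v : ℤ, (p : ℤ) ^ i * u + (s : ℤ) * v = 1 := by
        have hco : IsCoprime ((p : ℤ) ^ i) (s : ℤ) := by
          rw [← Nat.cast_pow, Nat.isCoprime_iff_coprime]
          exact ((hp.coprime_iff_not_dvd.mpr hs).pow_left i)
        obtain ⟨u, v, h⟩ := hco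
        exact ⟨u, v, by linarith⟩
      have hzm : m = m ^ ((s : ℤ) * v) * m ^ ((p : ℤ) ^ i * u) := by
        rw [← zpow_add, add_comm, huv, zpow_one]
      refine ⟨x ^ k * m ^ ((s : ℤ) * v),
        mul_mem (Subgroup.pow_mem _ hxP k) (hMp _ (M.zpow_mem hm _) ?_),
        m ^ ((p : ℤ) ^ i * u), ⟨M.zpow_mem hm _, ?_⟩, by rw [mul_assoc, ← hzm]⟩
      · have h1 : (m ^ ((s : ℤ) * v)) ^ p ^ i = 1 := by
          rw [← zpow_natCast, ← zpow_mul, show (s : ℤ) * v * ((p ^ i : ℕ) : ℤ) = ((p ^ i * s : ℕ) : ℤ) * v by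
            push_cast; ring, zpow_mul, zpow_natCast, ← hms, pow_orderOf_eq_one, one_zpow]
        obtain ⟨j, -, hj⟩ := (Nat.dvd_prime_pow hp).mp (orderOf_dvd_of_pow_eq_one h1)
        exact ⟨j, hj⟩
      · have h1 : (m ^ ((p : ℤ) ^ i * u)) ^ s = 1 := by
          rw [← zpow_natCast, ← zpow_mul, show (p : ℤ) ^ i * u * (s : ℤ) = ((p ^ i * s : ℕ) : ℤ) * u by
            push_cast; ring, zpow_mul, zpow_natCast, ← hms, pow_orderOf_eq_one, one_zpow]
        exact Nat.Coprime.coprime_dvd_left (orderOf_dvd_of_pow_eq_one h1) (hp.coprime_iff_not_dvd.mpr hs).symm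
    have hPA : ∀ u ∈ (P : Subgroup G), u ∈ A → u = 1 := by
      intro u hu huA
      obtain ⟨i, hi⟩ := IsPGroup.iff_orderOf.mp P.2 ⟨u, hu⟩
      rw [Subgroup.orderOf_mk] at hi
      exact orderOf_eq_one_iff.mp (Nat.eq_one_of_dvd_coprimes (huA.2.pow_right i) dvd_rfl hi.dvd)
    have hA1 : A ≠ ⊥ := by
      intro h
      refine hnn (P.2.of_surjective (P : Subgroup G).subtype fun g => ?_).isNilpotent
      obtain ⟨u, hu, a, ha, rfl⟩ := hdec g
      rw [h, Subgroup.mem_bot] at ha
      exact ⟨⟨u, hu⟩, by simp [ha]⟩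
    set H := Subgroup.zpowers x ⊔ A with hH
    have hHna : ¬ IsMulCommutative H := by
      intro hc
      obtain ⟨a, ha, ha1⟩ := (Subgroup.bot_or_exists_ne_one A).resolve_left hA1
      refine ha1 (hfpf a ha (mul_inv_eq_iff_eq_mul.mpr ?_))
      exact congrArg Subtype.val (hc.is_comm.comm
        ⟨x, Subgroup.mem_sup_left (Subgroup.mem_zpowers x)⟩ ⟨a, Subgroup.mem_sup_right ha⟩)
    have hPx : Subgroup.zpowers x = (P : Subgroup G) := by
      by_contra hne
      have hle : Subgroup.zpowers x ≤ (P : Subgroup G) := Subgroup.zpowers_le.mpr hxP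
      haveI := P.2.isNilpotent
      obtain ⟨y, hyn, hyx⟩ := SetLike.exists_of_lt
        (Group.normalizerCondition_of_isNilpotent ((Subgroup.zpowers x).subgroupOf (P : Subgroup G))
          (lt_top_iff_ne_top.mpr fun e => hne (le_antisymm hle (Subgroup.subgroupOf_eq_top.mp e))))
      have hyH : (y : G) ∈ H := by
        rw [← hs H hHna]
        refine Lib.Coprime.le_normalizer_of_conj_mem (A := Subgroup.zpowers (y : G)) ?_ (Subgroup.mem_zpowers _)
        intro z hz w hw
        obtain ⟨j, rfl⟩ := Subgroup.mem_zpowers_iff.mp hz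
        have hle : H ≤ Subgroup.comap (MulAut.conj ((y : G) ^ j)).toMonoidHom H := by
          refine sup_le (Subgroup.zpowers_le.mpr ?_) fun a ha => Subgroup.mem_sup_right (hAn.conj_mem a ha _)
          refine Subgroup.mem_sup_left ?_
          have := (Subgroup.mem_normalizer_iff.mp (Subgroup.zpow_mem _ hyn j) ⟨x, hxP⟩).mp
            (Subgroup.mem_zpowers x)
          show MulAut.conj ((y : G) ^ j) x ∈ Subgroup.zpowers x
          simpa [Subgroup.mem_subgroupOf, MulAut.conj_apply, -map_zpow] using this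
        exact hle hw
      rw [hH, ← SetLike.mem_coe, Subgroup.mul_normal] at hyH
      obtain ⟨u, hu, a, ha, hua⟩ := hyH
      have ha1 : a = 1 := hPA a (by
        have hua' : u * a = (y : G) := hua
        rw [show a = u⁻¹ * (y : G) by rw [← hua']; group]
        exact mul_mem (inv_mem (hle hu)) y.2) ha
      refine hyx ?_
      rw [Subgroup.mem_subgroupOf, ← show u * a = (y : G) from hua, ha1, mul_one]
      exact hu
    refine ⟨x, A, p, hp, hAn, hAcomm, ⟨e, he⟩, hAp, ?_, hxp,
      fun a ha ha1 h => ha1 (hfpf a ha h)⟩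
    rw [hPx]
    refine Subgroup.isComplement'_of_disjoint_and_mul_eq_univ ?_ (Set.eq_univ_of_forall fun g => ?_)
    · rw [disjoint_iff, eq_bot_iff]
      exact fun u hu => Subgroup.mem_bot.mpr (hPA u hu.1 hu.2)
    · obtain ⟨u, hu, a, ha, rfl⟩ := hdec g
      exact ⟨u, hu, a, ha, rfl⟩
  · rintro ⟨x, A, p, hp, hAn, hAc, ⟨e, he⟩, hpA, hc, hxp, hfpf⟩ H hH
    haveI := hAn
    have hdec : ∀ n : G, ∃ k : ℕ, ∃ a ∈ A, n = x ^ k * a := by
      intro n
      obtain ⟨⟨⟨u, hu⟩, ⟨a, ha⟩⟩, rfl⟩ := hc.2 n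
      obtain ⟨k, rfl⟩ := mem_powers_iff_mem_zpowers.mpr hu
      exact ⟨k, a, ha, rfl⟩
    have hAcomm : ∀ u ∈ A, ∀ v ∈ A, u * v = v * u := fun u hu v hv =>
      congrArg Subtype.val (hAc.is_comm.comm ⟨u, hu⟩ ⟨v, hv⟩)
    by_cases hcase : ∀ n ∈ H, ∃ k, ∃ a ∈ A, n = (x ^ p) ^ k * a
    · refine absurd ⟨⟨fun u v => Subtype.ext ?_⟩⟩ hH
      obtain ⟨k, a, ha, hu⟩ := hcase u u.2
      obtain ⟨l, b, hb, hv⟩ := hcase v v.2
      show (u : G) * v = v * u
      rw [hu, hv]
      have hz : ∀ k g, (x ^ p) ^ k * g = g * (x ^ p) ^ k := fun k g =>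
        (Subgroup.mem_center_iff.mp (Subgroup.pow_mem _ hxp k) g).symm
      exact Commute.mul_left (Commute.mul_right (Commute.pow_pow_self _ k l) (hz k b))
        (Commute.mul_right (hz l a).symm (hAcomm a ha b hb))
    push Not at hcase
    obtain ⟨g, hg, hgM⟩ := hcase
    obtain ⟨i, a, ha, rfl⟩ := hdec g
    have hpi : ¬ p ∣ i := by
      rintro ⟨k, rfl⟩
      exact hgM k a ha (by rw [pow_mul])
    have hcop : i.Coprime (orderOf x) := by
      rw [he]; exact ((hp.coprime_iff_not_dvd.mpr hpi).symm).pow_right e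
    obtain ⟨j, hj⟩ := exists_pow_eq_self_of_coprime hcop
    have hconj : ∀ b ∈ A, (x ^ i * a) * b * (x ^ i * a)⁻¹ = x ^ i * b * (x ^ i)⁻¹ := by
      intro b hb
      rw [show (x ^ i * a) * b * (x ^ i * a)⁻¹ = x ^ i * (a * b * a⁻¹) * (x ^ i)⁻¹ by group,
        hAcomm a ha b hb, mul_inv_cancel_right]
    refine self_normalizing hAc H hg (fun n => ?_) fun b hb hfix => ?_
    · -- `x ^ i a` generates modulo `A`
      obtain ⟨m, b, hb, rfl⟩ := hdec n
      refine ⟨j * m, ((x ^ i * a) ^ (j * m))⁻¹ * (x ^ m * b), ?_, (mul_inv_cancel_left _ _).symm⟩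
      rw [← QuotientGroup.eq_one_iff, QuotientGroup.mk_mul, QuotientGroup.mk_inv, QuotientGroup.mk_pow,
        QuotientGroup.mk_mul, (QuotientGroup.eq_one_iff a).mpr ha, mul_one, QuotientGroup.mk_mul,
        (QuotientGroup.eq_one_iff b).mpr hb, mul_one, ← QuotientGroup.mk_pow, pow_mul, hj, inv_mul_cancel]
    · by_contra hb1
      refine hfpf b hb hb1 ?_
      rw [hconj b hb, mul_inv_eq_iff_eq_mul] at hfix
      rw [mul_inv_eq_iff_eq_mul]
      have h := ((show Commute (x ^ i) b from hfix).pow_left j).eq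
      rwa [hj] at h

end Cfsg.Agent.S4071
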