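import Cfsg.Statements.S4072
import Mathlib
import Cfsg.Agent.Lib.Transfer.Criteria

set_option autoImplicit false
open Cfsg

namespace Cfsg.Agent.S4072

open scoped commutatorElement Pointwise

/-- In a non-abelian finite `p`-group with all proper subgroups abelian, the commutator subgroup is
generated by any nontrivial element of it. -/
lemma commutator_le_zpowers {P : Type*} [Group P] [Finite P] {p : ℕ} [Fact p.Prime] (hP : IsPGroup p P)
    (hna : ¬ IsMulCommutative P) (h : ∀ H : Subgroup P, H ≠ ⊤ → IsMulCommutative H)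
    {a : P} (ha : a ∈ commutator P) (ha1 : a ≠ 1) : commutator P ≤ Subgroup.zpowers a := by
  obtain ⟨x, y, hxy⟩ : ∃ x y : P, x * y ≠ y * x := by
    by_contra hc
    push Not at hc
    exact hna ⟨⟨hc⟩⟩
  have hgen : ∀ H : Subgroup P, x ∈ H → y ∈ H → H = ⊤ := fun H hx hy => by
    by_contra hH
    haveI := h H hH
    exact hxy (setLike_mul_comm hx hy)
  have hmax : ∀ z : P, ∃ M : Subgroup P, z ∈ M ∧ IsMulCommutative M ∧ M.Normal ∧ M.index = p := by
    intro z
    have hz : Subgroup.zpowers z ≠ ⊤ := fun e => hxy (by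
      obtain ⟨i, hi⟩ := (e ▸ Subgroup.mem_top x : x ∈ Subgroup.zpowers z)
      obtain ⟨j, hj⟩ := (e ▸ Subgroup.mem_top y : y ∈ Subgroup.zpowers z)
      rw [← hi, ← hj]
      exact ((Commute.refl z).zpow_zpow i j).eq)
    obtain ⟨M, hM, hle⟩ := (eq_top_or_exists_le_coatom (Subgroup.zpowers z)).resolve_left hz
    haveI := hP.isNilpotent
    haveI hn : M.Normal := Subgroup.NormalizerCondition.normal_of_coatom M
      Group.normalizerCondition_of_isNilpotent hM
    refine ⟨M, hle (Subgroup.mem_zpowers z), h M hM.1, hn, ?_⟩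
    obtain ⟨k, hk⟩ := hP.index M
    have hk0 : k ≠ 0 := fun e => hM.1 (Subgroup.index_eq_one.mp (by rw [hk, e, pow_zero]))
    haveI : Nontrivial (P ⧸ M) := by
      rw [← Finite.one_lt_card_iff_nontrivial, ← Subgroup.index_eq_card, hk]
      exact Nat.one_lt_pow hk0 (Fact.out : p.Prime).one_lt
    haveI : IsSimpleGroup (P ⧸ M) := by
      refine ⟨fun L hL => ?_⟩
      rcases hM.le_iff.mp (show M ≤ L.comap (QuotientGroup.mk' M) by
        intro m hm; rw [Subgroup.mem_comap, QuotientGroup.mk'_apply, (QuotientGroup.eq_one_iff m).mpr hm]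
        exact one_mem L) with hL' | hL'
      · exact Or.inr (by rw [← Subgroup.map_comap_eq_self_of_surjective (QuotientGroup.mk'_surjective M) L, hL',
          Subgroup.map_top_of_surjective _ (QuotientGroup.mk'_surjective M)])
      · exact Or.inl (by rw [← Subgroup.map_comap_eq_self_of_surjective (QuotientGroup.mk'_surjective M) L, hL',
          QuotientGroup.map_mk'_self])
    haveI : Group.IsNilpotent (P ⧸ M) := (hP.to_quotient M).isNilpotent
    haveI : Group.IsSolvable (P ⧸ M) := inferInstance
    letI : CommGroup (P ⧸ M) :=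
      { (inferInstance : Group (P ⧸ M)) with
        mul_comm := fun a b => IsSimpleGroup.comm_iff_isSolvable.mpr inferInstance a b }
    have hpr : (Nat.card (P ⧸ M)).Prime := IsSimpleGroup.prime_card
    rw [← Subgroup.index_eq_card, hk] at hpr
    rw [hk, Nat.Prime.eq_one_of_pow hpr, pow_one]
  obtain ⟨M₁, hx, hM₁c, hM₁n, hM₁i⟩ := hmax x
  obtain ⟨M₂, hy, hM₂c, hM₂n, hM₂i⟩ := hmax y
  have hcen : ∀ z ∈ M₁, z ∈ M₂ → z ∈ Subgroup.center P := fun z h1 h2 => by
    have := hgen (Subgroup.centralizer ({z} : Set P))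
      (Subgroup.mem_centralizer_singleton_iff.mpr (setLike_mul_comm hx h1))
      (Subgroup.mem_centralizer_singleton_iff.mpr (setLike_mul_comm hy h2))
    exact Subgroup.mem_center_iff.mpr fun g => Subgroup.mem_centralizer_singleton_iff.mp (this ▸ Subgroup.mem_top g)
  set c := ⁅x, y⁆ with hc
  have hc1 : c ∈ M₁ := by
    rw [hc, commutatorElement_def, show x * y * x⁻¹ * y⁻¹ = x * (y * x⁻¹ * y⁻¹) by group]
    exact mul_mem hx (hM₁n.conj_mem _ (inv_mem hx) y)
  have hc2 : c ∈ M₂ := by
    rw [hc, commutatorElement_def]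
    exact mul_mem (hM₂n.conj_mem _ hy x) (inv_mem hy)
  have hcz := hcen c hc1 hc2
  have hxp : x ^ p ∈ Subgroup.center P := hcen _ (pow_mem hx p) (hM₂i ▸ M₂.pow_index_mem x)
  have hconj : y * x * y⁻¹ = c⁻¹ * x := by rw [hc, commutatorElement_def]; group
  have hcp : c ^ p = 1 := by
    have e2 : (c⁻¹ * x) ^ p = x ^ p := by
      rw [← hconj, conj_pow, Subgroup.mem_center_iff.mp hxp y, mul_inv_cancel_right]
    have hcomm : Commute c⁻¹ x := (Subgroup.mem_center_iff.mp (inv_mem hcz) x).symm
    rw [hcomm.mul_pow, inv_pow, mul_eq_right, inv_eq_one] at e2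
    exact e2
  haveI hcn : (Subgroup.zpowers c).Normal := ⟨fun d hd g => by
    obtain ⟨i, rfl⟩ := hd
    rw [Subgroup.mem_center_iff.mp (zpow_mem hcz i) g, mul_inv_cancel_right]
    exact zpow_mem (Subgroup.mem_zpowers c) i⟩
  have hle : commutator P ≤ Subgroup.zpowers c := by
    set f := QuotientGroup.mk' (Subgroup.zpowers c) with hf
    have hfx : Commute (f x) (f y) := by
      rw [← commutatorElement_eq_one_iff_commute, ← map_commutatorElement, hf, QuotientGroup.mk'_apply,
        QuotientGroup.eq_one_iff]
      exact Subgroup.mem_zpowers c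
    have key : ∀ u : P, Commute (f u) (f x) → Commute (f u) (f y) → ∀ v, Commute (f u) (f v) := by
      intro u h1 h2 v
      have := hgen ((Subgroup.centralizer ({f u} : Set (P ⧸ Subgroup.zpowers c))).comap f)
        (Subgroup.mem_centralizer_singleton_iff.mpr h1.symm.eq)
        (Subgroup.mem_centralizer_singleton_iff.mpr h2.symm.eq)
      exact (Subgroup.mem_centralizer_singleton_iff.mp (show f v ∈ Subgroup.centralizer ({f u} : Set (P ⧸ Subgroup.zpowers c)) from
        Subgroup.mem_comap.mp (this ▸ Subgroup.mem_top v))).symm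
    have kx := key x (Commute.refl _) hfx
    have ky := key y hfx.symm (Commute.refl _)
    rw [commutator_def, Subgroup.commutator_le]
    intro u _ v _
    rw [← QuotientGroup.eq_one_iff, ← QuotientGroup.mk'_apply, ← hf, map_commutatorElement,
      commutatorElement_eq_one_iff_commute]
    exact key u (kx u).symm (ky u).symm v
  obtain ⟨i, rfl⟩ := hle ha
  refine hle.trans (le_of_eq ?_)
  refine (Subgroup.eq_of_le_of_card_ge (Subgroup.zpowers_le.mpr (zpow_mem (Subgroup.mem_zpowers c) i)) ?_).symm
  rw [Nat.card_zpowers, Nat.card_zpowers]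
  have hc0 : c ≠ 1 := fun e => hxy (commutatorElement_eq_one_iff_commute.mp e).eq
  rw [orderOf_eq_prime hcp hc0]
  refine le_of_eq (orderOf_eq_prime ?_ ha1).symm
  show (c ^ i) ^ p = 1
  rw [← zpow_natCast, ← zpow_mul, mul_comm, zpow_mul, zpow_natCast, hcp, one_zpow]

open scoped IsMulCommutative in
/-- A central element of a Sylow subgroup of a perfect group lies in its derived subgroup. -/
lemma mem_commutator_of_center {G : Type*} [Group G] [Finite G] (hperf : commutator G = ⊤)
    {p : ℕ} [Fact p.Prime] (P : Sylow p G) {a : G} (haP : a ∈ (P : Subgroup G))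
    (ha : a ∈ Subgroup.center G) : (⟨a, haP⟩ : (P : Subgroup G)) ∈ commutator (P : Subgroup G) := by
  set φ : (P : Subgroup G) →* Abelianization (P : Subgroup G) := Abelianization.of
  have key : ∀ (k : ℕ) (g₀ : G), g₀⁻¹ * a ^ k * g₀ ∈ (P : Subgroup G) → g₀⁻¹ * a ^ k * g₀ = a ^ k := by
    intro k g₀ _
    rw [mul_assoc, ← Subgroup.mem_center_iff.mp (pow_mem ha k) g₀, inv_mul_cancel_left]
  have h1 : MonoidHom.transfer φ a = 1 := by
    have : commutator G ≤ (MonoidHom.transfer φ).ker := Abelianization.commutator_subset_ker _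
    exact this (hperf ▸ Subgroup.mem_top a)
  rw [MonoidHom.transfer_eq_pow φ a key] at h1
  have h2 : φ ((⟨a, haP⟩ : (P : Subgroup G)) ^ (P : Subgroup G).index) = 1 := h1
  rw [map_pow] at h2
  rw [← Abelianization.ker_of, MonoidHom.mem_ker]
  obtain ⟨k, hk⟩ := P.isPGroup' ⟨a, haP⟩
  have h3 : φ ⟨a, haP⟩ ^ p ^ k = 1 := by rw [← map_pow, hk, map_one]
  exact orderOf_eq_one_iff.mp (Nat.eq_one_of_dvd_coprimes
    (((Fact.out : p.Prime).coprime_iff_not_dvd.mpr P.not_dvd_index).pow_left k)
    (orderOf_dvd_of_pow_eq_one h3) (orderOf_dvd_of_pow_eq_one h2))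

/-- A finite group in which every non-abelian subgroup is self-normalizing is solvable or simple. -/
theorem result {G : Type*} [Group G] [Finite G] (hS : ∀ H : Subgroup G, ¬ IsMulCommutative H → Subgroup.normalizer (H : Set G) = H) :
    Group.IsSolvable G ∨ IsSimpleGroup G := by
  by_contra hboth
  push Not at hboth
  obtain ⟨hns, hsimple⟩ := hboth
  have hab : ∀ N : Subgroup G, N.Normal → N ≠ ⊤ → IsMulCommutative N := by
    intro N hN hN'
    by_contra hc
    exact hN' ((hS N hc).symm.trans (Subgroup.normalizer_eq_top_iff.mpr hN))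
  have hnt : Nontrivial G := by
    by_contra hc
    rw [not_nontrivial_iff_subsingleton] at hc
    exact hns inferInstance
  obtain ⟨N, ⟨hN, hNtop⟩, hNmax⟩ := Set.Finite.exists_maximal
    (Set.toFinite {N : Subgroup G | N.Normal ∧ N ≠ ⊤}) ⟨⊥, inferInstance, bot_ne_top⟩
  haveI := hN
  haveI hNc := hab N hN hNtop
  have hNle : ∀ L : Subgroup G, L.Normal → N ≤ L → L = N ∨ L = ⊤ := by
    intro L hL hle
    by_cases h : L = ⊤
    · exact Or.inr h
    · exact Or.inl (le_antisymm (hNmax ⟨hL, h⟩ hle) hle)
  have hN1 : N ≠ ⊥ := by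
    intro e
    refine hsimple ⟨fun L hL => ?_⟩
    rcases hNle L hL (e ▸ bot_le) with h | h
    · exact Or.inl (h.trans e)
    · exact Or.inr h
  have hQns : ¬ Group.IsSolvable (G ⧸ N) := by
    intro h
    haveI : Group.IsSolvable N :=
      Group.isSolvable_of_comm fun a b => (IsMulCommutative.is_comm.comm a b)
    exact hns (Group.isSolvable_of_ker_le_range N.subtype (QuotientGroup.mk' N)
      (by rw [QuotientGroup.ker_mk', Subgroup.range_subtype]))
  have hsimpQ : ∀ K : Subgroup (G ⧸ N), K.Normal → K = ⊥ ∨ K = ⊤ := by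
    intro K hK
    rcases hNle (K.comap (QuotientGroup.mk' N)) inferInstance (fun m hm => by
      rw [Subgroup.mem_comap, QuotientGroup.mk'_apply, (QuotientGroup.eq_one_iff m).mpr hm]
      exact one_mem K) with h | h
    · exact Or.inl (by rw [← Subgroup.map_comap_eq_self_of_surjective (QuotientGroup.mk'_surjective N) K, h,
        QuotientGroup.map_mk'_self])
    · exact Or.inr (by rw [← Subgroup.map_comap_eq_self_of_surjective (QuotientGroup.mk'_surjective N) K, h,
        Subgroup.map_top_of_surjective _ (QuotientGroup.mk'_surjective N)])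
  -- Burnside: no Sylow subgroup of the quotient is central in its normaliser
  have hburn : ∀ (r : ℕ) [Fact r.Prime] (R : Sylow r (G ⧸ N)), (R : Subgroup (G ⧸ N)) ≠ ⊥ →
      ¬ Subgroup.normalizer ((R : Subgroup (G ⧸ N)) : Set (G ⧸ N)) ≤
        Subgroup.centralizer ((R : Subgroup (G ⧸ N)) : Set (G ⧸ N)) := by
    intro r _ R hR hle
    obtain ⟨P', K, hK, hcompl⟩ :=
      Cfsg.Agent.Lib.Transfer.hasNormalPComplement_of_normalizer_le_centralizer R hle
    rcases hsimpQ K hK with hK' | hK'
    · apply hQns
      rw [hK', Subgroup.isComplement'_bot_left] at hcompl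
      haveI : Group.IsNilpotent (G ⧸ N) := by
        refine IsPGroup.isNilpotent (p := r) fun z => ?_
        obtain ⟨k, hk⟩ := P'.isPGroup' ⟨z, hcompl ▸ Subgroup.mem_top z⟩
        exact ⟨k, congrArg Subtype.val hk⟩
      infer_instance
    · apply hR
      rw [hK', Subgroup.isComplement'_top_left] at hcompl
      have := Sylow.card_eq_multiplicity R
      rw [← Sylow.card_eq_multiplicity P', hcompl, Subgroup.card_bot] at this
      exact Subgroup.eq_bot_of_card_eq _ this
  have hQnt : Nontrivial (G ⧸ N) := by
    by_contra hc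
    rw [not_nontrivial_iff_subsingleton] at hc
    exact hQns inferInstance
  by_cases hcen : Subgroup.centralizer (N : Set G) = ⊤
  swap
  · -- every nontrivial element of the quotient generates a self-normalising subgroup
    have hC : Subgroup.centralizer (N : Set G) = N :=
      (hNle _ Subgroup.normal_centralizer (fun a ha => Subgroup.mem_centralizer_iff.mpr fun b hb =>
        setLike_mul_comm hb ha)).resolve_right hcen
    have hself : ∀ z : G ⧸ N, z ≠ 1 →
        Subgroup.normalizer (Subgroup.zpowers z : Set (G ⧸ N)) ≤ Subgroup.zpowers z := by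
      intro z hz
      set H := (Subgroup.zpowers z).comap (QuotientGroup.mk' N) with hH
      have hNH : N ≤ H := fun m hm => by
        rw [hH, Subgroup.mem_comap, QuotientGroup.mk'_apply, (QuotientGroup.eq_one_iff m).mpr hm]
        exact one_mem _
      obtain ⟨x, rfl⟩ := QuotientGroup.mk'_surjective N z
      have hxH : x ∈ H := Subgroup.mem_zpowers (QuotientGroup.mk' N x)
      have hHna : ¬ IsMulCommutative H := by
        intro hc
        apply hz
        rw [QuotientGroup.mk'_apply, QuotientGroup.eq_one_iff, ← hC]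
        exact Subgroup.mem_centralizer_iff.mpr fun b hb => setLike_mul_comm (hNH hb) hxH
      intro w hw
      obtain ⟨v, rfl⟩ := QuotientGroup.mk'_surjective N w
      have hv : v ∈ Subgroup.normalizer (H : Set G) := Subgroup.mem_normalizer_iff.mpr fun u => by
        simp only [hH, Subgroup.mem_comap, map_mul, map_inv]
        exact Subgroup.mem_normalizer_iff.mp hw _
      rw [hS H hHna] at hv
      exact hv
    obtain ⟨r, hr, hrd⟩ := Nat.exists_prime_and_dvd (Finite.one_lt_card (α := G ⧸ N)).ne'
    haveI := Fact.mk hr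
    obtain ⟨R⟩ := (inferInstance : Nonempty (Sylow r (G ⧸ N)))
    have hR : (R : Subgroup (G ⧸ N)) ≠ ⊥ := R.ne_bot_of_dvd_card hrd
    haveI : Nontrivial (R : Subgroup (G ⧸ N)) := (Subgroup.nontrivial_iff_ne_bot _).mpr hR
    haveI := R.isPGroup'.center_nontrivial
    obtain ⟨⟨⟨z, hzR⟩, hzc⟩, hz1⟩ := exists_ne (1 : Subgroup.center (R : Subgroup (G ⧸ N)))
    have hzz : z ≠ 1 := fun e => hz1 (Subtype.ext (Subtype.ext e))
    have hRz : (R : Subgroup (G ⧸ N)) = Subgroup.zpowers z := by
      refine le_antisymm (le_trans ?_ (hself z hzz)) (Subgroup.zpowers_le.mpr hzR)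
      refine le_trans (fun a ha => ?_) (Subgroup.centralizer_le_normalizer _)
      rw [Subgroup.mem_centralizer_iff]
      intro b hb
      obtain ⟨i, rfl⟩ := hb
      have : Commute a z := congrArg Subtype.val (Subgroup.mem_center_iff.mp hzc ⟨a, ha⟩)
      exact (this.zpow_right i).eq.symm
    refine hburn r R hR ?_
    rw [hRz]
    exact (hself z hzz).trans (fun a ha => Subgroup.mem_centralizer_iff.mpr fun b hb => by
      obtain ⟨i, rfl⟩ := ha
      obtain ⟨j, rfl⟩ := hb
      exact ((Commute.refl z).zpow_zpow j i).eq)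
  · -- `N` is central
    have hNcen : N ≤ Subgroup.center G := fun a ha => Subgroup.mem_center_iff.mpr fun g =>
      (Subgroup.mem_centralizer_iff.mp (hcen ▸ Subgroup.mem_top g) a ha).symm
    have hperf : commutator G = ⊤ := by
      by_contra hc
      apply hns
      haveI := hab (commutator G) inferInstance hc
      haveI : Group.IsSolvable (commutator G) :=
        Group.isSolvable_of_comm fun a b => (IsMulCommutative.is_comm.comm a b)
      haveI : Group.IsSolvable (G ⧸ commutator G) :=
        Group.isSolvable_of_comm fun a b => by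
          obtain ⟨x, rfl⟩ := QuotientGroup.mk'_surjective (commutator G) a
          obtain ⟨y, rfl⟩ := QuotientGroup.mk'_surjective (commutator G) b
          exact mul_comm (Abelianization.of x) (Abelianization.of y)
      exact Group.isSolvable_of_ker_le_range (commutator G).subtype (QuotientGroup.mk' (commutator G))
        (by rw [QuotientGroup.ker_mk', Subgroup.range_subtype])
    obtain ⟨p, hp, hpd⟩ := Nat.exists_prime_and_dvd (N.one_lt_card_iff_ne_bot.mpr hN1).ne'
    haveI := Fact.mk hp
    obtain ⟨⟨a, haN⟩, hao⟩ := exists_prime_orderOf_dvd_card' (G := N) p hpd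
    rw [Subgroup.orderOf_mk] at hao
    have ha1 : a ≠ 1 := fun e => hp.ne_one (by rw [← hao, e, orderOf_one])
    obtain ⟨P, hP⟩ := (IsPGroup.of_card (p := p) (n := 1) (by rw [Nat.card_zpowers, hao, pow_one]) :
      IsPGroup p (Subgroup.zpowers a)).exists_le_sylow
    have haP : a ∈ (P : Subgroup G) := hP (Subgroup.mem_zpowers a)
    have haP' := mem_commutator_of_center hperf P haP (hNcen haN)
    have hPna : ¬ IsMulCommutative (P : Subgroup G) := by
      intro hc
      apply ha1
      haveI := hc
      have : (⟨a, haP⟩ : (P : Subgroup G)) ∈ (⊥ : Subgroup (P : Subgroup G)) := by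
        refine (show commutator (P : Subgroup G) ≤ ⊥ from ?_) haP'
        rw [commutator_def, Subgroup.commutator_le]
        intro u _ v _
        rw [Subgroup.mem_bot, commutatorElement_eq_one_iff_commute]
        exact hc.is_comm.comm u v
      exact congrArg Subtype.val (Subgroup.mem_bot.mp this)
    have hPN : Subgroup.normalizer ((P : Subgroup G) : Set G) = (P : Subgroup G) := hS _ hPna
    have hPmin : ∀ H : Subgroup (P : Subgroup G), H ≠ ⊤ → IsMulCommutative H := by
      intro H hH
      by_contra hc
      haveI := P.isPGroup'.isNilpotent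
      obtain ⟨v, hv, hvH⟩ := SetLike.exists_of_lt
        (Group.normalizerCondition_of_isNilpotent (G := (P : Subgroup G)) H (lt_top_iff_ne_top.mpr hH))
      have hna : ¬ IsMulCommutative (H.map (P : Subgroup G).subtype) := by
        intro h'
        apply hc
        refine ⟨⟨fun s t => Subtype.ext (Subtype.ext ?_)⟩⟩
        exact setLike_mul_comm (Subgroup.mem_map_of_mem (P : Subgroup G).subtype s.2)
          (Subgroup.mem_map_of_mem (P : Subgroup G).subtype t.2)
      have := (Subgroup.le_normalizer_map (P : Subgroup G).subtype) (Subgroup.mem_map_of_mem _ hv)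
      rw [hS _ hna] at this
      obtain ⟨v', hv', e⟩ := Subgroup.mem_map.mp this
      exact hvH ((Subtype.ext e : v' = v) ▸ hv')
    have hcle := commutator_le_zpowers P.isPGroup' hPna hPmin haP' (fun e => ha1 (congrArg Subtype.val e))
    set R := P.mapSurjective (QuotientGroup.mk'_surjective N) with hR
    refine hburn p R ?_ ?_
    · intro e
      apply hPna
      have : (P : Subgroup G) ≤ N := fun b hb => by
        have hb' : QuotientGroup.mk' N b ∈ (R : Subgroup (G ⧸ N)) := by
          rw [hR, Sylow.coe_mapSurjective]; exact Subgroup.mem_map_of_mem _ hb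
        rwa [e, Subgroup.mem_bot, QuotientGroup.mk'_apply, QuotientGroup.eq_one_iff] at hb'
      exact ⟨⟨fun u v => Subtype.ext (setLike_mul_comm (this u.2) (this v.2))⟩⟩
    · intro w hw
      obtain ⟨v, rfl⟩ := QuotientGroup.mk'_surjective N w
      have hv : v ∈ (P : Subgroup G) := by
        refine (hPN ▸ ?_ : v ∈ (P : Subgroup G))
        refine Sylow.smul_eq_iff_mem_normalizer.mp (Sylow.ext ((v • P : Sylow p G).is_maximal' P.isPGroup' ?_).symm)
        intro t ht
        have ht' : t ∈ (MulAut.conj v • (P : Subgroup G)) := ht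
        rw [Subgroup.mem_pointwise_smul_iff_inv_smul_mem] at ht'
        have hu : v⁻¹ * t * v ∈ (P : Subgroup G) := by
          simpa [MulAut.smul_def, MulAut.inv_def] using ht'
        have himg : QuotientGroup.mk' N t ∈ (R : Subgroup (G ⧸ N)) := by
          have hu' : QuotientGroup.mk' N (v⁻¹ * t * v) ∈ (R : Subgroup (G ⧸ N)) := by
            rw [hR, Sylow.coe_mapSurjective]; exact Subgroup.mem_map_of_mem _ hu
          have := (Subgroup.mem_normalizer_iff.mp hw _).mp hu'
          rw [← map_inv, ← map_mul, ← map_mul] at this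
          simpa [mul_assoc] using this
        rw [hR, Sylow.coe_mapSurjective] at himg
        obtain ⟨u, hu2, hut⟩ := Subgroup.mem_map.mp himg
        rw [QuotientGroup.mk'_apply, QuotientGroup.mk'_apply, QuotientGroup.eq] at hut
        rw [← hPN]
        have h1 : u⁻¹ * t ∈ Subgroup.normalizer ((P : Subgroup G) : Set G) := by
          rw [Subgroup.mem_normalizer_iff]
          intro q
          rw [← Subgroup.mem_center_iff.mp (hNcen hut) q, mul_inv_cancel_right]
        have h2 := mul_mem (Subgroup.le_normalizer hu2 : u ∈ Subgroup.normalizer ((P : Subgroup G) : Set G)) h1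
        rwa [mul_inv_cancel_left] at h2
      rw [hR, Sylow.coe_mapSurjective, Subgroup.mem_centralizer_iff]
      rintro _ ⟨u, hu, rfl⟩
      rw [← commutatorElement_eq_one_iff_mul_comm, ← map_commutatorElement, QuotientGroup.mk'_apply,
        QuotientGroup.eq_one_iff]
      obtain ⟨i, hi⟩ := hcle (Subgroup.commutator_mem_commutator
        (Subgroup.mem_top (⟨u, hu⟩ : (P : Subgroup G))) (Subgroup.mem_top (⟨v, hv⟩ : (P : Subgroup G))))
      have e : a ^ i = ⁅u, v⁆ := congrArg Subtype.val hi
      exact e ▸ zpow_mem haN i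

end Cfsg.Agent.S4072
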