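import Cfsg.Statements.S4073
import Cfsg.Agent.Lib.SelfNormalizing.SLTwo
import Cfsg.Agent.Lib.AbelianInvCentralizer.Classify
import Cfsg.Agent.Lib.AbelianInvCentralizer.SylowTwo
-- import your own Cfsg.Agent.* helpers here

set_option autoImplicit false
set_option linter.style.haveILetI false
open Cfsg

namespace Cfsg.Agent.S4073

/-- Let G be a finite non-abelian simple group. Every non-abelian subgroup of G is self-normalizing if and only if G is isomorphic to PSL₂(2ⁿ) for some n ≥ 2 with 2ⁿ − 1 prime (this includes the alternating group of degree 5 as PSL₂(4)). -/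
theorem result {G : Type*} [Group G] [Finite G] [IsSimpleGroup G]
    (hna : ¬ IsMulCommutative G) :
    (∀ H : Subgroup G, ¬ IsMulCommutative H → Subgroup.normalizer (H : Set G) = H) ↔
    ∃ n : ℕ, 2 ≤ n ∧ (2 ^ n - 1).Prime ∧ Nonempty (G ≃* Matrix.ProjectiveSpecialLinearGroup (Fin 2) (GaloisField 2 n)) := by
  classical
  have hHSN : (∀ H : Subgroup G, ¬ IsMulCommutative H → Subgroup.normalizer (H : Set G) = H) ↔
      Lib.SelfNormalizing.HSN G :=
    ⟨fun h H hH => h H ((Lib.SelfNormalizing.nonAb_iff H).mp hH),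
      fun h H hH => h H ((Lib.SelfNormalizing.nonAb_iff H).mpr hH)⟩
  rw [hHSN]
  constructor
  · intro h
    have heven := Lib.SelfNormalizing.even_card hna h
    have hC : Lib.AbelianInvCentralizer.HasAbelianCent G := fun t ht a b ha hb =>
      Lib.SelfNormalizing.commute_of_not_nonAb
        (Lib.SelfNormalizing.cent_commute hna h
          (fun P => Lib.SelfNormalizing.sylow_commute hna h Lib.SelfNormalizing.secHyp_two P)
          (Lib.AbelianInvCentralizer.isInv_iff.mp ht))
        (Subgroup.mem_centralizer_singleton_iff.mpr ha) (Subgroup.mem_centralizer_singleton_iff.mpr hb)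
    obtain ⟨P⟩ : Nonempty (Sylow 2 G) := inferInstance
    have hPtop : (P : Subgroup G) ≠ ⊤ := Lib.SelfNormalizing.ne_top_of_isPGroup hna P.2
    have hPbot : (P : Subgroup G) ≠ ⊥ := fun e => by
      have h2 := P.dvd_card_of_dvd_card heven
      rw [e, Subgroup.card_bot] at h2
      omega
    rcases Lib.AbelianInvCentralizer.sylow_trichotomy hC P with hc | hn | ⟨hF, hS⟩
    · exact absurd (Lib.SelfNormalizing.card_le_two_of_cyclic_sylow_two P hc heven) hPtop
    · rcases hn.eq_bot_or_eq_top with e | e
      · exact absurd e hPbot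
      · exact absurd e hPtop
    · obtain ⟨F, hFf, hFt, f, hchar, hf2, hFcard, -, ⟨e⟩⟩ :=
        Lib.AbelianInvCentralizer.exists_slTwo_prod hC hS hF
      haveI := hchar
      have hZ : Subgroup.center G = ⊥ := by
        rcases (inferInstance : (Subgroup.center G).Normal).eq_bot_or_eq_top with e' | e'
        · exact e'
        · exact absurd ⟨⟨fun a b => Subgroup.mem_center_iff.mp (e' ▸ Subgroup.mem_top b) a⟩⟩ hna
      haveI : Subsingleton ↥(Subgroup.center G) := by rw [hZ]; infer_instance
      letI : Unique ↥(Subgroup.center G) := uniqueOfSubsingleton 1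
      let e₁ : G ≃* Matrix.SpecialLinearGroup (Fin 2) F := e.trans MulEquiv.prodUnique
      have h4 : 4 ≤ 2 ^ f := by
        calc 4 = 2 ^ 2 := by norm_num
          _ ≤ 2 ^ f := Nat.pow_le_pow_right (by norm_num) hf2
      have hp := Lib.SelfNormalizing.prime_of_hsn_slTwo (by omega)
        (h.of_injective e₁.symm.toMonoidHom e₁.symm.injective)
      rw [hFcard] at hp
      letI := Fintype.ofFinite (GaloisField 2 f)
      let σ : F ≃+* GaloisField 2 f := FiniteField.ringEquivOfCardEq (by
        rw [hFcard, ← Nat.card_eq_fintype_card, GaloisField.card 2 f (by omega)])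
      obtain ⟨e₂⟩ := Lib.SelfNormalizing.nonempty_slTwo_congr σ
      obtain ⟨e₃⟩ := Lib.SelfNormalizing.nonempty_slTwo_psl (F := GaloisField 2 f)
      exact ⟨f, hf2, hp, ⟨(e₁.trans e₂).trans e₃.symm⟩⟩
  · rintro ⟨n, hn2, hp, ⟨e⟩⟩
    letI := Fintype.ofFinite (GaloisField 2 n)
    have hcard : Fintype.card (GaloisField 2 n) = 2 ^ n := by
      rw [← Nat.card_eq_fintype_card, GaloisField.card 2 n (by omega)]
    have h4 : 4 ≤ 2 ^ n := by
      calc 4 = 2 ^ 2 := by norm_num
        _ ≤ 2 ^ n := Nat.pow_le_pow_right (by norm_num) hn2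
    have h := Lib.SelfNormalizing.hsn_slTwo (F := GaloisField 2 n) (by omega) (by rwa [hcard])
    obtain ⟨e₃⟩ := Lib.SelfNormalizing.nonempty_slTwo_psl (F := GaloisField 2 n)
    exact h.of_injective (e.trans e₃).toMonoidHom (e.trans e₃).injective

end Cfsg.Agent.S4073
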