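import Cfsg.Statements.S4074
import Mathlib

set_option autoImplicit false
open Cfsg

namespace Cfsg.Agent.S4074

open DihedralGroup in
/-- Doubling is cancellable in a subgroup of rotations that is not killed by two. -/
theorem mem_of_two_mul {n : ℕ} (hn : 2 < n) (h4 : n = 4 ∨ Odd n) (H : Subgroup (DihedralGroup n))
    {j : ZMod n} (hj : r j ∈ H) (hj2 : j + j ≠ 0) {k : ZMod n} (hk : r (k + k) ∈ H) : r k ∈ H := by
  rcases h4 with rfl | hodd
  · have h1 : ∀ j k : ZMod 4, j + j ≠ 0 → ∃ m : Fin 4, k = (m : ℕ) * j := by decide
    obtain ⟨m, rfl⟩ := h1 j k hj2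
    have := H.pow_mem hj (m : ℕ)
    rwa [r_pow, mul_comm] at this
  · obtain ⟨c, hc⟩ := hodd
    have := H.pow_mem hk (c + 1)
    rw [r_pow] at this
    have h1 : (k + k) * ((c + 1 : ℕ) : ZMod n) = k := by
      have h0 : ((2 * c + 1 : ℕ) : ZMod n) = 0 := by rw [← hc, ZMod.natCast_self]
      push_cast at h0 ⊢
      linear_combination k * h0
    rwa [h1] at this

/-- For n > 2, every non-abelian subgroup of the dihedral group of order 2n is self-normalizing if and only if n = 4 or n is odd. -/
theorem result (n : ℕ) (hn : 2 < n) :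
    (∀ H : Subgroup (DihedralGroup n), ¬ IsMulCommutative H → Subgroup.normalizer (H : Set (DihedralGroup n)) = H) ↔
    (n = 4 ∨ Odd n) := by
  constructor
  · intro h
    by_contra hno
    obtain ⟨h4, hodd⟩ := not_or.mp hno
    obtain ⟨c, hc⟩ := Nat.not_odd_iff_even.mp hodd
    have h2 : 2 ∣ n := ⟨c, by omega⟩
    let f := ZMod.castHom h2 (ZMod 2)
    let g : DihedralGroup n → ZMod 2 := fun x => match x with
      | .r i => f i
      | .sr i => f i
    let H : Subgroup (DihedralGroup n) :=
      { carrier := {x | g x = 0}
        one_mem' := map_zero f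
        mul_mem' := fun {a b} ha hb => by
          cases a <;> cases b <;>
            simp only [Set.mem_setOf_eq, DihedralGroup.r_mul_r, DihedralGroup.r_mul_sr,
              DihedralGroup.sr_mul_r, DihedralGroup.sr_mul_sr, g, map_add, map_sub] at ha hb ⊢ <;>
            simp [ha, hb]
        inv_mem' := fun {a} ha => by
          cases a <;> simp only [Set.mem_setOf_eq, g, DihedralGroup.inv_r, DihedralGroup.inv_sr,
            map_neg] at ha ⊢ <;> simp [ha] }
    have hs0 : DihedralGroup.sr (0 : ZMod n) ∈ H := map_zero f
    have hr2 : DihedralGroup.r (2 : ZMod n) ∈ H := by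
      change f 2 = 0
      rw [map_ofNat]
      decide
    have hnc : ¬ IsMulCommutative H := by
      intro hc'
      have h1 := congrArg Subtype.val
        (hc'.is_comm.comm (⟨_, hr2⟩ : H) (⟨_, hs0⟩ : H))
      simp only [Subgroup.coe_mul, DihedralGroup.r_mul_sr, DihedralGroup.sr_mul_r,
        DihedralGroup.sr.injEq] at h1
      have h5 : ((4 : ℕ) : ZMod n) = 0 := by push_cast; linear_combination -h1
      have h6 := Nat.le_of_dvd (by norm_num) ((ZMod.natCast_eq_zero_iff _ _).mp h5)
      omega
    have hmem : DihedralGroup.r (1 : ZMod n) ∈ Subgroup.normalizer (H : Set (DihedralGroup n)) := by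
      rw [Subgroup.mem_normalizer_iff]
      intro x
      cases x with
      | r i => simp [DihedralGroup.inv_r]
      | sr i =>
        change f i = 0 ↔ g (DihedralGroup.r 1 * DihedralGroup.sr i * (DihedralGroup.r 1)⁻¹) = 0
        simp only [DihedralGroup.inv_r, DihedralGroup.r_mul_sr, DihedralGroup.sr_mul_r, g]
        rw [show i - 1 + -1 = i - 2 by ring, map_sub, map_ofNat]
        rw [show (2 : ZMod 2) = 0 by decide, sub_zero]
    rw [h H hnc] at hmem
    have : f 1 = 0 := hmem
    rw [map_one] at this
    exact one_ne_zero this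
  · intro h4 H hH
    refine le_antisymm ?_ Subgroup.le_normalizer
    obtain ⟨i, hi⟩ : ∃ i, DihedralGroup.sr i ∈ H := by
      by_contra hno
      push Not at hno
      refine hH ⟨⟨fun ⟨a, ha⟩ ⟨b, hb⟩ => Subtype.ext ?_⟩⟩
      cases a with
      | sr i => exact absurd ha (hno i)
      | r i =>
        cases b with
        | sr j => exact absurd hb (hno j)
        | r j => simp [DihedralGroup.r_mul_r, add_comm]
    obtain ⟨j, hj, hj2⟩ : ∃ j, DihedralGroup.r j ∈ H ∧ j + j ≠ 0 := by
      by_contra hno
      push Not at hno
      refine hH ⟨⟨fun ⟨a, ha⟩ ⟨b, hb⟩ => Subtype.ext ?_⟩⟩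
      cases a with
      | r u =>
        cases b with
        | r v => simp [DihedralGroup.r_mul_r, add_comm]
        | sr v =>
          simp only [Subgroup.coe_mul, DihedralGroup.r_mul_sr, DihedralGroup.sr_mul_r,
            DihedralGroup.sr.injEq]
          linear_combination -(hno u ha)
      | sr u =>
        cases b with
        | r v =>
          simp only [Subgroup.coe_mul, DihedralGroup.r_mul_sr, DihedralGroup.sr_mul_r,
            DihedralGroup.sr.injEq]
          linear_combination hno v hb
        | sr v =>
          have h1 := hno (v - u) (by simpa [DihedralGroup.sr_mul_sr] using H.mul_mem ha hb)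
          simp only [Subgroup.coe_mul, DihedralGroup.sr_mul_sr, DihedralGroup.r.injEq]
          linear_combination h1
    have hrot : ∀ k, DihedralGroup.r k ∈ Subgroup.normalizer (H : Set (DihedralGroup n)) →
        DihedralGroup.r k ∈ H := by
      intro k hk
      have h1 := (Subgroup.mem_normalizer_iff.mp hk _).mp hi
      have h2 := H.mul_mem h1 hi
      simp only [DihedralGroup.inv_r, DihedralGroup.r_mul_sr, DihedralGroup.sr_mul_r,
        DihedralGroup.sr_mul_sr] at h2
      rw [show i - (i - k + -k) = k + k by ring] at h2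
      exact mem_of_two_mul hn h4 H hj hj2 h2
    intro x hx
    cases x with
    | r k => exact hrot k hx
    | sr k =>
      have h0 := mul_mem hx (Subgroup.le_normalizer hi)
      rw [DihedralGroup.sr_mul_sr] at h0
      have h1 := hrot _ h0
      have h2 := H.mul_mem hi (H.inv_mem h1)
      simpa [DihedralGroup.inv_r, DihedralGroup.sr_mul_r] using h2

end Cfsg.Agent.S4074
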