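import Cfsg.Statements.S4075
import Mathlib

set_option autoImplicit false
open Cfsg

namespace Cfsg.Agent.S4075

theorem mulComm_of_sylow_comm {G : Type*} [Group G] [Finite G] [Group.IsNilpotent G]
    (h : ∀ p : ℕ, p.Prime → ∀ P : Sylow p G, IsMulCommutative (P : Subgroup G)) :
    IsMulCommutative G := by
  have hnorm : ∀ p : ℕ, p.Prime → ∀ P : Sylow p G, (P : Subgroup G).Normal := fun p hp P => by
    haveI := Fact.mk hp
    exact P.normal_of_normalizerCondition normalizerCondition_of_isNilpotent
  have hcomm : ∀ (p q : ℕ) (hp : p.Prime) (hq : q.Prime) (P : Sylow p G) (Q : Sylow q G),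
      ∀ x ∈ (P : Subgroup G), ∀ y ∈ (Q : Subgroup G), x * y = y * x := by
    intro p q hp hq P Q x hx y hy
    haveI := hnorm p hp P; haveI := hnorm q hq Q
    haveI := Fact.mk hp; haveI := Fact.mk hq
    by_cases hpq : p = q
    · subst hpq
      haveI := h p hp P
      have : (P : Subgroup G) = Q := by
        haveI := Sylow.unique_of_normal P (hnorm p hp P)
        rw [Subsingleton.elim P Q]
      exact congrArg Subtype.val ((IsMulCommutative.is_comm (M := (P : Subgroup G))).comm ⟨x, hx⟩ ⟨y, by rw [this]; exact hy⟩)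
    · exact (Subgroup.commute_of_normal_of_disjoint _ _ (hnorm p hp P) (hnorm q hq Q)
        (IsPGroup.disjoint_of_ne p q hpq _ _ P.isPGroup' Q.isPGroup') x y hx hy).eq
  -- every Sylow subgroup is central
  have hcent : ∀ (p : ℕ), p.Prime → ∀ P : Sylow p G, (P : Subgroup G) ≤ Subgroup.center G := by
    intro p hp P x hx
    have hdvd : Nat.card G ∣ Nat.card (Subgroup.centralizer ({x} : Set G)) := by
      rw [Nat.dvd_iff_prime_pow_dvd_dvd]
      intro q k hq hk
      haveI := Fact.mk hq
      obtain ⟨Q⟩ := (inferInstance : Nonempty (Sylow q G))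
      refine (Q.pow_dvd_card_of_pow_dvd_card hk).trans (Subgroup.card_dvd_of_le ?_)
      intro y hy
      rw [Subgroup.mem_centralizer_singleton_iff]
      exact hcomm q p hq hp Q P y hy x hx
    have : Subgroup.centralizer ({x} : Set G) = ⊤ :=
      Subgroup.eq_top_of_card_eq _ (Nat.dvd_antisymm (Subgroup.card_subgroup_dvd_card _) hdvd)
    rw [Subgroup.mem_center_iff]
    intro g
    exact Subgroup.mem_centralizer_singleton_iff.mp (this ▸ Subgroup.mem_top g)
  have htop : Subgroup.center G = ⊤ := by
    refine Subgroup.eq_top_of_card_eq _ (Nat.dvd_antisymm (Subgroup.card_subgroup_dvd_card _) ?_)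
    rw [Nat.dvd_iff_prime_pow_dvd_dvd]
    intro q k hq hk
    haveI := Fact.mk hq
    obtain ⟨Q⟩ := (inferInstance : Nonempty (Sylow q G))
    exact (Q.pow_dvd_card_of_pow_dvd_card hk).trans (Subgroup.card_dvd_of_le (hcent q hq Q))
  exact ⟨⟨fun a b => (Subgroup.mem_center_iff.mp (htop ▸ Subgroup.mem_top b) a)⟩⟩

/-- Let G be a finite nilpotent group. Every non-abelian subgroup of G is self-normalizing if and only if G is abelian or G is a minimal non-abelian p-group for some prime p (non-abelian of prime-power order with every proper subgroup abelian). -/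
theorem result {G : Type*} [Group G] [Finite G]
    [Group.IsNilpotent G] :
    (∀ H : Subgroup G, ¬ IsMulCommutative H → Subgroup.normalizer (H : Set G) = H) ↔
    (IsMulCommutative G ∨ (IsPrimePow (Nat.card G) ∧ ¬ IsMulCommutative G ∧ ∀ H : Subgroup G, H ≠ ⊤ → IsMulCommutative H)) := by
  constructor
  · intro h
    by_cases hG : IsMulCommutative G
    · exact Or.inl hG
    right
    have hprop : ∀ H : Subgroup G, H ≠ ⊤ → IsMulCommutative H := by
      intro H hH
      by_contra hc
      have := normalizerCondition_of_isNilpotent (G := G) H (lt_top_iff_ne_top.mpr hH)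
      exact this.ne (h H hc).symm
    refine ⟨?_, hG, hprop⟩
    by_contra hpp
    refine hG (mulComm_of_sylow_comm fun p hp P => hprop _ ?_)
    intro hP
    haveI := Fact.mk hp
    obtain ⟨n, hn⟩ := P.isPGroup'.exists_card_eq
    rw [hP, Subgroup.card_top] at hn
    rcases Nat.eq_zero_or_pos n with hn0 | hn0
    · subst hn0
      rw [pow_zero] at hn
      haveI := (Nat.card_eq_one_iff_unique.mp hn).1
      exact hG ⟨⟨fun a b => Subsingleton.elim _ _⟩⟩
    · exact hpp ((isPrimePow_nat_iff _).mpr ⟨p, n, hp, hn0, hn.symm⟩)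
  · intro h H hH
    rcases h with hG | ⟨-, -, hprop⟩
    · exact absurd ⟨⟨fun a b => Subtype.ext (hG.is_comm.comm (a : G) b)⟩⟩ hH
    · have : H = ⊤ := by
        by_contra hne
        exact hH (hprop H hne)
      subst this
      exact eq_top_iff.mpr Subgroup.le_normalizer

end Cfsg.Agent.S4075
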