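import Cfsg.Statements.S4079
import Mathlib
import Cfsg.Agent.Lib.MetaOmega.Basic

set_option autoImplicit false
open Cfsg
open scoped commutatorElement

namespace Cfsg.Agent.S4079

open Cfsg.Agent.Lib in
theorem choose_three_dvd {p : ℕ} [hp : Fact p.Prime] (h5 : 5 ≤ p) : p ∣ Nat.choose p 3 :=
  hp.out.dvd_choose_self (by norm_num) (by omega)

universe u

open Cfsg.Agent.Lib Subgroup

theorem fixed_data {L : Type u} [Group L] [Finite L] {p : ℕ} [hp : Fact p.Prime]
    (hp2 : p ≠ 2) (hL : IsPGroup p L) (hmc : Cfsg.IsMetacyclic L)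
    (hnc : ∀ C : Subgroup L, IsCyclic C → C.index ≠ p) (hncyc : ¬ IsCyclic L)
    (a : MulAut L) (ha : a ^ p = 1)
    (hdelta : ∀ e : L, e ^ p = 1 → a (e⁻¹ * a e) = e⁻¹ * a e)
    (hmove : ∃ e : L, e ^ p = 1 ∧ a e ≠ e) :
    p = 3 ∧ Nat.card {t : L // a t = t} = p := by
  obtain ⟨e2, he2, he2a⟩ := hmove
  obtain ⟨y, hy⟩ := MetaOmega.exists_pow_eq hp2 hL hmc hnc hncyc e2 he2
  -- the twisted difference
  let δ : L → L := fun t => t⁻¹ * a t
  have hδ : ∀ t, a t = t * δ t := fun t => by simp [δ]
  have hW : ∀ t : L, (t ^ p) ^ p = 1 →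
      δ t ^ p = δ (t ^ p) ∧ (δ t ^ p) ^ p = 1 := by
    intro t ht
    have h1 : ((t⁻¹) ^ p) ^ p = 1 := by rw [inv_pow, inv_pow, ht, inv_one]
    have h2 : ((a t) ^ p) ^ p = 1 := by rw [← map_pow, ← map_pow, ht, map_one]
    obtain ⟨h3, h4, -⟩ := MetaOmega.mul_pow_eq hp2 hL hmc hncyc h1 h2
    exact ⟨by simp only [δ]; rw [h3, inv_pow, map_pow], h4⟩
  have hE : ∀ e : L, e ^ p = 1 → (e ^ p) ^ p = 1 := fun e he => by rw [he, one_pow]
  have hEδ : ∀ e : L, e ^ p = 1 → δ e ^ p = 1 := by
    intro e he
    rw [(hW e (hE e he)).1, he]; simp [δ]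
  have hcomm : ∀ e z : L, e ^ p = 1 → (z ^ p) ^ p = 1 → Commute e z :=
    fun e z he hz => MetaOmega.commute_of_pow hp2 hL hmc hnc hncyc he hz
  have hyW : (y ^ p) ^ p = 1 := by rw [hy, he2]
  obtain ⟨hz1, hzW⟩ := hW y hyW
  rw [hy] at hz1
  set z := δ y with hz
  set e1 := δ e2 with he1def
  have he1 : e1 ^ p = 1 := hEδ e2 he2
  have he1a : a e1 = e1 := hdelta e2 he2
  have he1ne : e1 ≠ 1 := fun h => he2a (by rw [hδ e2, ← he1def, h, mul_one])
  set w := δ z with hw
  have hwp : w ^ p = 1 := by
    rw [(hW z hzW).1, hz1]; simp [δ, he1a]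
  set k := δ w with hk
  have hkp : k ^ p = 1 := hEδ w hwp
  have hka : a k = k := hdelta w hwp
  have hwW := hE w hwp
  have hkW := hE k hkp
  have hzw : Commute w z := hcomm w z hwp hzW
  have hzk : Commute k z := hcomm k z hkp hzW
  have hwk : Commute w k := hcomm w k hwp hkW
  have horbit : ∀ j : ℕ, (a ^ j) y = y * z ^ j * w ^ j.choose 2 * k ^ j.choose 3 := by
    intro j
    induction j with
    | zero => simp
    | succ j ih =>
      rw [pow_succ', MulAut.mul_apply, ih, map_mul, map_mul, map_mul, map_pow, map_pow, map_pow,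
        hδ y, ← hz, hδ z, ← hw, hδ w, ← hk, hka, hzw.symm.mul_pow, hwk.mul_pow,
        Nat.choose_succ_succ' j 1, Nat.choose_succ_succ' j 2, Nat.choose_one_right]
      simp only [pow_add, pow_succ', pow_one, one_add_one_eq_two, Nat.reduceAdd, mul_assoc]
  have hp0 := horbit p
  rw [ha, MulAut.one_apply, hz1] at hp0
  obtain ⟨c2, hc2⟩ := PGroupNormalSq.prime_dvd_choose_two hp.out hp2
  rw [hc2, pow_mul, hwp, one_pow, mul_one, mul_assoc, eq_comm, mul_eq_left] at hp0
  have hp3 : p = 3 := by
    by_contra hne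
    have h5 : 5 ≤ p := by
      have h1 := hp.out.two_le
      rcases lt_or_ge p 5 with h | h
      · interval_cases p <;> simp_all (config := { decide := true })
      · exact h
    obtain ⟨c3, hc3⟩ := choose_three_dvd h5
    rw [hc3, pow_mul, hkp, one_pow, mul_one] at hp0
    exact he1ne hp0
  refine ⟨hp3, ?_⟩
  have hch : p.choose 3 = 1 := by rw [hp3]; rfl
  rw [hch, pow_one] at hp0
  have hkne : k ≠ 1 := fun h => he1ne (by rwa [h, mul_one] at hp0)
  -- fixed elements of order dividing `p` are powers of `e1`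
  obtain ⟨E, hEm, hEc, -⟩ := MetaOmega.card_elements_order_dvd hp2 hL hmc hncyc
  let F : Subgroup L := a.toMonoidHom.eqLocus (MonoidHom.id L) ⊓ E
  have hFcard : Nat.card F = p := by
    obtain ⟨n, hn, hn'⟩ := (Nat.dvd_prime_pow hp.out).1
      (hEc ▸ card_dvd_of_le (inf_le_right : F ≤ E))
    interval_cases n
    · rw [pow_zero, card_eq_one] at hn'
      exact absurd ((eq_bot_iff_forall F).1 hn' e1 ⟨he1a, (hEm _).2 he1⟩) he1ne
    · rw [hn', pow_one]
    · have := eq_of_le_of_card_ge (inf_le_right : F ≤ E) (by rw [hn', hEc])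
      have hmem : e2 ∈ F := by
        show e2 ∈ a.toMonoidHom.eqLocus (MonoidHom.id L) ⊓ E
        rw [this]; exact (hEm _).2 he2
      exact absurd hmem.1 he2a
  have hfix : ∀ t : L, a t = t → t ^ p = 1 := by
    intro t ht
    by_contra htp
    obtain ⟨r, hr⟩ := IsPGroup.iff_orderOf.1 hL t
    have hr2 : 2 ≤ r := by
      by_contra h
      apply htp
      rw [← orderOf_dvd_iff_pow_eq_one, hr]
      calc p ^ r ∣ p ^ 1 := pow_dvd_pow p (by omega)
        _ = p := pow_one p
    set s := t ^ p ^ (r - 2) with hs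
    have hsa : a s = s := by rw [hs, map_pow, ht]
    have hsW : (s ^ p) ^ p = 1 := by
      rw [hs, ← pow_mul, ← pow_mul, show p ^ (r - 2) * (p * p) = p ^ (r - 2 + 1 + 1) by ring,
        show r - 2 + 1 + 1 = r by omega, ← hr, pow_orderOf_eq_one]
    have hsne : s ^ p ≠ 1 := by
      intro h
      rw [hs, ← pow_mul, ← pow_succ, ← orderOf_dvd_iff_pow_eq_one, hr] at h
      have := (Nat.pow_dvd_pow_iff_le_right hp.out.one_lt).1 h
      omega
    have hspF : s ^ p ∈ F := ⟨by
      show a (s ^ p) = s ^ p
      rw [map_pow, hsa], (hEm _).2 hsW⟩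
    obtain ⟨i, hi⟩ := mem_powers_iff_mem_zpowers.2 (mem_zpowers_of_prime_card hFcard
      (g := (⟨e1, he1a, (hEm _).2 he1⟩ : F))
      (fun h => he1ne (congrArg Subtype.val h)) (g' := ⟨s ^ p, hspF⟩))
    have hi' : e1 ^ i = s ^ p := by simpa using congrArg Subtype.val hi
    have hziW : ((z ^ i) ^ p) ^ p = 1 := by
      rw [pow_right_comm z i p, pow_right_comm (z ^ p) i p, hzW, one_pow]
    set e := (z ^ i)⁻¹ * s with hedef
    have hep : e ^ p = 1 := by
      rw [hedef, (MetaOmega.mul_pow_eq hp2 hL hmc hncyc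
        (by rw [inv_pow, inv_pow, hziW, inv_one]) hsW).1, inv_pow, pow_right_comm z i p, hz1,
        hi', inv_mul_cancel]
    have hse : s = z ^ i * e := by rw [hedef, mul_inv_cancel_left]
    have hwz : Commute (w ^ i) e := (hcomm w e hwp (hE e hep)).pow_left i
    have h1 : w ^ i * δ e = 1 := by
      have h2 := hsa
      rw [hse, map_mul, map_pow, hδ z, ← hw, hzw.symm.mul_pow, hδ e, mul_assoc, ← mul_assoc (w ^ i),
        hwz.eq, mul_assoc e] at h2
      exact mul_left_cancel (a := z ^ i * e) (by rw [mul_one, mul_assoc]; exact h2)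
    have hwi : a (w ^ i) = w ^ i := by
      rw [eq_inv_of_mul_eq_one_left h1, map_inv, hdelta e hep]
    rw [map_pow, hδ w, ← hk, hwk.mul_pow, mul_eq_left] at hwi
    have hpi : p ∣ i := by
      rw [← orderOf_eq_prime hkp hkne]; exact orderOf_dvd_of_pow_eq_one hwi
    obtain ⟨i', rfl⟩ := hpi
    exact hsne (by rw [← hi', pow_mul, he1, one_pow])
  rw [← hFcard]
  exact Nat.card_congr (Equiv.subtypeEquivRight fun t =>
    ⟨fun ht => ⟨ht, (hEm _).2 (hfix t ht)⟩, fun ht => ht.1⟩)

/-- Let p be an odd prime and L a finite metacyclic p-group with no cyclic subgroup of index p, and let a be an automorphism of L of order p. Then a moves some element of order p of L if and only if p = 3 and the semidirect product L ⋊ ⟨a⟩ (of order 3·#L) has maximal class, i.e. nilpotency class m where #L = 3^m. -/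
theorem result {L : Type*} [Group L] [Finite L] {p : ℕ} [Fact p.Prime]
    (hp : p ≠ 2) (hL : IsPGroup p L) (hmc : Cfsg.IsMetacyclic L) (hnc : ∀ C : Subgroup L, IsCyclic C → C.index ≠ p)
    (a : MulAut L) (ha : orderOf a = p) (m : ℕ) (hm : Nat.card L = p ^ m) :
    (∃ x : L, orderOf x = p ∧ a x ≠ x) ↔
    (p = 3 ∧ Group.nilpotencyClass (SemidirectProduct L ↥(Subgroup.zpowers a) (Subgroup.zpowers a).subtype) = m) := by
  classical
  set φ := (zpowers a).subtype with hφ
  have ha1 : a ≠ 1 := fun h => by rw [h, orderOf_one] at ha; exact (Fact.out : p.Prime).ne_one ha.symm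
  haveI : Nontrivial L := by
    by_contra h
    rw [not_nontrivial_iff_subsingleton] at h
    exact ha1 (MulEquiv.ext fun x => Subsingleton.elim _ _)
  have hncyc := MetaOmega.not_isCyclic hL hnc
  haveI : Finite (SemidirectProduct L ↥(zpowers a) φ) := Finite.of_equiv _ SemidirectProduct.equivProd.symm
  have hH : Nat.card ↥(zpowers a) = p := by rw [Nat.card_zpowers, ha]
  have hG : Nat.card (SemidirectProduct L ↥(zpowers a) φ) = p ^ (m + 1) := by
    rw [SemidirectProduct.card, hm, hH, pow_succ]
  have hGp : IsPGroup p (SemidirectProduct L ↥(zpowers a) φ) := IsPGroup.of_card hG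
  have hcommH : ∀ c c' : ↥(zpowers a), c * c' = c' * c := fun c c' => mul_comm' c c'
  set s : (SemidirectProduct L ↥(zpowers a) φ) := SemidirectProduct.inr ⟨a, mem_zpowers a⟩ with hs
  obtain ⟨E, hEm, hEc, hEcomm⟩ := MetaOmega.card_elements_order_dvd hp hL hmc hncyc
  -- the image of `E` is normal in the semidirect product
  have hconj : ∀ (g : (SemidirectProduct L ↥(zpowers a) φ)) (t : L), g * SemidirectProduct.inl t * g⁻¹ =
      SemidirectProduct.inl (g.left * φ g.right t * g.left⁻¹) := by
    intro g t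
    ext <;> simp
  have hnormal : ∀ (T : Subgroup L) (q : L → Prop), (∀ x, x ∈ T ↔ q x) →
      (∀ (f : MulAut L) x, q x → q (f x)) →
      (T.map (SemidirectProduct.inl (φ := φ))).Normal := by
    intro T q hT hq
    constructor
    rintro _ ⟨t, ht, rfl⟩ g
    refine ⟨g.left * φ g.right t * g.left⁻¹, (hT _).2 ?_, (hconj g t).symm⟩
    have := hq (MulAut.conj g.left) _ (hq (φ g.right) t ((hT t).1 ht))
    simpa using this
  set E' := E.map (SemidirectProduct.inl (φ := φ)) with hE'
  haveI hE'n : E'.Normal := hnormal E (fun x => x ^ p = 1) hEm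
    (fun f x hx => by rw [← map_pow, hx, map_one])
  have hE'c : Nat.card E' = p ^ 2 := by
    rw [hE', card_map_of_injective SemidirectProduct.inl_injective, hEc]
  constructor
  · rintro ⟨x, hx, hxa⟩
    have hdelta : ∀ e : L, e ^ p = 1 → a (e⁻¹ * a e) = e⁻¹ * a e := by
      intro e he
      have h1 := MetaOmega.commutator_mem_center hGp E' hE'c
        (x := (SemidirectProduct.inl e⁻¹ : (SemidirectProduct L ↥(zpowers a) φ)))
        (mem_map_of_mem _ ((hEm _).2 (by rw [inv_pow, he, inv_one]))) s
      have h2 : ⁅(SemidirectProduct.inl e⁻¹ : (SemidirectProduct L ↥(zpowers a) φ)), s⁆ = SemidirectProduct.inl (e⁻¹ * a e) := by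
        rw [commutatorElement_def]
        ext <;> simp [hs, hφ]
      rw [h2, mem_center_iff] at h1
      have h3 := congrArg SemidirectProduct.left (h1 s)
      simpa [hs, hφ] using h3
    obtain ⟨hp3, hfix⟩ := fixed_data hp hL hmc hnc hncyc a (ha ▸ pow_orderOf_eq_one a) hdelta
      ⟨x, hx ▸ pow_orderOf_eq_one x, hxa⟩
    refine ⟨hp3, ?_⟩
    set A := centralizer ({s} : Set (SemidirectProduct L ↥(zpowers a) φ)) with hA
    have hmemA : ∀ g : (SemidirectProduct L ↥(zpowers a) φ), g ∈ A ↔ a g.left = g.left := by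
      intro g
      rw [hA, mem_centralizer_singleton_iff]
      constructor
      · intro h
        have := congrArg SemidirectProduct.left h
        simpa [hs, hφ, eq_comm] using this
      · intro h
        ext
        · simp [hs, hφ, h]
        · simp [hs, hcommH]
    have hAcard : Nat.card A = p ^ 2 := by
      rw [pow_two]
      conv_rhs => arg 1; rw [← hfix]
      rw [← hH, ← Nat.card_prod]
      exact Nat.card_congr
        { toFun := fun g => (⟨g.1.left, (hmemA _).1 g.2⟩, g.1.right)
          invFun := fun q => ⟨⟨q.1.1, q.2⟩, (hmemA _).2 q.1.2⟩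
          left_inv := fun g => Subtype.ext (SemidirectProduct.ext rfl rfl)
          right_inv := fun q => rfl }
    have : IsMulCommutative A := IsPGroup.isMulCommutative_of_card_eq_prime_sq hAcard
    have hsA : s ∈ A := mem_centralizer_singleton_iff.2 rfl
    have := PLemmas.nilpotencyClass_of_self_centralizing hG A hAcard
      (le_antisymm (centralizer_le (Set.singleton_subset_iff.2 hsA)) A.le_centralizer)
    simpa using this
  · rintro ⟨hp3, hcl⟩
    obtain ⟨C⟩ := Metacyclic.exists_coord hL hmc
    obtain ⟨hCm, hCl⟩ := MetaOmega.two_le_params hnc hncyc C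
    have hm4 : C.m + C.l = m := Nat.pow_right_injective (Fact.out : p.Prime).two_le
      (C.card_group.symm.trans hm)
    have hcl' : Group.nilpotencyClass (SemidirectProduct L ↥(zpowers a) φ) = (m + 1) - 1 := hcl
    by_contra hno
    push Not at hno
    have hEfix : ∀ e ∈ E, a e = e := by
      intro e he
      rcases eq_or_ne e 1 with rfl | he1
      · simp
      exact hno e (orderOf_eq_prime ((hEm e).1 he) he1)
    -- the derived subgroup of `L` has exponent `p`
    have hD : ∀ d ∈ commutator L, d ^ p = 1 := by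
      intro d hd
      by_contra hdp
      obtain ⟨r, hr⟩ := IsPGroup.iff_orderOf.1 hL d
      have hr2 : 2 ≤ r := by
        by_contra h
        apply hdp
        rw [← orderOf_dvd_iff_pow_eq_one, hr]
        calc p ^ r ∣ p ^ 1 := pow_dvd_pow p (by omega)
          _ = p := pow_one p
      set d₂ := d ^ p ^ (r - 2) with hd₂
      have hord : orderOf d₂ = p ^ 2 := by
        rw [hd₂, orderOf_pow' _ (pow_ne_zero _ (Fact.out : p.Prime).ne_zero), hr,
          Nat.gcd_eq_right (pow_dvd_pow p (by omega)), Nat.pow_div (by omega) (Fact.out : p.Prime).pos]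
        congr 1; omega
      haveI : Fintype (commutator L) := Fintype.ofFinite _
      haveI hcyc : IsCyclic (commutator L) := by rw [C.commutator_eq]; infer_instance
      let T : Subgroup L := zpowers d₂
      have hTm : ∀ x, x ∈ T ↔ x ∈ commutator L ∧ x ^ p ^ 2 = 1 := by
        intro x
        refine ⟨fun hx => ⟨zpowers_le.2 (pow_mem hd _) hx, ?_⟩, fun hx => ?_⟩
        · rw [← hord, ← orderOf_dvd_iff_pow_eq_one, ← Nat.card_zpowers d₂]
          have := orderOf_dvd_natCard (⟨x, hx⟩ : T)
          rwa [orderOf_mk] at this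
        · let U : Finset (commutator L) :=
            Finset.univ.filter fun u : commutator L => u ^ p ^ 2 = 1
          have hU : U.card ≤ p ^ 2 := IsCyclic.card_pow_eq_one_le (pow_pos (Fact.out : p.Prime).pos 2)
          let d' : commutator L := ⟨d₂, pow_mem hd _⟩
          have hd' : orderOf d' = p ^ 2 := by rw [← hord, orderOf_mk]
          let V : Finset (commutator L) := Finset.univ.filter fun u => u ∈ zpowers d'
          have hVU : V ⊆ U := by
            intro u hu
            refine Finset.mem_filter.2 ⟨Finset.mem_univ _, ?_⟩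
            obtain ⟨i, rfl⟩ := mem_zpowers_iff.1 (Finset.mem_filter.1 hu).2
            rw [← zpow_natCast, ← zpow_mul, mul_comm, zpow_mul, zpow_natCast, ← hd',
              pow_orderOf_eq_one, one_zpow]
          have hV : V.card = p ^ 2 := by
            rw [← hd', ← Nat.card_zpowers, Nat.card_eq_fintype_card, Fintype.card_subtype]
          have hUV := Finset.eq_of_subset_of_card_le hVU (by omega)
          have hxU : (⟨x, hx.1⟩ : commutator L) ∈ U :=
            Finset.mem_filter.2 ⟨Finset.mem_univ _, Subtype.ext (by simpa using hx.2)⟩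
          rw [← hUV] at hxU
          obtain ⟨i, hi⟩ := mem_zpowers_iff.1 (Finset.mem_filter.1 hxU).2
          exact mem_zpowers_iff.2 ⟨i, by simpa [d'] using congrArg Subtype.val hi⟩
      haveI : (T.map (SemidirectProduct.inl (φ := φ))).Normal :=
        hnormal T _ hTm (fun f x hx => ⟨by
          have hch : (commutator L).Characteristic := inferInstance
          have := (characteristic_iff_comap_eq.1 hch) f
          rw [← this] at hx
          exact hx.1, by rw [← map_pow, hx.2, map_one]⟩)
      have heq := MetaOmega.eq_of_maxClass hGp hG (by omega) hcl' E'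
        (T.map (SemidirectProduct.inl (φ := φ))) hE'c
        (by rw [card_map_of_injective SemidirectProduct.inl_injective, Nat.card_zpowers, hord])
      have hmem : (SemidirectProduct.inl d₂ : (SemidirectProduct L ↥(zpowers a) φ)) ∈ E' := heq ▸ mem_map_of_mem _ (mem_zpowers d₂)
      obtain ⟨e, he, hee⟩ := hmem
      have := SemidirectProduct.inl_injective hee
      subst this
      have := orderOf_dvd_of_pow_eq_one ((hEm _).1 he)
      rw [hord] at this
      have := Nat.le_of_dvd (Fact.out : p.Prime).pos this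
      nlinarith [(Fact.out : p.Prime).two_le]
    have hEcent : ∀ e ∈ E, e ∈ center L := by
      intro e he
      obtain ⟨y, rfl⟩ := MetaOmega.exists_pow_eq hp hL hmc hnc hncyc e ((hEm e).1 he)
      rw [mem_center_iff]
      intro g
      have hc : ⁅g, y⁆ ∈ commutator L := commutator_mem_commutator (mem_top _) (mem_top _)
      have hcc := MetaOmega.mem_center_of_mem_commutator hL hmc hc (hD _ hc)
      have h1 : g * y * g⁻¹ = ⁅g, y⁆ * y := by simp [commutatorElement_def]
      have h2 := conj_pow (i := p) (a := g) (b := y)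
      rw [h1, Commute.mul_pow (mem_center_iff.1 hcc y).symm, hD _ hc, one_mul] at h2
      exact eq_mul_inv_iff_mul_eq.1 h2 |>.symm
    have hE'cent : E' ≤ center (SemidirectProduct L ↥(zpowers a) φ) := by
      rintro _ ⟨e, he, rfl⟩
      rw [mem_center_iff]
      intro g
      have hge : φ g.right e = e := by
        obtain ⟨k, hk⟩ := mem_zpowers_iff.1 g.right.2
        show (g.right : MulAut L) e = e
        rw [← hk]
        have hst : a ∈ MulAction.stabilizer (MulAut L) e := hEfix e he
        exact MulAction.mem_stabilizer_iff.1 (zpow_mem hst k)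
      have h := hconj g e
      rw [hge, (mem_center_iff.1 (hEcent e he) g.left), mul_inv_cancel_right,
        mul_inv_eq_iff_eq_mul] at h
      exact h
    obtain ⟨hc, -, -⟩ := MetaOmega.card_center_of_maxClass hGp hG (by omega) hcl'
    have := card_le_of_le hE'cent
    rw [hE'c, hc] at this
    nlinarith [(Fact.out : p.Prime).two_le]

end Cfsg.Agent.S4079
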