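import Cfsg.Statements.S4080
import Mathlib

set_option autoImplicit false
open Cfsg

namespace Cfsg.Agent.S4080

section
variable {p : ℕ} [hp : Fact p.Prime]

abbrev A (p : ℕ) := ZMod (p ^ 2) × ZMod (p ^ 2)

lemma exists_eq_nsmul (c : ZMod (p ^ 2)) (h : p • c = 0) : ∃ b, c = p • b := by
  haveI : NeZero (p ^ 2) := ⟨pow_ne_zero _ hp.out.ne_zero⟩
  rw [← ZMod.natCast_zmod_val c, nsmul_eq_mul, ← Nat.cast_mul,
    ZMod.natCast_eq_zero_iff] at h
  have h' : p * p ∣ p * c.val := by simpa [sq] using h
  obtain ⟨k, hk⟩ := Nat.dvd_of_mul_dvd_mul_left hp.out.pos h'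
  exact ⟨k, by rw [nsmul_eq_mul, ← Nat.cast_mul, ← hk, ZMod.natCast_zmod_val]⟩

lemma exists_eq_nsmul' (c : A p) (h : p • c = 0) : ∃ b, c = p • b := by
  obtain ⟨b1, hb1⟩ := exists_eq_nsmul c.1 (congrArg Prod.fst h)
  obtain ⟨b2, hb2⟩ := exists_eq_nsmul c.2 (congrArg Prod.snd h)
  exact ⟨(b1, b2), Prod.ext hb1 hb2⟩

lemma sq_nsmul (c : A p) : p • p • c = 0 := by
  rw [smul_smul, ← sq]
  rw [nsmul_eq_mul, show ((p ^ 2 : ℕ) : A p) = 0 from
    Prod.ext (ZMod.natCast_self _) (ZMod.natCast_self _), zero_mul]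

/-- `p`-multiples. -/
def torsion (p : ℕ) : AddSubgroup (A p) := (nsmulAddMonoidHom p : A p →+ A p).ker

lemma card_torsion : Nat.card (torsion p) = p ^ 2 := by
  set m : A p →+ A p := nsmulAddMonoidHom p with hm
  have hr : m.range = m.ker := by
    ext c
    constructor
    · rintro ⟨b, rfl⟩; exact sq_nsmul b
    · intro hc; obtain ⟨b, rfl⟩ := exists_eq_nsmul' c hc; exact ⟨b, rfl⟩
  have h1 : Nat.card m.ker * Nat.card m.range = Nat.card (A p) := by
    rw [← m.ker.card_mul_index, AddSubgroup.index_ker]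
  rw [hr, Nat.card_prod, Nat.card_zmod, ← sq, ← sq] at h1
  exact Nat.pow_left_injective two_ne_zero h1

lemma key (hp3 : 3 < p) (F : AddMonoid.End (A p)) (hF : F ^ p = 1) :
    (p : AddMonoid.End (A p)) * F = p := by
  let N : AddMonoid.End (A p) := F - 1
  have hN : N = F - 1 := rfl
  have happ : ∀ (k : ℕ) (c : A p), (k : AddMonoid.End (A p)) c = k • c := fun k c => AddMonoid.End.natCast_apply k c
  have hpp : (p : AddMonoid.End (A p)) * p = 0 := by
    ext c : 1
    show (p : AddMonoid.End (A p)) ((p : AddMonoid.End (A p)) c) = 0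
    rw [happ, happ, sq_nsmul]
  have hFN : F = N + 1 := by rw [hN, sub_add_cancel]
  obtain ⟨X, hX⟩ : ∃ X : AddMonoid.End (A p), (N + 1) ^ p = N ^ p + 1 ^ p + p * X :=
    (by
      obtain ⟨r, hr⟩ := (Commute.one_right N).exists_add_pow_prime_eq hp.out
      exact ⟨N * 1 * r, by rw [hr]; noncomm_ring⟩)
  rw [← hFN, hF, one_pow] at hX
  have hNp : N ^ p * p = 0 := by
    have : N ^ p = -(p * X) := by
      rw [eq_neg_iff_add_eq_zero]
      have := hX.symm
      rw [add_right_comm] at this
      exact add_eq_right.mp this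
    rw [this]
    ext c : 1
    show -((p : AddMonoid.End (A p)) (X ((p : AddMonoid.End (A p)) c))) = 0
    rw [happ, happ, map_nsmul, sq_nsmul, neg_zero]
  -- `N` squared kills the torsion
  have hN2 : N ^ 2 * p = 0 := by
    let B := torsion p
    have hmap : ∀ (k : ℕ) c, c ∈ B → (N ^ k) c ∈ B := by
      intro k c hc
      show p • (N ^ k) c = 0
      rw [← map_nsmul, show p • c = 0 from hc, map_zero]
    let C : ℕ → AddSubgroup (A p) := fun k => B.map (N ^ k : A p →+ A p)
    have hC0 : C 0 = B := by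
      ext c; simp only [C, pow_zero, AddSubgroup.mem_map]; exact ⟨by rintro ⟨d, hd, rfl⟩; exact hd, fun h => ⟨c, h, rfl⟩⟩
    have hCs : ∀ k, C (k + 1) = (C k).map (N : A p →+ A p) := by
      intro k
      refine ((congrArg (fun f : AddMonoid.End (A p) => B.map (f : A p →+ A p)) (pow_succ' N k)).trans ?_)
      exact (AddSubgroup.map_map B (N : A p →+ A p) (N ^ k : AddMonoid.End (A p))).symm
    have hCle : ∀ k, C (k + 1) ≤ C k := by
      intro k
      induction k with
      | zero =>
        rw [hC0]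
        rintro _ ⟨c, hc, rfl⟩
        exact hmap 1 c hc
      | succ k ih => rw [hCs (k + 1)]; rw [hCs k]; exact AddSubgroup.map_mono (hCs k ▸ ih)
    have hCp : C p = ⊥ := by
      rw [eq_bot_iff]
      rintro _ ⟨c, hc, rfl⟩
      obtain ⟨b, rfl⟩ := exists_eq_nsmul' c hc
      have := DFunLike.congr_fun hNp b
      rw [AddSubgroup.mem_bot]
      calc (N ^ p) (p • b) = (N ^ p * p) b := by rw [← happ]; rfl
        _ = 0 := this
    have hstable : ∀ k, C (k + 1) = C k → ∀ j, C (k + j) = C k := by
      intro k hk j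
      induction j with
      | zero => rfl
      | succ j ih => rw [← add_assoc, hCs, ih, ← hCs, hk]
    have hdrop : ∀ k, k ≤ p → C k ≠ ⊥ → p * Nat.card (C (k + 1)) ≤ Nat.card (C k) := by
      intro k hk hne
      have hne' : C (k + 1) ≠ C k := fun h => hne (by
        rw [← hstable k h (p - k), Nat.add_sub_cancel' hk, hCp])
      obtain ⟨d, hd⟩ := AddSubgroup.card_dvd_of_le (hCle k)
      have hd' : d ∣ p ^ 2 := by
        have h2 := AddSubgroup.card_dvd_of_le (le_of_le_of_eq (show C k ≤ C 0 by
          clear hd hne hne' hk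
          induction k with
          | zero => exact le_rfl
          | succ k ih => exact (hCle k).trans ih) hC0)
        rw [show B = torsion p from rfl, card_torsion] at h2
        exact (Dvd.intro_left _ hd.symm).trans h2
      obtain ⟨e, -, rfl⟩ := (Nat.dvd_prime_pow hp.out).mp hd'
      rcases Nat.eq_zero_or_pos e with rfl | he
      · exact absurd (AddSubgroup.eq_of_le_of_card_ge (hCle k) (by rw [hd]; simp)) hne'
      · rw [hd, mul_comm]
        exact Nat.mul_le_mul_left _ (Nat.le_self_pow he.ne' p)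
    have hC2 : C 2 = ⊥ := by
      by_contra h2
      have h1 : C 1 ≠ ⊥ := fun h => h2 (le_bot_iff.mp (h ▸ hCle 1))
      have h0 : C 0 ≠ ⊥ := fun h => h1 (le_bot_iff.mp (h ▸ hCle 0))
      have a0 := hdrop 0 (by omega) h0
      have a1 := hdrop 1 (by omega) h1
      have a2 := hdrop 2 (by omega) h2
      rw [hC0, show B = torsion p from rfl, card_torsion] at a0
      have : 0 < Nat.card (C 3) := Nat.card_pos
      nlinarith [hp.out.two_le]
    ext c : 1
    show (N ^ 2) ((p : AddMonoid.End (A p)) c) = 0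
    rw [happ]
    exact AddSubgroup.mem_bot.mp (hC2 ▸ ⟨p • c, sq_nsmul c, rfl⟩)
  have hN4 : N ^ 4 = 0 := by
    ext c : 1
    show (N ^ 4) c = 0
    have h1 : p • (N ^ 2) c = 0 := by
      rw [← map_nsmul, ← happ]; exact DFunLike.congr_fun hN2 c
    obtain ⟨b, hb⟩ := exists_eq_nsmul' _ h1
    calc (N ^ 4) c = (N ^ 2) ((N ^ 2) c) := by rw [show (4 : ℕ) = 2 + 2 from rfl, pow_add]; rfl
      _ = (N ^ 2 * p) b := by rw [hb, ← happ]; rfl
      _ = 0 := by rw [hN2]; rfl
  have hsum := (Commute.one_right N).add_pow p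
  rw [← hFN, hF] at hsum
  rw [Finset.sum_eq_add_of_mem 0 1 (Finset.mem_range.mpr (by omega)) (Finset.mem_range.mpr (by omega))
    zero_ne_one] at hsum
  · simp only [pow_zero, one_pow, mul_one, one_mul, pow_one, Nat.choose_zero_right, Nat.cast_one,
      Nat.choose_one_right] at hsum
    have : (p : AddMonoid.End (A p)) * N = 0 := by
      rw [(Nat.cast_commute p N).eq]
      exact add_eq_left.mp hsum.symm
    rw [hN, mul_sub, sub_eq_zero, mul_one] at this
    exact this
  · intro m hm hne
    rw [Finset.mem_range] at hm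
    rw [one_pow, mul_one]
    have h2 : 2 ≤ m := by omega
    by_cases hmp : m = p
    · have : N ^ m = 0 := pow_eq_zero_of_le (show 4 ≤ m by omega) hN4
      rw [this, zero_mul]
    · obtain ⟨c, hc⟩ := hp.out.dvd_choose_self (k := m) (by omega) (by omega)
      rw [hc, Nat.cast_mul, ← mul_assoc, show m = (m - 2) + 2 by omega, pow_add, mul_assoc (N ^ (m-2)),
        hN2, mul_zero, zero_mul]

end

/-- Let p > 3 be a prime and L the direct product of two cyclic groups of order p². Every automorphism of L of order p fixes every element of order p of L. -/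
theorem result {p : ℕ} [Fact p.Prime] (hp : 3 < p)
    (a : MulAut (Multiplicative (ZMod (p ^ 2) × ZMod (p ^ 2)))) (ha : orderOf a = p)
    (x : Multiplicative (ZMod (p ^ 2) × ZMod (p ^ 2))) (hx : orderOf x = p) : a x = x := by
  let F : AddMonoid.End (A p) :=
    { toFun := fun c => Multiplicative.toAdd (a (Multiplicative.ofAdd c))
      map_zero' := by simp
      map_add' := fun c d => by simp }
  have hFk : ∀ (k : ℕ) (c : A p),
      (F ^ k) c = Multiplicative.toAdd ((a ^ k) (Multiplicative.ofAdd c)) := by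
    intro k
    induction k with
    | zero => intro c; rfl
    | succ k ih =>
      intro c
      show (F ^ k * F) c = _
      exact (ih (F c)).trans rfl
  have hF : F ^ p = 1 := by
    refine DFunLike.ext _ _ fun c => ?_
    refine (hFk p c).trans ?_
    have : a ^ p = 1 := orderOf_dvd_iff_pow_eq_one.mp ha.dvd
    simp [this]
  have hx' : p • Multiplicative.toAdd x = 0 := by
    have : x ^ p = 1 := orderOf_dvd_iff_pow_eq_one.mp hx.dvd
    rw [← toAdd_pow, this]; rfl
  obtain ⟨b, hb⟩ := exists_eq_nsmul' _ hx'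
  have h1 := DFunLike.congr_fun (key hp F hF) b
  have h2 : F (p • b) = p • b := by
    rw [map_nsmul]
    calc p • F b = ((p : AddMonoid.End (A p)) * F) b := by
          exact (AddMonoid.End.natCast_apply p (F b)).symm
      _ = p • b := by rw [h1]; exact AddMonoid.End.natCast_apply p b
  rw [← hb] at h2
  exact Multiplicative.toAdd.injective h2

end Cfsg.Agent.S4080
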