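import Cfsg.Statements.S4081
import Mathlib
import Cfsg.Agent.Lib.PSolvable.Core
import Cfsg.Agent.Lib.MinimalNormal
import Cfsg.Agent.Lib.Burnside.Paqb
import Cfsg.Agent.Lib.Coprime.Generation
import Cfsg.Agent.Lib.ThreeOrbits.Linear

set_option autoImplicit false
open Cfsg

namespace Cfsg.Agent.S4081

open Cfsg.Agent.Lib.ThreeOrbits
open scoped IsMulCommutative

variable {G : Type*} [Group G] [Finite G]

lemma orderOf_eq_of_orbit {g h : G} (e : h ∈ MulAction.orbit (MulAut G) g) : orderOf h = orderOf g := by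
  obtain ⟨α, rfl⟩ := e
  exact MulEquiv.orderOf_eq α g

/-- The orbit set is the image of `orderOf` when equal orders imply one orbit. -/
lemma card_orbits_eq (s : Finset ℕ) (hs : ∀ g : G, orderOf g ∈ s) (hs' : ∀ n ∈ s, ∃ g : G, orderOf g = n)
    (hone : ∀ g h : G, orderOf g = orderOf h → g ∈ MulAction.orbit (MulAut G) h) :
    Nat.card (MulAction.orbitRel.Quotient (MulAut G) G) = s.card := by
  rw [← Nat.card_eq_finsetCard]
  refine Nat.card_congr (Equiv.ofBijective
    (Quotient.lift (fun g => (⟨orderOf g, hs g⟩ : s)) fun a b hab => Subtype.ext (orderOf_eq_of_orbit (MulAction.orbitRel_apply.mp hab))) ⟨?_, ?_⟩)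
  · intro a b
    induction a using Quotient.ind with | _ a => ?_
    induction b using Quotient.ind with | _ b => ?_
    intro h
    exact Quotient.sound (hone a b (congrArg Subtype.val h))
  · rintro ⟨n, hn⟩
    obtain ⟨g, hg⟩ := hs' n hn
    exact ⟨Quotient.mk _ g, Subtype.ext hg⟩

/-- Conjugation on a normal subgroup, seen as `F_p`-linear maps. -/
noncomputable def conjLin (p : ℕ) (P : Subgroup G) [P.Normal] [IsMulCommutative P]
    [Module (ZMod p) (Additive P)] : G →* Module.End (ZMod p) (Additive P) where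
  toFun g := AddMonoidHom.toZModLinearMap p (MonoidHom.toAdditive (MulAut.conjNormal g : MulAut P).toMonoidHom)
  map_one' := by
    apply LinearMap.ext
    intro v
    show Additive.ofMul ((MulAut.conjNormal (1 : G) : MulAut P) (Additive.toMul v)) = v
    rw [map_one]; rfl
  map_mul' g h := by
    apply LinearMap.ext
    intro v
    show Additive.ofMul ((MulAut.conjNormal (g * h) : MulAut P) (Additive.toMul v)) = _
    rw [map_mul]; rfl

lemma conjLin_apply {p : ℕ} {P : Subgroup G} [P.Normal] [IsMulCommutative P] [Module (ZMod p) (Additive P)]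
    (g : G) (a : P) : ((Additive.toMul (conjLin p P g (Additive.ofMul a)) : P) : G) = g * a * g⁻¹ := rfl

lemma conjLin_mem {p : ℕ} {P : Subgroup G} [P.Normal] [IsMulCommutative P] [Module (ZMod p) (Additive P)]
    (a : G) (ha : a ∈ P) : conjLin p P a = 1 := by
  apply LinearMap.ext
  intro v
  apply Additive.toMul.injective
  apply Subtype.ext
  show a * ((Additive.toMul v : P) : G) * a⁻¹ = _
  rw [setLike_mul_comm ha (Additive.toMul v).2, mul_inv_cancel_right]
  rfl

/-- Forward direction, after the primes have been named. -/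
lemma forward {r s : ℕ} [hr : Fact r.Prime] [hs : Fact s.Prime] (hrs : r ≠ s) (hrG : r ∣ Nat.card G)
    (hsG : s ∣ Nat.card G) (hord : ∀ g : G, orderOf g = 1 ∨ orderOf g = r ∨ orderOf g = s)
    (hone : ∀ g h : G, orderOf g = orderOf h → g ∈ MulAction.orbit (MulAut G) h)
    (hcore : Cfsg.pCore r G ≠ ⊥) :
    ∃ n : ℕ, 1 ≤ n ∧ Nat.card G = r ^ n * s ∧
      (∀ P : Sylow r G, (P : Subgroup G).Normal ∧ Cfsg.IsElementaryAbelian r (P : Subgroup G)) ∧
      orderOf (r : ZMod s) = s - 1 ∧
      ∀ x y : G, orderOf x = s → orderOf y = r → x * y * x⁻¹ ≠ y := by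
  classical
  have hr1 := hr.out.one_lt
  have hs1 := hs.out.one_lt
  have hpow : ∀ g : G, ∀ k : ℕ, orderOf g ∣ r ^ k → g ^ r = 1 := by
    intro g k hk
    rcases hord g with h | h | h
    · rw [orderOf_eq_one_iff.mp h, one_pow]
    · rw [← h, pow_orderOf_eq_one]
    · rw [h] at hk
      exact absurd ((Nat.prime_dvd_prime_iff_eq hs.out hr.out).mp (hs.out.dvd_of_dvd_pow hk)).symm hrs
  have hchar : ∀ (N : Subgroup G), N.Characteristic → ∀ g h : G, orderOf g = orderOf h → h ∈ N → g ∈ N := by
    intro N hN g h e hh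
    obtain ⟨α, rfl⟩ := hone g h e
    exact ((Subgroup.characteristic_iff_map_eq.mp hN α).le ⟨h, hh, rfl⟩)
  haveI hcc := Cfsg.Agent.Lib.PSolvable.pCore_characteristic (G := G) (p := r)
  obtain ⟨⟨b, hb⟩, hb1⟩ := Subgroup.ne_bot_iff_exists_ne_one.mp hcore
  have hbo : orderOf b = r := by
    obtain ⟨k, hk⟩ := Cfsg.Agent.Lib.PSolvable.pCore_isPGroup (G := G) (p := r) ⟨b, hb⟩
    have hk' : b ^ r ^ k = 1 := congrArg Subtype.val hk
    refine orderOf_eq_prime (hpow b k (orderOf_dvd_of_pow_eq_one hk')) fun e => hb1 (Subtype.ext e)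
  set N := Cfsg.pCore r G with hN
  have hin : ∀ g : G, orderOf g = r → g ∈ N := fun g hg => hchar N hcc g b (hg.trans hbo.symm) hb
  obtain ⟨P⟩ := (inferInstance : Nonempty (Sylow r G))
  have hPN : (P : Subgroup G) = N := by
    refine (P.is_maximal' Cfsg.Agent.Lib.PSolvable.pCore_isPGroup ?_).symm
    intro g hg
    rcases hord g with h | h | h
    · rw [orderOf_eq_one_iff.mp h]; exact one_mem _
    · exact hin g h
    · obtain ⟨k, hk⟩ := IsPGroup.iff_orderOf.mp P.isPGroup' ⟨g, hg⟩
      rw [Subgroup.orderOf_mk, h] at hk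
      exact absurd ((Nat.prime_dvd_prime_iff_eq hs.out hr.out).mp (hs.out.dvd_of_dvd_pow hk.dvd)).symm hrs
  haveI hPn : (P : Subgroup G).Normal := by rw [hPN]; infer_instance
  haveI hPc : (P : Subgroup G).Characteristic := by rw [hPN]; exact hcc
  have hbP : b ∈ (P : Subgroup G) := by rw [hPN]; exact hb
  haveI hPnt : Nontrivial (P : Subgroup G) :=
    ⟨⟨⟨b, hbP⟩, 1, fun e => hb1 (Subtype.ext (congrArg Subtype.val e :))⟩⟩
  haveI : IsMulCommutative (P : Subgroup G) := by
    haveI := P.isPGroup'.center_nontrivial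
    obtain ⟨⟨z, hz⟩, hz1⟩ := exists_ne (1 : Subgroup.center (P : Subgroup G))
    set Z : Subgroup G := (Subgroup.center (P : Subgroup G)).map (P : Subgroup G).subtype with hZ
    haveI hZc : Z.Characteristic := inferInstance
    have hzo : orderOf (z : G) = r := by
      obtain ⟨k, hk⟩ := IsPGroup.iff_orderOf.mp P.isPGroup' z
      refine orderOf_eq_prime (hpow _ k (by rw [Subgroup.orderOf_coe, hk])) fun e => hz1 ?_
      exact Subtype.ext (Subtype.ext e)
    have hall : ∀ a : (P : Subgroup G), (a : G) ∈ Z := by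
      intro a
      rcases eq_or_ne (a : G) 1 with h | h
      · rw [h]; exact one_mem _
      · obtain ⟨k, hk⟩ := IsPGroup.iff_orderOf.mp P.isPGroup' a
        have ho : orderOf (a : G) = r := orderOf_eq_prime (hpow _ k (by rw [Subgroup.orderOf_coe, hk])) h
        exact hchar Z hZc _ _ (ho.trans hzo.symm) ⟨z, hz, rfl⟩
    refine ⟨⟨fun a c => ?_⟩⟩
    obtain ⟨a', ha', e⟩ := hall a
    obtain rfl : a' = a := Subtype.ext e
    exact (Subgroup.mem_center_iff.mp ha' c).symm
  have hexp : ∀ a ∈ (P : Subgroup G), a ^ r = 1 := fun a ha => by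
    obtain ⟨k, hk⟩ := IsPGroup.iff_orderOf.mp P.isPGroup' ⟨a, ha⟩
    exact hpow a k (by rw [Subgroup.orderOf_mk] at hk; rw [hk])
  have hfpf : ∀ x y : G, orderOf x = s → orderOf y = r → x * y * x⁻¹ ≠ y := by
    intro x y hx hy h
    have hc : Commute x y := mul_inv_eq_iff_eq_mul.mp h
    have := hc.orderOf_mul_eq_mul_orderOf_of_coprime (by
      rw [hx, hy]; exact (Nat.coprime_primes hs.out hr.out).mpr hrs.symm)
    rw [hx, hy] at this
    rcases hord (x * y) with e | e | e <;> rw [e] at this <;> nlinarith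
  -- the Sylow `s`-subgroup has order `s`
  obtain ⟨Q⟩ := (inferInstance : Nonempty (Sylow s G))
  have hQexp : ∀ a ∈ (Q : Subgroup G), a ≠ 1 → orderOf a = s := by
    intro a ha h1
    obtain ⟨k, hk⟩ := IsPGroup.iff_orderOf.mp Q.isPGroup' ⟨a, ha⟩
    rw [Subgroup.orderOf_mk] at hk
    rcases hord a with h | h | h
    · exact absurd (orderOf_eq_one_iff.mp h) h1
    · rw [h] at hk
      exact absurd ((Nat.prime_dvd_prime_iff_eq hr.out hs.out).mp (hr.out.dvd_of_dvd_pow hk.dvd)) hrs
    · exact h
  have hQcard : Nat.card (Q : Subgroup G) = s := by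
    haveI : Nontrivial (Q : Subgroup G) := (Subgroup.nontrivial_iff_ne_bot _).mpr (Q.ne_bot_of_dvd_card hsG)
    haveI := Q.isPGroup'.center_nontrivial
    obtain ⟨⟨⟨a, haQ⟩, hac⟩, ha1⟩ := exists_ne (1 : Subgroup.center (Q : Subgroup G))
    have hao : orderOf a = s := hQexp a haQ fun e => ha1 (Subtype.ext (Subtype.ext e))
    have hQle : (Q : Subgroup G) ≤ Subgroup.zpowers a := by
      intro c hc
      by_contra hca
      have hac' : Commute c a := congrArg Subtype.val (Subgroup.mem_center_iff.mp hac ⟨c, hc⟩)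
      have hcl : ∀ x ∈ Subgroup.closure ({c, a} : Set G), x ∈ (Q : Subgroup G) :=
        (Subgroup.closure_le _).mpr (by rintro x (rfl | rfl) <;> assumption)
      have hle := Cfsg.Agent.Lib.Coprime.le_of_pair (K := (P : Subgroup G)) (L := ⊥) hs.out ?_ ?_ hac'
        (by rw [← hQexp c hc (fun e => hca (e ▸ one_mem _)), pow_orderOf_eq_one])
        (by rw [← hao, pow_orderOf_eq_one]) (fun e => ha1 (Subtype.ext (Subtype.ext e))) hca ?_
      · exact hb1 (Subtype.ext (Subgroup.mem_bot.mp (hle hbP)))
      · obtain ⟨k, hk⟩ := P.isPGroup'.exists_card_eq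
        rw [hk]
        exact ((Nat.coprime_primes hs.out hr.out).mpr hrs.symm).pow_right k
      · rw [Subgroup.normalizer_eq_top_iff.mpr hPn]; exact le_top
      · intro x hx hx1 y hy
        obtain ⟨hyP, hyc⟩ := Subgroup.mem_inf.mp hy
        rw [Subgroup.mem_centralizer_singleton_iff] at hyc
        rw [Subgroup.mem_bot]
        by_contra hy1
        exact hfpf x y (hQexp x (hcl x hx) hx1) (orderOf_eq_prime (hexp y hyP) hy1)
          (by rw [← hyc, mul_inv_cancel_right])
    rw [le_antisymm hQle (Subgroup.zpowers_le.mpr haQ), Nat.card_zpowers, hao]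
  obtain ⟨n, hn⟩ := P.isPGroup'.exists_card_eq
  have hn1 : 1 ≤ n := by
    by_contra h
    rw [show n = 0 by omega, pow_zero] at hn
    have := Finite.one_lt_card_iff_nontrivial.mpr hPnt
    omega
  have hG : Nat.card G = r ^ n * s := by
    rw [← hn, ← hQcard]
    have hdisj := IsPGroup.disjoint_of_ne r s hrs _ _ P.isPGroup' Q.isPGroup'
    refine Nat.dvd_antisymm ?_ (Nat.Coprime.mul_dvd_of_dvd_of_dvd ?_
      (Subgroup.card_subgroup_dvd_card _) (Subgroup.card_subgroup_dvd_card _))
    · rw [Nat.dvd_iff_prime_pow_dvd_dvd]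
      intro t k ht hk
      rcases Nat.eq_zero_or_pos k with rfl | hk0
      · simp
      haveI := Fact.mk ht
      obtain ⟨g, hg⟩ := exists_prime_orderOf_dvd_card' t ((dvd_pow_self t hk0.ne').trans hk)
      rcases hord g with e | e | e
      · exact absurd (hg.symm.trans e) ht.ne_one
      · obtain rfl : t = r := hg.symm.trans e
        exact (P.pow_dvd_card_of_pow_dvd_card hk).trans (dvd_mul_right _ _)
      · obtain rfl : t = s := hg.symm.trans e
        exact (Q.pow_dvd_card_of_pow_dvd_card hk).trans (dvd_mul_left _ _)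
    · rw [hn, hQcard]
      exact ((Nat.coprime_primes hr.out hs.out).mpr hrs).pow_left n
  refine ⟨n, hn1, hG, fun P' => ?_, ?_, hfpf⟩
  · haveI := Sylow.unique_of_normal P hPn
    rw [Subsingleton.elim P' P]
    exact ⟨hPn, inferInstance, hexp⟩
  -- linear algebra on `P`
  obtain ⟨x, hxo⟩ := exists_prime_orderOf_dvd_card' (G := G) s hsG
  have hc : (P : Subgroup G).IsComplement' (Subgroup.zpowers x) := by
    refine Subgroup.isComplement'_of_coprime ?_ ?_
    · rw [hn, Nat.card_zpowers, hxo, hG]
    · rw [hn, Nat.card_zpowers, hxo]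
      exact ((Nat.coprime_primes hr.out hs.out).mpr hrs).pow_left n
  haveI : Module (ZMod r) (Additive (P : Subgroup G)) := AddCommGroup.zmodModule fun v => by
    apply Additive.toMul.injective
    apply Subtype.ext
    exact hexp _ (Additive.toMul v).2
  set T := conjLin r (P : Subgroup G) x with hT
  have hTq : T ^ s = 1 := by
    rw [hT, ← map_pow, ← hxo, pow_orderOf_eq_one, map_one]
  have hT1 : T ≠ 1 := by
    intro e
    refine hfpf x b hxo hbo ?_
    rw [← conjLin_apply (p := r) (P := (P : Subgroup G)) x ⟨b, hbP⟩, ← hT, e]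
    rfl
  -- an automorphism of `G` restricted to `P`
  have hrestrict : ∀ (α : MulAut G) (i : ℕ) (a : G), a ∈ (P : Subgroup G) → α x = a * x ^ i →
      ∃ A : Additive (P : Subgroup G) ≃ₗ[ZMod r] Additive (P : Subgroup G),
        (∀ c : (P : Subgroup G), ((Additive.toMul (A (Additive.ofMul c)) : (P : Subgroup G)) : G) = α c) ∧
        A.conjAlgEquiv (ZMod r) T = T ^ i := by
    intro α i a ha hα
    have hmap : (P : Subgroup G).map α.toMonoidHom = P := Subgroup.characteristic_iff_map_eq.mp hPc α
    let β : (P : Subgroup G) ≃* (P : Subgroup G) :=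
      (α.subgroupMap (P : Subgroup G)).trans (MulEquiv.subgroupCongr hmap)
    have hβ : ∀ c : (P : Subgroup G), ((β c : (P : Subgroup G)) : G) = α c := fun c => rfl
    let B : Additive (P : Subgroup G) →ₗ[ZMod r] Additive (P : Subgroup G) :=
      AddMonoidHom.toZModLinearMap r (MulEquiv.toAdditive β).toAddMonoidHom
    let A : Additive (P : Subgroup G) ≃ₗ[ZMod r] Additive (P : Subgroup G) :=
      LinearEquiv.ofBijective B (MulEquiv.toAdditive β).bijective
    refine ⟨A, fun c => hβ c, ?_⟩
    have key : ∀ v, A (T v) = (T ^ i) (A v) := by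
      intro v
      have hTi : T ^ i = conjLin r (P : Subgroup G) (α x) := by
        rw [hα, map_mul, map_pow, conjLin_mem a ha, one_mul, hT]
      rw [hTi]
      apply Additive.toMul.injective
      apply Subtype.ext
      show α (x * ((Additive.toMul v : (P : Subgroup G)) : G) * x⁻¹) = α x * α _ * (α x)⁻¹
      rw [map_mul, map_mul, map_inv]
    ext v
    rw [LinearEquiv.conjAlgEquiv_apply_apply, key, LinearEquiv.apply_symm_apply]
  refine orderOf_eq_of_transitive hrs T hTq hT1 ?_ ?_
  · intro v w hv hw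
    have ho : ∀ v : Additive (P : Subgroup G), v ≠ 0 →
        orderOf ((Additive.toMul v : (P : Subgroup G)) : G) = r := fun v hv =>
      orderOf_eq_prime (hexp _ (Additive.toMul v).2) fun e => hv (Additive.toMul.injective (Subtype.ext e))
    obtain ⟨α, hα⟩ := hone _ _ ((ho w hw).trans (ho v hv).symm)
    obtain ⟨⟨⟨a, ha⟩, ⟨y, hy⟩⟩, hay⟩ := hc.2 (α x)
    obtain ⟨i, hi⟩ := (mem_zpowers_iff_mem_range_orderOf.mp hy) |> Finset.mem_image.mp
    obtain ⟨A, hA, hAT⟩ := hrestrict α i a ha (by rw [hi.2]; exact hay.symm)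
    exact ⟨A, Additive.toMul.injective (Subtype.ext ((hA _).trans hα)), i, hAT⟩
  · intro i hi
    have hxi : orderOf (x ^ i) = s := by
      rw [orderOf_pow, hxo, Nat.Coprime.gcd_eq_one (hs.out.coprime_iff_not_dvd.mpr hi), Nat.div_one]
    obtain ⟨α, hα⟩ := hone (x ^ i) x (hxi.trans hxo.symm)
    obtain ⟨A, -, hAT⟩ := hrestrict α i 1 (one_mem _) (by rw [one_mul]; exact hα)
    exact ⟨A, hAT⟩

/-- Backward direction. -/
lemma backward {p q n : ℕ} [hp : Fact p.Prime] [hq : Fact q.Prime] (hpq : p ≠ q) (hn : 1 ≤ n)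
    (hG : Nat.card G = p ^ n * q)
    (hP : ∀ P : Sylow p G, (P : Subgroup G).Normal ∧ Cfsg.IsElementaryAbelian p (P : Subgroup G))
    (hprim : orderOf (p : ZMod q) = q - 1)
    (hfpf : ∀ x y : G, orderOf x = q → orderOf y = p → x * y * x⁻¹ ≠ y) :
    Nat.card (MulAction.orbitRel.Quotient (MulAut G) G) = 3 := by
  classical
  obtain ⟨P⟩ := (inferInstance : Nonempty (Sylow p G))
  obtain ⟨hPn, hPc, hexp⟩ := hP P
  have hcop : (p ^ n).Coprime q := ((Nat.coprime_primes hp.out hq.out).mpr hpq).pow_left n
  have hPcard : Nat.card (P : Subgroup G) = p ^ n := by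
    rw [P.card_eq_multiplicity, hG, Nat.factorization_mul (pow_ne_zero _ hp.out.ne_zero) hq.out.ne_zero,
      Finsupp.add_apply, hp.out.factorization_pow, hq.out.factorization, Finsupp.single_eq_same,
      Finsupp.single_eq_of_ne (by exact fun h => hpq h), add_zero]
  obtain ⟨x, hxo⟩ := exists_prime_orderOf_dvd_card' (G := G) q (hG ▸ dvd_mul_left q _)
  have hc : (P : Subgroup G).IsComplement' (Subgroup.zpowers x) := by
    refine Subgroup.isComplement'_of_coprime ?_ ?_
    · rw [hPcard, Nat.card_zpowers, hxo, hG]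
    · rw [hPcard, Nat.card_zpowers, hxo]; exact hcop
  haveI : IsMulCommutative (P : Subgroup G) := hPc
  haveI : Module (ZMod p) (Additive (P : Subgroup G)) := AddCommGroup.zmodModule fun v => by
    apply Additive.toMul.injective
    apply Subtype.ext
    exact hexp _ (Additive.toMul v).2
  set T := conjLin p (P : Subgroup G) x with hT
  have hTq : T ^ q = 1 := by rw [hT, ← map_pow, ← hxo, pow_orderOf_eq_one, map_one]
  have hfix : ∀ i : ℕ, ¬ q ∣ i → orderOf (x ^ i) = q := fun i hi => by
    rw [orderOf_pow, hxo, Nat.Coprime.gcd_eq_one (hq.out.coprime_iff_not_dvd.mpr hi), Nat.div_one]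
  obtain ⟨htrans, hgal⟩ := exists_semilinear hpq hprim T hTq (fun i hi v hv => by
    by_contra hv0
    refine hfpf (x ^ i) _ (hfix i hi) (orderOf_eq_prime (hexp _ (Additive.toMul v).2)
      fun e => hv0 (Additive.toMul.injective (Subtype.ext e))) ?_
    rw [← conjLin_apply (p := p) (P := (P : Subgroup G)) (x ^ i) (Additive.toMul v), map_pow, ← hT]
    exact congrArg (fun w => ((Additive.toMul w : (P : Subgroup G)) : G)) hv)
  -- extension of a semilinear map to an automorphism
  have hext : ∀ (i : ℕ), ¬ q ∣ i → ∀ A : Additive (P : Subgroup G) ≃+ Additive (P : Subgroup G),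
      (∀ v, A (T v) = (T ^ i) (A v)) → ∃ α : MulAut G, α x = x ^ i ∧
        ∀ c : (P : Subgroup G), α c = ((Additive.toMul (A (Additive.ofMul c)) : (P : Subgroup G)) : G) := by
    intro i hi A hA
    set X := Subgroup.zpowers x with hX
    let fn : (P : Subgroup G) ≃* (P : Subgroup G) :=
      { toFun := fun c => Additive.toMul (A (Additive.ofMul c))
        invFun := fun c => Additive.toMul (A.symm (Additive.ofMul c))
        left_inv := fun c => by simp
        right_inv := fun c => by simp
        map_mul' := fun c d => by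
          show Additive.toMul (A (Additive.ofMul c + Additive.ofMul d)) = _
          rw [map_add]; rfl }
    have hcopX : (Nat.card X).Coprime i := by
      rw [hX, Nat.card_zpowers, hxo]; exact hq.out.coprime_iff_not_dvd.mpr hi
    let fg : X ≃* X :=
      { powCoprime hcopX with
        map_mul' := fun a c => (Commute.mul_pow (Std.Commutative.comm a c) i) }
    let e := SemidirectProduct.mulEquivSubgroup hc
    have hcompat : ∀ g : X, (((P : Subgroup G).normalizerMonoidHom).comp
          (Subgroup.inclusion ((P : Subgroup G).normalizer_eq_top ▸ le_top)) g).trans fn =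
        fn.trans (((P : Subgroup G).normalizerMonoidHom).comp
          (Subgroup.inclusion ((P : Subgroup G).normalizer_eq_top ▸ le_top)) (fg g)) := by
      rintro ⟨g, hg⟩
      obtain ⟨k, hk⟩ := (mem_zpowers_iff_mem_range_orderOf.mp hg) |> Finset.mem_image.mp
      obtain rfl := hk.2
      have hAk : ∀ (k : ℕ) v, A ((T ^ k) v) = ((T ^ i) ^ k) (A v) := by
        intro k
        induction k with
        | zero => intro v; rfl
        | succ k ih =>
          intro v
          rw [pow_succ, pow_succ]
          show A ((T ^ k) (T v)) = ((T ^ i) ^ k) ((T ^ i) (A v))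
          rw [ih, hA]
      apply MulEquiv.ext
      intro c
      have h1 := hAk k (Additive.ofMul c)
      rw [← pow_mul, mul_comm i k, pow_mul] at h1
      rw [hT, ← map_pow, ← map_pow] at h1
      apply Subtype.ext
      refine Eq.trans ?_ ((congrArg (fun w => ((Additive.toMul w : (P : Subgroup G)) : G)) h1).trans ?_) <;> rfl
    let α : MulAut G := e.symm.trans ((SemidirectProduct.congr fn fg hcompat).trans e)
    have heinl : ∀ c, e (SemidirectProduct.inl c) = (c : G) := fun c => by
      show ((c : G)) * ((1 : X) : G) = c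
      exact mul_one _
    have heinr : ∀ g : X, e (SemidirectProduct.inr g) = (g : G) := fun g => by
      show ((1 : (P : Subgroup G)) : G) * g = g
      exact one_mul _
    refine ⟨α, ?_, fun c => ?_⟩
    · show e (SemidirectProduct.congr fn fg hcompat (e.symm x)) = _
      rw [show e.symm x = SemidirectProduct.inr (⟨x, Subgroup.mem_zpowers x⟩ : X) from
        e.symm_apply_eq.mpr (heinr ⟨x, Subgroup.mem_zpowers x⟩).symm]
      show ((fn 1 : (P : Subgroup G)) : G) * ((fg ⟨x, _⟩ : X) : G) = _
      rw [map_one]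
      exact one_mul _
    · show e (SemidirectProduct.congr fn fg hcompat (e.symm c)) = _
      rw [show e.symm (c : G) = SemidirectProduct.inl c from e.symm_apply_eq.mpr (heinl c).symm]
      show ((fn c : (P : Subgroup G)) : G) * ((fg 1 : X) : G) = _
      rw [map_one]
      exact mul_one _
  -- element orders
  have hord : ∀ g : G, orderOf g = 1 ∨ orderOf g = p ∨ orderOf g = q := by
    intro g
    have hd : orderOf g ∣ p * q := by
      by_cases hgP : g ∈ (P : Subgroup G)
      · exact (orderOf_dvd_of_pow_eq_one (hexp g hgP)).trans (dvd_mul_right p q)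
      · have hgq : g ^ q ∈ (P : Subgroup G) := by
          have := (P : Subgroup G).pow_index_mem g
          rwa [hc.symm.index_eq_card, Nat.card_zpowers, hxo] at this
        apply orderOf_dvd_of_pow_eq_one
        rw [mul_comm, pow_mul]
        exact hexp _ hgq
    obtain ⟨a, b, ha, hb, hab⟩ := exists_dvd_and_dvd_of_dvd_mul hd
    rcases (Nat.dvd_prime hp.out).mp ha with ea | ea <;> rcases (Nat.dvd_prime hq.out).mp hb with eb | eb <;>
      subst ea eb
    · left; simpa using hab
    · right; right; simpa using hab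
    · right; left; simpa using hab
    · exfalso
      refine hfpf (g ^ a) (g ^ b) ?_ ?_ ?_
      · rw [orderOf_pow, hab, Nat.gcd_eq_right (dvd_mul_right a b), Nat.mul_div_cancel_left _ hp.out.pos]
      · rw [orderOf_pow, hab, Nat.gcd_eq_right (dvd_mul_left b a), Nat.mul_div_cancel _ hq.out.pos]
      · rw [← pow_add, add_comm, pow_add, mul_inv_cancel_right]
  have hmemP : ∀ y : G, orderOf y = p → y ∈ (P : Subgroup G) := by
    intro y hy
    have hgp : IsPGroup p (Subgroup.zpowers y) := IsPGroup.of_card (n := 1) (by rw [Nat.card_zpowers, hy, pow_one])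
    obtain ⟨R, hR⟩ := hgp.exists_le_sylow
    haveI := Sylow.unique_of_normal P hPn
    rw [← Subsingleton.elim R P]
    exact hR (Subgroup.mem_zpowers y)
  have hq_orbit : ∀ y : G, orderOf y = q → y ∈ MulAction.orbit (MulAut G) x := by
    intro y hy
    have hQ : ∀ z : G, orderOf z = q → ∃ R : Sylow q G, (R : Subgroup G) = Subgroup.zpowers z := by
      intro z hz
      have h1 : IsPGroup q (Subgroup.zpowers z) := IsPGroup.of_card (n := 1) (by rw [Nat.card_zpowers, hz, pow_one])
      refine ⟨h1.toSylow ?_, rfl⟩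
      have := (Subgroup.zpowers z).card_mul_index
      rw [Nat.card_zpowers, hz, hG, mul_comm (p ^ n)] at this
      rw [Nat.eq_of_mul_eq_mul_left hq.out.pos this]
      exact hq.out.coprime_iff_not_dvd.mp hcop.symm
    obtain ⟨R, hR⟩ := hQ y hy
    obtain ⟨S, hS⟩ := hQ x hxo
    obtain ⟨c, hcS⟩ := MulAction.exists_smul_eq G R S
    have hmem : c * y * c⁻¹ ∈ Subgroup.zpowers x := by
      rw [← hS, ← hcS]
      refine ⟨y, ?_, rfl⟩
      show y ∈ (R : Subgroup G)
      rw [hR]; exact Subgroup.mem_zpowers y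
    obtain ⟨i, hi⟩ := (mem_zpowers_iff_mem_range_orderOf.mp hmem) |> Finset.mem_image.mp
    have hiq : ¬ q ∣ i := by
      intro hdv
      obtain ⟨m, rfl⟩ := hdv
      have h1 : c * y * c⁻¹ = 1 := by rw [← hi.2, pow_mul, ← hxo, pow_orderOf_eq_one, one_pow]
      exact hq.out.ne_one (by rw [← hy, conj_eq_one_iff.mp h1, orderOf_one])
    obtain ⟨A, hA⟩ := hgal i hiq
    obtain ⟨α, hα, -⟩ := hext i hiq A hA
    refine ⟨(MulAut.conj c)⁻¹ * α, ?_⟩
    show (MulAut.conj c)⁻¹ (α x) = y
    rw [hα, hi.2, MulAut.conj_inv_apply]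
    group
  rw [card_orbits_eq ({1, p, q} : Finset ℕ)]
  · rw [Finset.card_insert_of_notMem (by simp [hp.out.ne_one.symm, hq.out.ne_one.symm]),
      Finset.card_pair hpq]
  · intro g
    rcases hord g with h | h | h <;> simp [h]
  · intro m hm
    simp only [Finset.mem_insert, Finset.mem_singleton] at hm
    rcases hm with rfl | rfl | rfl
    · exact ⟨1, orderOf_one⟩
    · exact exists_prime_orderOf_dvd_card' m (hG ▸ (dvd_pow_self m (by omega)).trans (dvd_mul_right _ _))
    · exact ⟨x, hxo⟩
  · intro g h e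
    rcases hord h with hh | hh | hh
    · rw [orderOf_eq_one_iff.mp hh, orderOf_eq_one_iff.mp (e.trans hh)]
      exact MulAction.mem_orbit_self _
    · have hg := e.trans hh
      have hne : ∀ (w : G) (hw : orderOf w = p), Additive.ofMul (⟨w, hmemP w hw⟩ : (P : Subgroup G)) ≠ 0 := by
        intro w hw e'
        exact hp.out.ne_one (by rw [← hw, orderOf_eq_one_iff]; exact congrArg Subtype.val (Additive.ofMul.injective e' :))
      obtain ⟨A, hA, hAT⟩ := htrans _ _ (hne h hh) (hne g hg)
      have h1 : ¬ q ∣ 1 := fun hd => hq.out.ne_one (Nat.dvd_one.mp hd)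
      obtain ⟨α, -, hα⟩ := hext 1 h1 A (fun v => by rw [pow_one]; exact hAT v)
      refine ⟨α, ?_⟩
      show α h = g
      rw [show h = ((⟨h, hmemP h hh⟩ : (P : Subgroup G)) : G) from rfl, hα, hA]
      rfl
    · exact MulAction.orbit_eq_iff.mpr (hq_orbit h hh) ▸ hq_orbit g (e.trans hh)

/-- Let G be a finite group whose order is not a prime power. Then the automorphism group of G has exactly three orbits on G if and only if there are distinct primes p, q with #G = pⁿ·q (n ≥ 1) such that G has a normal elementary abelian Sylow p-subgroup P, p is a primitive root modulo q (the multiplicative order of p mod q is q − 1), and every element of order q of G acts on P without non-identity fixed points. -/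
theorem result {G : Type*} [Group G] [Finite G] (hnpp : ¬ IsPrimePow (Nat.card G)) (hnt : Nat.card G ≠ 1) :
    Nat.card (MulAction.orbitRel.Quotient (MulAut G) G) = 3 ↔
    ∃ (p q n : ℕ) (_ : Fact p.Prime) (_ : Fact q.Prime), p ≠ q ∧ 1 ≤ n ∧ Nat.card G = p ^ n * q ∧
      (∀ P : Sylow p G, (P : Subgroup G).Normal ∧ Cfsg.IsElementaryAbelian p (P : Subgroup G)) ∧
      orderOf (p : ZMod q) = q - 1 ∧
      ∀ x y : G, orderOf x = q → orderOf y = p → x * y * x⁻¹ ≠ y := by
  constructor
  · intro h3
    classical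
    have hG0 : Nat.card G ≠ 0 := Nat.card_pos.ne'
    set r := (Nat.card G).minFac with hrdef
    haveI hr : Fact r.Prime := ⟨Nat.minFac_prime hnt⟩
    have hrG : r ∣ Nat.card G := Nat.minFac_dvd _
    obtain ⟨s, hs, hsG, hrs⟩ : ∃ s : ℕ, s.Prime ∧ s ∣ Nat.card G ∧ r ≠ s := by
      by_contra h
      push Not at h
      have he := Nat.eq_prime_pow_of_unique_prime_dvd hG0 (p := r) fun {d} hd hdG => (h d hd hdG).symm
      refine hnpp ((isPrimePow_nat_iff _).mpr ⟨r, _, hr.out, ?_, he.symm⟩)
      by_contra hz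
      rw [Nat.eq_zero_of_not_pos hz, pow_zero] at he
      exact hnt he
    haveI := Fact.mk hs
    obtain ⟨a, ha⟩ := exists_prime_orderOf_dvd_card' (G := G) r hrG
    obtain ⟨b, hb⟩ := exists_prime_orderOf_dvd_card' (G := G) s hsG
    let f : Fin 3 → MulAction.orbitRel.Quotient (MulAut G) G :=
      ![Quotient.mk'' 1, Quotient.mk'' a, Quotient.mk'' b]
    have hord' : ∀ g h : G, (Quotient.mk'' g : MulAction.orbitRel.Quotient (MulAut G) G) = Quotient.mk'' h →
        orderOf g = orderOf h := fun g h e =>
      orderOf_eq_of_orbit (MulAction.orbitRel_apply.mp (Quotient.exact' e))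
    have hinj : Function.Injective f := by
      intro i j hij
      fin_cases i <;> fin_cases j <;> first
        | rfl
        | (exfalso; have := hord' _ _ hij; simp only [orderOf_one, ha, hb] at this; have := hr.out.one_lt; have := hs.one_lt; omega)
    have hsurj : Function.Surjective f := by
      haveI : Fintype (MulAction.orbitRel.Quotient (MulAut G) G) := Fintype.ofFinite _
      exact ((Fintype.bijective_iff_injective_and_card f).mpr ⟨hinj, by
        rw [Fintype.card_fin, ← Nat.card_eq_fintype_card, h3]⟩).2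
    have horb : ∀ g : G, g ∈ MulAction.orbit (MulAut G) (1 : G) ∨ g ∈ MulAction.orbit (MulAut G) a ∨
        g ∈ MulAction.orbit (MulAut G) b := by
      intro g
      obtain ⟨i, hi⟩ := hsurj (Quotient.mk'' g)
      fin_cases i <;> have := MulAction.orbitRel_apply.mp (Quotient.exact' hi.symm)
      · exact Or.inl this
      · exact Or.inr (Or.inl this)
      · exact Or.inr (Or.inr this)
    have hord : ∀ g : G, orderOf g = 1 ∨ orderOf g = r ∨ orderOf g = s := fun g => by
      rcases horb g with h | h | h <;> have := orderOf_eq_of_orbit h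
      · exact Or.inl (this.trans orderOf_one)
      · exact Or.inr (Or.inl (this.trans ha))
      · exact Or.inr (Or.inr (this.trans hb))
    have hone : ∀ g h : G, orderOf g = orderOf h → g ∈ MulAction.orbit (MulAut G) h := by
      intro g h e
      have := hr.out.one_lt
      have := hs.one_lt
      rcases horb g with hg | hg | hg <;> rcases horb h with hh | hh | hh <;>
        have e1 := orderOf_eq_of_orbit hg <;> have e2 := orderOf_eq_of_orbit hh <;>
        first
          | exact MulAction.orbit_eq_iff.mpr hh ▸ hg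
          | (exfalso; simp only [orderOf_one, ha, hb] at e1 e2; omega)
    -- solvable, so one of the cores is nontrivial
    have hcard : ∃ i j : ℕ, Nat.card G = r ^ i * s ^ j := by
      refine ⟨(Nat.card G).factorization r, (Nat.card G).factorization s, ?_⟩
      have hset : (Nat.card G).primeFactors = {r, s} := by
        ext t
        simp only [Nat.mem_primeFactors, Finset.mem_insert, Finset.mem_singleton]
        constructor
        · rintro ⟨ht, htG, -⟩
          haveI := Fact.mk ht
          obtain ⟨g, hg⟩ := exists_prime_orderOf_dvd_card' (G := G) t htG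
          rcases hord g with h | h | h
          · exact absurd (hg.symm.trans h) ht.ne_one
          · exact Or.inl (hg.symm.trans h)
          · exact Or.inr (hg.symm.trans h)
        · rintro (rfl | rfl)
          · exact ⟨hr.out, hrG, hG0⟩
          · exact ⟨hs, hsG, hG0⟩
      conv_lhs => rw [← Nat.factorization_prod_pow_eq_self hG0]
      rw [Finsupp.prod, Nat.support_factorization, hset, Finset.prod_pair hrs]
    obtain ⟨i, j, hij⟩ := hcard
    haveI := Cfsg.Agent.Lib.Burnside.isSolvable_of_card_eq_prime_pow_mul hr.out hs hij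
    haveI : Nontrivial G := Finite.one_lt_card_iff_nontrivial.mp (by
      have := Nat.card_pos (α := G); omega)
    obtain ⟨N, hN, hN1, -, hmin⟩ := Cfsg.Agent.Lib.MinimalNormal.exists_minimal_normal_le
      (inferInstance : (⊤ : Subgroup G).Normal) top_ne_bot
    obtain ⟨-, t, ht, hexp⟩ := Cfsg.Agent.Lib.MinimalNormal.elementaryAbelian N hN1 hmin
    haveI := Fact.mk ht
    have htcore : Cfsg.pCore t G ≠ ⊥ := fun e => hN1 (le_bot_iff.mp (e ▸ Cfsg.Agent.Lib.PSolvable.le_pCore
      (fun x => ⟨1, by rw [pow_one]; exact Subtype.ext (hexp _ x.2)⟩)))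
    obtain ⟨⟨u, hu⟩, hu1⟩ := Subgroup.ne_bot_iff_exists_ne_one.mp hN1
    have huo : orderOf u = t := orderOf_eq_prime (hexp u hu) fun e => hu1 (Subtype.ext e)
    rcases hord u with h | h | h
    · exact absurd (huo.symm.trans h) ht.ne_one
    · obtain rfl : t = r := huo.symm.trans h
      obtain ⟨n, h1, h2, h3', h4, h5⟩ := forward hrs hrG hsG hord hone htcore
      exact ⟨r, s, n, hr, ⟨hs⟩, hrs, h1, h2, h3', h4, h5⟩
    · obtain rfl : t = s := huo.symm.trans h
      obtain ⟨n, h1, h2, h3', h4, h5⟩ := forward hrs.symm hsG hrG (fun g => by rcases hord g with e | e | e <;> simp [e]) hone htcore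
      exact ⟨t, r, n, ⟨ht⟩, hr, hrs.symm, h1, h2, h3', h4, h5⟩
  · rintro ⟨p, q, n, _, _, hpq, hn, hG, hP, hprim, hfpf⟩
    exact backward hpq hn hG hP hprim hfpf

end Cfsg.Agent.S4081
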