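import Cfsg.Statements.S4082
import Mathlib
import Cfsg.Agent.Lib.TwoGroup.RestrictedCyclic

set_option autoImplicit false
open Cfsg

namespace Cfsg.Agent.S4082

open Cfsg.Agent.Lib.TwoGroup

/-- An element normalising a `p`-subgroup without centralising it is an inverting involution. -/
theorem inverting_involution {G : Type*} [Group G] [Finite G] {p : ℕ} [Fact p.Prime] (hp : p ≠ 2)
    (hR : ∀ H : Subgroup G, (∀ S : Sylow p ↥H, (S : Subgroup ↥H).Normal) →
        (∀ (S : Sylow p ↥H) [(S : Subgroup ↥H).Normal], IsCyclic (↥H ⧸ (S : Subgroup ↥H))) →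
        IsCyclic H ∨ (∃ n : ℕ, Nonempty (H ≃* DihedralGroup (p ^ n))))
    {Q : Subgroup G} (hQ : IsPGroup p Q) {x : G} (hxN : x ∈ Subgroup.normalizer (Q : Set G))
    (hxC : x ∉ Subgroup.centralizer (Q : Set G)) :
    orderOf x = 2 ∧ ∀ q ∈ Q, x * q * x⁻¹ = q⁻¹ := by
  set H := Q ⊔ Subgroup.zpowers x with hH
  have hQH : Q ≤ H := le_sup_left
  have hxH : x ∈ H := Subgroup.mem_sup_right (Subgroup.mem_zpowers x)
  haveI hQn : (Q.subgroupOf H).Normal :=
    Subgroup.normal_subgroupOf_of_le_normalizer (sup_le Subgroup.le_normalizer (Subgroup.zpowers_le.mpr hxN))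
  have hQp : IsPGroup p (Q.subgroupOf H) := IsPGroup.of_equiv hQ (Subgroup.subgroupOfEquivOfLe hQH).symm
  have hgen : ∀ h : H, ∃ k : ℤ, h * ((⟨x, hxH⟩ : H) ^ k)⁻¹ ∈ Q.subgroupOf H := by
    rintro ⟨h, hh⟩
    rw [hH, ← SetLike.mem_coe, Subgroup.coe_mul_of_right_le_normalizer_left Q (Subgroup.zpowers x)
      (Subgroup.zpowers_le.mpr hxN)] at hh
    obtain ⟨q, hq, u, ⟨k, rfl⟩, rfl⟩ := hh
    exact ⟨k, by simpa [Subgroup.mem_subgroupOf] using hq⟩
  haveI hcycQ : IsCyclic (H ⧸ Q.subgroupOf H) := ⟨⟨((⟨x, hxH⟩ : H) : H ⧸ Q.subgroupOf H), fun y => by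
    obtain ⟨h, rfl⟩ := QuotientGroup.mk_surjective y
    obtain ⟨k, hk⟩ := hgen h
    refine ⟨k, ?_⟩
    have h1 := (QuotientGroup.eq_one_iff _).mpr hk
    rw [QuotientGroup.mk_mul, QuotientGroup.mk_inv, mul_inv_eq_one, QuotientGroup.mk_zpow] at h1
    exact h1.symm⟩⟩
  have hQS : ∀ S : Sylow p H, Q.subgroupOf H ≤ (S : Subgroup H) := fun S => hQp.le_sylow_of_normal S
  rcases hR H (fun S => ⟨fun s hs g => by
      have h1 : g * s * g⁻¹ * s⁻¹ ∈ Q.subgroupOf H := by
        obtain ⟨y, hy⟩ := IsCyclic.exists_generator (α := H ⧸ Q.subgroupOf H)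
        obtain ⟨i, hi⟩ := hy (g : H ⧸ Q.subgroupOf H)
        obtain ⟨j, hj⟩ := hy (s : H ⧸ Q.subgroupOf H)
        rw [← QuotientGroup.eq_one_iff, QuotientGroup.mk_mul, QuotientGroup.mk_mul, QuotientGroup.mk_mul,
          QuotientGroup.mk_inv, QuotientGroup.mk_inv, ← hi, ← hj]
        group
      have h2 := mul_mem (hQS S h1) hs
      rwa [inv_mul_cancel_right] at h2⟩)
    (fun S _ => by
      refine ⟨⟨((⟨x, hxH⟩ : H) : H ⧸ (S : Subgroup H)), fun y => ?_⟩⟩
      obtain ⟨h, rfl⟩ := QuotientGroup.mk_surjective y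
      obtain ⟨k, hk⟩ := hgen h
      refine ⟨k, ?_⟩
      have h1 := (QuotientGroup.eq_one_iff _).mpr (hQS S hk)
      rw [QuotientGroup.mk_mul, QuotientGroup.mk_inv, mul_inv_eq_one, QuotientGroup.mk_zpow] at h1
      exact h1.symm) with hc | ⟨n, ⟨e⟩⟩
  · refine absurd (Subgroup.mem_centralizer_iff.mpr fun q hq => ?_) hxC
    letI := IsCyclic.commGroup (α := H)
    exact congrArg Subtype.val (mul_comm (⟨q, hQH hq⟩ : H) ⟨x, hxH⟩)
  · have hrot : ∀ q (hq : q ∈ Q), ∃ i, e ⟨q, hQH hq⟩ = DihedralGroup.r i := by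
      intro q hq
      rcases hf : e ⟨q, hQH hq⟩ with i | i
      · exact ⟨i, rfl⟩
      · exfalso
        have h2 : orderOf q = 2 := by
          rw [← Subgroup.orderOf_mk q (hQH hq), ← MulEquiv.orderOf_eq e, hf, DihedralGroup.orderOf_sr]
        obtain ⟨k, hk⟩ := IsPGroup.iff_orderOf.mp hQ ⟨q, hq⟩
        rw [Subgroup.orderOf_mk, h2] at hk
        have h3 : Odd 2 := hk ▸ ((Fact.out : p.Prime).odd_of_ne_two hp).pow
        norm_num at h3
    obtain ⟨j, hj⟩ : ∃ j, e ⟨x, hxH⟩ = DihedralGroup.sr j := by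
      rcases hf : e ⟨x, hxH⟩ with i | i
      · refine absurd (Subgroup.mem_centralizer_iff.mpr fun q hq => ?_) hxC
        obtain ⟨l, hl⟩ := hrot q hq
        exact congrArg Subtype.val (e.injective (a₁ := ⟨q, hQH hq⟩ * ⟨x, hxH⟩) (a₂ := ⟨x, hxH⟩ * ⟨q, hQH hq⟩)
          (by rw [map_mul, map_mul, hl, hf, DihedralGroup.r_mul_r, DihedralGroup.r_mul_r, add_comm]))
      · exact ⟨i, rfl⟩
    refine ⟨by rw [← Subgroup.orderOf_mk x hxH, ← MulEquiv.orderOf_eq e, hj, DihedralGroup.orderOf_sr],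
      fun q hq => ?_⟩
    obtain ⟨l, hl⟩ := hrot q hq
    exact congrArg Subtype.val (e.injective (a₁ := ⟨x, hxH⟩ * ⟨q, hQH hq⟩ * ⟨x, hxH⟩⁻¹)
      (a₂ := ⟨q, hQH hq⟩⁻¹) (by rw [map_mul, map_mul, map_inv, map_inv, hl, hj]; simp))

/-- Let p be an odd prime and G a finite group with Sylow p-subgroup P. Say that G has restricted p-by-cyclic subgroups when every subgroup H of G whose Sylow p-subgroup is normal in H with cyclic quotient is itself cyclic or dihedral of order 2pⁿ for some n. Then G has restricted p-by-cyclic subgroups if and only if P is cyclic and one of the following holds: (1) N_G(P) = C_G(P); or (2) N_G(P)/C_G(P) has order 2 and, for the subgroup Q of order p of P, the centralizer C_G(Q) is abelian and every element of N_G(Q) outside C_G(Q) is an involution inverting every element of C_G(Q). -/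
theorem result {G : Type*} [Group G] [Finite G] {p : ℕ}
    [Fact p.Prime] (hp : p ≠ 2) (P : Sylow p G) :
    (∀ H : Subgroup G, (∀ S : Sylow p ↥H, (S : Subgroup ↥H).Normal) →
        (∀ (S : Sylow p ↥H) [(S : Subgroup ↥H).Normal], IsCyclic (↥H ⧸ (S : Subgroup ↥H))) →
        IsCyclic H ∨ (∃ n : ℕ, Nonempty (H ≃* DihedralGroup (p ^ n)))) ↔
    (IsCyclic P ∧
      (Subgroup.normalizer ((P : Subgroup G) : Set G) = Subgroup.centralizer ((P : Subgroup G) : Set G) ∨
       ((Subgroup.centralizer ((P : Subgroup G) : Set G)).relIndex (Subgroup.normalizer ((P : Subgroup G) : Set G)) = 2 ∧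
        ∀ Q : Subgroup G, Q ≤ P → Nat.card Q = p →
          IsMulCommutative ↥(Subgroup.centralizer (Q : Set G)) ∧
          ∀ x : G, x ∈ Subgroup.normalizer (Q : Set G) → x ∉ Subgroup.centralizer (Q : Set G) →
            orderOf x = 2 ∧ ∀ c : G, c ∈ Subgroup.centralizer (Q : Set G) → x * c * x⁻¹ = c⁻¹))) := by
  have hpp : p.Prime := Fact.out
  have hodd : Odd p := hpp.odd_of_ne_two hp
  constructor
  · intro hR
    have hcyc : IsCyclic P := by
      rcases hR P (fun S => by
          rw [show (S : Subgroup (P : Subgroup G)) = ⊤ from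
            (S.3 (IsPGroup.of_injective P.2 (⊤ : Subgroup (P : Subgroup G)).subtype Subtype.val_injective) le_top).symm]
          infer_instance)
        (fun S _ => by
          haveI : Subsingleton ((P : Subgroup G) ⧸ (S : Subgroup (P : Subgroup G))) := by
            rw [show (S : Subgroup (P : Subgroup G)) = ⊤ from
              (S.3 (IsPGroup.of_injective P.2 (⊤ : Subgroup (P : Subgroup G)).subtype Subtype.val_injective) le_top).symm]
            exact QuotientGroup.subsingleton_quotient_top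
          infer_instance) with h | ⟨n, ⟨e⟩⟩
      · exact h
      · exfalso
        obtain ⟨k, hk⟩ := IsPGroup.iff_card.mp P.2
        rw [Nat.card_congr e.toEquiv, DihedralGroup.nat_card] at hk
        exact absurd (hk ▸ hodd.pow : Odd (2 * p ^ n)) (by simp)
    refine ⟨hcyc, ?_⟩
    by_cases hNC : Subgroup.normalizer ((P : Subgroup G) : Set G) = Subgroup.centralizer ((P : Subgroup G) : Set G)
    · exact Or.inl hNC
    obtain ⟨x₀, hx₀N, hx₀C⟩ : ∃ x, x ∈ Subgroup.normalizer ((P : Subgroup G) : Set G) ∧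
        x ∉ Subgroup.centralizer ((P : Subgroup G) : Set G) := by
      by_contra h
      push Not at h
      exact hNC (le_antisymm h (Subgroup.centralizer_le_normalizer _))
    obtain ⟨hx₀o, hx₀i⟩ := inverting_involution hp hR P.2 hx₀N hx₀C
    refine Or.inr ⟨?_, fun Q hQP hQ => ?_⟩
    · rw [Subgroup.relIndex, Subgroup.index_eq_two_iff]
      refine ⟨⟨x₀, hx₀N⟩, fun ⟨b, hb⟩ => ?_⟩
      simp only [Subgroup.mem_subgroupOf, Subgroup.coe_mul]
      by_cases hbC : b ∈ Subgroup.centralizer ((P : Subgroup G) : Set G)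
      · exact Or.inr ⟨hbC, fun h => hx₀C (((Subgroup.centralizer _).mul_mem_cancel_left hbC).mp h)⟩
      · refine Or.inl ⟨Subgroup.mem_centralizer_iff.mpr fun q hq => ?_, hbC⟩
        have h1 : b * x₀ * q * (b * x₀)⁻¹ = q := by
          rw [show b * x₀ * q * (b * x₀)⁻¹ = b * (x₀ * q * x₀⁻¹) * b⁻¹ by group, hx₀i q hq,
            (inverting_involution hp hR P.2 hb hbC).2 _ ((P : Subgroup G).inv_mem hq), inv_inv]
        exact (mul_inv_eq_iff_eq_mul.mp h1).symm
    have hQp : IsPGroup p Q := IsPGroup.of_card (n := 1) (by rw [hQ, pow_one])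
    have hQb : Q ≠ ⊥ := fun h => by
      rw [h, Subgroup.card_bot] at hQ; exact hpp.ne_one hQ.symm
    obtain ⟨q₀, hq₀, hq₀1⟩ := (Subgroup.bot_or_exists_ne_one Q).resolve_left hQb
    have hx₀Q : x₀ ∈ Subgroup.normalizer (Q : Set G) :=
      Subgroup.mem_normalizer_iff.mpr fun q => by
        have hx : x₀⁻¹ = x₀ := inv_eq_of_mul_eq_one_right (by rw [← pow_two, ← hx₀o, pow_orderOf_eq_one])
        refine ⟨fun hq => by rw [hx₀i q (hQP hq)]; exact Q.inv_mem hq, fun hq => ?_⟩
        have h1 := hx₀i _ (hQP hq)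
        have h2 : x₀ * (x₀ * q * x₀⁻¹) * x₀⁻¹ = q := by
          nth_rw 1 [← hx]
          nth_rw 3 [← hx]
          group
        rw [h2] at h1
        rw [h1]
        exact Q.inv_mem hq
    have hx₀Qc : x₀ ∉ Subgroup.centralizer (Q : Set G) := by
      intro h
      have h1 := hx₀i q₀ (hQP hq₀)
      rw [← Subgroup.mem_centralizer_iff.mp h q₀ hq₀, mul_inv_cancel_right] at h1
      have h2 : orderOf q₀ ∣ 2 := orderOf_dvd_of_pow_eq_one (by rw [pow_two]; exact eq_inv_iff_mul_eq_one.mp h1)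
      obtain ⟨k, hk⟩ := IsPGroup.iff_orderOf.mp hQp ⟨q₀, hq₀⟩
      rw [Subgroup.orderOf_mk] at hk
      exact hq₀1 (orderOf_eq_one_iff.mp (Nat.eq_one_of_dvd_coprimes
        (((Nat.coprime_primes hpp Nat.prime_two).mpr hp).pow_left k) hk.dvd h2))
    have hinv : ∀ c ∈ Subgroup.centralizer (Q : Set G), x₀ * c * x₀⁻¹ = c⁻¹ := by
      intro c hc
      have hcx : c * x₀ ∉ Subgroup.centralizer (Q : Set G) := fun h =>
        hx₀Qc (((Subgroup.centralizer _).mul_mem_cancel_left hc).mp h)
      have h1 := (inverting_involution hp hR hQp (mul_mem (Subgroup.centralizer_le_normalizer _ hc) hx₀Q) hcx).1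
      have h2 : c * x₀ * (c * x₀) = 1 := by rw [← pow_two, ← h1, pow_orderOf_eq_one]
      have hx : x₀⁻¹ = x₀ := inv_eq_of_mul_eq_one_right (by rw [← pow_two, ← hx₀o, pow_orderOf_eq_one])
      rw [hx]
      exact eq_inv_of_mul_eq_one_right (by rw [← h2]; simp only [mul_assoc])
    have hab : IsMulCommutative ↥(Subgroup.centralizer (Q : Set G)) := ⟨⟨fun a b => Subtype.ext (by
      have h1 : x₀ * ((a : G) * b) * x₀⁻¹ = (x₀ * a * x₀⁻¹) * (x₀ * b * x₀⁻¹) := by group
      rw [hinv _ (mul_mem a.2 b.2), hinv _ a.2, hinv _ b.2, mul_inv_rev] at h1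
      have h2 := congrArg Inv.inv h1
      simp only [mul_inv_rev, inv_inv] at h2
      exact h2)⟩⟩
    refine ⟨hab, fun x hxN hxC => ⟨(inverting_involution hp hR hQp hxN hxC).1, fun c hc => ?_⟩⟩
    have hxc : x * x₀ ∈ Subgroup.centralizer (Q : Set G) := Subgroup.mem_centralizer_iff.mpr fun q hq => by
      have h1 : x * x₀ * q * (x * x₀)⁻¹ = q := by
        rw [show x * x₀ * q * (x * x₀)⁻¹ = x * (x₀ * q * x₀⁻¹) * x⁻¹ by group, hx₀i q (hQP hq),
          (inverting_involution hp hR hQp hxN hxC).2 _ (Q.inv_mem hq), inv_inv]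
      exact (mul_inv_eq_iff_eq_mul.mp h1).symm
    have h3 : x * c * x⁻¹ = (x * x₀) * (x₀⁻¹ * c * x₀) * (x * x₀)⁻¹ := by group
    have h4 : x₀⁻¹ * c * x₀ = c⁻¹ := by
      have hx : x₀⁻¹ = x₀ := inv_eq_of_mul_eq_one_right (by rw [← pow_two, ← hx₀o, pow_orderOf_eq_one])
      have := hinv c hc
      rw [hx] at this ⊢
      exact this
    rw [h3, h4, show x * x₀ * c⁻¹ = c⁻¹ * (x * x₀) from congrArg Subtype.val
      (hab.is_comm.comm ⟨_, hxc⟩ ⟨_, inv_mem hc⟩), mul_inv_cancel_right]
  · rintro ⟨hcyc, hP⟩ H hnormal hquot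
    obtain ⟨S⟩ : Nonempty (Sylow p H) := inferInstance
    haveI := hnormal S
    haveI := hquot S
    have hco : (Nat.card (S : Subgroup H)).Coprime (S : Subgroup H).index := S.card_coprime_index
    obtain ⟨c, hco', hgenc⟩ := exists_coprime_lift (S : Subgroup H) hco
    set S' := (S : Subgroup H).map H.subtype with hS'
    obtain ⟨R, hR⟩ := (IsPGroup.map S.2 H.subtype).exists_le_sylow (p := p)
    obtain ⟨g, hg⟩ := MulAction.exists_smul_eq G R P
    let iota : (S : Subgroup H) →* (P : Subgroup G) :=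
      (Sylow.equiv R P).toMonoidHom.comp ((Subgroup.inclusion hR).comp
        ((Subgroup.equivMapOfInjective _ _ H.subtype_injective).toMonoidHom))
    have hiota : Function.Injective iota :=
      (Sylow.equiv R P).injective.comp ((Subgroup.inclusion_injective hR).comp (MulEquiv.injective _))
    haveI : IsCyclic (S : Subgroup H) := isCyclic_of_injective iota hiota
    obtain ⟨⟨s, hsS⟩, hs⟩ := IsCyclic.exists_generator (α := (S : Subgroup H))
    have hso : orderOf s = Nat.card (S : Subgroup H) :=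
      (Subgroup.orderOf_mk s hsS).symm.trans (orderOf_eq_card_of_forall_mem_zpowers hs)
    by_cases hcs : Commute c s
    · exact Or.inl (isCyclic_of_central_lift (S : Subgroup H) hso hco' hco hcs)
    rcases hP with hP | ⟨-, hP⟩
    · -- a normal `p`-complement forces `c` to centralise
      exfalso
      refine hcs ?_
      set f := MonoidHom.transferSylow P hP.le with hf
      have hker := MonoidHom.not_dvd_card_ker_transferSylow P hP.le
      have hfc : f (c : G) = 1 := by
        obtain ⟨k, hk⟩ := IsPGroup.iff_orderOf.mp P.2 (f (c : G))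
        refine orderOf_eq_one_iff.mp (Nat.eq_one_of_dvd_coprimes ?_ hk.dvd (orderOf_map_dvd f _))
        rw [Subgroup.orderOf_coe, hco']
        exact (((Nat.Prime.coprime_iff_not_dvd hpp).mpr S.not_dvd_index)).pow_left k
      have h1 : c * s * c⁻¹ * s⁻¹ ∈ (S : Subgroup H) :=
        mul_mem ((hnormal S).conj_mem s hsS c) (inv_mem hsS)
      have h2 : ((c * s * c⁻¹ * s⁻¹ : H) : G) ∈ f.ker := by
        rw [MonoidHom.mem_ker]
        push_cast
        simp [hfc]
      obtain ⟨k, hk⟩ := IsPGroup.iff_orderOf.mp S.2 ⟨_, h1⟩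
      rw [Subgroup.orderOf_mk] at hk
      have h4 : orderOf ((c * s * c⁻¹ * s⁻¹ : H) : G) ∣ Nat.card f.ker := by
        rw [← Subgroup.orderOf_mk _ h2]; exact orderOf_dvd_natCard _
      rw [Subgroup.orderOf_coe, hk] at h4
      rcases Nat.eq_zero_or_pos k with rfl | hk0
      · rw [pow_zero, orderOf_eq_one_iff, mul_inv_eq_one, mul_inv_eq_iff_eq_mul] at hk
        exact hk
      · exact absurd ((dvd_pow_self p hk0.ne').trans h4) hker
    · -- `c` inverts `s`
      have hs1 : s ≠ 1 := fun h => hcs (h ▸ Commute.one_right c)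
      obtain ⟨k, hk⟩ := IsPGroup.iff_orderOf.mp S.2 ⟨s, hsS⟩
      rw [Subgroup.orderOf_mk] at hk
      have hk0 : k ≠ 0 := fun h => hs1 (orderOf_eq_one_iff.mp (by rw [hk, h, pow_zero]))
      set q := s ^ p ^ (k - 1) with hq
      have hqo : orderOf q = p := by
        rw [hq, orderOf_pow_of_dvd (pow_ne_zero _ hpp.ne_zero) (hk ▸ pow_dvd_pow p (Nat.sub_le k 1)), hk,
          Nat.pow_div (Nat.sub_le k 1) hpp.pos, show k - (k - 1) = 1 by omega, pow_one]
      set φ : H →* G := (MulAut.conj g).toMonoidHom.comp H.subtype with hφ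
      have hφi : Function.Injective φ := (MulAut.conj g).injective.comp H.subtype_injective
      set Q := Subgroup.zpowers (φ q) with hQ
      have hQP : Q ≤ (P : Subgroup G) := by
        rw [hQ, Subgroup.zpowers_le, ← hg]
        exact ⟨(q : G), hR ⟨q, (S : Subgroup H).pow_mem hsS _, rfl⟩, rfl⟩
      obtain ⟨hab, hout⟩ := hP Q hQP (by rw [hQ, Nat.card_zpowers, orderOf_injective φ hφi, hqo])
      have hsC : φ s ∈ Subgroup.centralizer (Q : Set G) := Subgroup.mem_centralizer_iff.mpr fun l hl => by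
        obtain ⟨i, rfl⟩ := Subgroup.mem_zpowers_iff.mp hl
        exact ((((Commute.pow_self s _).map φ).zpow_left i).eq)
      have hcN : φ c ∈ Subgroup.normalizer (Q : Set G) := by
        have h1 : c * q * c⁻¹ ∈ Subgroup.zpowers q := by
          obtain ⟨i, hi⟩ := mem_powers_iff_mem_zpowers.mpr (hs ⟨c * s * c⁻¹, (hnormal S).conj_mem s hsS c⟩)
          have hi' : s ^ i = c * s * c⁻¹ := by simpa using congrArg Subtype.val hi
          rw [hq, ← conj_pow, ← hi', ← pow_mul, mul_comm, pow_mul]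
          exact Subgroup.pow_mem _ (Subgroup.mem_zpowers _) _
        refine Subgroup.mem_normalizer_iff.mpr fun l => ?_
        have hle : Q.map (MulAut.conj (φ c)).toMonoidHom = Q := by
          refine Subgroup.eq_of_le_of_card_ge ?_ (by rw [Subgroup.card_map_of_injective (MulAut.conj (φ c)).injective])
          rw [hQ, MonoidHom.map_zpowers, Subgroup.zpowers_le]
          obtain ⟨i, hi⟩ := Subgroup.mem_zpowers_iff.mp h1
          refine ⟨i, ?_⟩
          show φ q ^ i = φ c * φ q * (φ c)⁻¹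
          rw [← map_zpow, hi, map_mul, map_mul, map_inv]
        constructor
        · intro hl
          rw [← hle]
          exact ⟨l, hl, rfl⟩
        · intro hl
          obtain ⟨l', hl', he⟩ := hle.symm ▸ hl
          exact (MulAut.conj (φ c)).injective he ▸ hl'
      have hcC : φ c ∉ Subgroup.centralizer (Q : Set G) := fun h =>
        hcs (hφi (by
          rw [map_mul, map_mul]
          exact congrArg Subtype.val (hab.is_comm.comm ⟨_, h⟩ ⟨_, hsC⟩)))
      obtain ⟨hc2, hcinv⟩ := hout _ hcN hcC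
      rw [orderOf_injective φ hφi] at hc2
      have hinv : c * s * c⁻¹ = s⁻¹ := hφi (by
        rw [map_mul, map_mul, map_inv, map_inv]; exact hcinv _ hsC)
      refine Or.inr ⟨k, ?_⟩
      obtain ⟨e⟩ := nonempty_mulEquiv_dihedral hk (by rw [← pow_two, ← hc2, pow_orderOf_eq_one]) hinv
        (fun h => hcs (by obtain ⟨i, rfl⟩ := Subgroup.mem_zpowers_iff.mp h; exact Commute.zpow_self s i))
        (⊤ : Subgroup H) trivial trivial fun h _ => by
        obtain ⟨i, hi⟩ := hgenc h
        obtain ⟨j, hj⟩ := Subgroup.mem_zpowers_iff.mp (hs ⟨_, hi⟩)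
        have hj' : s ^ j = h * (c ^ i)⁻¹ := by simpa using congrArg Subtype.val hj
        have hcc : c * c = 1 := by rw [← pow_two, ← hc2, pow_orderOf_eq_one]
        rcases Nat.even_or_odd i with ⟨l, rfl⟩ | ⟨l, rfl⟩
        · left
          rw [← two_mul, pow_mul, pow_two, hcc, one_pow, inv_one, mul_one] at hj'
          exact ⟨j, hj'⟩
        · right
          rw [pow_succ, pow_mul, pow_two, hcc, one_pow, one_mul] at hj'
          refine ⟨-j, ?_⟩
          show s ^ (-j) = c * h
          rw [show h = s ^ j * c by rw [hj']; group, ← mul_assoc,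
            show c * s ^ j * c = c * s ^ j * c⁻¹ by rw [inv_eq_of_mul_eq_one_right hcc],
            ← conj_zpow, hinv, inv_zpow, zpow_neg]
      exact ⟨Subgroup.topEquiv.symm.trans e⟩

end Cfsg.Agent.S4082
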