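import Cfsg.Statements.S4083
import Mathlib
import Cfsg.Agent.Lib.SL2.Orders2
import Cfsg.Agent.Lib.SL2.SmallId
import Cfsg.Agent.Lib.TwoGroup.RestrictedCyclic

set_option autoImplicit false
open Cfsg

namespace Cfsg.Agent.S4083

open Cfsg.Agent.Lib.TwoGroup

/-- In an abelian group of exponent 2 and order 4 there is no generator. -/
theorem not_isCyclic_of_sq {G : Type*} [Group G] {K : Subgroup G} {H : Subgroup G} (hKH : K ≤ H)
    (h4 : Nat.card K = 4) (h2 : ∀ k ∈ K, k ^ 2 = 1) : ¬ IsCyclic H := by
  intro hH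
  haveI : IsCyclic K := Subgroup.isCyclic_of_le hKH
  obtain ⟨g, hg⟩ := IsCyclic.exists_ofOrder_eq_natCard (α := K)
  have h : orderOf g ∣ 2 := orderOf_dvd_of_pow_eq_one (Subtype.ext (by simpa using h2 g g.2))
  rw [hg, h4] at h
  norm_num at h

/-- The two implications' common core: an odd element normalising a dihedral 2-subgroup. -/
theorem odd_eq_one_or_klein {G : Type*} [Group G] [Finite G]
    (hcond : ∀ K : Subgroup G, Nat.card K = 4 → (∀ k ∈ K, k ^ 2 = 1) →
      Subgroup.centralizer (K : Set G) = K)
    {S : Subgroup G} {a b c : G} {j : ℕ} (hj : orderOf a = 2 ^ (j + 1)) (haS : a ∈ S) (hbS : b ∈ S)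
    (hb : b * b = 1) (hba : b * a * b⁻¹ = a⁻¹) (hnot : b ∉ Subgroup.zpowers a)
    (hS : ∀ g ∈ S, g ∈ Subgroup.zpowers a ∨ b * g ∈ Subgroup.zpowers a)
    (hn : ∀ g ∈ S, c * g * c⁻¹ ∈ S) (hodd : (orderOf c).Coprime 2) :
    c = 1 ∨ (j = 0 ∧ orderOf c = 3 ∧ ∀ g ∈ S, Commute c g → g = 1) := by
  -- the four-group through `b`
  set z := a ^ 2 ^ j with hz
  have hz2 : orderOf z = 2 := by
    rw [hz, orderOf_pow' a (by positivity), hj, pow_succ, Nat.gcd_eq_right (dvd_mul_right _ _),
      Nat.mul_div_cancel_left _ (by positivity)]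
  have hzz : z ^ 2 = 1 := hz2 ▸ pow_orderOf_eq_one z
  have hzinv : z⁻¹ = z := inv_eq_of_mul_eq_one_right (by rw [← pow_two, hzz])
  have hbz : b * z * b⁻¹ = z⁻¹ := by rw [hz, ← conj_pow, hba, inv_pow]
  set K := Subgroup.closure {z, b} with hK
  have hK4 : Nat.card K = 4 := card_closure_dihedral hz2 hb hbz
    fun h => hnot (Subgroup.zpowers_le.mpr (Subgroup.pow_mem _ (Subgroup.mem_zpowers a) _) h)
  have hzb : Commute z b := by
    rw [hzinv, mul_inv_eq_iff_eq_mul] at hbz
    exact hbz.symm
  have hKcomm : ∀ k ∈ K, k ^ 2 = 1 ∧ ∀ w : G, Commute w z → Commute w b → Commute w k := by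
    intro k hk
    induction hk using Subgroup.closure_induction with
    | mem u hu =>
      rcases hu with rfl | rfl
      · exact ⟨hzz, fun w h _ => h⟩
      · exact ⟨by rw [pow_two, hb], fun w _ h => h⟩
    | one => exact ⟨one_pow 2, fun w _ _ => Commute.one_right w⟩
    | mul u v _ _ hu hv =>
      have huv : Commute u v := hv.2 u (hu.2 z (Commute.refl z) hzb).symm (hu.2 b hzb.symm (Commute.refl b)).symm
      exact ⟨by rw [huv.mul_pow, hu.1, hv.1, mul_one], fun w h h' => (hu.2 w h h').mul_right (hv.2 w h h')⟩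
    | inv u _ hu => exact ⟨by rw [inv_pow, hu.1, inv_one], fun w h h' => (hu.2 w h h').inv_right⟩
  have hcent : ∀ w : G, Commute w z → Commute w b → w ^ 2 = 1 := fun w h h' => by
    refine (hKcomm w ?_).1
    rw [← hcond K hK4 fun k hk => (hKcomm k hk).1, Subgroup.mem_centralizer_iff]
    exact fun k hk => ((hKcomm k hk).2 w h h').eq.symm
  have hkill : ∀ w : G, (orderOf w).Coprime 2 → Commute w a → Commute w b → w = 1 := fun w ho h h' =>
    orderOf_eq_one_iff.mp (Nat.eq_one_of_dvd_coprimes ho dvd_rfl
      (orderOf_dvd_of_pow_eq_one (hcent w (h.pow_right _) h')))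
  rcases Nat.eq_zero_or_pos j with rfl | hjpos
  · -- `S` is a four-group
    have hza : z = a := by rw [hz, pow_zero, pow_one]
    rw [hza] at hzb hzinv
    have haa : a * a = 1 := by rw [← pow_two, ← hza, hzz]
    have hS4 : ∀ g ∈ S, g = 1 ∨ g = a ∨ g = b ∨ g = a * b := by
      have hpow : ∀ g ∈ Subgroup.zpowers a, g = 1 ∨ g = a := by
        intro g hg
        obtain ⟨k, rfl⟩ := mem_powers_iff_mem_zpowers.mpr hg
        rcases Nat.even_or_odd k with ⟨l, rfl⟩ | ⟨l, rfl⟩
        · left; simp [← two_mul, pow_mul, pow_two, haa]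
        · right; simp [pow_succ, pow_mul, pow_two, haa]
      intro g hg
      rcases hS g hg with h | h
      · rcases hpow _ h with rfl | rfl <;> simp
      · have hg' : g = b * (b * g) := by rw [← mul_assoc, hb, one_mul]
        rcases hpow _ h with h | h <;> rw [h] at hg'
        · exact Or.inr (Or.inr (Or.inl (by rw [hg', mul_one])))
        · exact Or.inr (Or.inr (Or.inr (by rw [hg', hzb.eq])))
    have ha1 : a ≠ 1 := fun h => by rw [h, orderOf_one] at hj; norm_num at hj
    have hb1 : b ≠ 1 := fun h => hnot (h ▸ Subgroup.one_mem _)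
    have hab : a ≠ b := fun h => hnot (h ▸ Subgroup.mem_zpowers a)
    have hhalf : ∀ w : G, Commute (c ^ 2) w → Commute c w := fun w h => by
      obtain ⟨l, hl⟩ := exists_pow_eq_self_of_coprime hodd.symm
      exact hl ▸ h.pow_left l
    by_cases hfix : ∀ g ∈ S, Commute c g → g = 1
    · -- `c` permutes the three involutions cyclically
      have hnc : ¬ Commute c a := fun h => ha1 (hfix a haS h)
      obtain ⟨u, hu⟩ : ∃ u, c * a * c⁻¹ = u := ⟨_, rfl⟩
      have huS : u ∈ S := hu ▸ hn a haS
      have hu' : u = b ∨ u = a * b := by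
        rcases hS4 u huS with h | h | h | h
        · exact absurd (conj_eq_one_iff.mp (hu.trans h)) ha1
        · exact absurd (mul_inv_eq_iff_eq_mul.mp (hu.trans h)) hnc
        · exact Or.inl h
        · exact Or.inr h
      have hau : Commute a u := by
        rcases hu' with h | h <;> rw [h]
        · exact hzb
        · exact (Commute.refl a).mul_right hzb
      have hb' : b = u ∨ b = a * u := by
        rcases hu' with h | h
        · exact Or.inl h.symm
        · exact Or.inr (by rw [h, ← mul_assoc, haa, one_mul])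
      obtain ⟨w, hw⟩ : ∃ w, c * u * c⁻¹ = w := ⟨_, rfl⟩
      have huu : u * u = 1 := by rw [← hu, conj_mul, haa, mul_one, mul_inv_cancel]
      have hu1 : u ≠ 1 := fun h => ha1 (conj_eq_one_iff.mp (hu.trans h))
      have hw' : w = a * u := by
        have h4 : w = 1 ∨ w = a ∨ w = u ∨ w = a * u := by
          rcases hS4 w (hw ▸ hn u huS) with h | h | h | h
          · exact Or.inl h
          · exact Or.inr (Or.inl h)
          · rcases hb' with e | e <;> rw [e] at h
            · exact Or.inr (Or.inr (Or.inl h))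
            · exact Or.inr (Or.inr (Or.inr h))
          · rcases hb' with e | e <;> rw [e] at h
            · exact Or.inr (Or.inr (Or.inr h))
            · exact Or.inr (Or.inr (Or.inl (by rw [h, ← mul_assoc, haa, one_mul])))
        rcases h4 with h | h | h | h
        · exact absurd (conj_eq_one_iff.mp (hw.trans h)) hu1
        · refine absurd (hhalf a (mul_inv_eq_iff_eq_mul.mp ?_)) hnc
          rw [show c ^ 2 * a * (c ^ 2)⁻¹ = c * (c * a * c⁻¹) * c⁻¹ by simp only [pow_succ, pow_zero, one_mul, mul_inv_rev, mul_assoc], hu, hw, h]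
        · exact absurd (hfix u huS (mul_inv_eq_iff_eq_mul.mp (hw.trans h))) hu1
        · exact h
      have hca3 : Commute (c ^ 3) a := by
        refine mul_inv_eq_iff_eq_mul.mp ?_
        rw [show c ^ 3 * a * (c ^ 3)⁻¹ = c * (c * (c * a * c⁻¹) * c⁻¹) * c⁻¹ by
            simp only [pow_succ, pow_zero, one_mul, mul_inv_rev, mul_assoc], hu, hw, hw',
          show c * (a * u) * c⁻¹ = (c * a * c⁻¹) * (c * u * c⁻¹) by group, hu, hw, hw',
          ← mul_assoc, hau.symm.eq, mul_assoc, huu, mul_one]
      have hcu3 : Commute (c ^ 3) u := by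
        rw [← hu]
        exact ((Commute.pow_self c 3).mul_right hca3).mul_right (Commute.pow_self c 3).inv_right
      have hcb3 : Commute (c ^ 3) b := by
        rcases hb' with h | h <;> rw [h]
        · exact hcu3
        · exact hca3.mul_right hcu3
      have hc3 : c ^ 3 = 1 := hkill _ (Nat.Coprime.coprime_dvd_left (orderOf_pow_dvd 3) hodd) hca3 hcb3
      rcases (Nat.dvd_prime Nat.prime_three).mp (orderOf_dvd_of_pow_eq_one hc3) with h | h
      · exact Or.inl (orderOf_eq_one_iff.mp h)
      · exact Or.inr ⟨rfl, h, hfix⟩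
    · -- a fixed involution: `c` centralises
      push Not at hfix
      obtain ⟨s, hs, hcs, hs1⟩ := hfix
      left
      obtain ⟨q, hqS, hq1, hqs, hq⟩ : ∃ q ∈ S, q ≠ 1 ∧ q ≠ s ∧ ∀ g ∈ S, g = 1 ∨ g = s ∨ g = q ∨ g = s * q := by
        rcases hS4 s hs with rfl | rfl | rfl | rfl
        · exact absurd rfl hs1
        · exact ⟨b, hbS, hb1, hab.symm, hS4⟩
        · refine ⟨a, haS, ha1, hab, fun g hg => ?_⟩
          rcases hS4 g hg with h | h | h | h <;> simp [h, hzb.eq]
        · refine ⟨a, haS, ha1, fun h => hb1 (mul_eq_left.mp h.symm), fun g hg => ?_⟩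
          rcases hS4 g hg with h | h | h | h
          · exact Or.inl h
          · exact Or.inr (Or.inr (Or.inl h))
          · exact Or.inr (Or.inr (Or.inr (by rw [h, mul_assoc, ← hzb.eq, ← mul_assoc, haa, one_mul])))
          · exact Or.inr (Or.inl h)
      have hcs' : c * s * c⁻¹ = s := by rw [hcs.eq, mul_inv_cancel_right]
      have hss : s * s = 1 := by
        rcases hS4 s hs with rfl | rfl | rfl | rfl
        · simp
        · exact haa
        · exact hb
        · rw [← pow_two, hzb.mul_pow, pow_two, pow_two, haa, hb, mul_one]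
      have hcq : Commute c q := by
        rcases hq _ (hn q hqS) with h | h | h | h
        · exact absurd (conj_eq_one_iff.mp h) hq1
        · exact absurd (mul_left_cancel (mul_right_cancel (h.trans hcs'.symm))) hqs
        · exact mul_inv_eq_iff_eq_mul.mp h
        · refine hhalf q (mul_inv_eq_iff_eq_mul.mp ?_)
          rw [show c ^ 2 * q * (c ^ 2)⁻¹ = c * (c * q * c⁻¹) * c⁻¹ by simp only [pow_succ, pow_zero, one_mul, mul_inv_rev, mul_assoc], h,
            show c * (s * q) * c⁻¹ = (c * s * c⁻¹) * (c * q * c⁻¹) by group, hcs', h, ← mul_assoc, hss, one_mul]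
      have hall : ∀ t ∈ S, Commute c t := by
        intro t ht
        rcases hq t ht with h | h | h | h <;> rw [h]
        · exact Commute.one_right c
        · exact hcs
        · exact hcq
        · exact hcs.mul_right hcq
      exact hkill c hodd (hall a haS) (hall b hbS)
  · -- `S` has order at least 8: `⟨a⟩` is invariant
    left
    have hbig : ∀ g ∈ S, g * g ≠ 1 → g ∈ Subgroup.zpowers a := by
      intro g hg hg2
      refine (hS g hg).resolve_right fun h => hg2 ?_
      obtain ⟨k, hk⟩ := Subgroup.mem_zpowers_iff.mp h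
      have hg' : g = b * a ^ k := by rw [hk, ← mul_assoc, hb, one_mul]
      have h1 : b * a ^ k * b⁻¹ = (a ^ k)⁻¹ := by rw [← conj_zpow, hba, inv_zpow]
      rw [hg', show b * a ^ k * (b * a ^ k) = (b * a ^ k * b⁻¹) * ((b * b) * a ^ k) by group, h1, hb, one_mul,
        inv_mul_cancel]
    have hca : Commute c a := by
      refine commute_of_conj_mem_zpowers (hbig _ (hn a haS) fun h => ?_) ?_
      · have h' : a ^ 2 = 1 := by
          rw [pow_two]; rw [show c * a * c⁻¹ * (c * a * c⁻¹) = c * (a * a) * c⁻¹ by group] at h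
          exact conj_eq_one_iff.mp h
        have hd := orderOf_dvd_of_pow_eq_one h'
        rw [hj] at hd
        have := Nat.le_of_dvd two_pos hd
        have : 2 ^ 2 ≤ 2 ^ (j + 1) := Nat.pow_le_pow_right two_pos (by omega)
        omega
      · rw [hj, Nat.totient_prime_pow_succ Nat.prime_two, show 2 - 1 = 1 from rfl, mul_one]
        exact hodd.pow_right _
    have hcb : Commute c b := by
      refine commute_of_conj_eq_mul_zpowers hca ?_ (hj ▸ hodd.pow_right _)
      have hbinv : b⁻¹ = b := inv_eq_of_mul_eq_one_right hb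
      rw [hbinv]
      refine (hS _ (hn b hbS)).resolve_left fun h => hnot ?_
      obtain ⟨k, hk⟩ := Subgroup.mem_zpowers_iff.mp h
      refine ⟨k, ?_⟩
      have h2 : c⁻¹ * a ^ k * c = b := by rw [hk]; group
      rw [← h2, mul_assoc, ← (hca.zpow_right k).eq, inv_mul_cancel_left]
    exact hkill c hodd hca hcb

/-- The alternating group of degree four is not commutative. -/
theorem alt_four_not_comm : ∃ a b : alternatingGroup (Fin 4), a * b ≠ b * a := by decide +kernel

/-- Let G be a finite group with Sylow 2-subgroup P. Every subgroup H of G whose Sylow 2-subgroup is normal in H with cyclic quotient is cyclic, dihedral of 2-power order, or isomorphic to the alternating group of degree 4, if and only if either P is cyclic, or P is dihedral (of order at least 4) and every elementary abelian subgroup K of order 4 of P satisfies C_G(K) = K. -/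
theorem result {G : Type*} [Group G] [Finite G] (P : Sylow 2 G) :
    (∀ H : Subgroup G, (∀ S : Sylow 2 ↥H, (S : Subgroup ↥H).Normal) →
        (∀ (S : Sylow 2 ↥H) [(S : Subgroup ↥H).Normal], IsCyclic (↥H ⧸ (S : Subgroup ↥H))) →
        IsCyclic H ∨ (∃ n : ℕ, Nonempty (H ≃* DihedralGroup (2 ^ n))) ∨ Nonempty (H ≃* alternatingGroup (Fin 4))) ↔
    (IsCyclic P ∨
      ((∃ n : ℕ, 1 ≤ n ∧ Nonempty ((P : Subgroup G) ≃* DihedralGroup (2 ^ n))) ∧
        ∀ K : Subgroup G, K ≤ P → Nat.card K = 4 → (∀ k ∈ K, k ^ 2 = 1) → Subgroup.centralizer (K : Set G) = K)) := by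
  have hcard2 : ∀ n : ℕ, Nat.card (DihedralGroup (2 ^ n)) = 2 ^ (n + 1) := fun n => by
    rw [DihedralGroup.nat_card, pow_succ, mul_comm]
  constructor
  · intro hR
    have hP := hR P (fun S => by
      rw [show (S : Subgroup (P : Subgroup G)) = ⊤ from
        (S.3 (IsPGroup.of_injective P.2 (⊤ : Subgroup (P : Subgroup G)).subtype Subtype.val_injective) le_top).symm]
      infer_instance)
      (fun S _ => by
        haveI : Subsingleton ((P : Subgroup G) ⧸ (S : Subgroup (P : Subgroup G))) := by
          rw [show (S : Subgroup (P : Subgroup G)) = ⊤ from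
            (S.3 (IsPGroup.of_injective P.2 (⊤ : Subgroup (P : Subgroup G)).subtype Subtype.val_injective) le_top).symm]
          exact QuotientGroup.subsingleton_quotient_top
        infer_instance)
    by_cases hc : IsCyclic P
    · exact Or.inl hc
    refine Or.inr ⟨?_, ?_⟩
    · rcases hP.resolve_left hc with ⟨n, ⟨e⟩⟩ | ⟨⟨e⟩⟩
      · refine ⟨n, Nat.one_le_iff_ne_zero.mpr fun h => hc ?_, ⟨e⟩⟩
        subst h
        haveI : Fact (Nat.Prime 2) := ⟨Nat.prime_two⟩
        exact isCyclic_of_prime_card (p := 2) (by rw [Nat.card_congr e.toEquiv, hcard2, zero_add, pow_one])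
      · exfalso
        obtain ⟨k, hk⟩ := IsPGroup.iff_card.mp P.2
        rw [Nat.card_congr e.toEquiv, Lib.SL2.natCard_A4] at hk
        have h3 : 3 ∣ 2 := Nat.prime_three.dvd_of_dvd_pow (hk ▸ (by norm_num : 3 ∣ 12))
        norm_num at h3
    intro K hKP h4 h2
    have hKc : ∀ u ∈ K, ∀ v ∈ K, u * v = v * u := fun u hu v hv => by
      have hsq : ∀ w ∈ K, w⁻¹ = w := fun w hw => inv_eq_of_mul_eq_one_right (by rw [← pow_two, h2 w hw])
      rw [← hsq _ (K.mul_mem hu hv), mul_inv_rev, hsq u hu, hsq v hv]
    refine le_antisymm (fun x hx => ?_) fun k hk => Subgroup.mem_centralizer_iff.mpr fun l hl => hKc l hl k hk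
    -- the subgroup generated by `K` and `x`
    set H := Subgroup.closure ((K : Set G) ∪ {x}) with hH
    have hHc : ∀ u ∈ H, ∀ v ∈ H, u * v = v * u := by
      intro u hu v hv
      have h1 : H ≤ Subgroup.centralizer ((K : Set G) ∪ {x}) := by
        rw [hH, Subgroup.closure_le]
        intro w hw
        refine Subgroup.mem_centralizer_iff.mpr ?_
        rintro l (hl | rfl) <;> rcases hw with hw | rfl
        · exact hKc l hl w hw
        · exact Subgroup.mem_centralizer_iff.mp hx l hl
        · exact (Subgroup.mem_centralizer_iff.mp hx w hw).symm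
        · rfl
      have h2' : H ≤ Subgroup.centralizer (H : Set G) := by
        conv_rhs => rw [hH, Subgroup.centralizer_closure]
        exact h1
      exact (Subgroup.mem_centralizer_iff.mp (h2' hu) v hv).symm
    letI : CommGroup H := { (inferInstance : Group H) with mul_comm := fun u v => Subtype.ext (hHc u u.2 v v.2) }
    have hKH : K ≤ H := fun k hk => Subgroup.subset_closure (Or.inl hk)
    have hxH : x ∈ H := Subgroup.subset_closure (Or.inr rfl)
    have hK2 : IsPGroup 2 (K.subgroupOf H) := fun k => ⟨1, Subtype.ext (Subtype.ext (by simpa using h2 _ k.2))⟩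
    rcases hR H (fun S => inferInstance) (fun S _ => by
        refine ⟨⟨((⟨x, hxH⟩ : H) : H ⧸ (S : Subgroup H)), fun q => ?_⟩⟩
        obtain ⟨⟨g, hg⟩, rfl⟩ := QuotientGroup.mk_surjective q
        obtain ⟨Q, hQ⟩ := hK2.exists_le_sylow
        have hS : K.subgroupOf H ≤ (S : Subgroup H) := hK2.le_sylow_of_normal S
        show _ ∈ Subgroup.zpowers _
        induction hg using Subgroup.closure_induction with
        | mem w hw =>
          rcases hw with hw | rfl
          · refine ⟨0, ?_⟩
            show ((⟨x, hxH⟩ : H) : H ⧸ (S : Subgroup H)) ^ (0 : ℤ) = _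
            rw [zpow_zero, eq_comm, QuotientGroup.eq_one_iff]
            exact hS hw
          · exact Subgroup.mem_zpowers _
        | one => exact ⟨0, by show (((⟨x, hxH⟩ : H) : H ⧸ (S : Subgroup H)) ^ (0 : ℤ)) = _; rw [zpow_zero]; rfl⟩
        | mul u v hu hv iu iv => exact mul_mem iu iv
        | inv u hu iu => exact inv_mem iu) with hc | ⟨n, ⟨e⟩⟩ | ⟨⟨e⟩⟩
    · exact absurd hc (not_isCyclic_of_sq hKH h4 h2)
    · have hn : n ≤ 1 := by
        by_contra hn
        have h := congrArg e (mul_comm (e.symm (DihedralGroup.r 1)) (e.symm (DihedralGroup.sr 0)))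
        simp only [map_mul, MulEquiv.apply_symm_apply, DihedralGroup.r_mul_sr, DihedralGroup.sr_mul_r,
          DihedralGroup.sr.injEq, zero_sub, zero_add] at h
        have h' : ((2 : ℕ) : ZMod (2 ^ n)) = 0 := by
          push_cast
          first | linear_combination h | linear_combination -h
        rw [ZMod.natCast_eq_zero_iff] at h'
        have := Nat.le_of_dvd two_pos h'
        have : 2 ^ 2 ≤ 2 ^ n := Nat.pow_le_pow_right two_pos (by omega)
        omega
      have hle : Nat.card H ≤ Nat.card K := by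
        rw [h4, Nat.card_congr e.toEquiv, hcard2]
        exact (Nat.pow_le_pow_right two_pos (by omega : n + 1 ≤ 2))
      rw [Subgroup.eq_of_le_of_card_ge hKH hle]
      exact hxH
    · exfalso
      obtain ⟨u, v, huv⟩ := alt_four_not_comm
      exact huv (by simpa using congrArg e (mul_comm (e.symm u) (e.symm v)))
  · intro hP H hnormal hquot
    obtain ⟨S⟩ : Nonempty (Sylow 2 H) := inferInstance
    haveI := hnormal S
    haveI := hquot S
    have hco : (Nat.card (S : Subgroup H)).Coprime (S : Subgroup H).index := S.card_coprime_index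
    obtain ⟨c, hco', hgenc⟩ := exists_coprime_lift (S : Subgroup H) hco
    have hodd : (orderOf c).Coprime 2 :=
      hco' ▸ ((Nat.prime_two.coprime_iff_not_dvd).mpr S.not_dvd_index).symm
    -- `S` embeds in `P`
    set S' := (S : Subgroup H).map H.subtype with hS'
    have hS'p : IsPGroup 2 S' := IsPGroup.map S.2 _
    obtain ⟨Q, hQ⟩ := hS'p.exists_le_sylow
    let iota : (S : Subgroup H) →* (P : Subgroup G) :=
      (Sylow.equiv Q P).toMonoidHom.comp ((Subgroup.inclusion hQ).comp
        ((Subgroup.equivMapOfInjective _ _ H.subtype_injective).toMonoidHom))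
    have hiota : Function.Injective iota :=
      (Sylow.equiv Q P).injective.comp ((Subgroup.inclusion_injective hQ).comp (MulEquiv.injective _))
    by_cases hcyc : IsCyclic (S : Subgroup H)
    · left
      obtain ⟨s, hs⟩ := IsCyclic.exists_generator (α := (S : Subgroup H))
      have hso : orderOf (s : H) = Nat.card (S : Subgroup H) :=
        (Subgroup.orderOf_coe s).trans (orderOf_eq_card_of_forall_mem_zpowers hs)
      refine isCyclic_of_central_lift (S : Subgroup H) hso hco' hco ?_
      refine commute_of_conj_mem_zpowers ?_ ?_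
      · obtain ⟨k, hk⟩ := hs ⟨c * s * c⁻¹, (hnormal S).conj_mem _ s.2 c⟩
        exact ⟨k, by simpa using congrArg Subtype.val hk⟩
      · obtain ⟨i, hi⟩ := IsPGroup.iff_orderOf.mp S.2 s
        rw [Subgroup.orderOf_coe, hi]
        rcases Nat.eq_zero_or_pos i with rfl | hi0
        · simp
        · rw [Nat.totient_prime_pow Nat.prime_two hi0, show 2 - 1 = 1 from rfl, mul_one]
          exact hodd.pow_right _
    obtain ⟨⟨n, hn, ⟨e⟩⟩, hK⟩ := hP.resolve_left fun hc => hcyc (isCyclic_of_injective iota hiota)
    have hcond : ∀ K : Subgroup H, Nat.card K = 4 → (∀ k ∈ K, k ^ 2 = 1) →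
        Subgroup.centralizer (K : Set H) = K := by
      intro K h4 h2
      have hKp : IsPGroup 2 (K.map H.subtype) := IsPGroup.of_card (n := 2) (by
        rw [Subgroup.card_map_of_injective H.subtype_injective, h4]; norm_num)
      obtain ⟨R, hR⟩ := hKp.exists_le_sylow
      obtain ⟨g, hg⟩ := MulAction.exists_smul_eq G R P
      set K2 := (K.map H.subtype).map (MulAut.conj g).toMonoidHom with hK2
      have hle : K2 ≤ (P : Subgroup G) := by
        rw [← hg]
        rintro _ ⟨k, hk, rfl⟩
        exact ⟨k, hR hk, rfl⟩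
      have hcK := hK K2 hle (by
        rw [Subgroup.card_map_of_injective (MulAut.conj g).injective,
          Subgroup.card_map_of_injective H.subtype_injective, h4]) (by
        rintro _ ⟨_, ⟨k, hk, rfl⟩, rfl⟩
        rw [← map_pow, ← map_pow, h2 k hk, map_one, map_one])
      refine le_antisymm (fun x hx => ?_) fun k hk => Subgroup.mem_centralizer_iff.mpr fun l hl => ?_
      · have : (MulAut.conj g) (x : G) ∈ K2 := by
          rw [← hcK, Subgroup.mem_centralizer_iff]
          rintro _ ⟨_, ⟨k, hk, rfl⟩, rfl⟩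
          show MulAut.conj g (k : G) * MulAut.conj g (x : G) = MulAut.conj g (x : G) * MulAut.conj g (k : G)
          rw [← map_mul, ← map_mul]
          exact congrArg _ (congrArg Subtype.val (Subgroup.mem_centralizer_iff.mp hx k hk))
        obtain ⟨_, ⟨k, hk, rfl⟩, hkx⟩ := this
        rwa [← Subtype.ext ((MulAut.conj g).injective hkx)]
      · have hsq : ∀ w ∈ K, w⁻¹ = w := fun w hw => inv_eq_of_mul_eq_one_right (by rw [← pow_two, h2 w hw])
        rw [← hsq _ (K.mul_mem hl hk), mul_inv_rev, hsq k hk, hsq l hl]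
    obtain ⟨a, b, haS, hbS, hb, hba, hnot, hall⟩ :=
      (cyclic_or_dihedral_pair (S : Subgroup H) (e.toMonoidHom.comp iota) (e.injective.comp hiota)).resolve_left hcyc
    obtain ⟨i, hi⟩ := IsPGroup.iff_orderOf.mp S.2 ⟨a, haS⟩
    rw [Subgroup.orderOf_mk] at hi
    rcases Nat.eq_zero_or_pos i with rfl | hi0
    · refine absurd ⟨⟨⟨b, hbS⟩, fun g => ?_⟩⟩ hcyc
      rw [pow_zero, orderOf_eq_one_iff] at hi
      have h01 := hall g g.2
      simp only [hi, Subgroup.zpowers_one_eq_bot, Subgroup.mem_bot] at h01
      rcases h01 with h | h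
      · exact ⟨0, Subtype.ext (by simpa using h.symm)⟩
      · refine ⟨-1, Subtype.ext ?_⟩
        simp [eq_inv_of_mul_eq_one_right h]
    obtain ⟨j, rfl⟩ : ∃ j, i = j + 1 := ⟨i - 1, by omega⟩
    rcases odd_eq_one_or_klein hcond hi haS hbS hb hba hnot hall
      (fun g hg => (hnormal S).conj_mem g hg c) hodd with rfl | ⟨rfl, h3, hfix⟩
    · refine Or.inr (Or.inl ⟨j + 1, ?_⟩)
      obtain ⟨e'⟩ := nonempty_mulEquiv_dihedral hi hb hba hnot ⊤ trivial trivial fun g _ => hall g (by
        obtain ⟨k, hk⟩ := hgenc g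
        simpa using hk)
      exact ⟨Subgroup.topEquiv.symm.trans e'⟩
    · refine Or.inr (Or.inr (Lib.SL2.iso_alternating_four h3 ?_ ?_))
      · rw [← h3, ← Nat.card_zpowers, show Subgroup.centralizer ({c} : Set H) = Subgroup.zpowers c from
          le_antisymm (fun g hg => ?_)
            (Subgroup.zpowers_le.mpr (Subgroup.mem_centralizer_singleton_iff.mpr rfl))]
        obtain ⟨k, hk⟩ := hgenc g
        have := hfix _ hk ((show Commute c g from (Subgroup.mem_centralizer_singleton_iff.mp hg).symm).mul_right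
          ((Commute.self_pow c k).inv_right))
        rw [mul_inv_eq_one] at this
        exact this ▸ Subgroup.pow_mem _ (Subgroup.mem_zpowers c) k
      · rw [← Subgroup.card_mul_index (S : Subgroup H), ← hco', h3]
        obtain ⟨eS⟩ := nonempty_mulEquiv_dihedral hi hb hba hnot (S : Subgroup H) haS hbS hall
        rw [Nat.card_congr eS.toEquiv, hcard2]
        norm_num

end Cfsg.Agent.S4083
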