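import Cfsg.Statements.S4084
import Mathlib

set_option autoImplicit false
open Cfsg

namespace Cfsg.Agent.S4084

/-- A maximal set of pairwise commuting elements. -/
def IsMaxCommSet {G : Type*} [Group G] (s : Set G) : Prop :=
  Maximal (fun t : Set G => ∀ x ∈ t, ∀ y ∈ t, Commute x y) s

lemma exists_elem_iff {G : Type*} [Group G] [Finite G] {p q : ℕ} (hp : p.Prime) (hq : q.Prime)
    (hpq : p ≠ q) :
    (∃ g : G, orderOf g = p * q) ↔ ∃ s : Set G, IsMaxCommSet s ∧ p * q ∣ Nat.card s := by
  have sub : ∀ s : Set G, IsMaxCommSet s → ∃ S : Subgroup G, (S : Set G) = s := by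
    intro s hs
    refine ⟨Subgroup.closure s, Set.Subset.antisymm ?_ Subgroup.subset_closure⟩
    refine hs.2 ?_ Subgroup.subset_closure
    intro x hx y hy
    have h1 : Subgroup.closure s ≤ Subgroup.centralizer s := by
      rw [Subgroup.closure_le]
      exact fun a ha b hb => (hs.1 b hb a ha).eq
    have h2 : Subgroup.closure s ≤ Subgroup.centralizer (Subgroup.closure s : Set G) := by
      rw [Subgroup.closure_le]
      intro a ha b hb
      exact (h1 hb a ha).symm
    exact (h2 hy x hx)
  constructor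
  · rintro ⟨g, hg⟩
    have hcom : ∀ x ∈ (Subgroup.zpowers g : Set G), ∀ y ∈ (Subgroup.zpowers g : Set G), Commute x y := by
      rintro x ⟨i, rfl⟩ y ⟨j, rfl⟩
      exact ((Commute.refl g).zpow_zpow i j)
    obtain ⟨s, hle, hs⟩ := Set.Finite.exists_le_maximal
      (Set.toFinite {t : Set G | ∀ x ∈ t, ∀ y ∈ t, Commute x y}) hcom
    refine ⟨s, hs, ?_⟩
    obtain ⟨S, rfl⟩ := sub s hs
    have := Subgroup.card_dvd_of_le (show Subgroup.zpowers g ≤ S from hle)
    rw [Nat.card_zpowers, hg] at this
    exact this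
  · rintro ⟨s, hs, hd⟩
    obtain ⟨S, rfl⟩ := sub s hs
    haveI := Fact.mk hp; haveI := Fact.mk hq
    obtain ⟨a, ha⟩ := exists_prime_orderOf_dvd_card' (G := S) p ((dvd_mul_right p q).trans hd)
    obtain ⟨b, hb⟩ := exists_prime_orderOf_dvd_card' (G := S) q ((dvd_mul_left q p).trans hd)
    refine ⟨(a : G) * b, ?_⟩
    rw [(hs.1 a a.2 b b.2).orderOf_mul_eq_mul_orderOf_of_coprime, Subgroup.orderOf_coe,
      Subgroup.orderOf_coe, ha, hb]
    rw [Subgroup.orderOf_coe, Subgroup.orderOf_coe, ha, hb]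
    exact (Nat.coprime_primes hp hq).mpr hpq

lemma isMaxCommSet_image {G H : Type*} [Group G] [Group H] (e : G ≃ H)
    (he : ∀ x y : G, Commute x y ↔ Commute (e x) (e y)) {s : Set G} (hs : IsMaxCommSet s) :
    IsMaxCommSet (e '' s) := by
  refine ⟨?_, ?_⟩
  · rintro _ ⟨x, hx, rfl⟩ _ ⟨y, hy, rfl⟩
    exact (he x y).mp (hs.1 x hx y hy)
  · intro t ht hle
    have h1 : e.symm '' t ⊆ s := by
      refine hs.2 ?_ ?_
      · rintro _ ⟨x, hx, rfl⟩ _ ⟨y, hy, rfl⟩
        rw [he]; simpa using ht x hx y hy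
      · intro x hx
        exact ⟨e x, hle ⟨x, hx, rfl⟩, by simp⟩
    intro y hy
    exact ⟨e.symm y, h1 ⟨y, hy, rfl⟩, by simp⟩

/-- Let G and H be finite groups whose commuting graphs are isomorphic: there is a bijection e : G → H with x, y commuting exactly when e(x), e(y) commute. Then G and H have the same prime graph: for distinct primes p, q, G has an element of order pq if and only if H does (and #G = #H, so the prime divisors agree). -/
theorem result {G H : Type*} [Group G] [Finite G] [Group H] [Finite H] (e : G ≃ H)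
    (he : ∀ x y : G, Commute x y ↔ Commute (e x) (e y))
    {p q : ℕ} (hp : p.Prime) (hq : q.Prime) (hpq : p ≠ q) :
    (∃ g : G, orderOf g = p * q) ↔ (∃ h : H, orderOf h = p * q) := by
  rw [exists_elem_iff hp hq hpq, exists_elem_iff hp hq hpq]
  constructor
  · rintro ⟨s, hs, hd⟩
    exact ⟨e '' s, isMaxCommSet_image e he hs, by rwa [Nat.card_image_of_injective e.injective]⟩
  · rintro ⟨s, hs, hd⟩
    refine ⟨e.symm '' s, isMaxCommSet_image e.symm (fun x y => ?_) hs,
      by rwa [Nat.card_image_of_injective e.symm.injective]⟩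
    rw [he]; simp

end Cfsg.Agent.S4084
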