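import Cfsg.Statements.S4086
import Mathlib

set_option autoImplicit false
open Cfsg

namespace Cfsg.Agent.S4086

lemma pow_gcd_mem {G : Type*} [Group G] (z : G) (i : ℤ) :
    z ^ (Int.gcd i (orderOf z) : ℤ) ∈ Subgroup.zpowers (z ^ i) := by
  refine ⟨Int.gcdA i (orderOf z), ?_⟩
  show (z ^ i) ^ Int.gcdA i (orderOf z) = _
  rw [Int.gcd_eq_gcd_ab i (orderOf z), zpow_add, zpow_mul z i, zpow_mul z (orderOf z : ℤ),
    zpow_natCast z (orderOf z), pow_orderOf_eq_one, one_zpow, mul_one]

lemma comparable {G : Type*} [Group G] [Finite G] (z x y : G)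
    (hz : z = 1 ∨ IsPrimePow (orderOf z))
    (hx : x ∈ Subgroup.zpowers z) (hy : y ∈ Subgroup.zpowers z) :
    x ∈ Subgroup.zpowers y ∨ y ∈ Subgroup.zpowers x := by
  rcases hz with rfl | hz
  · left
    rw [Subgroup.zpowers_one_eq_bot, Subgroup.mem_bot] at hx
    rw [hx]; exact one_mem _
  obtain ⟨p, e, hp, -, he⟩ := (isPrimePow_nat_iff _).mp hz
  obtain ⟨i, rfl⟩ := hx
  obtain ⟨j, rfl⟩ := hy
  show z ^ i ∈ _ ∨ z ^ j ∈ _
  have hi : Int.gcd i (orderOf z) ∣ p ^ e := by rw [he]; exact Int.natCast_dvd_natCast.mp (Int.gcd_dvd_right _ _)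
  have hj : Int.gcd j (orderOf z) ∣ p ^ e := by rw [he]; exact Int.natCast_dvd_natCast.mp (Int.gcd_dvd_right _ _)
  obtain ⟨a, -, ha⟩ := (Nat.dvd_prime_pow hp).mp hi
  obtain ⟨b, -, hb⟩ := (Nat.dvd_prime_pow hp).mp hj
  have key : ∀ i j : ℤ, Int.gcd j (orderOf z) ∣ Int.gcd i (orderOf z) →
      z ^ i ∈ Subgroup.zpowers (z ^ j) := by
    intro i j hd
    obtain ⟨c, hc⟩ := (Int.natCast_dvd_natCast.mpr hd).trans (Int.gcd_dvd_left i (orderOf z))
    have := zpow_mem (pow_gcd_mem z j) c
    rw [← zpow_mul, ← hc] at this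
    exact this
  rcases le_total a b with h | h
  · exact Or.inr (key j i (by rw [ha, hb]; exact pow_dvd_pow p h))
  · exact Or.inl (key i j (by rw [ha, hb]; exact pow_dvd_pow p h))

/-- For a finite group G the following are equivalent: every non-identity element has prime-power order; whenever two elements generate a cyclic subgroup, one of them is a power of the other (the enhanced power graph of G coincides with its power graph). -/
theorem result {G : Type*} [Group G] [Finite G] :
    (∀ g : G, g ≠ 1 → IsPrimePow (orderOf g)) ↔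
    (∀ x y : G, IsCyclic ↥(Subgroup.closure ({x, y} : Set G)) → (x ∈ Subgroup.zpowers y ∨ y ∈ Subgroup.zpowers x)) := by
  constructor
  · intro h x y hc
    obtain ⟨⟨z, hz⟩, hgen⟩ := hc.exists_generator
    have hmem : ∀ w (hw : w ∈ Subgroup.closure ({x, y} : Set G)), w ∈ Subgroup.zpowers z := by
      intro w hw
      obtain ⟨k, hk⟩ := hgen ⟨w, hw⟩
      exact ⟨k, by simpa using congrArg Subtype.val hk⟩
    refine comparable z x y ?_ (hmem x (Subgroup.subset_closure (by simp)))
      (hmem y (Subgroup.subset_closure (by simp)))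
    by_cases h1 : z = 1
    · exact Or.inl h1
    · exact Or.inr (h z h1)
  · intro h g hg
    by_contra hpp
    set n := orderOf g with hn
    have hn0 : n ≠ 0 := (orderOf_pos g).ne'
    have hn1 : n ≠ 1 := fun h1 => hg (orderOf_eq_one_iff.mp (hn ▸ h1))
    have hp := Nat.minFac_prime hn1
    set p := n.minFac with hpdef
    set a := p ^ n.factorization p with ha
    set b := n / a with hb
    have hab : a * b = n := Nat.ordProj_mul_ordCompl_eq_self n p
    have hk : n.factorization p ≠ 0 :=
      (hp.factorization_pos_of_dvd hn0 (Nat.minFac_dvd n)).ne'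
    have ha1 : a ≠ 1 := by
      rw [ha]; simp [pow_eq_one_iff, hp.ne_one, hk]
    have hb1 : b ≠ 1 := by
      intro hb1
      rw [hb1, mul_one] at hab
      exact hpp ((isPrimePow_nat_iff _).mpr ⟨p, _, hp, Nat.pos_of_ne_zero hk, hab⟩)
    have hcop : a.Coprime b := (Nat.coprime_ordCompl hp hn0).pow_left _
    have oa : orderOf (g ^ a) = b := by
      rw [orderOf_pow, ← hn, ← hab, Nat.gcd_eq_right (Dvd.intro _ rfl),
        Nat.mul_div_cancel_left _ (Nat.pos_of_ne_zero (fun h0 => hn0 (by rw [← hab, h0, zero_mul])))]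
    have ob : orderOf (g ^ b) = a := by
      rw [orderOf_pow, ← hn, ← hab, Nat.gcd_eq_right (Dvd.intro_left _ rfl),
        Nat.mul_div_cancel _ (Nat.pos_of_ne_zero (fun h0 => hn0 (by rw [← hab, h0, mul_zero])))]
    have hle : Subgroup.closure ({g ^ a, g ^ b} : Set G) ≤ Subgroup.zpowers g := by
      rw [Subgroup.closure_le]
      rintro w (rfl | rfl) <;> exact Subgroup.npow_mem_zpowers g _
    have hc : IsCyclic ↥(Subgroup.closure ({g ^ a, g ^ b} : Set G)) := Subgroup.isCyclic_of_le hle
    rcases h _ _ hc with h1 | h1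
    · have := orderOf_dvd_of_mem_zpowers h1
      rw [oa, ob] at this
      exact hb1 (Nat.Coprime.eq_one_of_dvd hcop.symm this)
    · have := orderOf_dvd_of_mem_zpowers h1
      rw [oa, ob] at this
      exact ha1 (Nat.Coprime.eq_one_of_dvd hcop this)

end Cfsg.Agent.S4086
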