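import Cfsg.Statements.S4088
import Mathlib
import Cfsg.Agent.Lib.Transfer.Fusion
import Cfsg.Agent.Lib.Subnormalizer.Count

set_option autoImplicit false
open Cfsg

namespace Cfsg.Agent.S4088

open scoped Pointwise

/-- Let G be a finite group, p a prime dividing the order of G, H a p-subgroup of G and P a Sylow p-subgroup of G. Call the subnormalizer of H the set of elements g of G such that H is subnormal in the subgroup generated by H and g. Then the number of elements of the subnormalizer of H equals the number of Sylow p-subgroups of G containing H times the order of N_G(P), and also equals the number of conjugates of H contained in P times the order of N_G(H). -/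
theorem result {G : Type*} [Group G] [Finite G] (p : ℕ) [Fact p.Prime]
    (hp : p ∣ Nat.card G) (H : Subgroup G) (hH : IsPGroup p H) (P : Sylow p G) :
    Nat.card {g : G // ((H).subgroupOf (H ⊔ Subgroup.zpowers g)).IsSubnormal} =
        Nat.card {Q : Sylow p G // H ≤ (Q : Subgroup G)} * Nat.card (Subgroup.normalizer ((P : Subgroup G) : Set G)) ∧
    Nat.card {g : G // ((H).subgroupOf (H ⊔ Subgroup.zpowers g)).IsSubnormal} =
        Nat.card {K : Subgroup G // K ≤ (P : Subgroup G) ∧ ∃ g : G, K = H.map (MulAut.conj g).toMonoidHom} *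
          Nat.card (Subgroup.normalizer (H : Set G)) := by
  classical
  have hcard : Nat.card {g : G // ((H).subgroupOf (H ⊔ Subgroup.zpowers g)).IsSubnormal} =
      Nat.card (Cfsg.Agent.Lib.Subnormalizer.normP p H) :=
    Nat.card_congr (Equiv.subtypeEquivRight fun g =>
      Cfsg.Agent.Lib.Subnormalizer.isSubnormal_iff_mem_normP hH g)
  have h1 := Cfsg.Agent.Lib.Subnormalizer.card_normP H P
  refine ⟨hcard.trans h1, ?_⟩
  rw [hcard, h1]
  set NP := Nat.card (Subgroup.normalizer ((P : Subgroup G) : Set G)) with hNP
  set NH := Nat.card (Subgroup.normalizer (H : Set G)) with hNH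
  set a := Nat.card {Q : Sylow p G // H ≤ (Q : Subgroup G)} with ha
  set b := Nat.card {K : Subgroup G // K ≤ (P : Subgroup G) ∧ ∃ g : G, K = H.map (MulAut.conj g).toMonoidHom} with hb
  set C := {K : Subgroup G // ∃ g : G, K = H.map (MulAut.conj g).toMonoidHom} with hC
  have hCcard : Nat.card C * NH = Nat.card G := by
    have e : Nat.card C = (Subgroup.normalizer (H : Set G)).index := by
      letI : MulAction G (Subgroup G) := MulAction.compHom (Subgroup G) (MulAut.conj : G →* MulAut G)
      have hsm : ∀ g : G, g • H = H.map (MulAut.conj g).toMonoidHom := fun g => rfl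
      have hst : MulAction.stabilizer G H = Subgroup.normalizer (H : Set G) := by
        ext g
        rw [MulAction.mem_stabilizer_iff, hsm]
        exact Cfsg.Agent.Lib.Transfer.map_conj_eq_iff
      rw [← hst, MulAction.index_stabilizer, ← Nat.card_coe_set_eq]
      refine Nat.card_congr (Equiv.subtypeEquivRight fun K => ?_)
      simp only [MulAction.mem_orbit_iff, hsm, eq_comm]
    rw [e, hNH, Subgroup.index_mul_card]
  have hSyl : Nat.card (Sylow p G) * NP = Nat.card G := by
    have e : Nat.card (Sylow p G) = (Subgroup.normalizer ((P : Subgroup G) : Set G)).index := P.card_eq_index_normalizer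
    rw [hNP, e, Subgroup.index_mul_card]
  -- double counting
  have hpairs : Nat.card (Sylow p G) * b = Nat.card C * a := by
    let T := {x : Sylow p G × C // x.2.1 ≤ (x.1 : Subgroup G)}
    haveI : Fintype (Sylow p G) := Fintype.ofFinite _
    haveI : Fintype C := Fintype.ofFinite _
    have e1 : Nat.card T = Nat.card (Sylow p G) * b := by
      rw [Nat.card_congr (Equiv.subtypeProdEquivSigmaSubtype
        (fun (Q : Sylow p G) (K : C) => K.1 ≤ (Q : Subgroup G))), Nat.card_sigma]
      rw [Finset.sum_congr rfl (g := fun _ => b) fun Q _ => ?_, Finset.sum_const, smul_eq_mul,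
        Finset.card_univ, Nat.card_eq_fintype_card]
      obtain ⟨t, rfl⟩ := MulAction.exists_smul_eq G P Q
      let f : Subgroup G ≃ Subgroup G :=
        { toFun := fun K => K.map (MulAut.conj t).toMonoidHom
          invFun := fun K => K.map (MulAut.conj t⁻¹).toMonoidHom
          left_inv := fun K => by
            simp only [Cfsg.Agent.Lib.Transfer.map_conj_map_conj, inv_mul_cancel]
            ext x; simp
          right_inv := fun K => by
            simp only [Cfsg.Agent.Lib.Transfer.map_conj_map_conj, mul_inv_cancel]
            ext x; simp }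
      rw [hb]
      refine (Nat.card_congr ?_).symm.trans (Nat.card_congr (Equiv.refl _))
      refine (Equiv.subtypeEquiv f (q := fun K : Subgroup G => K ≤ ((t • P : Sylow p G) : Subgroup G) ∧
        ∃ g : G, K = H.map (MulAut.conj g).toMonoidHom) fun K => ?_).trans ?_
      · show _ ↔ K.map (MulAut.conj t).toMonoidHom ≤ _ ∧ ∃ g : G, K.map (MulAut.conj t).toMonoidHom = _
        have e : ((t • P : Sylow p G) : Subgroup G) = (P : Subgroup G).map (MulAut.conj t).toMonoidHom := rfl
        rw [e, Subgroup.map_le_map_iff_of_injective (MulAut.conj t).injective]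
        refine and_congr_right fun _ => ⟨?_, ?_⟩
        · rintro ⟨g, rfl⟩
          exact ⟨t * g, Cfsg.Agent.Lib.Transfer.map_conj_map_conj _ _ _⟩
        · rintro ⟨g, hg⟩
          refine ⟨t⁻¹ * g, ?_⟩
          rw [← Cfsg.Agent.Lib.Transfer.map_conj_map_conj, ← hg,
            Cfsg.Agent.Lib.Transfer.map_conj_map_conj, inv_mul_cancel]
          ext x; simp
      · exact (Equiv.subtypeEquivRight fun K => and_comm).trans
          (Equiv.subtypeSubtypeEquivSubtypeInter
            (fun K : Subgroup G => ∃ g : G, K = H.map (MulAut.conj g).toMonoidHom) _).symm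
    have e2 : Nat.card T = Nat.card C * a := by
      let T' := {x : C × Sylow p G // x.1.1 ≤ (x.2 : Subgroup G)}
      have e : Nat.card T = Nat.card T' :=
        Nat.card_congr (Equiv.subtypeEquiv (Equiv.prodComm _ _) fun x => Iff.rfl)
      rw [e, Nat.card_congr (Equiv.subtypeProdEquivSigmaSubtype
        (fun (K : C) (Q : Sylow p G) => K.1 ≤ (Q : Subgroup G))), Nat.card_sigma]
      rw [Finset.sum_congr rfl (g := fun _ => a) fun K _ => ?_, Finset.sum_const, smul_eq_mul,
        Finset.card_univ, Nat.card_eq_fintype_card]
      obtain ⟨K, g, rfl⟩ := K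
      refine (Nat.card_congr (Equiv.subtypeEquiv (MulAction.toPerm g) fun Q => ?_)).symm
      show _ ↔ _ ≤ ((g • Q : Sylow p G) : Subgroup G)
      have e : ((g • Q : Sylow p G) : Subgroup G) = (Q : Subgroup G).map (MulAut.conj g).toMonoidHom := rfl
      rw [e, Subgroup.map_le_map_iff_of_injective (MulAut.conj g).injective]
    exact e1.symm.trans e2
  have hC0 : 0 < Nat.card C := by
    rcases Nat.eq_zero_or_pos (Nat.card C) with h | h
    · rw [h, zero_mul] at hCcard; exact absurd hCcard.symm Nat.card_pos.ne'
    · exact h
  refine Nat.eq_of_mul_eq_mul_left hC0 ?_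
  calc Nat.card C * (a * NP) = (Nat.card C * a) * NP := (mul_assoc _ _ _).symm
    _ = b * (Nat.card (Sylow p G) * NP) := by rw [← hpairs]; ring
    _ = Nat.card C * (b * NH) := by rw [hSyl, ← hCcard]; ring

end Cfsg.Agent.S4088
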