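import Cfsg.Statements.S4090
import Mathlib
import Cfsg.Agent.Lib.Subnormalizer.Quotient

set_option autoImplicit false
open scoped BigOperators
open Cfsg

namespace Cfsg.Agent.S4090

open Cfsg.Agent.Lib.Subnormalizer

universe u

lemma fin_telescope : ∀ (n : ℕ) (f : Fin (n + 1) → ℕ) (a : Fin n → ℕ),
    (∀ i : Fin n, f i.castSucc = a i * f i.succ) → f 0 = (∏ i, a i) * f (Fin.last n) := by
  intro n
  induction n with
  | zero => intro f a _; simp [Fin.last]
  | succ k ih =>
    intro f a h
    have h0 := ih (fun i => f i.succ) (fun i => a i.succ) (fun i => by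
      rw [Fin.succ_castSucc]; exact h i.succ)
    rw [Fin.prod_univ_succ, mul_assoc, ← Fin.succ_last k]
    have h1 := h 0
    rw [Fin.castSucc_zero, h0] at h1
    exact h1

variable {G : Type u} [Group G] [Finite G]

lemma step (p : ℕ) [Fact p.Prime] (H A B : Subgroup G) (hH : IsPGroup p H) [A.Normal] [B.Normal]
    (hAB : A ≤ B) (hfac : (∃ m : ℕ, A.relIndex B = p ^ m) ∨ (A.relIndex B).Coprime p) :
    Nat.card (normP p (H.map (QuotientGroup.mk' A))) =
      (if (A.relIndex B).Coprime p then
        Nat.card {u : G // u ∈ B ∧ ∀ h ∈ H, h * u * h⁻¹ * u⁻¹ ∈ A} / Nat.card A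
        else A.relIndex B) * Nat.card (normP p (H.map (QuotientGroup.mk' B))) := by
  let φ : G ⧸ A →* G ⧸ B := QuotientGroup.map A B (MonoidHom.id G) hAB
  have hφ : Function.Surjective φ := fun q => by
    obtain ⟨g, rfl⟩ := QuotientGroup.mk'_surjective B q
    exact ⟨QuotientGroup.mk' A g, rfl⟩
  have hcomp : (H.map (QuotientGroup.mk' A)).map φ = H.map (QuotientGroup.mk' B) := by
    rw [Subgroup.map_map]; rfl
  have hker : φ.ker = B.map (QuotientGroup.mk' A) := by
    ext q
    obtain ⟨g, rfl⟩ := QuotientGroup.mk'_surjective A q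
    rw [MonoidHom.mem_ker]
    show QuotientGroup.mk' B g = 1 ↔ _
    rw [QuotientGroup.mk'_apply B, QuotientGroup.eq_one_iff]
    constructor
    · exact fun h => Subgroup.mem_map_of_mem _ h
    · rintro ⟨b, hb, hbg⟩
      rw [QuotientGroup.mk'_apply, QuotientGroup.mk'_apply, QuotientGroup.eq] at hbg
      simpa using mul_mem hb (hAB hbg)
  have hcard : Nat.card φ.ker = A.relIndex B := by
    have h1 := card_preimage_surjective (QuotientGroup.mk' A) (QuotientGroup.mk'_surjective A) (φ.ker : Set (G ⧸ A))
    have e : (QuotientGroup.mk' A) ⁻¹' (φ.ker : Set (G ⧸ A)) = (B : Set G) := by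
      ext g
      rw [Set.mem_preimage, SetLike.mem_coe, MonoidHom.mem_ker, SetLike.mem_coe]
      show QuotientGroup.mk' B g = 1 ↔ _
      rw [QuotientGroup.mk'_apply B, QuotientGroup.eq_one_iff]
    rw [e, QuotientGroup.ker_mk', SetLike.coe_sort_coe, SetLike.coe_sort_coe,
      ← Cfsg.Agent.Lib.PSolvable.card_mul_relIndex hAB] at h1
    exact (Nat.eq_of_mul_eq_mul_left Nat.card_pos h1).symm
  split_ifs with hc
  · rw [card_normP_of_coprime φ hφ (hcard.symm ▸ hc) (hH.map _), hcomp]
    congr 1
    set C := φ.ker ⊓ Subgroup.centralizer ((H.map (QuotientGroup.mk' A) : Subgroup (G ⧸ A)) : Set (G ⧸ A)) with hC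
    have h1 := card_preimage_surjective (QuotientGroup.mk' A) (QuotientGroup.mk'_surjective A) (C : Set (G ⧸ A))
    rw [QuotientGroup.ker_mk', SetLike.coe_sort_coe] at h1
    refine (Nat.div_eq_of_eq_mul_right Nat.card_pos ?_).symm
    rw [← h1]
    refine Nat.card_congr (Equiv.subtypeEquivRight fun u => ?_)
    rw [Set.mem_preimage, SetLike.mem_coe, hC, Subgroup.mem_inf, MonoidHom.mem_ker, Subgroup.mem_centralizer_iff]
    refine and_congr ?_ ?_
    · show u ∈ B ↔ QuotientGroup.mk' B u = 1
      rw [QuotientGroup.mk'_apply B, QuotientGroup.eq_one_iff]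
    · have key : ∀ h : G, h * u * h⁻¹ * u⁻¹ ∈ A ↔
          QuotientGroup.mk' A h * QuotientGroup.mk' A u = QuotientGroup.mk' A u * QuotientGroup.mk' A h := by
        intro h
        rw [← QuotientGroup.eq_one_iff, ← QuotientGroup.mk'_apply A, map_mul, map_mul, map_mul, map_inv,
          map_inv, mul_inv_eq_one, mul_inv_eq_iff_eq_mul]
      constructor
      · rintro h _ ⟨h', hh', rfl⟩
        exact (key h').mp (h h' hh')
      · intro h h' hh'
        exact (key h').mpr (h _ ⟨h', hh', rfl⟩)
  · obtain ⟨m, hm⟩ := hfac.resolve_right hc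
    rw [card_normP_of_pGroup φ hφ (IsPGroup.of_card (n := m) (by rw [hcard, hm])), hcomp, hcard]

/-- Let G be a finite p-solvable group, H a p-subgroup of G and P a Sylow p-subgroup, and fix a chain of normal subgroups 1 = M₀ ≤ M₁ ≤ ⋯ ≤ Mₙ = G of G each of whose factors is a p-group or a p'-group. Then the number of elements g of G such that H is subnormal in the subgroup generated by H and g equals the order of P times the product, over the factors Mᵢ₊₁/Mᵢ of order prime to p, of the order of the centralizer of H in Mᵢ₊₁/Mᵢ (counted as the number of u ∈ Mᵢ₊₁ with [h, u] ∈ Mᵢ for all h ∈ H, divided by the order of Mᵢ). -/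
theorem result {G : Type*} [Group G] [Finite G] (p : ℕ) [Fact p.Prime]
    (hG : Cfsg.IsPSolvable p G) (H : Subgroup G) (hH : IsPGroup p H) (P : Sylow p G)
    (n : ℕ) (M : Fin (n + 1) → Subgroup G) (h0 : M 0 = ⊥) (hn : M (Fin.last n) = ⊤) (hmono : Monotone M)
    (hnormal : ∀ i, (M i).Normal)
    (hfac : ∀ i : Fin n, (∃ m : ℕ, (M i.castSucc).relIndex (M i.succ) = p ^ m) ∨ ((M i.castSucc).relIndex (M i.succ)).Coprime p) :
    Nat.card {g : G // ((H).subgroupOf (H ⊔ Subgroup.zpowers g)).IsSubnormal} =
      Nat.card (P : Subgroup G) *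
        ∏ i : Fin n, (if ((M i.castSucc).relIndex (M i.succ)).Coprime p then
          Nat.card {u : G // u ∈ M i.succ ∧ ∀ h ∈ H, h * u * h⁻¹ * u⁻¹ ∈ M i.castSucc} / Nat.card (M i.castSucc)
          else 1) := by
  rw [Nat.card_congr (Equiv.subtypeEquivRight fun g => isSubnormal_iff_mem_normP hH g)]
  let W : Fin (n + 1) → ℕ := fun i => haveI := hnormal i; Nat.card (normP p (H.map (QuotientGroup.mk' (M i))))
  let pp : Fin n → ℕ := fun i => if ((M i.castSucc).relIndex (M i.succ)).Coprime p then 1 else (M i.castSucc).relIndex (M i.succ)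
  let cc : Fin n → ℕ := fun i => if ((M i.castSucc).relIndex (M i.succ)).Coprime p then
    Nat.card {u : G // u ∈ M i.succ ∧ ∀ h ∈ H, h * u * h⁻¹ * u⁻¹ ∈ M i.castSucc} / Nat.card (M i.castSucc)
    else 1
  have hle : ∀ i : Fin n, M i.castSucc ≤ M i.succ := fun i => hmono (Fin.le_def.mpr (by simp))
  have hW := fin_telescope n W (fun i => pp i * cc i) fun i => by
    haveI := hnormal i.castSucc; haveI := hnormal i.succ
    show Nat.card _ = _ * Nat.card _
    rw [step p H _ _ hH (hle i) (hfac i)]
    simp only [pp, cc]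
    split_ifs <;> simp [W]
  have hlast : W (Fin.last n) = 1 := by
    haveI := hnormal (Fin.last n)
    haveI : Subsingleton (G ⧸ M (Fin.last n)) := by rw [hn]; exact QuotientGroup.subsingleton_quotient_top
    show Nat.card (normP p (H.map (QuotientGroup.mk' (M (Fin.last n))))) = 1
    refine Nat.card_eq_one_iff_unique.mpr ⟨inferInstance, ⟨⟨1, ⊥, IsPGroup.of_bot, ?_, one_mem _⟩⟩⟩
    intro x _
    rw [Subgroup.mem_bot]; exact Subsingleton.elim _ _
  have h00 : Nat.card (normP p H) = W 0 := by
    haveI := hnormal 0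
    have := card_normP_of_pGroup (p := p) (QuotientGroup.mk' (M 0)) (QuotientGroup.mk'_surjective _)
      (by rw [QuotientGroup.ker_mk', h0]; exact IsPGroup.of_bot) H
    have e : Nat.card (QuotientGroup.mk' (M 0)).ker = 1 := by rw [QuotientGroup.ker_mk', h0, Subgroup.card_bot]
    rwa [e, one_mul] at this
  have hP : Nat.card (P : Subgroup G) = ∏ i, pp i := by
    have h1 := fin_telescope n (fun i => p ^ ((M i).index).factorization p) pp fun i => by
      show p ^ _ = pp i * p ^ _
      have hr : (M i.castSucc).relIndex (M i.succ) ≠ 0 := Subgroup.index_ne_zero_of_finite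
      rw [← Subgroup.relIndex_mul_index (hle i), Nat.factorization_mul hr Subgroup.index_ne_zero_of_finite,
        Finsupp.add_apply, pow_add]
      congr 1
      simp only [pp]
      split_ifs with hc
      · rw [Nat.factorization_eq_zero_of_not_dvd ((Fact.out : p.Prime).coprime_iff_not_dvd.mp hc.symm), pow_zero]
      · obtain ⟨m, hm⟩ := (hfac i).resolve_right hc
        rw [hm, (Fact.out : p.Prime).factorization_pow, Finsupp.single_eq_same]
    simp only [h0, hn, Subgroup.index_bot, Subgroup.index_top, Nat.factorization_one, Finsupp.coe_zero,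
      Pi.zero_apply, pow_zero, mul_one] at h1
    rw [← h1]
    exact P.card_eq_multiplicity
  show Nat.card (normP p H) = _
  rw [h00, hW, hlast, mul_one, Finset.prod_mul_distrib, ← hP]

end Cfsg.Agent.S4090
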