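import Cfsg.Statements.S4091
import Mathlib
import Cfsg.Agent.Lib.PSolvable.SylowHits

set_option autoImplicit false
open Cfsg

namespace Cfsg.Agent.S4091

open Cfsg.Agent.Lib.PSolvable

/-- The number of `p`-elements is `|G| * ∑_{x ∈ P} 1 / hits P x`. -/
theorem card_pElements {G : Type*} [Group G] [Fintype G] [DecidableEq G] {p : ℕ} [Fact p.Prime]
    (P : Sylow p G) [DecidablePred (· ∈ (P : Subgroup G))]
    [Fintype {g : G // ∃ k : ℕ, orderOf g = p ^ k}] [Fintype (P : Subgroup G)] :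
    (Nat.card {g : G // ∃ k : ℕ, orderOf g = p ^ k} : ℝ) =
      ∑ x : (P : Subgroup G), (Fintype.card G : ℝ) / hits (P : Subgroup G) (x : G) := by
  classical
  set U := {g : G // ∃ k : ℕ, orderOf g = p ^ k}
  -- pairs `(y, g)` with `g y g⁻¹ ∈ P`, weighted by `1 / hits`
  have hrow : ∀ y : U, ∑ g : {g : G // g * y.1 * g⁻¹ ∈ (P : Subgroup G)},
      (1 : ℝ) / hits (P : Subgroup G) (g.1 * y.1 * g.1⁻¹) = 1 := by
    intro y
    simp only [hits_conj]
    rw [Finset.sum_const, Finset.card_univ, ← Nat.card_eq_fintype_card, nsmul_eq_mul]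
    refine mul_one_div_cancel (Nat.cast_ne_zero.mpr ?_)
    obtain ⟨k, hk⟩ := y.2
    have hpy : IsPGroup p (Subgroup.zpowers y.1) := IsPGroup.of_card (n := k) (by rw [Nat.card_zpowers, hk])
    obtain ⟨R, hR⟩ := hpy.exists_le_sylow
    obtain ⟨g, hg⟩ := MulAction.exists_smul_eq G R P
    haveI : Nonempty {g : G // g * y.1 * g⁻¹ ∈ (P : Subgroup G)} :=
      ⟨⟨g, by rw [← hg]; exact ⟨y.1, hR (Subgroup.mem_zpowers _), rfl⟩⟩⟩
    exact Nat.card_pos.ne'
  let e : (Σ y : U, {g : G // g * y.1 * g⁻¹ ∈ (P : Subgroup G)}) ≃ ↥(P : Subgroup G) × G :=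
    { toFun := fun s => (⟨s.2.1 * s.1.1 * s.2.1⁻¹, s.2.2⟩, s.2.1)
      invFun := fun xg => ⟨⟨xg.2⁻¹ * xg.1.1 * xg.2, by
          obtain ⟨k, hk⟩ := IsPGroup.iff_orderOf.mp P.2 xg.1
          refine ⟨k, ?_⟩
          rw [← hk, ← Subgroup.orderOf_coe]
          simpa using orderOf_injective (MulAut.conj xg.2⁻¹).toMonoidHom (MulAut.conj xg.2⁻¹).injective xg.1.1⟩,
        ⟨xg.2, by
          show xg.2 * (xg.2⁻¹ * xg.1.1 * xg.2) * xg.2⁻¹ ∈ (P : Subgroup G)
          simpa [mul_assoc] using xg.1.2⟩⟩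
      left_inv := by
        rintro ⟨⟨y, hy⟩, ⟨g, hg⟩⟩
        exact Sigma.subtype_ext (Subtype.ext (show g⁻¹ * (g * y * g⁻¹) * g = y by group)) rfl
      right_inv := by
        rintro ⟨⟨x, hx⟩, g⟩
        refine Prod.ext (Subtype.ext ?_) rfl
        show g * (g⁻¹ * x * g) * g⁻¹ = x
        group }
  calc (Nat.card U : ℝ)
      = ∑ _y : U, (1 : ℝ) := by simp [Nat.card_eq_fintype_card]
    _ = ∑ y : U, ∑ g : {g : G // g * y.1 * g⁻¹ ∈ (P : Subgroup G)},
          (1 : ℝ) / hits (P : Subgroup G) (g.1 * y.1 * g.1⁻¹) := (Finset.sum_congr rfl fun y _ => hrow y).symm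
    _ = ∑ xg : ↥(P : Subgroup G) × G, (1 : ℝ) / hits (P : Subgroup G) (xg.1 : G) := by
        rw [← Fintype.sum_sigma']
        exact Fintype.sum_equiv e _ _ fun s => rfl
    _ = _ := by
        rw [Fintype.sum_prod_type]
        refine Finset.sum_congr rfl fun x _ => ?_
        simp only [Finset.sum_const, Finset.card_univ, nsmul_eq_mul, mul_one_div]

/-- Let G be a finite p-solvable group, P a Sylow p-subgroup of G, u the number of p-elements of G (elements of p-power order, the identity included) and n the number of Sylow p-subgroups of G. Then u/#P ≥ n^((p−1)/p), stated as u^p ≥ #P^p · n^(p−1). -/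
theorem result {G : Type*} [Group G] [Finite G] (p : ℕ) [Fact p.Prime]
    (hG : Cfsg.IsPSolvable p G) (P : Sylow p G) :
    Nat.card (P : Subgroup G) ^ p * Nat.card (Sylow p G) ^ (p - 1) ≤ Nat.card {g : G // ∃ k : ℕ, orderOf g = p ^ k} ^ p := by
  classical
  haveI : Fintype G := Fintype.ofFinite G
  have hp : p.Prime := Fact.out
  set n := Fintype.card (P : Subgroup G) with hn
  set N := Nat.card (Subgroup.normalizer ((P : Subgroup G) : Set G)) with hN
  set u := Nat.card {g : G // ∃ k : ℕ, orderOf g = p ^ k} with hu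
  have hbound := prod_hits_le (Nat.card G) G rfl hG P
  have hpos : ∀ x : (P : Subgroup G), (0 : ℝ) < hits (P : Subgroup G) (x : G) := fun x => by
    haveI : Nonempty {g : G // g * (x : G) * g⁻¹ ∈ (P : Subgroup G)} := ⟨⟨1, by simp⟩⟩
    exact Nat.cast_pos.mpr Nat.card_pos
  have hn0 : (0 : ℝ) < n := Nat.cast_pos.mpr Fintype.card_pos
  have hG0 : (0 : ℝ) < Fintype.card G := Nat.cast_pos.mpr Fintype.card_pos
  have hN0 : (0 : ℝ) < N := Nat.cast_pos.mpr Nat.card_pos
  set A : ℝ := (u : ℝ) / (n * Fintype.card G) with hA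
  set Pr : ℝ := ∏ x : (P : Subgroup G), (hits (P : Subgroup G) (x : G) : ℝ) with hPr
  -- arithmetic and geometric mean
  have hamgm : 1 ≤ Pr * A ^ n := by
    have h := Real.geom_mean_le_arith_mean Finset.univ (fun _ : (P : Subgroup G) => (1 : ℝ))
      (fun x => (1 : ℝ) / hits (P : Subgroup G) (x : G)) (fun _ _ => zero_le_one)
      (by simpa using (Fintype.card_pos : 0 < Fintype.card (P : Subgroup G)))
      (fun x _ => (one_div_pos.mpr (hpos x)).le)
    simp only [Real.rpow_one, one_mul, Finset.sum_const, Finset.card_univ, nsmul_eq_mul, mul_one] at h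
    have hsum : (∑ x : (P : Subgroup G), (1 : ℝ) / hits (P : Subgroup G) (x : G)) / n = A := by
      rw [hA, hu, card_pElements P]
      simp only [div_eq_mul_inv, one_mul, ← Finset.mul_sum]
      field_simp
    rw [hsum, Finset.prod_div_distrib, Finset.prod_const_one] at h
    have hPr0 : 0 < Pr := Finset.prod_pos fun x _ => hpos x
    have h2 := pow_le_pow_left₀ (Real.rpow_nonneg (one_div_nonneg.mpr hPr0.le) _) h n
    rw [Real.rpow_inv_natCast_pow (one_div_nonneg.mpr hPr0.le) Fintype.card_ne_zero, div_le_iff₀ hPr0] at h2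
    linarith
  have hPrb : Pr ^ p ≤ (Fintype.card G : ℝ) ^ n * (N : ℝ) ^ ((p - 1) * n) := by
    rw [hPr, ← Nat.card_eq_fintype_card (α := G)]
    exact_mod_cast hbound
  have hA0 : 0 ≤ A := div_nonneg (Nat.cast_nonneg _) (mul_pos hn0 hG0).le
  have hone : 1 ≤ ((Fintype.card G : ℝ) * (N : ℝ) ^ (p - 1) * A ^ p) ^ n := by
    calc (1 : ℝ) ≤ (Pr * A ^ n) ^ p := one_le_pow₀ hamgm
      _ = Pr ^ p * (A ^ p) ^ n := by rw [mul_pow, ← pow_mul, ← pow_mul, mul_comm n p]
      _ ≤ (Fintype.card G : ℝ) ^ n * (N : ℝ) ^ ((p - 1) * n) * (A ^ p) ^ n :=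
          mul_le_mul_of_nonneg_right hPrb (pow_nonneg (pow_nonneg hA0 _) _)
      _ = _ := by rw [pow_mul, mul_pow, mul_pow]
  have hone' : (1 : ℝ) ≤ (Fintype.card G : ℝ) * (N : ℝ) ^ (p - 1) * A ^ p := by
    by_contra h
    push Not at h
    exact absurd hone (not_le.mpr (pow_lt_one₀ (by positivity) h Fintype.card_ne_zero))
  have hindex : Nat.card (Sylow p G) * N = Fintype.card G := by
    rw [P.card_eq_index_normalizer, hN, ← Nat.card_eq_fintype_card]
    exact Subgroup.index_mul_card (Subgroup.normalizer ((P : Subgroup G) : Set G))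
  rw [Nat.card_eq_fintype_card (α := (P : Subgroup G)), ← hn]
  have key : ((n : ℝ) ^ p * (Nat.card (Sylow p G) : ℝ) ^ (p - 1)) ≤ (u : ℝ) ^ p := by
    have hS : (Fintype.card G : ℝ) = (Nat.card (Sylow p G) : ℝ) * N := by exact_mod_cast hindex.symm
    rw [hA, div_pow, mul_div_assoc', le_div_iff₀ (pow_pos (mul_pos hn0 hG0) _), one_mul] at hone'
    obtain ⟨p', rfl⟩ : ∃ p', p = p' + 1 := ⟨p - 1, by have := hp.pos; omega⟩
    simp only [Nat.add_sub_cancel] at hone' ⊢
    refine le_of_mul_le_mul_right ?_ (mul_pos hG0 (pow_pos hN0 p'))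
    calc (n : ℝ) ^ (p' + 1) * (Nat.card (Sylow (p' + 1) G) : ℝ) ^ p' * ((Fintype.card G : ℝ) * (N : ℝ) ^ p')
        = ((n : ℝ) * Fintype.card G) ^ (p' + 1) := by rw [hS]; ring
      _ ≤ (Fintype.card G : ℝ) * (N : ℝ) ^ p' * (u : ℝ) ^ (p' + 1) := hone'
      _ = _ := by ring
  exact_mod_cast key

end Cfsg.Agent.S4091
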