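import Cfsg.Statements.S4092
import Mathlib

set_option autoImplicit false
open Cfsg

namespace Cfsg.Agent.S4092

open scoped Pointwise

lemma inf_lt {G : Type*} [Group G] [Finite G] {p : ℕ} {A B : Sylow p G} (h : A ≠ B) :
    (A : Subgroup G) ⊓ B ≠ A := fun he =>
  h (Sylow.ext (A.is_maximal' B.isPGroup' (inf_eq_left.mp he)).symm)

/-- Let G be a finite group, p a prime and P a Sylow p-subgroup of G that is not normal in G. Then G has at least p·#P elements of p-power order (the identity included). -/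
theorem result {G : Type*} [Group G] [Finite G] (p : ℕ) [Fact p.Prime]
    (P : Sylow p G) (hP : ¬ (P : Subgroup G).Normal) :
    p * Nat.card (P : Subgroup G) ≤ Nat.card {g : G // ∃ k : ℕ, orderOf g = p ^ k} := by
  classical
  have hp : p.Prime := Fact.out
  obtain ⟨g₀, hg₀⟩ : ∃ g : G, g • P ≠ P := by
    by_contra h
    push Not at h
    refine hP ⟨fun a ha g => ?_⟩
    exact ((Subgroup.mem_normalizer_iff.mp (Sylow.smul_eq_iff_mem_normalizer.mp (h g))) a).mp ha
  obtain ⟨D, ⟨A, B, hAB, rfl⟩, hmax⟩ := Set.Finite.exists_maximalFor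
    (fun D : Subgroup G => Nat.card D)
    {D : Subgroup G | ∃ A B : Sylow p G, A ≠ B ∧ D = (A : Subgroup G) ⊓ B}
    (Set.toFinite _) ⟨_, g₀ • P, P, hg₀, rfl⟩
  set D : Subgroup G := (A : Subgroup G) ⊓ B with hD
  set L := Subgroup.normalizer (D : Set G) with hL
  have hDA : D < A := lt_of_le_of_ne inf_le_left (inf_lt hAB)
  have hDB : D < B := lt_of_le_of_ne inf_le_right (by rw [hD, inf_comm]; exact inf_lt hAB.symm)
  -- a proper subgroup of a Sylow group is properly contained in its normaliser there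
  have hgrow : ∀ C : Sylow p G, D < C → D < (C : Subgroup G) ⊓ L := by
    intro C hC
    refine lt_of_le_of_ne (le_inf hC.le Subgroup.le_normalizer) fun he => ?_
    haveI : Group.IsNilpotent (C : Subgroup G) := C.isPGroup'.isNilpotent
    have hlt : D.subgroupOf (C : Subgroup G) < ⊤ := by
      rw [lt_top_iff_ne_top, ne_eq, Subgroup.subgroupOf_eq_top]
      exact not_le_of_gt hC
    have := (Group.normalizerCondition_of_isNilpotent (G := (C : Subgroup G))) _ hlt
    obtain ⟨x, hx, hxn⟩ := SetLike.exists_of_lt this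
    apply hxn
    rw [Subgroup.mem_subgroupOf, he]
    refine Subgroup.mem_inf.mpr ⟨x.2, ?_⟩
    rw [hL, Subgroup.mem_normalizer_iff]
    intro y
    constructor
    · intro hy
      exact (Subgroup.mem_normalizer_iff.mp hx ⟨y, hC.le hy⟩).mp hy
    · intro hy
      have hy' : y ∈ (C : Subgroup G) := by
        have := mul_mem (mul_mem (inv_mem x.2) (hC.le hy)) x.2
        simpa [mul_assoc] using this
      exact (Subgroup.mem_normalizer_iff.mp hx ⟨y, hy'⟩).mpr hy
  obtain ⟨A₁, hA₁⟩ := ((A.isPGroup'.to_inf_left (K := L)).comap_of_injective L.subtype L.subtype_injective).exists_le_sylow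
  obtain ⟨B₁, hB₁⟩ := ((B.isPGroup'.to_inf_left (K := L)).comap_of_injective L.subtype L.subtype_injective).exists_le_sylow
  -- Sylow groups of `G` meeting above `D` are equal
  have huniq : ∀ C E : Sylow p G, ∀ X : Subgroup G, X ≤ C → X ≤ E → D < X → C = E := by
    intro C E X h1 h2 h3
    by_contra hne
    have hlt : Nat.card D < Nat.card X := lt_of_le_of_ne (Subgroup.card_le_of_le h3.le)
      fun he => h3.ne (Subgroup.eq_of_le_of_card_ge h3.le he.ge)
    have hle : Nat.card X ≤ Nat.card ((C : Subgroup G) ⊓ E : Subgroup G) :=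
      Subgroup.card_le_of_le (le_inf h1 h2)
    have := hmax (show _ ∈ {D : Subgroup G | ∃ A B : Sylow p G, A ≠ B ∧ D = (A : Subgroup G) ⊓ B}
      from ⟨C, E, hne, rfl⟩) (le_trans hlt.le hle)
    simp only at this
    omega
  have hne₁ : A₁ ≠ B₁ := by
    intro he
    obtain ⟨C, hC⟩ := (A₁.isPGroup'.map L.subtype).exists_le_sylow
    have hin : ∀ X : Subgroup G, (∀ x ∈ X, ∃ h : x ∈ L, (⟨x, h⟩ : L) ∈ (A₁ : Subgroup L)) → X ≤ C := by
      intro X hX x hx
      obtain ⟨h, hm⟩ := hX x hx
      exact hC (Subgroup.mem_map.mpr ⟨⟨x, h⟩, hm, rfl⟩)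
    have hCA : C = A := huniq C A _ (hin ((A : Subgroup G) ⊓ L) fun x hx => ⟨(Subgroup.mem_inf.mp hx).2, hA₁ (show (⟨x, (Subgroup.mem_inf.mp hx).2⟩ : L) ∈ ((A : Subgroup G) ⊓ L).comap L.subtype from hx)⟩) inf_le_left (hgrow A hDA)
    have hCB : C = B := huniq C B _ (hin ((B : Subgroup G) ⊓ L) fun x hx => ⟨(Subgroup.mem_inf.mp hx).2, he ▸ hB₁ (show (⟨x, (Subgroup.mem_inf.mp hx).2⟩ : L) ∈ ((B : Subgroup G) ⊓ L).comap L.subtype from hx)⟩) inf_le_left (hgrow B hDB)
    exact hAB (hCA ▸ hCB)
  have hcardL : p + 1 ≤ Nat.card (Sylow p L) := by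
    have h1 : 1 < Nat.card (Sylow p L) := Finite.one_lt_card_iff_nontrivial.mpr ⟨A₁, B₁, hne₁⟩
    obtain ⟨c, hc⟩ := (Nat.modEq_iff_dvd' h1.le).mp (card_sylow_modEq_one p L).symm
    rcases Nat.eq_zero_or_pos c with hc0 | hc0
    · rw [hc0, mul_zero] at hc; omega
    · have := Nat.le_mul_of_pos_right p hc0; omega
  haveI : Fintype (Sylow p L) := Fintype.ofFinite _
  obtain ⟨s, -, hs⟩ := Finset.exists_subset_card_eq (s := (Finset.univ : Finset (Sylow p L))) (n := p + 1)
    (by rwa [Finset.card_univ, ← Nat.card_eq_fintype_card])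
  choose φ hφ using fun R : Sylow p L => (R.isPGroup'.map L.subtype).exists_le_sylow
  have hmapback : ∀ R : Sylow p L, (φ R : Subgroup G).comap L.subtype = R := fun R =>
    R.is_maximal' ((φ R).isPGroup'.comap_of_injective _ L.subtype_injective)
      (Subgroup.map_le_iff_le_comap.mp (hφ R))
  have hDle : ∀ R : Sylow p L, D ≤ φ R := by
    intro R x hx
    haveI : (D.subgroupOf L).Normal := Subgroup.normal_in_normalizer
    have hDp : IsPGroup p (D.subgroupOf L) :=
      (A.isPGroup'.to_inf_left (K := (B : Subgroup G))).comap_of_injective L.subtype L.subtype_injective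
    have := hDp.le_sylow_of_normal R (show (⟨x, Subgroup.le_normalizer hx⟩ : L) ∈ D.subgroupOf L from hx)
    exact hφ R (Subgroup.mem_map.mpr ⟨_, this, rfl⟩)
  have hinj : Function.Injective φ := fun R R' h => Sylow.ext (by rw [← hmapback R, h, hmapback R'])
  have hinter : ∀ R ∈ s, ∀ R' ∈ s, R ≠ R' → (φ R : Subgroup G) ⊓ φ R' = D := by
    intro R _ R' _ hne
    refine le_antisymm ?_ (le_inf (hDle R) (hDle R'))
    by_contra hnle
    have hlt : D < (φ R : Subgroup G) ⊓ φ R' :=
      lt_of_le_of_ne (le_inf (hDle R) (hDle R')) fun he => hnle (le_of_eq he.symm)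
    exact hne (hinj (huniq _ _ _ inf_le_left inf_le_right hlt))
  -- count
  haveI : Fintype G := Fintype.ofFinite G
  set T : Sylow p L → Finset G := fun R =>
    (Finset.univ.filter fun x => x ∈ (φ R : Subgroup G) ∧ x ∉ D) with hT
  have hdisj : (s : Set (Sylow p L)).PairwiseDisjoint T := by
    intro R hR R' hR' hne
    show Disjoint (T R) (T R')
    rw [Finset.disjoint_left]
    intro x hx hx'
    simp only [hT, Finset.mem_filter] at hx hx'
    exact hx.2.2 ((hinter R hR R' hR' hne).le ⟨hx.2.1, hx'.2.1⟩)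
  have hTcard : ∀ R, (T R).card + Nat.card D = Nat.card (P : Subgroup G) := by
    intro R
    rw [← (φ R).card_eq_multiplicity.trans P.card_eq_multiplicity.symm]
    have e1 : (Finset.univ.filter fun x => x ∈ (φ R : Subgroup G)).card = Nat.card (φ R : Subgroup G) := by
      rw [Nat.card_eq_fintype_card, Fintype.card_subtype]
    have e2 : (Finset.univ.filter fun x => x ∈ D).card = Nat.card D := by
      rw [Nat.card_eq_fintype_card, Fintype.card_subtype]
    rw [← e1, ← e2, ← Finset.card_union_of_disjoint]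
    · congr 1
      ext x
      simp only [hT, Finset.mem_union, Finset.mem_filter, Finset.mem_univ, true_and]
      constructor
      · rintro (h | h)
        · exact h.1
        · exact hDle R h
      · intro h
        by_cases hx : x ∈ D
        · exact Or.inr hx
        · exact Or.inl ⟨h, hx⟩
    · rw [Finset.disjoint_left]
      intro x hx hx'
      simp only [hT, Finset.mem_filter] at hx hx'
      exact hx.2.2 hx'.2
  have hsub : (Finset.univ.filter fun x => x ∈ D) ∪ s.biUnion T ⊆
      Finset.univ.filter fun g : G => ∃ k : ℕ, orderOf g = p ^ k := by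
    intro x hx
    have aux : ∀ R, x ∈ (φ R : Subgroup G) → ∃ k : ℕ, orderOf x = p ^ k := fun R h => by
      obtain ⟨k, hk⟩ := IsPGroup.iff_orderOf.mp (φ R).isPGroup' ⟨x, h⟩
      exact ⟨k, by rw [← hk, Subgroup.orderOf_mk]⟩
    simp only [hT, Finset.mem_union, Finset.mem_filter, Finset.mem_univ, true_and, Finset.mem_biUnion] at hx ⊢
    rcases hx with h | ⟨R, -, h, -⟩
    · exact aux A₁ (hDle A₁ h)
    · exact aux R h
  have hfin := Finset.card_le_card hsub
  rw [Finset.card_union_of_disjoint, Finset.card_biUnion hdisj] at hfin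
  · rw [Nat.card_eq_fintype_card (α := {g : G // ∃ k : ℕ, orderOf g = p ^ k}), Fintype.card_subtype]
    refine le_trans ?_ hfin
    have e2 : (Finset.univ.filter fun x => x ∈ D).card = Nat.card D := by
      rw [Nat.card_eq_fintype_card, Fintype.card_subtype]
    have hsum : ∑ R ∈ s, (T R).card = (p + 1) * (Nat.card (P : Subgroup G) - Nat.card D) := by
      rw [Finset.sum_congr rfl (g := fun _ => Nat.card (P : Subgroup G) - Nat.card D)
        (fun R _ => by have := hTcard R; omega), Finset.sum_const, hs, smul_eq_mul]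
    rw [e2, hsum]
    -- `p * #D ≤ #P`
    have hpD : p * Nat.card D ≤ Nat.card (P : Subgroup G) := by
      rw [P.card_eq_multiplicity.trans A.card_eq_multiplicity.symm]
      obtain ⟨i, hi⟩ := (A.isPGroup'.to_inf_left (K := (B : Subgroup G))).exists_card_eq
      obtain ⟨j, hj⟩ := A.isPGroup'.exists_card_eq
      have hlt : Nat.card D < Nat.card (A : Subgroup G) := lt_of_le_of_ne (Subgroup.card_le_of_le hDA.le)
        fun he => hDA.ne (Subgroup.eq_of_le_of_card_ge hDA.le he.ge)
      rw [hj]
      rw [hD, hi, ← pow_succ']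
      rw [hD, hi, hj] at hlt
      exact Nat.pow_le_pow_right hp.pos ((Nat.pow_lt_pow_iff_right hp.one_lt).mp hlt)
    obtain ⟨t, ht⟩ := Nat.le.dest ((Nat.le_mul_of_pos_left _ hp.pos).trans hpD)
    rw [← ht, Nat.add_sub_cancel_left]
    rw [← ht] at hpD
    nlinarith
  · rw [Finset.disjoint_left]
    intro x hx hx'
    simp only [hT, Finset.mem_filter, Finset.mem_biUnion] at hx hx'
    obtain ⟨R, -, hR⟩ := hx'
    exact hR.2.2 hx.2

end Cfsg.Agent.S4092
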