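import Cfsg.Statements.S4093
import Mathlib

set_option autoImplicit false
open scoped BigOperators
open Cfsg

namespace Cfsg.Agent.S4093

open scoped Pointwise

lemma card_conj_orbit {G : Type*} [Group G] [Finite G] (N : Subgroup G) (x : G) :
    Nat.card {g : G // ∃ n ∈ N, n * x * n⁻¹ = g} =
      Nat.card N / Nat.card ↥(N ⊓ Subgroup.centralizer ({x} : Set G)) := by
  letI : MulAction N G := MulAction.compHom G ((MulAut.conj : G →* MulAut G).comp N.subtype)
  have hsmul : ∀ (n : N) (g : G), n • g = (n : G) * g * (n : G)⁻¹ := fun n g => rfl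
  have e1 : Nat.card {g : G // ∃ n ∈ N, n * x * n⁻¹ = g} = (MulAction.orbit N x).ncard := by
    rw [← Nat.card_coe_set_eq]
    refine Nat.card_congr (Equiv.subtypeEquivRight fun g => ?_)
    simp only [MulAction.mem_orbit_iff, hsmul, Subtype.exists, exists_prop]
  have e2 : MulAction.stabilizer N x = (N ⊓ Subgroup.centralizer ({x} : Set G)).subgroupOf N := by
    ext n
    simp only [MulAction.mem_stabilizer_iff, hsmul, Subgroup.mem_subgroupOf, Subgroup.mem_inf,
      SetLike.coe_mem, true_and, Subgroup.mem_centralizer_singleton_iff, mul_inv_eq_iff_eq_mul]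
  rw [e1, ← MulAction.index_stabilizer, e2]
  refine Nat.eq_div_of_mul_eq_left Nat.card_pos.ne' ?_
  rw [mul_comm, ← Nat.card_congr (Subgroup.subgroupOfEquivOfLe (inf_le_left : N ⊓ Subgroup.centralizer ({x} : Set G) ≤ N)).toEquiv,
    Subgroup.card_mul_index]

/-- Let G be a finite group with a normal subgroup N complementing a Sylow p-subgroup P (a normal p-complement). Then the number of elements of G of p-power order equals the sum over x ∈ P of the index of C_N(x) in N. -/
theorem result {G : Type*} [Group G] [Finite G] (p : ℕ) [Fact p.Prime]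
    (P : Sylow p G) (N : Subgroup G) [N.Normal] (hNP : N.IsComplement' (P : Subgroup G)) :
    Nat.card {g : G // ∃ k : ℕ, orderOf g = p ^ k} =
      ∑ᶠ x : (P : Subgroup G), Nat.card N / Nat.card ↥(N ⊓ Subgroup.centralizer ({(x : G)} : Set G)) := by
  haveI : Fintype (P : Subgroup G) := Fintype.ofFinite _
  rw [finsum_eq_sum_of_fintype]
  simp only [← card_conj_orbit]
  rw [← Nat.card_sigma]
  refine (Nat.card_congr (Equiv.ofBijective
    (fun s : Σ x : (P : Subgroup G), {g : G // ∃ n ∈ N, n * (x : G) * n⁻¹ = g} =>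
      (⟨s.2.1, ?_⟩ : {g : G // ∃ k : ℕ, orderOf g = p ^ k})) ⟨?_, ?_⟩)).symm
  · obtain ⟨x, g, n, -, rfl⟩ := s
    obtain ⟨k, hk⟩ := IsPGroup.iff_orderOf.mp P.isPGroup' x
    refine ⟨k, ?_⟩
    show orderOf (n * (x : G) * n⁻¹) = _
    rw [← MulAut.conj_apply, MulEquiv.orderOf_eq, Subgroup.orderOf_coe, hk]
  · rintro ⟨x, g, hg⟩ ⟨y, g', hg'⟩ he
    have hgg : g = g' := congrArg Subtype.val he
    obtain ⟨n, hn, hng⟩ := hg
    obtain ⟨n', hn', hng'⟩ := hg'
    have hxy : (x : G) = y := by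
      have h1 : (x : G) * (y : G)⁻¹ ∈ N ⊓ (P : Subgroup G) := by
        refine Subgroup.mem_inf.mpr ⟨?_, mul_mem x.2 (inv_mem y.2)⟩
        have e : (x : G) * (y : G)⁻¹ =
            n⁻¹ * n' * ((y : G) * (n'⁻¹ * n) * (y : G)⁻¹) := by
          have : (x : G) = n⁻¹ * (n' * y * n'⁻¹) * n := by
            rw [hng', ← hgg, ← hng]; group
          rw [this]; group
        rw [e]
        exact mul_mem (mul_mem (inv_mem hn) hn')
          (Subgroup.Normal.conj_mem inferInstance _ (mul_mem (inv_mem hn') hn) _)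
      rw [disjoint_iff.mp hNP.disjoint, Subgroup.mem_bot, mul_inv_eq_one] at h1
      exact h1
    obtain rfl : x = y := Subtype.ext hxy
    subst hgg
    rfl
  · rintro ⟨g, k, hk⟩
    obtain ⟨Q, hQ⟩ := (IsPGroup.of_card (p := p) (n := k) (by rw [Nat.card_zpowers, hk]) :
      IsPGroup p (Subgroup.zpowers g)).exists_le_sylow
    obtain ⟨c, hc⟩ := MulAction.exists_smul_eq G P Q
    obtain ⟨u, hu, hug⟩ : ∃ u ∈ (P : Subgroup G), c * u * c⁻¹ = g := by
      have hgQ : g ∈ ((c • P : Sylow p G) : Subgroup G) := hc.symm ▸ hQ (Subgroup.mem_zpowers g)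
      exact ⟨c⁻¹ * g * c, by
        have : g ∈ (MulAut.conj c • (P : Subgroup G)) := hgQ
        rw [Subgroup.mem_pointwise_smul_iff_inv_smul_mem] at this
        simpa [MulAut.smul_def, MulAut.inv_def] using this, by group⟩
    obtain ⟨⟨⟨n, hn⟩, ⟨a, ha⟩⟩, hna⟩ := hNP.2 c
    refine ⟨⟨⟨a * u * a⁻¹, mul_mem (mul_mem ha hu) (inv_mem ha)⟩, ⟨g, n, hn, ?_⟩⟩, rfl⟩
    rw [← hug, ← hna]
    group

end Cfsg.Agent.S4093
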