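import Cfsg.Statements.S4097
import Mathlib
import Cfsg.Agent.Lib.Frobenius.KernelNilpotent
import Cfsg.Agent.Lib.Frobenius.Kernel
-- import your own Cfsg.Agent.* helpers here

set_option autoImplicit false
open Cfsg

namespace Cfsg.Agent.S4097
universe u

theorem centralised_of_normal {G : Type*} [Group G] {A B : Subgroup G} [B.Normal]
    (hB : Group.IsSolvable B)
    (hc : ∀ S : Subgroup G, A ≤ S → Group.IsSolvable S → ∀ a ∈ A, ∀ s ∈ S, a * s = s * a)
    (hA : Group.IsSolvable A) : ∀ a ∈ A, ∀ b ∈ B, a * b = b * a := by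
  haveI := hA
  haveI := hB
  haveI : Group.IsSolvable (A ⊔ B : Subgroup G) := by
    refine Group.isSolvable_of_ker_le_range (Subgroup.inclusion (le_sup_right : B ≤ A ⊔ B))
      (QuotientGroup.mk' (B.subgroupOf (A ⊔ B))) ?_ (hG' := inferInstance) (hG'' := ?_)
    · intro x hx
      exact ⟨⟨x, (QuotientGroup.eq_one_iff x).mp hx⟩, rfl⟩
    · refine Group.isSolvable_of_surjective
        (f := (QuotientGroup.mk' (B.subgroupOf (A ⊔ B))).comp (Subgroup.inclusion le_sup_left)) ?_
      intro q
      obtain ⟨⟨x, hx⟩, rfl⟩ := QuotientGroup.mk'_surjective _ q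
      obtain ⟨a, ha, b, hb, rfl⟩ := Subgroup.mem_sup_of_normal_right.mp hx
      refine ⟨⟨a, ha⟩, QuotientGroup.eq.mpr ?_⟩
      rw [Subgroup.mem_subgroupOf]
      simpa using hb
  exact fun a ha b hb => hc _ le_sup_left inferInstance a ha b (Subgroup.mem_sup_right hb)

theorem main {G : Type*} [Group G] [Finite G] (A : Subgroup G) (hA : Group.IsSolvable A)
    (hc : ∀ S : Subgroup G, A ≤ S → Group.IsSolvable S → ∀ a ∈ A, ∀ s ∈ S, a * s = s * a)
    (hrec : ∀ H : Subgroup G, H ≠ ⊤ → A ≤ H → H ≤ Subgroup.centralizer (A : Set G)) :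
    A ≤ Subgroup.center G := by
  classical
  by_contra hcon
  set M := Subgroup.centralizer (A : Set G) with hMdef
  set Z := Subgroup.center G with hZdef
  have hAM : A ≤ M := fun a ha => Subgroup.mem_centralizer_iff.mpr fun b hb =>
    hc A le_rfl hA b hb a ha
  have hMtop : M ≠ ⊤ := fun h => hcon (Subgroup.centralizer_eq_top_iff_subset.mp h)
  have hZM : Z ≤ M := fun z hz =>
    Subgroup.mem_centralizer_iff.mpr fun b _ => Subgroup.mem_center_iff.mp hz b
  -- `M` is not normal
  have hNM : Subgroup.normalizer (M : Set G) = M := by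
    refine le_antisymm (hrec _ (fun h => ?_) (hAM.trans Subgroup.le_normalizer)) Subgroup.le_normalizer
    haveI : M.Normal := Subgroup.normalizer_eq_top_iff.mp h
    let B := M ⊓ Subgroup.centralizer (M : Set G)
    haveI : B.Normal := inferInstance
    have hB : Group.IsSolvable B := Group.isSolvable_of_comm fun a b =>
      Subtype.ext (Subgroup.mem_centralizer_iff.mp b.2.2 (a : G) a.2.1)
    have hAB : A ≤ B := le_inf hAM fun a ha => Subgroup.mem_centralizer_iff.mpr fun m hm =>
      (Subgroup.mem_centralizer_iff.mp hm a ha).symm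
    refine hcon fun a ha => Subgroup.mem_center_iff.mpr fun g => ?_
    set π := QuotientGroup.mk' B
    set S := (Subgroup.zpowers (π g)).comap π
    have hBS : B ≤ S := fun b hb => by
      show π b ∈ Subgroup.zpowers (π g)
      rw [show π b = 1 from (QuotientGroup.eq_one_iff b).mpr hb]
      exact one_mem _
    haveI := hB
    have hS : Group.IsSolvable S := by
      refine Group.isSolvable_of_ker_le_range (Subgroup.inclusion hBS)
        ((π.comp S.subtype).codRestrict (Subgroup.zpowers (π g)) fun x => x.2) ?_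
        (hG' := hB) (hG'' := Group.isSolvable_of_comm fun a b =>
          (IsCyclic.commGroup (α := Subgroup.zpowers (π g))).mul_comm a b)
      intro x hx
      exact ⟨⟨x, (QuotientGroup.eq_one_iff (x : G)).mp
        (congrArg Subtype.val (MonoidHom.mem_ker.mp hx))⟩, rfl⟩
    exact (hc S (hAB.trans hBS) hS a ha g (Subgroup.mem_zpowers (π g))).symm
  -- `M` meets its other conjugates in the centre
  have hcent : ∀ m ∈ M, m ∉ Z → Subgroup.centralizer ({m} : Set G) ≤ M := by
    intro m hm hmZ
    refine hrec _ (fun h => hmZ ?_) fun a ha => ?_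
    · refine Subgroup.mem_center_iff.mpr fun g => ?_
      exact Subgroup.mem_centralizer_singleton_iff.mp (h ▸ Subgroup.mem_top g)
    · exact Subgroup.mem_centralizer_singleton_iff.mpr (Subgroup.mem_centralizer_iff.mp hm a ha)
  have hTI : ∀ g : G, g ∉ M → ∀ m ∈ M, g⁻¹ * m * g ∈ M → m ∈ Z := by
    intro g hg m hm hm'
    by_contra hmZ
    refine hg ?_
    set A' := A.map (MulAut.conj g).toMonoidHom with hA'
    have hA'M : A' ≤ M := by
      rintro _ ⟨a, ha, rfl⟩
      refine hcent m hm hmZ (Subgroup.mem_centralizer_singleton_iff.mpr ?_)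
      show g * a * g⁻¹ * m = m * (g * a * g⁻¹)
      have h1 := Subgroup.mem_centralizer_iff.mp hm' a ha
      calc g * a * g⁻¹ * m = g * (a * (g⁻¹ * m * g)) * g⁻¹ := by group
        _ = g * ((g⁻¹ * m * g) * a) * g⁻¹ := by rw [h1]
        _ = m * (g * a * g⁻¹) := by group
    have hMA' : Subgroup.centralizer (A' : Set G) ≤ M := by
      refine hrec _ (fun h => hcon ?_) fun a ha => Subgroup.mem_centralizer_iff.mpr fun b hb => ?_
      · have h1 := Subgroup.centralizer_eq_top_iff_subset.mp h
        intro a ha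
        have h2 : g * a * g⁻¹ ∈ Z := h1 ⟨a, ha, rfl⟩
        have h3 := (inferInstance : Z.Normal).conj_mem _ h2 g⁻¹
        simpa [mul_assoc] using h3
      · exact (Subgroup.mem_centralizer_iff.mp (hA'M hb) a ha).symm
    have hcle : Nat.card M ≤ Nat.card (Subgroup.centralizer (A' : Set G)) := by
      let f : M → Subgroup.centralizer (A' : Set G) := fun x =>
        ⟨g * x * g⁻¹, Subgroup.mem_centralizer_iff.mpr (by
          rintro _ ⟨a, ha, rfl⟩
          have h1 := Subgroup.mem_centralizer_iff.mp x.2 a ha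
          show g * a * g⁻¹ * (g * (x : G) * g⁻¹) = g * (x : G) * g⁻¹ * (g * a * g⁻¹)
          calc g * a * g⁻¹ * (g * (x : G) * g⁻¹) = g * (a * x) * g⁻¹ := by group
            _ = g * ((x : G) * a) * g⁻¹ := by rw [h1]
            _ = g * (x : G) * g⁻¹ * (g * a * g⁻¹) := by group)⟩
      exact Nat.card_le_card_of_injective f fun x y e => by
        have h1 : g * (x : G) * g⁻¹ = g * (y : G) * g⁻¹ := congrArg Subtype.val e
        exact Subtype.ext (mul_left_cancel (mul_right_cancel h1))
    have heq := Subgroup.eq_of_le_of_card_ge hMA' hcle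
    rw [← hNM]
    refine Subgroup.mem_normalizer_iff.mpr fun x => ⟨fun hx => ?_, fun hx => ?_⟩
    · rw [← heq]
      refine Subgroup.mem_centralizer_iff.mpr ?_
      rintro _ ⟨a, ha, rfl⟩
      have h1 := Subgroup.mem_centralizer_iff.mp hx a ha
      show g * a * g⁻¹ * (g * x * g⁻¹) = g * x * g⁻¹ * (g * a * g⁻¹)
      calc g * a * g⁻¹ * (g * x * g⁻¹) = g * (a * x) * g⁻¹ := by group
        _ = g * (x * a) * g⁻¹ := by rw [h1]
        _ = g * x * g⁻¹ * (g * a * g⁻¹) := by group
    · rw [← heq] at hx
      refine Subgroup.mem_centralizer_iff.mpr fun a ha => ?_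
      have h1 := Subgroup.mem_centralizer_iff.mp hx (g * a * g⁻¹) ⟨a, ha, rfl⟩
      calc a * x = g⁻¹ * (g * a * g⁻¹ * (g * x * g⁻¹)) * g := by group
        _ = g⁻¹ * (g * x * g⁻¹ * (g * a * g⁻¹)) * g := by rw [h1]
        _ = x * a := by group
  -- the quotient by the centre is a Frobenius group
  set π := QuotientGroup.mk' Z with hπ
  have hπs : Function.Surjective π := QuotientGroup.mk'_surjective Z
  have hcm : (M.map π).comap π = M := Subgroup.comap_map_eq_self (by rw [hπ, QuotientGroup.ker_mk']; exact hZM)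
  have hF : Cfsg.IsFrobeniusComplement (M.map π) := by
    refine ⟨fun h => hcon fun a ha => ?_, fun h => hMtop ?_, fun gb hgb => ?_⟩
    · have h1 : π a ∈ M.map π := Subgroup.mem_map_of_mem π (hAM ha)
      rw [h, Subgroup.mem_bot] at h1
      exact (QuotientGroup.eq_one_iff a).mp h1
    · rw [← hcm, h, Subgroup.comap_top]
    · obtain ⟨g, rfl⟩ := hπs gb
      rw [eq_bot_iff]
      rintro x ⟨hx, hx'⟩
      obtain ⟨m, hm, rfl⟩ := hx
      have hx₁ := Lib.Frobenius.mem_conj_smul_iff.mp hx'
      rw [← map_inv, ← map_mul, ← map_mul] at hx₁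
      have hx'' : g⁻¹ * m * g ∈ M := hcm.le hx₁
      rw [Subgroup.mem_bot]
      exact (QuotientGroup.eq_one_iff m).mpr
        (hTI g (fun hg => hgb (Subgroup.mem_map_of_mem π hg)) m hm hx'')
  obtain ⟨N, hNset, hNn, hNc⟩ := Lib.Frobenius.exists_kernel hF
  have hnil : Group.IsNilpotent N := Lib.Frobenius.isNilpotent_of_eq_kernel hF hNset.symm
  set K := N.comap π
  haveI : K.Normal := hNn.comap π
  haveI hKs : Group.IsSolvable K := by
    haveI := hnil
    refine Group.isSolvable_of_ker_le_range
      (Subgroup.inclusion (show Z ≤ K from fun z hz => by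
        show π z ∈ N
        rw [show π z = 1 from (QuotientGroup.eq_one_iff z).mpr hz]
        exact one_mem N))
      ((π.comp K.subtype).codRestrict N fun x => x.2) ?_
      (hG' := Group.isSolvable_of_comm fun a b =>
        Subtype.ext (Subgroup.mem_center_iff.mp b.2 a)) (hG'' := inferInstance)
    intro x hx
    exact ⟨⟨x, (QuotientGroup.eq_one_iff (x : G)).mp
      (congrArg Subtype.val (MonoidHom.mem_ker.mp hx))⟩, rfl⟩
  have hKM : K ≤ M := fun k hk => Subgroup.mem_centralizer_iff.mpr fun a ha =>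
    centralised_of_normal hKs hc hA a ha k hk
  have hN : N = ⊥ := by
    rw [eq_bot_iff]
    intro x hx
    obtain ⟨k, rfl⟩ := hπs x
    exact hNc.disjoint.le_bot ⟨hx, Subgroup.mem_map_of_mem π (hKM hx)⟩
  refine hF.2.1 ?_
  have h1 := hNc.sup_eq_top
  rwa [hN, bot_sup_eq] at h1

theorem aux : ∀ (n : ℕ), ∀ {G : Type u} [Group G] [Finite G], Nat.card G = n →
    ∀ A : Subgroup G, Group.IsSolvable A →
    (∀ S : Subgroup G, A ≤ S → Group.IsSolvable S → ∀ a ∈ A, ∀ s ∈ S, a * s = s * a) →
    A ≤ Subgroup.center G := by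
  intro n
  induction n using Nat.strong_induction_on with
  | _ n ih =>
    intro G _ _ hn A hA hc
    subst hn
    refine main A hA hc fun H hH hAH => ?_
    have hlt : Nat.card H < Nat.card G := lt_of_le_of_ne (Subgroup.card_le_card_group H)
      fun e => hH (Subgroup.eq_top_of_card_eq H e)
    haveI := hA
    have hsol : Group.IsSolvable (A.subgroupOf H) :=
      Group.isSolvable_of_surjective (f := (Subgroup.subgroupOfEquivOfLe hAH).symm.toMonoidHom)
        (Subgroup.subgroupOfEquivOfLe hAH).symm.surjective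
    have h := ih _ hlt rfl (A.subgroupOf H) hsol fun S hAS hS a ha s hs => by
      haveI := hS
      have hS' : Group.IsSolvable (S.map H.subtype) :=
        Group.isSolvable_of_surjective (f := H.subtype.subgroupMap S) (H.subtype.subgroupMap_surjective S)
      exact Subtype.ext (hc (S.map H.subtype) (fun b hb => ⟨⟨b, hAH hb⟩, hAS hb, rfl⟩) hS'
        a ha s ⟨s, hs, rfl⟩)
    intro x hx
    refine Subgroup.mem_centralizer_iff.mpr fun a ha => ?_
    exact (congrArg Subtype.val (Subgroup.mem_center_iff.mp (h (x := ⟨a, hAH ha⟩) ha) ⟨x, hx⟩)).symm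



/-- Let A be a solvable subgroup of a finite group G such that A lies in the centre of every solvable subgroup of G containing A. Then A lies in the centre of G. -/
theorem result {G : Type*} [Group G] [Finite G]
    (A : Subgroup G) (hA : Group.IsSolvable A)
    (hc : ∀ S : Subgroup G, A ≤ S → Group.IsSolvable S → ∀ a ∈ A, ∀ s ∈ S, a * s = s * a) : A ≤ Subgroup.center G := by
  exact aux _ rfl A hA hc

end Cfsg.Agent.S4097
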