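import Cfsg.Statements.S4100
import Cfsg.Agent.Lib.S4100.Main
import Cfsg.Agent.Lib.S4100.Fixed
import Cfsg.Agent.Lib.S4100.DataStart2
import Cfsg.Agent.Lib.S4100.DataStart5

set_option autoImplicit false
open Cfsg

namespace Cfsg.Agent.S4100

open Cfsg.Agent.Lib.S4100 in
theorem no_bad_five {V : Type*} [AddCommGroup V] [Finite V] (ρ : Alt 10 →* AddMonoid.End V)
    (hp : ∀ v : V, 5 • v = 0) (hbad : BadMod ρ) : ∀ v : V, v = 0 := by
  haveI : Fact (Nat.Prime 5) := ⟨by norm_num⟩
  refine trivial_of_zeroC (p := 5) (k := 1) hp ρ (Start5.lg.map Prod.fst)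
    ((List.range 25).map (code Start5.cert.Lc)) ?_ (by decide +kernel) ?_
  · intro c hc
    simp only [Start5.lg, List.map_cons, List.map_nil, List.mem_cons, List.not_mem_nil,
      or_false] at hc
    rcases hc with rfl | rfl
    · exact exists_rep (n := 10) [(0, 1), (1, 2), (2, 3), (3, 4)] (by decide) (by decide) _
        (by decide +kernel)
    · exact exists_rep (n := 10) [(5, 6), (6, 7), (7, 8), (8, 9)] (by decide) (by decide) _
        (by decide +kernel)
  · exact Start5.zero ρ hp hbad

open Cfsg.Agent.Lib.S4100 in
theorem no_bad_two {V : Type*} [AddCommGroup V] [Finite V] (ρ : Alt 9 →* AddMonoid.End V)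
    (hp : ∀ v : V, 2 • v = 0) (hbad : BadMod ρ) : ∀ v : V, v = 0 := by
  haveI : Fact (Nat.Prime 2) := ⟨by norm_num⟩
  refine trivial_of_zeroC (p := 2) (k := 6) hp ρ (Start2.lg.map Prod.fst)
    ((List.range 64).map (code Start2.cert.Lc)) ?_ (by decide +kernel) ?_
  · intro c hc
    simp only [Start2.lg, List.map_cons, List.map_nil, List.mem_cons, List.not_mem_nil,
      or_false] at hc
    rcases hc with rfl | rfl | rfl | rfl | rfl
    · exact exists_rep (n := 9) [(4, 5), (6, 7)] (by decide) (by decide) _ (by decide +kernel)
    · exact exists_rep (n := 9) [(4, 6), (5, 7)] (by decide) (by decide) _ (by decide +kernel)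
    · exact exists_rep (n := 9) [(1, 3), (5, 7)] (by decide) (by decide) _ (by decide +kernel)
    · exact exists_rep (n := 9) [(0, 1), (2, 3)] (by decide) (by decide) _ (by decide +kernel)
    · exact exists_rep (n := 9) [(0, 4), (1, 5), (2, 6), (3, 7)] (by decide) (by decide) _
        (by decide +kernel)
  · exact Start2.zero ρ hp hbad

open Cfsg.Agent.Lib.S4100 in
/-- Let G be a finite group and p a prime other than 3 such that the centralizer of every non-central element of p-power order is solvable. Then every alternating group of degree at least 5 involved in G (as a section) has degree at most p + 4, or at most p + 6 = 8 when p = 2. -/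
theorem result {G : Type*} [Group G] [Finite G] (p : ℕ) [Fact p.Prime] (hp3 : p ≠ 3)
    (h : ∀ x : G, x ∉ Subgroup.center G → (∃ k : ℕ, orderOf x = p ^ k) → Group.IsSolvable (Subgroup.centralizer ({x} : Set G)))
    (d : ℕ) (hd : 5 ≤ d) (hinv : Cfsg.Involves (alternatingGroup (Fin d)) G) :
    d ≤ p + 4 + (if p = 2 then 2 else 0) := by
  by_contra hlt
  have hpP : p.Prime := Fact.out
  by_cases hp2 : p = 2
  · subst hp2
    norm_num at hlt
    haveI : Fact (Nat.Prime 2) := ⟨by norm_num⟩
    refine no_section h (m := 4)
      (⟨Equiv.swap 0 1 * Equiv.swap 2 3, by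
        rw [Equiv.Perm.mem_alternatingGroup]; decide +kernel⟩ : Alt 4)
      (orderOf_eq_prime (by decide +kernel) (by decide +kernel))
      (Or.inr fun V _ _ ρ hp hbad => no_bad_two ρ hp hbad) (involves_of_le (by omega) hinv)
  · rw [if_neg hp2] at hlt
    have hp5 : 5 ≤ p := by
      rcases Nat.lt_or_ge p 5 with h5 | h5
      · have := hpP.two_le
        have h4 : p ≠ 4 := fun e => by rw [e] at hpP; norm_num at hpP
        omega
      · exact h5
    have hodd : Odd p := hpP.odd_of_ne_two hp2
    have hx : finRotate p ∈ alternatingGroup (Fin p) := by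
      rw [Equiv.Perm.mem_alternatingGroup, sign_finRotate]
      exact (Nat.Odd.sub_odd hodd odd_one).neg_one_pow
    refine no_section h (m := p) (⟨finRotate p, hx⟩ : Alt p) ?_ ?_ (involves_of_le (by omega) hinv)
    · rw [← Subgroup.orderOf_coe]
      show orderOf (finRotate p) = p
      rw [(isCycle_finRotate_of_le (by omega)).orderOf, support_finRotate_of_le (by omega),
        Finset.card_univ, Fintype.card_fin]
    · rcases eq_or_ne p 5 with h5 | h5
      · subst h5
        exact Or.inr fun V _ _ ρ hp hbad => no_bad_five ρ hp hbad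
      · left
        intro hd
        have h6 : p ≠ 6 := fun e => by rw [e] at hpP; norm_num at hpP
        have h10 := Nat.le_of_dvd (by norm_num) hd
        interval_cases p <;> first | omega | (norm_num at hpP; done) | (norm_num at hd; done)

end Cfsg.Agent.S4100
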