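import Cfsg.Statements.S4106
import Mathlib
import Cfsg.Agent.Lib.PiClasses.Basic

set_option autoImplicit false
open Cfsg

namespace Cfsg.Agent.S4106

/-- Let G be a finite group, π a set of primes and m the π-part of the order of G. Then the number of conjugacy classes of G consisting of π-elements (elements whose order is divisible only by primes in π) is at most m. -/
theorem result {G : Type*} [Group G] [Finite G]
    (π : Set ℕ) (hπ : ∀ q ∈ π, q.Prime)
    (m : ℕ) (hm : m ∣ Nat.card G) (hmπ : ∀ q : ℕ, q.Prime → q ∣ m → q ∈ π)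
    (hm' : ∀ q ∈ π, ¬ q ∣ Nat.card G / m) :
    Nat.card {C : ConjClasses G // ∀ q : ℕ, q.Prime → (∃ g : G, ConjClasses.mk g = C ∧ q ∣ orderOf g) → q ∈ π} ≤ m := by
  classical
  let π' : Finset ℕ := (Nat.card G).primeFactors.filter (· ∈ π)
  have hπ' : ∀ r ∈ π', r.Prime := fun r hr => Nat.prime_of_mem_primeFactors (Finset.mem_filter.mp hr).1
  have hG0 : Nat.card G ≠ 0 := Nat.card_pos.ne'
  have hm0 : m ≠ 0 := fun h => hG0 (Nat.eq_zero_of_zero_dvd (h ▸ hm))
  refine le_trans (le_of_eq ?_) ((Cfsg.Agent.Lib.PiClasses.card_piClass_le_piPart π' hπ' G).trans (le_of_eq ?_))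
  · refine Nat.card_congr (Equiv.subtypeEquivRight fun C => ?_)
    constructor
    · intro h x hx r hr hd
      refine Finset.mem_coe.mpr (Finset.mem_filter.mpr ⟨Nat.mem_primeFactors.mpr
        ⟨hr, hd.trans (orderOf_dvd_natCard x), hG0⟩, ?_⟩)
      exact h r hr ⟨x, ConjClasses.mem_carrier_iff_mk_eq.mp hx, hd⟩
    · intro h q hq hex
      obtain ⟨g, hg, hd⟩ := hex
      exact (Finset.mem_filter.mp (Finset.mem_coe.mp (h g (ConjClasses.mem_carrier_iff_mk_eq.mpr hg) q hq hd))).2
  · refine Nat.eq_of_factorization_eq (Finset.prod_ne_zero_iff.mpr fun r hr => pow_ne_zero _ (hπ' r hr).ne_zero) hm0 fun r => ?_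
    unfold Cfsg.Agent.Lib.PiClasses.piPart
    rw [Nat.factorization_prod_apply fun s hs => pow_ne_zero _ (hπ' s hs).ne_zero]
    have hterm : ∀ s ∈ π', (s ^ (Nat.card G).factorization s).factorization r =
        if r = s then (Nat.card G).factorization r else 0 := by
      intro s hs
      rw [(hπ' s hs).factorization_pow, Finsupp.single_apply]
      by_cases h : r = s
      · subst h; simp
      · rw [if_neg h, if_neg fun e => h e.symm]
    rw [Finset.sum_congr rfl hterm, Finset.sum_ite_eq]
    by_cases hr : r.Prime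
    swap
    · simp [Nat.factorization_eq_zero_of_not_prime _ hr]
    have hsplit : (Nat.card G).factorization r = m.factorization r + (Nat.card G / m).factorization r := by
      have h2 : Nat.card G / m ≠ 0 := (Nat.div_pos (Nat.le_of_dvd Nat.card_pos hm) (Nat.pos_of_ne_zero hm0)).ne'
      rw [← Finsupp.add_apply, ← Nat.factorization_mul hm0 h2, Nat.mul_div_cancel' hm]
    by_cases hrπ : r ∈ π'
    · rw [if_pos hrπ, hsplit, Nat.factorization_eq_zero_of_not_dvd (hm' r (Finset.mem_filter.mp hrπ).2), add_zero]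
    · rw [if_neg hrπ]
      symm
      refine Nat.factorization_eq_zero_of_not_dvd fun hd => hrπ ?_
      exact Finset.mem_filter.mpr ⟨Nat.mem_primeFactors.mpr ⟨hr, hd.trans hm, hG0⟩, hmπ r hr hd⟩

end Cfsg.Agent.S4106
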