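import Cfsg.Statements.S4107
import Mathlib
import Cfsg.Agent.Lib.Coprime.Quotient
import Cfsg.Agent.Lib.PSolvable.Core
import Cfsg.Agent.Lib.Fitting.Nilpotent

set_option autoImplicit false
open Cfsg

namespace Cfsg.Agent.S4107

/-- Outside `N` no `p`-element commutes with an element of `N` of another prime order. -/
theorem eq_of_commute {G : Type*} [Group G] [Finite G] {N : Subgroup G}
    (heq : ∀ x : G, x ∉ N → ∀ n ∈ N, orderOf (x * n) = orderOf x)
    {x y : G} {p q : ℕ} (hp : p.Prime) (hq : q.Prime) (hxN : x ∉ N) (hx : ∃ k, orderOf x = p ^ k)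
    (hy : y ∈ N) (hyq : orderOf y = q) (hc : Commute x y) : q = p := by
  by_contra hne
  obtain ⟨k, hk⟩ := hx
  have h1 := heq x hxN y hy
  rw [hc.orderOf_mul_eq_mul_orderOf_of_coprime (by
    rw [hk, hyq]; exact ((Nat.coprime_primes hp hq).mpr (Ne.symm hne)).pow_left k), hyq] at h1
  exact hq.one_lt.ne' ((Nat.mul_eq_left (orderOf_pos x).ne').mp h1)

/-- Let G be a finite group and N a proper non-trivial normal subgroup such that for every x outside N all elements of the coset xN have the same order as x. Then N ≤ F(G) or F(G) ≤ N, where F(G) is the Fitting subgroup; and if N is properly contained in F(G) then F(G) has prime-power order. -/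
theorem result {G : Type*} [Group G] [Finite G] (N : Subgroup G) [N.Normal] (hN1 : N ≠ ⊥) (hN2 : N ≠ ⊤)
    (heq : ∀ x : G, x ∉ N → ∀ n ∈ N, orderOf (x * n) = orderOf x) :
    (N ≤ Cfsg.fittingSubgroup G ∨ Cfsg.fittingSubgroup G ≤ N) ∧
    (N < Cfsg.fittingSubgroup G → IsPrimePow (Nat.card (Cfsg.fittingSubgroup G))) := by
  set F := Cfsg.fittingSubgroup G with hF
  haveI : F.Normal := Lib.Fitting.fittingSubgroup_normal
  haveI : Group.IsNilpotent F := Lib.Fitting.fittingSubgroup_isNilpotent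
  by_cases hFN : F ≤ N
  · exact ⟨Or.inr hFN, fun hlt => absurd hFN hlt.not_ge⟩
  -- Sylow subgroups of `F` lie in the cores
  have hsyl : ∀ (p : ℕ) [Fact p.Prime] (S : Sylow p F),
      (S : Subgroup F).map F.subtype ≤ pCore p G := by
    intro p hp S
    haveI : (S : Subgroup F).Normal :=
      (Group.isNilpotent_of_finite_tfae.out 0 3 rfl rfl).mp inferInstance p hp S
    haveI : (S : Subgroup F).Characteristic := S.characteristic_of_normal inferInstance
    exact Lib.PSolvable.le_pCore (S.2.map _)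
  have hnorm : ∀ p, (pCore p G).Normal := fun p => Subgroup.sSup_normal _ (fun N h => h.1)
  obtain ⟨p, hp, x, hxP, hxN⟩ : ∃ p, p.Prime ∧ ∃ x ∈ pCore p G, x ∉ N := by
    by_contra hno
    push Not at hno
    refine hFN ?_
    have hdvd : Nat.card F ∣ Nat.card (F ⊓ N : Subgroup G) := by
      rw [Nat.dvd_iff_prime_pow_dvd_dvd]
      intro q k hq hk
      haveI : Fact q.Prime := ⟨hq⟩
      obtain ⟨S⟩ : Nonempty (Sylow q F) := inferInstance
      refine dvd_trans ?_ (Subgroup.card_dvd_of_le
        (le_inf (Subgroup.map_subtype_le (S : Subgroup F))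
          (fun z hz => hno q hq z (hsyl q S hz))))
      rw [Subgroup.card_map_of_injective (Subgroup.subtype_injective _)]
      exact S.pow_dvd_card_of_pow_dvd_card hk
    exact (Subgroup.eq_of_le_of_card_ge (inf_le_left : F ⊓ N ≤ F)
      (Nat.le_of_dvd Nat.card_pos hdvd)) ▸ inf_le_right
  haveI := Fact.mk hp
  set P := pCore p G with hP
  haveI : P.Normal := hnorm p
  have hPp : IsPGroup p P := Lib.PSolvable.pCore_isPGroup
  have hxord : ∀ z ∈ P, ∃ k, orderOf z = p ^ k := fun z hz => by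
    obtain ⟨k, hk⟩ := IsPGroup.iff_orderOf.mp hPp ⟨z, hz⟩
    exact ⟨k, by rw [← hk, Subgroup.orderOf_mk]⟩
  -- `N` is a `p`-group
  have hNp : IsPGroup p N := by
    refine IsPGroup.of_card (Nat.eq_prime_pow_of_unique_prime_dvd Nat.card_pos.ne' fun {q} hq hd => ?_)
    haveI := Fact.mk hq
    by_contra hne
    obtain ⟨⟨y, hy⟩, hyo⟩ := exists_prime_orderOf_dvd_card' (G := N) q hd
    rw [Subgroup.orderOf_mk] at hyo
    have hA : Subgroup.zpowers y ≤ Subgroup.normalizer (P : Set G) := by
      rw [Subgroup.normalizer_eq_top]; exact le_top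
    have hcop : (Nat.card (Subgroup.zpowers y)).Coprime (Nat.card P) := by
      obtain ⟨k, hk⟩ := hPp.exists_card_eq
      rw [hk, Nat.card_zpowers, hyo]
      exact ((Nat.coprime_primes hq hp).mpr hne).pow_right k
    obtain ⟨a, ha, z, hz, hxe⟩ := Lib.Coprime.mem_commutator_mul_centralizer hA
      (Lib.Coprime.coprime_of_le_right (Lib.Coprime.commutator_le_of_le_normalizer hA) hcop)
      (Or.inl inferInstance) hxP
    obtain ⟨hzP, hzy⟩ := Subgroup.mem_inf.mp hz
    have haN : a ∈ N := (Subgroup.commutator_mono le_rfl (Subgroup.zpowers_le.mpr hy)).trans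
      (Subgroup.commutator_le_right P N) ha
    have hzN : z ∉ N := fun h => hxN (hxe ▸ N.mul_mem haN h)
    exact hne (eq_of_commute heq hp hq hzN (hxord z hzP) hy hyo
      ((Subgroup.mem_centralizer_iff.mp hzy y (Subgroup.mem_zpowers y)).symm))
  have hNF : N ≤ F := le_sSup (show N ∈ {N : Subgroup G | N.Normal ∧ Group.IsNilpotent N} from
    ⟨inferInstance, hNp.isNilpotent⟩)
  have hpd : p ∣ Nat.card N := by
    obtain ⟨k, hk0, hk⟩ := hNp.nontrivial_iff_card.mp ((Subgroup.nontrivial_iff_ne_bot N).mpr hN1)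
    exact hk ▸ dvd_pow_self p hk0.ne'
  obtain ⟨⟨y, hy⟩, hyo⟩ := exists_prime_orderOf_dvd_card' (G := N) p hpd
  rw [Subgroup.orderOf_mk] at hyo
  have hFp : IsPGroup p F := by
    refine IsPGroup.of_card (Nat.eq_prime_pow_of_unique_prime_dvd Nat.card_pos.ne' fun {q} hq hd => ?_)
    haveI := Fact.mk hq
    by_contra hne
    obtain ⟨S⟩ : Nonempty (Sylow q F) := inferInstance
    haveI : (pCore q G).Normal := hnorm q
    have hQp : IsPGroup q (pCore q G) := Lib.PSolvable.pCore_isPGroup
    have hdis : Disjoint (pCore q G) N := IsPGroup.disjoint_of_ne q p hne _ _ hQp hNp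
    have hbot : pCore q G = ⊥ := by
      refine le_bot_iff.mp fun z hz => Subgroup.mem_bot.mpr ?_
      by_contra hz1
      have hzN : z ∉ N := fun h => hz1 (Subgroup.mem_bot.mp (hdis.le_bot ⟨hz, h⟩))
      obtain ⟨k, hk⟩ := IsPGroup.iff_orderOf.mp hQp ⟨z, hz⟩
      rw [Subgroup.orderOf_mk] at hk
      exact hne (eq_of_commute heq hq hp hzN ⟨k, hk⟩ hy hyo
        (Subgroup.commute_of_normal_of_disjoint _ _ inferInstance inferInstance hdis z y hz hy)).symm
    have hS : (S : Subgroup F) = ⊥ :=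
      (Subgroup.map_eq_bot_iff_of_injective _ F.subtype_injective).mp
        (le_bot_iff.mp (hbot ▸ hsyl q S))
    exact S.ne_bot_of_dvd_card hd hS
  obtain ⟨k, hk⟩ := hFp.exists_card_eq
  refine ⟨Or.inl hNF, fun _ => ⟨p, k, hp.prime, Nat.pos_of_ne_zero fun h0 => hN1 ?_, hk.symm⟩⟩
  rw [h0, pow_zero, Subgroup.card_eq_one] at hk
  exact le_bot_iff.mp (hk ▸ hNF)

end Cfsg.Agent.S4107
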