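import Cfsg.Statements.S4108
import Mathlib
import Cfsg.Agent.Lib.Frobenius.Basic

set_option autoImplicit false
open Cfsg

namespace Cfsg.Agent.S4108

/-- Let G be a finite group, p a prime and N a proper non-trivial normal p-subgroup such that for every x outside N all elements of the coset xN have the same order as x. Then every non-trivial subgroup H of G of order prime to p acts fixed-point-freely on N: NH is a Frobenius group with complement H and kernel N. -/
theorem result {G : Type*} [Group G] [Finite G] (N : Subgroup G) [N.Normal] (hN1 : N ≠ ⊥) (hN2 : N ≠ ⊤)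
    (heq : ∀ x : G, x ∉ N → ∀ n ∈ N, orderOf (x * n) = orderOf x)
    (p : ℕ) [Fact p.Prime] (hNp : IsPGroup p N) :
    ∀ H : Subgroup G, H ≠ ⊥ → (Nat.card H).Coprime p →
      Cfsg.IsFrobeniusComplement (H.subgroupOf (N ⊔ H)) ∧ Cfsg.frobeniusKernel (H.subgroupOf (N ⊔ H)) = (N.subgroupOf (N ⊔ H) : Set ↥(N ⊔ H)) := by
  intro H hH hHc
  set T := N ⊔ H with hT
  set N' := N.subgroupOf T with hN'
  set H' := H.subgroupOf T with hH'
  haveI : N'.Normal := Subgroup.Normal.subgroupOf inferInstance _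
  have hp : p.Prime := Fact.out
  obtain ⟨k, hk⟩ := hNp.exists_card_eq
  have hcop : (Nat.card N).Coprime (Nat.card H) := hk ▸ hHc.symm.pow_left k
  have hdisj : N ⊓ H = ⊥ := Subgroup.inf_eq_bot_of_coprime hcop
  have hc : Subgroup.IsComplement' N' H' := by
    refine Subgroup.isComplement'_of_disjoint_and_mul_eq_univ ?_ ?_
    · rw [disjoint_iff, hN', hH']
      rw [eq_bot_iff]
      intro a ha
      obtain ⟨h1, h2⟩ := Subgroup.mem_inf.mp ha
      have : (a : G) ∈ N ⊓ H := ⟨h1, h2⟩
      rw [hdisj, Subgroup.mem_bot] at this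
      exact Subgroup.mem_bot.mpr (Subtype.ext this)
    · rw [Set.eq_univ_iff_forall]
      intro a
      obtain ⟨n, hn, h, hh, he⟩ := Subgroup.mem_sup_of_normal_left.mp a.2
      exact ⟨⟨n, Subgroup.mem_sup_left hn⟩, hn, ⟨h, Subgroup.mem_sup_right hh⟩, hh, Subtype.ext he⟩
  have hN'1 : N' ≠ ⊥ := by
    intro e
    rw [hN', Subgroup.subgroupOf_eq_bot, disjoint_iff] at e
    exact hN1 (by rwa [inf_eq_left.mpr (le_sup_left : N ≤ T)] at e)
  have hH'1 : H' ≠ ⊥ := by
    intro e
    rw [hH', Subgroup.subgroupOf_eq_bot, disjoint_iff] at e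
    exact hH (by rwa [inf_eq_left.mpr (le_sup_right : H ≤ T)] at e)
  have hfpf : ∀ h ∈ H', h ≠ 1 → N' ⊓ Subgroup.centralizer {h} = ⊥ := by
    intro h hh h1
    rw [eq_bot_iff]
    intro n hn
    obtain ⟨hnN, hnc⟩ := Subgroup.mem_inf.mp hn
    rw [Subgroup.mem_centralizer_singleton_iff] at hnc
    rw [Subgroup.mem_bot]
    apply Subtype.ext
    show (n : G) = 1
    have hhN : (h : G) ∉ N := fun hm => h1 (Subtype.ext (by
      have : (h : G) ∈ N ⊓ H := ⟨hm, hh⟩
      rwa [hdisj, Subgroup.mem_bot] at this))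
    have hcomm : Commute (h : G) (n : G) := (congrArg Subtype.val hnc).symm
    have ho : (orderOf (h : G)).Coprime (orderOf (n : G)) :=
      (hcop.symm.coprime_dvd_left (H.orderOf_dvd_natCard hh)).coprime_dvd_right
        (N.orderOf_dvd_natCard hnN)
    have : orderOf ((h : G) * (n : G)) = orderOf (h : G) := heq _ hhN (n : G) hnN
    rw [hcomm.orderOf_mul_eq_mul_orderOf_of_coprime ho] at this
    exact orderOf_eq_one_iff.mp ((Nat.mul_eq_left (orderOf_pos _).ne').mp this)
  have hF := Cfsg.Agent.Lib.Frobenius.isFrobeniusComplement_of_fpf hc hN'1 hH'1 hfpf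
  refine ⟨hF, Eq.symm ?_⟩
  refine Set.eq_of_subset_of_ncard_le ?_ ?_ (Set.toFinite _)
  · intro n hn
    rw [Cfsg.Agent.Lib.Frobenius.mem_frobeniusKernel_iff]
    by_cases h1 : n = 1
    · exact Or.inl h1
    right
    intro g hg
    have hm : g⁻¹ * n * g ∈ N' := Subgroup.Normal.conj_mem' inferInstance n hn g
    have hb : g⁻¹ * n * g ∈ N' ⊓ H' := ⟨hm, hg⟩
    rw [disjoint_iff.mp hc.disjoint, Subgroup.mem_bot] at hb
    apply h1
    have e : n = g * (g⁻¹ * n * g) * g⁻¹ := by group
    rw [e, hb]; group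
  · rw [← Nat.card_coe_set_eq, Cfsg.Agent.Lib.Frobenius.card_frobeniusKernel hF, hc.index_eq_card,
      ← Nat.card_coe_set_eq]
    rfl

end Cfsg.Agent.S4108
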