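import Cfsg.Statements.S4112
import Mathlib

set_option autoImplicit false
open Cfsg

namespace Cfsg.Agent.S4112

variable {G : Type*} [Group G] [Finite G] {N M : Subgroup G} [N.Normal] [M.Normal]

lemma coprime_of_fpf (hfp : ∀ x ∈ M, x ≠ 1 → Subgroup.centralizer ({x} : Set G) ≤ N) :
    N.index.Coprime (Nat.card M) := by
  rw [Nat.coprime_iff_gcd_eq_one]
  by_contra hne
  obtain ⟨q, hq, hqd⟩ := Nat.exists_prime_and_dvd hne
  haveI := Fact.mk hq
  obtain ⟨y, hy⟩ := exists_prime_orderOf_dvd_card' (G := M) q (hqd.trans (Nat.gcd_dvd_right _ _))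
  obtain ⟨Q, hQ⟩ := (IsPGroup.of_card (p := q) (n := 1) (by
    rw [Nat.card_zpowers, Subgroup.orderOf_coe, hy, pow_one]) :
      IsPGroup q (Subgroup.zpowers (y : G))).exists_le_sylow
  have hyQ : (y : G) ∈ (Q : Subgroup G) := hQ (Subgroup.mem_zpowers _)
  -- `Q` fixes a nontrivial point of `M ∩ Q`
  set MQ : Subgroup (Q : Subgroup G) := M.subgroupOf Q with hMQ
  haveI : MQ.Normal := Subgroup.Normal.subgroupOf inferInstance _
  have hdvd : q ∣ Nat.card MQ := by
    have h1 : (⟨(y : G), hyQ⟩ : (Q : Subgroup G)) ∈ MQ := y.2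
    have := Subgroup.orderOf_dvd_natCard MQ h1
    rwa [Subgroup.orderOf_mk, Subgroup.orderOf_coe, hy] at this
  obtain ⟨b, hb, hne⟩ := (Q.isPGroup'.of_equiv ConjAct.toConjAct).exists_fixed_point_of_prime_dvd_card_of_fixed_point
    MQ hdvd (a := 1) (fun g => smul_one g)
  have hbne : ((b : (Q : Subgroup G)) : G) ≠ 1 := fun e => hne (Subtype.ext (Subtype.ext e.symm))
  have hQN : (Q : Subgroup G) ≤ N := by
    intro a ha
    refine hfp _ b.2 hbne (Subgroup.mem_centralizer_singleton_iff.mpr ?_)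
    have e : a * (b : (Q : Subgroup G)).1 * a⁻¹ = (b : (Q : Subgroup G)).1 :=
      congrArg Subtype.val (congrArg Subtype.val (hb (ConjAct.toConjAct ⟨a, ha⟩)))
    exact mul_inv_eq_iff_eq_mul.mp e
  exact Q.not_dvd_index ((hqd.trans (Nat.gcd_dvd_left _ _)).trans (Subgroup.index_dvd_of_le hQN))

lemma fpf_of_coprime (hcam : ∀ g : G, g ∉ N → ∀ m ∈ M, ∃ x : G, x * g * x⁻¹ = g * m)
    (hcop : N.index.Coprime (Nat.card M)) :
    ∀ x ∈ M, x ≠ 1 → Subgroup.centralizer ({x} : Set G) ≤ N := by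
  intro x hx hx1 c hc
  rw [Subgroup.mem_centralizer_singleton_iff] at hc
  by_contra hcN
  set r := orderOf (c : G ⧸ N) with hr
  have hr1 : r ≠ 1 := by
    rw [hr, ne_eq, orderOf_eq_one_iff, QuotientGroup.eq_one_iff]; exact hcN
  obtain ⟨q, hq, hqr⟩ := Nat.exists_prime_and_dvd hr1
  have hn0 : orderOf c ≠ 0 := (orderOf_pos c).ne'
  have hrn : r ∣ orderOf c := orderOf_map_dvd (QuotientGroup.mk' N) c
  set e := orderOf c / q ^ (orderOf c).factorization q with he
  have hc' : c ^ e ∉ N := by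
    rw [← QuotientGroup.eq_one_iff, QuotientGroup.mk_pow, ← orderOf_dvd_iff_pow_eq_one]
    intro h
    exact Nat.not_dvd_ordCompl hq hn0 (hqr.trans h)
  have ho : orderOf (c ^ e) = q ^ (orderOf c).factorization q := by
    rw [orderOf_pow, Nat.gcd_eq_right (Nat.ordCompl_dvd _ q),
      Nat.div_div_self (Nat.ordProj_dvd _ q) hn0]
  have hqM : ¬ q ∣ Nat.card M := fun h =>
    hq.not_dvd_one (hcop ▸ Nat.dvd_gcd (hqr.trans (orderOf_dvd_natCard _)) h)
  have hxdvd : orderOf x ∣ Nat.card M := Subgroup.orderOf_dvd_natCard M hx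
  have hco : (orderOf (c ^ e)).Coprime (orderOf x) := by
    rw [ho]
    exact Nat.Coprime.pow_left _ ((hq.coprime_iff_not_dvd).mpr fun h => hqM (h.trans hxdvd))
  obtain ⟨u, hu⟩ := hcam _ hc' x hx
  have h2 : orderOf (c ^ e * x) = orderOf (c ^ e) := by
    rw [← hu, ← MulAut.conj_apply, MulEquiv.orderOf_eq]
  rw [((show Commute c x from hc).pow_left e).orderOf_mul_eq_mul_orderOf_of_coprime hco] at h2
  exact hx1 (orderOf_eq_one_iff.mp ((Nat.mul_eq_left (orderOf_pos _).ne').mp h2))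

lemma exists_supplement (hcop : N.index.Coprime (Nat.card M)) (hMN : M ≤ N) :
    ∃ H : Subgroup G, H ⊔ N = ⊤ ∧ H ⊓ M = ⊥ := by
  obtain ⟨H, hH, hmin⟩ := Set.Finite.exists_minimal (Set.toFinite {H : Subgroup G | H ⊔ N = ⊤})
    ⟨⊤, top_sup_eq N⟩
  refine ⟨H, hH, ?_⟩
  by_contra hne
  have hne1 : Nat.card (H ⊓ M : Subgroup G) ≠ 1 := fun h => hne (Subgroup.eq_bot_of_card_eq _ h)
  obtain ⟨q, hq, hqd⟩ := Nat.exists_prime_and_dvd hne1
  haveI := Fact.mk hq
  have hqM : q ∣ Nat.card M := hqd.trans (Subgroup.card_dvd_of_le inf_le_right)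
  have hqN : ¬ q ∣ N.index := fun h => hq.not_dvd_one (hcop ▸ Nat.dvd_gcd h hqM)
  set D : Subgroup H := N.subgroupOf H with hD
  haveI : D.Normal := Subgroup.Normal.subgroupOf inferInstance _
  obtain ⟨Q⟩ := (inferInstance : Nonempty (Sylow q D))
  set R : Subgroup H := (Q : Subgroup D).map D.subtype with hR
  have hfr : Subgroup.normalizer (R : Set H) ⊔ D = ⊤ := Sylow.normalizer_sup_eq_top Q
  have htop : Subgroup.normalizer (R : Set H) = ⊤ := by
    set L : Subgroup G := (Subgroup.normalizer (R : Set H)).map H.subtype with hL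
    have hLH : L ≤ H := Subgroup.map_subtype_le _
    have hsup : H ≤ L ⊔ N := by
      have h0 : (⊤ : Subgroup H).map H.subtype ≤ L ⊔ N := by
        rw [← hfr, Subgroup.map_sup]
        refine sup_le_sup le_rfl ?_
        rw [hD, Subgroup.subgroupOf_map_subtype]
        exact inf_le_left
      rwa [← MonoidHom.range_eq_map, Subgroup.range_subtype] at h0
    have hHL : H ≤ L := hmin (show L ⊔ N = ⊤ from top_le_iff.mp (hH ▸ sup_le hsup le_sup_right)) hLH
    rw [eq_top_iff]
    intro a _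
    obtain ⟨b, hb, hba⟩ := Subgroup.mem_map.mp (hHL a.2)
    exact (Subtype.ext hba : b = a) ▸ hb
  haveI hRn : R.Normal := Subgroup.normalizer_eq_top_iff.mp htop
  have hidx : R.index = D.index * (Q : Subgroup D).index := by
    rw [hR, Subgroup.index_map_subtype, mul_comm]
  have hcopR : (Nat.card R).Coprime R.index := by
    obtain ⟨k, hk⟩ := (Q.isPGroup'.map D.subtype).exists_card_eq
    rw [hR, hk]
    refine Nat.Coprime.pow_left _ (hq.coprime_iff_not_dvd.mpr fun h => ?_)
    rw [← hR, hidx] at h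
    rcases hq.dvd_mul.mp h with h | h
    · exact hqN (h.trans (Subgroup.relIndex_dvd_index_of_normal N H))
    · exact Q.not_dvd_index h
  obtain ⟨C, hC⟩ := Subgroup.exists_left_complement'_of_coprime hcopR
  have hRN : R.map H.subtype ≤ N := by
    rintro _ ⟨a, ha, rfl⟩
    obtain ⟨b, -, rfl⟩ := Subgroup.mem_map.mp ha
    exact b.2
  have hsup : C.map H.subtype ⊔ N = ⊤ := by
    refine top_le_iff.mp (hH ▸ sup_le ?_ le_sup_right)
    have h0 : (⊤ : Subgroup H).map H.subtype ≤ C.map H.subtype ⊔ N := by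
      rw [← hC.sup_eq_top, Subgroup.map_sup]
      exact sup_le_sup le_rfl hRN
    rwa [← MonoidHom.range_eq_map, Subgroup.range_subtype] at h0
  have hCtop : C = ⊤ := by
    rw [eq_top_iff]
    intro a _
    obtain ⟨b, hb, hba⟩ := Subgroup.mem_map.mp (hmin (show C.map H.subtype ⊔ N = ⊤ from hsup) (Subgroup.map_subtype_le C) a.2)
    exact (Subtype.ext hba : b = a) ▸ hb
  have hR1 : R = ⊥ := by
    have := disjoint_iff.mp hC.disjoint
    rwa [hCtop, top_inf_eq] at this
  have hqD : q ∣ Nat.card D := by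
    rw [hD, ← Subgroup.inf_subgroupOf_left,
      Nat.card_congr (Subgroup.subgroupOfEquivOfLe inf_le_left).toEquiv]
    exact hqd.trans (Subgroup.card_dvd_of_le (inf_le_inf_left _ hMN))
  refine Sylow.ne_bot_of_dvd_card Q hqD ?_
  have := hR1
  rwa [hR, Subgroup.map_eq_bot_iff_of_injective _ D.subtype_injective] at this

/-- Let G be a finite group and M ≤ N non-trivial proper normal subgroups such that for every g outside N the conjugacy class of g is a union of cosets of M (equivalently gm is conjugate to g for every m ∈ M). Then (1) and (2) below are equivalent, and they imply (3): (1) every g outside N acts fixed-point-freely on M, that is C_G(x) ≤ N for every x ∈ M, x ≠ 1; (2) the index of N in G is coprime to the order of M; (3) there is a subgroup H of G with HN = G and H ∩ M = 1. -/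
theorem result {G : Type*} [Group G] [Finite G] (N M : Subgroup G) [N.Normal] [M.Normal] (hMN : M ≤ N) (hM1 : M ≠ ⊥) (hN2 : N ≠ ⊤)
    (hcam : ∀ g : G, g ∉ N → ∀ m ∈ M, ∃ x : G, x * g * x⁻¹ = g * m) :
    ((∀ x ∈ M, x ≠ 1 → Subgroup.centralizer ({x} : Set G) ≤ N) ↔ N.index.Coprime (Nat.card M)) ∧
    ((∀ x ∈ M, x ≠ 1 → Subgroup.centralizer ({x} : Set G) ≤ N) → ∃ H : Subgroup G, H ⊔ N = ⊤ ∧ H ⊓ M = ⊥) := by
  refine ⟨⟨coprime_of_fpf, fpf_of_coprime hcam⟩, fun h => ?_⟩
  exact exists_supplement (coprime_of_fpf h) hMN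

end Cfsg.Agent.S4112
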