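import Cfsg.Statements.S4113
import Mathlib

set_option autoImplicit false
open Cfsg

namespace Cfsg.Agent.S4113

/-- Let G be a finite group, M ≤ N non-trivial proper normal subgroups, and H a subgroup with HM = G and H ∩ M = 1. Then every element of G outside N acts fixed-point-freely on M (C_G(x) ≤ N for every x ∈ M, x ≠ 1) if and only if H ∩ gHg⁻¹ ≤ H ∩ N for every g outside H, with H proper and non-trivial and H ∩ N proper in H. -/
theorem result {G : Type*} [Group G] [Finite G] (N M : Subgroup G) [N.Normal] [M.Normal] (hMN : M ≤ N) (hM1 : M ≠ ⊥) (hN2 : N ≠ ⊤)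
    (H : Subgroup G) (hHM : H ⊔ M = ⊤) (hHM' : H ⊓ M = ⊥) :
    (∀ x ∈ M, x ≠ 1 → Subgroup.centralizer ({x} : Set G) ≤ N) ↔
      (H ≠ ⊥ ∧ H ≠ ⊤ ∧ H ⊓ N < H ∧ ∀ g : G, g ∉ H → H ⊓ H.map (MulAut.conj g).toMonoidHom ≤ N) := by
  constructor
  · intro hfp
    refine ⟨?_, ?_, ?_, ?_⟩
    · intro h
      rw [h, bot_sup_eq] at hHM
      exact hN2 (top_le_iff.mp (hHM ▸ hMN))
    · intro h
      rw [h, top_inf_eq] at hHM'
      exact hM1 hHM'
    · refine lt_of_le_of_ne inf_le_left fun h => hN2 (top_le_iff.mp ?_)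
      rw [← hHM]
      exact sup_le (inf_eq_left.mp h) hMN
    · intro g hg x hx
      obtain ⟨hxH, hx'⟩ := Subgroup.mem_inf.mp hx
      obtain ⟨k, hk, rfl⟩ := Subgroup.mem_map.mp hx'
      have hgt : g ∈ H ⊔ M := hHM ▸ Subgroup.mem_top g
      obtain ⟨a, ha, m, hm, rfl⟩ := Subgroup.mem_sup_of_normal_right.mp hgt
      simp only [MulEquiv.coe_toMonoidHom, MulAut.conj_apply] at hxH ⊢
      have hx1 : m * k * m⁻¹ ∈ H := by
        have : m * k * m⁻¹ = a⁻¹ * (a * m * k * (a * m)⁻¹) * a := by group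
        rw [this]; exact mul_mem (mul_mem (inv_mem ha) hxH) ha
      have hMH : m * k * m⁻¹ * k⁻¹ ∈ H ⊓ M := by
        refine Subgroup.mem_inf.mpr ⟨mul_mem hx1 (H.inv_mem hk), ?_⟩
        have : m * k * m⁻¹ * k⁻¹ = m * (k * m⁻¹ * k⁻¹) := by group
        rw [this]
        exact mul_mem hm (Subgroup.Normal.conj_mem inferInstance _ (inv_mem hm) k)
      rw [hHM', Subgroup.mem_bot, mul_inv_eq_one] at hMH
      have hm1 : m ≠ 1 := by
        intro h1
        exact hg (by simpa [h1] using ha)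
      have hkN : k ∈ N := hfp m hm hm1 (Subgroup.mem_centralizer_singleton_iff.mpr (by
        conv_lhs => rw [← hMH]
        group))
      exact Subgroup.Normal.conj_mem inferInstance _ hkN _
  · rintro ⟨-, -, -, hTI⟩ x hx hx1 c hc
    rw [Subgroup.mem_centralizer_singleton_iff] at hc
    have hct : c ∈ H ⊔ M := hHM ▸ Subgroup.mem_top c
    obtain ⟨h, hh, m, hm, rfl⟩ := Subgroup.mem_sup_of_normal_right.mp hct
    refine mul_mem ?_ (hMN hm)
    by_contra hhN
    have key : ∀ y ∈ M, y ≠ 1 → y * h * y⁻¹ ≠ h := by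
      intro y hy hy1 he
      have hyH : y ∉ H := fun hyH => hy1 (by
        have : y ∈ H ⊓ M := ⟨hyH, hy⟩
        rwa [hHM', Subgroup.mem_bot] at this)
      exact hhN (hTI y hyH ⟨hh, Subgroup.mem_map.mpr ⟨h, hh, by simpa using he⟩⟩)
    let f : M → M := fun a => ⟨h⁻¹ * (a : G) * h * (a : G)⁻¹,
      mul_mem (Subgroup.Normal.conj_mem' inferInstance _ a.2 h) (inv_mem a.2)⟩
    have hinj : Function.Injective f := by
      intro a b hab
      have hab' : h⁻¹ * (a : G) * h * (a : G)⁻¹ = h⁻¹ * (b : G) * h * (b : G)⁻¹ :=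
        congrArg Subtype.val hab
      rw [mul_assoc, mul_assoc, mul_assoc h⁻¹ (b : G) h, mul_assoc h⁻¹, mul_right_inj,
        ← mul_assoc] at hab'
      by_contra hne
      refine key ((b : G)⁻¹ * a) (mul_mem (inv_mem b.2) a.2) ?_ ?_
      · intro h1
        exact hne (Subtype.ext (inv_mul_eq_one.mp h1).symm)
      · calc (b : G)⁻¹ * a * h * ((b : G)⁻¹ * a)⁻¹ = (b : G)⁻¹ * (a * h * (a : G)⁻¹) * b := by group
          _ = h := by rw [hab']; group
    obtain ⟨a, ha⟩ := Finite.surjective_of_injective hinj ⟨m, hm⟩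
    have ha' : h⁻¹ * (a : G) * h * (a : G)⁻¹ = m := congrArg Subtype.val ha
    have hy : (a : G)⁻¹ * x * a ≠ 1 := fun e => hx1 (by
      have : x = a * ((a : G)⁻¹ * x * a) * (a : G)⁻¹ := by group
      rw [this, e]; group)
    refine key _ (Subgroup.Normal.conj_mem' inferInstance _ hx _) hy ?_
    have hhm : h * m = (a : G) * h * (a : G)⁻¹ := by rw [← ha']; group
    rw [hhm] at hc
    calc (a : G)⁻¹ * x * a * h * ((a : G)⁻¹ * x * a)⁻¹
        = (a : G)⁻¹ * (x * ((a : G) * h * (a : G)⁻¹)) * x⁻¹ * a := by group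
      _ = h := by rw [← hc]; group

end Cfsg.Agent.S4113
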