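import Cfsg.Statements.S4115
import Mathlib
import Cfsg.Agent.Lib.TIHall.FrobeniusComplement

set_option autoImplicit false
universe u
open Cfsg

namespace Cfsg.Agent.S4115

/-- Let G be a finite group and H a subgroup that meets each of its conjugates by elements outside N_G(H) trivially and whose order is coprime to its index in N_G(H). Then H has a normal complement in N_G(H) if and only if H has a normal complement in G. Moreover, if H is not normal in G and has a normal complement in N_G(H), then H is isomorphic to a Frobenius complement of some finite Frobenius group. -/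
theorem result {G : Type u} [Group G] [Finite G] (H : Subgroup G)
    (hTI : Cfsg.IsTISubset (H : Set G)) (hHall : (Nat.card H).Coprime (H.subgroupOf (Subgroup.normalizer (H : Set G))).index) :
    ((∃ K : Subgroup (Subgroup.normalizer (H : Set G)), K.Normal ∧ K.IsComplement' (H.subgroupOf (Subgroup.normalizer (H : Set G)))) ↔
      (∃ N : Subgroup G, N.Normal ∧ N.IsComplement' H)) ∧
    (¬ H.Normal → (∃ K : Subgroup (Subgroup.normalizer (H : Set G)), K.Normal ∧ K.IsComplement' (H.subgroupOf (Subgroup.normalizer (H : Set G)))) →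
      ∃ (F : Type u) (_ : Group F) (_ : Finite F) (C : Subgroup F), Cfsg.IsFrobeniusComplement C ∧ Nonempty (H ≃* C)) := by
  refine ⟨⟨fun hK => Lib.TIHall.exists_normal_complement hTI hHall hK, ?_⟩, fun hnn hK => ?_⟩
  · rintro ⟨M, hM, hMc⟩
    haveI := hM
    refine ⟨M.subgroupOf (Subgroup.normalizer (H : Set G)), inferInstance, ?_⟩
    refine Subgroup.isComplement'_of_disjoint_and_mul_eq_univ ?_ ?_
    · rw [disjoint_iff, eq_bot_iff]
      rintro x ⟨hxM, hxH⟩
      exact Subgroup.mem_bot.mpr (Subtype.ext (Subgroup.mem_bot.mp (hMc.disjoint.le_bot ⟨hxM, hxH⟩)))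
    · refine Set.eq_univ_of_forall fun x => ?_
      obtain ⟨⟨⟨m, hm⟩, ⟨h, hh⟩⟩, hmh⟩ := hMc.2 (x : G)
      have hmh' : m * h = (x : G) := hmh
      have hmN : m ∈ Subgroup.normalizer (H : Set G) := by
        have := mul_mem x.2 (inv_mem (Subgroup.le_normalizer hh))
        rwa [← hmh', mul_inv_cancel_right] at this
      exact ⟨⟨m, hmN⟩, hm, ⟨h, Subgroup.le_normalizer hh⟩, hh, Subtype.ext hmh'⟩
  · obtain ⟨M, hM, hMc⟩ := Lib.TIHall.exists_normal_complement hTI hHall hK
    haveI := hM
    exact Lib.TIHall.exists_frobenius hTI hMc (Lib.TIHall.coprime_index hTI hHall) hnn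

end Cfsg.Agent.S4115
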