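import Cfsg.Statements.S4116
import Mathlib
import Cfsg.Agent.Lib.Frobenius.Basic

set_option autoImplicit false
open Cfsg

namespace Cfsg.Agent.S4116

open Cfsg.Agent.Lib.Frobenius
open scoped Pointwise

variable {G : Type*} [Group G] [Finite G] {H : Subgroup G}

/-- Elements of `N(H)` whose order only involves primes of `|H|` lie in `H`. -/
lemma mem_of_mem_normalizer (hHall : (Nat.card H).Coprime H.index) {y : G}
    (hy : y ∈ Subgroup.normalizer (H : Set G))
    (hπ : ∀ q : ℕ, q.Prime → q ∣ orderOf y → q ∣ Nat.card H) : y ∈ H := by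
  set N := Subgroup.normalizer (H : Set G) with hN
  haveI : (H.subgroupOf N).Normal := Subgroup.normal_in_normalizer
  have h1 : orderOf ((⟨y, hy⟩ : N) : N ⧸ H.subgroupOf N) ∣ orderOf y := by
    rw [← Subgroup.orderOf_mk y hy]
    exact orderOf_map_dvd (QuotientGroup.mk' (H.subgroupOf N)) _
  have h2 : orderOf ((⟨y, hy⟩ : N) : N ⧸ H.subgroupOf N) ∣ H.index :=
    (orderOf_dvd_natCard _).trans (Subgroup.relIndex_dvd_index_of_le (H := H) (K := N) Subgroup.le_normalizer)
  have h3 : orderOf ((⟨y, hy⟩ : N) : N ⧸ H.subgroupOf N) = 1 := by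
    by_contra hne
    obtain ⟨q, hq, hqd⟩ := Nat.exists_prime_and_dvd hne
    exact hq.not_dvd_one (hHall ▸ Nat.dvd_gcd (hπ q hq (hqd.trans h1)) (hqd.trans h2))
  rw [orderOf_eq_one_iff, QuotientGroup.eq_one_iff] at h3
  exact h3

/-- Two conjugates of `H` with a common nontrivial element coincide. -/
lemma conj_eq (hTI : Cfsg.IsTISubset (H : Set G)) {x a b : G} (hx : x ≠ 1)
    (ha : a⁻¹ * x * a ∈ H) (hb : b⁻¹ * x * b ∈ H) :
    b⁻¹ * a ∈ Subgroup.normalizer (H : Set G) := by
  by_contra hn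
  have := hTI _ hn (a⁻¹ * x * a) ha (by
    have : b⁻¹ * a * (a⁻¹ * x * a) * (b⁻¹ * a)⁻¹ = b⁻¹ * x * b := by group
    rw [SetLike.mem_coe, this]; exact hb)
  exact hx (by
    have e : x = a * (a⁻¹ * x * a) * a⁻¹ := by group
    rw [e, this]; group)

/-- the intersection of `K` with the `g`-conjugate of `H`, inside `K` -/
def part (H K : Subgroup G) (g : G) : Subgroup K :=
  (H.comap (MulAut.conj g⁻¹).toMonoidHom).subgroupOf K

lemma mem_part {K : Subgroup G} {g : G} {x : K} : x ∈ part H K g ↔ g⁻¹ * (x : G) * g ∈ H := by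
  simp [part, Subgroup.mem_subgroupOf]

/-- Let G be a finite group with a subgroup H whose order is coprime to its index (a Hall subgroup) and which meets each of its conjugates by elements outside N_G(H) trivially. Then every subgroup of G whose order is divisible only by primes dividing the order of H lies in a conjugate of H. -/
theorem result {G : Type*} [Group G] [Finite G] (H : Subgroup G)
    (hHall : (Nat.card H).Coprime H.index) (hTI : Cfsg.IsTISubset (H : Set G))
    (K : Subgroup G) (hK : ∀ q : ℕ, q.Prime → q ∣ Nat.card K → q ∣ Nat.card H) :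
    ∃ g : G, K ≤ H.map (MulAut.conj g).toMonoidHom := by
  by_contra hno
  have hnot : ∀ g : G, part H K g ≠ ⊤ := by
    intro g hg
    refine hno ⟨g, fun x hx => Subgroup.mem_map.mpr ⟨g⁻¹ * x * g, ?_, by simp [mul_assoc]⟩⟩
    exact mem_part.mp (hg ▸ Subgroup.mem_top (⟨x, hx⟩ : K))
  have hord : ∀ k : K, ∀ q : ℕ, q.Prime → q ∣ orderOf (k : G) → q ∣ Nat.card H := by
    intro k q hq hd
    rw [Subgroup.orderOf_coe] at hd
    exact hK q hq (hd.trans (orderOf_dvd_natCard k))
  have hclosed : ∀ (g : G) (k x : K), x ≠ 1 → x ∈ part H K g → k * x * k⁻¹ ∈ part H K g →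
      k ∈ part H K g := by
    intro g k x hx1 hx hk
    rw [mem_part] at hx hk ⊢
    have hn := conj_eq hTI (x := (x : G)) (a := g) (b := (k : G)⁻¹ * g)
      (fun e => hx1 (Subtype.ext e)) hx (by
        simpa [mul_assoc] using hk)
    refine mem_of_mem_normalizer hHall ?_ ?_
    · simpa [mul_assoc] using hn
    · intro q hq hd
      have : orderOf (g⁻¹ * (k : G) * g) = orderOf (k : G) := by
        have := (MulAut.conj g⁻¹).orderOf_eq (k : G)
        simpa [MulAut.conj_apply] using this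
      exact hord k q hq (this ▸ hd)
  have hFr : ∀ g : G, part H K g ≠ ⊥ → Cfsg.IsFrobeniusComplement (part H K g) := by
    intro g hg
    refine ⟨hg, hnot g, fun k hk => ?_⟩
    rw [eq_bot_iff]
    intro x hx
    obtain ⟨hx1, hx2⟩ := Subgroup.mem_inf.mp hx
    rw [mem_conj_smul_iff] at hx2
    rw [Subgroup.mem_bot]
    by_contra hne
    refine hk (hclosed g k (k⁻¹ * x * k) ?_ hx2 (by simpa [mul_assoc] using hx1))
    intro e
    exact hne (by
      have : x = k * (k⁻¹ * x * k) * k⁻¹ := by group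
      rw [this, e]; group)
  -- every nontrivial element of `K` lies in a conjugate of `H`
  have hcov : ∀ x : K, x ≠ 1 → ∃ g : G, x ∈ part H K g := by
    intro x hx
    have hne : orderOf (x : G) ≠ 1 := by
      rw [Subgroup.orderOf_coe]; exact fun h => hx (orderOf_eq_one_iff.mp h)
    obtain ⟨q, hq, hqd⟩ := Nat.exists_prime_and_dvd hne
    haveI := Fact.mk hq
    set y := x ^ (orderOf x / q) with hy
    have hyo : orderOf y = q := orderOf_pow_orderOf_div (orderOf_pos x).ne'
      (by rwa [Subgroup.orderOf_coe] at hqd)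
    have hqH : q ∣ Nat.card H := hord x q hq hqd
    have hyp : IsPGroup q (Subgroup.zpowers (y : G)) := by
      refine IsPGroup.of_card (n := 1) ?_
      rw [Nat.card_zpowers, Subgroup.orderOf_coe, hyo, pow_one]
    obtain ⟨P, hP⟩ := hyp.exists_le_sylow
    obtain ⟨Q⟩ := (inferInstance : Nonempty (Sylow q H))
    let Q' : Subgroup G := (Q : Subgroup H).map H.subtype
    have hQp : IsPGroup q Q' := Q.isPGroup'.map _
    have hQi : ¬ q ∣ Q'.index := by
      rw [Subgroup.index_map_subtype]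
      intro h
      rcases hq.dvd_mul.mp h with h | h
      · exact Q.not_dvd_index h
      · exact hq.not_dvd_one (hHall ▸ Nat.dvd_gcd hqH h)
    obtain ⟨c, hc⟩ := MulAction.exists_smul_eq G (hQp.toSylow hQi) P
    have hyP : (y : G) ∈ P := hP (Subgroup.mem_zpowers _)
    rw [← hc] at hyP
    change (y : G) ∈ (MulAut.conj c • Q') at hyP
    rw [mem_conj_smul_iff] at hyP
    have hyH : c⁻¹ * (y : G) * c ∈ H := Subgroup.map_subtype_le _ hyP
    refine ⟨c, hclosed c x y ?_ (mem_part.mpr hyH) ?_⟩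
    · intro e; rw [e, orderOf_one] at hyo; exact hq.ne_one hyo.symm
    · rw [(Commute.pow_right (Commute.refl x) _).eq, mul_inv_cancel_right]
      exact mem_part.mpr hyH
  have hKne : (⊥ : Subgroup K) ≠ ⊤ := by
    intro h
    exact hnot 1 (top_le_iff.mp (h ▸ bot_le))
  obtain ⟨x, hx⟩ : ∃ x : K, x ≠ 1 := by
    by_contra h
    push Not at h
    exact hKne (top_le_iff.mp fun y _ => (h y).symm ▸ one_mem _)
  obtain ⟨g₁, hg₁⟩ := hcov x hx
  have hb₁ : part H K g₁ ≠ ⊥ := fun h => hx (Subgroup.mem_bot.mp (h ▸ hg₁))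
  have F₁ := hFr g₁ hb₁
  set A := part H K g₁ with hA
  have hdisj : ∀ (g₂ : G), ∀ z : K, z ∈ conjUnion A → z ∈ conjUnion (part H K g₂) →
      ∀ w : K, w ∈ conjUnion (part H K g₂) → w ∈ conjUnion A := by
    intro g₂ z hz1 hz2 w hw
    obtain ⟨hz, a, ha⟩ := hz1
    obtain ⟨-, b, hb⟩ := hz2
    obtain ⟨hw1, c, hcw⟩ := hw
    rw [mem_part] at hb hcw
    rw [hA, mem_part] at ha
    refine ⟨hw1, c * b⁻¹ * a, ?_⟩
    rw [hA, mem_part]
    have hn := conj_eq hTI (x := (z : G)) (a := (b : G) * g₂) (b := (a : G) * g₁)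
      (fun e => hz (Subtype.ext e)) (by simpa [mul_assoc] using hb) (by simpa [mul_assoc] using ha)
    have := (Subgroup.mem_normalizer_iff.mp hn (g₂⁻¹ * ((c⁻¹ * w * c : K) : G) * g₂)).mp hcw
    simpa [mul_assoc] using this
  have hn1 := card_conjUnion F₁
  have hA2 : 2 ≤ Nat.card A := A.one_lt_card_iff_ne_bot.mpr hb₁
  have hcard := Subgroup.card_mul_index A
  have hi1 := one_lt_index F₁
  obtain ⟨z, hz1, hz2⟩ : ∃ z : K, z ≠ 1 ∧ z ∉ conjUnion A := by
    by_contra h
    push Not at h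
    have hsub : ({1}ᶜ : Set K) ⊆ conjUnion A := fun z hz => h z hz
    have := Nat.card_mono (Set.toFinite _) hsub
    rw [hn1, Nat.card_coe_set_eq, Set.ncard_compl, Set.ncard_singleton, ← hcard,
      Nat.mul_sub, mul_one, mul_comm A.index] at this
    have : A.index ≤ Nat.card A * A.index := Nat.le_mul_of_pos_left _ (by omega)
    omega
  obtain ⟨g₂, hg₂⟩ := hcov z hz1
  have hb₂ : part H K g₂ ≠ ⊥ := fun h => hz1 (Subgroup.mem_bot.mp (h ▸ hg₂))
  have hn2 := card_conjUnion (hFr g₂ hb₂)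
  have hB2 : 2 ≤ Nat.card (part H K g₂) := (part H K g₂).one_lt_card_iff_ne_bot.mpr hb₂
  have hcard2 := Subgroup.card_mul_index (part H K g₂)
  have hd : Disjoint (conjUnion A) (conjUnion (part H K g₂)) := by
    rw [Set.disjoint_left]
    intro u hu1 hu2
    exact hz2 (hdisj g₂ u hu1 hu2 z ⟨hz1, 1, by simpa using hg₂⟩)
  have hle : Nat.card (conjUnion A) + Nat.card (conjUnion (part H K g₂)) ≤ Nat.card K - 1 := by
    rw [Nat.card_coe_set_eq, Nat.card_coe_set_eq, ← Set.ncard_union_eq hd]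
    refine (Set.ncard_le_ncard (t := ({1}ᶜ : Set K)) ?_ (Set.toFinite _)).trans ?_
    · rintro u (hu | hu) <;> exact hu.1
    · rw [Set.ncard_compl, Set.ncard_singleton]
  rw [hn1, hn2] at hle
  have hK0 : 0 < Nat.card K := Nat.card_pos
  have e1 : Nat.card K ≤ 2 * (A.index * (Nat.card A - 1)) := by
    rw [← hcard, mul_comm (Nat.card A), mul_left_comm]
    exact Nat.mul_le_mul_left _ (by omega)
  have e2 : Nat.card K ≤ 2 * ((part H K g₂).index * (Nat.card (part H K g₂) - 1)) := by
    rw [← hcard2, mul_comm (Nat.card (part H K g₂)), mul_left_comm]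
    exact Nat.mul_le_mul_left _ (by omega)
  omega

end Cfsg.Agent.S4116
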