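import Cfsg.Statements.S4117
import Cfsg.Agent.Lib.Coprime.Semidirect

set_option autoImplicit false
open Cfsg

namespace Cfsg.Agent.S4117


open Subgroup
open scoped commutatorElement

/-- In a finite cyclic group the elements of order dividing `q` form one cyclic group. -/
theorem mem_zpowers_of_isCyclic {H : Type*} [Group H] [Finite H] [IsCyclic H] {q : ℕ} (hq : q.Prime)
    {x y : H} (hx : orderOf x = q) (hy : y ^ q = 1) : y ∈ zpowers x := by
  classical
  haveI := Fintype.ofFinite H
  have hle : Finset.univ.filter (fun z : H => z ∈ zpowers x) ⊆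
      Finset.univ.filter (fun z : H => z ^ q = 1) := by
    intro z hz
    simp only [Finset.mem_filter, Finset.mem_univ, true_and] at hz ⊢
    obtain ⟨i, rfl⟩ := mem_zpowers_iff.mp hz
    rw [← zpow_natCast, ← zpow_mul, mul_comm, zpow_mul, zpow_natCast, ← hx, pow_orderOf_eq_one,
      one_zpow]
  have heq := Finset.eq_of_subset_of_card_le hle ((IsCyclic.card_pow_eq_one_le hq.pos).trans_eq (by
    rw [← hx, ← Nat.card_zpowers, Nat.card_eq_fintype_card, Fintype.card_subtype]))
  have : y ∈ Finset.univ.filter (fun z : H => z ^ q = 1) := by simpa using hy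
  rw [← heq] at this
  simpa using this

/-- The structure statement inside the semidirect product. -/
theorem structure_thm {A G : Type*} [Group A] [Finite A] [Group G] [Finite G] (φ : A →* MulAut G)
    (hcop : (Nat.card A).Coprime (Nat.card G)) [IsZGroup G] (C : Subgroup G)
    (hC : ∀ g, g ∈ C ↔ ∀ a, φ a g = g) (N : Subgroup G)
    (hN : N = closure {y : G | ∃ (a : A) (g : G), y = g⁻¹ * φ a g}) :
    (Nat.card C).Coprime (Nat.card G / Nat.card C) ∧ IsCyclic N ∧ N.Normal ∧
      N ⊓ C = ⊥ ∧ N ⊔ C = ⊤ := by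
  haveI := Cfsg.Agent.Lib.Coprime.finite_semidirect φ
  set f : G →* G ⋊[φ] A := SemidirectProduct.inl with hf
  have hfi : Function.Injective f := SemidirectProduct.inl_injective
  set A' := (SemidirectProduct.inr : A →* G ⋊[φ] A).range with hA'
  set G' := (⊤ : Subgroup G).map f with hG'
  have hAG : A' ≤ normalizer (G' : Set (G ⋊[φ] A)) :=
    Cfsg.Agent.Lib.Coprime.inr_range_le_normalizer_map φ fun _ _ _ => mem_top _
  have hcop' : (Nat.card A').Coprime (Nat.card G') := by
    rw [hA', hG', Cfsg.Agent.Lib.Coprime.card_inr_range, Cfsg.Agent.Lib.Coprime.card_map_inl,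
      card_top]
    exact hcop
  have hNmap : ⁅G', A'⁆ = N.map f := by
    rw [hG', hA', hf, Cfsg.Agent.Lib.Coprime.commutator_map_inl, hN]
    congr 2
    ext y
    constructor
    · rintro ⟨a, h, -, rfl⟩; exact ⟨a, h⁻¹, by rw [inv_inv]⟩
    · rintro ⟨a, g, rfl⟩; exact ⟨a, g⁻¹, mem_top _, by rw [inv_inv]⟩
  have hCmap : G' ⊓ centralizer (A' : Set (G ⋊[φ] A)) = C.map f := by
    ext y
    constructor
    · rintro ⟨⟨g, -, rfl⟩, hy⟩
      exact ⟨g, (hC g).mpr ((Cfsg.Agent.Lib.Coprime.mem_centralizer_inr_iff φ).mp hy), rfl⟩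
    · rintro ⟨g, hg, rfl⟩
      exact ⟨⟨g, mem_top _, rfl⟩,
        (Cfsg.Agent.Lib.Coprime.mem_centralizer_inr_iff φ).mpr ((hC g).mp hg)⟩
  have hsolvG : ∀ H : Subgroup G, Group.IsSolvable (H.map f) := fun H => by
    haveI : Group.IsSolvable G := inferInstance
    exact Group.isSolvable_of_surjective (f.subgroupMap_surjective H)
  -- `N` is normal and `G = N C`
  have htop : N ⊔ C = ⊤ := by
    apply map_injective hfi
    rw [Subgroup.map_sup, ← hNmap, ← hCmap]
    refine Cfsg.Agent.Lib.Coprime.commutator_sup_centralizer hAG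
      (Cfsg.Agent.Lib.Coprime.coprime_of_le_right
        (Cfsg.Agent.Lib.Coprime.commutator_le_of_le_normalizer hAG) hcop')
      (Or.inr ?_)
    rw [hNmap]; exact hsolvG N
  haveI hNn : N.Normal := ⟨fun x hx g => by
    have h := Cfsg.Agent.Lib.Coprime.conj_mem_of_le_normalizer
      (normalizer_commutator_ge_left G' A') (show f g ∈ G' from ⟨g, mem_top g, rfl⟩)
      (show f x ∈ ⁅G', A'⁆ by rw [hNmap]; exact ⟨x, hx, rfl⟩)
    rw [hNmap, ← map_inv, ← map_mul, ← map_mul] at h
    obtain ⟨z, hz, hze⟩ := h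
    exact hfi hze ▸ hz⟩
  -- `N` centralises the derived subgroup
  set K := commutator G with hK
  haveI hKc : IsCyclic K := IsZGroup.isCyclic_commutator G
  have hNK : N ≤ centralizer (K : Set G) := by
    rw [hN, closure_le]
    rintro _ ⟨a, g, rfl⟩
    refine mem_centralizer_iff.mpr fun k hk => ?_
    obtain ⟨z, hz⟩ := IsCyclic.exists_generator (α := K)
    -- every endomorphism of the cyclic group `K` is a power map
    have hchar : ∀ (e : G ≃* G) (y : G), y ∈ K → e y ∈ K := fun e y hy =>
      characteristic_iff_map_le.mp (inferInstance : K.Characteristic) e ⟨y, hy, rfl⟩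
    have hpow : ∀ e : G ≃* G, ∃ m : ℤ, ∀ y ∈ K, e y = y ^ m := by
      intro e
      obtain ⟨m, hm⟩ := mem_zpowers_iff.mp (hz ⟨e z, hchar e z z.2⟩)
      refine ⟨m, fun y hy => ?_⟩
      obtain ⟨i, hi⟩ := mem_zpowers_iff.mp (hz ⟨y, hy⟩)
      have hi' : (z : G) ^ i = y := by simpa using congrArg Subtype.val hi
      have hm' : (z : G) ^ m = e z := by simpa using congrArg Subtype.val hm
      rw [← hi', map_zpow, ← hm', ← zpow_mul, ← zpow_mul, mul_comm]
    obtain ⟨n, hn⟩ := hpow (φ a)
    obtain ⟨m, hm⟩ := hpow (MulAut.conj g)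
    obtain ⟨m', hm'⟩ := hpow (MulAut.conj (φ a g))
    have h1 : ∀ y ∈ K, g * y * g⁻¹ = y ^ m := fun y hy => by simpa using hm y hy
    have h2 : ∀ y ∈ K, φ a g * y * (φ a g)⁻¹ = g * y * g⁻¹ := by
      intro y hy
      obtain ⟨w, hw⟩ : ∃ w, φ a w = y := ⟨(φ a).symm y, (φ a).apply_symm_apply y⟩
      have hwK : w ∈ K := by
        have := hchar (φ a).symm y hy
        rwa [← hw, MulEquiv.symm_apply_apply] at this
      rw [← hw]
      conv_lhs => rw [← map_inv, ← map_mul, ← map_mul, h1 w hwK, map_zpow]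
      rw [h1 _ (hw ▸ hy)]
    calc k * (g⁻¹ * φ a g) = g⁻¹ * (g * k * g⁻¹) * φ a g := by group
      _ = g⁻¹ * (φ a g * k * (φ a g)⁻¹) * φ a g := by rw [h2 k hk]
      _ = g⁻¹ * φ a g * k := by group
  -- `N` is cyclic
  haveI hNc : IsCyclic N := by
    haveI : IsZGroup N := inferInstance
    set π : N →* Abelianization G := Abelianization.of.comp N.subtype with hπ
    haveI : IsCyclic π.range := inferInstance
    have hcomm : ∀ x y : N, x * y = y * x := by
      have := MonoidHom.isMulCommutative_of_isCyclic_of_ker_le_center π.rangeRestrict (by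
        intro x hx
        rw [MonoidHom.ker_rangeRestrict, MonoidHom.mem_ker] at hx
        rw [mem_center_iff]
        intro y
        have hxK : (x : G) ∈ K := by
          rw [hK, ← Abelianization.ker_of]; exact MonoidHom.mem_ker.mpr hx
        exact Subtype.ext (mem_centralizer_iff.mp (hNK y.2) x hxK).symm)
      exact fun x y => this.is_comm.comm x y
    haveI : Group.IsNilpotent N := by
      letI : CommGroup N := { (inferInstance : Group N) with mul_comm := hcomm }
      infer_instance
    infer_instance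
  -- fixed points meet `N` trivially
  have hNC : N ⊓ C = ⊥ := by
    apply map_injective hfi
    rw [map_inf _ _ _ hfi, Subgroup.map_bot, ← hCmap]
    haveI : IsMulCommutative (N.map f) := by
      haveI : IsCyclic (N.map f) := isCyclic_of_surjective (N.equivMapOfInjective f hfi)
        (MulEquiv.surjective _)
      infer_instance
    have hAN : A' ≤ normalizer ((N.map f : Subgroup (G ⋊[φ] A)) : Set (G ⋊[φ] A)) :=
      hNmap ▸ normalizer_commutator_ge_right G' A'
    have hcopN : (Nat.card A').Coprime (Nat.card (N.map f)) :=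
      Cfsg.Agent.Lib.Coprime.coprime_of_le_right (map_mono le_top) hcop'
    have hNA : ⁅N.map f, A'⁆ = N.map f := by
      rw [← hNmap]
      exact Cfsg.Agent.Lib.Coprime.commutator_commutator_eq hAG (hNmap ▸ hcopN)
    have := Cfsg.Agent.Lib.Coprime.inf_centralizer_inf_commutator_eq_bot hAN hcopN
    rw [hNA] at this
    rw [eq_bot_iff, ← this]
    intro y hy
    exact ⟨⟨hy.1, hy.2.2⟩, hy.1⟩
  have hcard : Nat.card N * Nat.card C = Nat.card G :=
    IsComplement'.card_mul_card (isComplement'_of_disjoint_and_mul_eq_univ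
      (disjoint_iff.mpr hNC) (by rw [← normal_mul, htop]; rfl))
  refine ⟨?_, hNc, hNn, hNC, htop⟩
  rw [← hcard, Nat.mul_div_cancel _ Nat.card_pos]
  -- coprimality
  by_contra hnot
  obtain ⟨q, hq, hqC, hqN⟩ := Nat.Prime.not_coprime_iff_dvd.mp hnot
  haveI := Fact.mk hq
  obtain ⟨x, hx⟩ := exists_prime_orderOf_dvd_card' (G := N) q hqN
  obtain ⟨y, hy⟩ := exists_prime_orderOf_dvd_card' (G := C) q hqC
  rw [← Subgroup.orderOf_coe] at hx hy
  have hy1 : (y : G) ≠ 1 := fun h => by rw [h, orderOf_one] at hy; exact hq.one_lt.ne hy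
  have hKcop := IsZGroup.coprime_commutator_index G
  have hyN : (y : G) ∉ N := fun h => hy1 (mem_bot.mp (hNC ▸ ⟨h, y.2⟩))
  by_cases hqK : q ∣ Nat.card K
  · -- both elements lie in the cyclic group `K`
    have hin : ∀ z : G, orderOf z = q → z ∈ K := by
      intro z hz
      have h1 : orderOf (Abelianization.of z) ∣ q := hz ▸ orderOf_map_dvd _ z
      have h2 : orderOf (Abelianization.of z) ∣ K.index := by
        rw [hK, index_eq_card]; exact orderOf_dvd_natCard _
      have h3 : orderOf (Abelianization.of z) = 1 :=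
        Nat.eq_one_of_dvd_coprimes (hKcop.coprime_dvd_left hqK) h1 h2
      rw [hK, ← Abelianization.ker_of]
      exact MonoidHom.mem_ker.mpr (orderOf_eq_one_iff.mp h3)
    have hxK := hin x hx
    have hyK := hin y hy
    have h := mem_zpowers_of_isCyclic (H := K) hq (x := ⟨x, hxK⟩) (y := ⟨y, hyK⟩)
      (by rw [orderOf_mk, hx]) (Subtype.ext (by
        rw [SubmonoidClass.coe_pow, Subgroup.coe_mk, Subgroup.coe_one, ← hy, pow_orderOf_eq_one]))
    obtain ⟨i, hi⟩ := mem_zpowers_iff.mp h
    apply hyN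
    rw [show (y : G) = (x : G) ^ i from (congrArg Subtype.val hi).symm]
    exact zpow_mem x.2 i
  · -- the images in `G / K` generate the same subgroup
    have hxq : Abelianization.of (x : G) ≠ 1 := fun h => hqK (by
      have hxK : (x : G) ∈ K := by rw [hK, ← Abelianization.ker_of]; exact MonoidHom.mem_ker.mpr h
      rw [← hx]; exact K.orderOf_dvd_natCard hxK)
    have hox : orderOf (Abelianization.of (x : G)) = q :=
      orderOf_eq_prime (by rw [← map_pow, ← hx, pow_orderOf_eq_one, map_one]) hxq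
    haveI : IsCyclic (Abelianization G) := inferInstance
    obtain ⟨i, hi⟩ := mem_zpowers_iff.mp (mem_zpowers_of_isCyclic (H := Abelianization G) hq hox
      (y := Abelianization.of (y : G)) (by rw [← map_pow, ← hy, pow_orderOf_eq_one, map_one]))
    have hk : ((x : G) ^ i)⁻¹ * y ∈ K := by
      rw [hK, ← Abelianization.ker_of, MonoidHom.mem_ker, map_mul, map_inv, map_zpow, hi,
        inv_mul_cancel]
    -- decompose this element of `K`
    have hKA : A' ≤ normalizer ((K.map f : Subgroup (G ⋊[φ] A)) : Set (G ⋊[φ] A)) :=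
      Cfsg.Agent.Lib.Coprime.inr_range_le_normalizer_map φ fun a z hz =>
        characteristic_iff_map_le.mp (inferInstance : K.Characteristic) (φ a) ⟨z, hz, rfl⟩
    have hKle : ⁅K.map f, A'⁆ ≤ K.map f :=
      Cfsg.Agent.Lib.Coprime.commutator_le_of_le_normalizer hKA
    obtain ⟨d, hd, c, hc, hdc⟩ := Cfsg.Agent.Lib.Coprime.mem_commutator_mul_centralizer hKA
      (Cfsg.Agent.Lib.Coprime.coprime_of_le_right (hKle.trans (map_mono le_top)) hcop')
      (Or.inr (Cfsg.Agent.Lib.Coprime.isSolvable_of_le hKle (hsolvG K)))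
      (k := f (((x : G) ^ i)⁻¹ * y)) ⟨_, hk, rfl⟩
    obtain ⟨d₀, hd₀, rfl⟩ : d ∈ N.map f :=
      hNmap ▸ commutator_mono (map_mono le_top) le_rfl hd
    obtain ⟨c₀, hc₀, rfl⟩ := hc.1
    have hc₀C : c₀ ∈ C :=
      (hC c₀).mpr ((Cfsg.Agent.Lib.Coprime.mem_centralizer_inr_iff φ).mp hc.2)
    rw [← map_mul] at hdc
    have he := hfi hdc
    have h1 : (y : G) * c₀⁻¹ = (x : G) ^ i * d₀ := by
      calc (y : G) * c₀⁻¹ = (x : G) ^ i * (((x : G) ^ i)⁻¹ * y) * c₀⁻¹ := by group
        _ = (x : G) ^ i * d₀ := by rw [he]; group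
    have h2 : (y : G) * c₀⁻¹ ∈ N ⊓ C :=
      ⟨h1 ▸ N.mul_mem (zpow_mem x.2 i) hd₀, C.mul_mem y.2 (C.inv_mem hc₀C)⟩
    rw [hNC, mem_bot, mul_inv_eq_one] at h2
    apply hqK
    rw [← hy]
    exact K.orderOf_dvd_natCard (h2 ▸ hc₀)


/-- Let A be a finite group acting on the finite group G by automorphisms with the orders of A and G coprime, and suppose every Sylow subgroup of G is cyclic. Then the fixed-point subgroup C_G(A) is a Hall subgroup of G (its order is coprime to its index), the subgroup [G, A] generated by the elements g⁻¹·a(g) is cyclic and normal with [G, A] ∩ C_G(A) = 1 and [G, A]·C_G(A) = G. -/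
theorem result {G A : Type*} [Group G] [Finite G] [Group A] [Finite A]
    [MulDistribMulAction A G] (hcop : (Nat.card A).Coprime (Nat.card G))
    (hcyc : ∀ (p : ℕ) [Fact p.Prime] (P : Sylow p G), IsCyclic (P : Subgroup G)) :
    (Nat.card (MulAction.fixedPoints A G : Set G)).Coprime (Nat.card G / Nat.card (MulAction.fixedPoints A G : Set G)) ∧
    IsCyclic (Subgroup.closure {y : G | ∃ (a : A) (g : G), y = g⁻¹ * a • g}) ∧
    (Subgroup.closure {y : G | ∃ (a : A) (g : G), y = g⁻¹ * a • g}).Normal ∧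
    (Subgroup.closure {y : G | ∃ (a : A) (g : G), y = g⁻¹ * a • g} : Set G) ∩ MulAction.fixedPoints A G = {1} ∧
    Subgroup.closure {y : G | ∃ (a : A) (g : G), y = g⁻¹ * a • g} ⊔ Subgroup.closure (MulAction.fixedPoints A G) = ⊤ := by
  haveI : IsZGroup G := ⟨fun p hp P => by haveI := Fact.mk hp; exact hcyc p P⟩
  let C : Subgroup G := FixedPoints.subgroup A G
  have hCset : (C : Set G) = MulAction.fixedPoints A G := rfl
  obtain ⟨h1, h2, h3, h4, h5⟩ := structure_thm (MulDistribMulAction.toMulAut A G) hcop C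
    (fun g => Iff.rfl)
    (Subgroup.closure {y : G | ∃ (a : A) (g : G), y = g⁻¹ * a • g}) rfl
  refine ⟨?_, h2, h3, ?_, ?_⟩
  · exact h1
  · rw [← hCset, ← Subgroup.coe_inf, h4, Subgroup.coe_bot]
  · rw [← hCset, Subgroup.closure_eq, h5]

end Cfsg.Agent.S4117
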