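import Cfsg.Statements.S4151
import Mathlib
import Cfsg.Agent.Lib.Coprime.Sylow
import Cfsg.Agent.Lib.Coprime.Generation
import Cfsg.Agent.Lib.Coprime.Quotient
import Cfsg.Agent.Lib.PUnique.Basic
import Cfsg.Agent.Lib.SolvableCore.Basic
import Cfsg.Agent.Lib.PSolvable.Core
import Cfsg.Agent.Lib.Hall.Nilpotent

set_option autoImplicit false
open Cfsg

namespace Cfsg.Agent.S4151

open Subgroup

theorem card_mul_subgroupOf_index {G : Type*} [Group G] {H N : Subgroup G} (h : H ≤ N) :
    Nat.card H * (H.subgroupOf N).index = Nat.card N :=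
  Cfsg.Agent.Lib.PSolvable.card_mul_relIndex h

/-- A TI subgroup that is a Hall subgroup of its normaliser is a Hall subgroup. -/
theorem coprime_index_of_ti {G : Type*} [Group G] [Finite G] (H : Subgroup G)
    (mover : ∀ g x : G, x ∈ H → x ≠ 1 → g * x * g⁻¹ ∈ H → g ∈ normalizer (H : Set G))
    (hHall : (Nat.card H).Coprime (H.subgroupOf (normalizer (H : Set G))).index) :
    (Nat.card H).Coprime H.index := by
  refine Nat.coprime_of_dvd fun p hp hpH hpi => ?_
  haveI := Fact.mk hp
  obtain ⟨S⟩ : Nonempty (Sylow p H) := inferInstance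
  set P := (S : Subgroup H).map H.subtype with hPdef
  have hPH : P ≤ H := map_subtype_le _
  set a := (Nat.card H).factorization p with ha
  have hPc : Nat.card P = p ^ a := by
    rw [hPdef, card_map_of_injective H.subtype_injective, S.card_eq_multiplicity]
  have hPN : normalizer (P : Set G) ≤ normalizer (H : Set G) := by
    intro g hg
    have hne : P ≠ ⊥ := by
      rw [hPdef, Ne, map_eq_bot_iff_of_injective _ H.subtype_injective]
      exact S.ne_bot_of_dvd_card hpH
    obtain ⟨x, hxP, hx1⟩ := P.bot_or_exists_ne_one.resolve_left hne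
    exact mover g x (hPH hxP) hx1 (hPH ((mem_normalizer_iff.mp hg x).mp hxP))
  have hdvd : p ^ (a + 1) ∣ Nat.card G := by
    rw [← H.card_mul_index, pow_succ]
    exact Nat.mul_dvd_mul (Nat.ordProj_dvd _ _) hpi
  have h1 := (Sylow.prime_pow_dvd_card_normalizer hdvd hPc).trans (card_dvd_of_le hPN)
  rw [← card_mul_subgroupOf_index (H := H) le_normalizer] at h1
  have hcop : (p ^ (a + 1)).Coprime (H.subgroupOf (normalizer (H : Set G))).index :=
    (hHall.coprime_dvd_left hpH).pow_left _
  exact Nat.pow_succ_factorization_not_dvd Nat.card_pos.ne' hp (hcop.dvd_of_dvd_mul_right h1)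

/-- A normal subgroup `K` of order prime to `|H|` with `K N(H) = G`. -/
theorem exists_coprime_normal_sup {G : Type*} [Group G] [Finite G] (H : Subgroup G) (hH : H ≠ ⊥)
    (mover : ∀ g x : G, x ∈ H → x ≠ 1 → g * x * g⁻¹ ∈ H → g ∈ normalizer (H : Set G))
    (hcop : (Nat.card H).Coprime H.index)
    (hsep : ∃ (n : ℕ) (M : Fin (n + 1) → Subgroup G), M 0 = ⊥ ∧ M (Fin.last n) = ⊤ ∧ Monotone M ∧
      (∀ i, (M i).Normal) ∧
      ∀ i : Fin n, (∀ q : ℕ, q.Prime → q ∣ (M i.castSucc).relIndex (M i.succ) → q ∣ Nat.card H) ∨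
        ((M i.castSucc).relIndex (M i.succ)).Coprime (Nat.card H)) :
    ∃ K : Subgroup G, K.Normal ∧ (Nat.card K).Coprime (Nat.card H) ∧
      K ⊔ normalizer (H : Set G) = ⊤ := by
  obtain ⟨K, hKmax⟩ := (Set.toFinite
    {K : Subgroup G | K.Normal ∧ (Nat.card K).Coprime (Nat.card H)}).exists_maximal
    ⟨⊥, inferInstance, by rw [card_bot]; exact Nat.coprime_one_left _⟩
  obtain ⟨hKn, hKc⟩ := hKmax.1
  haveI := hKn
  refine ⟨K, hKn, hKc, ?_⟩
  have hKtop : K ≠ ⊤ := by
    intro h
    rw [h, card_top] at hKc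
    exact hH (eq_bot_of_card_eq _ (hKc.symm.eq_one_of_dvd (card_subgroup_dvd_card H)))
  obtain ⟨n, M, hM0, hMtop, hMmono, hMn, hfac⟩ := hsep
  obtain ⟨i, hiK, hiK'⟩ : ∃ i : Fin n, M i.castSucc ≤ K ∧ ¬ M i.succ ≤ K := by
    by_contra hcon
    push_neg at hcon
    have : ∀ i : Fin (n + 1), M i ≤ K := fun i => by
      induction i using Fin.induction with
      | zero => rw [hM0]; exact bot_le
      | succ j ih => exact hcon j ih
    exact hKtop (top_le_iff.mp (hMtop ▸ this (Fin.last n)))
  haveI := hMn i.succ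
  set L := K ⊔ M i.succ with hL
  have hKL : K ≤ L := le_sup_left
  haveI hLn : L.Normal := inferInstance
  have hLc : Nat.card K * K.relIndex L = Nat.card L :=
    Cfsg.Agent.Lib.PSolvable.card_mul_relIndex hKL
  have hdvd : K.relIndex L ∣ (M i.castSucc).relIndex (M i.succ) := by
    rw [hL, relIndex_sup_left]
    exact relIndex_dvd_of_le_left _ hiK
  have hnot : ¬ (Nat.card L).Coprime (Nat.card H) := fun h =>
    hiK' ((le_sup_right : M i.succ ≤ L).trans (hKmax.2 ⟨hLn, h⟩ hKL))
  have hpi : ∀ q : ℕ, q.Prime → q ∣ K.relIndex L → q ∣ Nat.card H := by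
    rcases hfac i with h | h
    · exact fun q hq hqd => h q hq (hqd.trans hdvd)
    · refine absurd ?_ hnot
      rw [← hLc]
      exact hKc.mul_left (h.coprime_dvd_left hdvd)
  set LH := L ⊓ H with hLH
  have hr : (K.relIndex L).Coprime H.index := by
    refine Nat.coprime_of_dvd fun q hq h1 h2 => ?_
    exact hq.not_dvd_one (hcop ▸ Nat.dvd_gcd (hpi q hq h1) h2)
  set e := H.relIndex (L ⊔ H) with he
  have hedvd : e ∣ H.index := Dvd.intro _ (relIndex_mul_index le_sup_right)
  have hLcard : Nat.card L = Nat.card LH * e := by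
    have h1 : Nat.card L * L.relIndex H = Nat.card (L ⊔ H : Subgroup G) := by
      rw [← relIndex_sup_left]
      exact Cfsg.Agent.Lib.PSolvable.card_mul_relIndex le_sup_left
    have h2 : Nat.card H * e = Nat.card (L ⊔ H : Subgroup G) :=
      Cfsg.Agent.Lib.PSolvable.card_mul_relIndex le_sup_right
    have h3 : Nat.card LH * L.relIndex H = Nat.card H := by
      rw [hLH, ← inf_relIndex_right L H]
      exact Cfsg.Agent.Lib.PSolvable.card_mul_relIndex inf_le_right
    have h4 : 0 < L.relIndex H := Nat.pos_of_ne_zero FiniteIndex.index_ne_zero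
    refine Nat.eq_of_mul_eq_mul_right h4 ?_
    rw [h1, ← h2, ← h3]
    ring
  have hLHH : Nat.card LH ∣ Nat.card H := card_dvd_of_le inf_le_right
  have hrLH : K.relIndex L ∣ Nat.card LH := by
    refine (hr.coprime_dvd_right hedvd).dvd_of_dvd_mul_right ?_
    rw [← hLcard, ← hLc]
    exact dvd_mul_left _ _
  obtain ⟨p, hp, hpr⟩ : ∃ p : ℕ, p.Prime ∧ p ∣ K.relIndex L := by
    refine Nat.exists_prime_and_dvd fun h1 => hnot ?_
    rw [← hLc, h1, mul_one]
    exact hKc
  haveI := Fact.mk hp
  -- a Sylow subgroup of `L` inside `H`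
  obtain ⟨S⟩ : Nonempty (Sylow p LH) := inferInstance
  set P := (S : Subgroup LH).map LH.subtype with hP
  have hPLH : P ≤ LH := map_subtype_le _
  have hPL : P ≤ L := hPLH.trans inf_le_left
  have hPp : IsPGroup p P := S.2.map _
  have hidx : ¬ p ∣ (P.subgroupOf L).index := by
    intro hd
    have h1 : P.relIndex LH * LH.relIndex L = P.relIndex L :=
      relIndex_mul_relIndex _ _ _ hPLH inf_le_left
    change p ∣ P.relIndex L at hd
    rw [← h1] at hd
    rcases hp.dvd_mul.mp hd with h | h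
    · refine S.not_dvd_index ?_
      convert h using 1
      rw [hP, relIndex, subgroupOf, comap_map_eq_self_of_injective LH.subtype_injective]
    · have h2 : Nat.card LH * LH.relIndex L = Nat.card LH * e := by
        rw [← hLcard]; exact Cfsg.Agent.Lib.PSolvable.card_mul_relIndex inf_le_left
      rw [Nat.eq_of_mul_eq_mul_left Nat.card_pos h2] at h
      exact hp.not_dvd_one
        (hcop ▸ Nat.dvd_gcd ((hpr.trans hrLH).trans hLHH) (h.trans hedvd))
  let T : Sylow p L := IsPGroup.toSylow (P := P.subgroupOf L) hPp.comap_subtype hidx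
  have hT : ((T : Subgroup L).map L.subtype) = P := map_subgroupOf_eq_of_le hPL
  have hfrat := T.normalizer_sup_eq_top
  rw [hT] at hfrat
  have hPne : P ≠ ⊥ := by
    rw [hP, Ne, map_eq_bot_iff_of_injective _ LH.subtype_injective]
    exact S.ne_bot_of_dvd_card (hpr.trans hrLH)
  have hPN : normalizer (P : Set G) ≤ normalizer (H : Set G) := by
    intro g hg
    obtain ⟨x, hxP, hx1⟩ := P.bot_or_exists_ne_one.resolve_left hPne
    exact mover g x (hPLH hxP).2 hx1 (hPLH ((mem_normalizer_iff.mp hg x).mp hxP)).2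
  -- `L = K (L ⊓ H)`
  have hLeq : L ≤ K ⊔ LH := by
    have hle : K ⊔ LH ≤ L := sup_le hKL inf_le_left
    refine (eq_of_le_of_card_ge hle ?_).ge
    refine Nat.le_of_dvd Nat.card_pos ?_
    rw [← hLc]
    exact Nat.Coprime.mul_dvd_of_dvd_of_dvd
      ((hKc.coprime_dvd_right hLHH).coprime_dvd_right hrLH) (card_dvd_of_le le_sup_left)
      (hrLH.trans (card_dvd_of_le le_sup_right))
  refine top_le_iff.mp (hfrat.ge.trans (sup_le (hPN.trans le_sup_right) (hLeq.trans ?_)))
  exact sup_le le_sup_left ((inf_le_right.trans le_normalizer).trans le_sup_right)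

/-- A noncyclic `p`-group that is abelian or of odd order has two commuting independent elements of order `p`. -/
theorem exists_pair_of_pGroup {P : Type*} [Group P] [Finite P] {p : ℕ} [hp : Fact p.Prime]
    (hP : IsPGroup p P) (hab : p = 2 → IsMulCommutative P) (hnc : ¬ IsCyclic P) :
    ∃ a b : P, Commute a b ∧ a ^ p = 1 ∧ b ^ p = 1 ∧ b ≠ 1 ∧ a ∉ zpowers b := by
  have hnot : ¬ ∀ A B : Subgroup P, Nat.card A = p → Nat.card B = p → A = B := by
    intro huniq
    by_cases h2 : p = 2
    · haveI := hab h2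
      haveI : IsMulCommutative (⊤ : Subgroup P) :=
        ⟨⟨fun x y => Subtype.ext ((IsMulCommutative.is_comm (M := P)).comm (x : P) y)⟩⟩
      haveI := Cfsg.Agent.Lib.PUnique.isCyclic_of_isMulCommutative hP huniq ⊤
      exact hnc (topEquiv.isCyclic.mp inferInstance)
    · rcases Cfsg.Agent.Lib.PUnique.isCyclic_or_quaternion hP huniq with h | ⟨h, -⟩
      · exact hnc h
      · exact h2 h
  push_neg at hnot
  obtain ⟨A, B, hA, hB, hAB⟩ := hnot
  haveI : Nontrivial P := by
    by_contra h
    rw [not_nontrivial_iff_subsingleton] at h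
    exact hnc inferInstance
  haveI := hP.center_nontrivial
  have hpd : p ∣ Nat.card (center P) := by
    obtain ⟨k, hk⟩ := IsPGroup.iff_card.mp (hP.to_subgroup (center P))
    rw [hk]
    refine dvd_pow_self _ ?_
    rintro rfl
    exact (Finite.one_lt_card (α := center P)).ne' (by simpa using hk)
  obtain ⟨z, hz⟩ := exists_prime_orderOf_dvd_card' p hpd
  have hzo : orderOf (z : P) = p := by rw [orderOf_coe, hz]
  have hz1 : (z : P) ≠ 1 := fun h => by
    rw [h, orderOf_one] at hzo
    exact hp.out.one_lt.ne hzo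
  obtain ⟨A, hA, hAne⟩ : ∃ A : Subgroup P, Nat.card A = p ∧ A ≠ zpowers (z : P) := by
    by_cases h : A = zpowers (z : P)
    · exact ⟨B, hB, fun h' => hAB (h.trans h'.symm)⟩
    · exact ⟨A, hA, h⟩
  haveI : Nontrivial A := Finite.one_lt_card_iff_nontrivial.mp (hA ▸ hp.out.one_lt)
  obtain ⟨a, ha1⟩ := exists_ne (1 : A)
  have hAa : zpowers (a : P) = A := by
    refine eq_of_le_of_card_ge (zpowers_le.mpr a.2) ?_
    rw [Nat.card_zpowers, orderOf_coe, orderOf_eq_prime (hA ▸ pow_card_eq_one') ha1, hA]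
  refine ⟨a, z, ((mem_center_iff.mp z.2 a)), ?_, ?_, hz1, fun h => hAne ?_⟩
  · rw [← coe_pow, show a ^ p = 1 from hA ▸ pow_card_eq_one']; rfl
  · rw [← hzo, pow_orderOf_eq_one]
  · rw [← hAa]
    refine eq_of_le_of_card_ge (zpowers_le.mpr h) ?_
    rw [hAa, hA, Nat.card_zpowers, hzo]

/-- A coprime automorphism group of a cyclic `p`-group that fixes a nontrivial element is trivial. -/
theorem le_centralizer_of_cyclic {G : Type*} [Group G] [Finite G] {p : ℕ} [hp : Fact p.Prime]
    {P Q : Subgroup G} [IsCyclic P] (hP : IsPGroup p P) (hQP : Q ≤ normalizer (P : Set G))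
    (hcop : (Nat.card Q).Coprime (Nat.card P))
    (hne : P ⊓ centralizer (Q : Set G) ≠ ⊥) : P ≤ centralizer (Q : Set G) := by
  haveI : IsMulCommutative P := inferInstance
  rw [← commutator_eq_bot_iff_le_centralizer]
  by_contra hC
  have hle : ⁅P, Q⁆ ≤ P := Cfsg.Agent.Lib.Coprime.commutator_le_of_le_normalizer hQP
  have hord : ∀ A : Subgroup G, A ≤ P → A ≠ ⊥ → ∃ a : G, a ∈ A ∧ orderOf a = p := by
    intro A hA hA1
    have hpA : p ∣ Nat.card A := by
      obtain ⟨k, hk⟩ := IsPGroup.iff_card.mp (hP.to_le hA)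
      rw [hk]
      refine dvd_pow_self _ ?_
      rintro rfl
      exact hA1 (eq_bot_of_card_eq _ (by simpa using hk))
    obtain ⟨a, ha⟩ := exists_prime_orderOf_dvd_card' p hpA
    exact ⟨a, a.2, by rw [orderOf_coe, ha]⟩
  obtain ⟨u, hu, huo⟩ := hord _ inf_le_left hne
  obtain ⟨v, hv, hvo⟩ := hord _ hle hC
  have h : (⟨v, hle hv⟩ : P) ∈ zpowers (⟨u, hu.1⟩ : P) := by
    classical
    haveI := Fintype.ofFinite P
    set u' : P := ⟨u, hu.1⟩
    set v' : P := ⟨v, hle hv⟩
    have hu' : orderOf u' = p := by rw [← orderOf_coe]; exact huo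
    have hv' : orderOf v' = p := by rw [← orderOf_coe]; exact hvo
    have hsub : (zpowers u' : Set P).toFinset ⊆ Finset.univ.filter fun a => a ^ p = 1 := by
      intro a ha
      rw [Set.mem_toFinset] at ha
      simp only [Finset.mem_filter, Finset.mem_univ, true_and]
      rw [← orderOf_dvd_iff_pow_eq_one, ← hu']
      exact orderOf_dvd_of_mem_zpowers ha
    have hc := Finset.eq_of_subset_of_card_le hsub (by
      refine (IsCyclic.card_pow_eq_one_le hp.out.pos).trans (le_of_eq ?_)
      rw [← Nat.card_eq_card_toFinset]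
      exact hu'.symm.trans (Nat.card_zpowers u').symm)
    have : v' ∈ Finset.univ.filter fun a => a ^ p = 1 := by
      simp only [Finset.mem_filter, Finset.mem_univ, true_and]
      rw [← hv', pow_orderOf_eq_one]
    rwa [← hc, Set.mem_toFinset] at this
  have h2 : v ∈ P ⊓ centralizer (Q : Set G) := by
    obtain ⟨k, hk⟩ := mem_zpowers_iff.mp h
    have : u ^ k = v := congrArg Subtype.val hk
    exact this ▸ zpow_mem hu k
  have h3 : v ∈ (⊥ : Subgroup G) :=
    Cfsg.Agent.Lib.Coprime.inf_centralizer_inf_commutator_eq_bot hQP hcop ▸ ⟨h2, hv⟩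
  rw [mem_bot] at h3
  rw [h3, orderOf_one] at hvo
  exact hp.out.one_lt.ne hvo

/-- In a Z-group, a coprime automorphism fixing a Sylow `p`-subgroup pointwise is trivial modulo `O_{p'}`. -/
theorem inv_mul_mem_pPrimeCore {H : Type*} [Group H] [Finite H] [IsZGroup H] {p : ℕ}
    [hp : Fact p.Prime] (P : Sylow p H) (c : H ≃* H) {n : ℕ} (hn : n.Coprime p)
    (hcn : ∀ s : H, c^[n] s = s) (hfix : ∀ x ∈ (P : Subgroup H), c x = x) (s : H) :
    s⁻¹ * c s ∈ Cfsg.pPrimeCore p H := by
  haveI hOc := Cfsg.Agent.Lib.PSolvable.pPrimeCore_characteristic (p := p) (G := H)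
  set O := Cfsg.pPrimeCore p H with hO
  let f := QuotientGroup.mk' O
  have hf : Function.Surjective f := QuotientGroup.mk'_surjective O
  let Pb := P.mapSurjective hf
  set R := Cfsg.pCore p (H ⧸ O) with hR
  haveI : IsCyclic Pb := IsZGroup.isZGroup p hp.out Pb
  have hcR : centralizer (R : Set (H ⧸ O)) ≤ R :=
    Cfsg.Agent.Lib.SolvableCore.centralizer_pCore_le inferInstance
      Cfsg.Agent.Lib.PSolvable.pPrimeCore_quotient_eq_bot
  have hPR : (Pb : Subgroup (H ⧸ O)) ≤ R := by
    refine le_trans ?_ hcR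
    intro x hx
    rw [mem_centralizer_iff]
    intro y hy
    exact setLike_mul_comm (Cfsg.Agent.Lib.PSolvable.pCore_le_sylow Pb hy) hx
  have hRP : R = Pb := le_antisymm (Cfsg.Agent.Lib.PSolvable.pCore_le_sylow Pb) hPR
  have hcent : ∀ z : H ⧸ O, (∀ x ∈ (P : Subgroup H), f x * z = z * f x) →
      ∃ w ∈ (P : Subgroup H), f w = z := by
    intro z hz
    have : z ∈ R := by
      refine hcR (mem_centralizer_iff.mpr fun y hy => ?_)
      rw [hRP] at hy
      obtain ⟨x, hx, rfl⟩ := hy
      exact hz x hx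
    rw [hRP] at this
    exact this
  have hcO : ∀ x y : H, f x = f y → f (c x) = f (c y) := by
    intro x y hxy
    have h1 : x⁻¹ * y ∈ O := QuotientGroup.eq.mp hxy
    refine QuotientGroup.eq.mpr ?_
    rw [← map_inv, ← map_mul]
    have h2 := mem_map_of_mem c.toMonoidHom h1
    rwa [characteristic_iff_map_eq.mp hOc c] at h2
  have hmove : ∀ x ∈ (P : Subgroup H), ∃ y ∈ (P : Subgroup H), f y = f (s * x * s⁻¹) := by
    intro x hx
    have h1 : f (s * x * s⁻¹) ∈ R := by
      have : f x ∈ R := hRP ▸ mem_map_of_mem f hx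
      simpa using (inferInstance : R.Normal).conj_mem _ this (f s)
    rw [hRP] at h1
    exact h1
  set z := (f s)⁻¹ * f (c s) with hz
  obtain ⟨w, hw, hwz⟩ : ∃ w ∈ (P : Subgroup H), f w = z := by
    refine hcent z fun x hx => ?_
    obtain ⟨y, hy, hyx⟩ := hmove x hx
    have h1 := hcO _ _ hyx
    rw [hfix y hy, hyx, show c (s * x * s⁻¹) = c s * x * (c s)⁻¹ by simp [hfix x hx]] at h1
    simp only [map_mul, map_inv] at h1
    calc f x * z = (f s)⁻¹ * (f s * f x * (f s)⁻¹) * f (c s) := by rw [hz]; group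
      _ = (f s)⁻¹ * (f (c s) * f x * (f (c s))⁻¹) * f (c s) := by rw [h1]
      _ = z * f x := by rw [hz]; group
  have hiter : ∀ k, f (c^[k] s) = f s * (f w) ^ k := by
    intro k
    induction k with
    | zero => simp
    | succ k ih =>
      rw [← map_pow, ← map_mul] at ih
      rw [Function.iterate_succ_apply', hcO _ _ ih, map_mul c, hfix _ (pow_mem hw k), map_mul,
        map_pow, show f (c s) = f s * f w by rw [hwz, hz]; group, mul_assoc, ← pow_succ']
  have hwn : (f w) ^ n = 1 := by
    have := hiter n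
    rw [hcn] at this
    simpa using this
  have hw1 : f w = 1 := by
    obtain ⟨k, hk⟩ := IsPGroup.iff_orderOf.mp P.2 ⟨w, hw⟩
    have h2 : (f w) ^ (p ^ k) = 1 := by
      rw [← map_pow, ← hk, orderOf_mk, pow_orderOf_eq_one, map_one]
    have h3 := pow_gcd_eq_one.mpr ⟨hwn, h2⟩
    rwa [(hn.pow_right k).gcd_eq_one, pow_one] at h3
  have : f (s⁻¹ * c s) = 1 := by rw [map_mul, map_inv, ← hz, ← hwz, hw1]
  exact (QuotientGroup.eq_one_iff _).mp this

theorem commutator_le_pPrimeCore_map {G : Type*} [Group G] [Finite G] {H Q : Subgroup G}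
    [IsZGroup H] {p : ℕ} [hp : Fact p.Prime] (hQ : Q ≤ normalizer (H : Set G))
    (hQp : (Nat.card Q).Coprime p) (P : Sylow p H)
    (hfix : ∀ x ∈ (P : Subgroup H), (x : G) ∈ centralizer (Q : Set G)) :
    ⁅H, Q⁆ ≤ (Cfsg.pPrimeCore p H).map H.subtype := by
  rw [commutator_le]
  intro s hs q hq
  let c : H ≃* H := H.normalizerMonoidHom ⟨q, hQ hq⟩
  have hcval : ∀ x : H, ((c x : H) : G) = q * x * q⁻¹ := fun x => rfl
  have hit : ∀ (k : ℕ) (x : H), ((c^[k] x : H) : G) = q ^ k * x * (q ^ k)⁻¹ := by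
    intro k
    induction k with
    | zero => intro x; simp
    | succ k ih => intro x; rw [Function.iterate_succ_apply', hcval, ih, pow_succ']; group
  have hmem := inv_mul_mem_pPrimeCore P c (n := orderOf q)
    (hQp.coprime_dvd_left (Q.orderOf_dvd_natCard hq))
    (fun x => Subtype.ext (by rw [hit, pow_orderOf_eq_one]; group))
    (fun x hx => Subtype.ext (by
      rw [hcval, mem_centralizer_iff.mp (hfix x hx) q hq, mul_inv_cancel_right]))
    (⟨s, hs⟩ : H)⁻¹
  refine ⟨_, hmem, ?_⟩
  simp only [map_inv, inv_inv, coe_subtype, coe_mul, coe_inv, hcval, commutatorElement_def]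
  group

theorem not_dvd_commutator_of_dvd_fixed {G : Type*} [Group G] [Finite G] {H Q : Subgroup G}
    [IsZGroup H] {p : ℕ} [hp : Fact p.Prime] (hQ : Q ≤ normalizer (H : Set G))
    (hQH : (Nat.card Q).Coprime (Nat.card H))
    (hpY : p ∣ Nat.card (H ⊓ centralizer (Q : Set G) : Subgroup G)) :
    ¬ p ∣ (H ⊓ centralizer (Q : Set G)).relIndex H ∧ ¬ p ∣ Nat.card (⁅H, Q⁆ : Subgroup G) := by
  set Y := H ⊓ centralizer (Q : Set G)
  obtain ⟨S⟩ : Nonempty (Sylow p Y) := inferInstance
  set U := (S : Subgroup Y).map Y.subtype with hU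
  have hUY : U ≤ Y := map_subtype_le _
  have hUQ : Q ≤ normalizer (U : Set G) := fun q hq =>
    centralizer_le_normalizer _ (mem_centralizer_iff.mpr fun u hu =>
      (mem_centralizer_iff.mp (hUY hu).2 q hq).symm)
  obtain ⟨P, hUP, hQP⟩ := Cfsg.Agent.Lib.Coprime.exists_invariant_sylow_ge (p := p) hQ hQH
    (Or.inr inferInstance) (hUY.trans inf_le_left) (S.2.map _) hUQ
  haveI : IsCyclic ((P : Subgroup H).map H.subtype) :=
    isCyclic_of_surjective _
      ((P : Subgroup H).equivMapOfInjective H.subtype H.subtype_injective).surjective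
  have hfix : (P : Subgroup H).map H.subtype ≤ centralizer (Q : Set G) := by
    refine le_centralizer_of_cyclic (P.2.map _) hQP
      (hQH.coprime_dvd_right (card_dvd_of_le (map_subtype_le _))) fun hbot => ?_
    have : U ≤ ⊥ := hbot ▸ le_inf hUP (hUY.trans inf_le_right)
    rw [le_bot_iff, hU, map_eq_bot_iff_of_injective _ Y.subtype_injective] at this
    exact S.ne_bot_of_dvd_card hpY this
  have hpQ : (Nat.card Q).Coprime p :=
    hQH.coprime_dvd_right (hpY.trans (card_dvd_of_le inf_le_left))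
  refine ⟨fun h => P.not_dvd_index ?_, fun h => ?_⟩
  · refine h.trans (dvd_trans ?_ (dvd_refl (P : Subgroup H).index))
    exact index_dvd_of_le fun x hx => ⟨x.2, hfix ⟨x, hx, rfl⟩⟩
  · have h1 := h.trans (card_dvd_of_le (commutator_le_pPrimeCore_map hQ hpQ P
      fun x hx => hfix ⟨x, hx, rfl⟩))
    rw [card_map_of_injective H.subtype_injective] at h1
    exact Cfsg.Agent.Lib.PSolvable.pPrimeCore_not_dvd h1


/-- Let G be a finite group and H a non-normal subgroup meeting each of its conjugates by elements outside N_G(H) trivially, with the order of H coprime to its index in N_G(H), such that G is π-separable for π the set of primes dividing the order of H (G has a chain of normal subgroups from 1 to G each of whose factors has order divisible only by primes dividing the order of H or coprime to it). Suppose a Sylow 2-subgroup of H is abelian and Q is a complement of H in N_G(H). Then C_H(Q), the subgroup of elements of H commuting with Q, has order coprime to its index in G and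 has a normal complement in G. -/
theorem result {G : Type*} [Group G] [Finite G] (H : Subgroup G)
    (hTI : Cfsg.IsTISubset (H : Set G)) (hnn : ¬ H.Normal)
    (hHall : (Nat.card H).Coprime (H.subgroupOf (Subgroup.normalizer (H : Set G))).index)
    (hsep : ∃ (n : ℕ) (M : Fin (n + 1) → Subgroup G), M 0 = ⊥ ∧ M (Fin.last n) = ⊤ ∧ Monotone M ∧ (∀ i, (M i).Normal) ∧
      ∀ i : Fin n, (∀ q : ℕ, q.Prime → q ∣ (M i.castSucc).relIndex (M i.succ) → q ∣ Nat.card H) ∨
        ((M i.castSucc).relIndex (M i.succ)).Coprime (Nat.card H))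
    (h2 : ∀ P : Sylow 2 H, IsMulCommutative (P : Subgroup H))
    (Q : Subgroup G) (hQ : Q ≤ Subgroup.normalizer (H : Set G)) (hQH : Q ⊓ H = ⊥) (hQH' : Q ⊔ H = Subgroup.normalizer (H : Set G)) :
    (Nat.card ↥(H ⊓ Subgroup.centralizer (Q : Set G))).Coprime (H ⊓ Subgroup.centralizer (Q : Set G)).index ∧
    ∃ N : Subgroup G, N.Normal ∧ N.IsComplement' (H ⊓ Subgroup.centralizer (Q : Set G)) := by
  set N := normalizer (H : Set G) with hN
  have hH1 : H ≠ ⊥ := fun h => hnn (h ▸ inferInstance)
  have mover : ∀ g x : G, x ∈ H → x ≠ 1 → g * x * g⁻¹ ∈ H → g ∈ N := fun g x hx hx1 hgx =>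
    Classical.not_not.mp fun hg => hx1 (hTI g hg x hx hgx)
  have hHallG := coprime_index_of_ti H mover hHall
  obtain ⟨K, hKn, hKc, hKtop⟩ := exists_coprime_normal_sup H hH1 mover hHallG hsep
  haveI := hKn
  have hHN : H ≤ N := le_normalizer
  -- fixed points on `K`
  have hCK : ∀ x ∈ H, x ≠ 1 → K ⊓ centralizer {x} ≤ centralizer (H : Set G) := by
    rintro x hx hx1 k ⟨hk, hkx⟩
    have hcm : x * k = k * x := mem_centralizer_iff.mp hkx x rfl
    have hkN : k ∈ N := mover k x hx hx1 (by rw [← hcm, mul_inv_cancel_right]; exact hx)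
    rw [mem_centralizer_iff]
    intro u hu
    have h1 : k * u * k⁻¹ * u⁻¹ ∈ H := H.mul_mem ((mem_normalizer_iff.mp hkN u).mp hu) (inv_mem hu)
    have h2 : k * u * k⁻¹ * u⁻¹ ∈ K := by
      rw [show k * u * k⁻¹ * u⁻¹ = k * (u * k⁻¹ * u⁻¹) by group]
      exact K.mul_mem hk (hKn.conj_mem _ (inv_mem hk) u)
    have h3 : k * u * k⁻¹ * u⁻¹ ∈ (⊥ : Subgroup G) :=
      (disjoint_iff.mp (disjoint_of_coprime_natCard (H := K) (K := H) hKc)) ▸ ⟨h2, h1⟩
    rw [mem_bot, mul_inv_eq_one, mul_inv_eq_iff_eq_mul] at h3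
    exact h3.symm
  have hKH : ¬ K ≤ centralizer (H : Set G) := fun h => hnn <| normalizer_eq_top_iff.mp <|
    top_le_iff.mp <| hKtop.ge.trans (sup_le (h.trans (centralizer_le_normalizer _)) le_rfl)
  haveI hZ : IsZGroup H := by
    refine ⟨fun p hp P => ?_⟩
    haveI := Fact.mk hp
    by_contra hnc
    by_cases hpH : p ∣ Nat.card H
    · obtain ⟨a, b, hab, ha, hb, hb1, hab'⟩ := exists_pair_of_pGroup (P := P) P.2
        (fun h2' => by subst h2'; exact h2 P) hnc
      have hmemH : ∀ x ∈ closure ({((a : H) : G), ((b : H) : G)} : Set G), x ∈ H :=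
        (closure_le H).mpr (by rintro x (rfl | rfl) <;> exact SetLike.coe_mem _)
      refine hKH (Cfsg.Agent.Lib.Coprime.le_of_pair hp (a := ((a : H) : G)) (b := ((b : H) : G))
        (Nat.Coprime.coprime_dvd_left hpH hKc.symm) (by rw [normalizer_eq_top]; exact le_top)
        ?_ ?_ ?_ ?_ ?_ fun x hx hx1 => hCK x (hmemH x hx) hx1)
      · exact ((hab.map (P : Subgroup H).subtype).map H.subtype)
      · exact congrArg (fun t : P => ((t : H) : G)) ha
      · exact congrArg (fun t : P => ((t : H) : G)) hb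
      · exact fun h => hb1 (Subtype.ext (Subtype.ext h))
      · intro h
        obtain ⟨k, hk⟩ := mem_zpowers_iff.mp h
        exact hab' ⟨k, Subtype.ext (Subtype.ext (by simpa using hk))⟩
    · apply hnc
      have : Nat.card P = 1 := by
        rw [P.card_eq_multiplicity, Nat.factorization_eq_zero_of_not_dvd hpH, pow_zero]
      exact isCyclic_of_card_dvd_prime (p := 2) (this ▸ one_dvd _)
  -- the complement `Q`
  have hQH1 : (Nat.card Q).Coprime (Nat.card H) := by
    refine Nat.Coprime.coprime_dvd_left ?_ hHall.symm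
    haveI : (H.subgroupOf N).Normal := normal_subgroupOf_of_le_normalizer le_rfl
    refine card_dvd_of_injective ((QuotientGroup.mk' (H.subgroupOf N)).comp (inclusion hQ)) ?_
    rw [injective_iff_map_eq_one]
    intro q hq
    have h1 : (q : G) ∈ Q ⊓ H := ⟨q.2, (QuotientGroup.eq_one_iff (inclusion hQ q)).mp hq⟩
    rw [hQH, mem_bot] at h1
    exact Subtype.ext h1
  set Y := H ⊓ centralizer (Q : Set G) with hY
  set X := ⁅H, Q⁆ with hX
  have hXH : X ≤ H := Cfsg.Agent.Lib.Coprime.commutator_le_of_le_normalizer hQ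
  have hXY : X ⊔ Y = H := Cfsg.Agent.Lib.Coprime.commutator_sup_centralizer hQ
    (hQH1.coprime_dvd_right (card_dvd_of_le hXH))
    (Or.inr (Cfsg.Agent.Lib.Coprime.isSolvable_of_le hXH inferInstance))
  have hp1 : ∀ p : ℕ, p.Prime → p ∣ Nat.card Y →
      ¬ p ∣ Y.relIndex H ∧ ¬ p ∣ Nat.card X := fun p hp hpY => by
    haveI := Fact.mk hp
    exact not_dvd_commutator_of_dvd_fixed hQ hQH1 hpY
  have hpYH : ∀ p : ℕ, p ∣ Nat.card Y → p ∣ Nat.card H := fun p h =>
    h.trans (card_dvd_of_le inf_le_left)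
  refine ⟨Nat.coprime_of_dvd fun p hp hpY hpi => ?_, ?_⟩
  · rw [← relIndex_mul_index (inf_le_left : Y ≤ H)] at hpi
    rcases hp.dvd_mul.mp hpi with h | h
    · exact (hp1 p hp hpY).1 h
    · exact hp.not_dvd_one (hHallG ▸ Nat.dvd_gcd (hpYH p hpY) h)
  -- the normal complement
  have hQX : Q ≤ normalizer (X : Set G) := normalizer_commutator_ge_right H Q
  have hHX : H ≤ normalizer (X : Set G) := normalizer_commutator_ge_left H Q
  have hNXQ : N ≤ normalizer ((X ⊔ Q : Subgroup G) : Set G) := by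
    rw [← hQH']
    refine sup_le (fun q hq => ?_) fun s hs => ?_
    · exact le_normalizer (mem_sup_right hq)
    · have key : ∀ t ∈ H, ∀ y ∈ X ⊔ Q, t * y * t⁻¹ ∈ X ⊔ Q := by
        intro t ht y hy
        have hle : X ⊔ Q ≤ (X ⊔ Q).comap (MulAut.conj t).toMonoidHom := by
          refine sup_le (fun x hx => ?_) fun q hq => ?_
          · exact mem_sup_left ((mem_normalizer_iff.mp (hHX ht) x).mp hx)
          · change t * q * t⁻¹ ∈ X ⊔ Q
            rw [show t * q * t⁻¹ = (t * q * t⁻¹ * q⁻¹) * q by group]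
            exact mul_mem_sup (commutator_mem_commutator ht hq) hq
        exact hle hy
      rw [mem_normalizer_iff]
      intro y
      refine ⟨key s hs y, fun h => ?_⟩
      simpa [mul_assoc] using key s⁻¹ (inv_mem hs) _ h
  set M := K ⊔ (X ⊔ Q) with hM
  have hNM : N ≤ normalizer (M : Set G) := by
    intro g hg
    have key : ∀ t ∈ N, ∀ y ∈ M, t * y * t⁻¹ ∈ M := by
      intro t ht y hy
      have hle : M ≤ M.comap (MulAut.conj t).toMonoidHom := by
        refine sup_le (fun x hx => ?_) fun x hx => ?_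
        · exact mem_sup_left (hKn.conj_mem x hx t)
        · exact mem_sup_right ((mem_normalizer_iff.mp (hNXQ ht) x).mp hx)
      exact hle hy
    rw [mem_normalizer_iff]
    intro y
    refine ⟨key g hg y, fun h => ?_⟩
    simpa [mul_assoc] using key g⁻¹ (inv_mem hg) _ h
  have hMn : M.Normal := normalizer_eq_top_iff.mp <|
    top_le_iff.mp <| hKtop.ge.trans (sup_le ((le_sup_left : K ≤ M).trans le_normalizer) hNM)
  haveI := hMn
  have hMY : (Nat.card M).Coprime (Nat.card Y) := by
    refine Nat.coprime_of_dvd fun p hp hpM hpY => ?_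
    have h1 : Nat.card M ∣ Nat.card K * (Nat.card X * Nat.card Q) := by
      have h2 := Cfsg.Agent.Lib.Hall.card_sup_dvd_of_le_normalizer (X := X ⊔ Q) (Y := K)
        (by rw [normalizer_eq_top]; exact le_top)
      have h3 := Cfsg.Agent.Lib.Hall.card_sup_dvd_of_le_normalizer (X := Q) (Y := X) hQX
      rw [sup_comm] at h2 h3
      rw [mul_comm (Nat.card Q)] at h3
      rw [mul_comm _ (Nat.card K)] at h2
      exact h2.trans (Nat.mul_dvd_mul_left _ h3)
    rcases hp.dvd_mul.mp (hpM.trans h1) with h | h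
    · exact hp.not_dvd_one (hKc ▸ Nat.dvd_gcd h (hpYH p hpY))
    · rcases hp.dvd_mul.mp h with h | h
      · exact (hp1 p hp hpY).2 h
      · exact hp.not_dvd_one (hQH1 ▸ Nat.dvd_gcd h (hpYH p hpY))
  refine ⟨M, hMn, isComplement'_of_disjoint_and_mul_eq_univ (disjoint_of_coprime_natCard hMY) ?_⟩
  rw [← normal_mul M Y]
  suffices h : M ⊔ Y = ⊤ by rw [h]; rfl
  refine top_le_iff.mp (hKtop.ge.trans (sup_le ((le_sup_left : K ≤ M).trans le_sup_left) ?_))
  change N ≤ M ⊔ Y
  rw [← hQH', ← hXY]
  exact sup_le ((le_sup_right.trans le_sup_right : Q ≤ M).trans le_sup_left)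
    (sup_le ((le_sup_left.trans le_sup_right : X ≤ M).trans le_sup_left) le_sup_right)

end Cfsg.Agent.S4151
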