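import Cfsg.Statements.S4118
import Mathlib
import Cfsg.Agent.S4151
import Cfsg.Agent.S3742
import Cfsg.Agent.Lib.Zass25.Structure
import Cfsg.Agent.Lib.Fusion87.QuaternionSL2
import Cfsg.Agent.Lib.Components.GenFitting
import Cfsg.Agent.Lib.LinGroup.Simple
import Cfsg.Agent.Lib.Coprime.Quotient
import Cfsg.Agent.Lib.PSolvable.Core

set_option autoImplicit false
open Cfsg

namespace Cfsg.Agent.S4118

open Subgroup
open scoped commutatorElement

theorem not_dvd_index_of_sylow_le {G : Type*} [Group G] [Finite G] {K L : Subgroup G} {p : ℕ}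
    [Fact p.Prime] (P : Sylow p K) (h : (P : Subgroup K).map K.subtype ≤ L) :
    ¬ p ∣ (L.subgroupOf K).index := fun hd =>
  P.not_dvd_index (hd.trans (index_dvd_of_le fun x hx => h ⟨x, hx, rfl⟩))

theorem le_of_forall_sylow {G : Type*} [Group G] [Finite G] {K L : Subgroup G}
    (h : ∀ p : ℕ, p.Prime → ∃ P : Sylow p K, (P : Subgroup K).map K.subtype ≤ L) : K ≤ L := by
  have h1 : (L.subgroupOf K).index = 1 := by
    by_contra hne
    obtain ⟨p, hp, hd⟩ := Nat.exists_prime_and_dvd hne
    obtain ⟨P, hP⟩ := h p hp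
    haveI := Fact.mk hp
    exact not_dvd_index_of_sylow_le P hP hd
  intro x hx
  have := index_eq_one.mp h1 ▸ mem_top (⟨x, hx⟩ : K)
  exact this

/-- A coprime action in which all nontrivial elements have the same fixed points gives a
Frobenius complement. -/
theorem occursAsComplement_of_centralizer {G : Type*} [Group G] [Finite G] {H O : Subgroup G}
    (hHO : H ≤ normalizer (O : Set G)) (hcop : (Nat.card H).Coprime (Nat.card O))
    (hO : Group.IsSolvable O) (hnc : ¬ O ≤ centralizer (H : Set G)) (hH : H ≠ ⊥)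
    (hC : ∀ h ∈ H, h ≠ 1 → ∀ x ∈ O, h * x = x * h → x ∈ centralizer (H : Set G)) :
    Cfsg.Agent.Lib.Frobenius.OccursAsComplement H := by
  obtain ⟨q, hq, hQ0⟩ : ∃ q : ℕ, q.Prime ∧ {Q : Subgroup G | Q ≤ O ∧ IsPGroup q Q ∧
      H ≤ normalizer (Q : Set G) ∧ ¬ Q ≤ centralizer (H : Set G)}.Nonempty := by
    by_contra hcon
    refine hnc (le_of_forall_sylow fun p hp => ?_)
    haveI := Fact.mk hp
    obtain ⟨P, hP⟩ := Cfsg.Agent.Lib.Coprime.exists_invariant_sylow (p := p) hHO hcop (Or.inr hO)
    refine ⟨P, ?_⟩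
    by_contra h
    exact hcon ⟨p, hp, _, map_subtype_le _, P.2.map _, hP, h⟩
  haveI := Fact.mk hq
  obtain ⟨Q, ⟨hQO, hQp, hHQ, hQnc⟩, hmin⟩ := Set.Finite.exists_minimal (Set.toFinite _) hQ0
  set C : Subgroup Q := (centralizer (H : Set G)).subgroupOf Q with hCdef
  haveI : Nontrivial Q := Q.nontrivial_iff_ne_bot.mpr fun h => hQnc (h ▸ bot_le)
  haveI : Group.IsNilpotent Q := hQp.isNilpotent
  have hQ' : commutator Q ≤ C := by
    intro x hx
    by_contra hxC
    have hlt := Group.IsSolvable.commutator_lt_top_of_nontrivial Q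
    set Q' := (commutator Q).map Q.subtype
    have hQ'Q : Q' ≤ Q := map_subtype_le _
    have hge := hmin (y := Q') ⟨hQ'Q.trans hQO, hQp.to_le hQ'Q,
      hHQ.trans (Cfsg.Agent.Lib.Coprime.normalizer_le_normalizer_map_of_characteristic _),
      fun h => hxC (h ⟨x, hx, rfl⟩)⟩ hQ'Q
    refine hlt.ne (eq_top_iff.mpr fun y _ => ?_)
    obtain ⟨z, hz, hze⟩ := hge y.2
    rwa [← show z = y from Subtype.ext hze]
  haveI : C.Normal := ⟨fun c hc g => by
    have h1 : ⁅g, c⁆ ∈ C := hQ' (commutator_mem_commutator (mem_top g) (mem_top c))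
    have := C.mul_mem h1 hc
    rwa [commutatorElement_def, inv_mul_cancel_right] at this⟩
  haveI : Nontrivial (Q ⧸ C) := by
    refine QuotientGroup.nontrivial_iff.mpr fun h => hQnc fun x hx => ?_
    exact (h ▸ mem_top _ : (⟨x, hx⟩ : Q) ∈ C)
  let e : H →* MulAut Q := Q.normalizerMonoidHom.comp (inclusion hHQ)
  have hev : ∀ (h : H) (x : Q), ((e h x : Q) : G) = h * x * (h : G)⁻¹ := fun h x => rfl
  have hfix : ∀ (h : H), ∀ x ∈ C, e h x = x := fun h x hx => Subtype.ext (by
    rw [hev, show (h : G) * x = x * h from mem_centralizer_iff.mp hx h h.2, mul_inv_cancel_right])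
  have hmap : ∀ h : H, C.map (e h).toMonoidHom = C := fun h => by
    ext x
    constructor
    · rintro ⟨y, hy, rfl⟩
      change e h y ∈ C
      rwa [hfix h y hy]
    · exact fun hx => ⟨x, hx, hfix h x hx⟩
  let φ : H →* MulAut (Q ⧸ C) :=
    { toFun := fun h => QuotientGroup.congr C C (e h) (hmap h)
      map_one' := by
        ext v
        induction v using QuotientGroup.induction_on with
        | H x => simp [QuotientGroup.congr_mk]
      map_mul' := fun a b => by
        ext v
        induction v using QuotientGroup.induction_on with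
        | H x =>
          show QuotientGroup.congr C C (e (a * b)) (hmap _) x =
            QuotientGroup.congr C C (e a) (hmap a) (QuotientGroup.congr C C (e b) (hmap b) x)
          exact congrArg (QuotientGroup.mk (s := C)) (DFunLike.congr_fun (map_mul e a b) x) }
  haveI : Nontrivial H := H.nontrivial_iff_ne_bot.mpr hH
  obtain ⟨L, iL, fL, H', hH', hiso, -⟩ :=
    Cfsg.Agent.Lib.Frobenius.exists_isFrobeniusComplement_of_hom φ (fun h hh1 v hv => by
      induction v using QuotientGroup.induction_on with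
      | H x =>
        set N := C.map Q.subtype
        set A := zpowers (h : G)
        have hAH : A ≤ H := zpowers_le.mpr h.2
        have hNO : N ≤ O := (map_subtype_le _).trans hQO
        have hAN : A ≤ normalizer (N : Set G) := by
          refine le_trans ?_ (centralizer_le_normalizer _)
          intro a ha
          rw [mem_centralizer_iff]
          rintro _ ⟨y, hy, rfl⟩
          exact (mem_centralizer_iff.mp hy a (hAH ha)).symm
        have hN : Group.IsSolvable A := inferInstance
        obtain ⟨c, hc, hcN⟩ := Cfsg.Agent.Lib.Coprime.exists_centralizer_mem_leftCoset hAN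
          ((hcop.coprime_dvd_left (card_dvd_of_le hAH)).coprime_dvd_right (card_dvd_of_le hNO))
          (Or.inl hN) (k := (x : G)) (fun a ha => by
            have hm : (⟨a, hAH ha⟩ : H) ∈ zpowers h := by
              obtain ⟨k, hk⟩ := mem_zpowers_iff.mp ha
              exact ⟨k, Subtype.ext hk⟩
            have hfixv : φ ⟨a, hAH ha⟩ (x : Q ⧸ C) = (x : Q ⧸ C) := by
              obtain ⟨k, hk⟩ := hm
              rw [← hk]
              simp only [map_zpow]
              have hs : φ h ∈ MulAction.stabilizer (MulAut (Q ⧸ C)) (x : Q ⧸ C) := hv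
              exact zpow_mem hs k
            exact ⟨_, QuotientGroup.eq.mp hfixv.symm, rfl⟩)
        have hcQ : c ∈ Q := by
          have := Q.mul_mem x.2 (map_subtype_le _ hcN)
          rwa [mul_inv_cancel_left] at this
        have hcC : c ∈ centralizer (H : Set G) :=
          hC h h.2 (fun e => hh1 (Subtype.ext e)) c (hQO hcQ)
            (mem_centralizer_iff.mp hc h (mem_zpowers _))
        obtain ⟨n, hn, hne⟩ := hcN
        refine (QuotientGroup.eq_one_iff x).mpr ?_
        show (x : G) ∈ centralizer (H : Set G)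
        have : (x : G) = c * (n : G)⁻¹ := by
          rw [show ((n : Q) : G) = (x : G)⁻¹ * c from hne]; group
        rw [this]
        exact mul_mem hcC (inv_mem hn))
  exact ⟨L, iL, fL, H', hH', hiso⟩

theorem commute_mulAut_of_cyclic {P : Type*} [Group P] [IsCyclic P] (α β : MulAut P) :
    α * β = β * α :=
  (IsCyclic.mulAutMulEquiv P).injective (by rw [map_mul, map_mul, mul_comm])

/-- Odd order groups of automorphisms of a quaternion 2-group are abelian. -/
theorem commute_odd_aut_quaternion {D : Type*} [Group D] [Finite D] (hD : (Nat.card D).Coprime 2)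
    {n : ℕ} (φ : D →* MulAut (QuaternionGroup (2 ^ n))) (a b : D) : φ a * φ b = φ b * φ a := by
  rcases n with _ | _ | n
  · haveI : IsCyclic (QuaternionGroup (2 ^ 0)) :=
      isCyclic_of_orderOf_eq_card (QuaternionGroup.xa 0) (by
        rw [QuaternionGroup.orderOf_xa, Nat.card_eq_fintype_card, QuaternionGroup.card]; norm_num)
    exact commute_mulAut_of_cyclic _ _
  · obtain ⟨f⟩ := Cfsg.Agent.S3742.result
    let ψ : D →* Equiv.Perm (Fin 4) := f.toMonoidHom.comp φ
    have h24 : Nat.card ψ.range ∣ 24 := by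
      have := card_subgroup_dvd_card ψ.range
      rwa [Nat.card_perm, Nat.card_fin] at this
    have h2 : (Nat.card ψ.range).Coprime 2 := hD.coprime_dvd_left (card_range_dvd ψ)
    have h3 : Nat.card ψ.range ∣ 3 := (h2.pow_right 3).dvd_of_dvd_mul_left (by simpa using h24)
    haveI : IsCyclic ψ.range := by
      rcases (Nat.dvd_prime Nat.prime_three).mp h3 with h | h
      · haveI := (Nat.card_eq_one_iff_unique.mp h).1
        infer_instance
      · haveI := Fact.mk Nat.prime_three
        exact isCyclic_of_prime_card h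
    let _ := IsCyclic.commGroup (α := ψ.range)
    have := congrArg Subtype.val (mul_comm (⟨ψ a, a, rfl⟩ : ψ.range) ⟨ψ b, b, rfl⟩)
    exact f.injective (by rw [map_mul, map_mul]; exact this)
  · have h1 : ∀ x : D, φ x = 1 := fun x =>
      Cfsg.Agent.Lib.Fusion87.QuatSL2.eq_one_of_odd_aut (by omega) _
        (hD.coprime_dvd_left ((orderOf_map_dvd φ x).trans (orderOf_dvd_natCard x)))
    rw [h1, h1]

theorem commutator_le_centralizer {G : Type*} [Group G] [Finite G] {H D : Subgroup G}
    [Group.IsSolvable H] (hH : Cfsg.Agent.Lib.Zass25.HasFpfRep H)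
    (hDH : D ≤ normalizer (H : Set G)) (hcop : (Nat.card D).Coprime (Nat.card H)) :
    ⁅D, D⁆ ≤ centralizer (H : Set G) := by
  rw [commutator_le]
  intro a ha b hb
  rw [← zpowers_le, le_centralizer_iff]
  refine le_of_forall_sylow fun p hp => ?_
  haveI := Fact.mk hp
  obtain ⟨P, hP⟩ := Cfsg.Agent.Lib.Coprime.exists_invariant_sylow (p := p) hDH hcop
    (Or.inr inferInstance)
  refine ⟨P, ?_⟩
  set P' := (P : Subgroup H).map H.subtype with hP'
  let φ : D →* MulAut P' := P'.normalizerMonoidHom.comp (inclusion hP)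
  let ι : (P : Subgroup H) ≃* P' := (P : Subgroup H).equivMapOfInjective _ H.subtype_injective
  have hcomm : φ ⟨a, ha⟩ * φ ⟨b, hb⟩ = φ ⟨b, hb⟩ * φ ⟨a, ha⟩ := by
    rcases Cfsg.Agent.Lib.Zass25.sylow_cyclic_or_quaternion hH P with hc | ⟨rfl, n, ⟨e⟩⟩
    · haveI := ι.isCyclic.mp hc
      exact commute_mulAut_of_cyclic _ _
    · have h2 : 2 ∣ Nat.card H := by
        refine Dvd.dvd.trans ?_ (card_subgroup_dvd_card (P : Subgroup H))
        rw [Nat.card_congr e.toEquiv, Nat.card_eq_fintype_card, QuaternionGroup.card]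
        exact ⟨2 * 2 ^ n, by ring⟩
      let κ : MulAut P' ≃* MulAut (QuaternionGroup (2 ^ n)) := MulAut.congr (ι.symm.trans e)
      have := commute_odd_aut_quaternion (hcop.coprime_dvd_right h2) (κ.toMonoidHom.comp φ)
        ⟨a, ha⟩ ⟨b, hb⟩
      exact κ.injective (by rw [map_mul, map_mul]; exact this)
  intro x hx
  rw [mem_centralizer_iff]
  intro c hc
  obtain ⟨k, rfl⟩ := hc
  have h1 : φ ⁅(⟨a, ha⟩ : D), ⟨b, hb⟩⁆ = 1 := by
    rw [map_commutatorElement, commutatorElement_eq_one_iff_mul_comm]; exact hcomm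
  have h2 := congrArg Subtype.val (DFunLike.congr_fun h1 (⟨x, hx⟩ : P'))
  change ⁅a, b⁆ * x * ⁅a, b⁆⁻¹ = x at h2
  exact (Commute.zpow_left (mul_inv_eq_iff_eq_mul.mp h2) k).eq


/-- Let G be a finite group and H a non-normal subgroup meeting each of its conjugates by elements outside N_G(H) trivially, with the order of H coprime to its index in N_G(H); let π be the set of primes dividing the order of H and suppose G is π-separable (it has a chain of normal subgroups from 1 to G each of whose factors has order divisible only by primes in π or coprime to the order of H). Let O be the largest normal subgroup of G of order coprime to the order of H. Then G = O·N_G(H), O·H is normal in G, and G is solvable if and only if O is solvable and H has no subgroup isomorphic to SL₂(5). -/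
theorem result {G : Type*} [Group G] [Finite G] (H : Subgroup G)
    (hTI : Cfsg.IsTISubset (H : Set G)) (hnn : ¬ H.Normal)
    (hHall : (Nat.card H).Coprime (H.subgroupOf (Subgroup.normalizer (H : Set G))).index)
    (hsep : ∃ (n : ℕ) (M : Fin (n + 1) → Subgroup G), M 0 = ⊥ ∧ M (Fin.last n) = ⊤ ∧ Monotone M ∧ (∀ i, (M i).Normal) ∧
      ∀ i : Fin n, (∀ q : ℕ, q.Prime → q ∣ (M i.castSucc).relIndex (M i.succ) → q ∣ Nat.card H) ∨
        ((M i.castSucc).relIndex (M i.succ)).Coprime (Nat.card H))
    (O : Subgroup G) (hO : O = sSup {K : Subgroup G | K.Normal ∧ (Nat.card K).Coprime (Nat.card H)}) :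
    O ⊔ Subgroup.normalizer (H : Set G) = ⊤ ∧ (O ⊔ H).Normal ∧
    (Group.IsSolvable G ↔ Group.IsSolvable O ∧
      ∀ K : Subgroup G, K ≤ H → ¬ Nonempty (K ≃* Matrix.SpecialLinearGroup (Fin 2) (ZMod 5))) := by
  subst hO
  set N := normalizer (H : Set G) with hN
  have hH : H ≠ ⊥ := fun h => hnn (h ▸ inferInstance)
  have mover : ∀ g x : G, x ∈ H → x ≠ 1 → g * x * g⁻¹ ∈ H → g ∈ N := by
    intro g x hx hx1 hgx
    by_contra hg
    exact hx1 (hTI g hg x hx hgx)
  have hcopi := Cfsg.Agent.S4151.coprime_index_of_ti H mover hHall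
  obtain ⟨K, hKn, hKc, hKN⟩ := Cfsg.Agent.S4151.exists_coprime_normal_sup H hH mover hcopi hsep
  set O := sSup {K : Subgroup G | K.Normal ∧ (Nat.card K).Coprime (Nat.card H)} with hOdef
  have hOp : O.Normal ∧ (Nat.card O).Coprime (Nat.card H) :=
    ⟨(inferInstance : (Cfsg.pPrimeCore (Nat.card H) G).Normal),
      Cfsg.Agent.Lib.PSolvable.pPrimeCore_coprime (p := Nat.card H) (G := G)⟩
  obtain ⟨hOn, hOc⟩ := hOp
  haveI := hOn
  have hON : O ⊔ N = ⊤ := top_le_iff.mp (hKN ▸ sup_le_sup_right (le_sSup (show K ∈ {K : Subgroup G | K.Normal ∧ (Nat.card K).Coprime (Nat.card H)} from ⟨hKn, hKc⟩)) N)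
  have hnormal : ∀ E : Subgroup G, N ≤ normalizer (E : Set G) → (O ⊔ E).Normal := by
    intro E hE
    rw [← normalizer_eq_top_iff, ← top_le_iff, ← hON, sup_le_iff]
    refine ⟨le_sup_left.trans le_normalizer, ?_⟩
    exact le_trans (le_inf (by rw [normalizer_eq_top O]; exact le_top) hE)
      (normalizer_inf_normalizer_le_normalizer_sup O E)
  refine ⟨hON, hnormal H le_rfl, ⟨fun hG => ⟨inferInstance, fun S hS e => ?_⟩, ?_⟩⟩
  · obtain ⟨e⟩ := e
    haveI := Fact.mk Nat.prime_five
    haveI : Group.IsSolvable (Matrix.SpecialLinearGroup (Fin 2) (ZMod 5)) :=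
      Group.isSolvable_of_surjective (f := e.toMonoidHom) e.surjective
    haveI : Nontrivial (Matrix.SpecialLinearGroup (Fin 2) (ZMod 5)) :=
      ⟨⟨1, -1, by decide⟩⟩
    exact (Group.IsSolvable.commutator_lt_top_of_nontrivial
      (Matrix.SpecialLinearGroup (Fin 2) (ZMod 5))).ne
      (Cfsg.Agent.Lib.LinGroup.commutator_SL_fin_eq_top le_rfl fun _ => by
        rw [Nat.card_zmod]; norm_num)
  rintro ⟨hOs, hSL⟩
  have hnc : ¬ O ≤ centralizer (H : Set G) := fun h => hnn (by
    rw [← normalizer_eq_top_iff, ← top_le_iff, ← hON]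
    exact sup_le (h.trans (centralizer_le_normalizer _)) le_rfl)
  have hHO : H ≤ normalizer (O : Set G) := by rw [normalizer_eq_top O]; exact le_top
  have hC : ∀ h ∈ H, h ≠ 1 → ∀ x ∈ O, h * x = x * h → x ∈ centralizer (H : Set G) := by
    intro h hh hh1 x hx hcx
    have hxN : x ∈ N := mover x h hh hh1 (by rwa [← hcx, mul_inv_cancel_right])
    rw [mem_centralizer_iff]
    intro y hy
    have h1 : ⁅x, y⁆ ∈ (O ⊓ H : Subgroup G) :=
      ⟨commutator_le_left O ⊤ (commutator_mem_commutator hx (mem_top y)), by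
        rw [commutatorElement_def]
        exact H.mul_mem ((mem_normalizer_iff.mp hxN y).mp hy) (H.inv_mem hy)⟩
    rw [inf_eq_bot_of_coprime hOc, mem_bot] at h1
    exact (commutatorElement_eq_one_iff_mul_comm.mp h1).symm
  have hFpf : Cfsg.Agent.Lib.Zass25.HasFpfRep H :=
    Cfsg.Agent.Lib.Zass25.hasFpfRep_of_occursAsComplement
      (occursAsComplement_of_centralizer hHO hOc.symm hOs hnc hH hC)
  haveI hHs : Group.IsSolvable H := by
    by_contra hns
    obtain ⟨L, -, -, ⟨e⟩⟩ := Cfsg.Agent.Lib.Zass25.exists_normal_sl25 hFpf hns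
    exact hSL (L.map H.subtype) (map_subtype_le _)
      ⟨((L.equivMapOfInjective _ H.subtype_injective).symm).trans e⟩
  obtain ⟨D', hD'⟩ := exists_right_complement'_of_coprime (N := H.subgroupOf N) (by
    rw [Nat.card_congr (subgroupOfEquivOfLe (le_normalizer : H ≤ N)).toEquiv]; exact hHall)
  set D := D'.map N.subtype with hDdef
  have hDN : D ≤ N := map_subtype_le _
  have hHD : H ⊔ D = N := by
    have := congrArg (Subgroup.map N.subtype) hD'.sup_eq_top
    rwa [Subgroup.map_sup, map_subgroupOf_eq_of_le le_normalizer, ← MonoidHom.range_eq_map, range_subtype]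
      at this
  have hDc : (Nat.card D).Coprime (Nat.card H) := by
    rw [hDdef, card_map_of_injective N.subtype_injective]
    rw [← hD'.symm.index_eq_card]
    exact hHall.symm
  have hder := commutator_le_centralizer hFpf hDN hDc
  have hDD : ⁅D, D⁆ ≤ D := commutator_le_self D
  haveI := hnormal ⁅D, D⁆ (by
    rw [← hHD, sup_le_iff]
    refine ⟨?_, Cfsg.Agent.Lib.Coprime.le_normalizer_commutator le_normalizer le_normalizer⟩
    exact le_trans (le_centralizer_iff.mp hder) (centralizer_le_normalizer _))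
  have hEO : ⁅D, D⁆ ≤ O := le_sup_right.trans (le_sSup (show O ⊔ ⁅D, D⁆ ∈ {K : Subgroup G | K.Normal ∧ _} from ⟨inferInstance,
    Cfsg.Agent.Lib.PSolvable.coprime_card_sup hOc (hDc.coprime_dvd_left (card_dvd_of_le hDD))⟩))
  haveI hDs : Group.IsSolvable D := by
    have h1 : Group.IsSolvable (⁅D, D⁆ : Subgroup G) :=
      Cfsg.Agent.Lib.Coprime.isSolvable_of_le hEO hOs
    haveI : Group.IsSolvable (_root_.commutator D) := by
      rw [← map_subtype_commutator] at h1
      haveI := h1
      exact Group.isSolvable_of_isSolvable_injective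
        (f := ((_root_.commutator D).equivMapOfInjective D.subtype D.subtype_injective).toMonoidHom)
        (MulEquiv.injective _)
    exact Group.isSolvable_of_ker_le_range (Subgroup.subtype (_root_.commutator D))
      (Abelianization.of (G := D)) (by rw [Abelianization.ker_of, range_subtype])
  have hNs : Group.IsSolvable (H ⊔ D : Subgroup G) :=
    Cfsg.Agent.Lib.Components.isSolvable_sup hDN hHs hDs
  rw [hHD] at hNs
  have : Group.IsSolvable (⊤ : Subgroup G) :=
    hON ▸ Cfsg.Agent.Lib.Components.isSolvable_sup (H := O) (K := N) (by rw [normalizer_eq_top O]; exact le_top) hOs hNs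
  exact Group.isSolvable_of_surjective (f := (topEquiv : (⊤ : Subgroup G) ≃* G).toMonoidHom) topEquiv.surjective

end Cfsg.Agent.S4118
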