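import Cfsg.Statements.S4125
import Mathlib
import Cfsg.Agent.Lib.BaerClass.OrbitSylow
import Cfsg.Agent.Lib.Burnside.Paqb
import Cfsg.Agent.Lib.CharSimple.Basic
import Cfsg.Agent.Lib.Coprime.Sylow
import Cfsg.Agent.Lib.PSolvable.HallHigman
import Cfsg.Agent.Lib.SZ.Conjugacy
import Cfsg.Agent.Lib.PGroup.Frattini

set_option autoImplicit false
open Cfsg

namespace Cfsg.Agent.S4125

open Subgroup

/-- The defining property. -/
def Hyp (q : ℕ) (G : Type*) [Group G] : Prop :=
  ∀ x : G, (∃ k : ℕ, orderOf x = q ^ k) →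
    ∃ (r : ℕ) (a : ℕ), r.Prime ∧ (centralizer ({x} : Set G)).index = r ^ a

theorem index_centralizer_map_dvd {G H : Type*} [Group G] [Group H] {f : G →* H}
    (hf : Function.Surjective f) (x : G) :
    (centralizer ({f x} : Set H)).index ∣ (centralizer ({x} : Set G)).index := by
  refine (index_dvd_of_le ?_).trans (index_map_dvd (centralizer ({x} : Set G)) hf)
  rintro _ ⟨y, hy, rfl⟩
  rw [mem_centralizer_singleton_iff, ← map_mul, ← map_mul, mem_centralizer_singleton_iff.1 hy]

theorem prime_pow_of_dvd {n m : ℕ} (h : ∃ r a : ℕ, r.Prime ∧ m = r ^ a) (hd : n ∣ m) :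
    ∃ r a : ℕ, r.Prime ∧ n = r ^ a := by
  obtain ⟨r, a, hr, rfl⟩ := h
  obtain ⟨b, -, hb⟩ := (Nat.dvd_prime_pow hr).1 hd
  exact ⟨r, b, hr, hb⟩

theorem hyp_subgroup {q : ℕ} {G : Type*} [Group G] [Finite G] (h : Hyp q G) (N : Subgroup G)
    [N.Normal] : Hyp q N := by
  intro x hx
  refine prime_pow_of_dvd (h (x : G) (by simpa [Subgroup.orderOf_coe] using hx)) ?_
  have e : centralizer ({x} : Set N) = (centralizer ({(x : G)} : Set G)).subgroupOf N := by
    ext y
    rw [mem_subgroupOf, mem_centralizer_singleton_iff, mem_centralizer_singleton_iff, ← Subtype.coe_inj,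
      Subgroup.coe_mul, Subgroup.coe_mul]
  rw [e]
  exact Lib.BaerClass.relIndex_dvd_index_of_normal_right N _

theorem hyp_quotient {q : ℕ} {G : Type*} [Group G] [Finite G] [Fact q.Prime] (h : Hyp q G)
    (N : Subgroup G) [N.Normal] : Hyp q (G ⧸ N) := by
  intro x hx
  obtain ⟨y, rfl⟩ := QuotientGroup.mk'_surjective N x
  obtain ⟨k, hk⟩ := hx
  set n := orderOf y with hn
  set s := q ^ n.factorization q with hs
  set m := n / s with hm
  have hn0 : n ≠ 0 := (orderOf_pos y).ne'
  have hnm : s * m = n := Nat.ordProj_mul_ordCompl_eq_self n q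
  have hcop : Nat.Coprime m (q ^ k) :=
    ((Nat.coprime_ordCompl Fact.out hn0).symm).pow_right k
  obtain ⟨c, hc⟩ : ∃ c, c = Nat.gcdA m (q ^ k) := ⟨_, rfl⟩
  -- a power of `y` with the same image and `q`-power order
  set w := y ^ ((m : ℤ) * c) with hw
  have himg : QuotientGroup.mk' N w = QuotientGroup.mk' N y := by
    have hgcd := Nat.gcd_eq_gcd_ab m (q ^ k)
    rw [hcop, ← hc] at hgcd
    rw [hw, map_zpow]
    conv_rhs => rw [← zpow_one (QuotientGroup.mk' N y), show (1 : ℤ) = ((1 : ℕ) : ℤ) from rfl, hgcd]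
    rw [zpow_add, zpow_mul (QuotientGroup.mk' N y) ((q ^ k : ℕ) : ℤ), zpow_natCast _ (q ^ k), ← hk,
      pow_orderOf_eq_one, one_zpow, mul_one]
  have hwq : w ^ s = 1 := by
    rw [hw, ← zpow_natCast, ← zpow_mul, show (m : ℤ) * c * (s : ℤ) = ((s * m : ℕ) : ℤ) * c by push_cast; ring,
      hnm, zpow_mul, zpow_natCast, hn, pow_orderOf_eq_one, one_zpow]
  obtain ⟨j, -, hj⟩ := (Nat.dvd_prime_pow Fact.out).1 (orderOf_dvd_of_pow_eq_one hwq)
  refine prime_pow_of_dvd (h w ⟨j, hj⟩) ?_
  rw [← himg]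
  exact index_centralizer_map_dvd (QuotientGroup.mk'_surjective N) w

/-- Burnside's theorem gives solubility for the prime `q`. -/
theorem isPSolvable_of_hyp.{w} {q : ℕ} [Fact q.Prime] :
    ∀ (n : ℕ) {G : Type w} [Group G] [Finite G], Nat.card G = n → Hyp q G → IsPSolvable q G := by
  intro n
  induction n using Nat.strong_induction_on with
  | _ n ih =>
    intro G _ _ hn hG
    rcases subsingleton_or_nontrivial G with hs | hs
    · exact Lib.PSolvable.isPSolvable_of_coprime (by simp)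
    obtain ⟨N, hNn, hsimple⟩ := Lib.CharSimple.exists_normal_isSimpleGroup_quotient G
    haveI := hNn
    haveI := hsimple
    have hlt : Nat.card N < Nat.card G := by
      refine lt_of_le_of_ne (Nat.card_le_card_of_injective _ N.subtype_injective) fun he => ?_
      have hN : N = ⊤ := (card_eq_iff_eq_top N).1 he
      haveI : Subsingleton (G ⧸ N) := by rw [hN]; exact QuotientGroup.subsingleton_quotient_top
      exact false_of_nontrivial_of_subsingleton (G ⧸ N)
    refine Lib.PSolvable.isPSolvable_of_normal N (ih _ (hn ▸ hlt) rfl (hyp_subgroup hG N)) ?_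
    by_cases hq : q ∣ Nat.card (G ⧸ N)
    swap
    · exact Lib.PSolvable.isPSolvable_of_coprime
        (((Fact.out : q.Prime).coprime_iff_not_dvd.2 hq).symm)
    obtain ⟨x, hx⟩ := exists_prime_orderOf_dvd_card' q hq
    obtain ⟨r, a, hr, ha⟩ := hyp_quotient hG N x ⟨1, by rw [hx, pow_one]⟩
    rcases Nat.eq_zero_or_pos a with rfl | ha0
    · have hcen : x ∈ center (G ⧸ N) := mem_center_iff.2 fun y => by
        have : y ∈ centralizer ({x} : Set (G ⧸ N)) := by
          rw [index_eq_one.1 (ha.trans (pow_zero r))]; trivial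
        exact mem_centralizer_singleton_iff.1 this
      rcases IsSimpleGroup.eq_bot_or_eq_top_of_normal (center (G ⧸ N)) inferInstance with hb | ht
      · rw [hb, mem_bot] at hcen
        rw [hcen, orderOf_one] at hx
        exact absurd hx.symm (Fact.out : q.Prime).ne_one
      · haveI : IsMulCommutative (G ⧸ N) := ⟨⟨fun u v =>
          (mem_center_iff.1 (ht ▸ mem_top v : v ∈ center (G ⧸ N)) u)⟩⟩
        exact Lib.PSolvable.isPSolvable_of_isMulCommutative
    · exact absurd ((Lib.Chars.card_conjClass_eq_index x).trans ha)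
        (Lib.Burnside.class_card_ne_prime_pow hr ha0)

section Setting

variable {G : Type*} [Group G] [Finite G] {q : ℕ} [Fact q.Prime]

theorem mem_pCore_of_index_pow (Q : Sylow q G) {x : G} (hx : x ∈ (Q : Subgroup G)) {a : ℕ}
    (ha : (centralizer ({x} : Set G)).index = q ^ a) : x ∈ pCore q G := by
  have hcop : (centralizer ({x} : Set G)).index.Coprime (Q : Subgroup G).index := by
    rw [ha]; exact ((Fact.out : q.Prime).coprime_iff_not_dvd.2 Q.not_dvd_index).pow_left a
  have hconj : ∀ g, g * x * g⁻¹ ∈ (Q : Subgroup G) := by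
    intro g
    obtain ⟨b, hb, hbg⟩ := Lib.ClassSize.exists_mem_mul_of_index_coprime _ (Q : Subgroup G) hcop g
    have h1 := mem_centralizer_singleton_iff.1 hbg
    have : g * x * g⁻¹ = b * x * b⁻¹ := by
      calc g * x * g⁻¹ = b * ((b⁻¹ * g) * x) * g⁻¹ := by group
        _ = b * (x * (b⁻¹ * g)) * g⁻¹ := by rw [h1]
        _ = b * x * b⁻¹ := by group
    rw [this]
    exact mul_mem (mul_mem hb hx) (inv_mem hb)
  have hle : normalClosure ({x} : Set G) ≤ (Q : Subgroup G) := by
    refine closure_le _ |>.2 fun y hy => ?_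
    obtain ⟨z, rfl, hz⟩ := Group.mem_conjugatesOfSet_iff.1 hy
    obtain ⟨g, rfl⟩ := isConj_iff.1 hz
    exact hconj g
  exact Lib.PSolvable.le_pCore (Q.isPGroup'.to_le hle) (subset_normalClosure rfl)

/-- The index of a centraliser is the size of a class. -/
theorem card_orbit_eq_index (x : G) :
    Nat.card {y : G // IsConj x y} = (centralizer ({x} : Set G)).index :=
  Lib.Chars.card_conjClass_eq_index x

/-- Two commuting elements of the kind considered cannot have classes of coprime sizes. -/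
theorem no_two_primes {x y : G} (hxq : ∃ k, orderOf x = q ^ k)
    {p r a b : ℕ} (hp : p.Prime) (hr : r.Prime) (hpr : p ≠ r) (hrq : r ≠ q) (ha0 : 0 < a)
    (ha : (centralizer ({x} : Set G)).index = p ^ a) (hb : (centralizer ({y} : Set G)).index = r ^ b)
    {c : ℕ} (hc : (centralizer ({x * y} : Set G)).index = r ^ c) : False := by
  classical
  haveI := Fact.mk hr
  have hcop : (centralizer ({x} : Set G)).index.Coprime (centralizer ({y} : Set G)).index := by
    rw [ha, hb]; exact ((Nat.coprime_primes hp hr).2 hpr).pow a b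
  have hall : ∀ g h : G, ∃ t, g * x * g⁻¹ * (h * y * h⁻¹) = t * (x * y) * t⁻¹ := by
    intro g h
    obtain ⟨d, hd, hdg⟩ := Lib.ClassSize.exists_mem_mul_of_index_coprime _ _ hcop (h⁻¹ * g)
    have h1 := mem_centralizer_singleton_iff.1 hd
    have h2 := mem_centralizer_singleton_iff.1 hdg
    refine ⟨h * d, ?_⟩
    have e2 : g * x * g⁻¹ = h * d * x * (h * d)⁻¹ := by
      calc g * x * g⁻¹ = h * d * ((d⁻¹ * (h⁻¹ * g)) * x) * g⁻¹ := by group
        _ = h * d * (x * (d⁻¹ * (h⁻¹ * g))) * g⁻¹ := by rw [h2]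
        _ = h * d * x * (h * d)⁻¹ := by group
    have e1 : h * y * h⁻¹ = h * d * y * (h * d)⁻¹ := by
      calc h * y * h⁻¹ = h * (y * d) * d⁻¹ * h⁻¹ := by group
        _ = h * (d * y) * d⁻¹ * h⁻¹ := by rw [h1]
        _ = h * d * y * (h * d)⁻¹ := by group
    rw [e1, e2]; group
  let Y := {w : G // IsConj y w}
  let Z := {w : G // IsConj (x * y) w}
  let L : G → Y → Z := fun g w => ⟨g * x * g⁻¹ * w.1, by
    obtain ⟨h, hh⟩ := isConj_iff.1 w.2
    obtain ⟨t, ht⟩ := hall g h
    exact isConj_iff.2 ⟨t, by rw [← hh, ht]⟩⟩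
  have hLi : ∀ g, Function.Injective (L g) := fun g u w h =>
    Subtype.ext (mul_left_cancel (congrArg Subtype.val h))
  have hcb : c = b := by
    have h1 : r ^ b ≤ r ^ c := by
      rw [← hb, ← hc, ← card_orbit_eq_index, ← card_orbit_eq_index]
      exact Nat.card_le_card_of_injective _ (hLi 1)
    have h2 : r ^ c ∣ p ^ a * r ^ b := by
      have hle : centralizer ({x} : Set G) ⊓ centralizer ({y} : Set G) ≤ centralizer ({x * y} : Set G) := by
        intro z hz
        rw [mem_centralizer_singleton_iff, ← mul_assoc, mem_centralizer_singleton_iff.1 hz.1, mul_assoc,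
          mem_centralizer_singleton_iff.1 hz.2, mul_assoc]
      have h3 := index_dvd_of_le hle
      have h4 : (centralizer ({x} : Set G) ⊓ centralizer ({y} : Set G)).index = p ^ a * r ^ b := by
        have h5 := index_inf_le (H := centralizer ({x} : Set G)) (K := centralizer ({y} : Set G))
        have h6 := hcop.mul_dvd_of_dvd_of_dvd
          (index_dvd_of_le (inf_le_left : centralizer ({x} : Set G) ⊓ centralizer ({y} : Set G) ≤ _))
          (index_dvd_of_le (inf_le_right : centralizer ({x} : Set G) ⊓ centralizer ({y} : Set G) ≤ _))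
        have := Nat.le_of_dvd (Nat.pos_of_ne_zero FiniteIndex.index_ne_zero) h6
        rw [ha, hb] at h5 this
        omega
      rw [hc, h4] at h3
      exact h3
    have h3 : r ^ c ∣ r ^ b :=
      ((Nat.coprime_primes hr hp).2 hpr.symm).pow c a |>.dvd_of_dvd_mul_left h2
    exact le_antisymm (Nat.le_of_dvd (pow_pos hr.pos b) h3 |> (Nat.pow_le_pow_iff_right hr.one_lt).1)
      ((Nat.pow_le_pow_iff_right hr.one_lt).1 h1)
  subst hcb
  have hLs : ∀ g, Function.Surjective (L g) := fun g =>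
    ((hLi g).bijective_of_nat_card_le (le_of_eq (by
      show Nat.card Z = Nat.card Y
      rw [card_orbit_eq_index, card_orbit_eq_index, hb, hc]))).2
  -- the translations preserving the class of `y`
  let T : Subgroup G :=
    { carrier := {n | ∀ w, IsConj y w ↔ IsConj y (n * w)}
      mul_mem' := fun {u v} hu hv w => by rw [mul_assoc]; exact (hv w).trans (hu _)
      one_mem' := fun w => by rw [one_mul]
      inv_mem' := fun {u} hu w => by rw [hu (u⁻¹ * w), mul_inv_cancel_left] }
  have hgen : ∀ g, x⁻¹ * (g * x * g⁻¹) ∈ T := by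
    intro g w
    constructor
    · intro hw
      obtain ⟨w', hw'⟩ := hLs 1 (L g ⟨w, hw⟩)
      have e : x * w'.1 = g * x * g⁻¹ * w := by simpa [L] using congrArg Subtype.val hw'
      rw [mul_assoc, ← e, inv_mul_cancel_left]
      exact w'.2
    · intro hw
      obtain ⟨w', hw'⟩ := hLs g (L 1 ⟨_, hw⟩)
      have e : g * x * g⁻¹ * w'.1 = x * (x⁻¹ * (g * x * g⁻¹) * w) := by
        simpa [L] using congrArg Subtype.val hw'
      rw [show x * (x⁻¹ * (g * x * g⁻¹) * w) = g * x * g⁻¹ * w by group] at e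
      rw [← mul_left_cancel e]
      exact w'.2
  set N₀ := normalClosure (Set.range fun g => x⁻¹ * (g * x * g⁻¹)) with hN₀
  have hgen' : ∀ g h, h * (x⁻¹ * (g * x * g⁻¹)) * h⁻¹ ∈ T := by
    intro g h
    have : h * (x⁻¹ * (g * x * g⁻¹)) * h⁻¹ =
        (x⁻¹ * (h * x * h⁻¹))⁻¹ * (x⁻¹ * ((h * g) * x * (h * g)⁻¹)) := by group
    rw [this]
    exact mul_mem (inv_mem (hgen h)) (hgen (h * g))
  have hN₀T : N₀ ≤ T := by
    refine closure_le _ |>.2 fun z hz => ?_
    obtain ⟨u, ⟨g, rfl⟩, hu⟩ := Group.mem_conjugatesOfSet_iff.1 hz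
    obtain ⟨h, rfl⟩ := isConj_iff.1 hu
    exact hgen' g h
  -- it is an `r`-group
  have hrN : IsPGroup r N₀ := by
    rw [IsPGroup.iff_card]
    refine ⟨_, (Nat.eq_prime_pow_of_unique_prime_dvd (p := r) Nat.card_pos.ne' ?_)⟩
    intro ℓ hℓ hd
    haveI := Fact.mk hℓ
    obtain ⟨n, hn⟩ := exists_prime_orderOf_dvd_card' ℓ hd
    by_contra hne
    letI act : MulAction (zpowers (n : G)) Y :=
      { smul := fun m w => ⟨m.1 * w.1, (hN₀T ((zpowers_le.2 n.2) m.2) w.1).1 w.2⟩
        one_smul := fun w => Subtype.ext (one_mul _)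
        mul_smul := fun u v w => Subtype.ext (mul_assoc _ _ _) }
    have hP : IsPGroup ℓ (zpowers (n : G)) := by
      refine IsPGroup.of_card (n := 1) ?_
      rw [Nat.card_zpowers, orderOf_coe, hn, pow_one]
    have hmod := hP.card_modEq_card_fixedPoints Y
    have hfix : IsEmpty (MulAction.fixedPoints (zpowers (n : G)) Y) := ⟨fun w => by
      have h1 : (n : G) * w.1.1 = w.1.1 := congrArg Subtype.val (w.2 ⟨(n : G), mem_zpowers _⟩)
      rw [mul_eq_right] at h1
      rw [OneMemClass.coe_eq_one] at h1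
      rw [h1, orderOf_one] at hn
      exact hℓ.ne_one hn.symm⟩
    rw [Nat.card_eq_zero.2 (Or.inl hfix), card_orbit_eq_index, hb, Nat.modEq_zero_iff_dvd] at hmod
    exact hne ((Nat.prime_dvd_prime_iff_eq hℓ hr).1 (hℓ.dvd_of_dvd_pow hmod))
  -- `x` is conjugate to its conjugates under `N₀`
  obtain ⟨k, hk⟩ := hxq
  haveI : N₀.Normal := normalClosure_normal
  set M := N₀ ⊔ zpowers x with hM
  have hxM : x ∈ M := mem_sup_right (mem_zpowers x)
  have hconjM : ∀ g, g * x * g⁻¹ ∈ M := fun g => by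
    rw [show g * x * g⁻¹ = x * (x⁻¹ * (g * x * g⁻¹)) by group]
    exact mul_mem hxM (mem_sup_left (subset_normalClosure ⟨g, rfl⟩))
  have hNC : N₀ ⊔ centralizer ({x} : Set G) = ⊤ := by
    rw [eq_top_iff']
    intro g
    have hsyl : ∀ u : G, u ∈ M → orderOf u = q ^ k → ¬ q ∣ ((zpowers u).subgroupOf M).index := by
      intro u hu hou hd
      have h1 := card_mul_index ((zpowers u).subgroupOf M)
      rw [Nat.card_congr (subgroupOfEquivOfLe (zpowers_le.2 hu)).toEquiv, Nat.card_zpowers, hou] at h1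
      have h2 : Nat.card M ∣ Nat.card N₀ * q ^ k := by
        have h3 := relIndex_sup_left (zpowers x) N₀
        rw [← hM] at h3
        have h4 := card_mul_index (N₀.subgroupOf M)
        rw [Nat.card_congr (subgroupOfEquivOfLe (le_sup_left : N₀ ≤ M)).toEquiv] at h4
        rw [← h4]
        refine Nat.mul_dvd_mul_left _ ?_
        change N₀.relIndex M ∣ q ^ k
        rw [h3, ← hk, ← Nat.card_zpowers]
        exact index_dvd_card _
      obtain ⟨e, he⟩ := IsPGroup.iff_card.1 hrN
      have h5 : ((zpowers u).subgroupOf M).index ∣ Nat.card N₀ := by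
        rw [← h1, mul_comm (Nat.card N₀)] at h2
        exact Nat.dvd_of_mul_dvd_mul_left (pow_pos (Fact.out : q.Prime).pos k) h2
      rw [he] at h5
      exact hrq ((Nat.prime_dvd_prime_iff_eq (Fact.out : q.Prime) hr).1
        ((Fact.out : q.Prime).dvd_of_dvd_pow (hd.trans h5))).symm
    have hpg : ∀ u : G, u ∈ M → orderOf u = q ^ k → IsPGroup q ((zpowers u).subgroupOf M) := by
      intro u hu hou
      refine IsPGroup.of_card (n := k) ?_
      rw [Nat.card_congr (subgroupOfEquivOfLe (zpowers_le.2 hu)).toEquiv, Nat.card_zpowers, hou]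
    have hog : orderOf (g * x * g⁻¹) = q ^ k :=
      ((MulAut.conj g).orderOf_eq x).trans hk
    obtain ⟨m, hm⟩ := MulAction.exists_smul_eq M
      ((hpg x hxM hk).toSylow (hsyl x hxM hk)) ((hpg _ (hconjM g) hog).toSylow (hsyl _ (hconjM g) hog))
    have hmem : (⟨g * x * g⁻¹, hconjM g⟩ : M) ∈
        ((zpowers x).subgroupOf M).map (MulAut.conj m).toMonoidHom := by
      have h1 := congrArg (fun S : Sylow q M => (S : Subgroup M)) hm
      simp only [Sylow.coe_subgroup_smul, IsPGroup.toSylow_coe] at h1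
      have h2 : (⟨g * x * g⁻¹, hconjM g⟩ : M) ∈ (zpowers (g * x * g⁻¹)).subgroupOf M := mem_zpowers _
      rw [← h1] at h2
      exact h2
    obtain ⟨u, hu, hmu⟩ := hmem
    obtain ⟨i, hi⟩ := mem_zpowers_iff.1 (mem_subgroupOf.1 hu)
    have e : (m : G) * x ^ i * (m : G)⁻¹ = g * x * g⁻¹ := by
      rw [hi]; exact congrArg Subtype.val hmu
    obtain ⟨n, hn, v, hv, hmv⟩ := mem_sup_of_normal_left.1 (show (m : G) ∈ N₀ ⊔ zpowers x from m.2)
    obtain ⟨j, rfl⟩ := mem_zpowers_iff.1 hv
    rw [← hmv] at e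
    have e' : n * x ^ i * n⁻¹ = g * x * g⁻¹ := by rw [← e]; group
    -- the exponent is `1` modulo `N₀`
    have hxi : x⁻¹ * x ^ i ∈ N₀ := by
      have a1 : (x ^ i)⁻¹ * (n * x ^ i * n⁻¹) ∈ N₀ := by
        rw [show (x ^ i)⁻¹ * (n * x ^ i * n⁻¹) = ((x ^ i)⁻¹ * n * (x ^ i)⁻¹⁻¹) * n⁻¹ by group]
        exact mul_mem (‹N₀.Normal›.conj_mem n hn _) (inv_mem hn)
      have a2 : x⁻¹ * (g * x * g⁻¹) ∈ N₀ := subset_normalClosure ⟨g, rfl⟩
      rw [show x⁻¹ * x ^ i = x⁻¹ * (g * x * g⁻¹) * ((x ^ i)⁻¹ * (g * x * g⁻¹))⁻¹ by group]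
      exact mul_mem a2 (inv_mem (e' ▸ a1))
    have hxi1 : x ^ i = x := by
      obtain ⟨e₂, he₂⟩ := hrN.exists_card_eq
      have h1 : orderOf (x⁻¹ * x ^ i) ∣ r ^ e₂ := he₂ ▸ (by
        rw [← orderOf_mk (x⁻¹ * x ^ i) hxi]; exact orderOf_dvd_natCard _)
      have h2 : orderOf (x⁻¹ * x ^ i) ∣ q ^ k := by
        rw [← hk, show x⁻¹ * x ^ i = x ^ (i - 1) by rw [zpow_sub_one]; group, ← Nat.card_zpowers x,
          ← orderOf_mk _ (zpow_mem (mem_zpowers x) (i - 1))]
        exact orderOf_dvd_natCard _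
      have h3 := Nat.eq_one_of_dvd_coprimes
        (((Nat.coprime_primes hr (Fact.out : q.Prime)).2 hrq).pow e₂ k) h1 h2
      rw [orderOf_eq_one_iff, inv_mul_eq_one] at h3
      exact h3.symm
    rw [hxi1] at e'
    have hcz : n⁻¹ * g ∈ centralizer ({x} : Set G) := by
      rw [mem_centralizer_singleton_iff]
      calc n⁻¹ * g * x = n⁻¹ * (g * x * g⁻¹) * g := by group
        _ = n⁻¹ * (n * x * n⁻¹) * g := by rw [e']
        _ = x * (n⁻¹ * g) := by group
    have := mul_mem (mem_sup_left hn : n ∈ N₀ ⊔ centralizer ({x} : Set G)) (mem_sup_right hcz)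
    rwa [mul_inv_cancel_left] at this
  have h7 : (centralizer ({x} : Set G)).index ∣ Nat.card N₀ := by
    have h1 := Lib.BaerClass.relIndex_dvd_index_of_normal_right N₀ (centralizer ({x} : Set G))
    have e3 := card_mul_index ((centralizer ({x} : Set G)).subgroupOf N₀)
    have e4 : (centralizer ({x} : Set G)).index = (centralizer ({x} : Set G)).relIndex N₀ := by
      have h2 : N₀.relIndex (centralizer ({x} : Set G)) = N₀.index := by
        rw [← relIndex_sup_right (centralizer ({x} : Set G)) N₀, sup_comm, hNC, relIndex_top_right]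
      have c1 := card_mul_index (N₀.subgroupOf (centralizer ({x} : Set G)))
      have c2 := card_mul_index (centralizer ({x} : Set G))
      have c3 := card_mul_index N₀
      have c4 : Nat.card (N₀.subgroupOf (centralizer ({x} : Set G))) =
          Nat.card ((centralizer ({x} : Set G)).subgroupOf N₀) := by
        rw [← card_map_of_injective (centralizer ({x} : Set G)).subtype_injective,
          ← card_map_of_injective N₀.subtype_injective, subgroupOf_map_subtype, subgroupOf_map_subtype,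
          inf_comm]
      change _ * N₀.relIndex _ = _ at c1
      change _ * (centralizer ({x} : Set G)).relIndex N₀ = _ at e3
      refine Nat.eq_of_mul_eq_mul_left (Nat.card_pos (α := centralizer ({x} : Set G))) ?_
      rw [c2, ← c3, ← h2, ← c1, ← e3, c4]
      ring
    rw [e4]
    exact ⟨_, ((mul_comm _ _).trans e3).symm⟩
  obtain ⟨e, he⟩ := IsPGroup.iff_card.1 hrN
  rw [ha, he] at h7
  exact hpr ((Nat.prime_dvd_prime_iff_eq hp hr).1 (hp.dvd_of_dvd_pow ((dvd_pow_self p ha0.ne').trans h7)))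

theorem sylow_conj_mem (Q : Sylow q G) {x : G} (hx : ∃ k : ℕ, orderOf x = q ^ k) :
    ∃ g, g * x * g⁻¹ ∈ (Q : Subgroup G) := by
  obtain ⟨k, hk⟩ := hx
  have hp : IsPGroup q (zpowers x) := IsPGroup.of_card (n := k) (by rw [Nat.card_zpowers, hk])
  obtain ⟨S, hS⟩ := hp.exists_le_sylow
  obtain ⟨g, hg⟩ := MulAction.exists_smul_eq G S Q
  refine ⟨g, ?_⟩
  rw [← hg, Sylow.coe_subgroup_smul]
  exact ⟨x, hS (mem_zpowers x), rfl⟩

theorem index_conj (g x : G) :
    (centralizer ({g * x * g⁻¹} : Set G)).index = (centralizer ({x} : Set G)).index := by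
  rw [← card_orbit_eq_index, ← card_orbit_eq_index]
  exact Nat.card_congr (Equiv.subtypeEquivRight fun y =>
    ⟨fun h => (isConj_iff.2 ⟨g, rfl⟩ : IsConj x (g * x * g⁻¹)).trans h,
      fun h => (isConj_iff.2 ⟨g, rfl⟩ : IsConj x (g * x * g⁻¹)).symm.trans h⟩)

theorem exists_orderOf_pow {Q : Sylow q G} {x : G} (hx : x ∈ (Q : Subgroup G)) :
    ∃ k : ℕ, orderOf x = q ^ k := by
  obtain ⟨k, hk⟩ := IsPGroup.iff_orderOf.1 Q.isPGroup' ⟨x, hx⟩
  exact ⟨k, by rw [← hk, Subgroup.orderOf_mk]⟩

/-- In the quotient by `O_{q'}` the Sylow subgroup is normal and self-centralising. -/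
theorem sylow_map_eq_pCore (hG : Hyp q G) (Q : Sylow q G) :
    (Q : Subgroup G).map (QuotientGroup.mk' (pPrimeCore q G)) = pCore q (G ⧸ pPrimeCore q G) ∧
    centralizer (pCore q (G ⧸ pPrimeCore q G) : Set (G ⧸ pPrimeCore q G)) ≤
      pCore q (G ⧸ pPrimeCore q G) := by
  set K := pPrimeCore q G
  set π := QuotientGroup.mk' K
  have hsolv : IsPSolvable q (G ⧸ K) := isPSolvable_of_hyp _ rfl (hyp_quotient hG K)
  have hcon := Lib.PSolvable.centralizer_pCore_le_of_isPSolvable_centralizer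
    (Lib.PSolvable.pPrimeCore_quotient_eq_bot (G := G) (p := q))
    (Lib.PSolvable.isPSolvable_subgroup hsolv _)
  refine ⟨le_antisymm ?_ ?_, hcon⟩
  · rintro _ ⟨x, hx, rfl⟩
    let Qb : Sylow q (G ⧸ K) := Q.mapSurjective (QuotientGroup.mk'_surjective K)
    have hxb : π x ∈ (Qb : Subgroup (G ⧸ K)) := ⟨x, hx, rfl⟩
    obtain ⟨r, a, hr, ha⟩ := prime_pow_of_dvd (hG x (exists_orderOf_pow hx))
      (index_centralizer_map_dvd (QuotientGroup.mk'_surjective K) x)
    by_cases hrq : r = q
    · subst hrq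
      exact mem_pCore_of_index_pow Qb hxb ha
    · have hnd : ¬ q ∣ (centralizer ({π x} : Set (G ⧸ K))).index := by
        rw [ha]
        intro hd
        exact hrq ((Nat.prime_dvd_prime_iff_eq Fact.out hr).1
          ((Fact.out : q.Prime).dvd_of_dvd_pow hd)).symm
      obtain ⟨S, hS⟩ := Lib.ClassSize.exists_sylow_le_centralizer hnd
      refine hcon (mem_centralizer_iff.2 fun u hu => ?_)
      exact (mem_centralizer_singleton_iff.1 (hS (Lib.PSolvable.pCore_le_sylow S hu)))
  · exact Lib.PSolvable.pCore_le_sylow (Q.mapSurjective (QuotientGroup.mk'_surjective K))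

/-- The group `O_{q',q}`. -/
theorem sup_normal (hG : Hyp q G) (Q : Sylow q G) :
    ((Q : Subgroup G) ⊔ pPrimeCore q G).Normal := by
  have h := (sylow_map_eq_pCore hG Q).1
  have h2 : ((Q : Subgroup G) ⊔ pPrimeCore q G) =
      (pCore q (G ⧸ pPrimeCore q G)).comap (QuotientGroup.mk' (pPrimeCore q G)) := by
    rw [← h, comap_map_eq, QuotientGroup.ker_mk']
  rw [h2]
  haveI : (pCore q (G ⧸ pPrimeCore q G)).Normal := inferInstance
  infer_instance

theorem exists_mul_of_mem (hG : Hyp q G) (Q : Sylow q G) (g : G) {x : G} (hx : x ∈ (Q : Subgroup G)) :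
    ∃ u ∈ (Q : Subgroup G), ∃ k ∈ pPrimeCore q G, u * k = g * x * g⁻¹ := by
  have h := (sup_normal hG Q).conj_mem x (mem_sup_left hx) g
  exact mem_sup_of_normal_right.1 h

theorem eq_one_of_mem_both {Q : Sylow q G} {x : G} (h1 : x ∈ (Q : Subgroup G))
    (h2 : x ∈ pPrimeCore q G) : x = 1 := by
  have := Lib.PSolvable.inf_eq_bot_of_isPGroup_of_coprime (H := (Q : Subgroup G))
    (K := pPrimeCore q G) Q.isPGroup' Lib.PSolvable.pPrimeCore_coprime
  exact mem_bot.1 (this ▸ (⟨h1, h2⟩ : x ∈ (Q : Subgroup G) ⊓ pPrimeCore q G))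

/-- Elements of the centre of no Sylow subgroup of the image. -/
theorem q_dvd_of_noncentral (hG : Hyp q G) (Q : Sylow q G) {x v : G} (hx : x ∈ (Q : Subgroup G))
    (hv : v ∈ (Q : Subgroup G)) (hne : x * v ≠ v * x) : q ∣ (centralizer ({x} : Set G)).index := by
  by_contra hnd
  obtain ⟨S, hS⟩ := Lib.ClassSize.exists_sylow_le_centralizer hnd
  obtain ⟨g, rfl⟩ := MulAction.exists_smul_eq G Q S
  rw [Sylow.coe_subgroup_smul] at hS
  obtain ⟨u, hu, k, hk, huk⟩ := exists_mul_of_mem hG Q g⁻¹ hv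
  -- `v` is congruent to an element centralising `x`
  have hgu : g * u * g⁻¹ ∈ centralizer ({x} : Set G) := hS ⟨u, hu, rfl⟩
  have hcomm := mem_centralizer_singleton_iff.1 hgu
  have hKn : (pPrimeCore q G).Normal := inferInstance
  set π := QuotientGroup.mk' (pPrimeCore q G)
  have hπ : π (g * u * g⁻¹) = π v := by
    have hkπ : π k = 1 := (QuotientGroup.eq_one_iff k).2 hk
    have : v = g * (u * k) * g⁻¹ := by rw [huk]; group
    rw [this]
    simp only [map_mul, hkπ, mul_one]
  have h3 : π (x * v) = π (v * x) := by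
    rw [map_mul, map_mul, ← hπ, ← map_mul, ← map_mul, hcomm]
  have h4 : (x * v)⁻¹ * (v * x) ∈ pPrimeCore q G := QuotientGroup.eq.1 h3
  exact hne (inv_mul_eq_one.1 (eq_one_of_mem_both
    (mul_mem (inv_mem (mul_mem hx hv)) (mul_mem hv hx)) h4))

/-- A non-abelian Sylow subgroup is a direct factor. -/
theorem nonabelian_case (hG : Hyp q G) (Q : Sylow q G) (hQ : ¬ IsMulCommutative (Q : Subgroup G)) :
    (Q : Subgroup G).Normal ∧ ∃ N : Subgroup G, N.Normal ∧ N.IsComplement' (Q : Subgroup G) ∧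
      ∀ x ∈ (Q : Subgroup G), ∀ n ∈ N, n * x = x * n := by
  classical
  set Z := center ↥(Q : Subgroup G) with hZ
  have hZt : Z ≠ ⊤ := fun h => hQ ⟨⟨fun a b => (mem_center_iff.1 (h ▸ mem_top b : b ∈ Z) a)⟩⟩
  have hindex : ∀ x : ↥(Q : Subgroup G), x ∉ Z → ∃ a, (centralizer ({(x : G)} : Set G)).index = q ^ a := by
    intro x hx
    rw [hZ, mem_center_iff] at hx
    push Not at hx
    obtain ⟨v, hv⟩ := hx
    have hd := q_dvd_of_noncentral hG Q x.2 v.2 fun h => hv (Subtype.ext h.symm)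
    obtain ⟨r, a, hr, ha⟩ := hG (x : G) (exists_orderOf_pow x.2)
    rw [ha] at hd
    have := (Nat.prime_dvd_prime_iff_eq Fact.out hr).1 ((Fact.out : q.Prime).dvd_of_dvd_pow hd)
    exact ⟨a, by rw [ha, this]⟩
  have hgen : ∀ {W : Subgroup ↥(Q : Subgroup G)}, (∀ x, x ∉ Z → x ∈ W) → W = ⊤ := by
    intro W hW
    obtain ⟨x, -, hx⟩ := SetLike.exists_of_lt (lt_top_iff_ne_top.2 hZt)
    rw [eq_top_iff']
    intro y
    by_cases hy : y ∈ Z
    · have := mul_mem (hW (y * x) fun h => hx (by simpa using mul_mem (inv_mem hy) h))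
        (inv_mem (hW x hx))
      simpa using this
    · exact hW y hy
  have hcore : (pCore q G) = (Q : Subgroup G) := by
    refine le_antisymm (Lib.PSolvable.pCore_le_sylow Q) ?_
    have := hgen (W := (pCore q G).subgroupOf (Q : Subgroup G)) fun x hx => by
      obtain ⟨a, ha⟩ := hindex x hx
      exact mem_pCore_of_index_pow Q x.2 ha
    exact subgroupOf_eq_top.1 this
  have hQn : (Q : Subgroup G).Normal := hcore ▸ inferInstance
  haveI := hQn
  have hcopQ : (Nat.card (Q : Subgroup G)).Coprime (Q : Subgroup G).index := Q.card_coprime_index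
  obtain ⟨H₀, hH₀⟩ := exists_left_complement'_of_coprime hcopQ
  set C := (centralizer (H₀ : Set G)).subgroupOf (Q : Subgroup G) with hC
  have hW : C ⊔ commutator ↥(Q : Subgroup G) = ⊤ := by
    refine hgen fun x hx => ?_
    obtain ⟨a, ha⟩ := hindex x hx
    set X := centralizer ({(x : G)} : Set G)
    -- a complement inside the centraliser
    haveI hn : ((Q : Subgroup G).subgroupOf X).Normal := inferInstance
    have hidx : (Q : Subgroup G).relIndex X = (Q : Subgroup G).index := by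
      have hcop : X.index.Coprime (Q : Subgroup G).index := by
        rw [ha]; exact ((Fact.out : q.Prime).coprime_iff_not_dvd.2 Q.not_dvd_index).pow_left a
      have h1 := index_dvd_of_le (inf_le_left : X ⊓ (Q : Subgroup G) ≤ X)
      have h2 := index_dvd_of_le (inf_le_right : X ⊓ (Q : Subgroup G) ≤ (Q : Subgroup G))
      have h3 : (X ⊓ (Q : Subgroup G)).index = X.index * (Q : Subgroup G).index :=
        le_antisymm index_inf_le
          (Nat.le_of_dvd (Nat.pos_of_ne_zero FiniteIndex.index_ne_zero) (hcop.mul_dvd_of_dvd_of_dvd h1 h2))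
      have h4 := relIndex_mul_index (inf_le_left : X ⊓ (Q : Subgroup G) ≤ X)
      rw [h3, inf_relIndex_left] at h4
      exact Nat.eq_of_mul_eq_mul_left (Nat.pos_of_ne_zero (FiniteIndex.index_ne_zero (H := X)))
        (by rw [mul_comm, h4])
    have hcop' : (Nat.card ((Q : Subgroup G).subgroupOf X)).Coprime ((Q : Subgroup G).subgroupOf X).index := by
      change (Nat.card _).Coprime ((Q : Subgroup G).relIndex X)
      rw [hidx]
      refine hcopQ.coprime_dvd_left ?_
      rw [← card_map_of_injective X.subtype_injective, subgroupOf_map_subtype]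
      exact card_dvd_of_le inf_le_left
    obtain ⟨Y, hY⟩ := exists_left_complement'_of_coprime hcop'
    have hcardY : Nat.card (Y.map X.subtype) = (Q : Subgroup G).index := by
      rw [card_map_of_injective X.subtype_injective, ← hY.index_eq_card]
      exact hidx
    obtain ⟨u, hu, ht⟩ := Lib.SZ.exists_mem_conj_of_card_eq_index (Q : Subgroup G) H₀ (Y.map X.subtype)
      hcopQ (Or.inl (by haveI := Q.isPGroup'.isNilpotent; infer_instance)) hH₀.index_eq_card.symm hcardY
    -- so a conjugate of `x` is centralised by `H₀`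
    have hxu : (u⁻¹ * (x : G) * u) ∈ centralizer (H₀ : Set G) := by
      rw [mem_centralizer_iff]
      intro h hh
      have hmem : u * h * u⁻¹ ∈ Y.map X.subtype := by
        rw [← ht]
        exact ⟨h, hh, rfl⟩
      have hc := mem_centralizer_singleton_iff.1 ((map_subtype_le Y) hmem)
      calc h * (u⁻¹ * x * u) = u⁻¹ * ((u * h * u⁻¹) * x) * u := by group
        _ = u⁻¹ * (x * (u * h * u⁻¹)) * u := by rw [hc]
        _ = u⁻¹ * x * u * h := by group
    let u' : ↥(Q : Subgroup G) := ⟨u, hu⟩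
    rw [show x = u'⁻¹ * x * u' * (u'⁻¹ * x⁻¹ * u' * x) by group]
    refine mul_mem (mem_sup_left ?_) (mem_sup_right ?_)
    · rw [hC, mem_subgroupOf]; exact hxu
    · have := commutator_mem_commutator (H₁ := (⊤ : Subgroup ↥(Q : Subgroup G))) (H₂ := ⊤)
        (mem_top u'⁻¹) (mem_top x⁻¹)
      rw [← commutator_def] at this
      convert this using 1
      group
  have hCtop : C = ⊤ := frattini_nongenerating
    (top_unique (hW ▸ sup_le_sup_left (Lib.PFrattini.commutator_le_frattini Q.isPGroup') C))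
  have hcent : ∀ x ∈ (Q : Subgroup G), ∀ n ∈ H₀, n * x = x * n := by
    intro x hx n hn
    have : (⟨x, hx⟩ : ↥(Q : Subgroup G)) ∈ C := hCtop ▸ mem_top _
    exact mem_centralizer_iff.1 (mem_subgroupOf.1 this) n hn
  refine ⟨hQn, H₀, ⟨fun n hn g => ?_⟩, hH₀, hcent⟩
  have := hH₀.sup_eq_top ▸ mem_top g
  obtain ⟨h, hh, x, hx, rfl⟩ := mem_sup_of_normal_right.1 this
  have e : x * n * x⁻¹ = n := by rw [← hcent x hx n hn, mul_inv_cancel_right]
  rw [show h * x * n * (h * x)⁻¹ = h * (x * n * x⁻¹) * h⁻¹ by group, e]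
  exact mul_mem (mul_mem hh hn) (inv_mem hh)

/-- The commutators of `O_{q'}` with the Sylow subgroup lie in `O_p`. -/
theorem commutator_mem_pCore {p : ℕ} [Fact p.Prime] (Q : Sylow q G)
    (hall : ∀ x ∈ (Q : Subgroup G), ∃ a, (centralizer ({x} : Set G)).index = p ^ a)
    {x : G} (hx : x ∈ (Q : Subgroup G)) {k : G} (hk : k ∈ pPrimeCore q G) :
    k * x * k⁻¹ * x⁻¹ ∈ pCore p G := by
  set K := pPrimeCore q G with hK
  set A := zpowers x
  have hAK : A ≤ normalizer (K : Set G) := by rw [normalizer_eq_top]; exact le_top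
  have hAQ : A ≤ (Q : Subgroup G) := zpowers_le.2 hx
  have hcop : (Nat.card A).Coprime (Nat.card K) := by
    obtain ⟨j, hj⟩ := IsPGroup.iff_card.1 (Q.isPGroup'.to_le hAQ)
    rw [hj]
    exact (Lib.PSolvable.pPrimeCore_coprime.symm).pow_left j
  obtain ⟨R, hR⟩ := Lib.Coprime.exists_invariant_sylow (p := p) hAK hcop
    (Or.inl (Group.isSolvable_of_comm fun a b => (IsMulCommutative.is_comm).comm a b))
  set R' := (R : Subgroup K).map K.subtype
  set C := (centralizer ({x} : Set G)).subgroupOf K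
  have hcopC : C.index.Coprime (R : Subgroup K).index := by
    obtain ⟨a, ha⟩ := hall x hx
    obtain ⟨b, -, hb⟩ := (Nat.dvd_prime_pow (Fact.out : p.Prime)).1
      (ha ▸ Lib.BaerClass.relIndex_dvd_index_of_normal_right K (centralizer ({x} : Set G)))
    rw [show C.index = p ^ b from hb]
    exact ((Fact.out : p.Prime).coprime_iff_not_dvd.2 R.not_dvd_index).pow_left b
  have hmemR : ∀ u : K, ((u : G) * x * (u : G)⁻¹ * x⁻¹) ∈ R' := by
    intro u
    obtain ⟨d, hd, hdu⟩ := Lib.ClassSize.exists_mem_mul_of_index_coprime C (R : Subgroup K) hcopC u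
    have hc := mem_centralizer_singleton_iff.1 (mem_subgroupOf.1 hdu)
    simp only [Subgroup.coe_mul, Subgroup.coe_inv] at hc
    have e : (u : G) * x * (u : G)⁻¹ * x⁻¹ = (d : G) * (x * (d : G)⁻¹ * x⁻¹) := by
      calc (u : G) * x * (u : G)⁻¹ * x⁻¹
          = (d : G) * (((d : G)⁻¹ * u) * x) * (u : G)⁻¹ * x⁻¹ := by group
        _ = (d : G) * (x * ((d : G)⁻¹ * u)) * (u : G)⁻¹ * x⁻¹ := by rw [hc]
        _ = (d : G) * (x * (d : G)⁻¹ * x⁻¹) := by group
    rw [e]
    have hdR : (d : G) ∈ R' := ⟨d, hd, rfl⟩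
    exact mul_mem hdR ((mem_normalizer_iff.1 (hR (mem_zpowers x)) _).1 (inv_mem hdR))
  have hxK : ∀ u : K, (u : G) * x * (u : G)⁻¹ * x⁻¹ ∈ K := fun u => (map_subtype_le _) (hmemR u)
  let S : Set K := Set.range fun u : K => (⟨(u : G) * x * (u : G)⁻¹ * x⁻¹, hxK u⟩ : K)
  have hSR : closure S ≤ (R : Subgroup K) := by
    refine (closure_le _).2 ?_
    rintro _ ⟨u, rfl⟩
    obtain ⟨y, hy, hye⟩ := hmemR u
    have e : y = (⟨(u : G) * x * (u : G)⁻¹ * x⁻¹, hxK u⟩ : K) := Subtype.ext hye
    show (⟨(u : G) * x * (u : G)⁻¹ * x⁻¹, hxK u⟩ : K) ∈ ((R : Subgroup K) : Set K)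
    rw [← e]; exact hy
  haveI : (closure S).Normal := by
    refine ⟨fun y hy t => ?_⟩
    induction hy using closure_induction with
    | mem z hz =>
      obtain ⟨u, rfl⟩ := hz
      have e : t * (⟨(u : G) * x * (u : G)⁻¹ * x⁻¹, hxK u⟩ : K) * t⁻¹ =
          ⟨_, hxK (t * u)⟩ * (⟨_, hxK t⟩ : K)⁻¹ := by
        refine Subtype.ext ?_
        simp only [Subgroup.coe_mul, Subgroup.coe_inv]
        group
      rw [e]
      exact mul_mem (subset_closure ⟨t * u, rfl⟩) (inv_mem (subset_closure ⟨t, rfl⟩))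
    | one => simp
    | mul u v _ _ hu hv =>
      rw [show t * (u * v) * t⁻¹ = (t * u * t⁻¹) * (t * v * t⁻¹) by group]
      exact mul_mem hu hv
    | inv u _ hu =>
      rw [show t * u⁻¹ * t⁻¹ = (t * u * t⁻¹)⁻¹ by group]
      exact inv_mem hu
  have h1 : closure S ≤ pCore p K := Lib.PSolvable.le_pCore (R.isPGroup'.to_le hSR)
  haveI hn2 := Lib.PSolvable.map_subtype_pCore_normal (p := p) K
  exact Lib.PSolvable.le_pCore (Lib.PSolvable.pCore_isPGroup.map K.subtype)
    ⟨_, h1 (subset_closure ⟨⟨k, hk⟩, rfl⟩), rfl⟩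

/-- For an abelian Sylow subgroup: normality modulo `O_p`. -/
theorem pCore_sup_normal {p : ℕ} [Fact p.Prime] (hG : Hyp q G) (Q : Sylow q G)
    (hall : ∀ x ∈ (Q : Subgroup G), ∃ a, (centralizer ({x} : Set G)).index = p ^ a) :
    (pCore p G ⊔ (Q : Subgroup G)).Normal := by
  set M := pCore p G ⊔ (Q : Subgroup G)
  have hM : ∀ g, ∀ x ∈ (Q : Subgroup G), g * x * g⁻¹ ∈ M := by
    intro g x hx
    set L := (Q : Subgroup G) ⊔ pPrimeCore q G
    have hQL : (Q : Subgroup G) ≤ L := le_sup_left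
    haveI := sup_normal hG Q
    have hgQ : ((g • Q : Sylow q G) : Subgroup G) ≤ L := by
      rw [Sylow.coe_subgroup_smul]
      rintro _ ⟨y, hy, rfl⟩
      exact ‹L.Normal›.conj_mem y (hQL hy) g
    obtain ⟨l, hl⟩ := MulAction.exists_smul_eq L (Q.subtype hQL) ((g • Q : Sylow q G).subtype hgQ)
    have hx' : g * x * g⁻¹ ∈ ((g • Q : Sylow q G) : Subgroup G) := by
      rw [Sylow.coe_subgroup_smul]; exact ⟨x, hx, rfl⟩
    have h1 : (⟨g * x * g⁻¹, hgQ hx'⟩ : L) ∈ ((g • Q : Sylow q G).subtype hgQ : Subgroup L) := by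
      rw [Sylow.coe_subtype]; exact hx'
    rw [← hl, Sylow.coe_subgroup_smul] at h1
    obtain ⟨y, hy, hye⟩ := h1
    rw [Sylow.coe_subtype] at hy
    rw [show g * x * g⁻¹ = (l : G) * (y : G) * (l : G)⁻¹ from (congrArg Subtype.val hye).symm]
    obtain ⟨u, hu, k, hk, huk⟩ := mem_sup_of_normal_right.1 l.2
    rw [← huk, show u * k * (y : G) * (u * k)⁻¹ = u * (k * y * k⁻¹ * (y : G)⁻¹) * y * u⁻¹ by group]
    have huM : u ∈ M := mem_sup_right hu
    exact mul_mem (mul_mem (mul_mem huM (mem_sup_left (commutator_mem_pCore Q hall hy hk)))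
      (mem_sup_right hy)) (inv_mem huM)
  refine ⟨fun m hm g => ?_⟩
  obtain ⟨a, ha, b, hb, rfl⟩ := mem_sup_of_normal_left.1 hm
  rw [show g * (a * b) * g⁻¹ = (g * a * g⁻¹) * (g * b * g⁻¹) by group]
  exact mul_mem (mem_sup_left ((inferInstance : (pCore p G).Normal).conj_mem a ha g)) (hM g b hb)

/-- Solubility of the factor by `O_{q'}`. -/
theorem quotient_solvable {p : ℕ} (hp : p.Prime) (hG : Hyp q G) (Q : Sylow q G)
    (hab : IsMulCommutative (Q : Subgroup G))
    (hall : ∀ x ∈ (Q : Subgroup G), ∃ a, (centralizer ({x} : Set G)).index = p ^ a) :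
    Group.IsSolvable (G ⧸ pPrimeCore q G) := by
  classical
  obtain ⟨hQV, hcon⟩ := sylow_map_eq_pCore hG Q
  set π := QuotientGroup.mk' (pPrimeCore q G)
  set V := pCore q (G ⧸ pPrimeCore q G) with hVdef
  haveI hVc : IsMulCommutative V := by
    rw [← hQV]
    refine ⟨⟨fun a b => Subtype.ext ?_⟩⟩
    obtain ⟨_, a', ha', rfl⟩ := a
    obtain ⟨_, b', hb', rfl⟩ := b
    show π a' * π b' = π b' * π a'
    rw [← map_mul, ← map_mul,
      show a' * b' = b' * a' from congrArg Subtype.val (hab.is_comm.comm ⟨a', ha'⟩ ⟨b', hb'⟩)]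
  letI : CommGroup V := { (inferInstance : Group V) with mul_comm := hVc.is_comm.comm }
  let ψ : (G ⧸ pPrimeCore q G) →* MulAut V := MulAut.conjNormal
  have hker : ψ.ker = V := by
    ext g
    rw [MonoidHom.mem_ker]
    constructor
    · intro hg
      refine hcon (mem_centralizer_iff.2 fun v hv => ?_)
      have := congrArg Subtype.val (DFunLike.congr_fun hg ⟨v, hv⟩)
      rw [MulAut.conjNormal_apply, MulAut.one_apply] at this
      exact (mul_inv_eq_iff_eq_mul.1 this).symm
    · intro hg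
      refine MulEquiv.ext fun v => Subtype.ext ?_
      rw [MulAut.conjNormal_apply, MulAut.one_apply]
      exact mul_inv_eq_iff_eq_mul.2 (congrArg Subtype.val (hVc.is_comm.comm ⟨g, hg⟩ v))
  have hndvd : ¬ q ∣ Nat.card ψ.range := by
    rw [← index_ker, hker, ← hQV]
    exact (Q.mapSurjective (QuotientGroup.mk'_surjective (pPrimeCore q G))).not_dvd_index
  haveI : Group.IsSolvable ψ.range := by
    refine Lib.BaerClass.isSolvable_of_orbit_prime_pow hp (Fact.out : q.Prime) _ rfl
      Lib.PSolvable.pCore_isPGroup hndvd ψ.range.subtype ψ.range.subtype_injective fun w => ?_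
    obtain ⟨x, hx, hxw⟩ : (w : G ⧸ pPrimeCore q G) ∈ (Q : Subgroup G).map π := by
      rw [hQV]; exact w.2
    obtain ⟨a, ha⟩ := hall x hx
    have hle : (centralizer ({x} : Set G)).map (ψ.rangeRestrict.comp π) ≤
        Lib.BaerClass.fixer ψ.range.subtype w := by
      rintro _ ⟨h, hh, rfl⟩
      refine Subtype.ext ?_
      show ((ψ (π h) w : V) : G ⧸ pPrimeCore q G) = w
      rw [MulAut.conjNormal_apply, ← hxw, ← map_mul, mem_centralizer_singleton_iff.1 hh, map_mul,
        mul_inv_cancel_right]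
    have hsurj : Function.Surjective (ψ.rangeRestrict.comp π) :=
      ψ.rangeRestrict_surjective.comp (QuotientGroup.mk'_surjective _)
    obtain ⟨b, -, hb⟩ := (Nat.dvd_prime_pow hp).1
      (ha ▸ (index_dvd_of_le hle).trans (index_map_dvd _ hsurj))
    exact ⟨b, hb⟩
  haveI : Group.IsSolvable V := Group.isSolvable_of_comm fun a b => hVc.is_comm.comm a b
  refine solvable_of_ker_le_range V.subtype ψ.rangeRestrict ?_
  rw [MonoidHom.ker_rangeRestrict, hker, range_subtype]

/-- One prime for all classes when the Sylow subgroup is abelian. -/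
theorem exists_prime (hG : Hyp q G) (Q : Sylow q G) (hab : IsMulCommutative (Q : Subgroup G)) :
    (∀ x ∈ (Q : Subgroup G), ∀ g : G, g * x = x * g) ∨
      ∃ p : ℕ, p.Prime ∧ p ≠ q ∧
        ∀ x ∈ (Q : Subgroup G), ∃ a, (centralizer ({x} : Set G)).index = p ^ a := by
  by_cases hc : ∀ x ∈ (Q : Subgroup G), ∀ g : G, g * x = x * g
  · exact Or.inl hc
  right
  push Not at hc
  obtain ⟨x, hx, g, hg⟩ := hc
  have hnq : ∀ z ∈ (Q : Subgroup G), ¬ q ∣ (centralizer ({z} : Set G)).index := fun z hz hd =>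
    Q.not_dvd_index (hd.trans (index_dvd_of_le fun u hu => mem_centralizer_singleton_iff.2
      (congrArg Subtype.val (hab.is_comm.comm ⟨u, hu⟩ ⟨z, hz⟩))))
  obtain ⟨p, a, hp, ha⟩ := hG x (exists_orderOf_pow hx)
  have ha0 : 0 < a := by
    by_contra h
    rw [Nat.le_zero.1 (not_lt.1 h), pow_zero, index_eq_one] at ha
    exact hg (mem_centralizer_singleton_iff.1 (ha ▸ mem_top g))
  have hpq : p ≠ q := fun h => hnq x hx (ha ▸ h ▸ dvd_pow_self p ha0.ne')
  refine ⟨p, hp, hpq, fun y hy => ?_⟩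
  obtain ⟨r, b, hr, hb⟩ := hG y (exists_orderOf_pow hy)
  by_cases hrp : r = p
  · exact ⟨b, by rw [hb, hrp]⟩
  rcases Nat.eq_zero_or_pos b with rfl | hb0
  · exact ⟨0, by rw [hb, pow_zero, pow_zero]⟩
  exfalso
  have hrq : r ≠ q := fun h => hnq y hy (hb ▸ h ▸ dvd_pow_self r hb0.ne')
  have hxy : x * y = y * x := congrArg Subtype.val (hab.is_comm.comm ⟨x, hx⟩ ⟨y, hy⟩)
  obtain ⟨s, c, hs, hc⟩ := hG (x * y) (exists_orderOf_pow (mul_mem hx hy))
  -- `s` is `p` or `r`
  have hdvd : s ^ c ∣ p ^ a * r ^ b := by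
    have hle : centralizer ({x} : Set G) ⊓ centralizer ({y} : Set G) ≤ centralizer ({x * y} : Set G) := by
      intro z hz
      rw [mem_centralizer_singleton_iff, ← mul_assoc, mem_centralizer_singleton_iff.1 hz.1, mul_assoc,
        mem_centralizer_singleton_iff.1 hz.2, mul_assoc]
    have h3 := index_dvd_of_le hle
    have hcop : (p ^ a).Coprime (r ^ b) := ((Nat.coprime_primes hp hr).2 (Ne.symm hrp)).pow a b
    have h4 : (centralizer ({x} : Set G) ⊓ centralizer ({y} : Set G)).index = p ^ a * r ^ b := by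
      have h5 := index_inf_le (H := centralizer ({x} : Set G)) (K := centralizer ({y} : Set G))
      have h6 := (ha ▸ hb ▸ hcop : (centralizer ({x} : Set G)).index.Coprime (centralizer ({y} : Set G)).index).mul_dvd_of_dvd_of_dvd
        (index_dvd_of_le (inf_le_left : centralizer ({x} : Set G) ⊓ centralizer ({y} : Set G) ≤ _))
        (index_dvd_of_le (inf_le_right : centralizer ({x} : Set G) ⊓ centralizer ({y} : Set G) ≤ _))
      have := Nat.le_of_dvd (Nat.pos_of_ne_zero FiniteIndex.index_ne_zero) h6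
      rw [ha, hb] at h5 this
      omega
    rw [hc, h4] at h3
    exact h3
  rcases Nat.eq_zero_or_pos c with rfl | hc0
  · exact no_two_primes (exists_orderOf_pow hx) hp hr (Ne.symm hrp) hrq ha0 ha hb (c := 0)
      (by rw [hc, pow_zero, pow_zero])
  rcases hs.dvd_mul.1 ((dvd_pow_self s hc0.ne').trans hdvd) with h | h
  · have := (Nat.prime_dvd_prime_iff_eq hs hp).1 (hs.dvd_of_dvd_pow h)
    subst this
    exact no_two_primes (exists_orderOf_pow hy) hr hs hrp hpq hb0 hb ha (c := c) (by rw [← hxy, hc])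
  · have := (Nat.prime_dvd_prime_iff_eq hs hr).1 (hs.dvd_of_dvd_pow h)
    subst this
    exact no_two_primes (exists_orderOf_pow hx) hp hs (Ne.symm hrp) hrq ha0 ha hb (c := c) hc

end Setting


/-- Let G be a finite group and q a prime dividing its order such that every element of q-power order has a conjugacy class of prime-power size. Then G is q-solvable of q-length 1: there are normal subgroups K ≤ L of G with K of order prime to q, L/K a q-group and L of index prime to q. Moreover there is a prime p such that every element of q-power order has a class of p-power size (one prime serving for all of them), and for a Sylow q-subgroup Q: if p = q then Q is normal with a normal complement (a direct factor), while if p ≠ q then Q is abelian, the product of Q with the largest normal p-subgroup O_p(G) is normal in G, and G/O_{q'}(G) is solvable, where O_{q'}(G) is the largest normal subgroup of order prime to q. -/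
theorem result {G : Type*} [Group G] [Finite G] (q : ℕ) [Fact q.Prime] (hq : q ∣ Nat.card G)
    (hBaer : ∀ x : G, (∃ k : ℕ, orderOf x = q ^ k) → ∃ (r : ℕ) (a : ℕ), r.Prime ∧ (Subgroup.centralizer ({x} : Set G)).index = r ^ a) (Q : Sylow q G) :
    (∃ K L : Subgroup G, K.Normal ∧ L.Normal ∧ K ≤ L ∧ (Nat.card K).Coprime q ∧ (∃ m : ℕ, K.relIndex L = q ^ m) ∧ L.index.Coprime q) ∧
    ∃ p : ℕ, p.Prime ∧ (∀ x : G, (∃ k : ℕ, orderOf x = q ^ k) → ∃ a : ℕ, (Subgroup.centralizer ({x} : Set G)).index = p ^ a) ∧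
      (p = q → (Q : Subgroup G).Normal ∧ ∃ N : Subgroup G, N.Normal ∧ N.IsComplement' (Q : Subgroup G)) ∧
      (p ≠ q → IsMulCommutative (Q : Subgroup G) ∧ (Cfsg.pCore p G ⊔ (Q : Subgroup G)).Normal ∧
        ∀ _h : (Cfsg.pPrimeCore q G).Normal, Group.IsSolvable (G ⧸ Cfsg.pPrimeCore q G)) := by
  have hG : Hyp q G := hBaer
  have hconj : ∀ {p : ℕ}, (∀ x ∈ (Q : Subgroup G), ∃ a, (Subgroup.centralizer ({x} : Set G)).index = p ^ a) →
      ∀ x : G, (∃ k : ℕ, orderOf x = q ^ k) → ∃ a : ℕ, (Subgroup.centralizer ({x} : Set G)).index = p ^ a := by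
    intro p hp x hx
    obtain ⟨g, hg⟩ := sylow_conj_mem Q hx
    obtain ⟨a, ha⟩ := hp _ hg
    exact ⟨a, by rw [← index_conj g x, ha]⟩
  refine ⟨?_, ?_⟩
  · haveI := sup_normal hG Q
    refine ⟨pPrimeCore q G, (Q : Subgroup G) ⊔ pPrimeCore q G, inferInstance, inferInstance, le_sup_right,
      Lib.PSolvable.pPrimeCore_coprime, ?_, ?_⟩
    · rw [Subgroup.relIndex_sup_right]
      obtain ⟨m, hm⟩ := IsPGroup.iff_card.1 Q.isPGroup'
      obtain ⟨j, -, hj⟩ := (Nat.dvd_prime_pow (Fact.out : q.Prime)).1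
        (hm ▸ ((pPrimeCore q G).subgroupOf (Q : Subgroup G)).index_dvd_card)
      exact ⟨j, hj⟩
    · exact ((((Fact.out : q.Prime).coprime_iff_not_dvd).2 Q.not_dvd_index).symm).coprime_dvd_left
        (Subgroup.index_dvd_of_le le_sup_left)
  by_cases hab : IsMulCommutative (Q : Subgroup G)
  · rcases exists_prime hG Q hab with hcen | ⟨p, hp, hpq, hall⟩
    · refine ⟨q, Fact.out, hconj fun x hx => ⟨0, ?_⟩, fun _ => ?_, fun h => absurd rfl h⟩
      · rw [pow_zero, Subgroup.index_eq_one, Subgroup.eq_top_iff']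
        exact fun g => Subgroup.mem_centralizer_singleton_iff.2 (hcen x hx g)
      have hN : Subgroup.normalizer ((Q : Subgroup G) : Set G) ≤ Subgroup.centralizer ((Q : Subgroup G) : Set G) :=
        fun g _ => Subgroup.mem_centralizer_iff.2 fun x hx => (hcen x hx g).symm
      refine ⟨⟨fun x hx g => ?_⟩, _, inferInstance, MonoidHom.ker_transferSylow_isComplement' Q hN⟩
      rw [hcen x hx g, mul_inv_cancel_right]
      exact hx
    · haveI := Fact.mk hp
      exact ⟨p, hp, hconj hall, fun h => absurd h hpq, fun _ =>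
        ⟨hab, pCore_sup_normal hG Q hall, fun _ => quotient_solvable hp hG Q hab hall⟩⟩
  · obtain ⟨hQn, N, hN, hNQ, hcomm⟩ := nonabelian_case hG Q hab
    refine ⟨q, Fact.out, hconj fun x hx => ?_, fun _ => ⟨hQn, N, hN, hNQ⟩, fun h => absurd rfl h⟩
    have hle : N ≤ Subgroup.centralizer ({x} : Set G) := fun n hn =>
      Subgroup.mem_centralizer_singleton_iff.2 (hcomm x hx n hn)
    obtain ⟨m, hm⟩ := IsPGroup.iff_card.1 Q.isPGroup'
    have hidx : N.index = q ^ m := by rw [hNQ.symm.index_eq_card, hm]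
    obtain ⟨a, -, ha⟩ := (Nat.dvd_prime_pow (Fact.out : q.Prime)).1 (hidx ▸ Subgroup.index_dvd_of_le hle)
    exact ⟨a, ha⟩

end Cfsg.Agent.S4125
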