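import Cfsg.Statements.S4126
import Mathlib
import Cfsg.Agent.Lib.Transfer.Criteria
import Cfsg.Agent.Lib.PPowerIndex.Basic

set_option autoImplicit false
open Cfsg

namespace Cfsg.Agent.S4126

/-- Let G be a finite group and p a prime. Suppose every element of order p, and when p = 2 also every element of order 4, has a conjugacy class of p-power size. Then G has a normal p-complement. -/
theorem result {G : Type*} [Group G] [Finite G] (p : ℕ) [Fact p.Prime]
    (h : ∀ x : G, (orderOf x = p ∨ (p = 2 ∧ orderOf x = 4)) → ∃ a : ℕ, (Subgroup.centralizer ({x} : Set G)).index = p ^ a) :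
    Cfsg.HasNormalPComplement p G := by
  rw [Lib.Transfer.hasNormalPComplement_iff_locallyPTrivial]
  intro Q hQ y hy hyo
  have h' : ∀ x : G, x ^ (if p = 2 then 4 else p) = 1 →
      ∃ a : ℕ, (Subgroup.centralizer ({x} : Set G)).index = p ^ a := by
    intro x hx
    have hp : p.Prime := Fact.out
    rcases eq_or_ne x 1 with rfl | hx1
    · refine ⟨0, ?_⟩
      rw [pow_zero, Subgroup.index_eq_one, eq_top_iff]
      exact fun g _ => Subgroup.mem_centralizer_singleton_iff.mpr (by simp)
    refine h x ?_
    have hd := orderOf_dvd_of_pow_eq_one hx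
    have h1 : orderOf x ≠ 1 := fun he => hx1 (orderOf_eq_one_iff.mp he)
    by_cases hp2 : p = 2
    · subst hp2
      rw [if_pos rfl] at hd
      have h4 : orderOf x ≤ 4 := Nat.le_of_dvd (by norm_num) hd
      interval_cases hk : orderOf x <;> simp_all <;> omega
    · rw [if_neg hp2] at hd
      exact Or.inl (((Nat.dvd_prime hp).mp hd).resolve_left h1)
  rw [Subgroup.mem_centralizer_iff]
  intro x hx
  exact (Lib.PPowerIndex.commute_of_commute_omega hyo hQ
    (fun z hz => (Subgroup.mem_normalizer_iff.mp hy z).mp hz)
    (fun z _ hz => Lib.PPowerIndex.commute_of_pPowerIndex h' hyo hz) x hx).symm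

end Cfsg.Agent.S4126
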