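import Cfsg.Statements.S4127
import Mathlib
import Cfsg.Agent.Lib.ClassSize.Cover
import Cfsg.Agent.Lib.Coprime.Basic

set_option autoImplicit false
open Cfsg

namespace Cfsg.Agent.S4127

open Pointwise in
theorem main {G : Type*} [Group G] [Finite G] (p : ℕ) [Fact p.Prime]
    (a : ℕ) (hmax : ∀ y : G, ¬ p ^ (a + 1) ∣ (Subgroup.centralizer ({y} : Set G)).index)
    (x : G) (k : ℕ) (hxo : orderOf x = p ^ k) (hxi : (Subgroup.centralizer ({x} : Set G)).index = p ^ a) :
    Cfsg.HasNormalPComplement p G := by
  have hp : p.Prime := Fact.out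
  set C := Subgroup.centralizer ({x} : Set G) with hC
  have hkey : ∀ y ∈ C, (orderOf y).Coprime p →
      ¬ p ∣ (Subgroup.centralizer ({y} : Set G)).relIndex C := by
    intro y hy hyp hd
    have hcomm : Commute x y := (Subgroup.mem_centralizer_singleton_iff.1 hy).symm
    have hco : (orderOf x).Coprime (orderOf y) := by
      rw [hxo]; exact (hyp.symm.pow_left k)
    have hxm : x ∈ Subgroup.zpowers (x * y) := by
      have h1 : (x * y) ^ orderOf y = x ^ orderOf y := by
        rw [hcomm.mul_pow, pow_orderOf_eq_one, mul_one]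
      obtain ⟨e, he⟩ : ∃ e : ℕ, (x ^ orderOf y) ^ e = x :=
        exists_pow_eq_self_of_coprime hco.symm
      rw [← h1, ← pow_mul] at he
      have h2 := Subgroup.pow_mem (Subgroup.zpowers (x * y)) (Subgroup.mem_zpowers (x * y)) (orderOf y * e)
      rwa [he] at h2
    have hle : Subgroup.centralizer ({x * y} : Set G) = C ⊓ Subgroup.centralizer ({y} : Set G) := by
      ext z
      rw [Subgroup.mem_inf, hC, Subgroup.mem_centralizer_singleton_iff,
        Subgroup.mem_centralizer_singleton_iff, Subgroup.mem_centralizer_singleton_iff]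
      constructor
      · intro hz
        obtain ⟨i, hi⟩ := hxm
        have hzx : z * x = x * z := by rw [← hi]; exact (show Commute z (x * y) from hz).zpow_right i
        refine ⟨hzx, ?_⟩
        have : Commute z (x⁻¹ * (x * y)) :=
          (show Commute z x from hzx).inv_right.mul_right (show Commute z (x * y) from hz)
        simpa using this.eq
      · rintro ⟨h1, h2⟩
        exact (show Commute z x from h1).mul_right (show Commute z y from h2)
    apply hmax (x * y)
    rw [hle, ← Subgroup.relIndex_mul_index (inf_le_left : C ⊓ _ ≤ C), hxi, Subgroup.inf_relIndex_left,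
      pow_succ']
    exact Nat.mul_dvd_mul_right hd _
  have hidx : ∀ y : C, (Subgroup.centralizer ({y} : Set C)).index =
      (Subgroup.centralizer ({(y : G)} : Set G)).relIndex C := by
    intro y
    rw [Subgroup.relIndex]
    congr 1
    ext z
    simp [Subgroup.mem_subgroupOf, Subgroup.mem_centralizer_singleton_iff, Subtype.ext_iff]
  have hCk : Cfsg.HasNormalPComplement p C := by
    apply Lib.ClassSize.hasNormalPComplement_of_forall_not_dvd
    intro y hy
    rw [hidx y]
    exact hkey _ y.2 (by rwa [Subgroup.orderOf_coe])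
  -- the conjugates of `x` generate a `p`-group
  have hxp : IsPGroup p (Subgroup.zpowers x) := IsPGroup.of_card (n := k) (by rw [Nat.card_zpowers, hxo])
  obtain ⟨P, hP⟩ := hxp.exists_le_sylow
  set U := Subgroup.normalClosure ({x} : Set G)
  have hUP : U ≤ (P : Subgroup G) := by
    apply (Subgroup.closure_le _).2
    intro z hz
    obtain ⟨x', hx', hz'⟩ := Group.mem_conjugatesOfSet_iff.1 hz
    rw [Set.mem_singleton_iff] at hx'; subst hx'
    obtain ⟨g, rfl⟩ := isConj_iff.1 hz'
    have hco : C.index.Coprime (P : Subgroup G).index := by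
      rw [hxi]
      exact Nat.Coprime.pow_left _ (hp.coprime_iff_not_dvd.2 P.not_dvd_index)
    obtain ⟨b, hb, hc⟩ := Lib.ClassSize.exists_mem_mul_of_index_coprime C _ hco g
    have h1 := Subgroup.mem_centralizer_singleton_iff.1 hc
    have : g * x' * g⁻¹ = b * x' * b⁻¹ := by
      calc g * x' * g⁻¹ = b * ((b⁻¹ * g) * x') * g⁻¹ := by group
        _ = b * (x' * (b⁻¹ * g)) * g⁻¹ := by rw [h1]
        _ = b * x' * b⁻¹ := by group
    rw [this]
    exact mul_mem (mul_mem hb (hP (Subgroup.mem_zpowers x'))) (inv_mem hb)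
  have hUp : IsPGroup p U := P.isPGroup'.to_le hUP
  have hxU : x ∈ U := Subgroup.subset_normalClosure rfl
  set L := Subgroup.centralizer (U : Set G) with hL
  have hLC : L ≤ C := fun z hz => Subgroup.mem_centralizer_singleton_iff.2
    (Subgroup.mem_centralizer_iff.1 hz x hxU).symm
  have hpL : ∀ y ∈ C, (orderOf y).Coprime p → y ∈ L := by
    intro y hy hyp
    have hcy : Commute x y := (Subgroup.mem_centralizer_singleton_iff.1 hy).symm
    refine Lib.Coprime.thompson_PxQ (P := Subgroup.zpowers x) (Q := Subgroup.zpowers y) (U := U)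
      hxp (by rwa [Nat.card_zpowers]) hUp ?_ ?_ ?_ ?_ (Subgroup.mem_zpowers y)
    · rw [Subgroup.zpowers_le, Subgroup.mem_centralizer_iff]
      rintro _ ⟨i, rfl⟩
      exact ((hcy.symm.zpow_left i)).eq
    · rw [Subgroup.normalizer_eq_top_iff.2 Subgroup.normalClosure_normal]; exact le_top
    · rw [Subgroup.normalizer_eq_top_iff.2 Subgroup.normalClosure_normal]; exact le_top
    · intro z hz
      obtain ⟨hzU, hzc⟩ := Subgroup.mem_inf.1 hz
      have hzC : z ∈ C := Subgroup.mem_centralizer_singleton_iff.2
        (Subgroup.mem_centralizer_iff.1 hzc x (Subgroup.mem_zpowers x)).symm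
      have hnd := hkey y hy hyp
      rw [← hidx ⟨y, hy⟩] at hnd
      obtain ⟨S, hS⟩ := Lib.ClassSize.exists_sylow_le_centralizer hnd
      haveI : (U.subgroupOf C).Normal := Subgroup.normalClosure_normal.comap C.subtype
      have hzS : (⟨z, hzC⟩ : C) ∈ (S : Subgroup C) := by
        have hUC : IsPGroup p (U.subgroupOf C) := hUp.comap_of_injective _ C.subtype_injective
        obtain ⟨R, hR⟩ := hUC.exists_le_sylow
        obtain ⟨c, rfl⟩ := MulAction.exists_smul_eq C R S
        rw [Sylow.coe_subgroup_smul, Subgroup.mem_pointwise_smul_iff_inv_smul_mem]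
        apply hR
        simpa [MulAut.smul_def, mul_assoc] using
          (‹(U.subgroupOf C).Normal›).conj_mem _ (show (⟨z, hzC⟩ : C) ∈ U.subgroupOf C from hzU) c⁻¹
      have hzy : Commute z y := by
        have := congrArg Subtype.val (Lib.ClassSize.mem_centralizer_singleton.1 (hS hzS))
        exact this
      rw [Subgroup.mem_centralizer_iff]
      rintro _ ⟨i, rfl⟩
      exact ((hzy.zpow_right i).eq).symm
  haveI : L.Normal := by
    haveI : U.Normal := Subgroup.normalClosure_normal
    exact Subgroup.normal_centralizer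
  have hLk : Cfsg.HasNormalPComplement p L :=
    Lib.Transfer.hasNormalPComplement_of_injective (Subgroup.inclusion hLC)
      (Subgroup.inclusion_injective hLC) hCk
  have hq : IsPGroup p (G ⧸ L) := by
    apply IsPGroup.iff_card.2
    have hne : L.index ≠ 0 := Subgroup.FiniteIndex.index_ne_zero
    obtain ⟨i, m, hm, he⟩ := Nat.exists_eq_pow_mul_and_not_dvd hne p hp.ne_one
    rcases eq_or_ne m 1 with h1 | h1
    · refine ⟨i, ?_⟩
      show L.index = p ^ i
      rw [he, h1, mul_one]
    exfalso
    obtain ⟨q, hq, hqm⟩ := Nat.exists_prime_and_dvd h1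
    haveI : Fact q.Prime := ⟨hq⟩
    have hqp : q ≠ p := fun e => hm (e ▸ hqm)
    obtain ⟨Q⟩ : Nonempty (Sylow q C) := inferInstance
    have hQL : (Q : Subgroup C).map C.subtype ≤ L := by
      rintro _ ⟨y, hy, rfl⟩
      obtain ⟨j, hj⟩ := IsPGroup.iff_orderOf.1 Q.isPGroup' ⟨y, hy⟩
      refine hpL _ y.2 ?_
      rw [Subgroup.subtype_apply, Subgroup.orderOf_coe]
      rw [Subgroup.orderOf_mk] at hj
      rw [hj]
      exact ((Nat.coprime_primes hq hp).2 hqp).pow_left j
    have h2 := Subgroup.index_dvd_of_le hQL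
    rw [Subgroup.index_map_subtype, hxi] at h2
    rcases hq.dvd_mul.1 ((Dvd.dvd.trans (he ▸ dvd_mul_of_dvd_right hqm _) h2)) with h3 | h3
    · exact Q.not_dvd_index h3
    · exact hqp ((Nat.prime_dvd_prime_iff_eq hq hp).1 (hq.dvd_of_dvd_pow h3))
  set K := (Cfsg.pResidual p L).map L.subtype
  haveI : K.Normal := by
    haveI : (Cfsg.pResidual p L).Characteristic := Lib.Transfer.pResidual_characteristic
    infer_instance
  refine Lib.Transfer.hasNormalPComplement_iff.2 fun hd => ?_
  apply Lib.Transfer.hasNormalPComplement_iff.1 hLk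
  rw [← Subgroup.card_map_of_injective L.subtype_injective]
  refine hd.trans (Subgroup.card_dvd_of_le (Lib.Transfer.pResidual_le_iff.2 fun g hg => ?_))
  have hgL : g ∈ L := by
    rw [← QuotientGroup.eq_one_iff]
    exact Lib.Transfer.eq_one_of_isPGroup_coprime hq
      (Nat.Coprime.coprime_dvd_left (orderOf_map_dvd (QuotientGroup.mk' L) g) hg)
  exact ⟨⟨g, hgL⟩, Lib.Transfer.mem_pResidual_of_coprime (by rwa [Subgroup.orderOf_mk]), rfl⟩


/-- Let G be a finite group, p a prime and p^a the largest power of p dividing the size of any conjugacy class of G. If some element of p-power order has a conjugacy class of size exactly p^a, then G has a normal p-complement. -/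
theorem result {G : Type*} [Group G] [Finite G] (p : ℕ) [Fact p.Prime]
    (a : ℕ) (hmax : ∀ y : G, ¬ p ^ (a + 1) ∣ (Subgroup.centralizer ({y} : Set G)).index)
    (hx : ∃ x : G, (∃ k : ℕ, orderOf x = p ^ k) ∧ (Subgroup.centralizer ({x} : Set G)).index = p ^ a) :
    Cfsg.HasNormalPComplement p G := by
  obtain ⟨x, ⟨k, hk⟩, hxi⟩ := hx
  exact main p a hmax x k hk hxi

end Cfsg.Agent.S4127
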