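import Cfsg.Statements.S4130
import Cfsg.Agent.Lib.ClassSize.SquarefreeSizes
import Cfsg.Agent.Lib.Supersolvable.Props
import Cfsg.Agent.Lib.Components.GenFitting
import Cfsg.Agent.Lib.Core.Nilpotent

set_option autoImplicit false
set_option linter.style.haveILetI false
open Cfsg

namespace Cfsg.Agent.S4130

open Cfsg.Agent.Lib
open scoped commutatorElement

section

variable {G : Type*} [Group G] [Finite G]

theorem isCyclic_commutator (h : Squarefree (Nat.card (commutator G))) :
    IsCyclic (commutator G) := by
  haveI := IsZGroup.of_squarefree h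
  haveI hc : IsCyclic (commutator (commutator G)) := IsZGroup.isCyclic_commutator _
  set N := (commutator (commutator G)).map (commutator G).subtype
  haveI : IsCyclic N := isCyclic_of_surjective _
    ((commutator G).subtype.subgroupMap_surjective (commutator (commutator G)))
  have hle := Supersolvable.commutator_le_centralizer_of_cyclic N
  have hcen : commutator (commutator G) ≤ Subgroup.center (commutator G) := by
    intro z hz
    rw [Subgroup.mem_center_iff]
    intro g
    exact Subtype.ext (Subgroup.mem_centralizer_iff.1 (hle g.2) _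
      (Subgroup.mem_map_of_mem (commutator G).subtype hz)).symm
  haveI : IsCyclic (Abelianization (commutator G)) := inferInstance
  have hcomm : ∀ a b : commutator G, a * b = b * a :=
    commutative_of_cyclic_center_quotient (Abelianization.of (G := commutator G))
      (by rw [Abelianization.ker_of]; exact hcen)
  haveI : Group.IsNilpotent (commutator G) :=
    Group.IsNilpotent.mk ⟨1, by
      rw [Subgroup.upperCentralSeries_one, eq_top_iff]
      intro a _
      exact Subgroup.mem_center_iff.2 fun b => hcomm b a⟩
  infer_instance

theorem isSupersolvable (h : IsCyclic (commutator G)) : Cfsg.IsSupersolvable G := by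
  have key : ∀ m : ℕ, ∀ M : Subgroup G, commutator G ≤ M → M.index = m →
      Supersolvable.Reach ⊥ M → Supersolvable.Reach (⊥ : Subgroup G) ⊤ := by
    intro m
    induction m using Nat.strong_induction_on with
    | _ m ih =>
      intro M hM hm hR
      by_cases hT : M = ⊤
      · exact hT ▸ hR
      obtain ⟨g, -, hg⟩ := SetLike.exists_of_lt (lt_top_iff_ne_top.2 hT)
      set M' := M ⊔ Subgroup.zpowers g with hM'
      have hn : ∀ K : Subgroup G, commutator G ≤ K → K.Normal := fun K hK => ⟨fun a ha b => by
        have : b * a * b⁻¹ = ⁅b, a⁆ * a := by rw [commutatorElement_def]; group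
        rw [this]
        exact K.mul_mem (hK (Subgroup.commutator_mem_commutator (Subgroup.mem_top b)
          (Subgroup.mem_top a))) ha⟩
      have hlt : M < M' := lt_of_le_of_ne le_sup_left fun e =>
        hg (e ▸ (le_sup_right (a := M) (Subgroup.mem_zpowers g)))
      refine ih _ ?_ M' (hM.trans le_sup_left) rfl (hR.tail ⟨hn M hM, hn M' (hM.trans le_sup_left), g, rfl⟩)
      rw [← hm]
      exact Subgroup.index_strictAnti hlt
  exact Supersolvable.isSupersolvable_iff.2 (key _ _ le_rfl rfl
    (Relation.ReflTransGen.single (Supersolvable.step_bot_of_cyclic _)))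

theorem fitting_structure (hs : ClassSize.SqfreeSizes G) (hc : IsCyclic (commutator G))
    (hsq : Squarefree (Nat.card (commutator G))) [(Cfsg.fittingSubgroup G).Normal] :
    (IsCyclic (G ⧸ Cfsg.fittingSubgroup G) ∧ Squarefree (Cfsg.fittingSubgroup G).index) ∧
      Subgroup.upperCentralSeries ↥(Cfsg.fittingSubgroup G) 2 = ⊤ := by
  set F := Cfsg.fittingSubgroup G with hF
  obtain ⟨z, hz⟩ := Subgroup.isCyclic_iff_exists_zpowers_eq_top (commutator G) |>.1 hc
  set C := Subgroup.centralizer ((commutator G : Subgroup G) : Set G) with hC
  haveI : C.Normal := Subgroup.normal_centralizer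
  have hGC : commutator G ≤ C := Supersolvable.commutator_le_centralizer_of_cyclic _
  haveI : Group.IsNilpotent C := by
    have hcomm : ∀ a b : C, ⁅a, b⁆ ∈ Subgroup.center C := fun a b => by
      rw [Subgroup.mem_center_iff]
      intro c
      have h1 : ((⁅a, b⁆ : C) : G) ∈ commutator G :=
        Subgroup.commutator_mem_commutator (Subgroup.mem_top (a : G)) (Subgroup.mem_top (b : G))
      exact Subtype.ext (Subgroup.mem_centralizer_iff.1 c.2 _ h1).symm
    refine Group.IsNilpotent.mk ⟨2, eq_top_iff.2 fun a _ => ?_⟩
    rw [Subgroup.mem_upperCentralSeries_succ_iff]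
    intro b
    rw [Subgroup.upperCentralSeries_one]
    exact hcomm a b
  have hCF : C ≤ F := Components.le_fittingSubgroup inferInstance inferInstance
  have hzC : C = Subgroup.centralizer ({z} : Set G) := by
    rw [hC, ← hz, Subgroup.zpowers_eq_closure, Subgroup.centralizer_closure]
  have hidx : Squarefree F.index :=
    (hs z).squarefree_of_dvd (hzC ▸ Subgroup.index_dvd_of_le hCF)
  refine ⟨⟨?_, hidx⟩, ?_⟩
  · haveI := IsZGroup.of_squarefree (G := G ⧸ F) (by rwa [← Subgroup.index_eq_card])
    have hab : ∀ a b : G ⧸ F, a * b = b * a := by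
      intro a b
      obtain ⟨a, rfl⟩ := QuotientGroup.mk_surjective a
      obtain ⟨b, rfl⟩ := QuotientGroup.mk_surjective b
      rw [← QuotientGroup.mk_mul, ← QuotientGroup.mk_mul, QuotientGroup.eq]
      refine hCF (hGC ?_)
      have : (a * b)⁻¹ * (b * a) = ⁅b⁻¹, a⁻¹⁆ := by rw [commutatorElement_def]; group
      rw [this]
      exact Subgroup.commutator_mem_commutator (Subgroup.mem_top _) (Subgroup.mem_top _)
    haveI : Group.IsNilpotent (G ⧸ F) :=
      Group.IsNilpotent.mk ⟨1, by
        rw [Subgroup.upperCentralSeries_one, eq_top_iff]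
        intro a _
        exact Subgroup.mem_center_iff.2 fun b => hab b a⟩
    infer_instance
  · haveI : Group.IsNilpotent F := Components.fittingSubgroup_isNilpotent
    set D : Subgroup F := commutator F with hD
    have hDle : D.map F.subtype ≤ commutator G := by
      rw [hD, commutator_def, Subgroup.map_commutator]
      exact Subgroup.commutator_mono le_top le_top
    haveI : IsCyclic (D.map F.subtype) := Subgroup.isCyclic_of_le hDle
    haveI : IsCyclic D := isCyclic_of_surjective _
      (D.equivMapOfInjective F.subtype F.subtype_injective).symm.surjective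
    have hDsq : Squarefree (Nat.card D) := by
      refine hsq.squarefree_of_dvd ?_
      rw [← Subgroup.card_map_of_injective (K := D) F.subtype_injective]
      exact Subgroup.card_dvd_of_le hDle
    have hDc : D ≤ Subgroup.center F := by
      set Z := (D ⊓ Subgroup.center F).subgroupOf D
      have hcop : (Nat.card Z).Coprime Z.index :=
        Nat.coprime_of_squarefree_mul (by rw [Z.card_mul_index]; exact hDsq)
      haveI : Z.Normal := inferInstance
      obtain ⟨W, hW⟩ := Subgroup.exists_right_complement'_of_coprime hcop
      have hWn : (W.map D.subtype).Normal :=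
        Supersolvable.normal_of_le_cyclic_normal (Subgroup.map_subtype_le W)
      by_cases hWb : W.map D.subtype = ⊥
      · rw [Subgroup.map_eq_bot_iff_of_injective _ D.subtype_injective] at hWb
        subst hWb
        have e := hW.sup_eq_top
        rw [sup_bot_eq, Subgroup.subgroupOf_eq_top] at e
        exact e.trans inf_le_right
      · exfalso
        apply Nilp.inf_center_ne_bot_of_normal (hN := hWn) hWb
        rw [eq_bot_iff]
        rintro x ⟨⟨y, hy, rfl⟩, hx⟩
        have : y ∈ Z ⊓ W := ⟨⟨y.2, hx⟩, hy⟩
        rw [hW.disjoint.eq_bot, Subgroup.mem_bot] at this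
        rw [this]
        simp
    rw [eq_top_iff]
    intro a _
    rw [Subgroup.mem_upperCentralSeries_succ_iff]
    intro b
    rw [Subgroup.upperCentralSeries_one]
    exact hDc (Subgroup.commutator_mem_commutator (Subgroup.mem_top a) (Subgroup.mem_top b))

end

/-- Let G be a finite group all of whose conjugacy class sizes are square-free. Then G is supersolvable, G/F(G) and the derived subgroup G′ are cyclic of square-free order (F(G) the Fitting subgroup, which is normal), F(G) has nilpotency class at most 2, and G is metabelian. -/
theorem result {G : Type*} [Group G] [Finite G]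
    (h : ∀ x : G, Squarefree (Subgroup.centralizer ({x} : Set G)).index) :
    Cfsg.IsSupersolvable G ∧ (Cfsg.fittingSubgroup G).Normal ∧
    (∀ _h : (Cfsg.fittingSubgroup G).Normal, IsCyclic (G ⧸ Cfsg.fittingSubgroup G) ∧ Squarefree (Cfsg.fittingSubgroup G).index) ∧
    IsCyclic (commutator G) ∧ Squarefree (Nat.card (commutator G)) ∧
    Subgroup.upperCentralSeries ↥(Cfsg.fittingSubgroup G) 2 = ⊤ ∧ commutator ↥(commutator G) = ⊥ := by
  have hsq := ClassSize.squarefree_card_commutator (G := G) h
  have hc := isCyclic_commutator hsq
  have hF : (Cfsg.fittingSubgroup G).Normal := Components.fittingSubgroup_normal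
  refine ⟨isSupersolvable hc, hF, fun _ => (fitting_structure h hc hsq).1, hc, hsq,
    (fitting_structure h hc hsq).2, ?_⟩
  show ⁅(⊤ : Subgroup ↥(commutator G)), ⊤⁆ = ⊥
  rw [eq_bot_iff, Subgroup.commutator_le]
  intro a _ b _
  rw [Subgroup.mem_bot, commutatorElement_eq_one_iff_commute]
  exact IsCyclic.isMulCommutative.1.1 a b

end Cfsg.Agent.S4130
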