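import Cfsg.Statements.S4135
import Cfsg.Agent.Lib.ClassSizeNormal.Main

set_option autoImplicit false
open Cfsg

namespace Cfsg.Agent.S4135

/-- Let G be a finite group, r a prime and R a Sylow r-subgroup of G that is not central, N a normal subgroup of G containing R, and m a natural number such that every element of N has a conjugacy class in G of size 1 or m. Then N is nilpotent. -/
theorem result {G : Type*} [Group G] [Finite G] (r : ℕ) [Fact r.Prime]
    (R : Sylow r G) (hR : ¬ (R : Subgroup G) ≤ Subgroup.center G) (N : Subgroup G) [N.Normal] (hRN : (R : Subgroup G) ≤ N)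
    (m : ℕ) (h : ∀ x ∈ N, (Subgroup.centralizer ({x} : Set G)).index = 1 ∨ (Subgroup.centralizer ({x} : Set G)).index = m) : Group.IsNilpotent N := by
  classical
  have hrel : ∀ w : G, (∃ i, orderOf w = r ^ i) → w ∈ N := by
    rintro w ⟨i, hi⟩
    obtain ⟨g, hg⟩ := Cfsg.Agent.Lib.ClassSizeNormal.exists_conj_le R
      (Cfsg.Agent.Lib.ClassSizeNormal.isPGroup_zpowers ⟨i, hi⟩)
    have := (inferInstance : N.Normal).conj_mem _ (hRN (hg w (Subgroup.mem_zpowers w))) g⁻¹
    simpa [mul_assoc] using this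
  obtain ⟨w, hwR, hwc⟩ := SetLike.not_le_iff_exists.1 hR
  refine Cfsg.Agent.Lib.ClassSizeNormal.Setup.isNilpotent (m := m) (r := r)
    ⟨fun a ha hac => (h a ha).resolve_left fun e => hac ?_, Fact.out, inferInstance, hrel⟩
    ⟨w, hRN hwR, hwc, Cfsg.Agent.Lib.ClassSizeNormal.exists_orderOf_pow R.isPGroup' hwR⟩
  exact Cfsg.Agent.Lib.ClassSizeTop.idx_eq_one_iff.1 e

end Cfsg.Agent.S4135
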