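import Cfsg.Statements.S4137
import Cfsg.Agent.Lib.ThreeTypes137.Inv
import Cfsg.Agent.Lib.ThreeTypes137.Free
import Cfsg.Agent.Lib.AbelianInvCentralizer.Classify
import Cfsg.Agent.Lib.AbelianInvCentralizer.SylowTwo
import Cfsg.Agent.Lib.SL2.Dickson
import Cfsg.Agent.S0205
-- import your own Cfsg.Agent.* helpers here

set_option autoImplicit false
set_option linter.style.haveILetI false
open Cfsg

namespace Cfsg.Agent.S4137

open Cfsg.Agent.Lib Cfsg.Agent.Lib.ThreeCentralizers

universe u

variable {G : Type u} [Group G] [Finite G]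

/-- At most three class sizes give at most three centralizer orders. -/
theorem le_three (hZ : Subgroup.center G = ⊥)
    (h : Nat.card {n : ℕ | 1 < n ∧ ∃ x : G, (Subgroup.centralizer ({x} : Set G)).index = n} ≤ 3)
    (x y z w : G) (hx : x ≠ 1) (hy : y ≠ 1) (hz : z ≠ 1) (hw : w ≠ 1) (hxy : csz x ≠ csz y)
    (hzx : csz z ≠ csz x) (hzy : csz z ≠ csz y) (hwx : csz w ≠ csz x) (hwy : csz w ≠ csz y) :
    csz w = csz z := by
  classical
  rw [Nat.card_coe_set_eq] at h
  set S := {n : ℕ | 1 < n ∧ ∃ x : G, (Subgroup.centralizer ({x} : Set G)).index = n}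
  have hmem : ∀ t : G, t ≠ 1 → (cen t).index ∈ S := fun t ht => by
    refine ⟨?_, t, rfl⟩
    have h1 : (cen t).index ≠ 1 := fun e =>
      ThreeTypes137.cen_ne_top hZ ht (Subgroup.index_eq_one.mp e)
    have h2 : (cen t).index ≠ 0 := Subgroup.index_ne_zero_of_finite
    omega
  have hinj : ∀ s t : G, csz s ≠ csz t → (cen s).index ≠ (cen t).index := by
    intro s t hne e
    have h1 := (cen s).card_mul_index
    rw [← (cen t).card_mul_index, e] at h1
    exact hne (Nat.eq_of_mul_eq_mul_right (Nat.pos_of_ne_zero Subgroup.index_ne_zero_of_finite) h1)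
  by_contra hne
  have hfin : S.Finite := (Finset.finite_toSet (Finset.range (Nat.card G + 1))).subset fun n hn => by
    obtain ⟨-, t, rfl⟩ := hn
    rw [Finset.coe_range, Set.mem_Iio]
    exact Nat.lt_succ_of_le (Nat.le_of_dvd Nat.card_pos (Subgroup.index_dvd_card _))
  have hsub : (({(cen x).index, (cen y).index, (cen z).index, (cen w).index} : Finset ℕ) : Set ℕ) ⊆ S := by
    intro m hm
    simp only [Finset.coe_insert, Finset.coe_singleton, Set.mem_insert_iff, Set.mem_singleton_iff] at hm
    rcases hm with rfl | rfl | rfl | rfl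
    · exact hmem x hx
    · exact hmem y hy
    · exact hmem z hz
    · exact hmem w hw
  have h4 := (Set.ncard_le_ncard hsub hfin).trans h
  rw [Set.ncard_coe_finset, Finset.card_insert_of_notMem, Finset.card_insert_of_notMem,
    Finset.card_insert_of_notMem, Finset.card_singleton] at h4
  · omega
  · simp [hinj z w (Ne.symm hne)]
  · simp [hinj y z hzy.symm, hinj y w hwy.symm]
  · simp [hinj x y hxy, hinj x z hzx.symm, hinj x w hwx.symm]

/-- Centralizers of involutions are abelian when the group is not solvable. -/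
theorem comm_involution (hZ : Subgroup.center G = ⊥) (hns : ¬ Group.IsSolvable G)
    (hle3 : ∀ x y z w : G, x ≠ 1 → y ≠ 1 → z ≠ 1 → w ≠ 1 → csz x ≠ csz y → csz z ≠ csz x →
      csz z ≠ csz y → csz w ≠ csz x → csz w ≠ csz y → csz w = csz z)
    (t : G) (ht : orderOf t = 2) : Comm (cen t) := by
  by_cases hfree : ∀ x y : G, x ≠ 1 → y ≠ 1 → cen x ≤ cen y → cen x = cen y
  · exact ThreeTypes137.comm_of_free hns hfree hle3 t ht
  push Not at hfree
  obtain ⟨x, y, hx, hy, hle, hne⟩ := hfree
  have hdvd : csz x ∣ csz y := Subgroup.card_dvd_of_le hle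
  have hxy : csz x ≠ csz y := fun h => hne (cen_eq_of_le hle h)
  obtain ⟨v, hv, hvx, hvy⟩ : ∃ v : G, v ≠ 1 ∧ csz v ≠ csz x ∧ csz v ≠ csz y := by
    by_contra hall
    push Not at hall
    refine ThreeTypes137.no_universal hZ hy fun w hw => ?_
    rcases eq_or_ne (csz w) (csz x) with h | h
    · rw [h]; exact hdvd
    · rw [hall w hw h]
  exact ThreeTypes137.Setup.comm_involution
    { x := x, u := y, v := v, x_ne := hx, u_ne := hy, v_ne := hv,
      lt := lt_of_le_of_ne hle hne, v_ne_x := hvx, v_ne_u := hvy,
      vals := fun w hw => by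
        by_cases h1 : csz w = csz x
        · exact Or.inl h1
        by_cases h2 : csz w = csz y
        · exact Or.inr (Or.inl h2)
        exact Or.inr (Or.inr (hle3 x y v w hx hy hv hw hxy hvx hvy h1 h2)),
      center_eq := hZ, ns := hns } t ht

/-- Let G be a finite group with trivial centre and at most three distinct sizes of conjugacy classes other than 1. Then G is solvable or G is isomorphic to PSL₂(2^a) for some a ≥ 1. -/
theorem result {G : Type*} [Group G] [Finite G]
    (hZ : Subgroup.center G = ⊥) (h : Nat.card {n : ℕ | 1 < n ∧ ∃ x : G, (Subgroup.centralizer ({x} : Set G)).index = n} ≤ 3) :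
    Group.IsSolvable G ∨ ∃ a : ℕ, 0 < a ∧ Nonempty (G ≃* Matrix.ProjectiveSpecialLinearGroup (Fin 2) (GaloisField 2 a)) := by
  classical
  by_cases hns : Group.IsSolvable G
  · exact Or.inl hns
  refine Or.inr ?_
  have hC : AbelianInvCentralizer.HasAbelianCent G := fun t ht a b ha hb =>
    comm_involution hZ hns (le_three hZ h) t (AbelianInvCentralizer.isInv_iff.mp ht) a
      (mem_cen.mpr ha) b (mem_cen.mpr hb)
  have heven : Even (Nat.card G) := by
    rw [← Nat.not_odd_iff_even]
    exact fun hodd => hns (S0205.result hodd)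
  haveI : Fact (Nat.Prime 2) := ⟨Nat.prime_two⟩
  obtain ⟨P⟩ : Nonempty (Sylow 2 G) := inferInstance
  have hquot : ∀ N : Subgroup G, N.Normal → Group.IsSolvable N → ¬ 2 ∣ N.index → Group.IsSolvable G := by
    intro N hN hNs hi
    haveI := hN
    haveI := hNs
    exact Group.isSolvable_of_ker_le_range N.subtype (QuotientGroup.mk' N)
      (by rw [QuotientGroup.ker_mk', Subgroup.range_subtype])
      (hG'' := S0205.result (Nat.not_even_iff_odd.mp fun he => hi he.two_dvd))
  rcases AbelianInvCentralizer.sylow_trichotomy hC P with hc | hn | ⟨hF, hS⟩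
  · exfalso
    have hP := IsCyclic.normalizer_le_centralizer ((Nat.minFac_eq_two_iff _).mpr heven.two_dvd) hc
    have hcompl := MonoidHom.ker_transferSylow_isComplement' P hP
    haveI : Group.IsSolvable (MonoidHom.transferSylow P hP).ker := S0205.result (by
      rw [← hcompl.index_eq_card]
      exact Nat.not_even_iff_odd.mp fun he => P.not_dvd_index he.two_dvd)
    haveI : IsCyclic (P : Subgroup G) := hc
    haveI : Group.IsSolvable (P : Subgroup G) := by
      haveI := P.isPGroup'.isNilpotent
      infer_instance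
    exact hns (Group.isSolvable_of_ker_le_range (MonoidHom.transferSylow P hP).ker.subtype
      (MonoidHom.transferSylow P hP) (by rw [Subgroup.range_subtype]))
  · exfalso
    haveI := P.isPGroup'.isNilpotent
    exact hns (hquot P hn inferInstance P.not_dvd_index)
  · obtain ⟨F, hFf, hFt, f, hchar, hf, hcard, -, ⟨e⟩⟩ :=
      AbelianInvCentralizer.exists_slTwo_prod hC hS hF
    haveI : Subsingleton ↥(Subgroup.center G) := by rw [hZ]; infer_instance
    haveI : Subsingleton (Subgroup.center (Matrix.SpecialLinearGroup (Fin 2) F)) := by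
      rw [AbelianInvCentralizer.slTwo_center_eq_bot]; infer_instance
    have hq : Function.Bijective
        (QuotientGroup.mk' (Subgroup.center (Matrix.SpecialLinearGroup (Fin 2) F))) := by
      refine ⟨?_, QuotientGroup.mk'_surjective _⟩
      rw [← MonoidHom.ker_eq_bot_iff, QuotientGroup.ker_mk']
      exact AbelianInvCentralizer.slTwo_center_eq_bot
    haveI : Fintype (GaloisField 2 f) := Fintype.ofFinite _
    have hcards : Fintype.card F = Fintype.card (GaloisField 2 f) := by
      rw [hcard, ← Nat.card_eq_fintype_card, GaloisField.card 2 f (by omega)]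
    refine ⟨f, by omega, ⟨((e.trans ?_).trans (MulEquiv.ofBijective _ hq)).trans
      (SL2.pslCongr (FiniteField.ringEquivOfCardEq hcards))⟩⟩
    exact MulEquiv.ofBijective (MonoidHom.fst _ _)
      ⟨fun x y hxy => Prod.ext hxy (Subsingleton.elim _ _), fun x => ⟨(x, 1), rfl⟩⟩

end Cfsg.Agent.S4137
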