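import Cfsg.Statements.S4142
import Mathlib

set_option autoImplicit false
open Cfsg

namespace Cfsg.Agent.S4142

theorem coset_iff {G : Type*} [Group G] [Finite G] (N : Subgroup G) [N.Normal] (g : G) :
    (∀ n ∈ N, ∃ x : G, x * g * x⁻¹ = g * n) ↔
      Nat.card (Subgroup.centralizer ({g} : Set G)) =
        Nat.card (Subgroup.centralizer ({(QuotientGroup.mk g : G ⧸ N)} : Set (G ⧸ N))) := by
  set C := Subgroup.centralizer ({g} : Set G) with hC
  set Cb := Subgroup.centralizer ({(QuotientGroup.mk g : G ⧸ N)} : Set (G ⧸ N)) with hCb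
  set D := Cb.comap (QuotientGroup.mk' N) with hD
  have hCD : C ≤ D := by
    intro x hx
    rw [hD, Subgroup.mem_comap, hCb, Subgroup.mem_centralizer_singleton_iff]
    rw [hC, Subgroup.mem_centralizer_singleton_iff] at hx
    exact congrArg (QuotientGroup.mk' N) hx
  have hmemD : ∀ x : G, g⁻¹ * (x * g * x⁻¹) ∈ N ↔ x ∈ D := by
    intro x
    rw [hD, Subgroup.mem_comap, hCb, Subgroup.mem_centralizer_singleton_iff, ← QuotientGroup.eq]
    show (QuotientGroup.mk g : G ⧸ N) = QuotientGroup.mk (x * g * x⁻¹) ↔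
      (QuotientGroup.mk x : G ⧸ N) * QuotientGroup.mk g = QuotientGroup.mk g * QuotientGroup.mk x
    constructor
    · intro h
      conv_rhs => rw [h]
      rw [← QuotientGroup.mk_mul, ← QuotientGroup.mk_mul]
      congr 1; group
    · intro h
      rw [QuotientGroup.mk_mul, QuotientGroup.mk_mul, QuotientGroup.mk_inv, h, mul_inv_cancel_right]
  let f : D ⧸ C.subgroupOf D → N := Quotient.lift (fun x : D => ⟨g⁻¹ * ((x:G) * g * (x:G)⁻¹), (hmemD _).2 x.2⟩) (by
    intro a b hab
    have hab' := (QuotientGroup.leftRel_apply).1 hab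
    rw [Subgroup.mem_subgroupOf, hC, Subgroup.mem_centralizer_singleton_iff] at hab'
    apply Subtype.ext
    have h3 : ((a : G)⁻¹ * b) * g * ((a : G)⁻¹ * b)⁻¹ = g := by
      rw [mul_inv_eq_iff_eq_mul]; simpa using hab'
    show g⁻¹ * ((a:G) * g * (a:G)⁻¹) = g⁻¹ * ((b:G) * g * (b:G)⁻¹)
    calc g⁻¹ * ((a:G) * g * (a:G)⁻¹)
        = g⁻¹ * ((a:G) * (((a : G)⁻¹ * b) * g * ((a : G)⁻¹ * b)⁻¹) * (a:G)⁻¹) := by rw [h3]
      _ = g⁻¹ * ((b:G) * g * (b:G)⁻¹) := by group)
  have hinj : Function.Injective f := by
    intro q r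
    induction q using QuotientGroup.induction_on with
    | _ a =>
      induction r using QuotientGroup.induction_on with
      | _ b =>
        intro h
        have h' : (a:G) * g * (a:G)⁻¹ = (b:G) * g * (b:G)⁻¹ := mul_left_cancel (congrArg Subtype.val h)
        apply (QuotientGroup.eq (s := C.subgroupOf D)).2
        rw [Subgroup.mem_subgroupOf, hC, Subgroup.mem_centralizer_singleton_iff]
        push_cast
        calc (a:G)⁻¹ * b * g = (a:G)⁻¹ * ((b:G) * g * (b:G)⁻¹) * b := by group
          _ = (a:G)⁻¹ * ((a:G) * g * (a:G)⁻¹) * b := by rw [h']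
          _ = g * ((a:G)⁻¹ * b) := by group
  have hsurj : Function.Surjective f ↔ ∀ n ∈ N, ∃ x : G, x * g * x⁻¹ = g * n := by
    constructor
    · intro h n hn
      obtain ⟨q, hq⟩ := h ⟨n, hn⟩
      induction q using QuotientGroup.induction_on with
      | _ a =>
        refine ⟨a, ?_⟩
        have := congrArg Subtype.val hq
        exact (inv_mul_eq_iff_eq_mul.1 this)
    · rintro h ⟨n, hn⟩
      obtain ⟨x, hx⟩ := h n hn
      have hxD : x ∈ D := (hmemD x).1 (by rw [hx]; simpa using hn)
      exact ⟨QuotientGroup.mk ⟨x, hxD⟩, Subtype.ext (inv_mul_eq_iff_eq_mul.2 hx)⟩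
  have e1 : C.relIndex D * Nat.card C = Nat.card D := by
    rw [mul_comm, ← Nat.card_congr (Subgroup.subgroupOfEquivOfLe hCD).toEquiv]
    exact Subgroup.card_mul_index _
  have e2 : Nat.card D = Nat.card N * Nat.card Cb := by
    have hidx : D.index = Cb.index :=
      Subgroup.index_comap_of_surjective _ (QuotientGroup.mk'_surjective N)
    have h1 := D.card_mul_index
    have h2 := Cb.card_mul_index
    have h3 := N.card_mul_index
    rw [hidx] at h1
    rw [Subgroup.index] at h3
    have h0 : 0 < Cb.index := Nat.pos_of_ne_zero Subgroup.FiniteIndex.index_ne_zero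
    refine Nat.eq_of_mul_eq_mul_right h0 ?_
    rw [h1, mul_assoc, h2, h3]
  have hN : 0 < Nat.card N := Nat.card_pos
  rw [← hsurj]
  constructor
  · intro h
    have heq : C.relIndex D = Nat.card N := Nat.card_eq_of_bijective f ⟨hinj, h⟩
    rw [heq, e2] at e1
    exact Nat.eq_of_mul_eq_mul_left hN e1
  · intro h
    have heq : C.relIndex D = Nat.card N := by
      rw [e2, ← h] at e1
      exact Nat.eq_of_mul_eq_mul_right Nat.card_pos e1
    exact (hinj.bijective_of_nat_card_le (le_of_eq heq.symm)).2


/-- Let G be a finite group and N a normal subgroup. Then the conjugacy class of every element g outside N is a union of cosets of N (gn is conjugate to g for all n ∈ N) if and only if for every g outside N the centralizer of g in G has the same order as the centralizer of gN in G/N. -/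
theorem result {G : Type*} [Group G] [Finite G] (N : Subgroup G) [N.Normal] :
    (∀ g : G, g ∉ N → ∀ n ∈ N, ∃ x : G, x * g * x⁻¹ = g * n) ↔
      ∀ g : G, g ∉ N → Nat.card (Subgroup.centralizer ({g} : Set G)) =
        Nat.card (Subgroup.centralizer ({(QuotientGroup.mk g : G ⧸ N)} : Set (G ⧸ N))) := by
  exact forall_congr' fun g => imp_congr_right fun _ => coset_iff N g

end Cfsg.Agent.S4142
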