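import Cfsg.Statements.S4143
import Cfsg.Agent.Lib.PLemmas.MaximalClass
-- import your own Cfsg.Agent.* helpers here

set_option autoImplicit false
open Cfsg

namespace Cfsg.Agent.S4143

/-- Let X be a finite p-group of order p^n containing a non-abelian subgroup B of order p³ with C_X(B) ≤ B. Then X has nilpotency class n − 1 (maximal class). -/
theorem result {X : Type*} [Group X] [Finite X] {p : ℕ} [Fact p.Prime] (n : ℕ) (hX : Nat.card X = p ^ n)
    (B : Subgroup X) (hB : Nat.card B = p ^ 3) (hBna : ¬ IsMulCommutative B) (hC : Subgroup.centralizer (B : Set X) ≤ B) :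
    Group.nilpotencyClass X = n - 1 := by
  classical
  have hp := (Fact.out : p.Prime)
  have hG : IsPGroup p X := IsPGroup.of_card hX
  haveI := hG.isNilpotent
  haveI : Nontrivial B := Finite.one_lt_card_iff_nontrivial.1 (hB ▸ Nat.one_lt_pow (by norm_num) hp.one_lt)
  haveI : Nontrivial X := Function.Injective.nontrivial (f := B.subtype) Subtype.val_injective
  set Cb := Subgroup.centralizer (B : Set X) with hCb
  have hBp : IsPGroup p B := IsPGroup.of_card hB
  have hZB : Nat.card (Subgroup.center B) = p := by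
    obtain ⟨j, hj0, hjn, hj, hQ⟩ :=
      Lib.PLemmas.exists_card_center_eq (G := ↥B) hBp hB (by norm_num)
    have hj1 : j = 1 := by
      by_contra hj1
      rcases (show j = 2 ∨ j = 3 by omega) with rfl | rfl
      · exact Lib.PLemmas.index_center_ne_prime (G := ↥B) (by simpa using hQ)
      · apply hBna
        have := Subgroup.eq_top_of_card_eq (Subgroup.center B) (hj.trans hB.symm)
        exact ⟨⟨fun a b => (Subgroup.mem_center_iff.1 (this ▸ Subgroup.mem_top a) b).symm⟩⟩
    rw [hj, hj1, pow_one]
  have hCbB : Nat.card Cb = p := by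
    rw [← hZB]
    refine Nat.card_congr ⟨fun x => ⟨⟨x.1, hC x.2⟩, Subgroup.mem_center_iff.2 fun b =>
        Subtype.ext (Subgroup.mem_centralizer_iff.1 x.2 b b.2)⟩,
      fun b => ⟨b.1.1, Subgroup.mem_centralizer_iff.2 fun a ha =>
        congrArg Subtype.val (Subgroup.mem_center_iff.1 b.2 ⟨a, ha⟩)⟩, fun x => rfl, fun b => rfl⟩
  have hZ : Subgroup.center X = Cb := by
    refine Subgroup.eq_of_le_of_card_ge (Subgroup.center_le_centralizer _) ?_
    obtain ⟨n', hn'⟩ := IsPGroup.iff_card.mp (hG.to_subgroup (Subgroup.center X))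
    haveI := hG.center_nontrivial
    have h1 := Finite.one_lt_card (α := Subgroup.center X)
    rw [hCbB, hn']
    rcases n' with _ | n'
    · simp [hn'] at h1
    · exact Nat.le_self_pow (Nat.succ_ne_zero _) p
  have hZc : Nat.card (Subgroup.center X) = p := hZ ▸ hCbB
  have hZB' : Subgroup.center X ≤ B := hZ ▸ hC
  obtain ⟨b1, hb1, b2, hb2, h12⟩ : ∃ b1 ∈ B, ∃ b2 ∈ B, b1 * b2 ≠ b2 * b1 := by
    by_contra! h
    exact hBna ⟨⟨fun a b => Subtype.ext (h a a.2 b b.2)⟩⟩
  set K := Subgroup.closure ({b1, b2} : Set X) with hK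
  have hKB : K = B := by
    have hle : K ≤ B := (Subgroup.closure_le _).2 (by
      rintro x (rfl | rfl)
      · exact hb1
      · exact hb2)
    refine Subgroup.eq_of_le_of_card_ge hle ?_
    obtain ⟨k, hk3, hk⟩ := (Nat.dvd_prime_pow hp).1 (hB ▸ Subgroup.card_dvd_of_le hle)
    by_contra hlt
    rw [hB, hk, not_le] at hlt
    have hk2 : k < 3 := (Nat.pow_lt_pow_iff_right hp.one_lt).1 hlt
    have hab : IsMulCommutative K := by
      interval_cases k
      · have := (Nat.card_eq_one_iff_unique.1 (hk.trans (pow_zero p))).1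
        exact ⟨⟨fun a b => Subsingleton.elim _ _⟩⟩
      · haveI := isCyclic_of_prime_card (p := p) (α := K) (by simpa using hk)
        exact IsCyclic.isMulCommutative
      · exact IsPGroup.isMulCommutative_of_card_eq_prime_sq hk
    exact h12 (congrArg Subtype.val (hab.is_comm.comm ⟨b1, Subgroup.subset_closure (by simp)⟩
      ⟨b2, Subgroup.subset_closure (by simp)⟩))
  let π := QuotientGroup.mk' (Subgroup.center X)
  have hker : π.ker = Subgroup.center X := QuotientGroup.ker_mk' _
  set A := B.map π with hA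
  set D := (Subgroup.centralizer (A : Set (X ⧸ Subgroup.center X))).comap π with hD
  have hcomm : ∀ g ∈ D, ∀ b ∈ B, g * b * g⁻¹ * b⁻¹ ∈ Subgroup.center X := by
    intro g hg b hb
    rw [← hker, MonoidHom.mem_ker, map_mul, map_mul, map_mul, map_inv, map_inv,
      ← Subgroup.mem_centralizer_iff.1 hg (π b) (Subgroup.mem_map_of_mem π hb), mul_inv_cancel_right,
      mul_inv_cancel]
  have hAcard : Nat.card A = p ^ 2 := by
    have h1 := (Subgroup.center X).card_mul_index
    have h2 := A.card_mul_index
    have h3 := B.card_mul_index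
    have hi : A.index = B.index := by
      rw [← Subgroup.index_comap_of_surjective A (QuotientGroup.mk'_surjective (Subgroup.center X)),
        Subgroup.comap_map_eq, hker, sup_eq_left.2 hZB']
    change _ * Nat.card (X ⧸ Subgroup.center X) = _ at h1
    rw [hZc, ← h2, hi] at h1
    rw [hB] at h3
    have h4 : p * Nat.card A * B.index = p ^ 3 * B.index := by rw [mul_assoc, h1, h3]
    have h5 := Nat.eq_of_mul_eq_mul_right (Nat.pos_of_ne_zero Subgroup.index_ne_zero_of_finite) h4
    rw [pow_succ', Nat.mul_left_cancel_iff hp.pos] at h5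
    exact h5
  haveI : IsMulCommutative A := IsPGroup.isMulCommutative_of_card_eq_prime_sq hAcard
  have hBD : B ≤ D := fun x hx => A.le_centralizer (Subgroup.mem_map_of_mem π hx)
  have hDle : Nat.card D ≤ p ^ 3 := by
    let f : D ⧸ (Subgroup.center X).subgroupOf D → Subgroup.center X × Subgroup.center X :=
      fun q => (⟨_, hcomm _ q.out.2 b1 hb1⟩, ⟨_, hcomm _ q.out.2 b2 hb2⟩)
    have hf : Function.Injective f := by
      intro q r h
      rw [← q.out_eq, ← r.out_eq]
      refine QuotientGroup.eq.2 (Subgroup.mem_subgroupOf.2 ?_)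
      have e : ∀ b ∈ ({b1, b2} : Set X), ((q.out : D) : X) * b * ((q.out : D) : X)⁻¹ =
          ((r.out : D) : X) * b * ((r.out : D) : X)⁻¹ := by
        rintro b (rfl | rfl)
        · exact mul_right_cancel (congrArg (fun z => (z.1 : X)) h)
        · exact mul_right_cancel (congrArg (fun z => (z.2 : X)) h)
      have hkey : ∀ x : X, x ∈ Subgroup.centralizer ({b1, b2} : Set X) → x ∈ Subgroup.center X := by
        intro x hx
        rw [hZ, hCb, ← hKB, hK, Subgroup.centralizer_closure]
        exact hx
      refine hkey _ (Subgroup.mem_centralizer_iff.2 ?_)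
      intro b hb
      have e' := congrArg
        (fun w => ((q.out : D) : X)⁻¹ * w * ((r.out : D) : X)) (e b hb)
      simpa [mul_assoc] using e'
    have h1 := Nat.card_le_card_of_injective f hf
    rw [Nat.card_prod, hZc] at h1
    have h2 := Subgroup.card_eq_card_quotient_mul_card_subgroup ((Subgroup.center X).subgroupOf D)
    rw [h2, Nat.card_congr (Subgroup.subgroupOfEquivOfLe (hZB'.trans hBD)).toEquiv, hZc]
    calc _ ≤ p * p * p := Nat.mul_le_mul_right p h1
      _ = p ^ 3 := by ring
  have hDB : D = B := (Subgroup.eq_of_le_of_card_ge hBD (hB ▸ hDle)).symm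
  have hCA : Subgroup.centralizer (A : Set (X ⧸ Subgroup.center X)) = A := by
    conv_rhs => rw [hA, ← hDB, hD]
    rw [Subgroup.map_comap_eq_self_of_surjective (QuotientGroup.mk'_surjective _)]
  obtain ⟨j, hj0, hjn, hj, hQ⟩ := Lib.PLemmas.exists_card_center_eq hG hX (by
    rcases Nat.eq_zero_or_pos n with rfl | h
    · exact absurd hX (by simpa using (Finite.one_lt_card (α := X)).ne')
    · exact h)
  have hj1 : j = 1 := Nat.pow_right_injective hp.two_le (hj.symm.trans (hZc.trans (pow_one p).symm))
  subst hj1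
  have hcl := Lib.PLemmas.nilpotencyClass_of_self_centralizing hQ A hAcard hCA
  have hn3 : 3 ≤ n :=
    (Nat.pow_dvd_pow_iff_le_right hp.one_lt).1 (hB ▸ hX ▸ B.card_subgroup_dvd_card)
  rw [Group.nilpotencyClass_eq_quotient_center_plus_one, hcl]
  omega

end Cfsg.Agent.S4143
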