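import Cfsg.Statements.S4176
import Mathlib
import Cfsg.Agent.Lib.ClassSize.Counting
import Cfsg.Agent.Lib.PSolvable.PSolv

set_option autoImplicit false
open Cfsg

namespace Cfsg.Agent.S4176

open scoped Classical Pointwise

variable {k V H : Type*} [Field k] [AddCommGroup V] [Module k V] [Group H] [Finite H]
  (ρ : Representation k H V)

/-- The stabiliser of a vector. -/
def stab (u : V) : Subgroup H where
  carrier := {g | ρ g u = u}
  one_mem' := by simp
  mul_mem' := fun {x y} (hx : ρ x u = u) (hy : ρ y u = u) => show ρ (x * y) u = u by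
    rw [map_mul, Module.End.mul_apply, hy, hx]
  inv_mem' := fun {x} (hx : ρ x u = u) => show ρ x⁻¹ u = u by
    conv_lhs => rw [← hx]
    rw [← Module.End.mul_apply, ← map_mul, inv_mul_cancel, map_one]; rfl

theorem card_orbit_eq (u : V) : Nat.card {w : V | ∃ h : H, ρ h u = w} = (stab ρ u).index := by
  let : MulAction H V := MulAction.compHom V ρ
  have h1 : stab ρ u = MulAction.stabilizer H u := rfl
  rw [h1, MulAction.index_stabilizer, ← Nat.card_coe_set_eq]
  rfl

def orbitMap (a : V) : H ⧸ stab ρ a → V :=
  Quotient.lift (fun g : H => ρ g a) fun x y hxy => by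
    have h : ρ (x⁻¹ * y) a = a := QuotientGroup.leftRel_apply.1 hxy
    conv_lhs => rw [← h]
    rw [← Module.End.mul_apply, ← map_mul, mul_inv_cancel_left]

noncomputable def orbitSum (a : V) : V :=
  haveI : Fintype (H ⧸ stab ρ a) := Fintype.ofFinite _
  ∑ q, orbitMap ρ a q

theorem ρ_orbitSum (a : V) (g : H) : ρ g (orbitSum ρ a) = orbitSum ρ a := by
  letI : Fintype (H ⧸ stab ρ a) := Fintype.ofFinite _
  rw [orbitSum, map_sum]
  refine Fintype.sum_equiv (MulAction.toPerm g) _ _ fun q => ?_
  induction q using QuotientGroup.induction_on with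
  | _ x => show ρ g (ρ x a) = ρ (g * x) a; rw [map_mul, Module.End.mul_apply]

theorem card_inf_normal {p : ℕ} [Fact p.Prime] (P : Sylow p H) (M : Subgroup H) [M.Normal] :
    p ^ (Nat.card M).factorization p ≤ Nat.card ↥((P : Subgroup H) ⊓ M) := by
  obtain ⟨Q0⟩ : Nonempty (Sylow p M) := inferInstance
  obtain ⟨Q, hQ⟩ := (Q0.isPGroup'.map M.subtype).exists_le_sylow
  obtain ⟨g, rfl⟩ := MulAction.exists_smul_eq H P Q
  rw [← Q0.card_eq_multiplicity, ← Subgroup.card_map_of_injective (K := (Q0 : Subgroup M)) M.subtype_injective]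
  refine (Subgroup.card_le_of_le (K := ((g • P : Sylow p H) : Subgroup H) ⊓ M)
    (le_inf hQ (Subgroup.map_subtype_le _))).trans (le_of_eq ?_)
  rw [Sylow.coe_subgroup_smul]
  conv_lhs => rw [← Subgroup.Normal.conj_smul_eq_self g M, ← Subgroup.smul_inf]
  exact Nat.card_congr (Subgroup.equivSMul _ _).symm.toEquiv

theorem core {p : ℕ} [Fact p.Prime] [CharP k p] (hsol : Cfsg.IsPSolvable p H) (a : V)
    (P : Sylow p H) (hfix : ∀ x : H, x ∈ (P : Subgroup H) → ρ x a = a)
    (hspan : Submodule.span k {u : V | ∃ h : H, ρ h a = u} = ⊤)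
    {v : V} (hv : ∀ g, ρ g v = v) : v ∈ Submodule.span k {orbitSum ρ a} := by
  have hp : p.Prime := Fact.out
  set A := stab ρ a
  haveI : Fintype (H ⧸ A) := Fintype.ofFinite _
  set s := orbitSum ρ a with hs
  let T : V →ₗ[k] V := ∑ q : H ⧸ A, ρ q.out
  have hTapp : ∀ w, T w = ∑ q : H ⧸ A, ρ q.out w := fun w => LinearMap.sum_apply _ _ _
  have hTa : T a = s := by
    rw [hTapp, hs, orbitSum]
    refine Finset.sum_congr (by ext; simp) fun q _ => ?_
    conv_rhs => rw [← QuotientGroup.out_eq' q]
    rfl
  obtain ⟨n, N, h0, hl, hmono, hnorm, hstep⟩ := hsol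
  have key : ∀ i : Fin (n + 1), ∃ b : V, (∀ g ∈ N i, ρ g b = b) ∧
      (∀ g ∈ (P : Subgroup H), ρ g b = b) ∧
      (∀ w : V, (∀ g ∈ N i, ρ g w = w) → w ∈ Submodule.span k {u : V | ∃ h : H, ρ h b = u}) ∧
      ∃ c : k, T b = c • s := by
    intro i
    induction i using Fin.induction with
    | zero =>
      exact ⟨a, by rw [h0]; simp, hfix, fun w _ => hspan ▸ Submodule.mem_top, 1, by rw [hTa, one_smul]⟩
    | succ i ih =>
      obtain ⟨b, hb1, hb2, hb3, c, hc⟩ := ih
      set K := N i.castSucc
      set M := N i.succ
      have hKM : K ≤ M := hmono (by simp [Fin.le_def])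
      haveI : K.Normal := hnorm _
      haveI : M.Normal := hnorm _
      rcases hstep i with ⟨m, hm⟩ | hco
      · -- a step of `p`-power index is covered by the Sylow subgroup
        have hJ : M ≤ K ⊔ ((P : Subgroup H) ⊓ M) := by
          set J := K ⊔ ((P : Subgroup H) ⊓ M)
          have hJM : J ≤ M := sup_le hKM inf_le_right
          have h1 : J.relIndex M ∣ p ^ m := hm ▸ Subgroup.relIndex_dvd_of_le_left M le_sup_left
          have h2 : Nat.card J * J.relIndex M = Nat.card M := by
            rw [← Nat.card_congr (Subgroup.subgroupOfEquivOfLe hJM).toEquiv]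
            exact Subgroup.card_mul_index _
          apply Subgroup.relIndex_eq_one.1
          by_contra hne
          obtain ⟨j, _, hj⟩ := (Nat.dvd_prime_pow hp).1 h1
          have hj0 : j ≠ 0 := fun e => hne (by rw [hj, e, pow_zero])
          obtain ⟨e, he⟩ := (IsPGroup.iff_card.1 (P.isPGroup'.to_le (inf_le_left : (P : Subgroup H) ⊓ M ≤ P)))
          have h3 : (Nat.card M).factorization p ≤ e :=
            (Nat.pow_le_pow_iff_right hp.one_lt).1 (he ▸ card_inf_normal P M)
          have h4 : p ^ (e + 1) ∣ Nat.card M := by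
            rw [← h2, pow_succ, hj]
            exact mul_dvd_mul (he ▸ Subgroup.card_dvd_of_le le_sup_right) (dvd_pow_self p hj0)
          have h5 := (hp.pow_dvd_iff_le_factorization Nat.card_pos.ne').1 h4
          omega
        have hMfix : ∀ g ∈ M, ρ g b = b := by
          have hle : K ⊔ ((P : Subgroup H) ⊓ M) ≤ stab ρ b :=
            sup_le hb1 fun g hg => hb2 g hg.1
          exact fun g hg => hle (hJ hg)
        exact ⟨b, hMfix, hb2, fun w hw => hb3 w (fun g hg => hw g (hKM hg)), c, hc⟩
      · -- a step of index prime to `p`: average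
        haveI : Fintype (M ⧸ K.subgroupOf M) := Fintype.ofFinite _
        let E : V →ₗ[k] V := ∑ r : M ⧸ K.subgroupOf M, ρ ((r.out : M) : H)
        have hEapp : ∀ w, E w = ∑ r : M ⧸ K.subgroupOf M, ρ ((r.out : M) : H) w :=
          fun w => LinearMap.sum_apply _ _ _
        have hwd : ∀ w, (∀ g ∈ K, ρ g w = w) → ∀ x : M,
            ρ (((QuotientGroup.mk x : M ⧸ K.subgroupOf M).out : M) : H) w = ρ (x : H) w := by
          intro w hw x
          obtain ⟨y, hy⟩ := QuotientGroup.mk_out_eq_mul (K.subgroupOf M) x
          rw [hy, Subgroup.coe_mul, map_mul, Module.End.mul_apply, hw ((y : M) : H) y.2]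
        have hEM : ∀ w, (∀ g ∈ K, ρ g w = w) → ∀ g ∈ M, ρ g (E w) = E w := by
          intro w hw g hg
          rw [hEapp, map_sum]
          refine Fintype.sum_equiv (MulAction.toPerm (⟨g, hg⟩ : M)) _ _ fun r => ?_
          induction r using QuotientGroup.induction_on with
          | _ x =>
            show ρ g _ = ρ (((QuotientGroup.mk ((⟨g, hg⟩ : M) * x) : M ⧸ K.subgroupOf M).out : M) : H) w
            rw [hwd w hw, hwd w hw, Subgroup.coe_mul, map_mul, Module.End.mul_apply]
        have hEh : ∀ w, (∀ g ∈ K, ρ g w = w) → ∀ h : H, ρ h (E w) = E (ρ h w) := by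
          intro w hw h
          have hw' : ∀ g ∈ K, ρ g (ρ h w) = ρ h w := by
            intro g hg
            have h1 := hw _ ((hnorm i.castSucc).conj_mem g hg h⁻¹)
            rw [inv_inv] at h1
            conv_rhs => rw [← h1]
            rw [← Module.End.mul_apply, ← Module.End.mul_apply, ← map_mul, ← map_mul]
            congr 2; group
          let cj : M →* M :=
            { toFun := fun x => ⟨h * x * h⁻¹, (hnorm i.succ).conj_mem _ x.2 h⟩
              map_one' := by ext; simp
              map_mul' := fun x y => by ext; simp [mul_assoc] }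
          let f : M ⧸ K.subgroupOf M → M ⧸ K.subgroupOf M := QuotientGroup.map _ _ cj (by
            intro x hx
            exact (hnorm i.castSucc).conj_mem _ hx h)
          have hf : Function.Surjective f := by
            intro r
            induction r using QuotientGroup.induction_on with
            | _ x =>
              refine ⟨QuotientGroup.mk ⟨h⁻¹ * x * h, ?_⟩, ?_⟩
              · simpa using (hnorm i.succ).conj_mem _ x.2 h⁻¹
              · show (QuotientGroup.mk (cj _) : M ⧸ K.subgroupOf M) = QuotientGroup.mk x
                congr 1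
                ext; simp [cj, mul_assoc]
          rw [hEapp, hEapp, map_sum]
          refine Fintype.sum_bijective f (Finite.injective_iff_surjective.2 hf |> fun hi => ⟨hi, hf⟩) _ _ fun r => ?_
          induction r using QuotientGroup.induction_on with
          | _ x =>
            show ρ h _ = ρ (((QuotientGroup.mk (cj x) : M ⧸ K.subgroupOf M).out : M) : H) (ρ h w)
            rw [hwd w hw, hwd _ hw', ← Module.End.mul_apply, ← Module.End.mul_apply, ← map_mul, ← map_mul]
            congr 2
            show h * (x : H) = (h * x * h⁻¹) * h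
            group
        set m : k := ((K.relIndex M : ℕ) : k) with hm
        have hm0 : m ≠ 0 := by
          rw [hm, Ne, CharP.cast_eq_zero_iff k p]
          exact fun hd => hp.not_dvd_one (hco ▸ Nat.dvd_gcd hd dvd_rfl)
        have hEfix : ∀ w, (∀ g ∈ M, ρ g w = w) → E w = m • w := by
          intro w hw
          rw [hEapp, Finset.sum_congr rfl fun r _ => hw _ (r.out : M).2, hm, Subgroup.relIndex,
            Subgroup.index, Nat.card_eq_fintype_card]
          simp [Nat.cast_smul_eq_nsmul]
        refine ⟨E b, hEM b hb1, fun g hg => by rw [hEh b hb1, hb2 g hg], ?_, c * m, ?_⟩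
        · intro w hw
          have h1 : Submodule.span k {u : V | ∃ h : H, ρ h b = u} ≤
              (Submodule.span k {u : V | ∃ h : H, ρ h (E b) = u}).comap E := by
            rw [Submodule.span_le]
            rintro _ ⟨h, rfl⟩
            exact Submodule.subset_span ⟨h, hEh b hb1 h⟩
          have h2 := h1 (hb3 w fun g hg => hw g (hKM hg))
          rw [Submodule.mem_comap, hEfix w hw] at h2
          exact (Submodule.smul_mem_iff _ hm0).1 h2
        · have h1 : T (E b) = E (T b) := by
            rw [hTapp, hTapp, map_sum]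
            exact Finset.sum_congr rfl fun q _ => hEh b hb1 _
          rw [h1, hc, map_smul, hEfix s fun g _ => ρ_orbitSum ρ a g, smul_smul]
  obtain ⟨b, hb1, -, hb3, c, hc⟩ := key (Fin.last n)
  rw [hl] at hb1 hb3
  have hA : ((A.index : ℕ) : k) ≠ 0 := by
    rw [Ne, CharP.cast_eq_zero_iff k p]
    exact fun hd => P.not_dvd_index (hd.trans (Subgroup.index_dvd_of_le fun g hg => hfix g hg))
  have hTb : T b = ((A.index : ℕ) : k) • b := by
    rw [hTapp, Finset.sum_congr rfl fun q _ => hb1 q.out trivial, Subgroup.index, Nat.card_eq_fintype_card]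
    simp [Nat.cast_smul_eq_nsmul]
  have hbs : b ∈ Submodule.span k {s} := by
    rw [← Submodule.smul_mem_iff _ hA, ← hTb, hc]
    exact Submodule.smul_mem _ _ (Submodule.mem_span_singleton_self s)
  refine Submodule.span_le.2 ?_ (hb3 v fun g _ => hv g)
  rintro _ ⟨h, rfl⟩
  rw [hb1 h trivial]
  exact hbs


/-- Let k be a field of prime characteristic p, H a finite p-soluble group and ρ a k-linear representation of H on V. Let a be a vector that is fixed by some Sylow p-subgroup of H and whose H-orbit spans V. Then the space of H-fixed vectors has dimension at most 1, and every vector b whose H-orbit has size coprime to the size of the orbit of a is fixed by H. -/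
theorem result {k V H : Type*} [Field k] (p : ℕ) [Fact p.Prime] [CharP k p] [AddCommGroup V] [Module k V]
    [Group H] [Finite H] (hsol : Cfsg.IsPSolvable p H) (ρ : Representation k H V) (a : V)
    (hfix : ∃ P : Sylow p H, ∀ x : H, x ∈ (P : Subgroup H) → ρ x a = a)
    (hspan : Submodule.span k {u : V | ∃ h : H, ρ h a = u} = ⊤) :
    Module.finrank k ρ.invariants ≤ 1 ∧
    ∀ b : V, (Nat.card {u : V | ∃ h : H, ρ h a = u}).Coprime (Nat.card {u : V | ∃ h : H, ρ h b = u}) → ∀ h : H, ρ h b = b := by
  classical
  obtain ⟨P, hP⟩ := hfix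
  constructor
  · have hle : ρ.invariants ≤ Submodule.span k {orbitSum ρ a} := fun v hv =>
      core ρ hsol a P hP hspan fun g => hv g
    refine (Submodule.finrank_mono hle).trans ?_
    exact (finrank_span_le_card ({orbitSum ρ a} : Set V)).trans (by simp)
  · intro b hcop h
    rw [card_orbit_eq, card_orbit_eq] at hcop
    set A := stab ρ a
    set B := stab ρ b
    let σ : Representation k B V := ρ.comp B.subtype
    have htr := Lib.ClassSize.exists_mem_mul_of_index_coprime A B hcop
    have hstab : stab σ a = A.subgroupOf B := rfl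
    have hidx : (stab σ a).index = A.index := by
      let f : B ⧸ A.subgroupOf B → H ⧸ A := Quotient.map' (fun x : B => (x : H)) (by
        intro x y hxy
        rw [QuotientGroup.leftRel_apply] at hxy ⊢
        simpa [Subgroup.mem_subgroupOf] using hxy)
      rw [hstab]
      refine Nat.card_eq_of_bijective f ⟨?_, ?_⟩
      · intro q r
        induction q using QuotientGroup.induction_on with
        | _ x =>
          induction r using QuotientGroup.induction_on with
          | _ y =>
            intro e
            have := (QuotientGroup.eq (s := A)).1 (e : (QuotientGroup.mk (x : H) : H ⧸ A) = QuotientGroup.mk (y : H))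
            exact (QuotientGroup.eq (s := A.subgroupOf B)).2 (by simpa [Subgroup.mem_subgroupOf] using this)
      · intro q
        induction q using QuotientGroup.induction_on with
        | _ g =>
          obtain ⟨x, hx, hxg⟩ := htr g
          exact ⟨QuotientGroup.mk ⟨x, hx⟩, (QuotientGroup.eq (s := A)).2 hxg⟩
    have hsum : orbitSum σ a = orbitSum ρ a := by
      letI : Fintype (B ⧸ stab σ a) := Fintype.ofFinite _
      letI : Fintype (H ⧸ stab ρ a) := Fintype.ofFinite _
      let f : B ⧸ stab σ a → H ⧸ stab ρ a := Quotient.map' (fun x : B => (x : H)) (by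
        intro x y hxy
        rw [QuotientGroup.leftRel_apply] at hxy ⊢
        exact hxy)
      have hsurj : Function.Surjective f := by
        intro q
        induction q using QuotientGroup.induction_on with
        | _ g =>
          obtain ⟨x, hx, hxg⟩ := htr g
          exact ⟨QuotientGroup.mk ⟨x, hx⟩, (QuotientGroup.eq (s := A)).2 hxg⟩
      have hbij := hsurj.bijective_of_nat_card_le (le_of_eq hidx)
      rw [orbitSum, orbitSum]
      refine Fintype.sum_bijective f hbij _ _ fun q => ?_
      induction q using QuotientGroup.induction_on with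
      | _ x => rfl
    obtain ⟨S⟩ : Nonempty (Sylow p (stab σ a)) := inferInstance
    have hSp : IsPGroup p ((S : Subgroup (stab σ a)).map (stab σ a).subtype) := S.isPGroup'.map _
    have hSi : ¬ p ∣ ((S : Subgroup (stab σ a)).map (stab σ a).subtype).index := by
      rw [Subgroup.index_map_subtype, hidx]
      intro hd
      rcases (Fact.out : p.Prime).dvd_mul.1 hd with h' | h'
      · exact S.not_dvd_index h'
      · exact P.not_dvd_index (h'.trans (Subgroup.index_dvd_of_le fun g hg => hP g hg))
    have hspanB : Submodule.span k {u : V | ∃ x : B, σ x a = u} = ⊤ := by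
      rw [eq_top_iff, ← hspan]
      refine Submodule.span_mono ?_
      rintro _ ⟨g, rfl⟩
      obtain ⟨x, hx, hxg⟩ := htr g
      refine ⟨⟨x, hx⟩, ?_⟩
      show ρ x a = ρ g a
      conv_lhs => rw [← (show ρ (x⁻¹ * g) a = a from hxg)]
      rw [← Module.End.mul_apply, ← map_mul, mul_inv_cancel_left]
    have hmem := core σ (Lib.PSolvable.isPSolvable_subgroup hsol B) a (hSp.toSylow hSi)
      (fun x hx => by
        rw [IsPGroup.toSylow_coe] at hx
        exact Subgroup.map_subtype_le _ hx) hspanB (v := b) fun x => x.2
    rw [hsum] at hmem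
    obtain ⟨c, hc⟩ := Submodule.mem_span_singleton.1 hmem
    rw [← hc, map_smul, ρ_orbitSum]

end Cfsg.Agent.S4176
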