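import Cfsg.Statements.S4145
import Mathlib
import Cfsg.Agent.Lib.ClassSize.Counting
import Cfsg.Agent.Lib.PSolvable.PSolv
import Cfsg.Agent.Lib.Transfer.PResidual
import Cfsg.Agent.S4176

set_option autoImplicit false
open Cfsg

namespace Cfsg.Agent.S4145

open scoped Pointwise

variable {G : Type*} [Group G] [Finite G] {p : ℕ} [hp : Fact p.Prime]

omit [Finite G] in
theorem conj_pow_iterate {n a : G} {k : ℤ} (hn : n * a * n⁻¹ = a ^ k) :
    ∀ j : ℕ, n ^ j * a * (n ^ j)⁻¹ = a ^ (k ^ j)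
  | 0 => by simp
  | j + 1 => by
    rw [pow_succ' n j, pow_succ k j, show n * n ^ j * a * (n * n ^ j)⁻¹ = n * (n ^ j * a * (n ^ j)⁻¹) * n⁻¹ by group,
      conj_pow_iterate hn j, ← conj_zpow, hn, ← zpow_mul, mul_comm]

omit [Finite G] in
/-- An element inducing `a ↦ a ^ k`, `k ≡ 1 (mod p)`, on a cyclic `p`-group, with a `p'`-power
fixing `b ∈ ⟨a⟩`, fixes `b`. -/
theorem commute_of_one_mod {n a b : G} {k : ℤ} {e m : ℕ} (hn : n * a * n⁻¹ = a ^ k)
    (ha : a ^ p ^ e = 1) (hk : (p : ℤ) ∣ k - 1) (hb : b ∈ Subgroup.zpowers a)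
    (hm : m.Coprime p) (hnm : n ^ m * b = b * n ^ m) : n * b = b * n := by
  have h1 : n ^ p ^ e * a = a * n ^ p ^ e := by
    have h2 := conj_pow_iterate hn (p ^ e)
    have h3 : (p : ℤ) ^ (e + 1) ∣ k ^ p ^ e - 1 := by
      have := dvd_sub_pow_of_dvd_sub hk e
      rwa [one_pow] at this
    have h4 : a ^ (k ^ p ^ e) = a := by
      obtain ⟨c, hc⟩ : (p : ℤ) ^ e ∣ k ^ p ^ e - 1 := (pow_dvd_pow (p : ℤ) (Nat.le_succ e)).trans h3
      have h5 : k ^ p ^ e = ((p ^ e : ℕ) : ℤ) * c + 1 := by push_cast; linarith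
      rw [h5, zpow_add, zpow_mul, zpow_natCast, ha, one_zpow, one_mul, zpow_one]
    rw [h4] at h2
    exact mul_inv_eq_iff_eq_mul.1 h2
  let C := Subgroup.centralizer ({b} : Set G)
  have hA : n ^ p ^ e ∈ C := by
    obtain ⟨i, rfl⟩ := hb
    exact Subgroup.mem_centralizer_singleton_iff.2 ((show Commute (n ^ p ^ e) a from h1).zpow_right i)
  have hB : n ^ m ∈ C := Subgroup.mem_centralizer_singleton_iff.2 hnm
  obtain ⟨u, v, huv⟩ := Int.isCoprime_iff_gcd_eq_one.2
    (show Int.gcd (m : ℤ) ((p ^ e : ℕ) : ℤ) = 1 by rw [Int.gcd_natCast_natCast]; exact hm.pow_right e)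
  have : n ∈ C := by
    have h6 : (n ^ m) ^ u * (n ^ p ^ e) ^ v = n := by
      rw [← zpow_natCast n m, ← zpow_natCast n (p ^ e), ← zpow_mul, ← zpow_mul, ← zpow_add,
        mul_comm (m : ℤ), mul_comm ((p ^ e : ℕ) : ℤ), huv, zpow_one]
    rw [← h6]
    exact C.mul_mem (C.zpow_mem hB u) (C.zpow_mem hA v)
  exact Subgroup.mem_centralizer_singleton_iff.1 this

/-- A cyclic Sylow subgroup meeting the centre nontrivially gives a normal `p`-complement. -/
theorem hasNormalPComplement_of_central (hcyc : ∀ P : Sylow p G, IsCyclic (P : Subgroup G)) (z : G)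
    (hz : z ∈ Subgroup.center G) (hzp : orderOf z = p) : Cfsg.HasNormalPComplement p G := by
  obtain ⟨P, hP⟩ := (IsPGroup.of_card (n := 1) (show Nat.card (Subgroup.zpowers z) = p ^ 1 by
    rw [Nat.card_zpowers, hzp, pow_one])).exists_le_sylow
  have hzP : z ∈ (P : Subgroup G) := hP (Subgroup.mem_zpowers z)
  haveI := hcyc P
  obtain ⟨a0, ha0⟩ := IsCyclic.exists_generator (α := (P : Subgroup G))
  set a : G := (a0 : G)
  have hPa : ∀ x ∈ (P : Subgroup G), x ∈ Subgroup.zpowers a := by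
    intro x hx
    obtain ⟨i, hi⟩ := ha0 ⟨x, hx⟩
    exact ⟨i, by simpa using congrArg Subtype.val hi⟩
  obtain ⟨e, he⟩ := IsPGroup.iff_card.1 P.isPGroup'
  have hae : a ^ p ^ e = 1 := by
    rw [← he]
    show (a0 : G) ^ Nat.card (P : Subgroup G) = 1
    rw [← Subgroup.coe_pow, pow_card_eq_one']; rfl
  refine ⟨P, _, inferInstance, MonoidHom.ker_transferSylow_isComplement' P ?_⟩
  intro n hn
  obtain ⟨k, hk⟩ := hPa _ ((Subgroup.mem_normalizer_iff.1 hn a).1 a0.2)
  obtain ⟨j, hj⟩ := hPa z hzP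
  have hk1 : (p : ℤ) ∣ k - 1 := by
    have h1 : a ^ ((k - 1) * j) = 1 := by
      have h2 : n * z * n⁻¹ = z := by rw [Subgroup.mem_center_iff.1 hz n, mul_inv_cancel_right]
      simp only at hj hk
      rw [← hj, ← conj_zpow, ← hk, ← zpow_mul] at h2
      rw [sub_mul, one_mul, zpow_sub, h2, mul_inv_cancel]
    by_contra hnd
    have h3 : IsCoprime (p : ℤ) (k - 1) :=
      (Nat.prime_iff_prime_int.1 hp.out).coprime_iff_not_dvd.2 hnd
    have h4 := orderOf_dvd_iff_zpow_eq_one.2 h1
    have h5 : (orderOf a : ℤ) ∣ j := by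
      obtain ⟨i, _, hi⟩ := (Nat.dvd_prime_pow hp.out).1 (orderOf_dvd_of_pow_eq_one hae)
      rw [hi] at h4 ⊢
      push_cast at h4 ⊢
      exact (h3.pow_left).dvd_of_dvd_mul_left h4
    have h6 : z = 1 := by rw [← hj]; exact orderOf_dvd_iff_zpow_eq_one.1 h5
    rw [h6, orderOf_one] at hzp
    exact hp.out.one_lt.ne hzp
  set N := Subgroup.normalizer ((P : Subgroup G) : Set G)
  set C := Subgroup.centralizer ((P : Subgroup G) : Set G)
  haveI hnormC : (C.subgroupOf N).Normal := by
    refine ⟨fun c hc g => ?_⟩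
    rw [Subgroup.mem_subgroupOf, Subgroup.mem_centralizer_iff] at hc ⊢
    intro x hx
    have hg' : (g : G)⁻¹ * x * (g : G) ∈ (P : Subgroup G) := by
      have := (Subgroup.mem_normalizer_iff.1 (N.inv_mem g.2) x).1 hx
      rwa [inv_inv] at this
    push_cast
    calc x * ((g : G) * c * (g : G)⁻¹) = g * (((g : G)⁻¹ * x * g) * c) * (g : G)⁻¹ := by group
      _ = g * (c * ((g : G)⁻¹ * x * g)) * (g : G)⁻¹ := by rw [hc _ hg']
      _ = g * c * (g : G)⁻¹ * x := by group
  have hmp : (C.relIndex N).Coprime p := by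
    refine ((hp.out.coprime_iff_not_dvd).2 fun hd => P.not_dvd_index (hd.trans ?_)).symm
    have hPC : (P : Subgroup G) ≤ C := by
      intro x hx
      rw [Subgroup.mem_centralizer_iff]
      intro y hy
      obtain ⟨i, rfl⟩ := hPa x hx
      obtain ⟨l, rfl⟩ := hPa y hy
      exact (Commute.zpow_zpow_self a l i).eq
    have hCN : C ≤ N := Lib.ClassSize.centralizer_le_normalizer' _
    exact (Dvd.intro _ (Subgroup.relIndex_mul_index hCN)).trans (Subgroup.index_dvd_of_le hPC)
  rw [Subgroup.mem_centralizer_iff]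
  intro x hx
  refine (commute_of_one_mod hk.symm hae hk1 (hPa x hx) hmp ?_).symm
  have hpow := (C.subgroupOf N).pow_index_mem (⟨n, hn⟩ : N)
  rw [Subgroup.mem_subgroupOf, Subgroup.mem_centralizer_iff] at hpow
  exact (hpow x hx).symm

theorem main (P : Sylow p G) (hP : IsCyclic (P : Subgroup G)) (H : Subgroup G) [hH : H.Normal]
    (h1 : p ∣ Nat.card H) (h2 : p ∣ H.index) :
    Cfsg.HasNormalPComplement p H ∧ Cfsg.IsPSolvable p G := by
  set Q := (P : Subgroup G) ⊓ H with hQdef
  haveI := hP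
  obtain ⟨a0, ha0⟩ := IsCyclic.exists_generator (α := (P : Subgroup G))
  set a : G := (a0 : G)
  have hPa : ∀ x ∈ (P : Subgroup G), x ∈ Subgroup.zpowers a := by
    intro x hx
    obtain ⟨i, hi⟩ := ha0 ⟨x, hx⟩
    exact ⟨i, by simpa using congrArg Subtype.val hi⟩
  obtain ⟨e, he⟩ := IsPGroup.iff_card.1 P.isPGroup'
  have hae : a ^ p ^ e = 1 := by
    rw [← he]
    show (a0 : G) ^ Nat.card (P : Subgroup G) = 1
    rw [← Subgroup.coe_pow, pow_card_eq_one']; rfl
  have hPab : ∀ x ∈ (P : Subgroup G), ∀ y ∈ (P : Subgroup G), x * y = y * x := by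
    intro x hx y hy
    obtain ⟨i, rfl⟩ := hPa x hx
    obtain ⟨l, rfl⟩ := hPa y hy
    exact (Commute.zpow_zpow_self a i l).eq
  have hQcard := S4176.card_inf_normal P H
  have hQidx : ¬ p ∣ (Q.subgroupOf H).index := by
    intro hd
    obtain ⟨i, hi⟩ := IsPGroup.iff_card.1 (P.isPGroup'.to_le (inf_le_left : Q ≤ P))
    have h3 : (Nat.card H).factorization p ≤ i :=
      (Nat.pow_le_pow_iff_right hp.out.one_lt).1 (hi ▸ hQcard)
    have h4 : p ^ (i + 1) ∣ Nat.card H := by
      rw [← Subgroup.card_mul_index (Q.subgroupOf H), pow_succ,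
        Nat.card_congr (Subgroup.subgroupOfEquivOfLe (inf_le_right : Q ≤ H)).toEquiv, hi]
      exact Nat.mul_dvd_mul_left _ hd
    have := (hp.out.pow_dvd_iff_le_factorization Nat.card_pos.ne').1 h4
    omega
  have hQp : IsPGroup p (Q.subgroupOf H) :=
    (P.isPGroup'.to_le (inf_le_left : Q ≤ P)).comap_of_injective _ H.subtype_injective
  have haH : a ∉ H := by
    intro ha
    apply P.not_dvd_index
    have : (P : Subgroup G) ≤ H := fun x hx => (Subgroup.zpowers_le.2 ha) (hPa x hx)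
    exact h2.trans (Subgroup.index_dvd_of_le this)
  have hNC : Subgroup.normalizer ((hQp.toSylow hQidx : Sylow p H) : Set H) ≤
      Subgroup.centralizer ((hQp.toSylow hQidx : Sylow p H) : Set H) := by
    intro x hx
    change x ∈ Subgroup.normalizer ((Q.subgroupOf H : Subgroup H) : Set H) at hx
    change x ∈ Subgroup.centralizer ((Q.subgroupOf H : Subgroup H) : Set H)
    have hxQ : ∀ y ∈ Q, (x : G) * y * (x : G)⁻¹ ∈ Q := fun y hy =>
      (Subgroup.mem_normalizer_iff.1 hx (⟨y, hy.2⟩ : H)).1 hy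
    have hxQ' : ∀ y ∈ Q, (x : G)⁻¹ * y * (x : G) ∈ Q := by
      intro y hy
      have := (Subgroup.mem_normalizer_iff.1 (Subgroup.inv_mem _ hx) (⟨y, hy.2⟩ : H)).1 hy
      simpa [Subgroup.mem_subgroupOf] using this
    set M := Subgroup.centralizer (Q : Set G) ⊓ H with hM
    -- `P` normalises `M`
    have hPM : (P : Subgroup G) ≤ Subgroup.normalizer (M : Set G) := by
      have hP1 : (P : Subgroup G) ≤ Subgroup.centralizer (Q : Set G) := fun y hy =>
        Subgroup.mem_centralizer_iff.2 fun q hq => hPab q hq.1 y hy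
      intro y hy
      rw [Subgroup.mem_normalizer_iff]
      intro c
      constructor
      · rintro ⟨hc1, hc2⟩
        exact ⟨(Subgroup.centralizer (Q : Set G)).mul_mem ((Subgroup.centralizer (Q : Set G)).mul_mem (hP1 hy) hc1) ((Subgroup.centralizer (Q : Set G)).inv_mem (hP1 hy)), hH.conj_mem c hc2 y⟩
      · rintro ⟨hc1, hc2⟩
        refine ⟨?_, ?_⟩
        · simpa [mul_assoc] using (Subgroup.centralizer (Q : Set G)).mul_mem ((Subgroup.centralizer (Q : Set G)).mul_mem ((Subgroup.centralizer (Q : Set G)).inv_mem (hP1 hy)) hc1) (hP1 hy)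
        · simpa [mul_assoc] using hH.conj_mem _ hc2 y⁻¹
    set L := (P : Subgroup G) ⊔ M with hL
    have hxconj : ∀ y ∈ (P : Subgroup G), (x : G) * y * (x : G)⁻¹ ∈ L := by
      intro y hy
      have h4 : (x : G) * y * (x : G)⁻¹ * y⁻¹ ∈ M := by
        refine ⟨?_, ?_⟩
        · refine (Subgroup.centralizer (Q : Set G)).mul_mem (Subgroup.mem_centralizer_iff.2 fun q hq => ?_)
            ((Subgroup.centralizer (Q : Set G)).inv_mem (Subgroup.mem_centralizer_iff.2 fun q hq => hPab q hq.1 y hy))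
          have h5 := hPab _ (hxQ' q hq).1 y hy
          calc q * ((x : G) * y * (x : G)⁻¹) = x * (((x : G)⁻¹ * q * x) * y) * (x : G)⁻¹ := by group
            _ = x * (y * ((x : G)⁻¹ * q * x)) * (x : G)⁻¹ := by rw [h5]
            _ = x * y * (x : G)⁻¹ * q := by group
        · rw [show (x : G) * y * (x : G)⁻¹ * y⁻¹ = x * (y * (x : G)⁻¹ * y⁻¹) by group]
          exact H.mul_mem x.2 (hH.conj_mem _ (H.inv_mem x.2) y)
      have h6 := L.mul_mem (Subgroup.mem_sup_right h4) (Subgroup.mem_sup_left (T := M) hy)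
      simpa [mul_assoc] using h6
    -- conjugate back to `P`
    obtain ⟨l, hlL, hl⟩ : ∃ l ∈ L, ∀ y ∈ (P : Subgroup G), l⁻¹ * ((x : G) * y * (x : G)⁻¹) * l ∈ (P : Subgroup G) := by
      have hle : (((x : G) • P : Sylow p G) : Subgroup G) ≤ L := by
        intro y hy
        rw [Sylow.coe_subgroup_smul, Subgroup.mem_pointwise_smul_iff_inv_smul_mem] at hy
        simp [MulAut.smul_def] at hy
        simpa [mul_assoc] using hxconj _ hy
      obtain ⟨l, hl⟩ := MulAction.exists_smul_eq L (P.subtype (le_sup_left : (P : Subgroup G) ≤ L))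
        (((x : G) • P).subtype hle)
      refine ⟨l, l.2, fun y hy => ?_⟩
      have hmem : (⟨(x : G) * y * (x : G)⁻¹, hxconj y hy⟩ : L) ∈
          ((((x : G) • P).subtype hle : Sylow p L) : Subgroup L) := by
        show (x : G) * y * (x : G)⁻¹ ∈ (((x : G) • P : Sylow p G) : Subgroup G)
        rw [Sylow.coe_subgroup_smul, Subgroup.mem_pointwise_smul_iff_inv_smul_mem]
        simpa [MulAut.smul_def, mul_assoc] using hy
      rw [← hl, Sylow.coe_subgroup_smul, Subgroup.mem_pointwise_smul_iff_inv_smul_mem] at hmem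
      simpa [MulAut.smul_def, mul_assoc, Subgroup.mem_subgroupOf] using hmem
    obtain ⟨y₀, hy₀, c, hc, rfl⟩ : ∃ y ∈ (P : Subgroup G), ∃ c ∈ M, c * y = l := by
      rw [hL, sup_comm, ← SetLike.mem_coe, Subgroup.coe_mul_of_right_le_normalizer_left _ _ hPM] at hlL
      obtain ⟨c, hc, y, hy, rfl⟩ := hlL
      exact ⟨y, hy, c, hc, rfl⟩
    set n := c⁻¹ * (x : G) with hn
    have hnP : ∀ y ∈ (P : Subgroup G), n * y * n⁻¹ ∈ (P : Subgroup G) := by
      intro y hy
      have := mul_mem (mul_mem hy₀ (hl y hy)) (inv_mem hy₀)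
      rw [show n * y * n⁻¹ = y₀ * ((c * y₀)⁻¹ * ((x : G) * y * (x : G)⁻¹) * (c * y₀)) * y₀⁻¹ by
        rw [hn]; group]
      exact this
    obtain ⟨k, hk⟩ := hPa _ (hnP a a0.2)
    have hnH : n ∈ H := H.mul_mem (H.inv_mem hc.2) x.2
    have hk1 : (p : ℤ) ∣ k - 1 := by
      by_contra hnd
      apply haH
      have hmem : a ^ (k - 1) ∈ H := by
        simp only at hk
        rw [zpow_sub_one, hk, show n * a * n⁻¹ * a⁻¹ = n * (a * n⁻¹ * a⁻¹) by group]
        exact H.mul_mem hnH (hH.conj_mem _ (H.inv_mem hnH) a)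
      have h3 : IsCoprime ((p ^ e : ℕ) : ℤ) (k - 1) := by
        push_cast
        exact ((Nat.prime_iff_prime_int.1 hp.out).coprime_iff_not_dvd.2 hnd).pow_left
      obtain ⟨u, v, huv⟩ := h3
      have ha_eq : a = (a ^ ((p ^ e : ℕ) : ℤ)) ^ u * (a ^ (k - 1)) ^ v := by
        rw [← zpow_mul, ← zpow_mul, ← zpow_add, mul_comm _ u, mul_comm _ v, huv, zpow_one]
      rw [zpow_natCast, hae, one_zpow, one_mul] at ha_eq
      rw [ha_eq]
      exact H.zpow_mem hmem v
    rw [Subgroup.mem_centralizer_iff]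
    intro q hq
    have hqQ : (q : G) ∈ Q := hq
    -- a power of `x` prime to `p` centralises `Q`
    set NN := Subgroup.normalizer ((Q.subgroupOf H) : Set H)
    set CC := Subgroup.centralizer ((Q.subgroupOf H) : Set H)
    haveI hnormC : (CC.subgroupOf NN).Normal := by
      refine ⟨fun c' hc' g => ?_⟩
      rw [Subgroup.mem_subgroupOf, Subgroup.mem_centralizer_iff] at hc' ⊢
      intro z hz
      have hg' : (g : H)⁻¹ * z * (g : H) ∈ Q.subgroupOf H := by
        have := (Subgroup.mem_normalizer_iff.1 (NN.inv_mem g.2) z).1 hz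
        rwa [inv_inv] at this
      push_cast
      calc z * ((g : H) * c' * (g : H)⁻¹) = g * (((g : H)⁻¹ * z * g) * c') * (g : H)⁻¹ := by group
        _ = g * (c' * ((g : H)⁻¹ * z * g)) * (g : H)⁻¹ := by rw [hc' _ hg']
        _ = g * c' * (g : H)⁻¹ * z := by group
    have hmp : (CC.relIndex NN).Coprime p := by
      refine ((hp.out.coprime_iff_not_dvd).2 fun hd => hQidx (hd.trans ?_)).symm
      have hQC : Q.subgroupOf H ≤ CC := fun u hu => Subgroup.mem_centralizer_iff.2 fun v hv =>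
        Subtype.ext (hPab _ (show (v : G) ∈ Q from hv).1 _ (show (u : G) ∈ Q from hu).1)
      exact (Dvd.intro _ (Subgroup.relIndex_mul_index (Lib.ClassSize.centralizer_le_normalizer' _))).trans
        (Subgroup.index_dvd_of_le hQC)
    have hpow := (CC.subgroupOf NN).pow_index_mem (⟨x, hx⟩ : NN)
    -- `n` and `x` act on `Q` in the same way
    have hsame : ∀ y ∈ Q, n * y * n⁻¹ = x * y * (x : G)⁻¹ := by
      intro y hy
      have h7 := Subgroup.mem_centralizer_iff.1 hc.1 _ (hxQ y hy)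
      rw [hn, show c⁻¹ * (x : G) * y * (c⁻¹ * (x : G))⁻¹ = c⁻¹ * (((x : G) * y * (x : G)⁻¹) * c) by group,
        h7, inv_mul_cancel_left]
    have hiter : ∀ j : ℕ, n ^ j * (q : G) * (n ^ j)⁻¹ = (x : G) ^ j * q * ((x : G) ^ j)⁻¹ ∧
        (x : G) ^ j * q * ((x : G) ^ j)⁻¹ ∈ Q := by
      intro j
      induction j with
      | zero => exact ⟨by simp, by simpa using hqQ⟩
      | succ j ih =>
        have hx' : (x : G) ^ (j + 1) * q * ((x : G) ^ (j + 1))⁻¹ = x * ((x : G) ^ j * q * ((x : G) ^ j)⁻¹) * (x : G)⁻¹ := by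
          rw [pow_succ']; group
        have hn' : n ^ (j + 1) * q * (n ^ (j + 1))⁻¹ = n * (n ^ j * q * (n ^ j)⁻¹) * n⁻¹ := by
          rw [pow_succ']; group
        refine ⟨by rw [hn', ih.1, hsame _ ih.2, hx'], ?_⟩
        rw [hx']; exact hxQ _ ih.2
    set m := CC.relIndex NN
    have hnm : n ^ m * (q : G) = q * n ^ m := by
      rw [← mul_inv_eq_iff_eq_mul, (hiter m).1, mul_inv_eq_iff_eq_mul]
      rw [Subgroup.mem_subgroupOf, Subgroup.mem_centralizer_iff] at hpow
      have := congrArg Subtype.val (hpow q hq)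
      push_cast at this
      exact this.symm
    have hcomm : n * (q : G) = q * n := commute_of_one_mod hk.symm hae hk1 (hPa _ hqQ.1) hmp hnm
    apply Subtype.ext
    show (q : G) * x = x * q
    have := hsame _ hqQ
    rw [hcomm, mul_inv_cancel_right] at this
    exact eq_mul_inv_iff_mul_eq.1 this
  have hHn : Cfsg.HasNormalPComplement p H :=
    ⟨_, _, inferInstance, MonoidHom.ker_transferSylow_isComplement' _ hNC⟩
  refine ⟨hHn, ?_⟩
  set K := (Cfsg.pResidual p H).map H.subtype with hK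
  have hKn : K.Normal := by
    haveI : (Cfsg.pResidual p H).Characteristic := Lib.Transfer.pResidual_characteristic
    rw [hK]; infer_instance
  haveI := hKn
  have hpK : ¬ p ∣ Nat.card K := by
    rw [hK, Subgroup.card_map_of_injective H.subtype_injective]
    exact Lib.Transfer.hasNormalPComplement_iff.1 hHn
  refine Lib.PSolvable.isPSolvable_of_normal K
    (Lib.PSolvable.isPSolvable_of_coprime ((hp.out.coprime_iff_not_dvd.2 hpK).symm)) ?_
  set π := QuotientGroup.mk' K
  set Z := H.map π with hZ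
  haveI hZn : Z.Normal := hH.map π (QuotientGroup.mk'_surjective K)
  have hZp : IsPGroup p Z := by
    intro z
    obtain ⟨g, hg, hgz⟩ := z.2
    obtain ⟨j, hj⟩ := Lib.Transfer.exists_pow_mem_pResidual (p := p) (⟨g, hg⟩ : H)
    refine ⟨j, Subtype.ext ?_⟩
    rw [Subgroup.coe_pow, ← hgz, ← map_pow]
    exact (QuotientGroup.eq_one_iff _).2 ⟨_, hj, by simp⟩
  have hcyc : ∀ R : Sylow p (G ⧸ K), IsCyclic (R : Subgroup (G ⧸ K)) := by
    intro R
    obtain ⟨g, hg⟩ := MulAction.exists_smul_eq (G ⧸ K) (P.mapSurjective (QuotientGroup.mk'_surjective K)) R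
    haveI : IsCyclic ↥((P : Subgroup G).map π) :=
      isCyclic_of_surjective (π.subgroupMap (P : Subgroup G)) (MonoidHom.subgroupMap_surjective _ _)
    rw [← hg, Sylow.coe_subgroup_smul]
    exact isCyclic_of_surjective (Subgroup.equivSMul (MulAut.conj g) ((P : Subgroup G).map π)).toMonoidHom
      (Subgroup.equivSMul _ _).surjective
  obtain ⟨h0, hh0⟩ := exists_prime_orderOf_dvd_card' p h1
  have hz0 : orderOf (π (h0 : G)) = p := by
    have hd : orderOf (π (h0 : G)) ∣ p := by
      refine (orderOf_map_dvd π _).trans ?_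
      rw [Subgroup.orderOf_coe, hh0]
    rcases (Nat.dvd_prime hp.out).1 hd with h | h
    · exfalso
      apply hpK
      rw [orderOf_eq_one_iff] at h
      have := Subgroup.orderOf_dvd_natCard (s := K) ((QuotientGroup.eq_one_iff _).1 h)
      rwa [Subgroup.orderOf_coe, hh0] at this
    · exact h
  set C := Subgroup.centralizer (Z : Set (G ⧸ K))
  haveI : C.Normal := Subgroup.normal_centralizer
  have hZcyc : IsCyclic Z := by
    obtain ⟨R, hR⟩ := hZp.exists_le_sylow
    haveI := hcyc R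
    exact isCyclic_of_injective (Subgroup.inclusion hR) (Subgroup.inclusion_injective hR)
  refine Lib.PSolvable.isPSolvable_of_normal C ?_ ?_
  · have hzC : ∀ z ∈ Z, z ∈ C := by
      intro z hz
      obtain ⟨g0, hg0⟩ := hZcyc.exists_generator
      rw [Subgroup.mem_centralizer_iff]
      intro y hy
      obtain ⟨i, hi⟩ := hg0 ⟨z, hz⟩
      obtain ⟨l, hl⟩ := hg0 ⟨y, hy⟩
      have hi' : (g0 : G ⧸ K) ^ i = z := by simpa using congrArg Subtype.val hi
      have hl' : (g0 : G ⧸ K) ^ l = y := by simpa using congrArg Subtype.val hl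
      rw [← hi', ← hl']
      exact (Commute.zpow_zpow_self _ l i).eq
    have hzZ : π (h0 : G) ∈ Z := ⟨_, h0.2, rfl⟩
    have hC : Cfsg.HasNormalPComplement p C := by
      refine hasNormalPComplement_of_central ?_ (⟨_, hzC _ hzZ⟩ : C) ?_ (by rw [Subgroup.orderOf_mk]; exact hz0)
      · intro S
        obtain ⟨R, hR⟩ := (S.isPGroup'.map C.subtype).exists_le_sylow
        haveI := hcyc R
        have : IsCyclic ((S : Subgroup C).map C.subtype) :=
          isCyclic_of_injective (Subgroup.inclusion hR) (Subgroup.inclusion_injective hR)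
        exact isCyclic_of_surjective
          ((S : Subgroup C).equivMapOfInjective _ C.subtype_injective).symm.toMonoidHom
          (MulEquiv.surjective _)
      · rw [Subgroup.mem_center_iff]
        exact fun c => Subtype.ext (Subgroup.mem_centralizer_iff.1 c.2 _ hzZ).symm
    refine Lib.PSolvable.isPSolvable_of_normal (Cfsg.pResidual p C)
      (Lib.PSolvable.isPSolvable_of_coprime
        ((hp.out.coprime_iff_not_dvd.2 (Lib.Transfer.hasNormalPComplement_iff.1 hC)).symm))
      (Lib.PSolvable.isPSolvable_of_isPGroup Lib.Transfer.isPGroup_quotient_pResidual)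
  · have : IsMulCommutative ((G ⧸ K) ⧸ C) := by
      refine ⟨⟨fun u v => ?_⟩⟩
      induction u using QuotientGroup.induction_on with
      | _ g =>
        induction v using QuotientGroup.induction_on with
        | _ k' =>
          rw [← QuotientGroup.mk_mul, ← QuotientGroup.mk_mul, QuotientGroup.eq, Subgroup.mem_centralizer_iff]
          intro y hy
          obtain ⟨g0, hg0⟩ := hZcyc.exists_generator
          have hmem : ∀ w : G ⧸ K, ∃ i : ℤ, w * g0 * w⁻¹ = (g0 : G ⧸ K) ^ i := fun w => by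
            obtain ⟨i, hi⟩ := hg0 ⟨_, hZn.conj_mem _ g0.2 w⟩
            exact ⟨i, (by simpa using congrArg Subtype.val hi : (g0 : G ⧸ K) ^ i = _).symm⟩
          obtain ⟨i, hi⟩ := hmem g
          obtain ⟨j, hj⟩ := hmem k'
          have hcom : (g * k') * g0 * (g * k')⁻¹ = (k' * g) * g0 * (k' * g)⁻¹ := by
            rw [show (g * k') * (g0 : G ⧸ K) * (g * k')⁻¹ = g * (k' * g0 * k'⁻¹) * g⁻¹ by group,
              show (k' * g) * (g0 : G ⧸ K) * (k' * g)⁻¹ = k' * (g * g0 * g⁻¹) * k'⁻¹ by group, hi, hj,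
              ← conj_zpow, ← conj_zpow, hi, hj, ← zpow_mul, ← zpow_mul, mul_comm]
          have hc0 : ((g * k')⁻¹ * (k' * g)) * g0 * ((g * k')⁻¹ * (k' * g))⁻¹ = (g0 : G ⧸ K) := by
            calc _ = (g * k')⁻¹ * ((k' * g) * g0 * (k' * g)⁻¹) * (g * k') := by group
              _ = (g * k')⁻¹ * ((g * k') * g0 * (g * k')⁻¹) * (g * k') := by rw [hcom]
              _ = g0 := by group
          obtain ⟨l, hl⟩ := hg0 ⟨y, hy⟩
          have hl' : (g0 : G ⧸ K) ^ l = y := by simpa using congrArg Subtype.val hl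
          rw [← hl']
          exact (((show Commute ((g * k')⁻¹ * (k' * g)) (g0 : G ⧸ K) from mul_inv_eq_iff_eq_mul.1 hc0).zpow_right l).eq).symm
    exact Lib.PSolvable.isPSolvable_of_isMulCommutative


/-- Let G be a finite group with a cyclic Sylow p-subgroup and H a normal subgroup such that p divides both the order of H and the index of H. Then H has a normal p-complement and G is p-solvable. -/
theorem result {G : Type*} [Group G] [Finite G] (p : ℕ) [Fact p.Prime]
    (P : Sylow p G) (hP : IsCyclic (P : Subgroup G)) (H : Subgroup G) [H.Normal] (h1 : p ∣ Nat.card H) (h2 : p ∣ H.index) :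
    Cfsg.HasNormalPComplement p H ∧ Cfsg.IsPSolvable p G := by
  exact main P hP H h1 h2

end Cfsg.Agent.S4145
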