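import Cfsg.Statements.S4149
import Mathlib
import Cfsg.Agent.Lib.ClassSize.Counting

set_option autoImplicit false
open Cfsg

namespace Cfsg.Agent.S4149

open scoped Classical in
theorem double_count {α : Type*} [Fintype α] [DecidableEq α] (s : Finset ℕ) (R : ℕ → α → Prop) (a₀ : α)
    (σ : ℕ) (h0 : ∀ p ∈ s, ¬ R p a₀) (h : ∀ a, (s.filter fun p => R p a).card ≤ σ) :
    ∑ p ∈ s, Nat.card {a // R p a} ≤ σ * (Fintype.card α - 1) := by
  have h1 : ∀ p ∈ s, Nat.card {a // R p a} = ((Finset.univ.erase a₀).filter fun a => R p a).card := by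
    intro p hp
    rw [Nat.card_eq_fintype_card, Fintype.card_subtype]
    congr 1
    ext a
    simp only [Finset.mem_filter, Finset.mem_erase, Finset.mem_univ, true_and, and_true]
    exact ⟨fun ha => ⟨fun e => h0 p hp (e ▸ ha), ha⟩, fun ha => ha.2⟩
  rw [Finset.sum_congr rfl h1]
  calc ∑ p ∈ s, ((Finset.univ.erase a₀).filter fun a => R p a).card
      = ∑ p ∈ s, ∑ a ∈ Finset.univ.erase a₀, if R p a then 1 else 0 := by simp [Finset.sum_boole]
    _ = ∑ a ∈ Finset.univ.erase a₀, ∑ p ∈ s, if R p a then 1 else 0 := Finset.sum_comm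
    _ = ∑ a ∈ Finset.univ.erase a₀, (s.filter fun p => R p a).card := by simp [Finset.sum_boole]
    _ ≤ ∑ _a ∈ Finset.univ.erase a₀, σ := Finset.sum_le_sum fun a _ => h a
    _ = σ * (Fintype.card α - 1) := by
        rw [Finset.sum_const, smul_eq_mul, Finset.card_erase_of_mem (Finset.mem_univ _), mul_comm, Finset.card_univ]


/-- Let G be a finite group that has a normal p-complement for at most one prime p dividing its order, and let σ be a natural number such that every conjugacy class size of G has at most σ distinct prime divisors. Then the number of primes dividing at least one conjugacy class size of G is at most 2σ. -/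
theorem result {G : Type*} [Group G] [Finite G] (σ : ℕ)
    (hσ : ∀ x : G, ((Subgroup.centralizer ({x} : Set G)).index).primeFactors.card ≤ σ)
    (hnil : ∀ p q : ℕ, p.Prime → q.Prime → p ∣ Nat.card G → q ∣ Nat.card G →
      Cfsg.HasNormalPComplement p G → Cfsg.HasNormalPComplement q G → p = q) :
    Nat.card {p : ℕ | p.Prime ∧ ∃ x : G, p ∣ (Subgroup.centralizer ({x} : Set G)).index} ≤ 2 * σ := by
  classical
  haveI : Fintype G := Fintype.ofFinite G
  set S := {p : ℕ | p.Prime ∧ ∃ x : G, p ∣ (Subgroup.centralizer ({x} : Set G)).index} with hS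
  have hdvd : ∀ x : G, (Subgroup.centralizer ({x} : Set G)).index ∣ Nat.card G := fun x =>
    Subgroup.index_dvd_card _
  have hfin : S.Finite := (Set.finite_Iic (Nat.card G)).subset fun p hp => by
    obtain ⟨_, x, hx⟩ := hp
    exact Nat.le_of_dvd Nat.card_pos (hx.trans (hdvd x))
  rw [Nat.card_coe_set_eq, Set.ncard_eq_toFinset_card S hfin]
  set s := hfin.toFinset
  have hs : ∀ p ∈ s, p.Prime ∧ ∃ x : G, p ∣ (Subgroup.centralizer ({x} : Set G)).index := fun p hp =>
    hfin.mem_toFinset.1 hp
  set g := s.filter fun p => Nat.card G ≤ 2 * Nat.card {x : G // p ∣ (Subgroup.centralizer ({x} : Set G)).index} with hg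
  have hb : ∀ p ∈ s \ g, Cfsg.HasNormalPComplement p G := by
    intro p hp
    obtain ⟨hps, hpg⟩ := Finset.mem_sdiff.1 hp
    haveI : Fact p.Prime := ⟨(hs p hps).1⟩
    apply Lib.ClassSize.hasNormalPComplement_of_not_two_le
    have := Lib.ClassSize.card_dvd_add_card_not_dvd (G := G) p
    have h2 : ¬ Nat.card G ≤ 2 * Nat.card {x : G // p ∣ (Subgroup.centralizer ({x} : Set G)).index} := fun h2 =>
      hpg (Finset.mem_filter.2 ⟨hps, h2⟩)
    omega
  have hone : (s \ g).card ≤ 1 := Finset.card_le_one.2 fun p hp q hq => by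
    obtain ⟨hp1, x, hx⟩ := hs p (Finset.mem_sdiff.1 hp).1
    obtain ⟨hq1, y, hy⟩ := hs q (Finset.mem_sdiff.1 hq).1
    exact hnil p q hp1 hq1 (hx.trans (hdvd x)) (hy.trans (hdvd y)) (hb p hp) (hb q hq)
  have hrow : ∀ x : G, (g.filter fun p => p ∣ (Subgroup.centralizer ({x} : Set G)).index).card ≤ σ := by
    intro x
    refine (Finset.card_le_card ?_).trans (hσ x)
    intro p hp
    obtain ⟨hp1, hp2⟩ := Finset.mem_filter.1 hp
    exact Nat.mem_primeFactors.2 ⟨(hs p (Finset.mem_filter.1 hp1).1).1, hp2, Subgroup.FiniteIndex.index_ne_zero⟩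
  have h1 : ∀ p ∈ g, ¬ p ∣ (Subgroup.centralizer ({(1:G)} : Set G)).index := by
    intro p hp hd
    have : Subgroup.centralizer ({(1:G)} : Set G) = ⊤ := by
      ext x; simp [Subgroup.mem_centralizer_singleton_iff]
    rw [this, Subgroup.index_top] at hd
    exact (hs p (Finset.mem_filter.1 hp).1).1.not_dvd_one hd
  have hdc := double_count g (fun p x => p ∣ (Subgroup.centralizer ({x} : Set G)).index) (1:G) σ h1 (fun x => by convert hrow x)
  have hlow : g.card * Nat.card G ≤ 2 * ∑ p ∈ g, Nat.card {x : G // p ∣ (Subgroup.centralizer ({x} : Set G)).index} := by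
    rw [Finset.mul_sum, ← smul_eq_mul, ← Finset.sum_const]
    exact Finset.sum_le_sum fun p hp => (Finset.mem_filter.1 hp).2
  have hcard : s.card = (s \ g).card + g.card := by
    rw [Finset.card_sdiff_add_card_eq_card (Finset.filter_subset _ _)]
  rcases Nat.eq_zero_or_pos σ with h0 | h0
  · subst h0
    have hempty : s = ∅ := by
      rw [Finset.eq_empty_iff_forall_notMem]
      intro p hp
      obtain ⟨hp1, x, hx⟩ := hs p hp
      have := hσ x
      have h3 := Nat.mem_primeFactors.2 ⟨hp1, hx, Subgroup.FiniteIndex.index_ne_zero⟩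
      simp only [Nat.le_zero, Finset.card_eq_zero] at this
      simp [this] at h3
    rw [hempty]; simp
  · by_contra hcon
    have hgc : 2 * σ ≤ g.card := by omega
    have h4 : 2 * σ * Nat.card G ≤ 2 * (σ * (Fintype.card G - 1)) :=
      (Nat.mul_le_mul_right _ hgc).trans (hlow.trans (Nat.mul_le_mul_left 2 hdc))
    have h5 : σ * (Fintype.card G - 1) < σ * Fintype.card G :=
      Nat.mul_lt_mul_of_pos_left (Nat.sub_lt Fintype.card_pos one_pos) h0
    rw [Nat.card_eq_fintype_card] at h4
    have h6 : 2 * σ * Fintype.card G = 2 * (σ * Fintype.card G) := mul_assoc _ _ _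
    omega

end Cfsg.Agent.S4149
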