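import Cfsg.Statements.S4150
import Mathlib
import Cfsg.Agent.Lib.AltPair.Degree13
import Cfsg.Agent.Lib.AltPair.Degree7
import Cfsg.Agent.Lib.AltPair.ThreePrimes
import Cfsg.Agent.Lib.SL2.SmallId

set_option autoImplicit false
open Cfsg

namespace Cfsg.Agent.S4150

open Equiv Equiv.Perm
open Cfsg.Agent.Lib.AltPair

variable {α : Type*} [Fintype α] [DecidableEq α]

theorem eq_alt (H : Subgroup (Perm α)) (hH : H ≤ alternatingGroup α)
    (h : alternatingGroup α ≤ H) {d : ℕ} (hd : Fintype.card α = d) :
    Nonempty (H ≃* alternatingGroup (Fin d)) := by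
  subst hd
  let e := Fintype.equivFin α
  exact ⟨(MulEquiv.subgroupCongr (le_antisymm hH h)).trans e.altCongrHom⟩

/-- Degree six: a double three-cycle and a five-cycle generate `A₅` or `A₆`. -/
theorem degree_six {x y : Perm α} (hα : Fintype.card α = 6)
    (hxo : orderOf x = 3) (hyc : y.IsCycle) (hys : y.support.card = 5)
    (hsgn : Subgroup.closure {x, y} ≤ alternatingGroup α)
    (htr : MulAction.IsPretransitive (Subgroup.closure {x, y}) α) :
    ∃ d, 5 ≤ d ∧ Nonempty (Subgroup.closure {x, y} ≃* alternatingGroup (Fin d)) := by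
  classical
  set H := Subgroup.closure {x, y} with hHdef
  have hxH : x ∈ H := Subgroup.subset_closure (by simp)
  have hyH : y ∈ H := Subgroup.subset_closure (by simp)
  have hyo : orderOf y = 5 := hyc.orderOf.trans hys
  haveI : Nontrivial α := Fintype.one_lt_card_iff_nontrivial.1 (by omega)
  have h3 : 3 ∣ Nat.card H := by
    have := Subgroup.orderOf_dvd_natCard (s := H) hxH; rwa [hxo] at this
  have h5 : 5 ∣ Nat.card H := by
    have := Subgroup.orderOf_dvd_natCard (s := H) hyH; rwa [hyo] at this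
  obtain ⟨a⟩ : Nonempty α := inferInstance
  have h6 : 6 ∣ Nat.card H := by
    rw [card_eq_orbit_mul H a, MulAction.orbit_eq_univ, Set.ncard_univ, Nat.card_eq_fintype_card, hα]
    exact dvd_mul_right _ _
  have h30 : 30 ∣ Nat.card H := (show Nat.Coprime 5 6 by norm_num).mul_dvd_of_dvd_of_dvd h5 h6
  set A := alternatingGroup α
  have hA : Nat.card A = 360 := by
    rw [nat_card_alternatingGroup, Nat.card_eq_fintype_card, hα]; rfl
  set H' := H.subgroupOf A
  have hcard : Nat.card H' = Nat.card H := Nat.card_congr (Subgroup.subgroupOfEquivOfLe hsgn).toEquiv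
  have hidx := Subgroup.card_mul_index H'
  rw [hA, hcard] at hidx
  by_cases hne : H' = ⊤
  · exact ⟨6, by norm_num, eq_alt H hsgn (Subgroup.subgroupOf_eq_top.1 hne) hα⟩
  haveI : IsSimpleGroup A := alternatingGroup.isSimpleGroup (by rw [Nat.card_eq_fintype_card, hα]; norm_num)
  have hAna : ¬ IsMulCommutative A := by
    rw [alternatingGroup.isMulCommutative_iff_card_le_three, Nat.card_eq_fintype_card, hα]; norm_num
  obtain ⟨f, hf⟩ := Lib.SmallGroups.exists_injective_alternating hAna hne
  have hle := Nat.card_le_card_of_injective f hf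
  have hi6 : 6 ≤ H'.index := by
    by_contra hlt
    have h2 : Nat.card (alternatingGroup (Fin H'.index)) ≤ Nat.card (Perm (Fin H'.index)) :=
      Subgroup.card_le_card_group _
    rw [Nat.card_perm, Nat.card_fin] at h2
    have h4 : H'.index.factorial ≤ Nat.factorial 5 := Nat.factorial_le (by omega)
    rw [hA] at hle
    norm_num [Nat.factorial] at h4
    omega
  obtain ⟨k, hk⟩ := h30
  have hk12 : k * H'.index = 12 := by rw [hk] at hidx; nlinarith
  have hk2 : k = 1 ∨ k = 2 := by
    have : k ≤ 2 := by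
      by_contra h'
      nlinarith
    have : k ≠ 0 := fun h => by rw [h, zero_mul] at hk12; norm_num at hk12
    omega
  rcases hk2 with rfl | rfl
  · exfalso
    haveI : Fact (Nat.Prime 2) := ⟨Nat.prime_two⟩
    have hmin : (Nat.card H).minFac = 2 := by rw [hk]; norm_num
    obtain ⟨P⟩ : Nonempty (Sylow 2 H) := inferInstance
    have hPc : Nat.card (P : Subgroup H) = 2 := by
      rw [P.card_eq_multiplicity, hk, show 30 * 1 = 2 * 15 by norm_num,
        Nat.factorization_mul (by norm_num) (by norm_num), Finsupp.add_apply,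
        Nat.Prime.factorization_self Nat.prime_two,
        Nat.factorization_eq_zero_of_not_dvd (by norm_num : ¬ 2 ∣ 15)]
      norm_num
    haveI hcyc : IsCyclic (P : Subgroup H) := isCyclic_of_prime_card hPc
    have hc := IsCyclic.isComplement' hmin hcyc
    set N := (MonoidHom.transferSylow P (IsCyclic.normalizer_le_centralizer hmin hcyc)).ker
    have hmem : ∀ g : H, (orderOf g).Coprime 2 → g ∈ N := by
      intro g hg
      rw [MonoidHom.mem_ker, ← orderOf_eq_one_iff]
      refine Nat.eq_one_of_dvd_coprimes hg (orderOf_map_dvd _ g) ?_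
      exact (orderOf_dvd_natCard _).trans (dvd_of_eq hPc)
    have htop : H ≤ N.map H.subtype := by
      conv_lhs => rw [hHdef]
      rw [Subgroup.closure_le]
      rintro z (rfl | rfl)
      · exact ⟨⟨z, hxH⟩, hmem _ (by rw [Subgroup.orderOf_mk, hxo]; norm_num), rfl⟩
      · exact ⟨⟨z, hyH⟩, hmem _ (by rw [Subgroup.orderOf_mk, hyo]; norm_num), rfl⟩
    have h1 := Subgroup.card_le_of_le htop
    rw [Subgroup.card_map_of_injective H.subtype_injective] at h1
    have h2 := hc.card_mul
    rw [hPc, hk] at h2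
    omega
  · refine ⟨5, le_rfl, Lib.SL2.iso_alternating_five (y := (⟨y, hyH⟩ : H)) (by rw [Subgroup.orderOf_mk, hyo]) ?_ (by rw [hk])⟩
    apply le_antisymm
    · have hsub : Subgroup.centralizer ({(⟨y, hyH⟩ : H)} : Set H) ≤ Subgroup.zpowers (⟨y, hyH⟩ : H) := by
        intro g hg
        rw [Subgroup.mem_centralizer_singleton_iff] at hg
        have hcomm : Commute (g : Perm α) y := congrArg Subtype.val hg
        have hfix : ∀ c, c ∉ y.support → (g : Perm α) c = c := by
          intro c hc
          have h1 : (g : Perm α) c ∉ y.support := fun hh => hc ((mem_support_iff_of_commute hcomm c).1 hh)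
          have h2 : y.supportᶜ.card ≤ 1 := by rw [Finset.card_compl]; omega
          exact Finset.card_le_one.1 h2 _ (Finset.mem_compl.2 h1) _ (Finset.mem_compl.2 hc)
        obtain ⟨i, hi⟩ := mem_zpowers_of_commute hyc hcomm hfix
        exact ⟨i, Subtype.ext (by simpa using hi)⟩
      refine (Subgroup.card_le_of_le hsub).trans ?_
      rw [Nat.card_zpowers, Subgroup.orderOf_mk, hyo]
    · have hsub : Subgroup.zpowers (⟨y, hyH⟩ : H) ≤ Subgroup.centralizer ({(⟨y, hyH⟩ : H)} : Set H) := by
        rw [Subgroup.zpowers_le, Subgroup.mem_centralizer_singleton_iff]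
      refine le_trans ?_ (Subgroup.card_le_of_le hsub)
      rw [Nat.card_zpowers, Subgroup.orderOf_mk, hyo]

/-- The result on the moved points. -/
theorem moved_case {x y : Perm α} {p q d : ℕ} (hd : Fintype.card α = d) (hp : p.Prime) (hq : q.Prime)
    (hxo : orderOf x = p) (hyo : orderOf y = q) (hd1 : d ≤ 2 * p) (hd2 : d < 2 * q)
    (hsgn : Subgroup.closure {x, y} ≤ alternatingGroup α)
    (htr : MulAction.IsPretransitive (Subgroup.closure {x, y}) α) (hpq : p < q)
    (hgood : p = 3 ∨ (p + 3 ≤ q ∧ (q + 3 ≤ 2 * p ∨ d < 2 * p)) ∨ (q + 3 ≤ 2 * p ∧ p + 3 ≤ d) ∨ (d = 13 ∧ p = 11) ∨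
      (d = 7 ∧ p = 5)) (hq5 : 5 ≤ q) :
    ∃ e, 5 ≤ e ∧ Nonempty (Subgroup.closure {x, y} ≃* alternatingGroup (Fin e)) := by
  classical
  set H := Subgroup.closure {x, y} with hHdef
  have hxH : x ∈ H := Subgroup.subset_closure (by simp)
  have hyH : y ∈ H := Subgroup.subset_closure (by simp)
  have hyc : y.IsCycle := isCycle_of_prime_order' (hyo ▸ hq) (by rw [hyo, hd]; exact hd2)
  have hys : y.support.card = q := hyc.orderOf ▸ hyo
  have hqd : q ≤ d := hys ▸ hd ▸ Finset.card_le_univ _
  have hprim := isPreprimitive_of_cycle H htr hyH hyc hq hys (by omega)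
  by_cases hxc : x.IsCycle
  · have hxs : x.support.card = p := hxc.orderOf ▸ hxo
    suffices alternatingGroup α ≤ H from ⟨d, by omega, eq_alt H hsgn this hd⟩
    by_cases hj : p + 3 ≤ d
    · exact S0713.result H hprim hp (by omega) (by omega) hxc hxs hxH
    rcases hgood with h | h | h | ⟨h1, h2⟩ | ⟨h1, h2⟩
    · exact alternatingGroup_le_of_isPreprimitive_of_isThreeCycle_mem hprim
        (card_support_eq_three_iff.1 (h ▸ hxs)) hxH
    · omega
    · omega
    · exact alternating_le_degree13 H hsgn (hd ▸ h1) hprim hxH hxc (h2 ▸ hxs)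
    · exact degree_seven H hsgn (hd ▸ h1) hprim hxH hxc (h2 ▸ hxs)
  · -- `x` is not a cycle, so `d = 2 * p`
    have hd' : d = 2 * p := by
      by_contra hne
      exact hxc (isCycle_of_prime_order' (hxo ▸ hp) (by rw [hxo, hd]; omega))
    rcases (show (p = 3 ∧ q = 5) ∨ q + 3 ≤ d by
      rcases hgood with h | h | h | h | h
      · have : q ≠ 6 := fun e => by rw [e] at hq; norm_num at hq
        exact Or.inl ⟨h, by omega⟩
      · right; omega
      · right; omega
      · omega
      · omega) with ⟨rfl, rfl⟩ | hq3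
    · exact degree_six (by omega) hxo hyc hys hsgn htr
    · exact ⟨d, by omega, eq_alt H hsgn (S0713.result H hprim hq (by omega) (by omega) hyc hys hyH) hd⟩

/-- Reduction to the moved points. -/
theorem main (m p q : ℕ) (hp : p.Prime) (hq : q.Prime) (hp2 : m ≤ 2 * p) (hpq : p < q) (hqm : q ≤ m)
    (hq5 : 5 ≤ q) (hmq : m < q + p)
    (hgood : p = 3 ∨ (p + 4 ≤ q ∧ (q + 3 ≤ 2 * p ∨ m < 2 * p)) ∨ (q + 3 ≤ 2 * p ∧ q = p + 2 ∧ ((p = 11 ∧ q = 13) ∨ (p = 5 ∧ q = 7))))
    (x y : alternatingGroup (Fin m)) (hxo : orderOf x = p) (hyo : orderOf y = q) :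
    ∃ d : ℕ, 5 ≤ d ∧ Nonempty (Subgroup.closure ({x, y} : Set (alternatingGroup (Fin m))) ≃* alternatingGroup (Fin d)) := by
  classical
  set X : Perm (Fin m) := (x : Perm (Fin m)) with hX
  set Y : Perm (Fin m) := (y : Perm (Fin m)) with hY
  have hXo : orderOf X = p := by rw [hX, Subgroup.orderOf_coe, hxo]
  have hYo : orderOf Y = q := by rw [hY, Subgroup.orderOf_coe, hyo]
  have hYc : Y.IsCycle := isCycle_of_prime_order' (hYo ▸ hq) (by rw [hYo, Fintype.card_fin]; omega)
  have hYs : Y.support.card = q := hYc.orderOf ▸ hYo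
  set P : Fin m → Prop := fun c => c ∈ X.support ∪ Y.support with hP
  have hXP : ∀ c, P (X c) ↔ P c := by
    intro c
    by_cases hc : X c = c
    · rw [hc]
    · simp only [hP, Finset.mem_union, mem_support]
      constructor
      · exact fun _ => Or.inl hc
      · exact fun _ => Or.inl (fun e => hc (X.injective e))
  have hYP : ∀ c, P (Y c) ↔ P c := by
    intro c
    by_cases hc : Y c = c
    · rw [hc]
    · simp only [hP, Finset.mem_union, mem_support]
      constructor
      · exact fun _ => Or.inr hc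
      · exact fun _ => Or.inr (fun e => hc (Y.injective e))
  let x' : Perm {c // P c} := X.subtypePerm hXP
  let y' : Perm {c // P c} := Y.subtypePerm hYP
  let φ : Perm {c // P c} →* Perm (Fin m) := Equiv.Perm.ofSubtype
  have hφx : φ x' = X := ofSubtype_subtypePerm hXP fun c hc => Finset.mem_union_left _ (mem_support.2 hc)
  have hφy : φ y' = Y := ofSubtype_subtypePerm hYP fun c hc => Finset.mem_union_right _ (mem_support.2 hc)
  have hφ : Function.Injective φ := by
    intro a b hab
    apply Equiv.ext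
    intro c
    have := Perm.congr_fun hab c.1
    rw [ofSubtype_apply_coe, ofSubtype_apply_coe] at this
    exact Subtype.ext this
  have hx'o : orderOf x' = p := by rw [← orderOf_injective φ hφ, hφx, hXo]
  have hy'o : orderOf y' = q := by rw [← orderOf_injective φ hφ, hφy, hYo]
  set d := Fintype.card {c // P c} with hd
  have hdm : d ≤ m := (Fintype.card_subtype_le P).trans (Fintype.card_fin m).le
  have hqd : q ≤ d := by
    rw [← hYs, hd, Fintype.card_subtype]
    exact Finset.card_le_card fun c hc => Finset.mem_filter.2 ⟨Finset.mem_univ _, Finset.mem_union_right _ hc⟩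
  have hsgn : Subgroup.closure {x', y'} ≤ alternatingGroup {c // P c} := by
    rw [Subgroup.closure_le]
    rintro z (rfl | rfl) <;> rw [SetLike.mem_coe, mem_alternatingGroup]
    · have := mem_alternatingGroup.1 x.2
      rw [← hX, ← hφx] at this
      rwa [sign_ofSubtype] at this
    · have := mem_alternatingGroup.1 y.2
      rw [← hY, ← hφy] at this
      rwa [sign_ofSubtype] at this
  have htr : MulAction.IsPretransitive (Subgroup.closure {x', y'}) {c // P c} := by
    have hxm : x' ∈ Subgroup.closure {x', y'} := Subgroup.subset_closure (by simp)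
    have hym : y' ∈ Subgroup.closure {x', y'} := Subgroup.subset_closure (by simp)
    obtain ⟨c₀, hc₀⟩ := hYc.nonempty_support
    set o : {c // P c} := ⟨c₀, Finset.mem_union_right _ hc₀⟩
    rw [MulAction.isPretransitive_iff_base o]
    rintro ⟨c, hc⟩
    have hval : ∀ (g : Perm {c // P c}) (z : {c // P c}), ((g z : {c // P c}) : Fin m) = φ g (z : Fin m) :=
      fun g z => (ofSubtype_apply_coe g z).symm
    -- each `x`-orbit meets the support of `y`
    obtain ⟨j, hj⟩ : ∃ j : ℕ, (X ^ j) c ∈ Y.support := by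
      rcases Finset.mem_union.1 hc with hcX | hcY
      · by_contra hcon
        push Not at hcon
        let g : Fin p → {e // e ∈ Y.supportᶜ} := fun j => ⟨(X ^ (j : ℕ)) c, Finset.mem_compl.2 (hcon _)⟩
        have hg : Function.Injective g := by
          intro i j hij
          have hij' : (X ^ (i : ℕ)) c = (X ^ (j : ℕ)) c := congrArg Subtype.val hij
          have hmem : X ^ ((i : ℤ) - j) ∈ MulAction.stabilizer (Perm (Fin m)) c := by
            show (X ^ ((i : ℤ) - j)) c = c
            rw [zpow_sub, zpow_natCast, zpow_natCast, ← (Commute.pow_pow_self X _ _).inv_left.eq,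
              mul_apply, hij', ← mul_apply, inv_mul_cancel, one_apply]
          by_contra hne
          have hnd : ¬ (p : ℤ) ∣ ((i : ℤ) - j) := by
            intro hdv
            apply hne
            apply Fin.ext
            have := Int.eq_zero_of_abs_lt_dvd hdv (by
              have := i.isLt; have := j.isLt
              rw [abs_lt]; constructor <;> omega)
            omega
          obtain ⟨u, v, huv⟩ := (Nat.prime_iff_prime_int.1 hp).coprime_iff_not_dvd.2 hnd
          have hX1 : X = (X ^ ((i : ℤ) - j)) ^ v := by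
            calc X = X ^ (u * (p : ℤ) + v * ((i : ℤ) - j)) := by rw [huv, zpow_one]
              _ = (X ^ ((i : ℤ) - j)) ^ v := by
                rw [zpow_add, mul_comm u, zpow_mul, zpow_natCast, show X ^ p = 1 from orderOf_dvd_iff_pow_eq_one.1 (dvd_of_eq hXo), one_zpow,
                  one_mul, mul_comm v, zpow_mul]
          exact mem_support.1 hcX (show X ∈ MulAction.stabilizer (Perm (Fin m)) c from
            hX1 ▸ (MulAction.stabilizer (Perm (Fin m)) c).zpow_mem hmem v)
        have := Fintype.card_le_of_injective g hg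
        rw [Fintype.card_fin, Fintype.card_coe, Finset.card_compl, Fintype.card_fin, hYs] at this
        omega
      · exact ⟨0, by simpa using hcY⟩
    obtain ⟨k, hk⟩ := hYc.exists_zpow_eq (mem_support.1 hc₀) (mem_support.1 hj)
    refine ⟨⟨(x' ^ j)⁻¹ * y' ^ k, (Subgroup.closure {x', y'}).mul_mem ((Subgroup.closure {x', y'}).inv_mem
      ((Subgroup.closure {x', y'}).pow_mem hxm j)) ((Subgroup.closure {x', y'}).zpow_mem hym k)⟩, ?_⟩
    apply Subtype.ext
    show (((x' ^ j)⁻¹ * y' ^ k) o : {c // P c}).1 = c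
    rw [hval, map_mul, map_inv, map_pow, map_zpow, hφx, hφy, mul_apply]
    show (X ^ j)⁻¹ ((Y ^ k) c₀) = c
    rw [hk]
    exact (X ^ j).symm_apply_apply c
  obtain ⟨e, he5, ⟨iso⟩⟩ := moved_case (x := x') (y := y') (d := d) (p := p) (q := q) hd.symm hp hq hx'o hy'o
    (by omega) (by omega) hsgn htr hpq
    (by rcases hgood with h | h | ⟨h1, h2, ⟨h3, h4⟩ | ⟨h3, h4⟩⟩
        · exact Or.inl h
        · exact Or.inr (Or.inl (by omega))
        · rcases eq_or_lt_of_le hqd with he | he
          · exact Or.inr (Or.inr (Or.inr (Or.inl ⟨by omega, h3⟩)))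
          · exact Or.inr (Or.inr (Or.inl ⟨h1, by omega⟩))
        · rcases eq_or_lt_of_le hqd with he | he
          · exact Or.inr (Or.inr (Or.inr (Or.inr ⟨by omega, h3⟩)))
          · exact Or.inr (Or.inr (Or.inl ⟨h1, by omega⟩))) hq5
  refine ⟨e, he5, ⟨?_⟩⟩
  have hm1 : (Subgroup.closure ({x, y} : Set (alternatingGroup (Fin m)))).map (alternatingGroup (Fin m)).subtype =
      (Subgroup.closure {x', y'}).map φ := by
    rw [MonoidHom.map_closure, MonoidHom.map_closure, Set.image_pair, Set.image_pair, hφx, hφy]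
    rfl
  exact ((Subgroup.equivMapOfInjective _ _ (Subgroup.subtype_injective _)).trans
    ((MulEquiv.subgroupCongr hm1).trans (Subgroup.equivMapOfInjective _ φ hφ).symm)).trans iso


/-- Let m ≥ 5. Then there are primes p < q with m/2 ≤ p and q ≤ m such that any two elements x, y of the alternating group of degree m with x of order p and y of order q generate a subgroup isomorphic to an alternating group of some degree d ≥ 5. -/
theorem result (m : ℕ) (hm : 5 ≤ m) :
    ∃ p q : ℕ, p.Prime ∧ q.Prime ∧ m ≤ 2 * p ∧ p < q ∧ q ≤ m ∧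
      ∀ x y : alternatingGroup (Fin m), orderOf x = p → orderOf y = q →
        ∃ d : ℕ, 5 ≤ d ∧ Nonempty (Subgroup.closure ({x, y} : Set (alternatingGroup (Fin m))) ≃* alternatingGroup (Fin d)) := by
  have key : ∀ p q : ℕ, p.Prime → q.Prime → m ≤ 2 * p → p < q → q ≤ m → 5 ≤ q → m < q + p →
      (p = 3 ∨ (p + 4 ≤ q ∧ (q + 3 ≤ 2 * p ∨ m < 2 * p)) ∨ (q + 3 ≤ 2 * p ∧ q = p + 2 ∧ ((p = 11 ∧ q = 13) ∨ (p = 5 ∧ q = 7)))) →
      ∃ p q : ℕ, p.Prime ∧ q.Prime ∧ m ≤ 2 * p ∧ p < q ∧ q ≤ m ∧
      ∀ x y : alternatingGroup (Fin m), orderOf x = p → orderOf y = q →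
        ∃ d : ℕ, 5 ≤ d ∧ Nonempty (Subgroup.closure ({x, y} : Set (alternatingGroup (Fin m))) ≃* alternatingGroup (Fin d)) :=
    fun p q hp hq h1 h2 h3 h4 h5 h6 => ⟨p, q, hp, hq, h1, h2, h3, fun x y hx hy =>
      main m p q hp hq h1 h2 h3 h4 h5 h6 x y hx hy⟩
  rcases le_or_gt 18 m with h18 | h18
  · obtain ⟨a, b, c, ha, hb, hc, h1, h2, h3, h4⟩ := Cfsg.Agent.Lib.AltPair.exists_three_primes_half m h18
    refine key a c ha hc (by omega) (by omega) h4 (by omega) (by omega) (Or.inr (Or.inl ⟨?_, Or.inr h3⟩))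
    obtain ⟨i, hi⟩ := ha.odd_of_ne_two (by omega)
    obtain ⟨j, hj⟩ := hb.odd_of_ne_two (by omega)
    obtain ⟨l, hl⟩ := hc.odd_of_ne_two (by omega)
    omega
  by_cases h6 : m ≤ 6
  · exact key 3 5 (by norm_num) (by norm_num) (by omega) (by omega) (by omega) le_rfl (by omega) (Or.inl rfl)
  by_cases h10 : m ≤ 10
  · exact key 5 7 (by norm_num) (by norm_num) (by omega) (by omega) (by omega) (by omega) (by omega)
      (Or.inr (Or.inr ⟨le_rfl, rfl, Or.inr ⟨rfl, rfl⟩⟩))
  by_cases h14 : m ≤ 14
  · exact key 7 11 (by norm_num) (by norm_num) (by omega) (by omega) (by omega) (by omega) (by omega)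
      (Or.inr (Or.inl ⟨le_rfl, Or.inl (by norm_num)⟩))
  by_cases h16 : m ≤ 16
  · exact key 11 13 (by norm_num) (by norm_num) (by omega) (by omega) (by omega) (by omega) (by omega)
      (Or.inr (Or.inr ⟨by norm_num, rfl, Or.inl ⟨rfl, rfl⟩⟩))
  exact key 11 17 (by norm_num) (by norm_num) (by omega) (by omega) (by omega) (by omega) (by omega)
      (Or.inr (Or.inl ⟨by norm_num, Or.inl (by norm_num)⟩))

end Cfsg.Agent.S4150
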