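import Cfsg.Statements.S4152
import Mathlib
import Cfsg.Agent.Lib.PiClasses.Bounds

set_option autoImplicit false
open Cfsg

namespace Cfsg.Agent.S4152

open Cfsg.Agent.Lib.PiClasses

theorem exists_parts {G : Type*} [Group G] [Finite G] (π : Set ℕ) (x : G) :
    ∃ u v : G, x = u * v ∧ Commute u v ∧ IsPiElt π u ∧ IsPiElt πᶜ v ∧
      u ∈ Subgroup.zpowers x ∧ v ∈ Subgroup.zpowers x := by
  classical
  set n := orderOf x
  have hn0 : n ≠ 0 := (orderOf_pos x).ne'
  set a := ∏ q ∈ n.primeFactors.filter (· ∈ π), q ^ n.factorization q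
  set b := ∏ q ∈ n.primeFactors.filter (fun q => ¬ q ∈ π), q ^ n.factorization q
  have hab : a * b = n := by
    rw [Finset.prod_filter_mul_prod_filter_not]
    exact Nat.prod_factorization_pow_eq_self hn0
  have ha : ∀ q, q.Prime → q ∣ a → q ∈ π := by
    intro q hq hd
    obtain ⟨r, hr, hrd⟩ := (hq.prime.dvd_finset_prod_iff _).1 hd
    obtain ⟨hr1, hr2⟩ := Finset.mem_filter.1 hr
    rw [(Nat.prime_dvd_prime_iff_eq hq (Nat.prime_of_mem_primeFactors hr1)).1 (hq.dvd_of_dvd_pow hrd)]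
    exact hr2
  have hb : ∀ q, q.Prime → q ∣ b → q ∈ πᶜ := by
    intro q hq hd
    obtain ⟨r, hr, hrd⟩ := (hq.prime.dvd_finset_prod_iff _).1 hd
    obtain ⟨hr1, hr2⟩ := Finset.mem_filter.1 hr
    rw [(Nat.prime_dvd_prime_iff_eq hq (Nat.prime_of_mem_primeFactors hr1)).1 (hq.dvd_of_dvd_pow hrd)]
    exact hr2
  have hco : Nat.Coprime a b := Nat.coprime_of_dvd fun q hq hqa hqb => hb q hq hqb (ha q hq hqa)
  obtain ⟨e, he1, he2⟩ := Nat.chineseRemainder hco 1 0
  obtain ⟨f, hf1, hf2⟩ := Nat.chineseRemainder hco 0 1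
  have hye : (x ^ e) ^ a = 1 := by
    rw [← pow_mul]
    apply orderOf_dvd_iff_pow_eq_one.mp
    show n ∣ e * a
    rw [← hab, mul_comm e a]
    exact Nat.mul_dvd_mul_left a (Nat.modEq_zero_iff_dvd.mp he2)
  have hzf : (x ^ f) ^ b = 1 := by
    rw [← pow_mul]
    apply orderOf_dvd_iff_pow_eq_one.mp
    show n ∣ f * b
    rw [← hab]
    exact Nat.mul_dvd_mul_right (Nat.modEq_zero_iff_dvd.mp hf1) b
  refine ⟨x ^ e, x ^ f, ?_, Commute.pow_pow_self x e f,
    fun r hr hd => ha r hr (hd.trans (orderOf_dvd_of_pow_eq_one hye)),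
    fun r hr hd => hb r hr (hd.trans (orderOf_dvd_of_pow_eq_one hzf)),
    Subgroup.pow_mem _ (Subgroup.mem_zpowers x) e, Subgroup.pow_mem _ (Subgroup.mem_zpowers x) f⟩
  rw [← pow_add]
  conv_lhs => rw [← pow_one x]
  refine pow_eq_pow_iff_modEq.mpr ?_
  show 1 ≡ e + f [MOD n]
  rw [← hab]
  exact ((Nat.modEq_and_modEq_iff_modEq_mul hco).mp ⟨he1.add hf1, he2.add hf2⟩).symm

/-- The `π`-part of a product of commuting `π`- and `π'`-elements is determined by the product. -/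
theorem parts_unique {G : Type*} [Group G] [Finite G] {π : Set ℕ} {u v u' v' : G}
    (hu : IsPiElt π u) (hv : IsPiElt πᶜ v) (hu' : IsPiElt π u') (hv' : IsPiElt πᶜ v')
    (hc : Commute u v) (hc' : Commute u' v') (h : u * v = u' * v') : u = u' ∧ v = v' := by
  have hco : Nat.Coprime (orderOf u * orderOf u') (orderOf v * orderOf v') :=
    Nat.coprime_of_dvd fun q hq h1 h2 => by
      have hq1 : q ∈ π := (hq.dvd_mul.1 h1).elim (hu q hq) (hu' q hq)
      exact ((hq.dvd_mul.1 h2).elim (hv q hq) (hv' q hq)) hq1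
  obtain ⟨e, he1, he2⟩ := Nat.chineseRemainder hco 1 0
  have key : ∀ a b : G, Commute a b → orderOf a ∣ orderOf u * orderOf u' →
      orderOf b ∣ orderOf v * orderOf v' → (a * b) ^ e = a := by
    intro a b hab ha hb
    rw [hab.mul_pow, orderOf_dvd_iff_pow_eq_one.1 (hb.trans (Nat.modEq_zero_iff_dvd.1 he2)), mul_one]
    conv_rhs => rw [← pow_one a]
    exact pow_eq_pow_iff_modEq.2 (he1.of_dvd ha)
  have h1 : u = u' := by
    rw [← key u v hc (dvd_mul_right _ _) (dvd_mul_right _ _), h,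
      key u' v' hc' (dvd_mul_left _ _) (dvd_mul_left _ _)]
  exact ⟨h1, mul_left_cancel (h1 ▸ h)⟩

theorem pred_iff {G : Type*} [Group G] {π : Set ℕ} (x : G) :
    (∀ q : ℕ, q.Prime → (∃ g : G, ConjClasses.mk g = ConjClasses.mk x ∧ q ∣ orderOf g) → q ∈ π) ↔
      IsPiElt π x := by
  constructor
  · exact fun h q hq hd => h q hq ⟨x, rfl, hd⟩
  · rintro h q hq ⟨g, hg, hd⟩
    exact isPiElt_of_isConj (ConjClasses.mk_eq_mk_iff_isConj.1 hg).symm h q hq hd

theorem card_pairs (G : Type*) [Group G] [Finite G] (π : Set ℕ) :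
    Nat.card {z : G × G // IsPiElt π z.1 ∧ Commute z.1 z.2} =
      Nat.card {C : ConjClasses G // ∀ q : ℕ, q.Prime →
        (∃ g : G, ConjClasses.mk g = C ∧ q ∣ orderOf g) → q ∈ π} * Nat.card G := by
  classical
  set P := fun C : ConjClasses G => ∀ q : ℕ, q.Prime →
    (∃ g : G, ConjClasses.mk g = C ∧ q ∣ orderOf g) → q ∈ π with hP
  haveI : Fintype {C // P C} := Fintype.ofFinite _
  let e : {z : G × G // IsPiElt π z.1 ∧ Commute z.1 z.2} ≃
      Σ C : {C // P C}, Σ x : {x : G // ConjClasses.mk x = C.1}, Subgroup.centralizer ({x.1} : Set G) :=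
    { toFun := fun z => ⟨⟨ConjClasses.mk z.1.1, (pred_iff _).2 z.2.1⟩, ⟨z.1.1, rfl⟩,
        ⟨z.1.2, Subgroup.mem_centralizer_singleton_iff.2 z.2.2.symm.eq⟩⟩
      invFun := fun s => ⟨(s.2.1.1, s.2.2.1), (pred_iff _).1 (by rw [s.2.1.2]; exact s.1.2),
        (Subgroup.mem_centralizer_singleton_iff.1 s.2.2.2).symm⟩
      left_inv := fun z => rfl
      right_inv := by rintro ⟨⟨C, hC⟩, ⟨x, hx⟩, y⟩; simp only at hx; subst hx; rfl }
  have hcell : ∀ C : {C // P C}, Nat.card (Σ x : {x : G // ConjClasses.mk x = C.1},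
      Subgroup.centralizer ({x.1} : Set G)) = Nat.card G := by
    rintro ⟨C, hC⟩
    obtain ⟨x₀, rfl⟩ := ConjClasses.mk_surjective C
    haveI : Fintype {x : G // ConjClasses.mk x = ConjClasses.mk x₀} := Fintype.ofFinite _
    rw [Nat.card_sigma]
    have hx : ∀ x : {x : G // ConjClasses.mk x = ConjClasses.mk x₀},
        Nat.card (ConjClasses.mk x₀).carrier * Nat.card (Subgroup.centralizer ({x.1} : Set G)) = Nat.card G := by
      rintro ⟨x, hx⟩
      show Nat.card (ConjClasses.mk x₀).carrier * Nat.card (Subgroup.centralizer ({x} : Set G)) = Nat.card G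
      rw [← hx, card_carrier_mk, mul_comm, Subgroup.card_mul_index]
    have hcar : Nat.card {x : G // ConjClasses.mk x = ConjClasses.mk x₀} = Nat.card (ConjClasses.mk x₀).carrier :=
      Nat.card_congr (Equiv.subtypeEquivRight fun x => ConjClasses.mem_carrier_iff_mk_eq.symm)
    have hpos : 0 < Nat.card (ConjClasses.mk x₀).carrier := by
      haveI : Nonempty (ConjClasses.mk x₀).carrier := ⟨⟨x₀, ConjClasses.mem_carrier_mk⟩⟩
      exact Nat.card_pos
    apply Nat.eq_of_mul_eq_mul_left hpos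
    rw [Finset.mul_sum, Finset.sum_congr rfl fun x _ => hx x, Finset.sum_const, Finset.card_univ,
      ← Nat.card_eq_fintype_card, hcar, smul_eq_mul]
  rw [Nat.card_congr e, Nat.card_sigma, Finset.sum_congr rfl fun C _ => hcell C, Finset.sum_const,
    Finset.card_univ, smul_eq_mul, ← Nat.card_eq_fintype_card]

theorem fibre_le {G : Type*} [Group G] [Finite G] (N : Subgroup G) [N.Normal] {π : Set ℕ} (q : G ⧸ N)
    (hq : IsPiElt π q) :
    Nat.card {z : G × N // (z.1 : G ⧸ N) = q ∧ IsPiElt π z.1 ∧ Commute z.1 (z.2 : G)} ≤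
      Nat.card {z : N × N // IsPiElt π z.1 ∧ Commute z.1 z.2} := by
  classical
  have hN : ∀ n : N, ∃ uv : N × N, n = uv.1 * uv.2 ∧ Commute uv.1 uv.2 ∧ IsPiElt π uv.1 ∧
      IsPiElt πᶜ uv.2 ∧ uv.1 ∈ Subgroup.zpowers n ∧ uv.2 ∈ Subgroup.zpowers n := fun n => by
    obtain ⟨u, v, h⟩ := exists_parts π n
    exact ⟨(u, v), h⟩
  choose uv huv using hN
  have hcomm : ∀ {x : G} {n : N}, Commute x (n : G) → ∀ m ∈ Subgroup.zpowers n, Commute x (m : G) := by
    rintro x n h _ ⟨i, rfl⟩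
    rw [Subgroup.coe_zpow]
    exact h.zpow_right i
  -- replace `(x, n)` by `(x * n_{π'}, n_π)`
  let B := {z : G × N // (z.1 : G ⧸ N) = q ∧ IsPiElt π z.2 ∧ Commute z.1 (z.2 : G)}
  have h1 : Nat.card {z : G × N // (z.1 : G ⧸ N) = q ∧ IsPiElt π z.1 ∧ Commute z.1 (z.2 : G)} ≤ Nat.card B := by
    refine Nat.card_le_card_of_injective
      (fun z => (⟨(z.1.1 * ((uv z.1.2).2 : G), (uv z.1.2).1), ?_, (huv _).2.2.1, ?_⟩ : B)) ?_
    · rw [QuotientGroup.mk_mul, (QuotientGroup.eq_one_iff _).2 (uv z.1.2).2.2, mul_one, z.2.1]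
    · refine Commute.mul_left (hcomm z.2.2.2 _ (huv _).2.2.2.2.1) ?_
      exact ((huv z.1.2).2.1.symm).map N.subtype
    · rintro ⟨⟨x, n⟩, hxq, hx, hxn⟩ ⟨⟨x', n'⟩, hxq', hx', hxn'⟩ h
      have e1 : x * ((uv n).2 : G) = x' * ((uv n').2 : G) := congrArg (fun t : B => t.1.1) h
      have e2 : (uv n).1 = (uv n').1 := congrArg (fun t : B => t.1.2) h
      have hv : IsPiElt πᶜ ((uv n).2 : G) := fun r hr hd => (huv n).2.2.2.1 r hr (by rwa [Subgroup.orderOf_coe] at hd)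
      have hv' : IsPiElt πᶜ ((uv n').2 : G) := fun r hr hd => (huv n').2.2.2.1 r hr (by rwa [Subgroup.orderOf_coe] at hd)
      obtain ⟨ex, ev⟩ := parts_unique hx hv hx' hv' (hcomm hxn _ (huv n).2.2.2.2.2)
        (hcomm hxn' _ (huv n').2.2.2.2.2) e1
      have hn : n = n' := by rw [(huv n).1, (huv n').1, e2, Subtype.ext ev]
      subst hn; subst ex; rfl
  refine h1.trans ?_
  -- translate each fibre into `N`
  have hsec : ∀ u : N, ∃ x₀ : G, (∃ x : G, (x : G ⧸ N) = q ∧ Commute x (u : G)) →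
      (x₀ : G ⧸ N) = q ∧ Commute x₀ (u : G) := fun u => by
    by_cases h : ∃ x : G, (x : G ⧸ N) = q ∧ Commute x (u : G)
    · exact ⟨h.choose, fun _ => h.choose_spec⟩
    · exact ⟨1, fun h' => absurd h' h⟩
  choose x₀ hx₀ using hsec
  refine Nat.card_le_card_of_injective (fun z : B => (⟨(z.1.2,
    ⟨(x₀ z.1.2)⁻¹ * z.1.1, QuotientGroup.eq.1 ((hx₀ _ ⟨_, z.2.1, z.2.2.2⟩).1.trans z.2.1.symm)⟩),
    z.2.2.1, ?_⟩ : {z : N × N // IsPiElt π z.1 ∧ Commute z.1 z.2})) ?_
  · apply Subtype.ext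
    exact (((hx₀ _ ⟨_, z.2.1, z.2.2.2⟩).2.inv_left).mul_left z.2.2.2).symm.eq
  · rintro ⟨⟨x, u⟩, hz⟩ ⟨⟨x', u'⟩, hz'⟩ h
    have e1 : u = u' := congrArg (fun t : {z : N × N // IsPiElt π z.1 ∧ Commute z.1 z.2} => t.1.1) h
    subst e1
    have e2 : x = x' := mul_left_cancel
      (congrArg (fun t : {z : N × N // IsPiElt π z.1 ∧ Commute z.1 z.2} => (t.1.2 : G)) h)
    subst e2; rfl


/-- Let G be a finite group, N a normal subgroup and π a set of primes. Then the number of conjugacy classes of π-elements of G (elements whose order is divisible only by primes in π) is at most the number of conjugacy classes of π-elements of N (under conjugation by N) times the number of conjugacy classes of π-elements of G/N. -/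
theorem result {G : Type*} [Group G] [Finite G] (N : Subgroup G) [N.Normal] (π : Set ℕ) :
    Nat.card {C : ConjClasses G // ∀ q : ℕ, q.Prime → (∃ g : G, ConjClasses.mk g = C ∧ q ∣ orderOf g) → q ∈ π} ≤ Nat.card {C : ConjClasses N // ∀ q : ℕ, q.Prime → (∃ g : N, ConjClasses.mk g = C ∧ q ∣ orderOf g) → q ∈ π} * Nat.card {C : ConjClasses (G ⧸ N) // ∀ q : ℕ, q.Prime → (∃ g : (G ⧸ N), ConjClasses.mk g = C ∧ q ∣ orderOf g) → q ∈ π} := by
  classical
  have hG := card_pairs G π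
  have hQ := card_pairs (G ⧸ N) π
  have hN := card_pairs N π
  let A := {z : (G ⧸ N) × (G ⧸ N) // IsPiElt π z.1 ∧ Commute z.1 z.2}
  haveI : Fintype A := Fintype.ofFinite _
  let D := Σ a : A, {z : G × N // (z.1 : G ⧸ N) = a.1.1 ∧ IsPiElt π z.1 ∧ Commute z.1 (z.2 : G)}
  have hsec : ∀ (x : G) (b : G ⧸ N), ∃ y₀ : G, (∃ y : G, (y : G ⧸ N) = b ∧ Commute x y) →
      (y₀ : G ⧸ N) = b ∧ Commute x y₀ := fun x b => by
    by_cases h : ∃ y : G, (y : G ⧸ N) = b ∧ Commute x y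
    · exact ⟨h.choose, fun _ => h.choose_spec⟩
    · exact ⟨1, fun h' => absurd h' h⟩
  choose y₀ hy₀ using hsec
  have hle : Nat.card {z : G × G // IsPiElt π z.1 ∧ Commute z.1 z.2} ≤ Nat.card D := by
    refine Nat.card_le_card_of_injective (fun z => (⟨⟨((z.1.1 : G ⧸ N), (z.1.2 : G ⧸ N)), ?_, ?_⟩,
      ⟨(z.1.1, ⟨(y₀ z.1.1 z.1.2)⁻¹ * z.1.2, QuotientGroup.eq.1
        (hy₀ _ _ ⟨_, rfl, z.2.2⟩).1⟩), rfl, z.2.1, ?_⟩⟩ : D)) ?_
    · exact fun r hr hd => z.2.1 r hr (hd.trans (orderOf_map_dvd (QuotientGroup.mk' N) _))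
    · exact z.2.2.map (QuotientGroup.mk' N)
    · exact ((hy₀ _ _ ⟨_, rfl, z.2.2⟩).2.inv_right).mul_right z.2.2
    · rintro ⟨⟨x, y⟩, hz⟩ ⟨⟨x', y'⟩, hz'⟩ h
      have e1 : x = x' := congrArg (fun t : D => t.2.1.1) h
      subst e1
      have e2 : (y : G ⧸ N) = (y' : G ⧸ N) := congrArg (fun t : D => t.1.1.2) h
      have e3 : (y₀ x y)⁻¹ * y = (y₀ x y')⁻¹ * y' := congrArg (fun t : D => (t.2.1.2 : G)) h
      rw [e2] at e3
      have e4 : y = y' := mul_left_cancel e3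
      subst e4; rfl
  have hD : Nat.card D ≤ Nat.card A * Nat.card {z : N × N // IsPiElt π z.1 ∧ Commute z.1 z.2} := by
    rw [Nat.card_sigma, Nat.card_eq_fintype_card (α := A), ← smul_eq_mul, ← Finset.card_univ, ← Finset.sum_const]
    exact Finset.sum_le_sum fun a _ => fibre_le N a.1.1 a.2.1
  have h := hle.trans hD
  rw [hG, hQ, hN, Subgroup.card_eq_card_quotient_mul_card_subgroup N] at h
  have hpos : 0 < Nat.card (G ⧸ N) * Nat.card N := Nat.mul_pos Nat.card_pos Nat.card_pos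
  refine Nat.le_of_mul_le_mul_right ?_ hpos
  refine h.trans (le_of_eq ?_)
  ring

end Cfsg.Agent.S4152
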