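import Cfsg.Statements.S4153
import Mathlib
import Cfsg.Agent.Lib.ClassSize.Cover

set_option autoImplicit false
open Cfsg

namespace Cfsg.Agent.S4153

open Pointwise

variable {G : Type*} [Group G] [Finite G] {p : ℕ} [Fact p.Prime] (N : Subgroup G) [N.Normal]

theorem fib_lower (gb : G ⧸ N) (hgb : ∃ k : ℕ, orderOf gb = p ^ k) :
    ∀ R : Sylow p N, Nat.card R ≤ Nat.card {g : G // (∃ k : ℕ, orderOf g = p ^ k) ∧ (g : G ⧸ N) = gb} := by
  intro R0
  obtain ⟨x, rfl⟩ := QuotientGroup.mk_surjective gb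
  obtain ⟨u, y, hxy, hc, ⟨k, hu⟩, hy, -, hymem⟩ := Lib.ClassSize.exists_pParts (p := p) x
  have hy1 : (y : G ⧸ N) = 1 := by
    obtain ⟨j, hj⟩ := hgb
    rw [← orderOf_eq_one_iff]
    refine Nat.eq_one_of_dvd_coprimes (hy.pow_right j) (orderOf_map_dvd (QuotientGroup.mk' N) y) ?_
    rw [← hj]
    obtain ⟨i, rfl⟩ := hymem
    rw [QuotientGroup.mk_zpow]
    exact orderOf_dvd_of_pow_eq_one (by rw [← zpow_natCast, ← zpow_mul, mul_comm, zpow_mul, zpow_natCast, pow_orderOf_eq_one, one_zpow])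
  have hux : (u : G ⧸ N) = (x : G ⧸ N) := by rw [hxy, QuotientGroup.mk_mul, hy1, mul_one]
  set U := Subgroup.zpowers u
  have hU : IsPGroup p U := IsPGroup.of_card (n := k) (by rw [Nat.card_zpowers, hu])
  -- a Sylow subgroup of `N` normalised by `u`
  obtain ⟨P, hP⟩ := hU.exists_le_sylow
  have hR : IsPGroup p (((P : Subgroup G) ⊓ N).subgroupOf N) :=
    (P.isPGroup'.to_le inf_le_left).comap_of_injective _ N.subtype_injective
  have hcard : Nat.card R0 ≤ Nat.card ↥((P : Subgroup G) ⊓ N) := by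
    obtain ⟨Q, hQ⟩ := (R0.isPGroup'.map N.subtype).exists_le_sylow
    obtain ⟨g, rfl⟩ := MulAction.exists_smul_eq G P Q
    rw [← Subgroup.card_map_of_injective (K := (R0 : Subgroup N)) N.subtype_injective]
    refine (Subgroup.card_le_of_le (K := ((g • P : Sylow p G) : Subgroup G) ⊓ N) (le_inf hQ (Subgroup.map_subtype_le _))).trans (le_of_eq ?_)
    rw [Sylow.coe_subgroup_smul]
    have hN : MulAut.conj g • N = N := Subgroup.Normal.conj_smul_eq_self g N
    conv_lhs => rw [← hN, ← Subgroup.smul_inf]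
    exact Nat.card_congr (Subgroup.equivSMul _ _).symm.toEquiv
  refine hcard.trans ?_
  refine Finite.card_le_of_embedding ⟨fun r => ⟨u * r, ?_, ?_⟩, fun a b h => ?_⟩
  · obtain ⟨j, hj⟩ := IsPGroup.iff_orderOf.1 P.isPGroup'
      ⟨u * (r : G), mul_mem (hP (Subgroup.mem_zpowers u)) r.2.1⟩
    exact ⟨j, by rwa [Subgroup.orderOf_mk] at hj⟩
  · rw [QuotientGroup.mk_mul, (QuotientGroup.eq_one_iff (r : G)).2 r.2.2, mul_one, hux]
  · exact Subtype.ext (mul_left_cancel (congrArg Subtype.val h))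

theorem fib_central (hN : N ≤ Subgroup.center G) (gb : G ⧸ N) (R : Sylow p N) :
    Nat.card {g : G // (∃ k : ℕ, orderOf g = p ^ k) ∧ (g : G ⧸ N) = gb} ≤ Nat.card R := by
  rcases isEmpty_or_nonempty {g : G // (∃ k : ℕ, orderOf g = p ^ k) ∧ (g : G ⧸ N) = gb} with h | ⟨⟨u, ⟨k, hk⟩, hu⟩⟩
  · simp
  refine Finite.card_le_of_embedding ⟨fun v => ⟨⟨u⁻¹ * v.1, ?_⟩, ?_⟩, fun a b h => ?_⟩
  · exact (QuotientGroup.eq).1 (hu.trans v.2.2.symm)
  · have hmem : u⁻¹ * v.1 ∈ N := (QuotientGroup.eq).1 (hu.trans v.2.2.symm)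
    haveI : IsMulCommutative N := ⟨⟨fun a b => Subtype.ext (Subgroup.mem_center_iff.1 (hN b.2) a)⟩⟩
    haveI : (R : Subgroup N).Normal := ⟨fun n hn g => by
      rwa [show g * n * g⁻¹ = n by rw [IsMulCommutative.is_comm.comm g n, mul_inv_cancel_right]]⟩
    haveI := Sylow.unique_of_normal R inferInstance
    obtain ⟨j, hj⟩ := v.2.1
    have hc : Commute u⁻¹ v.1 := by
      have h3 : Commute (u⁻¹ * v.1) u := (Subgroup.mem_center_iff.1 (hN hmem) u).symm
      have : Commute v.1 u := by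
        have h4 := (Commute.refl u).mul_left h3
        simpa using h4
      exact (this.symm).inv_left
    have hp' : IsPGroup p (Subgroup.zpowers (⟨u⁻¹ * v.1, hmem⟩ : N)) := by
      have h5 : orderOf (⟨u⁻¹ * v.1, hmem⟩ : N) ∣ p ^ (k + j) := by
        rw [Subgroup.orderOf_mk]
        refine (hc.orderOf_mul_dvd_mul_orderOf).trans ?_
        rw [orderOf_inv, hk, hj, pow_add]
      obtain ⟨i, _, hi⟩ := (Nat.dvd_prime_pow (Fact.out : p.Prime)).1 h5
      exact IsPGroup.of_card (n := i) (by rw [Nat.card_zpowers, hi])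
    obtain ⟨S, hS⟩ := hp'.exists_le_sylow
    rw [Subsingleton.elim R S]
    exact hS (Subgroup.mem_zpowers _)
  · exact Subtype.ext (mul_left_cancel (congrArg (fun t => (t.1 : G)) h))

theorem card_lift : Nat.card {g : G // ∃ k : ℕ, orderOf g = p ^ k} =
    Nat.card (Σ q : {q : G ⧸ N // ∃ k : ℕ, orderOf q = p ^ k},
      {g : G // (∃ k : ℕ, orderOf g = p ^ k) ∧ (g : G ⧸ N) = q.1}) := by
  refine Nat.card_congr
    { toFun := fun g => ⟨⟨(g.1 : G ⧸ N), ?_⟩, ⟨g.1, g.2, rfl⟩⟩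
      invFun := fun s => ⟨s.2.1, s.2.2.1⟩
      left_inv := fun g => rfl
      right_inv := ?_ }
  · obtain ⟨k, hk⟩ := g.2
    obtain ⟨i, _, hi⟩ := (Nat.dvd_prime_pow (Fact.out : p.Prime)).1
      (hk ▸ orderOf_map_dvd (QuotientGroup.mk' N) g.1)
    exact ⟨i, hi⟩
  · rintro ⟨⟨q, hq⟩, ⟨g, hg, hgq⟩⟩
    simp only at hgq; subst hgq
    rfl

theorem card_sylow_eq (P : Sylow p G) (Pbar : Sylow p (G ⧸ N)) (R : Sylow p N) :
    Nat.card (P : Subgroup G) = Nat.card (Pbar : Subgroup (G ⧸ N)) * Nat.card R := by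
  rw [P.card_eq_multiplicity, Pbar.card_eq_multiplicity, R.card_eq_multiplicity, ← pow_add,
    Subgroup.card_eq_card_quotient_mul_card_subgroup N,
    Nat.factorization_mul Nat.card_pos.ne' Nat.card_pos.ne']
  rfl


/-- Let G be a finite group, p a prime, N a normal subgroup, P a Sylow p-subgroup of G and P̄ a Sylow p-subgroup of G/N. Count the elements of p-power order, the identity included. Then (number of such elements of G/N)/#P̄ ≤ (number of such elements of G)/#P, stated as a cross-multiplied inequality, with equality when N is central. -/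
theorem result {G : Type*} [Group G] [Finite G] (p : ℕ) [Fact p.Prime] (N : Subgroup G) [N.Normal]
    (P : Sylow p G) (Pbar : Sylow p (G ⧸ N)) :
    Nat.card {g : (G ⧸ N) // ∃ k : ℕ, orderOf g = p ^ k} * Nat.card (P : Subgroup G) ≤ Nat.card {g : G // ∃ k : ℕ, orderOf g = p ^ k} * Nat.card (Pbar : Subgroup (G ⧸ N)) ∧
    (N ≤ Subgroup.center G → Nat.card {g : (G ⧸ N) // ∃ k : ℕ, orderOf g = p ^ k} * Nat.card (P : Subgroup G) = Nat.card {g : G // ∃ k : ℕ, orderOf g = p ^ k} * Nat.card (Pbar : Subgroup (G ⧸ N))) := by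
  obtain ⟨R⟩ : Nonempty (Sylow p N) := inferInstance
  haveI : Fintype {q : G ⧸ N // ∃ k : ℕ, orderOf q = p ^ k} := Fintype.ofFinite _
  rw [card_sylow_eq N P Pbar R, card_lift (p := p) N, Nat.card_sigma, Nat.card_eq_fintype_card,
    mul_comm (∑ _q, _) _, mul_left_comm]
  refine ⟨Nat.mul_le_mul_left _ ?_, fun hN => congrArg _ ?_⟩
  · rw [← smul_eq_mul, ← Finset.card_univ, ← Finset.sum_const]
    exact Finset.sum_le_sum fun q _ => fib_lower N q.1 q.2 R
  · rw [← smul_eq_mul, ← Finset.card_univ, ← Finset.sum_const]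
    exact Finset.sum_congr rfl fun q _ => le_antisymm (fib_lower N q.1 q.2 R) (fib_central N hN q.1 R)

end Cfsg.Agent.S4153
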