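import Cfsg.Statements.S4154
import Mathlib

set_option autoImplicit false
open Cfsg

namespace Cfsg.Agent.S4154

/-- Let G be a finite group and α an automorphism of G such that every element of G is the product of an element fixed by α and an element of the form g⁻¹α(g). If N is a normal α-invariant subgroup, then the automorphism ᾱ induced on G/N has the same property, and every coset fixed by ᾱ contains an element fixed by α (so the fixed points of ᾱ are the images of the fixed points of α). -/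
theorem result {G : Type*} [Group G] [Finite G] (α : MulAut G)
    (hccp : ∀ x : G, ∃ c g : G, α c = c ∧ x = c * (g⁻¹ * α g))
    (N : Subgroup G) [N.Normal] (hN : ∀ n ∈ N, α n ∈ N) :
    (∀ x : G, ∃ c g : G, c⁻¹ * α c ∈ N ∧ x⁻¹ * (c * (g⁻¹ * α g)) ∈ N) ∧
    (∀ x : G, x⁻¹ * α x ∈ N → ∃ c : G, α c = c ∧ c⁻¹ * x ∈ N) := by
  have hfirst : ∀ x : G, ∃ c g : G, c⁻¹ * α c ∈ N ∧ x⁻¹ * (c * (g⁻¹ * α g)) ∈ N := by
    intro x
    obtain ⟨c, g, hc, hx⟩ := hccp x
    exact ⟨c, g, by rw [hc, inv_mul_cancel]; exact N.one_mem, by rw [← hx, inv_mul_cancel]; exact N.one_mem⟩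
  refine ⟨hfirst, ?_⟩
  let C : Subgroup G :=
    { carrier := {c | α c = c}
      one_mem' := map_one α
      mul_mem' := fun {a b} (ha : α a = a) (hb : α b = b) => show α (a * b) = a * b by rw [map_mul, ha, hb]
      inv_mem' := fun {a} (ha : α a = a) => show α a⁻¹ = a⁻¹ by rw [map_inv, ha] }
  let D : Subgroup G :=
    { carrier := {d | (QuotientGroup.mk (α d) : G ⧸ N) = QuotientGroup.mk d}
      one_mem' := by simp
      mul_mem' := fun {a b} (ha : _ = _) (hb : _ = _) => by
        show (QuotientGroup.mk (α (a * b)) : G ⧸ N) = QuotientGroup.mk (a * b)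
        rw [map_mul, QuotientGroup.mk_mul, QuotientGroup.mk_mul, ha, hb]
      inv_mem' := fun {a} (ha : _ = _) => by
        show (QuotientGroup.mk (α a⁻¹) : G ⧸ N) = QuotientGroup.mk a⁻¹
        rw [map_inv, QuotientGroup.mk_inv, QuotientGroup.mk_inv, ha] }
  have hND : N ≤ D := fun n hn => by
    show (QuotientGroup.mk (α n) : G ⧸ N) = QuotientGroup.mk n
    rw [(QuotientGroup.eq_one_iff _).2 hn, (QuotientGroup.eq_one_iff _).2 (hN n hn)]
  let ψ : G ⧸ D → G ⧸ N := Quotient.lift (fun h : G => (QuotientGroup.mk (h * α h⁻¹) : G ⧸ N)) (by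
    intro a b hab
    have hd : (QuotientGroup.mk (α (a⁻¹ * b)) : G ⧸ N) = QuotientGroup.mk (a⁻¹ * b) :=
      QuotientGroup.leftRel_apply.1 hab
    simp only [map_mul, map_inv, QuotientGroup.mk_mul, QuotientGroup.mk_inv] at hd ⊢
    rw [show (QuotientGroup.mk (α b) : G ⧸ N) = QuotientGroup.mk (α a) * ((QuotientGroup.mk a)⁻¹ * QuotientGroup.mk b)
      by rw [← hd, mul_inv_cancel_left]]
    group)
  let f : ↥(C.map (QuotientGroup.mk' N)) × (G ⧸ D) → G ⧸ N := fun z => (z.1 : G ⧸ N) * ψ z.2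
  have hf : Function.Surjective f := by
    intro q
    obtain ⟨x, rfl⟩ := QuotientGroup.mk_surjective q
    obtain ⟨c, g, hc, hx⟩ := hccp x
    refine ⟨(⟨QuotientGroup.mk c, ⟨c, hc, rfl⟩⟩, QuotientGroup.mk g⁻¹), ?_⟩
    show (QuotientGroup.mk c : G ⧸ N) * QuotientGroup.mk (g⁻¹ * α g⁻¹⁻¹) = QuotientGroup.mk x
    rw [inv_inv, ← QuotientGroup.mk_mul, ← hx]
  have h1 : Nat.card (G ⧸ N) ≤ Nat.card (C.map (QuotientGroup.mk' N)) * D.index := by
    have := Nat.card_le_card_of_surjective f hf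
    rwa [Nat.card_prod] at this
  have hle : C.map (QuotientGroup.mk' N) ≤ D.map (QuotientGroup.mk' N) :=
    Subgroup.map_mono fun c (hc : α c = c) => show (QuotientGroup.mk (α c) : G ⧸ N) = QuotientGroup.mk c by rw [hc]
  have hidx : (D.map (QuotientGroup.mk' N)).index = D.index :=
    Subgroup.index_map_eq _ (QuotientGroup.mk'_surjective N) (by rwa [QuotientGroup.ker_mk'])
  rw [← Subgroup.card_mul_index (D.map (QuotientGroup.mk' N)), hidx] at h1
  have h2 : Nat.card (D.map (QuotientGroup.mk' N)) ≤ Nat.card (C.map (QuotientGroup.mk' N)) :=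
    Nat.le_of_mul_le_mul_right h1 (Nat.pos_of_ne_zero Subgroup.FiniteIndex.index_ne_zero)
  have heq := Subgroup.eq_of_le_of_card_ge hle h2
  intro x hx
  have : (QuotientGroup.mk x : G ⧸ N) ∈ C.map (QuotientGroup.mk' N) := by
    rw [heq]
    exact ⟨x, (QuotientGroup.eq.2 hx).symm, rfl⟩
  obtain ⟨c, hc, hcx⟩ := this
  exact ⟨c, hc, QuotientGroup.eq.1 hcx⟩

end Cfsg.Agent.S4154
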