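import Cfsg.Statements.S4155
import Cfsg.Agent.Lib.PUnique.Basic
import Cfsg.Agent.Lib.Core.Nilpotent
import Cfsg.Agent.Lib.Core.Fitting
import Cfsg.Agent.Lib.Coprime.Generation

set_option autoImplicit false
open Cfsg

namespace Cfsg.Agent.S4155

open Subgroup

variable {G : Type*} [Group G] [Finite G] {N : Subgroup G}

omit [Finite G] in
theorem commute_of_coprime_orders {M : Type*} [Group M] [Finite M] [Group.IsNilpotent M] {p q : ℕ}
    [Fact p.Prime] [Fact q.Prime] (hpq : p ≠ q) {x y : M} {a b : ℕ} (hx : x ^ p ^ a = 1)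
    (hy : y ^ q ^ b = 1) : Commute x y := by
  have hmem : ∀ {r : ℕ} [Fact r.Prime] {z : M} {c : ℕ}, z ^ r ^ c = 1 →
      ∀ P : Sylow r M, z ∈ (P : Subgroup M) := by
    intro r _ z c hz P
    have hn : (P : Subgroup M).Normal := Sylow.normal_of_normalizerCondition
      Group.normalizerCondition_of_isNilpotent P
    have hzp : IsPGroup r (zpowers z) := by
      rintro ⟨w, hw⟩
      obtain ⟨i, rfl⟩ := mem_zpowers_iff.mp hw
      exact ⟨c, Subtype.ext (show (z ^ i) ^ r ^ c = 1 by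
        rw [← zpow_natCast, ← zpow_mul, mul_comm, zpow_mul, zpow_natCast, hz, one_zpow])⟩
    obtain ⟨Q, hQ⟩ := hzp.exists_le_sylow
    haveI := P.unique_of_normal hn
    rw [Subsingleton.elim P Q]
    exact hQ (mem_zpowers z)
  obtain ⟨P⟩ : Nonempty (Sylow p M) := inferInstance
  obtain ⟨Q⟩ : Nonempty (Sylow q M) := inferInstance
  exact Subgroup.commute_of_normal_of_disjoint _ _
    (Sylow.normal_of_normalizerCondition Group.normalizerCondition_of_isNilpotent P)
    (Sylow.normal_of_normalizerCondition Group.normalizerCondition_of_isNilpotent Q)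
    (IsPGroup.disjoint_of_ne p q hpq _ _ P.2 Q.2) x y (hmem hx P) (hmem hy Q)

/-- The `s`-elements of the centre of `N`. -/
def centralPart (N : Subgroup G) (s : ℕ) : Subgroup G where
  carrier := {v | v ∈ N ∧ (∀ n ∈ N, n * v = v * n) ∧ ∃ k, v ^ s ^ k = 1}
  one_mem' := ⟨one_mem _, fun n _ => by simp, 0, by simp⟩
  mul_mem' := fun {v w} hv hw => ⟨mul_mem hv.1 hw.1, fun n hn => by
    rw [← mul_assoc, hv.2.1 n hn, mul_assoc, hw.2.1 n hn, mul_assoc], by
    obtain ⟨a, ha⟩ := hv.2.2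
    obtain ⟨b, hb⟩ := hw.2.2
    refine ⟨a + b, ?_⟩
    rw [(show Commute v w from hw.2.1 v hv.1).mul_pow, pow_add s, pow_mul v, ha, one_pow,
      mul_comm (s ^ a), pow_mul w, hb, one_pow, one_mul]⟩
  inv_mem' := fun {v} hv => ⟨inv_mem hv.1, fun n hn => (Commute.inv_right (hv.2.1 n hn)), by
    obtain ⟨a, ha⟩ := hv.2.2
    exact ⟨a, by rw [inv_pow, ha, inv_one]⟩⟩

omit [Finite G] in
theorem centralPart_normal [hN : N.Normal] (s : ℕ) : (centralPart N s).Normal := by
  refine ⟨fun v hv g => ⟨hN.conj_mem v hv.1 g, fun n hn => ?_, ?_⟩⟩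
  · have h := hv.2.1 (g⁻¹ * n * g) (by simpa using hN.conj_mem n hn g⁻¹)
    calc n * (g * v * g⁻¹) = g * (g⁻¹ * n * g * v) * g⁻¹ := by group
      _ = g * (v * (g⁻¹ * n * g)) * g⁻¹ := by rw [h]
      _ = g * v * g⁻¹ * n := by group
  · obtain ⟨a, ha⟩ := hv.2.2
    exact ⟨a, by rw [conj_pow, ha]; group⟩

theorem centralPart_nontrivial (hnil : Group.IsNilpotent N) {s : ℕ} [Fact s.Prime]
    (hs : s ∣ Nat.card N) : centralPart N s ≠ ⊥ := by
  obtain ⟨P⟩ : Nonempty (Sylow s N) := inferInstance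
  haveI : (P : Subgroup N).Normal :=
    Sylow.normal_of_normalizerCondition Group.normalizerCondition_of_isNilpotent P
  have hne : (P : Subgroup N) ≠ ⊥ := P.ne_bot_of_dvd_card hs
  obtain ⟨v, hv, hv1⟩ := (Subgroup.ne_bot_iff_exists_ne_one.mp
    (Cfsg.Agent.Lib.Nilp.inf_center_ne_bot_of_normal hne)) |> fun ⟨⟨v, hv⟩, hv1⟩ =>
      (⟨v, hv, fun h => hv1 (Subtype.ext h)⟩ : ∃ v, v ∈ (P : Subgroup N) ⊓ center N ∧ v ≠ 1)
  intro hbot
  obtain ⟨k, hk⟩ := P.2 ⟨v, hv.1⟩
  have hmem : (v : G) ∈ centralPart N s := ⟨v.2, fun n hn =>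
    congrArg Subtype.val (mem_center_iff.mp hv.2 ⟨n, hn⟩),
    k, congrArg (fun x : (P : Subgroup N) => ((x : N) : G)) hk⟩
  rw [hbot, mem_bot] at hmem
  exact hv1 (Subtype.ext hmem)

/-- An element outside `N` with `q`-power order modulo `N` centralises no nontrivial `s`-element of
`N`, `s ≠ q`. -/
theorem eq_one_of_commute [N.Normal]
    (heq : ∀ x : G, x ∉ N → ∀ n ∈ N, orderOf (x * n) = orderOf x) {q s : ℕ} [hq : Fact q.Prime]
    [hs : Fact s.Prime] (hqs : q ≠ s) {x : G} (hx : x ∉ N) {k : ℕ} (hxk : x ^ q ^ k ∈ N) {v : G}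
    (hv : v ∈ N) {c : ℕ} (hvc : v ^ s ^ c = 1) (hxv : Commute x v) : v = 1 := by
  obtain ⟨a, m, hm, ham⟩ := Nat.exists_eq_pow_mul_and_not_dvd (orderOf_pos x).ne' q hq.out.ne_one
  have hym : x ^ m ∉ N := by
    intro h
    refine hx ?_
    have hco : Nat.Coprime m (q ^ k) := ((hq.out.coprime_iff_not_dvd.mpr hm).symm).pow_right k
    have h1 := Nat.gcd_eq_gcd_ab m (q ^ k)
    rw [hco.gcd_eq_one] at h1
    rw [← zpow_one x, show (1 : ℤ) = _ from h1, zpow_add, zpow_mul, zpow_mul, zpow_natCast,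
      zpow_natCast]
    exact mul_mem (N.zpow_mem h _) (N.zpow_mem hxk _)
  obtain ⟨b, -, hb⟩ := (Nat.dvd_prime_pow hs.out).mp (orderOf_dvd_of_pow_eq_one hvc)
  obtain ⟨d, -, hd⟩ := (Nat.dvd_prime_pow hq.out).mp
    (orderOf_dvd_of_pow_eq_one (show (x ^ m) ^ q ^ a = 1 by
      rw [← pow_mul, mul_comm, ← ham, pow_orderOf_eq_one]))
  have hco : (orderOf (x ^ m)).Coprime (orderOf v) := by
    rw [hb, hd]
    exact ((Nat.coprime_primes hq.out hs.out).mpr hqs).pow _ _
  have h := (hxv.pow_left m).orderOf_mul_eq_mul_orderOf_of_coprime hco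
  rw [heq _ hym v hv] at h
  exact orderOf_eq_one_iff.mp ((mul_eq_left₀ (orderOf_pos _).ne').mp h.symm)

/-- Let G be a finite group and N a proper non-trivial normal nilpotent subgroup whose order is not a prime power, such that for every x outside N all elements of the coset xN have the same order as x. Then N is the Fitting subgroup of G, and for every prime q every Sylow q-subgroup of G/N is cyclic or generalized quaternion. -/
theorem result {G : Type*} [Group G] [Finite G] (N : Subgroup G) [N.Normal] (hN1 : N ≠ ⊥) (hN2 : N ≠ ⊤)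
    (heq : ∀ x : G, x ∉ N → ∀ n ∈ N, orderOf (x * n) = orderOf x)
    (hnil : Group.IsNilpotent N) (hnpp : ¬ IsPrimePow (Nat.card N)) :
    N = Cfsg.fittingSubgroup G ∧
    ∀ (q : ℕ) [Fact q.Prime] (Q : Sylow q (G ⧸ N)), IsCyclic (Q : Subgroup (G ⧸ N)) ∨ ∃ n : ℕ, Nonempty ((Q : Subgroup (G ⧸ N)) ≃* QuaternionGroup (2 ^ n)) := by
  have hother : ∀ q : ℕ, ∃ s : ℕ, s.Prime ∧ s ≠ q ∧ s ∣ Nat.card N := by
    intro q
    by_contra hc
    push Not at hc
    refine hnpp ((isPrimePow_nat_iff _).mpr ?_)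
    have hne : Nat.card N ≠ 1 := fun h => hN1 (Subgroup.card_eq_one.mp h)
    obtain ⟨r, hr, hrd⟩ := Nat.exists_prime_and_dvd hne
    have hrq : r = q := by
      by_contra h
      exact hc r hr h hrd
    subst hrq
    refine ⟨r, (Nat.card N).primeFactorsList.length, hr,
      List.length_pos_iff.mpr ((Nat.mem_primeFactorsList Nat.card_pos.ne').mpr ⟨hr, hrd⟩ |>
        List.ne_nil_of_mem),
      (Nat.eq_prime_pow_of_unique_prime_dvd Nat.card_pos.ne' fun {d} hd hdd => ?_).symm⟩
    · by_contra h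
      exact hc d hd h hdd
  refine ⟨?_, fun q hq Q => ?_⟩
  · refine le_antisymm (Cfsg.Agent.Lib.Fitting.le_fittingSubgroup hnil) fun x hx => ?_
    by_contra hxN
    haveI hF : Group.IsNilpotent (Cfsg.fittingSubgroup G) :=
      Cfsg.Agent.Lib.Fitting.isNilpotent_fittingSubgroup
    obtain ⟨y, hy, hyN, q, hq, k, hyk⟩ : ∃ y ∈ Cfsg.fittingSubgroup G, y ∉ N ∧
        ∃ q : ℕ, q.Prime ∧ ∃ k : ℕ, y ^ q ^ k = 1 := by
      suffices h : ∀ (n : ℕ) (y : G), orderOf y = n → y ∈ Cfsg.fittingSubgroup G → y ∉ N →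
          ∃ y ∈ Cfsg.fittingSubgroup G, y ∉ N ∧ ∃ q : ℕ, q.Prime ∧ ∃ k : ℕ, y ^ q ^ k = 1 from
        h _ x rfl hx hxN
      intro n
      induction n using Nat.strong_induction_on with
      | _ n ih =>
        intro y hn hy hyN
        have h1 : orderOf y ≠ 1 := fun h => hyN (orderOf_eq_one_iff.mp h ▸ one_mem N)
        obtain ⟨r, hr, hrd⟩ := Nat.exists_prime_and_dvd h1
        obtain ⟨a, m, hm, ham⟩ := Nat.exists_eq_pow_mul_and_not_dvd (orderOf_pos y).ne' r hr.ne_one
        by_cases hym : y ^ m ∈ N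
        · have hyr : y ^ r ^ a ∉ N := by
            intro h
            refine hyN ?_
            have hco : Nat.Coprime m (r ^ a) := ((hr.coprime_iff_not_dvd.mpr hm).symm).pow_right a
            have h2 := Nat.gcd_eq_gcd_ab m (r ^ a)
            rw [hco.gcd_eq_one] at h2
            rw [← zpow_one y, show (1 : ℤ) = _ from h2, zpow_add, zpow_mul, zpow_mul, zpow_natCast,
              zpow_natCast]
            exact mul_mem (N.zpow_mem hym _) (N.zpow_mem h _)
          refine ih (orderOf (y ^ r ^ a)) ?_ _ rfl (pow_mem hy _) hyr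
          rw [← hn, orderOf_pow, ham, Nat.gcd_eq_right (dvd_mul_right _ _),
            Nat.mul_div_cancel_left _ (pow_pos hr.pos a)]
          refine lt_mul_of_one_lt_left (Nat.pos_of_ne_zero fun h => hm (h ▸ dvd_zero r)) ?_
          refine Nat.one_lt_pow ?_ hr.one_lt
          rintro rfl
          rw [pow_zero, one_mul] at ham
          exact hm (ham ▸ hrd)
        · exact ⟨y ^ m, pow_mem hy _, hym, r, hr, a, by
            rw [← pow_mul, mul_comm, ← ham, pow_orderOf_eq_one]⟩
    haveI := Fact.mk hq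
    obtain ⟨s, hs, hsq, hsN⟩ := hother q
    haveI := Fact.mk hs
    refine centralPart_nontrivial hnil hsN ((eq_bot_iff_forall _).mpr fun v hv => ?_)
    obtain ⟨c, hvc⟩ := hv.2.2
    refine eq_one_of_commute heq hsq.symm hyN (k := k) (hyk ▸ one_mem N) hv.1 hvc ?_
    have hvF : v ∈ Cfsg.fittingSubgroup G :=
      Cfsg.Agent.Lib.Fitting.le_fittingSubgroup hnil hv.1
    exact congrArg Subtype.val (commute_of_coprime_orders (M := Cfsg.fittingSubgroup G) hsq.symm
      (x := ⟨y, hy⟩) (y := ⟨v, hvF⟩) (a := k) (b := c) (Subtype.ext hyk) (Subtype.ext hvc)).eq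
  obtain ⟨s, hs, hsq, hsN⟩ := hother q
  haveI := Fact.mk hs
  refine (Cfsg.Agent.Lib.PUnique.isCyclic_or_quaternion Q.2 ?_).imp_right fun h => h.2
  by_contra hbad
  simp only [not_forall] at hbad
  obtain ⟨A, B, hA, hB, hAB⟩ := hbad
  haveI : Nontrivial (Q : Subgroup (G ⧸ N)) := by
    refine Finite.one_lt_card_iff_nontrivial.mp ?_
    exact lt_of_lt_of_le (hA.symm ▸ hq.out.one_lt)
      (Nat.le_of_dvd Nat.card_pos A.card_subgroup_dvd_card)
  haveI := Q.2.center_nontrivial
  obtain ⟨⟨b, hbc⟩, hb⟩ := exists_prime_orderOf_dvd_card' (G := center (Q : Subgroup (G ⧸ N))) q (by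
    obtain ⟨k, hk0, hk⟩ := (Q.2.to_subgroup (center (Q : Subgroup (G ⧸ N)))).nontrivial_iff_card.mp
      inferInstance
    exact hk ▸ dvd_pow_self q hk0.ne')
  rw [Subgroup.orderOf_mk] at hb
  obtain ⟨a, haq, hab⟩ : ∃ a, orderOf a = q ∧ a ∉ zpowers b := by
    have hZ : Nat.card (zpowers b) = q := by rw [Nat.card_zpowers, hb]
    by_contra hc
    push Not at hc
    have key : ∀ C : Subgroup (Q : Subgroup (G ⧸ N)), Nat.card C = q → C = zpowers b := by
      intro C hC
      obtain ⟨⟨c, hcC⟩, hco⟩ := exists_prime_orderOf_dvd_card' (G := C) q hC.symm.dvd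
      rw [Subgroup.orderOf_mk] at hco
      have h1 : zpowers c = C :=
        Subgroup.eq_of_le_of_card_ge (zpowers_le.mpr hcC) (by rw [Nat.card_zpowers, hco, hC])
      rw [← h1]
      exact Subgroup.eq_of_le_of_card_ge (zpowers_le.mpr (hc c hco))
        (by rw [hZ, Nat.card_zpowers, hco])
    exact hAB ((key A hA).trans (key B hB).symm)
  haveI := centralPart_normal (N := N) s
  have hker : N ≤ (MulAut.conjNormal : G →* MulAut (centralPart N s)).ker := by
    intro n hn
    rw [MonoidHom.mem_ker]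
    refine MulEquiv.ext fun v => Subtype.ext ?_
    rw [MulAut.conjNormal_apply, MulAut.one_apply]
    exact mul_inv_eq_iff_eq_mul.mpr (v.2.2.1 n hn)
  let φ : (Q : Subgroup (G ⧸ N)) →* MulAut (centralPart N s) :=
    (QuotientGroup.lift N MulAut.conjNormal hker).comp (Q : Subgroup (G ⧸ N)).subtype
  haveI : Finite (centralPart N s ⋊[φ] (Q : Subgroup (G ⧸ N))) :=
    Finite.of_equiv _ SemidirectProduct.equivProd.symm
  have hK : Nat.card (SemidirectProduct.inl : centralPart N s →*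
      centralPart N s ⋊[φ] (Q : Subgroup (G ⧸ N))).range = Nat.card (centralPart N s) :=
    (Nat.card_congr (MonoidHom.ofInjective SemidirectProduct.inl_injective).toEquiv).symm
  have hco : q.Coprime (Nat.card (centralPart N s)) := by
    obtain ⟨m, hm⟩ := IsPGroup.iff_card.mp (show IsPGroup s (centralPart N s) from fun v => by
      obtain ⟨c, hc⟩ := v.2.2.2
      exact ⟨c, Subtype.ext hc⟩)
    rw [hm]
    exact ((Nat.coprime_primes hq.out hs).mpr hsq.symm).pow_right m
  have hnorm : (SemidirectProduct.inl : centralPart N s →*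
      centralPart N s ⋊[φ] (Q : Subgroup (G ⧸ N))).range.Normal := by
    rw [SemidirectProduct.range_inl_eq_ker_rightHom]
    infer_instance
  refine centralPart_nontrivial hnil hsN ((eq_bot_iff_forall _).mpr fun v hv => ?_)
  have hle := Cfsg.Agent.Lib.Coprime.le_of_pair hq.out (K := (SemidirectProduct.inl :
      centralPart N s →* centralPart N s ⋊[φ] (Q : Subgroup (G ⧸ N))).range) (L := ⊥)
    (a := SemidirectProduct.inr a) (b := SemidirectProduct.inr b) (by rw [hK]; exact hco)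
    (by rw [normalizer_eq_top]; exact le_top)
    ((show Commute a b from mem_center_iff.mp hbc a).map _)
    (by rw [← map_pow, orderOf_dvd_iff_pow_eq_one.mp haq.dvd, map_one])
    (by rw [← map_pow, orderOf_dvd_iff_pow_eq_one.mp hb.dvd, map_one])
    (fun h => hq.out.ne_one (by
      rw [← hb, orderOf_eq_one_iff.mpr (SemidirectProduct.inr_injective (h.trans (map_one _).symm))]))
    (fun h => by
      obtain ⟨i, hi⟩ := mem_zpowers_iff.mp h
      rw [← map_zpow] at hi
      exact hab (mem_zpowers_iff.mpr ⟨i, SemidirectProduct.inr_injective hi⟩))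
    ?_
  · have := hle ⟨⟨v, hv⟩, rfl⟩
    rw [mem_bot, ← map_one SemidirectProduct.inl] at this
    exact congrArg Subtype.val (SemidirectProduct.inl_injective this)
  intro x hx hx1 m hm
  obtain ⟨⟨w, rfl⟩, hmx⟩ := hm
  obtain ⟨y, rfl⟩ : x ∈ (SemidirectProduct.inr : (Q : Subgroup (G ⧸ N)) →* _).range := by
    refine (closure_le _).mpr ?_ hx
    rintro z (rfl | rfl) <;> exact ⟨_, rfl⟩
  have hy1 : y ≠ 1 := fun h => hx1 (h ▸ map_one _)
  have hfix : φ y w = w := by
    refine SemidirectProduct.inl_injective (φ := φ) ?_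
    rw [SemidirectProduct.inl_aut, map_inv, mul_inv_eq_iff_eq_mul]
    exact (mem_centralizer_singleton_iff.mp hmx).symm
  obtain ⟨g, hg⟩ := QuotientGroup.mk'_surjective N (y : G ⧸ N)
  have hgN : g ∉ N := fun h => hy1 (Subtype.ext (hg ▸ (QuotientGroup.eq_one_iff g).mpr h))
  obtain ⟨k, hk⟩ := Q.2 y
  have hgk : g ^ q ^ k ∈ N := by
    rw [← QuotientGroup.eq_one_iff, QuotientGroup.mk_pow]
    rw [QuotientGroup.mk'_apply] at hg
    rw [hg]
    exact congrArg Subtype.val hk
  obtain ⟨c, hc⟩ := w.2.2.2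
  have hgw : Commute g (w : G) := by
    have h : (QuotientGroup.lift N MulAut.conjNormal hker (y : G ⧸ N)) w = w := hfix
    rw [← hg, QuotientGroup.mk'_apply, QuotientGroup.lift_mk] at h
    have h2 := congrArg Subtype.val h
    rw [MulAut.conjNormal_apply] at h2
    exact mul_inv_eq_iff_eq_mul.mp h2
  have hw : w = 1 := Subtype.ext (eq_one_of_commute heq hsq.symm hgN hgk w.2.1 hc hgw)
  rw [mem_bot, hw, map_one]

end Cfsg.Agent.S4155
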