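import Cfsg.Statements.S4156
import Mathlib

set_option autoImplicit false
open Cfsg

namespace Cfsg.Agent.S4156

variable {F : Type*} [Field F]

/-- Sum-zero vectors of `F ^ (n + 1)`. -/
def deleted (F : Type*) [Field F] (n : ℕ) : Submodule F (Fin (n + 1) → F) :=
  LinearMap.ker (∑ i : Fin (n + 1), LinearMap.proj i : (Fin (n + 1) → F) →ₗ[F] F)

theorem mem_deleted {n : ℕ} {v : Fin (n + 1) → F} : v ∈ deleted F n ↔ ∑ i, v i = 0 := by
  simp [deleted, LinearMap.sum_apply]

theorem finrank_deleted (n : ℕ) : Module.finrank F (deleted F n) = n := by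
  set φ := (∑ i : Fin (n + 1), LinearMap.proj i : (Fin (n + 1) → F) →ₗ[F] F)
  have hsurj : Function.Surjective φ := fun c => ⟨Pi.single 0 c, by simp [φ, LinearMap.sum_apply]⟩
  have h := φ.finrank_range_add_finrank_ker
  rw [LinearMap.range_eq_top.2 hsurj, finrank_top, Module.finrank_self, Module.finrank_fin_fun] at h
  show Module.finrank F (LinearMap.ker φ) = n
  omega

/-- Permutations act on the sum-zero vectors. -/
def permEnd (n : ℕ) : Equiv.Perm (Fin (n + 1)) →* Module.End F (deleted F n) where
  toFun σ := LinearMap.restrict (LinearMap.funLeft F F ⇑σ⁻¹) (fun v hv => by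
    rw [mem_deleted] at hv ⊢
    simpa [LinearMap.funLeft_apply] using (Equiv.sum_comp σ⁻¹ v).trans hv)
  map_one' := by ext v i; simp [LinearMap.funLeft_apply]
  map_mul' σ τ := by ext v i; simp [LinearMap.funLeft_apply, Module.End.mul_apply]


/-- Let n ≥ 5 and F a finite field. Then the projective special linear group PSL_n(F) contains a subgroup isomorphic to the alternating group of degree n + 1. -/
theorem result (n : ℕ) (hn : 5 ≤ n) (F : Type*) [Field F] [Finite F] :
    ∃ f : alternatingGroup (Fin (n + 1)) →* Matrix.ProjectiveSpecialLinearGroup (Fin n) F, Function.Injective f := by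
  classical
  let b := Module.finBasisOfFinrankEq F (deleted F n) (finrank_deleted n)
  let e := (LinearMap.toMatrixAlgEquiv b).toMonoidHom.comp
    ((permEnd (F := F) n).comp (alternatingGroup (Fin (n + 1))).subtype)
  haveI hsimple : IsSimpleGroup (alternatingGroup (Fin (n + 1))) :=
    alternatingGroup.isSimpleGroup (by simp; omega)
  have hperf : ∀ g : alternatingGroup (Fin (n + 1)), g ∈ commutator (alternatingGroup (Fin (n + 1))) := by
    intro g
    rcases (inferInstance : (commutator (alternatingGroup (Fin (n + 1)))).Normal).eq_bot_or_eq_top with h | h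
    · exfalso
      have hna := alternatingGroup.isMulCommutative_iff_card_le_three (α := Fin (n + 1))
      have : IsMulCommutative (alternatingGroup (Fin (n + 1))) := ⟨⟨fun a b => by
        have := Subgroup.commutator_mem_commutator (Subgroup.mem_top a) (Subgroup.mem_top b)
        rw [← commutator_def, h, Subgroup.mem_bot, commutatorElement_eq_one_iff_mul_comm] at this
        exact this⟩⟩
      have := hna.1 this
      simp at this
      omega
    · rw [h]; trivial
  let d : alternatingGroup (Fin (n + 1)) →* Fˣ :=
    ((Matrix.detMonoidHom (n := Fin n) (R := F)).comp e).toHomUnits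
  have hdet : ∀ g, Matrix.det (e g) = 1 := fun g =>
    congrArg Units.val (show d g = 1 from Abelianization.commutator_subset_ker d (hperf g))
  let s : alternatingGroup (Fin (n + 1)) →* Matrix.SpecialLinearGroup (Fin n) F :=
    { toFun := fun g => ⟨e g, hdet g⟩
      map_one' := Subtype.ext e.map_one
      map_mul' := fun a b => Subtype.ext (e.map_mul a b) }
  have hinj : Function.Injective e := by
    intro a b hab
    have h1 : permEnd (F := F) n a.1 = permEnd n b.1 := (LinearMap.toMatrixAlgEquiv _).injective hab
    have h4 : a.1⁻¹ = b.1⁻¹ := by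
      apply Equiv.ext
      intro i
      by_contra hne
      obtain ⟨t, ht1, ht2⟩ : ∃ t : Fin (n + 1), t ≠ a.1⁻¹ i ∧ t ≠ b.1⁻¹ i := by
        by_contra hc
        push Not at hc
        have hsub : (Finset.univ : Finset (Fin (n + 1))) ⊆ {a.1⁻¹ i, b.1⁻¹ i} := fun t _ => by
          rw [Finset.mem_insert, Finset.mem_singleton]
          exact or_iff_not_imp_left.2 (hc t)
        have := (Finset.card_le_card hsub).trans Finset.card_le_two
        simp at this
        omega
      let v : deleted F n := ⟨Pi.single (a.1⁻¹ i) 1 - Pi.single t 1, by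
        rw [mem_deleted]; simp [Finset.sum_sub_distrib]⟩
      have h2 := congrFun (congrArg Subtype.val (LinearMap.congr_fun h1 v)) i
      rw [Equiv.Perm.inv_def, Equiv.Perm.inv_def] at hne
      rw [Equiv.Perm.inv_def] at ht1 ht2
      simp [permEnd, v, LinearMap.funLeft_apply, Pi.single_apply, Ne.symm ht1, Ne.symm ht2, Ne.symm hne] at h2
    exact Subtype.ext (inv_injective h4)
  have hs : Function.Injective s := fun a b hab => hinj (congrArg Subtype.val hab)
  refine ⟨(QuotientGroup.mk' _).comp s, ?_⟩
  rw [← MonoidHom.ker_eq_bot_iff]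
  rcases ((QuotientGroup.mk' (Subgroup.center (Matrix.SpecialLinearGroup (Fin n) F))).comp s).normal_ker.eq_bot_or_eq_top with h | h
  · exact h
  · exfalso
    have hall : ∀ g, s g ∈ Subgroup.center (Matrix.SpecialLinearGroup (Fin n) F) := fun g =>
      (QuotientGroup.eq_one_iff _).1 (MonoidHom.mem_ker.1 (h ▸ Subgroup.mem_top g))
    have : IsMulCommutative (alternatingGroup (Fin (n + 1))) := ⟨⟨fun a b => hs (by
      rw [map_mul, map_mul]; exact (Subgroup.mem_center_iff.1 (hall a) (s b)).symm)⟩⟩
    have h3 := alternatingGroup.isMulCommutative_iff_card_le_three.1 this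
    simp at h3
    omega

end Cfsg.Agent.S4156
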