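import Cfsg.Statements.S4157
import Mathlib
import Cfsg.Agent.Lib.OrderCount.SubgroupsSq
import Cfsg.Agent.Lib.Elem69.TwoGroupNoKlein
import Cfsg.Agent.Lib.PLemmas.MaximalClass
import Cfsg.Agent.Lib.Involution.NormalFour

set_option autoImplicit false
open Cfsg

namespace Cfsg.Agent.S4157

open Subgroup

theorem even_of_involution {α : Type*} [Finite α] (f : α → α) (h2 : ∀ a, f (f a) = a)
    (h1 : ∀ a, f a ≠ a) : 2 ∣ Nat.card α := by
  classical
  haveI := Fintype.ofFinite α
  haveI := Fact.mk Nat.prime_two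
  have hp : (show Function.End α from f) ^ 2 ^ 1 = 1 := by
    funext a
    exact h2 a
  have h := Equiv.Perm.card_fixedPoints_modEq (f := (show Function.End α from f)) hp
  rw [← Nat.card_eq_fintype_card, ← Nat.card_eq_fintype_card] at h
  haveI : IsEmpty (Function.fixedPoints f) := ⟨fun a => h1 a.1 a.2⟩
  rw [Nat.card_of_isEmpty (α := Function.fixedPoints f)] at h
  exact Nat.modEq_zero_iff_dvd.mp h

section two

variable {G : Type*} [Group G] [Finite G]

theorem odd_gen {n : ℕ} {x y : G} (hx : orderOf x = 2 ^ (n + 1)) (hy : y ∈ zpowers x)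
    (hyo : orderOf y = 2 ^ (n + 1)) : ∃ i : ℕ, y = x ^ (2 * i + 1) := by
  obtain ⟨i, hi : x ^ i = y⟩ := mem_powers_iff_mem_zpowers.mpr hy
  rcases Nat.even_or_odd' i with ⟨c, rfl | rfl⟩
  · exfalso
    have : y ^ 2 ^ n = 1 := by
      rw [← hi, ← pow_mul, ← orderOf_dvd_iff_pow_eq_one, hx, pow_succ']
      exact ⟨c, by ring⟩
    rw [← orderOf_dvd_iff_pow_eq_one, hyo, Nat.pow_dvd_pow_iff_le_right one_lt_two] at this
    omega
  · exact ⟨c, hi.symm⟩

theorem sq_one_eq {n : ℕ} {x u : G} (hx : orderOf x = 2 ^ (n + 1)) (hu : u ∈ zpowers x)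
    (hu2 : u ^ 2 = 1) (hu1 : u ≠ 1) : u = x ^ 2 ^ n := by
  obtain ⟨i, hi : x ^ i = u⟩ := mem_powers_iff_mem_zpowers.mpr hu
  have h : 2 ^ n * 2 ∣ i * 2 := by
    rw [← pow_succ, ← hx, orderOf_dvd_iff_pow_eq_one, pow_mul, hi, hu2]
  obtain ⟨c, rfl⟩ := Nat.dvd_of_mul_dvd_mul_right two_pos h
  rcases Nat.even_or_odd' c with ⟨c', rfl | rfl⟩
  · exfalso
    apply hu1
    rw [← hi, show 2 ^ n * (2 * c') = 2 ^ (n + 1) * c' by ring, ← hx, pow_mul, pow_orderOf_eq_one, one_pow]
  · rw [← hi, mul_add, mul_one, pow_add, show 2 ^ n * (2 * c') = 2 ^ (n + 1) * c' by ring, ← hx,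
      pow_mul, pow_orderOf_eq_one, one_pow, one_mul]

theorem translate {j : ℕ} {x d w : G} (hx : orderOf x = 2 ^ (j + 2)) (hd : d * d = 1)
    (hwc : ∀ g, g * w = w * g) (hdx : d * x = x * w * d) (hwQ : w ^ 2 ^ j = 1)
    (hwx : w ∈ zpowers (x ^ 2 ^ (j + 1))) :
    orderOf (x * d) = 2 ^ (j + 2) ∧ (x * d) ^ 2 ^ (j + 1) = x ^ 2 ^ (j + 1) ∧
      ∀ i : ℕ, x ^ (2 * i + 1) * d ∈ zpowers (x * d) := by
  have hsq : (x * d) ^ 2 = x ^ 2 * w := by
    calc (x * d) ^ 2 = x * (d * x) * d := by rw [sq]; group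
      _ = x * (x * w * d) * d := by rw [hdx]
      _ = x ^ 2 * w * (d * d) := by rw [sq]; group
      _ = x ^ 2 * w := by rw [hd, mul_one]
  have hcx : ∀ k : ℕ, Commute (x ^ k) w := fun k => hwc _
  have hP : (x * d) ^ 2 ^ (j + 1) = x ^ 2 ^ (j + 1) := by
    rw [pow_succ', pow_mul, hsq, (hcx 2).mul_pow, hwQ, mul_one, ← pow_mul]
  haveI := Fact.mk Nat.prime_two
  have ho : orderOf (x * d) = 2 ^ (j + 2) := by
    refine orderOf_eq_prime_pow (fun h => ?_) ?_
    · rw [hP, ← orderOf_dvd_iff_pow_eq_one, hx, Nat.pow_dvd_pow_iff_le_right one_lt_two] at h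
      omega
    · rw [pow_succ, pow_mul, hP, ← pow_mul, ← pow_succ, ← hx, pow_orderOf_eq_one]
  refine ⟨ho, hP, fun i => ?_⟩
  have he : (x * d) ^ (2 * i + 1) = x ^ (2 * i + 1) * d * w ^ i := by
    rw [pow_succ, pow_mul, hsq, (hcx 2).mul_pow, ← pow_mul, pow_succ]
    have hc : Commute (x * d) (w ^ i) := Commute.pow_right (hwc _) i
    rw [mul_assoc, ← hc.eq]; group
  have hwi : w ^ i ∈ zpowers (x * d) := by
    refine pow_mem (zpowers_le.mpr ?_ hwx) i
    rw [← hP]; exact pow_mem (mem_zpowers _) _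
  exact (mul_mem_cancel_right hwi).mp (he ▸ pow_mem (mem_zpowers _) _)

open scoped Classical in
theorem even_translate (j : ℕ) (d : G) (hd : d * d = 1) (Φ : G → Prop)
    (hΦ : ∀ x, orderOf x = 2 ^ (j + 2) → Φ x → d ∉ zpowers x ∧ Φ (x * d) ∧
      ∃ w : G, (∀ g, g * w = w * g) ∧ d * x = x * w * d ∧ w ^ 2 ^ j = 1 ∧
        w ∈ zpowers (x ^ 2 ^ (j + 1))) :
    2 ∣ Nat.card {C : Subgroup G // ∃ x, orderOf x = 2 ^ (j + 2) ∧ zpowers x = C ∧ Φ x} := by
  set α := {C : Subgroup G // ∃ x, orderOf x = 2 ^ (j + 2) ∧ zpowers x = C ∧ Φ x}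
  let gen : α → G := fun C => Classical.choose C.2
  have hgen : ∀ C : α, orderOf (gen C) = 2 ^ (j + 2) ∧ zpowers (gen C) = C.1 ∧ Φ (gen C) := fun C =>
    Classical.choose_spec C.2
  have key : ∀ x, orderOf x = 2 ^ (j + 2) → Φ x → orderOf (x * d) = 2 ^ (j + 2) ∧ Φ (x * d) ∧
      ∀ i : ℕ, x ^ (2 * i + 1) * d ∈ zpowers (x * d) := by
    intro x hx hΦx
    obtain ⟨-, hxd, w, hwc, hdx, hwQ, hwx⟩ := hΦ x hx hΦx
    obtain ⟨h1, -, h3⟩ := translate hx hd hwc hdx hwQ hwx
    exact ⟨h1, hxd, h3⟩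
  let T : α → α := fun C => ⟨zpowers (gen C * d), gen C * d,
    (key _ (hgen C).1 (hgen C).2.2).1, rfl, (key _ (hgen C).1 (hgen C).2.2).2.1⟩
  refine even_of_involution T (fun C => ?_) (fun C hC => ?_)
  · apply Subtype.ext
    show zpowers (gen (T C) * d) = C.1
    obtain ⟨hxo, hxC, hxΦ⟩ := hgen C
    obtain ⟨hyo, hyC, hyΦ⟩ := hgen (T C)
    obtain ⟨hxdo, hxdΦ, -⟩ := key _ hxo hxΦ
    have hy : gen (T C) ∈ zpowers (gen C * d) := by
      rw [show zpowers (gen C * d) = (T C).1 from rfl, ← hyC]; exact mem_zpowers _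
    obtain ⟨i, hi⟩ := odd_gen hxdo hy hyo
    have h := (key _ hxdo hxdΦ).2.2 i
    rw [← hi, mul_assoc (gen C), hd, mul_one] at h
    rw [← hxC]
    refine Subgroup.eq_of_le_of_card_ge (zpowers_le.mpr h) ?_
    rw [Nat.card_zpowers, Nat.card_zpowers, (key _ hyo hyΦ).1, hxo]
  · obtain ⟨hxo, hxC, hxΦ⟩ := hgen C
    have h : zpowers (gen C * d) = zpowers (gen C) := by
      rw [hxC]; exact congrArg Subtype.val hC
    refine (hΦ _ hxo hxΦ).1 ((mul_mem_cancel_left (mem_zpowers (gen C))).mp ?_)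
    rw [← h]; exact mem_zpowers _

theorem index_le_two {a z : G} (hz : ∀ g, g * z = z * g) (hz2 : z * z = 1)
    (h : ∀ g : G, g * a * g⁻¹ = a ∨ g * a * g⁻¹ = a * z) :
    (centralizer ({a} : Set G)).index ≤ 2 := by
  have hmem : ∀ g : G, g ∈ centralizer ({a} : Set G) ↔ g * a * g⁻¹ = a := fun g =>
    mem_centralizer_singleton_iff.trans mul_inv_eq_iff_eq_mul.symm
  by_cases htop : ∀ g : G, g * a * g⁻¹ = a
  · rw [(_root_.eq_top_iff.mpr fun g _ => (hmem g).mpr (htop g) : centralizer ({a} : Set G) = ⊤),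
      index_top]
    norm_num
  · push Not at htop
    obtain ⟨g₀, hg₀⟩ := htop
    refine le_of_eq (index_eq_two_iff.mpr ⟨g₀⁻¹, fun b => ?_⟩)
    have hg₁ : g₀⁻¹ * a * g₀ = a * z := by
      rcases h g₀⁻¹ with e | e <;> rw [inv_inv] at e
      · refine absurd ?_ hg₀
        calc g₀ * a * g₀⁻¹ = g₀ * (g₀⁻¹ * a * g₀) * g₀⁻¹ := by rw [e]
          _ = a := by group
      · exact e
    have hbg : b * g₀⁻¹ * a * (b * g₀⁻¹)⁻¹ = b * a * b⁻¹ * z := by
      calc b * g₀⁻¹ * a * (b * g₀⁻¹)⁻¹ = b * (g₀⁻¹ * a * g₀) * b⁻¹ := by group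
        _ = b * a * (z * b⁻¹) := by rw [hg₁]; group
        _ = b * a * (b⁻¹ * z) := by rw [(hz b⁻¹)]
        _ = b * a * b⁻¹ * z := by group
    have hz1 : a * z ≠ a := fun e => hg₀ (by rcases h g₀ with e' | e' <;> [exact e'; exact e'.trans e])
    rw [hmem, hmem, hbg]
    rcases h b with hb | hb <;> rw [hb]
    · exact Or.inr ⟨rfl, hz1⟩
    · exact Or.inl ⟨by rw [mul_assoc, hz2, mul_one], hz1⟩

theorem even_order_four (hG : IsPGroup 2 G) {m : ℕ} (hm : Nat.card G = 2 ^ m)
    (hcl : Group.nilpotencyClass G ≠ m - 1) {e₀ e₁ : G} (h0 : ∀ g, g * e₀ = e₀ * g)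
    (h00 : e₀ * e₀ = 1) (he0 : e₀ ≠ 1) (h11 : e₁ * e₁ = 1) (he01 : e₁ ≠ e₀)
    (hconj : ∀ g, g * e₁ * g⁻¹ = e₁ ∨ g * e₁ * g⁻¹ = e₁ * e₀) :
    2 ∣ Nat.card {C : Subgroup G // ∃ x, x ^ 2 = e₀ ∧ e₁ * x ≠ x * e₁ ∧ zpowers x = C} := by
  classical
  haveI := Fact.mk Nat.prime_two
  set α := {C : Subgroup G // ∃ x, x ^ 2 = e₀ ∧ e₁ * x ≠ x * e₁ ∧ zpowers x = C}
  have hord : ∀ x : G, x ^ 2 = e₀ → orderOf x = 2 ^ (1 + 1) := fun x hx =>
    orderOf_eq_prime_pow (by rw [pow_one, hx]; exact he0)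
      (by rw [pow_succ, pow_one, pow_mul, hx, sq, h00])
  have hmem4 : ∀ {x y : G}, x ^ 2 = e₀ → y ^ 2 = e₀ → y ∈ zpowers x → y = x ∨ y = x * e₀ := by
    intro x y hx hy hyx
    obtain ⟨i, rfl⟩ := odd_gen (hord x hx) hyx (hord y hy)
    rcases Nat.even_or_odd' i with ⟨c, rfl | rfl⟩
    · left
      rw [show 2 * (2 * c) + 1 = 1 + 2 * (2 * c) by ring, pow_add, pow_one, pow_mul, hx, pow_mul, sq,
        h00, one_pow, mul_one]
    · right
      rw [show 2 * (2 * c + 1) + 1 = 1 + 2 * (2 * c + 1) by ring, pow_add, pow_one, pow_mul, hx,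
        pow_succ, pow_mul, sq, h00, one_pow, one_mul]
  -- noncommuting elements
  have hnc : ∀ x : G, e₁ * x ≠ x * e₁ → e₁ * x = x * e₀ * e₁ := by
    intro x hx
    rcases hconj x⁻¹ with e | e <;> rw [inv_inv] at e
    · refine absurd ?_ hx
      calc e₁ * x = x * (x⁻¹ * e₁ * x) := by group
        _ = x * e₁ := by rw [e]
    · calc e₁ * x = x * (x⁻¹ * e₁ * x) := by group
        _ = x * (e₁ * e₀) := by rw [e]
        _ = x * e₀ * e₁ := by rw [h0 e₁, mul_assoc]
  let inst : MulAction G α :=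
    { smul := fun g C => ⟨C.1.map (MulAut.conj g).toMonoidHom, by
        obtain ⟨x, hx2, hxe, hxC⟩ := C.2
        refine ⟨g * x * g⁻¹, by rw [conj_pow, hx2, h0, mul_inv_cancel_right], fun h => hxe ?_, by
          rw [← hxC, MonoidHom.map_zpowers]; rfl⟩
        have h' : Commute (g⁻¹ * e₁ * g) x := by
          show g⁻¹ * e₁ * g * x = x * (g⁻¹ * e₁ * g)
          calc g⁻¹ * e₁ * g * x = g⁻¹ * (e₁ * (g * x * g⁻¹)) * g := by group
            _ = x * (g⁻¹ * e₁ * g) := by rw [h]; group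
        rcases hconj g⁻¹ with e | e <;> rw [inv_inv] at e <;> rw [e] at h'
        · exact h'.eq
        · have h2 := h'.mul_left ((h0 x).symm : Commute e₀ x)
          rw [mul_assoc, h00, mul_one] at h2
          exact h2.eq⟩
      one_smul := fun C => Subtype.ext (show C.1.map _ = C.1 by
        conv_rhs => rw [← Subgroup.map_id C.1]
        congr 1; ext; simp)
      mul_smul := fun g h C => Subtype.ext (show C.1.map _ = (C.1.map _).map _ by
        rw [Subgroup.map_map]; congr 1; ext; simp [mul_assoc]) }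
  by_cases hfix : IsEmpty (MulAction.fixedPoints G α)
  · have h := hG.card_modEq_card_fixedPoints α
    rw [Nat.card_of_isEmpty (α := MulAction.fixedPoints G α)] at h
    exact Nat.modEq_zero_iff_dvd.mp h
  rw [not_isEmpty_iff] at hfix
  obtain ⟨⟨C, x, hx2, hxe, hxC⟩, hfixC⟩ := hfix
  have hxconj : ∀ g : G, g * x * g⁻¹ = x ∨ g * x * g⁻¹ = x * e₀ := by
    intro g
    have h : C.map (MulAut.conj g).toMonoidHom = C := congrArg Subtype.val (hfixC g)
    refine hmem4 hx2 (by rw [conj_pow, hx2, h0, mul_inv_cancel_right]) ?_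
    rw [hxC, ← h, ← hxC]
    exact ⟨x, mem_zpowers x, rfl⟩
  -- the order is at least 16
  have hm4 : 4 ≤ m := by
    by_contra hm4
    have hne : Group.nilpotencyClass G ≠ 0 ∧ Group.nilpotencyClass G ≠ 1 ∧ 2 ≤ m := by
      haveI := hG.isNilpotent
      haveI : Nontrivial G := ⟨⟨e₀, 1, he0⟩⟩
      have hQ : ¬ Subsingleton (G ⧸ center G) := fun hs => hxe (by
        have hxc : x ∈ center G := (QuotientGroup.eq_one_iff x).mp (Subsingleton.elim _ _)
        exact mem_center_iff.mp hxc e₁)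
      have hQ0 : Group.nilpotencyClass (G ⧸ center G) ≠ 0 := fun h =>
        hQ (Group.nilpotencyClass_zero_iff_subsingleton.mp h)
      have h1 := Group.nilpotencyClass_eq_quotient_center_plus_one (G := G)
      refine ⟨by omega, by omega, ?_⟩
      have := orderOf_dvd_natCard (G := G) x
      rw [hord x hx2, hm, Nat.pow_dvd_pow_iff_le_right one_lt_two] at this
      omega
    have hle := Cfsg.Agent.Lib.PLemmas.nilpotencyClass_le hG hm hne.2.2
    omega
  set K : Subgroup G := centralizer ({x} : Set G) ⊓ centralizer ({e₁} : Set G) with hK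
  haveI hKn : K.Normal := by
    refine ⟨fun k hk g => ?_⟩
    rw [hK, mem_inf, mem_centralizer_singleton_iff, mem_centralizer_singleton_iff] at hk ⊢
    constructor
    all_goals
      rename' hk => hk'
    · have h1 : Commute k (g⁻¹ * x * g) := by
        rcases hxconj g⁻¹ with e | e <;> rw [inv_inv] at e <;> rw [e]
        · exact hk'.1
        · exact (show Commute k x from hk'.1).mul_right (h0 k)
      calc g * k * g⁻¹ * x = g * (k * (g⁻¹ * x * g)) * g⁻¹ := by group
        _ = x * (g * k * g⁻¹) := by rw [h1.eq]; group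
    · have h1 : Commute k (g⁻¹ * e₁ * g) := by
        rcases hconj g⁻¹ with e | e <;> rw [inv_inv] at e <;> rw [e]
        · exact hk'.2
        · exact (show Commute k e₁ from hk'.2).mul_right (h0 k)
      calc g * k * g⁻¹ * e₁ = g * (k * (g⁻¹ * e₁ * g)) * g⁻¹ := by group
        _ = e₁ * (g * k * g⁻¹) := by rw [h1.eq]; group
  have hKidx : K.index ≤ 4 := le_trans index_inf_le
    (Nat.mul_le_mul (index_le_two h0 h00 hxconj) (index_le_two h0 h00 hconj))
  set Z := zpowers e₀ with hZ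
  haveI : Z.Normal := ⟨fun z hz g => by
    obtain ⟨i, rfl⟩ := hz
    rw [((show Commute g e₀ from h0 g).zpow_right i).eq, mul_inv_cancel_right]
    exact zpow_mem (mem_zpowers _) i⟩
  have hZc : Nat.card Z = 2 := by
    rw [hZ, Nat.card_zpowers]; exact orderOf_eq_prime (by rw [sq, h00]) he0
  have hKZ : ¬ K ≤ Z := fun hle => by
    have h1 := card_mul_index K
    have h2 : 16 ≤ Nat.card G := hm ▸ (Nat.pow_le_pow_right two_pos hm4 : 2 ^ 4 ≤ 2 ^ m)
    have h3 := Nat.le_of_dvd Nat.card_pos (card_dvd_of_le hle)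
    have h4 : Nat.card K * K.index ≤ 2 * 4 := Nat.mul_le_mul (hZc ▸ h3) hKidx
    omega
  set ρ := QuotientGroup.mk' Z with hρ
  haveI hKρ : (K.map ρ).Normal := Subgroup.Normal.map inferInstance ρ (QuotientGroup.mk'_surjective _)
  obtain ⟨w, ⟨k, hkK, rfl⟩, hwc, hwo⟩ := Cfsg.Agent.Lib.Elem69.exists_central_order_p (p := 2)
    (hG.to_quotient Z) (K.map ρ) (by rw [Ne, Subgroup.map_eq_bot_iff, QuotientGroup.ker_mk']; exact hKZ)
  have hZmem : ∀ y ∈ Z, y = 1 ∨ y = e₀ := by
    rintro _ ⟨i, rfl⟩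
    have h : e₀ ^ (2 : ℤ) = 1 := by rw [zpow_two, h00]
    rcases Int.even_or_odd' i with ⟨c, rfl | rfl⟩
    · left; show e₀ ^ (2 * c) = 1; rw [zpow_mul, h, one_zpow]
    · right; show e₀ ^ (2 * c + 1) = e₀; rw [zpow_add, zpow_mul, h, one_zpow, one_mul, zpow_one]
  have hk2 : k ^ 2 = 1 ∨ k ^ 2 = e₀ := hZmem _ ((QuotientGroup.eq_one_iff _).mp (by
    have := pow_orderOf_eq_one (ρ k)
    rw [hwo, ← map_pow] at this
    exact this))
  have hkcomm : ∀ y : G, k * y = y * k ∨ k * y = y * k * e₀ := by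
    intro y
    have h := mem_center_iff.mp hwc (ρ y)
    rw [← map_mul, ← map_mul] at h
    have h' : (y * k)⁻¹ * (k * y) ∈ Z := QuotientGroup.eq.mp h
    rcases hZmem _ h' with e | e
    · left; exact (inv_mul_eq_one.mp e).symm
    · right; exact inv_mul_eq_iff_eq_mul.mp e
  have hkZ : k ∉ Z := fun h => by
    have : ρ k = 1 := (QuotientGroup.eq_one_iff k).mpr h
    rw [this, orderOf_one] at hwo
    norm_num at hwo
  replace hkK : k * x = x * k ∧ k * e₁ = e₁ * k := by
    have h := (mem_inf.mp (show k ∈ centralizer ({x} : Set G) ⊓ centralizer ({e₁} : Set G) from hkK))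
    exact ⟨mem_centralizer_singleton_iff.mp h.1, mem_centralizer_singleton_iff.mp h.2⟩
  -- the translation
  have hsq : ∀ y : G, y ^ 2 = e₀ → (y * k) ^ 2 = 1 ∨ (y * k) ^ 2 = e₀ := by
    intro y hy
    have : ∀ u, u = 1 ∨ u = e₀ → k * y = y * k * u → (y * k) ^ 2 = e₀ * k ^ 2 * u := by
      intro u hu hky
      have hu' : u * k = k * u := by
        rcases hu with rfl | rfl
        · simp
        · exact (h0 k).symm
      calc (y * k) ^ 2 = y * (k * y) * k := by rw [sq]; group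
        _ = y * y * k * (u * k) := by rw [hky]; group
        _ = y ^ 2 * k ^ 2 * u := by rw [hu', sq, sq]; group
        _ = e₀ * k ^ 2 * u := by rw [hy]
    rcases hkcomm y with e | e
    · have := this 1 (Or.inl rfl) (by rw [e, mul_one])
      rcases hk2 with h | h <;> rw [h] at this <;> simp [h00] at this <;> tauto
    · have := this e₀ (Or.inr rfl) e
      rcases hk2 with h | h <;> rw [h] at this <;> simp [h00] at this <;> tauto
  let S : G → G := fun y => if (y * k) ^ 2 = e₀ then y * k else y * k * e₁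
  have hk1 : k * e₁ = e₁ * k := hkK.2
  have hA : ∀ y : G, y ^ 2 = e₀ → e₁ * y ≠ y * e₁ →
      (S y) ^ 2 = e₀ ∧ e₁ * S y ≠ S y * e₁ := by
    intro y hy hye
    have hye' := hnc y hye
    have he : e₁ * (y * k) = y * k * e₀ * e₁ := by
      rw [← mul_assoc, hye', mul_assoc _ e₁ k, ← hk1, ← mul_assoc, mul_assoc y e₀ k, ← h0 k]
      group
    have hne : e₁ * (y * k) ≠ y * k * e₁ := fun h => he0 (by
      rw [he, mul_assoc _ e₀ e₁] at h
      exact mul_eq_right.mp (mul_left_cancel h))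
    simp only [S]
    split_ifs with hc
    · exact ⟨hc, hne⟩
    · have h1 : (y * k) ^ 2 = 1 := (hsq y hy).resolve_right hc
      refine ⟨?_, fun h => hne (mul_right_cancel (b := e₁) (by rw [mul_assoc e₁]; exact h))⟩
      calc (y * k * e₁) ^ 2 = y * k * (e₁ * (y * k)) * e₁ := by rw [sq]; group
        _ = (y * k) ^ 2 * (e₀ * (e₁ * e₁)) := by rw [he, sq]; group
        _ = e₀ := by rw [h1, h11, one_mul, mul_one]
  have hSz : ∀ y : G, y ^ 2 = e₀ → e₁ * y ≠ y * e₁ → S (y * e₀) = S y * e₀ := by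
    intro y hy hye
    have hc : ∀ u : G, e₀ * u = u * e₀ := fun u => (h0 u).symm
    have e1 : y * e₀ * k = y * k * e₀ := by rw [mul_assoc, hc k, ← mul_assoc]
    have e2 : (y * e₀ * k) ^ 2 = (y * k) ^ 2 := by
      rw [e1, (show Commute (y * k) e₀ from h0 _).mul_pow, sq e₀, h00, mul_one]
    simp only [S, e2]
    split_ifs with hcond
    · exact e1
    · rw [e1, mul_assoc, hc e₁, ← mul_assoc]
  have hSS : ∀ y : G, y ^ 2 = e₀ → e₁ * y ≠ y * e₁ → S (S y) = y ∨ S (S y) = y * e₀ := by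
    intro y hy hye
    have hkk : ∀ u, u * k * k = u ∨ u * k * k = u * e₀ := fun u => by
      rw [mul_assoc, ← sq]
      rcases hk2 with h | h <;> rw [h] <;> simp
    have hfin : ∀ u, u = y ∨ u = y * e₀ → u ^ 2 = e₀ := by
      rintro u (rfl | rfl)
      · exact hy
      · rw [(show Commute y e₀ from h0 y).mul_pow, sq e₀, h00, mul_one, hy]
    by_cases hc : (y * k) ^ 2 = e₀
    · have e : S y = y * k := if_pos hc
      have : S (S y) = y * k * k := by
        rw [e]; exact if_pos (hfin _ (hkk y))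
      rw [this]; exact hkk y
    · have e : S y = y * k * e₁ := if_neg hc
      have e' : y * k * e₁ * k = y * k * k * e₁ := by rw [mul_assoc _ e₁, ← hk1, ← mul_assoc]
      have e'' : (y * k * e₁ * k) ^ 2 ≠ e₀ := by
        rw [e']
        set u := y * k * k with hu
        have hue : e₁ * u = u * e₀ * e₁ := by
          rcases hkk y with h | h <;> rw [hu, h]
          · exact hnc y hye
          · rw [← mul_assoc, hnc y hye, mul_assoc _ e₁ e₀, h0 e₁, ← mul_assoc]
        have : (u * e₁) ^ 2 = 1 := by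
          calc (u * e₁) ^ 2 = u * (e₁ * u) * e₁ := by rw [sq]; group
            _ = u ^ 2 * e₀ * (e₁ * e₁) := by rw [hue, sq]; group
            _ = 1 := by rw [hfin u (hkk y), h00, h11, one_mul]
        rw [this]; exact he0.symm
      have : S (S y) = y * k * k := by
        rw [e]
        show (if (y * k * e₁ * k) ^ 2 = e₀ then _ else _) = _
        rw [if_neg e'', e', mul_assoc, h11, mul_one]
      rw [this]; exact hkk y
  let gen : α → G := fun C => Classical.choose C.2
  have hgen : ∀ C : α, (gen C) ^ 2 = e₀ ∧ e₁ * gen C ≠ gen C * e₁ ∧ zpowers (gen C) = C.1 :=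
    fun C => Classical.choose_spec C.2
  let T : α → α := fun C => ⟨zpowers (S (gen C)), S (gen C),
    (hA _ (hgen C).1 (hgen C).2.1).1, (hA _ (hgen C).1 (hgen C).2.1).2, rfl⟩
  have hsame : ∀ {u v : G}, v ^ 2 = e₀ → (u = v ∨ u = v * e₀) → zpowers u = zpowers v := by
    intro u v hv huv
    rcases huv with rfl | rfl
    · rfl
    · have hu : (v * e₀) ^ 2 = e₀ := by rw [(show Commute v e₀ from h0 v).mul_pow, sq e₀, h00, mul_one, hv]
      refine Subgroup.eq_of_le_of_card_ge (zpowers_le.mpr (mul_mem (mem_zpowers v) ?_)) ?_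
      · have := pow_mem (mem_zpowers v) 2
        rwa [hv] at this
      · rw [Nat.card_zpowers, Nat.card_zpowers, hord _ hu, hord _ hv]
  refine even_of_involution T (fun C => ?_) (fun C hC => ?_)
  · apply Subtype.ext
    show zpowers (S (gen (T C))) = C.1
    obtain ⟨hy, hye, hyC⟩ := hgen C
    obtain ⟨hz, hze, hzC⟩ := hgen (T C)
    rw [← hyC]
    refine hsame hy ?_
    have hSy := hA _ hy hye
    rcases hmem4 hSy.1 hz (show gen (T C) ∈ zpowers (S (gen C)) from
      (show zpowers (S (gen C)) = (T C).1 from rfl) ▸ hzC ▸ mem_zpowers _) with e | e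
    · rw [e]; exact hSS _ hy hye
    · rw [e, hSz _ hSy.1 hSy.2]
      rcases hSS _ hy hye with h | h <;> rw [h]
      · right; rfl
      · left; rw [mul_assoc, h00, mul_one]
  · obtain ⟨hy, hye, hyC⟩ := hgen C
    set y := gen C
    have h : S y ∈ zpowers y := by
      rw [hyC, ← congrArg Subtype.val hC]; exact mem_zpowers _
    have h' := hmem4 hy (hA _ hy hye).1 h
    have hkz : k = 1 ∨ k = e₀ ∨ k = e₁ ∨ k = e₀ * e₁ := by
      simp only [S] at h'
      split_ifs at h' with hc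
      · rcases h' with e | e
        · exact Or.inl (mul_eq_left.mp e)
        · exact Or.inr (Or.inl (mul_left_cancel e))
      · rcases h' with e | e
        · refine Or.inr (Or.inr (Or.inl ?_))
          rw [mul_assoc] at e
          rw [eq_inv_of_mul_eq_one_left (mul_eq_left.mp e), inv_eq_of_mul_eq_one_right h11]
        · refine Or.inr (Or.inr (Or.inr ?_))
          rw [mul_assoc] at e
          rw [← mul_left_cancel e, mul_assoc, h11, mul_one]
    rcases hkz with rfl | rfl | rfl | rfl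
    · exact hkZ (one_mem _)
    · exact hkZ (mem_zpowers _)
    · exact hxe hkK.1
    · exact hxe (mul_left_cancel (a := e₀) (by
        rw [← mul_assoc, hkK.1, ← mul_assoc, ← mul_assoc, h0 x]))

open scoped Classical in
theorem card_split {α : Type*} [Finite α] (p q : α → Prop) :
    Nat.card {a // p a} = Nat.card {a // p a ∧ q a} + Nat.card {a // p a ∧ ¬ q a} := by
  rw [← Nat.card_sum]
  exact Nat.card_congr (((Equiv.sumCompl fun a : {a // p a} => q a.1).symm).trans
    (Equiv.sumCongr (Equiv.subtypeSubtypeEquivSubtypeInter p q)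
      (Equiv.subtypeSubtypeEquivSubtypeInter p fun a => ¬ q a)))

theorem card_cyclic_even (hG : IsPGroup 2 G) {m : ℕ} (hm : Nat.card G = 2 ^ m)
    (hcl : Group.nilpotencyClass G ≠ m - 1) (E : Subgroup G) (hEn : E.Normal)
    (hE2 : ∀ e ∈ E, e * e = 1) (hEc : Nat.card E = 4) (j : ℕ) :
    2 ∣ Nat.card {C : Subgroup G // Nat.card C = 2 ^ (j + 2) ∧ IsCyclic C} := by
  classical
  haveI := Fact.mk Nat.prime_two
  obtain ⟨e₀, he0E, he0, h0⟩ := Cfsg.Agent.Lib.Involution.exists_central_ne_one_of_normal hG E hEn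
    (fun h => by rw [h, card_bot] at hEc; norm_num at hEc)
  obtain ⟨e₁, he1E, he01, he11⟩ : ∃ e ∈ E, e ≠ e₀ ∧ e ≠ 1 := by
    by_contra h
    push Not at h
    have hsub : (E : Set G) ⊆ {e₀, 1} := fun e he => by
      by_cases h' : e = e₀
      · exact Or.inl h'
      · exact Or.inr (h e he h')
    have := Set.ncard_le_ncard hsub
    rw [Set.ncard_pair he0] at this
    change Nat.card E ≤ 2 at this
    omega
  have h00 := hE2 _ he0E
  have h11 := hE2 _ he1E
  have hEmem : ∀ e ∈ E, e = 1 ∨ e = e₀ ∨ e = e₁ ∨ e = e₁ * e₀ := by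
    have hsub : ({1, e₀, e₁, e₁ * e₀} : Set G) ⊆ E := by
      rintro e (rfl | rfl | rfl | rfl)
      exacts [one_mem E, he0E, he1E, mul_mem he1E he0E]
    have h4 : ({1, e₀, e₁, e₁ * e₀} : Set G).ncard = 4 := by
      have hne : e₁ * e₀ ≠ 1 := fun h => he01 (by
        rw [eq_inv_of_mul_eq_one_left h, inv_eq_of_mul_eq_one_right h00])
      rw [Set.ncard_insert_of_notMem (by simp [he0.symm, he11.symm, hne.symm]) (Set.toFinite _),
        Set.ncard_insert_of_notMem (by simp [he01.symm, he11]) (Set.toFinite _),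
        Set.ncard_pair (by simp [he0])]
    have heq := Set.eq_of_subset_of_ncard_le hsub (by rw [h4]; exact hEc.le)
    intro e he
    have : e ∈ ({1, e₀, e₁, e₁ * e₀} : Set G) := heq ▸ he
    simpa using this
  have hconj : ∀ g, g * e₁ * g⁻¹ = e₁ ∨ g * e₁ * g⁻¹ = e₁ * e₀ := by
    intro g
    rcases hEmem _ (hEn.conj_mem _ he1E g) with h | h | h | h
    · exact absurd (conj_eq_one_iff.mp h) he11
    · exfalso
      apply he01
      calc e₁ = g⁻¹ * (g * e₁ * g⁻¹) * g := by group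
        _ = g⁻¹ * (e₀ * g) := by rw [h]; group
        _ = e₀ := by rw [← h0]; group
    · exact Or.inl h
    · exact Or.inr h
  have he0c : ∀ (x : G), orderOf x = 2 ^ (j + 2) → e₀ ∈ zpowers x → e₀ = x ^ 2 ^ (j + 1) :=
    fun x hx h => sq_one_eq hx h (by rw [sq, h00]) he0
  have hrep : ∀ P : Subgroup G → Prop,
      Nat.card {C : Subgroup G // (Nat.card C = 2 ^ (j + 2) ∧ IsCyclic C) ∧ P C} =
      Nat.card {C : Subgroup G // ∃ x, orderOf x = 2 ^ (j + 2) ∧ zpowers x = C ∧ P (zpowers x)} := by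
    intro P
    refine Nat.card_congr (Equiv.subtypeEquivRight fun C => ⟨?_, ?_⟩)
    · rintro ⟨⟨hc, hcy⟩, hP⟩
      obtain ⟨x, hx⟩ := C.isCyclic_iff_exists_zpowers_eq_top.mp hcy
      exact ⟨x, by rw [← Nat.card_zpowers, hx, hc], hx, hx.symm ▸ hP⟩
    · rintro ⟨x, hx, rfl, hP⟩
      exact ⟨⟨by rw [Nat.card_zpowers, hx], isCyclic_zpowers x⟩, hP⟩
  rw [card_split _ (fun C : Subgroup G => e₀ ∈ C),
    card_split (fun C : Subgroup G => (Nat.card C = 2 ^ (j + 2) ∧ IsCyclic C) ∧ e₀ ∈ C)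
      (fun C : Subgroup G => 0 < j ∨ ∀ c ∈ C, e₁ * c = c * e₁)]
  refine Nat.dvd_add (Nat.dvd_add ?_ ?_) ?_
  · -- translation by the noncentral involution
    have := hrep fun C => e₀ ∈ C ∧ (0 < j ∨ ∀ c ∈ C, e₁ * c = c * e₁)
    simp only [and_assoc] at this ⊢
    rw [this]
    refine even_translate j e₁ h11 (fun x => e₀ ∈ zpowers x ∧ (0 < j ∨ ∀ c ∈ zpowers x, e₁ * c = c * e₁)) ?_
    rintro x hx ⟨hx0, hxj⟩
    have hz := he0c x hx hx0
    obtain ⟨w, hw, hwdx, hwQ⟩ : ∃ w, (w = 1 ∨ w = e₀) ∧ e₁ * x = x * w * e₁ ∧ w ^ 2 ^ j = 1 := by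
      by_cases hc : e₁ * x = x * e₁
      · exact ⟨1, Or.inl rfl, by rw [hc, mul_one], one_pow _⟩
      · have hj : 0 < j := hxj.resolve_right fun h => hc (h x (mem_zpowers x))
        refine ⟨e₀, Or.inr rfl, ?_, ?_⟩
        · rcases hconj x⁻¹ with e | e <;> rw [inv_inv] at e
          · refine absurd ?_ hc
            calc e₁ * x = x * (x⁻¹ * e₁ * x) := by group
              _ = x * e₁ := by rw [e]
          · calc e₁ * x = x * (x⁻¹ * e₁ * x) := by group
              _ = x * e₀ * e₁ := by rw [e, h0 e₁, mul_assoc]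
        · obtain ⟨j', rfl⟩ : ∃ j', j = j' + 1 := ⟨j - 1, by omega⟩
          rw [pow_succ', pow_mul, sq, h00, one_pow]
    have hwc : ∀ g, g * w = w * g := fun g => by
      rcases hw with rfl | rfl
      · simp
      · exact h0 g
    have hwx : w ∈ zpowers (x ^ 2 ^ (j + 1)) := by
      rcases hw with rfl | rfl
      · exact one_mem _
      · rw [← hz]; exact mem_zpowers _
    refine ⟨fun h => he01 ?_, ?_, w, hwc, hwdx, hwQ, hwx⟩
    · rw [sq_one_eq hx h (by rw [sq, h11]) he11, hz]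
    · obtain ⟨-, hP, -⟩ := translate hx h11 hwc hwdx hwQ hwx
      refine ⟨by rw [hz, ← hP]; exact pow_mem (mem_zpowers _) _, ?_⟩
      rcases hxj with hj | hc
      · exact Or.inl hj
      · refine Or.inr fun c hc' => ?_
        obtain ⟨i, rfl⟩ := hc'
        exact ((show Commute e₁ x from hc x (mem_zpowers x)).mul_right (Commute.refl e₁)).zpow_right i
  · -- inverted by the noncentral involution
    by_cases hj : 0 < j
    · haveI : IsEmpty {C : Subgroup G // ((Nat.card C = 2 ^ (j + 2) ∧ IsCyclic C) ∧ e₀ ∈ C) ∧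
          ¬ (0 < j ∨ ∀ c ∈ C, e₁ * c = c * e₁)} := ⟨fun C => C.2.2 (Or.inl hj)⟩
      rw [Nat.card_of_isEmpty]; exact dvd_zero _
    obtain rfl : j = 0 := by omega
    refine (even_order_four hG hm hcl h0 h00 he0 h11 he01 hconj).trans (dvd_of_eq ?_)
    refine Nat.card_congr (Equiv.subtypeEquivRight fun C => ⟨?_, ?_⟩)
    · rintro ⟨x, hx2, hxe, rfl⟩
      have ho : orderOf x = 2 ^ (1 + 1) := orderOf_eq_prime_pow (by rw [pow_one, hx2]; exact he0)
        (by rw [pow_succ, pow_one, pow_mul, hx2, sq, h00])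
      refine ⟨⟨⟨by rw [Nat.card_zpowers, ho], isCyclic_zpowers x⟩, hx2 ▸ pow_mem (mem_zpowers x) 2⟩, ?_⟩
      rintro (h | h)
      · exact lt_irrefl 0 h
      · exact hxe (h x (mem_zpowers x))
    · rintro ⟨⟨⟨hc, hcy⟩, he⟩, hn⟩
      obtain ⟨x, rfl⟩ := C.isCyclic_iff_exists_zpowers_eq_top.mp hcy
      refine ⟨x, ?_, fun h => hn (Or.inr ?_), rfl⟩
      · rw [he0c x (by rw [← Nat.card_zpowers, hc]) he, zero_add, pow_one]
      · rintro c ⟨i, rfl⟩
        exact (show Commute e₁ x from h).zpow_right i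
  · -- translation by the central involution
    rw [hrep fun C => e₀ ∉ C]
    refine even_translate j e₀ h00 (fun x => e₀ ∉ zpowers x) ?_
    intro x hx hx0
    obtain ⟨ho, hP, -⟩ := translate (w := (1 : G)) hx h00 (fun g => by simp) (by rw [mul_one, h0]) (one_pow _) (one_mem _)
    refine ⟨hx0, fun h => hx0 ?_, 1, fun g => by simp, by rw [mul_one, h0], one_pow _, one_mem _⟩
    rw [sq_one_eq ho h (by rw [sq, h00]) he0, hP]
    exact pow_mem (mem_zpowers x) _

end two
/-- An element whose centraliser has order four forces maximal class. -/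
theorem maxClass_of_centralizer_four {G : Type*} [Group G] [Finite G] {m : ℕ}
    (hm : Nat.card G = 2 ^ m) (b : G) (hb : Nat.card {g : G // g * b = b * g} = 4) :
    Group.nilpotencyClass G = m - 1 := by
  haveI := Fact.mk Nat.prime_two
  set A := centralizer ({b} : Set G) with hA
  have hAc : Nat.card A = 2 ^ 2 := by
    rw [show (2 : ℕ) ^ 2 = 4 by norm_num, ← hb]
    exact Nat.card_congr (Equiv.subtypeEquivRight fun g => mem_centralizer_singleton_iff)
  refine Cfsg.Agent.Lib.PLemmas.nilpotencyClass_of_self_centralizing hm A hAc (le_antisymm ?_ ?_)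
  · refine centralizer_le ?_
    rintro _ rfl
    exact mem_centralizer_singleton_iff.mpr rfl
  · haveI := IsPGroup.isMulCommutative_of_card_eq_prime_sq (p := 2) hAc
    intro g hg
    exact mem_centralizer_iff.mpr fun a ha =>
      congrArg Subtype.val (IsMulCommutative.is_comm.comm (⟨a, ha⟩ : A) ⟨g, hg⟩)

theorem card_two_torsion (k : ℕ) (hk : 0 < k) : Nat.card {i : ZMod (2 * k) // i + i = 0} = 2 := by
  haveI : NeZero (2 * k) := ⟨by omega⟩
  have : {i : ZMod (2 * k) | i + i = 0} = {0, (k : ZMod (2 * k))} := by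
    ext i
    simp only [Set.mem_setOf_eq, Set.mem_insert_iff, Set.mem_singleton_iff]
    constructor
    · intro h
      have hd : 2 * k ∣ 2 * i.val := by
        rw [← ZMod.natCast_eq_zero_iff, Nat.cast_mul, ZMod.natCast_zmod_val, Nat.cast_ofNat, two_mul i, h]
      obtain ⟨c, hc⟩ := Nat.dvd_of_mul_dvd_mul_left two_pos hd
      have hlt := i.val_lt
      have hc2 : c < 2 := by
        by_contra hc2
        have : k * 2 ≤ k * c := Nat.mul_le_mul_left _ (by omega)
        omega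
      interval_cases c
      · exact Or.inl ((ZMod.val_eq_zero i).mp (by omega))
      · exact Or.inr (by rw [← ZMod.natCast_zmod_val i, hc, mul_one])
    · rintro (rfl | rfl)
      · simp
      · rw [← Nat.cast_add, ← two_mul, ZMod.natCast_self]
  change ({i : ZMod (2 * k) | i + i = 0} : Set (ZMod (2 * k))).ncard = 2
  rw [this, Set.ncard_pair]
  intro h
  rw [eq_comm, ZMod.natCast_eq_zero_iff] at h
  have := Nat.le_of_dvd hk h
  omega

theorem dihedral_centralizer (m : ℕ) :
    Nat.card {g : DihedralGroup m // g * .sr 0 = .sr 0 * g} = Nat.card {i : ZMod m // i + i = 0} +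
      Nat.card {i : ZMod m // i + i = 0} ∨ m = 0 := by
  by_cases hm : m = 0
  · exact Or.inr hm
  haveI : NeZero m := ⟨hm⟩
  left
  rw [← Nat.card_sum]
  refine Nat.card_congr
    { toFun := fun g => match g with
        | ⟨.r i, h⟩ => Sum.inl ⟨i, by simpa [neg_eq_iff_add_eq_zero] using h⟩
        | ⟨.sr i, h⟩ => Sum.inr ⟨i, by simpa [neg_eq_iff_add_eq_zero] using h⟩
      invFun := Sum.elim (fun i => ⟨.r i.1, by simp [neg_eq_iff_add_eq_zero, i.2]⟩)
        (fun i => ⟨.sr i.1, by simp [neg_eq_iff_add_eq_zero, i.2]⟩)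
      left_inv := fun g => match g with
        | ⟨.r i, h⟩ => rfl
        | ⟨.sr i, h⟩ => rfl
      right_inv := fun g => match g with
        | .inl i => rfl
        | .inr i => rfl }

theorem quaternion_centralizer (n : ℕ) (hn : 0 < n) :
    Nat.card {g : QuaternionGroup n // g * .xa 0 = .xa 0 * g} = 4 := by
  haveI : NeZero n := ⟨hn.ne'⟩
  haveI : NeZero (2 * n) := ⟨by omega⟩
  rw [show 4 = Nat.card {i : ZMod (2 * n) // i + i = 0} + Nat.card {i : ZMod (2 * n) // i + i = 0} by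
    rw [card_two_torsion n hn], ← Nat.card_sum]
  refine Nat.card_congr
    { toFun := fun g => match g with
        | ⟨.a i, h⟩ => Sum.inl ⟨i, by simpa [neg_eq_iff_add_eq_zero] using h⟩
        | ⟨.xa i, h⟩ => Sum.inr ⟨i, by simpa [sub_eq_add_neg, neg_eq_iff_add_eq_zero] using h⟩
      invFun := Sum.elim (fun i => ⟨.a i.1, by simp [neg_eq_iff_add_eq_zero, i.2]⟩)
        (fun i => ⟨.xa i.1, by simp [sub_eq_add_neg, neg_eq_iff_add_eq_zero, i.2]⟩)
      left_inv := fun g => match g with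
        | ⟨.a i, h⟩ => rfl
        | ⟨.xa i, h⟩ => rfl
      right_inv := fun g => match g with
        | .inl i => rfl
        | .inr i => rfl }

theorem semidihedral_centralizer {G : Type*} [Group G] [Finite G] (hG : Cfsg.IsQuasiDihedral G) :
    ∃ b : G, Nat.card {g : G // g * b = b * g} = 4 := by
  obtain ⟨n, hn, hcard, x, y, hx, hy, hyx⟩ := hG
  obtain ⟨l, rfl⟩ : ∃ l, n = l + 3 := ⟨n - 3, by omega⟩
  refine ⟨y, ?_⟩
  have hidx : (zpowers x).index = 2 := by
    have h := (zpowers x).card_mul_index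
    rw [Nat.card_zpowers, hx, hcard, pow_succ (2 : ℕ) (l + 3)] at h
    exact Nat.eq_of_mul_eq_mul_left (by positivity) h
  set z := x ^ 2 ^ (l + 2) with hz
  have hy2 : y * y = 1 := by rw [← sq, ← hy, pow_orderOf_eq_one]
  -- elements of `⟨x⟩` commuting with `y`
  have hin : ∀ g ∈ zpowers x, g * y = y * g → g = 1 ∨ g = z := by
    intro g hg hgy
    obtain ⟨i, rfl⟩ := mem_powers_iff_mem_zpowers.mpr hg
    have h : x ^ ((2 ^ (l + 2) - 1) * i) = x ^ i := by
      rw [pow_mul, show l + 2 = l + 3 - 1 from rfl, ← hyx, conj_pow]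
      exact mul_inv_eq_iff_eq_mul.mpr hgy.symm
    rw [pow_eq_pow_iff_modEq, hx] at h
    have h2 : (2 ^ (l + 3) : ℤ) ∣ ((2 ^ (l + 2) - 2 : ℤ)) * i := by
      have := (Nat.modEq_iff_dvd.mp h.symm)
      push_cast [Nat.cast_sub (Nat.one_le_two_pow : 1 ≤ 2 ^ (l + 2))] at this
      convert this using 1
      ring
    have h3 : (2 ^ (l + 2) : ℤ) ∣ i := by
      refine IsCoprime.dvd_of_dvd_mul_left (y := (2 ^ (l + 1) - 1 : ℤ)) ?_ ?_
      · exact IsCoprime.pow_left ⟨2 ^ l, -1, by ring⟩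
      · obtain ⟨c, hc⟩ := h2
        exact ⟨c, mul_left_cancel₀ (two_ne_zero (α := ℤ)) (by linear_combination hc)⟩
    obtain ⟨c, rfl⟩ : 2 ^ (l + 2) ∣ i := by exact_mod_cast h3
    rcases Nat.even_or_odd' c with ⟨c', rfl | rfl⟩ <;> dsimp only
    · left
      rw [show 2 ^ (l + 2) * (2 * c') = 2 ^ (l + 3) * c' by ring, ← hx, pow_mul, pow_orderOf_eq_one, one_pow]
    · right
      rw [mul_add, mul_one, pow_add, show 2 ^ (l + 2) * (2 * c') = 2 ^ (l + 3) * c' by ring, ← hx,
        pow_mul, pow_orderOf_eq_one, one_pow, one_mul]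
  have hzy : z * y = y * z := by
    have h : y * z * y⁻¹ = z := by
      rw [hz, ← conj_pow, hyx, ← pow_mul, pow_eq_pow_iff_modEq, hx, show l + 3 - 1 = l + 2 from rfl]
      refine (Nat.modEq_iff_dvd' ?_).mpr ?_ |>.symm
      · exact Nat.le_mul_of_pos_left _ (by
          have : 2 ^ 2 ≤ 2 ^ (l + 2) := Nat.pow_le_pow_right two_pos (by omega)
          omega)
      · refine ⟨2 ^ (l + 1) - 1, ?_⟩
        rw [← Nat.sub_one_mul, show 2 ^ (l + 2) - 1 - 1 = 2 * (2 ^ (l + 1) - 1) by
          rw [Nat.mul_sub, ← pow_succ', show l + 1 + 1 = l + 2 from rfl]; omega]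
        ring
    exact (mul_inv_eq_iff_eq_mul.mp h).symm
  have hyx' : y ∉ zpowers x := by
    intro h
    obtain ⟨i, hi⟩ := h
    have : y * x * y⁻¹ = x := by
      rw [← hi]; exact mul_inv_eq_iff_eq_mul.mpr ((Commute.refl x).zpow_left i).eq
    rw [hyx] at this
    have h := (pow_eq_pow_iff_modEq (x := x) (n := 2 ^ (l + 2) - 1) (m := 1)).mp (by rw [pow_one]; exact this)
    rw [hx] at h
    have hlt : 2 ^ (l + 2) - 1 < 2 ^ (l + 3) := by
      exact lt_of_le_of_lt (Nat.sub_le _ _) (Nat.pow_lt_pow_right one_lt_two (Nat.lt_succ_self _))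
    have : 2 ^ 2 ≤ 2 ^ (l + 2) := Nat.pow_le_pow_right two_pos (by omega)
    have := h.eq_of_lt_of_lt hlt (Nat.one_lt_two_pow (by omega))
    omega
  have hset : {g : G | g * y = y * g} = {1, z, y, z * y} := by
    ext g
    simp only [Set.mem_setOf_eq, Set.mem_insert_iff, Set.mem_singleton_iff]
    constructor
    · intro hg
      by_cases hgx : g ∈ zpowers x
      · rcases hin g hgx hg with rfl | rfl <;> simp
      · have hgyx : g * y ∈ zpowers x := (mul_mem_iff_of_index_two hidx).mpr (iff_of_false hgx hyx')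
        rcases hin _ hgyx (by rw [hg, mul_assoc, hg]) with e | e
        · right; right; left
          rw [eq_inv_of_mul_eq_one_left e, inv_eq_of_mul_eq_one_right hy2]
        · right; right; right
          rw [← e, mul_assoc, hy2, mul_one]
    · rintro (rfl | rfl | rfl | rfl)
      · simp
      · exact hzy
      · rfl
      · rw [mul_assoc, ← mul_assoc y, ← hzy, mul_assoc]
  have hz1 : z ≠ 1 := fun h => by
    rw [hz, ← orderOf_dvd_iff_pow_eq_one, hx, Nat.pow_dvd_pow_iff_le_right one_lt_two] at h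
    omega
  have hzx : z ∈ zpowers x := pow_mem (mem_zpowers x) _
  have hy1 : y ≠ 1 := fun h => hyx' (h ▸ one_mem _)
  change ({g : G | g * y = y * g} : Set G).ncard = 4
  rw [hset, Set.ncard_insert_of_notMem (by
      simp only [Set.mem_insert_iff, Set.mem_singleton_iff, not_or]
      exact ⟨hz1.symm, hy1.symm, fun h => hyx' ((mul_mem_cancel_left hzx).mp (h ▸ one_mem _))⟩) (Set.toFinite _),
    Set.ncard_insert_of_notMem (by
      simp only [Set.mem_insert_iff, Set.mem_singleton_iff, not_or]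
      exact ⟨fun h => hyx' (h ▸ hzx), fun h => hy1 (mul_eq_left.mp h.symm)⟩) (Set.toFinite _),
    Set.ncard_pair (fun h => hz1 (mul_eq_right.mp h.symm))]

theorem exists_normal_four_of_not_maxClass {G : Type*} [Group G] [Finite G] {m : ℕ}
    (hm : Nat.card G = 2 ^ m) (hnc : ¬ IsCyclic G) (hcl : Group.nilpotencyClass G ≠ m - 1) :
    ∃ E : Subgroup G, E.Normal ∧ (∀ e ∈ E, e * e = 1) ∧ Nat.card E = 4 := by
  haveI := Fact.mk Nat.prime_two
  have key : ∀ {H : Type} [Group H] (e : G ≃* H) (b : H),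
      Nat.card {g : H // g * b = b * g} ≠ 4 := by
    intro H _ e b hb
    refine hcl (maxClass_of_centralizer_four hm (e.symm b) ?_)
    rw [← hb]
    refine Nat.card_congr (e.toEquiv.subtypeEquiv fun g => ?_)
    show g * e.symm b = e.symm b * g ↔ e g * b = b * e g
    conv_rhs => rw [← e.apply_symm_apply b, ← map_mul, ← map_mul, e.injective.eq_iff]
  rcases Cfsg.Agent.Lib.Elem69.exists_normal_klein_or (IsPGroup.of_card hm) with
    ⟨E, hEn, hEe, hEc⟩ | h | ⟨k, ⟨e⟩⟩ | ⟨k, ⟨e⟩⟩ | h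
  · exact ⟨E, hEn, fun x hx => by rw [← sq]; exact hEe.2 x hx, hEc⟩
  · exact absurd h hnc
  · haveI : Finite (QuaternionGroup k) := Finite.of_equiv G e.toEquiv
    have hk : 0 < k := Nat.pos_of_ne_zero fun h0 => by
      subst h0
      haveI : Finite ℤ := Finite.of_injective
        (fun i : ℤ => (QuaternionGroup.a (n := 0) i : QuaternionGroup 0))
        (fun a b h => by cases h; rfl)
      exact not_finite ℤ
    exact absurd (quaternion_centralizer k hk) (key e _)
  · haveI : Finite (DihedralGroup k) := Finite.of_equiv G e.toEquiv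
    have hk : k ≠ 0 := fun h0 => by
      subst h0
      haveI : Finite ℤ := Finite.of_injective
        (fun i : ℤ => (DihedralGroup.r (n := 0) i : DihedralGroup 0))
        (fun a b h => by cases h; rfl)
      exact not_finite ℤ
    have hcard : 2 * k = 2 ^ m := by
      rw [← hm, Nat.card_congr e.toEquiv, DihedralGroup.nat_card]
    rcases Nat.even_or_odd' k with ⟨c, rfl | rfl⟩
    · refine absurd ?_ (key e (.sr 0))
      rw [(dihedral_centralizer _).resolve_right hk, card_two_torsion c (by omega)]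
    · have hdvd : 2 * c + 1 ∣ 2 ^ m := ⟨2, by rw [← hcard]; ring⟩
      obtain ⟨i, -, hi⟩ := (Nat.dvd_prime_pow Nat.prime_two).mp hdvd
      have hi0 : i = 0 := by
        by_contra h0
        obtain ⟨i', rfl⟩ := Nat.exists_eq_succ_of_ne_zero h0
        rw [pow_succ] at hi
        omega
      subst hi0
      refine absurd (isCyclic_of_prime_card (p := 2) ?_) hnc
      rw [hm, ← hcard, hi, pow_zero, mul_one]
  · obtain ⟨b, hb⟩ := semidihedral_centralizer h
    exact absurd (maxClass_of_centralizer_four hm b hb) hcl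


/-- Let G be a finite p-group of order p^m that is not cyclic and, when p = 2, not of maximal class (nilpotency class m − 1). Then for every 1 ≤ k < m the number of subgroups of G of order p^k is congruent to 1 + p modulo p². -/
theorem result {G : Type*} [Group G] [Finite G] {p : ℕ} [Fact p.Prime] (m : ℕ)
    (hG : Nat.card G = p ^ m) (hnc : ¬ IsCyclic G) (h2 : p = 2 → Group.nilpotencyClass G ≠ m - 1)
    (k : ℕ) (hk1 : 1 ≤ k) (hk2 : k < m) :
    Nat.card {H : Subgroup G // Nat.card H = p ^ k} ≡ 1 + p [MOD p ^ 2] := by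
  classical
  have hp : p.Prime := Fact.out
  obtain ⟨j, rfl⟩ : ∃ j, k = j + 1 := ⟨k - 1, by omega⟩
  rcases Nat.lt_or_ge (j + 2) m with hjm | hjm
  swap
  · obtain rfl : m = j + 1 + 1 := by omega
    have h := Cfsg.Agent.Lib.OrderCount.card_maximal_modEq (j + 1) hG
    rwa [if_neg hnc] at h
  have hd : p ^ (j + 1 + 1) ∣ Nat.card G := hG ▸ pow_dvd_pow p (by omega)
  have h := Cfsg.Agent.Lib.OrderCount.card_subgroups_modEq_sq (j + 1) hd
  refine h.trans (Nat.ModEq.add_left 1 ?_)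
  have hc : Nat.card {C : Subgroup G // Nat.card C = p ^ (j + 2) ∧ IsCyclic C} ≡ 0 [MOD p] := by
    by_cases hp2 : p = 2
    · subst hp2
      obtain ⟨E, hEn, hE2, hEc⟩ := exists_normal_four_of_not_maxClass hG hnc (h2 rfl)
      exact Nat.modEq_zero_iff_dvd.mpr
        (card_cyclic_even (IsPGroup.of_card hG) hG (h2 rfl) E hEn hE2 hEc j)
    · obtain ⟨z, e, hz, he, hze, hez⟩ :=
        Cfsg.Agent.Lib.Elem69.exists_two_order_p hp2 (IsPGroup.of_card hG) hnc
      exact Cfsg.Agent.Lib.OrderCount.card_cyclic_modEq_zero hp2 j z e hz he hze hez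
  have hn1 := Cfsg.Agent.Lib.OrderCount.card_subgroups_modEq_one p (j + 2) hp hd
  rw [card_split (fun C : Subgroup G => Nat.card C = p ^ (j + 2)) (fun C => IsCyclic C)] at hn1
  have hnc1 := (Nat.ModEq.add_right _ hc).symm.trans hn1
  rw [zero_add] at hnc1
  have := hnc1.mul_left' p
  rw [mul_one, ← pow_two] at this
  exact this

end Cfsg.Agent.S4157
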