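import Cfsg.Statements.S4160
import Mathlib
import Cfsg.Agent.Lib.ClassSize.Counting

set_option autoImplicit false
open Cfsg

namespace Cfsg.Agent.S4160

/-- Let G be a finite group and p ≠ q primes each dividing the size of some conjugacy class of G, such that no conjugacy class size is divisible by pq. Then G has a normal p-complement or a normal q-complement. -/
theorem result {G : Type*} [Group G] [Finite G] (p q : ℕ) (hp : p.Prime) (hq : q.Prime) (hpq : p ≠ q)
    (hp' : ∃ x : G, p ∣ (Subgroup.centralizer ({x} : Set G)).index) (hq' : ∃ x : G, q ∣ (Subgroup.centralizer ({x} : Set G)).index) (h : ∀ x : G, ¬ p * q ∣ (Subgroup.centralizer ({x} : Set G)).index) :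
    Cfsg.HasNormalPComplement p G ∨ Cfsg.HasNormalPComplement q G := by
  haveI : Fact p.Prime := ⟨hp⟩
  haveI : Fact q.Prime := ⟨hq⟩
  by_contra hcon
  push Not at hcon
  have hP : 2 * Nat.card {x : G // ¬ p ∣ (Subgroup.centralizer ({x} : Set G)).index} ≤ Nat.card G :=
    Classical.byContradiction fun h' => hcon.1 (Lib.ClassSize.hasNormalPComplement_of_not_two_le h')
  have hQ : 2 * Nat.card {x : G // ¬ q ∣ (Subgroup.centralizer ({x} : Set G)).index} ≤ Nat.card G :=
    Classical.byContradiction fun h' => hcon.2 (Lib.ClassSize.hasNormalPComplement_of_not_two_le h')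
  have h1 := Lib.ClassSize.card_dvd_add_card_not_dvd (G := G) p
  have h3 : Nat.card {x : G // p ∣ (Subgroup.centralizer ({x} : Set G)).index} <
      Nat.card {x : G // ¬ q ∣ (Subgroup.centralizer ({x} : Set G)).index} := by
    classical
    haveI : Fintype G := Fintype.ofFinite G
    rw [Nat.card_eq_fintype_card, Nat.card_eq_fintype_card]
    refine Fintype.card_lt_of_injective_of_notMem
      (fun x => ⟨x.1, fun hd => h x.1 ((Nat.coprime_primes hp hq).2 hpq |>.mul_dvd_of_dvd_of_dvd x.2 hd)⟩)
      (fun a b hab => Subtype.ext (congrArg (fun t => t.1) hab)) (b := ⟨1, ?_⟩) ?_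
    · intro hd
      have : Subgroup.centralizer ({(1:G)} : Set G) = ⊤ := by
        ext x; simp [Subgroup.mem_centralizer_singleton_iff]
      rw [this, Subgroup.index_top] at hd
      exact hq.not_dvd_one hd
    · rintro ⟨⟨x, hx⟩, hxeq⟩
      have hx1 : x = 1 := congrArg Subtype.val hxeq
      subst hx1
      have : Subgroup.centralizer ({(1:G)} : Set G) = ⊤ := by
        ext x; simp [Subgroup.mem_centralizer_singleton_iff]
      rw [this, Subgroup.index_top] at hx
      exact hp.not_dvd_one hx
  omega

end Cfsg.Agent.S4160
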