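import Cfsg.Statements.S4163
import Cfsg.Agent.Lib.MinClass41.Basic
-- import your own Cfsg.Agent.* helpers here

set_option autoImplicit false
open Cfsg

namespace Cfsg.Agent.S4163

/-- Let G be a finite group with a normal abelian subgroup A satisfying C_G(A) = A. Suppose some conjugacy class of G has size greater than 1, let m be the smallest such size, and let M be the subgroup generated by the elements whose class has size 1 or m. Then M is nilpotent of class at most 3. -/
theorem result {G : Type*} [Group G] [Finite G]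
    (A : Subgroup G) [A.Normal] (hA : IsMulCommutative A) (hCA : Subgroup.centralizer (A : Set G) = A)
    (m : ℕ) (hm1 : 1 < m) (hm : ∃ x : G, (Subgroup.centralizer ({x} : Set G)).index = m) (hmin : ∀ x : G, 1 < (Subgroup.centralizer ({x} : Set G)).index → m ≤ (Subgroup.centralizer ({x} : Set G)).index) :
    Subgroup.upperCentralSeries ↥(Subgroup.closure {x : G | (Subgroup.centralizer ({x} : Set G)).index = 1 ∨ (Subgroup.centralizer ({x} : Set G)).index = m}) 3 = ⊤ := by
  classical
  refine MinClass41.class_le_three A _ hCA (fun x hx => ?_)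
  induction hx using Subgroup.closure_induction with
  | mem x hx =>
    intro a ha
    refine MinClass41.comm_mem_center A (fun a ha b hb => ?_) x (fun y hy => ?_) a ha
    · exact congrArg Subtype.val (hA.is_comm.comm ⟨a, ha⟩ ⟨b, hb⟩)
    · rcases hx with h | h
      · rw [h]; omega
      · rw [h]; exact hmin y hy
  | one => intro a _; simp
  | mul x y _ _ hx hy =>
    intro a ha
    rw [show a * (x * y) * a⁻¹ * (x * y)⁻¹
      = (a * x * a⁻¹ * x⁻¹) * (x * (a * y * a⁻¹ * y⁻¹) * x⁻¹) by group]
    exact mul_mem (hx a ha) (Subgroup.Normal.conj_mem inferInstance _ (hy a ha) x)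
  | inv x _ hx =>
    intro a ha
    rw [show a * x⁻¹ * a⁻¹ * x⁻¹⁻¹ = x⁻¹ * (a * x * a⁻¹ * x⁻¹)⁻¹ * (x⁻¹)⁻¹ by group]
    exact Subgroup.Normal.conj_mem inferInstance _ (inv_mem (hx a ha)) _

end Cfsg.Agent.S4163
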