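import Cfsg.Statements.S4169
import Cfsg.Agent.Lib.MinClass41.Basic
import Cfsg.Agent.Lib.SCN3.Basic
-- import your own Cfsg.Agent.* helpers here

set_option autoImplicit false
open Cfsg

namespace Cfsg.Agent.S4169

/-- Let P be a finite p-group whose conjugacy classes have exactly two sizes (1 and one other value). Then P has nilpotency class at most 3. -/
theorem result {P : Type*} [Group P] [Finite P] {p : ℕ} [Fact p.Prime] (hP : IsPGroup p P)
    (m : ℕ) (hm : 1 < m) (h : ∀ x : P, (Subgroup.centralizer ({x} : Set P)).index = 1 ∨ (Subgroup.centralizer ({x} : Set P)).index = m) :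
    upperCentralSeries P 3 = ⊤ := by
  classical
  haveI : Fact p.Prime := inferInstance
  obtain ⟨A, -, hAn, hCA⟩ := Lib.SCN3.exists_scn_above hP (⊥ : Subgroup P) inferInstance
  haveI := hAn
  have hAc : ∀ a ∈ A, ∀ b ∈ A, a * b = b * a := fun a ha b hb => by
    rw [← hCA] at hb
    exact Subgroup.mem_centralizer_iff.1 hb a ha
  have key := MinClass41.class_le_three A ⊤ hCA (fun x _ a ha =>
    MinClass41.comm_mem_center A hAc x (fun y hy => by
      rcases h y with h1 | h1
      · omega
      · rcases h x with h2 | h2
        · omega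
        · omega) a ha)
  have h3 := Subgroup.comap_upperCentralSeries (Subgroup.topEquiv : (⊤ : Subgroup P) ≃* P) 3
  rw [key] at h3
  change Subgroup.comap (Subgroup.topEquiv : (⊤ : Subgroup P) ≃* P).toMonoidHom _ = _ at h3
  have h4 := congrArg (Subgroup.map (Subgroup.topEquiv : (⊤ : Subgroup P) ≃* P).toMonoidHom) h3
  rw [Subgroup.map_comap_eq_self_of_surjective (MulEquiv.surjective _),
    Subgroup.map_top_of_surjective _ (MulEquiv.surjective _)] at h4
  exact h4

end Cfsg.Agent.S4169
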