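import Cfsg.Statements.S4170
import Cfsg.Agent.Lib.SylowFix.Deficit
-- import your own Cfsg.Agent.* helpers here

set_option autoImplicit false
open scoped Pointwise
open Cfsg

namespace Cfsg.Agent.S4170

open Cfsg.Agent.Lib.SylowFix

/-- A `p`-subgroup stabilising a set of fewer than `p` points fixes it pointwise. -/
lemma fixed_of_small {G Ω : Type*} [Group G] [Finite G] [MulAction G Ω] [Finite Ω] {p : ℕ} [Fact p.Prime]
    {P : Subgroup G} (hP : IsPGroup p ↥P) {D : Set Ω} (hD : ∀ g ∈ P, ∀ v ∈ D, g • v ∈ D)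
    (hcard : Nat.card D < p) : ∀ v ∈ D, ∀ g ∈ P, g • v = v := by
  intro v hv g hg
  haveI : Fintype (MulAction.orbit ↥P v) := Fintype.ofFinite _
  obtain ⟨k, hk⟩ := hP.card_orbit v
  have hsub : MulAction.orbit ↥P v ⊆ D := by
    rintro _ ⟨h, rfl⟩
    exact hD h h.2 v hv
  have hle : Nat.card (MulAction.orbit ↥P v) ≤ Nat.card D :=
    Nat.card_mono (Set.toFinite _) hsub
  rcases Nat.eq_zero_or_pos k with rfl | hk0
  · rw [pow_zero, Nat.card_eq_one_iff_unique] at hk
    have := hk.1.elim ⟨g • v, ⟨⟨g, hg⟩, rfl⟩⟩ ⟨v, MulAction.mem_orbit_self v⟩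
    exact congrArg Subtype.val this
  · exfalso
    have : p ≤ p ^ k := Nat.le_self_pow hk0.ne' p
    omega

/-- Let p be an odd prime and G a nontrivial group of permutations of a finite set Ω that is generated by its elements of p-power order. Then Ω has two disjoint nonempty subsets Δ₁ and Δ₂ such that the index in G of the subgroup of elements mapping Δ₁ onto Δ₁ and Δ₂ onto Δ₂ (and hence also the complement of their union onto itself) is divisible by p. -/
theorem result {Ω : Type*} [Fintype Ω] (p : ℕ) [Fact p.Prime] (hp : p ≠ 2) (G : Subgroup (Equiv.Perm Ω)) (hG : G ≠ ⊥) (hgen : Subgroup.closure {g : G | ∃ k : ℕ, orderOf g = p ^ k} = ⊤) :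
    ∃ Δ₁ Δ₂ : Set Ω, Δ₁.Nonempty ∧ Δ₂.Nonempty ∧ Disjoint Δ₁ Δ₂ ∧ p ∣ (MulAction.stabilizer G Δ₁ ⊓ MulAction.stabilizer G Δ₂).index := by
  classical
  have hpp : p.Prime := Fact.out
  -- an element of order `p`
  obtain ⟨y, ⟨k, hk⟩, hy1⟩ : ∃ y : G, (∃ k : ℕ, orderOf y = p ^ k) ∧ y ≠ 1 := by
    by_contra hcon
    push Not at hcon
    have h1 : (⊤ : Subgroup G) = ⊥ := by
      rw [← hgen, eq_bot_iff, Subgroup.closure_le]
      rintro y ⟨k, hk⟩
      exact hcon y ⟨k, hk⟩
    apply hG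
    rw [eq_bot_iff]
    intro g hg
    have : (⟨g, hg⟩ : G) ∈ (⊥ : Subgroup G) := h1 ▸ Subgroup.mem_top _
    rw [Subgroup.mem_bot] at this
    exact congrArg Subtype.val this
  have hk0 : 0 < k := by
    rcases Nat.eq_zero_or_pos k with rfl | h
    · rw [pow_zero, orderOf_eq_one_iff] at hk
      exact absurd hk hy1
    · exact h
  obtain ⟨x, hx⟩ : ∃ x : G, orderOf x = p := by
    refine exists_prime_orderOf_dvd_card' p ?_
    exact (dvd_pow_self p hk0.ne').trans (hk ▸ orderOf_dvd_natCard y)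
  have hxp : x ^ p = 1 := hx ▸ pow_orderOf_eq_one x
  obtain ⟨c, hc⟩ : ∃ c : Ω, x • c ≠ c := by
    by_contra hcon
    push Not at hcon
    have : x = 1 := Subtype.ext (Equiv.ext hcon)
    rw [this, orderOf_one] at hx
    exact hpp.one_lt.ne hx
  let f : ℕ → Ω := fun j => x ^ j • c
  have hinj : ∀ j < p, f j = c → j = 0 := by
    intro j hj hjc
    by_contra hj0
    have hmem : x ^ j ∈ MulAction.stabilizer G c := hjc
    have hcop : j.Coprime (orderOf x) := by
      rw [hx]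
      exact (Nat.coprime_of_lt_prime hj0 hj hpp).symm
    obtain ⟨m, hm⟩ := exists_pow_eq_self_of_coprime hcop
    exact hc (show x ∈ MulAction.stabilizer G c from hm ▸ pow_mem hmem m)
  let Δ : Set Ω := f '' Set.Ico 1 p
  refine ⟨{c}, Δ, ⟨c, rfl⟩, ⟨f 1, 1, ⟨le_rfl, hpp.one_lt⟩, rfl⟩, ?_, ?_⟩
  · rw [Set.disjoint_singleton_left]
    rintro ⟨j, ⟨hj1, hjp⟩, hj⟩
    have := hinj j hjp hj
    omega
  by_contra hndvd
  obtain ⟨Q⟩ : Nonempty (Sylow p ↥(MulAction.stabilizer G ({c} : Set Ω) ⊓ MulAction.stabilizer G Δ)) :=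
    inferInstance
  set M := MulAction.stabilizer G ({c} : Set Ω) ⊓ MulAction.stabilizer G Δ with hM
  let R : Subgroup G := (Q : Subgroup ↥M).map M.subtype
  have hR : IsPGroup p ↥R := Q.isPGroup'.map _
  have hidx : ¬ p ∣ R.index := by
    rw [Subgroup.index_map_subtype]
    exact fun h => (hpp.dvd_mul.mp h).elim Q.not_dvd_index hndvd
  let P : Sylow p G := hR.toSylow hidx
  have hPM : ∀ g ∈ (P : Subgroup G), g ∈ M := by
    intro g hg
    have hg' : g ∈ R := hg
    obtain ⟨q, _, rfl⟩ := Subgroup.mem_map.mp hg'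
    exact q.2
  have hinv : ∀ D : Set Ω, (∀ g ∈ M, g ∈ MulAction.stabilizer G D) →
      ∀ g ∈ (P : Subgroup G), ∀ v ∈ D, g • v ∈ D := by
    intro D hD g hg v hv
    have hgD : g • D = D := hD g (hPM g hg)
    rw [← hgD]
    exact Set.smul_mem_smul_set hv
  refine not_common (x := x) (fun v => by rw [hxp, one_smul]) hc P fun j hj g hg => ?_
  rcases Nat.eq_zero_or_pos j with rfl | hj0
  · rw [pow_zero, one_smul]
    refine fixed_of_small P.isPGroup' (hinv {c} fun g hg => (Subgroup.mem_inf.mp hg).1) ?_ c rfl g hg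
    simp [hpp.one_lt]
  · refine fixed_of_small P.isPGroup' (hinv Δ fun g hg => (Subgroup.mem_inf.mp hg).2) ?_ _
      ⟨j, ⟨hj0, hj⟩, rfl⟩ g hg
    calc Nat.card Δ ≤ Nat.card (Set.Ico 1 p) := Nat.card_image_le (Set.finite_Ico 1 p)
      _ < p := by simp; have := hpp.pos; omega

end Cfsg.Agent.S4170
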