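import Cfsg.Statements.S4172
import Cfsg.Agent.Lib.Components.Orbit
import Cfsg.Agent.Lib.Components.GenFitting
import Cfsg.Agent.Lib.Components.PComponent
import Cfsg.Agent.Lib.Transfer.Criteria
import Cfsg.Agent.Lib.PSolvable.Core
import Cfsg.Agent.Lib.LocalChar.Frattini
import Cfsg.Agent.Lib.PGroup.Frattini
import Cfsg.Agent.Lib.FrobeniusFree.Main
import Cfsg.Agent.Lib.OddLocal.ComplIn
import Cfsg.Agent.Lib.SylowAux58.Basic

set_option autoImplicit false
open Cfsg

namespace Cfsg.Agent.S4172

open Subgroup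
open Cfsg.Agent.Lib
open scoped commutatorElement

section
variable {G : Type*} [Group G] {p : ℕ}

local notation "Φ[" P "]" => Subgroup.map (Subgroup.subtype P) (frattini ↥P)

theorem frattini_map_le_self (P : Subgroup G) : Φ[P] ≤ P := map_subtype_le _

variable [Finite G] [hp : Fact p.Prime]

theorem NilpotentCenter.nontrivial_center (N : Type*) [Group N] [Group.IsNilpotent N] [Nontrivial N] :
    Nontrivial ↥(Subgroup.center N) :=
  (Subgroup.nontrivial_iff_ne_bot _).mpr (Lib.FrobeniusFree.center_ne_bot_of_nilpotent inferInstance)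

theorem commutator_le_frattini_map (P : Sylow p G) :
    ⁅(P : Subgroup G), (P : Subgroup G)⁆ ≤ Φ[(P : Subgroup G)] := by
  rw [← Subgroup.map_subtype_commutator]
  exact map_mono (Transfer.commutator_le_frattini_of_isPGroup P.2)

/-- A normal subgroup with a Sylow subgroup inside the Frattini subgroup of `P` is a `p`-group. -/
theorem isPGroup_of_inf_le_frattini (P : Sylow p G) (hcore : Cfsg.pPrimeCore p G = ⊥)
    (M : Subgroup G) (hM : ∀ g ∈ (P : Subgroup G), ∀ x ∈ M, g * x * g⁻¹ ∈ M)
    (hsub : M.IsSubnormal) (h : (P : Subgroup G) ⊓ M ≤ Φ[(P : Subgroup G)]) :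
    IsPGroup p M := by
  set X : Subgroup G := (P : Subgroup G) ⊔ M with hX
  have hXn : X ≤ Subgroup.normalizer (M : Set G) := by
    refine sup_le (fun g hg => mem_normalizer_iff.mpr fun x => ⟨hM g hg x, fun hx => ?_⟩)
      le_normalizer
    have := hM g⁻¹ (inv_mem hg) _ hx
    simpa [mul_assoc] using this
  let P' : Sylow p X := P.subtype (le_sup_left)
  haveI : (M.subgroupOf X).Normal := normal_subgroupOf_of_le_normalizer hXn
  have hq : IsPGroup p (↥X ⧸ M.subgroupOf X) := by
    have hs : Function.Surjective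
        ((QuotientGroup.mk' (M.subgroupOf X)).comp (Subgroup.inclusion (le_sup_left : (P : Subgroup G) ≤ X))) := by
      intro y
      obtain ⟨⟨x, hx⟩, rfl⟩ := QuotientGroup.mk_surjective y
      have hx' : x ∈ ((P : Subgroup G) ⊔ M : Subgroup G) := hx
      rw [← SetLike.mem_coe,
        coe_mul_of_left_le_normalizer_right _ _ (le_sup_left.trans hXn)] at hx'
      obtain ⟨a, ha, m, hm, rfl⟩ := hx'
      refine ⟨⟨a, ha⟩, ?_⟩
      refine QuotientGroup.eq.mpr ?_
      rw [mem_subgroupOf]
      simpa using hm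
    exact P.2.of_surjective _ hs
  have hR : Cfsg.pResidual p X ≤ M.subgroupOf X :=
    Transfer.pResidual_le_of_isPGroup_quotient _ hq
  have hcomp : Cfsg.HasNormalPComplement p X := by
    refine Transfer.hasNormalPComplement_of_le_frattini P' ?_
    intro x hx
    obtain ⟨hx1, hx2⟩ := hx
    obtain ⟨y, hy, hyx⟩ := h ⟨hx2, hR hx1⟩
    let e : ↥(P : Subgroup G) ≃* ↥(P' : Subgroup X) :=
      (Subgroup.subgroupOfEquivOfLe (le_sup_left : (P : Subgroup G) ≤ X)).symm
    have he : e y ∈ frattini ↥(P' : Subgroup X) :=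
      frattini_le_comap_frattini_of_surjective (φ := e.toMonoidHom) e.surjective hy
    refine ⟨e y, he, ?_⟩
    exact Subtype.ext hyx
  have hbot : Cfsg.pResidual p X ⊓ (P' : Subgroup X) = ⊥ :=
    (Transfer.hasNormalPComplement_iff_inf_eq_bot P').mp hcomp
  have hMX : M ≤ X := le_sup_right
  set R : Subgroup G := (Cfsg.pResidual p X).map X.subtype with hRdef
  have hRM : R ≤ M := by
    rintro _ ⟨x, hx, rfl⟩
    exact hR hx
  have hRsub : R.IsSubnormal := by
    refine Components.subnormal_of_subgroupOf_normal hRM hsub ?_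
    refine normal_subgroupOf_of_le_normalizer ?_
    refine hMX.trans fun g hg => mem_normalizer_iff.mpr fun x => ⟨?_, ?_⟩
    · rintro ⟨y, hy, rfl⟩
      exact ⟨_, (inferInstance : (Cfsg.pResidual p X).Normal).conj_mem y hy ⟨g, hg⟩, rfl⟩
    · rintro ⟨y, hy, hyx⟩
      refine ⟨_, (inferInstance : (Cfsg.pResidual p X).Normal).conj_mem y hy ⟨g, hg⟩⁻¹, ?_⟩
      simp only [Subgroup.coe_subtype] at hyx ⊢
      simp [hyx, mul_assoc]
  have hRco : (Nat.card R).Coprime p := by
    rw [hRdef, card_map_of_injective X.subtype_injective]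
    refine (hp.out.coprime_iff_not_dvd.mpr fun hdvd => ?_).symm
    obtain ⟨x, hx⟩ := exists_prime_orderOf_dvd_card' p hdvd
    have hz : IsPGroup p (Subgroup.zpowers (x : X)) :=
      IsPGroup.iff_card.mpr ⟨1, by rw [Nat.card_zpowers, Subgroup.orderOf_coe, hx, pow_one]⟩
    obtain ⟨T, hT⟩ := hz.exists_le_sylow
    obtain ⟨g, hg⟩ := MulAction.exists_smul_eq X T P'
    have hm : g * (x : X) * g⁻¹ ∈ (P' : Subgroup X) := by
      rw [← hg, Sylow.coe_subgroup_smul]
      exact Subgroup.smul_mem_pointwise_smul _ _ _ (hT (mem_zpowers _))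
    have h1 : g * (x : X) * g⁻¹ = 1 := by
      have hbb : g * (x : X) * g⁻¹ ∈ Cfsg.pResidual p X ⊓ (P' : Subgroup X) :=
        ⟨(inferInstance : (Cfsg.pResidual p X).Normal).conj_mem _ x.2 g, hm⟩
      rwa [hbot, Subgroup.mem_bot] at hbb
    have h2 : x = 1 := Subtype.ext (conj_eq_one_iff.mp h1)
    rw [h2, orderOf_one] at hx
    exact hp.out.one_lt.ne hx
  have hR1 : R = ⊥ := le_bot_iff.mp (hcore ▸ Components.subnormal_coprime_le_pPrimeCore hRsub hRco)
  rw [hRdef, Subgroup.map_eq_bot_iff_of_injective _ X.subtype_injective] at hR1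
  have hXp : IsPGroup p X := by
    have := Transfer.isPGroup_quotient_pResidual (G := X) (p := p)
    intro x
    obtain ⟨k, hk⟩ := this (QuotientGroup.mk x)
    refine ⟨k, ?_⟩
    rw [← QuotientGroup.mk_pow, QuotientGroup.eq_one_iff, hR1, Subgroup.mem_bot] at hk
    exact hk
  exact hXp.to_le hMX

/-- Every nontrivial normal subgroup meets `P` outside the Frattini subgroup. -/
theorem not_le_frattini (P : Sylow p G) (hcore : Cfsg.pPrimeCore p G = ⊥)
    (hfrat : (Φ[(P : Subgroup G)]).normalCore = ⊥) (M : Subgroup G) [hM : M.Normal] (hne : M ≠ ⊥) :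
    ¬ (P : Subgroup G) ⊓ M ≤ Φ[(P : Subgroup G)] := by
  intro h
  have hMp := isPGroup_of_inf_le_frattini P hcore M (fun g _ x hx => hM.conj_mem x hx g)
    hM.isSubnormal h
  have hMP : M ≤ (P : Subgroup G) := (PSolvable.le_pCore hMp).trans (PSolvable.pCore_le_sylow P)
  exact hne (le_bot_iff.mp (hfrat ▸ Subgroup.normal_le_normalCore.mpr ((le_inf hMP le_rfl).trans h)))

/-- The key consequence of two generation. -/
theorem exists_sup_zpowers (P : Sylow p G) (hgen : (frattini ↥(P : Subgroup G)).index = p ^ 2)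
    (A : Subgroup G) (hAP : A ≤ (P : Subgroup G)) (hA : ¬ A ≤ Φ[(P : Subgroup G)]) :
    ∃ c ∈ (P : Subgroup G), A ⊔ zpowers c = (P : Subgroup G) := by
  set Q : Subgroup G := (P : Subgroup G) with hQ
  let A' : Subgroup ↥Q := A.subgroupOf Q
  let B : Subgroup ↥Q := A' ⊔ frattini ↥Q
  have hlt : frattini ↥Q < B := by
    refine lt_of_le_of_ne le_sup_right fun he => hA ?_
    have : A' ≤ frattini ↥Q := he ▸ le_sup_left
    intro a ha
    exact ⟨⟨a, hAP ha⟩, this (show (⟨a, hAP ha⟩ : ↥Q) ∈ A' from ha), rfl⟩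
  have key : ∃ c : ↥Q, B ⊔ zpowers c = ⊤ := by
    by_cases hB : B = ⊤
    · exact ⟨1, by rw [hB, top_sup_eq]⟩
    obtain ⟨c, -, hc⟩ := SetLike.exists_of_lt (lt_top_iff_ne_top.mpr hB)
    refine ⟨c, ?_⟩
    have h1 := relIndex_mul_index hlt.le
    have hrel : (frattini ↥Q).relIndex B ≠ 1 := fun e => hlt.not_ge (relIndex_eq_one.mp e)
    obtain ⟨j, hj2, hj⟩ := (Nat.dvd_prime_pow hp.out).mp (Dvd.intro_left _ (h1.trans hgen) : B.index ∣ p ^ 2)
    have hj1 : j ≤ 1 := by
      by_contra hcon
      have hj' : j = 2 := by omega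
      rw [hgen, hj, hj'] at h1
      exact hrel ((Nat.mul_eq_right (pow_ne_zero 2 hp.out.ne_zero)).mp h1)
    have hle : B ≤ B ⊔ zpowers c := le_sup_left
    have h2 := relIndex_mul_index hle
    have hne : B.relIndex (B ⊔ zpowers c) ≠ 1 := fun e =>
      hc (relIndex_eq_one.mp e (mem_sup_right (mem_zpowers c)))
    interval_cases j
    · exact absurd (index_eq_one.mp (by simpa using hj)) hB
    · rw [pow_one] at hj
      rcases (Nat.dvd_prime hp.out).mp (Dvd.intro_left _ (h2.trans hj) : (B ⊔ zpowers c).index ∣ p) with e | e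
      · exact index_eq_one.mp e
      · rw [e, hj] at h2
        exact absurd ((Nat.mul_eq_right hp.out.ne_zero).mp h2) hne
  obtain ⟨c, hc⟩ := key
  have htop : A' ⊔ zpowers c = ⊤ := by
    refine frattini_nongenerating (top_le_iff.mp ?_)
    rw [← hc]
    exact sup_le (sup_le (le_sup_left.trans le_sup_left) le_sup_right) (le_sup_right.trans le_sup_left)
  refine ⟨c, c.2, ?_⟩
  have hm := congrArg (Subgroup.map Q.subtype) htop
  rw [Subgroup.map_sup, Subgroup.map_subgroupOf_eq_of_le hAP, MonoidHom.map_zpowers,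
    ← MonoidHom.range_eq_map, Subgroup.range_subtype] at hm
  exact hm

/-- The derived subgroup of `P` lies in every normal subgroup of `P` outside the Frattini subgroup. -/
theorem commutator_le_of_not_le_frattini (P : Sylow p G)
    (hgen : (frattini ↥(P : Subgroup G)).index = p ^ 2)
    (A : Subgroup G) (hAP : A ≤ (P : Subgroup G))
    (hAn : (P : Subgroup G) ≤ Subgroup.normalizer (A : Set G))
    (hA : ¬ A ≤ Φ[(P : Subgroup G)]) : ⁅(P : Subgroup G), (P : Subgroup G)⁆ ≤ A := by
  obtain ⟨c, hc, hP⟩ := exists_sup_zpowers P hgen A hAP hA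
  have hcn : zpowers c ≤ Subgroup.normalizer (A : Set G) := zpowers_le.mpr (hAn hc)
  rw [Subgroup.commutator_le]
  intro x hx y hy
  have hmul : ∀ z ∈ (P : Subgroup G), ∃ a ∈ A, ∃ n : ℤ, z = c ^ n * a := by
    intro z hz
    rw [← hP, sup_comm] at hz
    rw [← SetLike.mem_coe, coe_mul_of_left_le_normalizer_right _ _ hcn] at hz
    obtain ⟨_, ⟨n, rfl⟩, a, ha, rfl⟩ := hz
    exact ⟨a, ha, n, rfl⟩
  obtain ⟨a, ha, m, rfl⟩ := hmul x hx
  obtain ⟨b, hb, n, rfl⟩ := hmul y hy
  have hnorm : ∀ (k : ℤ) (u : G), u ∈ A → c ^ k * u * (c ^ k)⁻¹ ∈ A := fun k u hu =>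
    (mem_normalizer_iff.mp (zpow_mem (hAn hc) k) u).mp hu
  have e : ⁅c ^ m * a, c ^ n * b⁆ =
      (c ^ m * a * (c ^ m)⁻¹) * (c ^ m * (c ^ n * b * (c ^ n)⁻¹) * (c ^ m)⁻¹) *
        (c ^ n * (c ^ m * a⁻¹ * (c ^ m)⁻¹) * (c ^ n)⁻¹) * (c ^ n * b⁻¹ * (c ^ n)⁻¹) := by
    rw [commutatorElement_def]
    group
  rw [e]
  refine mul_mem (mul_mem (mul_mem (hnorm m a ha) (hnorm m _ (hnorm n b hb))) ?_) (hnorm n _ (inv_mem hb))
  exact hnorm n _ (hnorm m _ (inv_mem ha))

/-- Two such subgroups meeting trivially force `P` to be abelian. -/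
theorem isMulCommutative_of_inf_eq_bot (P : Sylow p G)
    (hgen : (frattini ↥(P : Subgroup G)).index = p ^ 2) (M N : Subgroup G)
    (hMn : (P : Subgroup G) ≤ Subgroup.normalizer (M : Set G))
    (hNn : (P : Subgroup G) ≤ Subgroup.normalizer (N : Set G))
    (hM : ¬ (P : Subgroup G) ⊓ M ≤ Φ[(P : Subgroup G)])
    (hN : ¬ (P : Subgroup G) ⊓ N ≤ Φ[(P : Subgroup G)]) (hdis : M ⊓ N = ⊥) :
    IsMulCommutative ↥(P : Subgroup G) := by
  rw [← Subgroup.commutator_self_eq_bot_iff, eq_bot_iff, ← hdis]
  refine le_inf ?_ ?_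
  · exact (commutator_le_of_not_le_frattini P hgen _ inf_le_left
      ((le_inf Subgroup.le_normalizer hMn).trans Subgroup.inf_normalizer_le_normalizer_inf) hM).trans inf_le_right
  · exact (commutator_le_of_not_le_frattini P hgen _ inf_le_left
      ((le_inf Subgroup.le_normalizer hNn).trans Subgroup.inf_normalizer_le_normalizer_inf) hN).trans inf_le_right

/-- In a perfect group a central element of a Sylow subgroup lies in its derived subgroup. -/
theorem center_inf_sylow_le_commutator {E : Type*} [Group E] [Finite E] (hE : commutator E = ⊤)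
    (T : Sylow p E) {z : E} (hz : z ∈ Subgroup.center E) (hzT : z ∈ (T : Subgroup E)) :
    z ∈ ⁅(T : Subgroup E), (T : Subgroup E)⁆ := by
  let φ : ↥(T : Subgroup E) →* Abelianization ↥(T : Subgroup E) := Abelianization.of
  have key : ∀ (k : ℕ) (g₀ : E), g₀⁻¹ * z ^ k * g₀ ∈ (T : Subgroup E) → g₀⁻¹ * z ^ k * g₀ = z ^ k := by
    intro k g₀ _
    rw [mul_assoc, ← mem_center_iff.mp (pow_mem hz k) g₀, inv_mul_cancel_left]
  have ht : MonoidHom.transfer φ z = 1 := by
    have hker : commutator E ≤ (MonoidHom.transfer φ).ker := Abelianization.commutator_subset_ker _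
    exact MonoidHom.mem_ker.mp (hker (hE ▸ mem_top z))
  rw [MonoidHom.transfer_eq_pow φ z key] at ht
  set w : ↥(T : Subgroup E) := ⟨z ^ (T : Subgroup E).index, pow_mem hzT _⟩
  have hw : w ∈ commutator ↥(T : Subgroup E) := by
    rw [← Abelianization.ker_of]
    exact ht
  have hw' : (⟨z, hzT⟩ : ↥(T : Subgroup E)) ^ (T : Subgroup E).index ∈ commutator ↥(T : Subgroup E) := hw
  obtain ⟨k, hk⟩ := T.2 ⟨z, hzT⟩
  have hco : ((T : Subgroup E).index).Coprime (orderOf (⟨z, hzT⟩ : ↥(T : Subgroup E))) :=
    ((hp.out.coprime_iff_not_dvd.mpr T.not_dvd_index).pow_left k).symm.coprime_dvd_right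
      (orderOf_dvd_of_pow_eq_one hk)
  obtain ⟨m, hm⟩ := exists_pow_eq_self_of_coprime hco
  have := pow_mem hw' m
  rw [hm] at this
  rw [← Subgroup.map_subtype_commutator]
  exact ⟨_, this, rfl⟩

/-- A minimal normal `p`-subgroup `M` lying in every nontrivial normal subgroup is the whole of
`O_p(G)`, under the hypotheses of the statement. -/
theorem pCore_eq_of_abelian (P : Sylow p G) (hna : ¬ IsMulCommutative (P : Subgroup G))
    (hgen : (frattini ↥(P : Subgroup G)).index = p ^ 2) (hcore : Cfsg.pPrimeCore p G = ⊥)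
    (hfrat : (Φ[(P : Subgroup G)]).normalCore = ⊥) (M : Subgroup G) [hM : M.Normal]
    (hMF : M ≤ pCore p G) (hmin : ∀ K : Subgroup G, K.Normal → K ≠ ⊥ → M ≤ K) (hM1 : M ≠ ⊥)
    (hC : Subgroup.centralizer (pCore p G : Set G) ≤ pCore p G) :
    pCore p G = M := by
  set F := pCore p G with hF
  haveI hFn : F.Normal := @Subgroup.normal_of_characteristic _ _ _ PSolvable.pCore_characteristic
  have hFp : IsPGroup p F := PSolvable.pCore_isPGroup
  have hFP : F ≤ (P : Subgroup G) := PSolvable.pCore_le_sylow P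
  have hsmall : ∀ N : Subgroup G, N.Normal → N ≤ Φ[(P : Subgroup G)] → N = ⊥ := fun N hN h =>
    le_bot_iff.mp (hfrat ▸ Subgroup.normal_le_normalCore.mpr h)
  have hFc : ⁅F, F⁆ = ⊥ := hsmall _ inferInstance
    ((commutator_mono hFP hFP).trans (commutator_le_frattini_map P))
  haveI hFcomm : IsMulCommutative F := Subgroup.commutator_self_eq_bot_iff.mp hFc
  have hpow : ∀ x ∈ F, x ^ p = 1 := by
    let W : Subgroup G := Subgroup.closure {y | ∃ x ∈ F, y = x ^ p}
    have hW : W.Normal := by
      constructor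
      intro n hn g
      induction hn using Subgroup.closure_induction with
      | mem y hy =>
        obtain ⟨x, hx, rfl⟩ := hy
        exact subset_closure ⟨g * x * g⁻¹, hFn.conj_mem x hx g, by rw [conj_pow]⟩
      | one => simp
      | mul a b _ _ ha hb => simpa [mul_assoc] using mul_mem ha hb
      | inv a _ ha => simpa [mul_assoc] using inv_mem ha
    have hWb : W = ⊥ := by
      refine hsmall W hW ((closure_le _).mpr ?_)
      rintro _ ⟨x, hx, rfl⟩
      exact ⟨(⟨x, hFP hx⟩ : ↥(P : Subgroup G)) ^ p, Lib.PFrattini.pow_mem_frattini P.2 _, rfl⟩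
    intro x hx
    have : x ^ p ∈ W := subset_closure ⟨x, hx, rfl⟩
    rwa [hWb, Subgroup.mem_bot] at this
  have hMP : M ≤ (P : Subgroup G) := hMF.trans hFP
  have hMnf : ¬ M ≤ Φ[(P : Subgroup G)] := fun h =>
    not_le_frattini P hcore hfrat M hM1 (inf_le_right.trans h)
  obtain ⟨c, hcP, hc⟩ := exists_sup_zpowers P hgen M hMP hMnf
  by_contra hne
  have hlt : M < F := lt_of_le_of_ne hMF (Ne.symm hne)
  obtain ⟨x, hxF, hxM⟩ := SetLike.exists_of_lt hlt
  -- pass to the quotient by `M`
  let π : G →* G ⧸ M := QuotientGroup.mk' M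
  have hπs : Function.Surjective π := QuotientGroup.mk'_surjective M
  let Pb : Sylow p (G ⧸ M) := P.mapSurjective hπs
  have hPbc : (Pb : Subgroup (G ⧸ M)) = zpowers (π c) := by
    show (P : Subgroup G).map π = _
    rw [← hc, Subgroup.map_sup, MonoidHom.map_zpowers, QuotientGroup.map_mk'_self, bot_sup_eq]
  let X : Subgroup (G ⧸ M) := F.map π
  haveI hXn : X.Normal := hFn.map π hπs
  have hXP : X ≤ (Pb : Subgroup (G ⧸ M)) := map_mono hFP
  have hXc : IsCyclic X := by
    have : IsCyclic (Pb : Subgroup (G ⧸ M)) := by rw [hPbc]; infer_instance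
    exact isCyclic_of_injective (Subgroup.inclusion hXP) (Subgroup.inclusion_injective hXP)
  have hx1 : π x ≠ 1 := fun h => hxM ((QuotientGroup.eq_one_iff x).mp h)
  have hxp : orderOf (π x) = p := by
    refine ((Nat.dvd_prime hp.out).mp (orderOf_dvd_of_pow_eq_one ?_)).resolve_left
      (fun h => hx1 (orderOf_eq_one_iff.mp h))
    rw [← map_pow, hpow x hxF, map_one]
  let C : Subgroup (G ⧸ M) := Subgroup.centralizer (X : Set (G ⧸ M))
  have hPC : (Pb : Subgroup (G ⧸ M)) ≤ C := by
    rw [hPbc, zpowers_le, mem_centralizer_iff]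
    intro y hy
    have hy' := hXP hy
    rw [hPbc] at hy'
    obtain ⟨n, rfl⟩ := hy'
    exact ((Commute.refl (π c)).zpow_left n).eq
  let T : Sylow p C := Pb.subtype hPC
  haveI : IsMulCommutative (T : Subgroup C) := by
    have hcyc : IsCyclic (Pb : Subgroup (G ⧸ M)) := by rw [hPbc]; infer_instance
    have : IsCyclic (T : Subgroup C) :=
      isCyclic_of_injective (Subgroup.subgroupOfEquivOfLe hPC).toMonoidHom
        (Subgroup.subgroupOfEquivOfLe hPC).injective
    exact IsCyclic.isMulCommutative
  open scoped IsMulCommutative in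
  let v : C →* (T : Subgroup C) := MonoidHom.transfer (MonoidHom.id ↥(T : Subgroup C))
  have hxC : π x ∈ C := hPC (hXP ⟨x, hxF, rfl⟩)
  have hxT : (⟨π x, hxC⟩ : C) ∈ (T : Subgroup C) := hXP ⟨x, hxF, rfl⟩
  have key : ∀ (k : ℕ) (g₀ : C), g₀⁻¹ * (⟨π x, hxC⟩ : C) ^ k * g₀ ∈ (T : Subgroup C) →
      g₀⁻¹ * (⟨π x, hxC⟩ : C) ^ k * g₀ = (⟨π x, hxC⟩ : C) ^ k := by
    intro k g₀ _
    have hcm : (⟨π x, hxC⟩ : C) * g₀ = g₀ * ⟨π x, hxC⟩ :=
      Subtype.ext (mem_centralizer_iff.mp g₀.2 (π x) ⟨x, hxF, rfl⟩)
    rw [mul_assoc, (Commute.pow_left hcm k).eq, inv_mul_cancel_left]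
  have hvx : v ⟨π x, hxC⟩ ≠ 1 := by
    intro h1
    have h2 : (((⟨π x, hxC⟩ : C) ^ (T : Subgroup C).index : C) : G ⧸ M) = 1 := by
      have := MonoidHom.transfer_eq_pow (MonoidHom.id ↥(T : Subgroup C)) (⟨π x, hxC⟩ : C) key
      rw [show v ⟨π x, hxC⟩ = MonoidHom.transfer (MonoidHom.id _) (⟨π x, hxC⟩ : C) from rfl, this] at h1
      have h3 := congrArg (fun z : ↥(T : Subgroup C) => ((z : C) : G ⧸ M)) h1
      simpa using h3
    rw [Subgroup.coe_pow] at h2
    have h3 := orderOf_dvd_of_pow_eq_one h2
    rw [hxp] at h3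
    exact T.not_dvd_index h3
  have hker : (Nat.card v.ker).Coprime p := by
    refine (hp.out.coprime_iff_not_dvd.mpr fun hdvd => ?_).symm
    obtain ⟨y, hy⟩ := exists_prime_orderOf_dvd_card' p hdvd
    have hz : IsPGroup p (Subgroup.zpowers (y : C)) :=
      IsPGroup.iff_card.mpr ⟨1, by rw [Nat.card_zpowers, Subgroup.orderOf_coe, hy, pow_one]⟩
    obtain ⟨T', hT'⟩ := hz.exists_le_sylow
    obtain ⟨g, hg⟩ := MulAction.exists_smul_eq C T' T
    have hm : g * (y : C) * g⁻¹ ∈ (T : Subgroup C) := by
      have h := Subgroup.smul_mem_pointwise_smul _ (MulAut.conj g) _ (hT' (mem_zpowers (y : C)))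
      rw [← Sylow.coe_subgroup_smul, hg] at h
      exact h
    have hm2 : g * (y : C) * g⁻¹ ∈ v.ker := (inferInstance : v.ker.Normal).conj_mem _ y.2 g
    have hcyc : IsCyclic (Pb : Subgroup (G ⧸ M)) := by rw [hPbc]; infer_instance
    -- the unique subgroup of order `p`
    set u : G ⧸ M := ((g * (y : C) * g⁻¹ : C) : G ⧸ M) with hu
    have huP : u ∈ (Pb : Subgroup (G ⧸ M)) := hm
    have hux : orderOf u = p := by
      rw [hu, Subgroup.orderOf_coe]
      have := (MulAut.conj g).orderOf_eq (y : C)
      rw [MulAut.conj_apply] at this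
      rw [this, Subgroup.orderOf_coe, hy]
    have hxP : π x ∈ (Pb : Subgroup (G ⧸ M)) := hXP ⟨x, hxF, rfl⟩
    have heq : zpowers (⟨u, huP⟩ : ↥(Pb : Subgroup (G ⧸ M))) = zpowers ⟨π x, hxP⟩ :=
      Lib.OddLocal.subgroup_eq_of_card_eq_of_isCyclic (by
        rw [Nat.card_zpowers, Nat.card_zpowers, Subgroup.orderOf_mk, Subgroup.orderOf_mk, hux, hxp])
    have hxm : (⟨π x, hxP⟩ : ↥(Pb : Subgroup (G ⧸ M))) ∈ zpowers (⟨u, huP⟩ : ↥(Pb : Subgroup (G ⧸ M))) :=
      heq ▸ mem_zpowers _
    obtain ⟨n, hn⟩ := hxm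
    refine hvx (MonoidHom.mem_ker.mp ?_)
    have hn' : (g * (y : C) * g⁻¹) ^ n = (⟨π x, hxC⟩ : C) := by
      apply Subtype.ext
      have := congrArg Subtype.val hn
      simp only [Subgroup.coe_zpow] at this ⊢
      exact this
    rw [← hn']
    exact zpow_mem hm2 n
  let K : Subgroup (G ⧸ M) := v.ker.map C.subtype
  have hKn : K ≤ pPrimeCore p (G ⧸ M) := by
    refine Components.subnormal_coprime_le_pPrimeCore ?_ ?_
    · haveI : C.Normal := by dsimp [C]; infer_instance
      exact (inferInstance : v.ker.Normal).isSubnormal.trans' (inferInstance : C.Normal).isSubnormal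
    · rw [Subgroup.card_map_of_injective C.subtype_injective]; exact hker
  let Rb : Subgroup (G ⧸ M) := pPrimeCore p (G ⧸ M)
  haveI hRbn : Rb.Normal := @Subgroup.normal_of_characteristic _ _ _ PSolvable.pPrimeCore_characteristic
  have hRb : Rb ≠ ⊥ := by
    intro hb
    -- then `C` is a `p`-group and `P` is normal
    have hkb : v.ker = ⊥ := by
      have := le_bot_iff.mp (hb ▸ hKn : K ≤ ⊥)
      rwa [Subgroup.map_eq_bot_iff_of_injective _ C.subtype_injective] at this
    have hCp : IsPGroup p C :=
      T.2.of_injective v ((MonoidHom.ker_eq_bot_iff v).mp hkb)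
    haveI : C.Normal := by dsimp [C]; infer_instance
    have hCP : C ≤ (Pb : Subgroup (G ⧸ M)) :=
      (PSolvable.le_pCore hCp).trans (PSolvable.pCore_le_sylow Pb)
    have hPn : ((Pb : Subgroup (G ⧸ M)).comap π).Normal := by
      rw [← le_antisymm hCP hPC]; infer_instance
    have hPeq : (Pb : Subgroup (G ⧸ M)).comap π = (P : Subgroup G) := by
      show ((P : Subgroup G).map π).comap π = _
      rw [comap_map_eq, QuotientGroup.ker_mk']
      exact sup_eq_left.mpr hMP
    rw [hPeq] at hPn
    have hPF : (P : Subgroup G) ≤ F := PSolvable.le_pCore P.2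
    apply hna
    rw [le_antisymm hPF hFP]
    exact hFcomm
  let R : Subgroup G := Rb.comap π
  haveI hRn : R.Normal := hRbn.comap π
  -- `R` centralizes `F` modulo `M`
  have hRx : ∀ r ∈ R, r * x * r⁻¹ * x⁻¹ ∈ M := by
    intro r hr
    have hXR : ⁅X, Rb⁆ = ⊥ := by
      refine le_bot_iff.mp ((commutator_le_inf X Rb).trans ?_)
      exact (PSolvable.inf_eq_bot_of_isPGroup_of_coprime (Pb.2.to_le hXP)
        (PSolvable.pPrimeCore_coprime (G := G ⧸ M))).le
    have hXR' : Rb ≤ Subgroup.centralizer (X : Set (G ⧸ M)) :=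
      Subgroup.commutator_eq_bot_iff_le_centralizer.mp (Subgroup.commutator_comm X Rb ▸ hXR)
    have hcm := mem_centralizer_iff.mp (hXR' (hr : π r ∈ Rb)) (π x) ⟨x, hxF, rfl⟩
    rw [← QuotientGroup.eq_one_iff]
    show π (r * x * r⁻¹ * x⁻¹) = 1
    rw [map_mul, map_mul, map_mul, map_inv, map_inv, ← hcm]
    group
  -- average
  haveI : (M.subgroupOf R).Normal := inferInstance
  let Qt := ↥R ⧸ M.subgroupOf R
  haveI : Fintype Qt := Fintype.ofFinite _
  have hcc : ∀ a ∈ F, ∀ b ∈ F, a * b = b * a := fun a ha b hb =>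
    congrArg Subtype.val (IsMulCommutative.is_comm.comm (⟨a, ha⟩ : F) ⟨b, hb⟩)
  let f : Qt → F := fun q =>
    ⟨((q.out : R) : G) * x * ((q.out : R) : G)⁻¹, hFn.conj_mem x hxF _⟩
  have hf : ∀ r : R, ((f (QuotientGroup.mk r) : F) : G) = (r : G) * x * (r : G)⁻¹ := by
    intro r
    obtain ⟨m, hm⟩ := QuotientGroup.mk_out_eq_mul (M.subgroupOf R) r
    have hmM : ((m : R) : G) ∈ M := m.2
    show ((Quotient.out (QuotientGroup.mk r : Qt) : R) : G) * x * _ = _
    rw [hm, Subgroup.coe_mul]
    calc (r : G) * ((m : R) : G) * x * ((r : G) * ((m : R) : G))⁻¹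
        = (r : G) * (((m : R) : G) * x) * ((m : R) : G)⁻¹ * (r : G)⁻¹ := by group
      _ = _ := by rw [hcc _ (hMF hmM) x hxF]; group
  open scoped IsMulCommutative in
  let y : F := ∏ q : Qt, f q
  have hyM : (y : G) ∉ M := by
    intro hy
    have hq : ∀ q : Qt, π (f q : G) = π x := by
      intro q
      have := hRx ((q.out : R) : G) (q.out : R).2
      rw [← QuotientGroup.eq_one_iff, QuotientGroup.mk_mul, QuotientGroup.mk_inv, mul_inv_eq_one] at this
      exact this
    have h1 : π (y : G) = π x ^ Fintype.card Qt := by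
      open scoped IsMulCommutative in
      have hmap : π (y : G) = ((∏ q : Qt, (π.subgroupMap F) (f q) : X) : G ⧸ M) := by
        rw [← map_prod]; rfl
      rw [hmap]
      open scoped IsMulCommutative in
      rw [Finset.prod_congr rfl (fun q _ => show (π.subgroupMap F) (f q) = ⟨π x, ⟨x, hxF, rfl⟩⟩ from
        Subtype.ext (hq q)), Finset.prod_const, Finset.card_univ]
      rfl
    have hy1 : π (y : G) = 1 := (QuotientGroup.eq_one_iff _).mpr hy
    rw [hy1] at h1
    have hdvd := orderOf_dvd_of_pow_eq_one h1.symm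
    rw [hxp, ← Nat.card_eq_fintype_card] at hdvd
    have hQc : Nat.card Qt = Nat.card Rb := by
      have hfk : (π.subgroupComap Rb).ker = M.subgroupOf R := by
        ext r
        rw [MonoidHom.mem_ker, mem_subgroupOf, ← QuotientGroup.eq_one_iff]
        exact Subtype.ext_iff
      rw [← Nat.card_congr (QuotientGroup.quotientKerEquivOfSurjective (π.subgroupComap Rb)
        (MonoidHom.subgroupComap_surjective_of_surjective _ _ hπs)).toEquiv, hfk]
    rw [hQc] at hdvd
    exact hp.out.coprime_iff_not_dvd.mp (PSolvable.pPrimeCore_coprime (G := G ⧸ M)).symm hdvd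
  have hyR : ∀ r : R, (r : G) * (y : G) * (r : G)⁻¹ = y := by
    intro r
    let cf : F →* F :=
      { toFun := fun z => ⟨(r : G) * z * (r : G)⁻¹, hFn.conj_mem _ z.2 _⟩
        map_one' := by ext; simp
        map_mul' := fun a b => by ext; simp [mul_assoc] }
    have hcf : ∀ q : Qt, cf (f q) = f (QuotientGroup.mk r * q) := by
      intro q
      obtain ⟨s, rfl⟩ := QuotientGroup.mk_surjective q
      ext
      show (r : G) * (f _ : G) * _ = _
      rw [← QuotientGroup.mk_mul, hf, hf, Subgroup.coe_mul]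
      group
    open scoped IsMulCommutative in
    have : cf y = y := by
      show cf (∏ q : Qt, f q) = ∏ q : Qt, f q
      rw [map_prod]
      exact Fintype.prod_equiv (Equiv.mulLeft (QuotientGroup.mk r)) _ _ hcf
    exact congrArg Subtype.val this
  -- the fixed points of `R` in `F`
  let D : Subgroup G := F ⊓ Subgroup.centralizer (R : Set G)
  have hD : (y : G) ∈ D := by
    refine ⟨y.2, mem_centralizer_iff.mpr fun r hr => ?_⟩
    have := hyR ⟨r, hr⟩
    simp only at this
    calc r * (y : G) = r * y * r⁻¹ * r := by group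
      _ = y * r := by rw [this]
  have hMD : M ≤ D := hmin D inferInstance (fun h => hyM (by rw [h, Subgroup.mem_bot] at hD; rw [hD]; exact one_mem M))
  -- `R` centralizes `M` and `x`
  have hRC : R ≤ Subgroup.centralizer (F : Set G) := by
    intro r hr
    rw [mem_centralizer_iff]
    intro a ha
    have hDc : ∀ d ∈ D, r * d = d * r := fun d hd => mem_centralizer_iff.mp hd.2 r hr
    -- `F = ⟨y⟩ M`
    have haX : π a ∈ zpowers (π (y : G)) := by
      have hyX : π (y : G) ∈ X := ⟨y, y.2, rfl⟩
      have haX : π a ∈ X := ⟨a, ha, rfl⟩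
      have hXp : Nat.card X ≤ p := by
        obtain ⟨g, hg⟩ := hXc.exists_generator
        have hcard : Nat.card X = orderOf g := (orderOf_eq_card_of_forall_mem_zpowers hg).symm
        rw [hcard]
        refine Nat.le_of_dvd hp.out.pos (orderOf_dvd_of_pow_eq_one ?_)
        obtain ⟨z, hz, hzg⟩ := g.2
        apply Subtype.ext
        rw [Subgroup.coe_pow, ← hzg, ← map_pow, hpow z hz, map_one]
        rfl
      have hy1 : π (y : G) ≠ 1 := fun h => hyM ((QuotientGroup.eq_one_iff _).mp h)
      have hle : zpowers (π (y : G)) ≤ X := zpowers_le.mpr hyX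
      have : zpowers (π (y : G)) = X := by
        refine Subgroup.eq_of_le_of_card_ge hle (hXp.trans ?_)
        rw [Nat.card_zpowers]
        refine le_of_eq ((Nat.dvd_prime hp.out).mp (orderOf_dvd_of_pow_eq_one ?_) |>.resolve_left
          (fun h => hy1 (orderOf_eq_one_iff.mp h))).symm
        rw [← map_pow, hpow _ y.2, map_one]
      rwa [this]
    obtain ⟨n, hn⟩ := haX
    have hm : ((y : G) ^ n)⁻¹ * a ∈ M := by
      rw [← QuotientGroup.eq_one_iff, QuotientGroup.mk_mul, QuotientGroup.mk_inv, QuotientGroup.mk_zpow]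
      show (π (y : G) ^ n)⁻¹ * π a = 1
      simp only at hn
      rw [hn, inv_mul_cancel]
    have ha' : a ∈ D := by
      have := mul_mem (zpow_mem hD n) (hMD hm)
      simpa using this
    exact (hDc a ha').symm
  have hRF : R ≤ F := hRC.trans hC
  refine hRb ?_
  have hRbp : IsPGroup p Rb := by
    rw [← Subgroup.map_comap_eq_self_of_surjective hπs Rb]
    exact (hFp.to_le hRF).map π
  exact PSolvable.eq_bot_of_isPGroup_of_coprime hRbp (PSolvable.pPrimeCore_coprime (G := G ⧸ M))

end

/-- Let p be a prime and G a finite group with a non-commutative Sylow p-subgroup P whose Frattini subgroup has index p² in P (P is generated by two elements). Suppose G has no nontrivial normal subgroup of order prime to p and the Frattini subgroup of P contains no nontrivial normal subgroup of G. Then the generalized Fitting subgroup F*(G) is the unique minimal normal subgroup of G, the image of P in G/F*(G) is cyclic, and if F*(G) is not commutative then P permutes the components of G transitively by conjugation.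 -/
theorem result {G : Type*} [Group G] [Finite G] (p : ℕ) [Fact p.Prime] (P : Sylow p G) (hna : ¬ IsMulCommutative (P : Subgroup G)) (hgen : (frattini ↥(P : Subgroup G)).index = p ^ 2) (hcore : Cfsg.pPrimeCore p G = ⊥) (hfrat : ((frattini ↥(P : Subgroup G)).map (P : Subgroup G).subtype).normalCore = ⊥) [hFn : (Cfsg.generalizedFittingSubgroup G).Normal] :
    (Cfsg.generalizedFittingSubgroup G ≠ ⊥ ∧ ∀ K : Subgroup G, K.Normal → K ≠ ⊥ → Cfsg.generalizedFittingSubgroup G ≤ K) ∧
      IsCyclic ↥((P : Subgroup G).map (QuotientGroup.mk' (Cfsg.generalizedFittingSubgroup G))) ∧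
      (¬ IsMulCommutative (Cfsg.generalizedFittingSubgroup G) → ∀ K L : Subgroup G, Cfsg.IsComponent K → Cfsg.IsComponent L → ∃ x ∈ (P : Subgroup G), L = K.map (MulAut.conj x).toMonoidHom) := by
  classical
  haveI : Nontrivial G := by
    by_contra hG
    rw [not_nontrivial_iff_subsingleton] at hG
    exact hna ⟨⟨fun a b => Subsingleton.elim _ _⟩⟩
  have hPne : (P : Subgroup G) ≠ ⊥ := fun h => hna (by rw [h]; infer_instance)
  -- the minimal normal subgroup
  obtain ⟨M, ⟨hMn, hM1⟩, hMmin⟩ := Set.Finite.exists_minimal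
    (s := {K : Subgroup G | K.Normal ∧ K ≠ ⊥}) (Set.toFinite _) ⟨⊤, inferInstance, top_ne_bot⟩
  haveI := hMn
  have hnle : ∀ K : Subgroup G, K.Normal → K ≠ ⊥ →
      ¬ (P : Subgroup G) ⊓ K ≤ (frattini ↥(P : Subgroup G)).map (P : Subgroup G).subtype :=
    fun K hK hK1 => @not_le_frattini _ _ _ _ _ P hcore hfrat K hK hK1
  have hnorm : ∀ K : Subgroup G, K.Normal → (P : Subgroup G) ≤ Subgroup.normalizer (K : Set G) := by
    intro K hK
    rw [Subgroup.normalizer_eq_top_iff.mpr hK]
    exact le_top
  have hmin : ∀ K : Subgroup G, K.Normal → K ≠ ⊥ → M ≤ K := by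
    intro K hK hK1
    have h1 : M ⊓ K ≠ ⊥ := fun h => hna (isMulCommutative_of_inf_eq_bot P hgen M K
      (hnorm M hMn) (hnorm K hK) (hnle M hMn hM1) (hnle K hK hK1) h)
    exact (hMmin ⟨inferInstance, h1⟩ inf_le_left).trans inf_le_right
  -- F*(G) = M
  have hFeq : Cfsg.generalizedFittingSubgroup G = M := by
    have hMle : M ≤ Cfsg.generalizedFittingSubgroup G := by
      refine hmin _ hFn ?_
      intro h
      have := Components.centralizer_generalizedFittingSubgroup_le (G := G)
      rw [h, Subgroup.coe_bot] at this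
      have h2 : Subgroup.centralizer ({1} : Set G) = ⊤ := by
        ext z; simp [mem_centralizer_iff]
      exact top_ne_bot (le_bot_iff.mp (h2 ▸ this))
    by_cases hMc : IsMulCommutative M
    · -- the abelian case
      have hMs : Group.IsSolvable M := by
        exact isSolvable_of_comm fun a b => hMc.is_comm.comm a b
      have hMF : M ≤ pCore p G := by
        rw [← Components.fittingSubgroup_le_pCore_of_pPrimeCore_eq_bot hcore]
        refine Components.le_fittingSubgroup hMn ?_
        open scoped IsMulCommutative in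
        exact CommGroup.isNilpotent
      have hlay : Cfsg.layer G = ⊥ := by
        by_contra hE
        have hML : M ≤ Cfsg.layer G := hmin _ Components.layer_normal hE
        have hcent : ⁅Cfsg.layer G, M⁆ = ⊥ := Components.layer_commutator_solvable hMs
          (by rw [Subgroup.normalizer_eq_top_iff.mpr hMn]; exact le_top)
        have hperf : commutator ↥(Cfsg.layer G) = ⊤ := (Components.layer_isPerfect (G := G)).commutator_eq_top
        have hMP : M ≤ (P : Subgroup G) := hMF.trans (PSolvable.pCore_le_sylow P)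
        have hPEp : IsPGroup p ↥(((P : Subgroup G) ⊓ Cfsg.layer G).subgroupOf (Cfsg.layer G)) :=
          (P.2.to_le inf_le_left).comap_subtype
        obtain ⟨T, hT⟩ := hPEp.exists_le_sylow
        have hTP : (T : Subgroup ↥(Cfsg.layer G)).map (Cfsg.layer G).subtype ≤ (P : Subgroup G) := by
          haveI : (Cfsg.layer G).Normal := Components.layer_normal
          have hS : ¬ p ∣ ((P : Subgroup G).subgroupOf (Cfsg.layer G)).index :=
            Lib.SylowAux58.not_dvd_relIndex_normal P (Cfsg.layer G)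
          have hT' : ((P : Subgroup G).subgroupOf (Cfsg.layer G)) ≤ T := by
            rw [← Subgroup.inf_subgroupOf_right]; exact hT
          have heq : ((P : Subgroup G).subgroupOf (Cfsg.layer G)) = (T : Subgroup ↥(Cfsg.layer G)) := by
            refine le_antisymm hT' (Subgroup.relIndex_eq_one.mp ?_)
            obtain ⟨k, hk⟩ := IsPGroup.iff_card.mp T.2
            have hd1 := ((P : Subgroup G).subgroupOf (Cfsg.layer G)).relIndex_dvd_card (T : Subgroup ↥(Cfsg.layer G))
            rw [hk] at hd1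
            have hd2 := Subgroup.relIndex_dvd_index_of_le hT'
            exact Nat.eq_one_of_dvd_coprimes
              (((Nat.Prime.coprime_iff_not_dvd Fact.out).mpr hS).pow_left k) hd1 hd2
          rw [← heq, Subgroup.subgroupOf_map_subtype]
          exact inf_le_left
        refine hnle M hMn hM1 (inf_le_right.trans fun z hz => ?_)
        have hzc : (⟨z, hML hz⟩ : ↥(Cfsg.layer G)) ∈ Subgroup.center ↥(Cfsg.layer G) := by
          rw [Subgroup.mem_center_iff]
          intro w
          apply Subtype.ext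
          exact (mem_centralizer_iff.mp
            (Subgroup.commutator_eq_bot_iff_le_centralizer.mp hcent w.2) z hz).symm
        have := center_inf_sylow_le_commutator hperf T hzc (hT ⟨hMP hz, hML hz⟩)
        refine commutator_le_frattini_map P (commutator_mono hTP hTP ?_)
        rw [← Subgroup.map_commutator]
        exact ⟨_, this, rfl⟩
      have hgf : Cfsg.generalizedFittingSubgroup G = pCore p G := by
        rw [Cfsg.generalizedFittingSubgroup, hlay, bot_sup_eq,
          Components.fittingSubgroup_le_pCore_of_pPrimeCore_eq_bot hcore]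
      rw [hgf]
      refine pCore_eq_of_abelian P hna hgen hcore hfrat M hMF hmin hM1 ?_
      rw [← hgf]
      exact Components.centralizer_generalizedFittingSubgroup_le
    · -- the nonabelian case
      refine le_antisymm (sup_le ((Components.layer_le_iff).mpr fun L hL => ?_) ?_) hMle
      · refine (Components.isComponent_le_or_commutator_eq_bot hL hMn.isSubnormal).resolve_right fun h => ?_
        have hL' : L ≤ Subgroup.centralizer (M : Set G) :=
          Subgroup.commutator_eq_bot_iff_le_centralizer.mp h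
        have hMC : M ≤ Subgroup.centralizer (M : Set G) :=
          hmin _ inferInstance (fun hb => Components.isComponent_ne_bot hL (le_bot_iff.mp (hb ▸ hL')))
        exact hMc (Subgroup.commutator_self_eq_bot_iff.mp
          (Subgroup.commutator_eq_bot_iff_le_centralizer.mpr hMC))
      · by_contra hF
        have hF1 : Cfsg.fittingSubgroup G ≠ ⊥ := fun h => hF (h ▸ bot_le)
        haveI := Components.fittingSubgroup_normal (G := G)
        have hMF := hmin _ inferInstance hF1
        let Z := (Subgroup.center ↥(Cfsg.fittingSubgroup G)).map (Cfsg.fittingSubgroup G).subtype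
        have hZ1 : Z ≠ ⊥ := by
          haveI := Components.fittingSubgroup_isNilpotent (G := G)
          haveI : Nontrivial ↥(Cfsg.fittingSubgroup G) := (Subgroup.nontrivial_iff_ne_bot _).mpr hF1
          intro h
          exact (Subgroup.nontrivial_iff_ne_bot _).mp (NilpotentCenter.nontrivial_center ↥(Cfsg.fittingSubgroup G))
            ((Subgroup.map_eq_bot_iff_of_injective _ (Subgroup.subtype_injective _)).mp h)
        have hMZ := hmin Z inferInstance hZ1
        refine hMc ⟨⟨fun a b => Subtype.ext ?_⟩⟩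
        obtain ⟨a', ha', e⟩ := hMZ a.2
        obtain ⟨b', -, e'⟩ := hMZ b.2
        simp only [Subgroup.coe_subtype] at e e'
        rw [Subgroup.coe_mul, Subgroup.coe_mul, ← e, ← e']
        exact (congrArg Subtype.val (mem_center_iff.mp ha' b')).symm
  refine ⟨⟨hFeq ▸ hM1, fun K hK hK1 => hFeq ▸ hmin K hK hK1⟩, ?_, ?_⟩
  · obtain ⟨c, hcP, hc⟩ := exists_sup_zpowers P hgen ((P : Subgroup G) ⊓ M) inf_le_left (hnle M hMn hM1)
    have : (P : Subgroup G).map (QuotientGroup.mk' (Cfsg.generalizedFittingSubgroup G)) =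
        zpowers (QuotientGroup.mk' (Cfsg.generalizedFittingSubgroup G) c) := by
      rw [← hc, Subgroup.map_sup, MonoidHom.map_zpowers, (Subgroup.map_eq_bot_iff _).mpr, bot_sup_eq]
      rw [QuotientGroup.ker_mk']
      exact hFeq ▸ inf_le_right
    rw [this]
    infer_instance
  · intro hnc K L hK hL
    -- no abelian normal subgroup
    have hF : Cfsg.fittingSubgroup G = ⊥ := by
      by_contra hF1
      haveI := Components.fittingSubgroup_normal (G := G)
      haveI := Components.fittingSubgroup_isNilpotent (G := G)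
      haveI : Nontrivial ↥(Cfsg.fittingSubgroup G) := (Subgroup.nontrivial_iff_ne_bot _).mpr hF1
      have hMZ := hmin ((Subgroup.center ↥(Cfsg.fittingSubgroup G)).map (Cfsg.fittingSubgroup G).subtype)
        inferInstance (fun h => (Subgroup.nontrivial_iff_ne_bot _).mp
          (NilpotentCenter.nontrivial_center ↥(Cfsg.fittingSubgroup G))
          ((Subgroup.map_eq_bot_iff_of_injective _ (Subgroup.subtype_injective _)).mp h))
      refine hnc (hFeq ▸ ⟨⟨fun a b => Subtype.ext ?_⟩⟩)
      obtain ⟨a', ha', e⟩ := hMZ a.2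
      obtain ⟨b', -, e'⟩ := hMZ b.2
      simp only [Subgroup.coe_subtype] at e e'
      rw [Subgroup.coe_mul, Subgroup.coe_mul, ← e, ← e']
      exact (congrArg Subtype.val (mem_center_iff.mp ha' b')).symm
    have horb : ∀ A : Subgroup G, Cfsg.IsComponent A →
        ¬ (P : Subgroup G) ⊓ Components.orbitJoin (P : Subgroup G) A ≤
          (frattini ↥(P : Subgroup G)).map (P : Subgroup G).subtype := by
      intro A hA h
      have hn := Components.le_normalizer_orbitJoin (P : Subgroup G) A
      have hs : (Components.orbitJoin (P : Subgroup G) A).IsSubnormal :=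
        Components.subnormal_sSup _ (by
          rintro _ ⟨a, rfl⟩
          exact (Components.isComponent_conj hA _).1)
      have hp' := isPGroup_of_inf_le_frattini P hcore _
        (fun g hg x hx => (mem_normalizer_iff.mp (hn hg) x).mp hx) hs h
      haveI := (hp'.to_le (Components.le_orbitJoin (P : Subgroup G) A)).isNilpotent
      exact Components.quasisimple_not_isSolvable hA.2 inferInstance
    by_contra hcon
    push Not at hcon
    apply hna
    refine isMulCommutative_of_inf_eq_bot P hgen _ _ (Components.le_normalizer_orbitJoin _ K)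
      (Components.le_normalizer_orbitJoin _ L) (horb K hK) (horb L hL) ?_
    rw [eq_bot_iff]
    intro z hz
    obtain ⟨hzK, hzL⟩ := Subgroup.mem_inf.mp hz
    have hzc : z ∈ Subgroup.centralizer (Cfsg.layer G : Set G) := by
      rw [Subgroup.mem_centralizer_iff]
      intro w hw
      suffices h : Cfsg.layer G ≤ Subgroup.centralizer ({z} : Set G) from
        mem_centralizer_singleton_iff.mp (h hw)
      refine Components.layer_le_iff.mpr fun A hA a ha => mem_centralizer_singleton_iff.mpr ?_
      -- `A` commutes with one of the two joins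
      by_cases hAK : ∃ g ∈ (P : Subgroup G), A = K.map (MulAut.conj g).toMonoidHom
      · have hle : Components.orbitJoin (P : Subgroup G) L ≤ Subgroup.centralizer (A : Set G) := by
          refine iSup_le fun g => ?_
          refine Components.isComponent_le_centralizer (Components.isComponent_conj hL _) hA ?_
          intro he
          obtain ⟨g', hg', hAg⟩ := hAK
          refine hcon ((g : G)⁻¹ * g') (mul_mem (inv_mem g.2) hg') ?_
          rw [← Components.map_conj_map_conj, ← hAg, ← he, Components.map_conj_map_conj,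
            inv_mul_cancel, Components.map_conj_one]
        exact mem_centralizer_iff.mp (hle hzL) a ha
      · have hle : Components.orbitJoin (P : Subgroup G) K ≤ Subgroup.centralizer (A : Set G) := by
          refine iSup_le fun g => ?_
          refine Components.isComponent_le_centralizer (Components.isComponent_conj hK _) hA ?_
          intro he
          exact hAK ⟨g, g.2, he.symm⟩
        exact mem_centralizer_iff.mp (hle hzK) a ha
    have := Components.mem_pCore_of_mem_layer_of_centralizes hcore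
      (Components.orbitJoin_le_layer _ hK hzK) hzc
    rw [← Components.fittingSubgroup_le_pCore_of_pPrimeCore_eq_bot hcore, hF] at this
    exact this

end Cfsg.Agent.S4172
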