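import Cfsg.Statements.S4177
import Mathlib
import Cfsg.Agent.Lib.ClassSize.Counting

set_option autoImplicit false
open Cfsg

namespace Cfsg.Agent.S4177

noncomputable def avg {k V H : Type*} [Field k] [AddCommGroup V] [Module k V] [Group H] [Finite H]
    (ρ : Representation k H V) (K : Subgroup H) : V →ₗ[k] V :=
  haveI : Fintype K := Fintype.ofFinite K
  ∑ h : K, ρ (h : H)

theorem avg_apply {k V H : Type*} [Field k] [AddCommGroup V] [Module k V] [Group H] [Finite H]
    (ρ : Representation k H V) (K : Subgroup H) [Fintype K] (v : V) :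
    avg ρ K v = ∑ h : K, ρ (h : H) v := by
  rw [avg, LinearMap.sum_apply]
  exact Finset.sum_congr (by ext; simp) fun _ _ => rfl

theorem avg_smul_mem {k V H : Type*} [Field k] [AddCommGroup V] [Module k V] [Group H] [Finite H]
    (ρ : Representation k H V) (K : Subgroup H) {g : H} (hg : g ∈ K) (v : V) :
    avg ρ K (ρ g v) = avg ρ K v := by
  haveI : Fintype K := Fintype.ofFinite K
  rw [avg_apply, avg_apply]
  refine Fintype.sum_equiv (Equiv.mulRight (⟨g, hg⟩ : K)) _ _ fun h => ?_
  simp [map_mul, Module.End.mul_apply]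

theorem avg_fixed {k V H : Type*} [Field k] [AddCommGroup V] [Module k V] [Group H] [Finite H]
    (ρ : Representation k H V) (K : Subgroup H) {v : V} (hv : ∀ g ∈ K, ρ g v = v) :
    avg ρ K v = (Nat.card K : k) • v := by
  haveI : Fintype K := Fintype.ofFinite K
  rw [avg_apply, Nat.card_eq_fintype_card, Finset.sum_congr rfl fun (x : K) _ => hv (x : H) x.2]
  simp [Nat.cast_smul_eq_nsmul]

theorem ρ_avg {k V H : Type*} [Field k] [AddCommGroup V] [Module k V] [Group H] [Finite H]
    (ρ : Representation k H V) (K : Subgroup H) {g : H} (hg : g ∈ K) (v : V) :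
    ρ g (avg ρ K v) = avg ρ K v := by
  haveI : Fintype K := Fintype.ofFinite K
  rw [avg_apply, map_sum]
  refine Fintype.sum_equiv (Equiv.mulLeft (⟨g, hg⟩ : K)) _ _ fun h => ?_
  simp [map_mul, Module.End.mul_apply]

theorem fixed_mem {k V H : Type*} [Field k] [AddCommGroup V] [Module k V] [Group H] [Finite H]
    (ρ : Representation k H V) (K : Subgroup H) (a : V) (hK : (Nat.card K : k) ≠ 0)
    (hspan : Submodule.span k {u : V | ∃ h : H, ρ h a = u} = ⊤)
    (htr : ∀ g : H, avg ρ K (ρ g a) = avg ρ K a) {v : V} (hv : ∀ g ∈ K, ρ g v = v) :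
    v ∈ Submodule.span k {avg ρ K a} := by
  have h : ∀ w ∈ Submodule.span k {u : V | ∃ h : H, ρ h a = u}, avg ρ K w ∈ Submodule.span k {avg ρ K a} := by
    intro w hw
    refine (Submodule.span_le (p := (Submodule.span k {avg ρ K a}).comap (avg ρ K))).2 ?_ hw
    rintro _ ⟨g, rfl⟩
    show avg ρ K (ρ g a) ∈ Submodule.span k {avg ρ K a}
    rw [htr]; exact Submodule.mem_span_singleton_self _
  have h1 := h v (hspan ▸ Submodule.mem_top)
  rw [avg_fixed ρ K hv] at h1
  exact (Submodule.smul_mem_iff _ hK).1 h1


/-- Let k be a field whose characteristic does not divide the order of the finite group H (for instance a field of characteristic zero), and ρ a k-linear representation of H on V. Let a be a vector whose H-orbit spans V. Then the space of H-fixed vectors has dimension at most 1, and every vector b whose H-orbit has size coprime to the size of the orbit of a is fixed by H. -/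
theorem result {k V H : Type*} [Field k] [AddCommGroup V] [Module k V] [Group H] [Finite H]
    (hchar : ¬ ringChar k ∣ Nat.card H) (ρ : Representation k H V) (a : V)
    (hspan : Submodule.span k {u : V | ∃ h : H, ρ h a = u} = ⊤) :
    Module.finrank k ρ.invariants ≤ 1 ∧
    ∀ b : V, (Nat.card {u : V | ∃ h : H, ρ h a = u}).Coprime (Nat.card {u : V | ∃ h : H, ρ h b = u}) → ∀ h : H, ρ h b = b := by
  have hne : ∀ K : Subgroup H, (Nat.card K : k) ≠ 0 := fun K h0 =>
    hchar (((ringChar.spec k _).1 h0).trans K.card_subgroup_dvd_card)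
  constructor
  · have hle : ρ.invariants ≤ Submodule.span k {avg ρ ⊤ a} := fun v hv =>
      fixed_mem ρ ⊤ a (hne _) hspan (fun g => avg_smul_mem ρ ⊤ (Subgroup.mem_top g) a) fun g _ => hv g
    refine (Submodule.finrank_mono hle).trans ?_
    exact (finrank_span_le_card ({avg ρ ⊤ a} : Set V)).trans (by simp)
  · intro b hcop
    let stab : V → Subgroup H := fun u =>
      { carrier := {g | ρ g u = u}
        one_mem' := by simp
        mul_mem' := fun {x y} (hx : ρ x u = u) (hy : ρ y u = u) => show ρ (x * y) u = u by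
          rw [map_mul, Module.End.mul_apply, hy, hx]
        inv_mem' := fun {x} (hx : ρ x u = u) => show ρ x⁻¹ u = u by
          conv_lhs => rw [← hx]
          rw [← Module.End.mul_apply, ← map_mul, inv_mul_cancel, map_one]; rfl }
    have hcard : ∀ u : V, Nat.card {w : V | ∃ h : H, ρ h u = w} = (stab u).index := by
      intro u
      letI : MulAction H V := MulAction.compHom V ρ
      have h1 : stab u = MulAction.stabilizer H u := rfl
      rw [h1, MulAction.index_stabilizer, ← Nat.card_coe_set_eq]
      rfl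
    rw [hcard a, hcard b] at hcop
    set B := stab b
    have htr : ∀ g : H, avg ρ B (ρ g a) = avg ρ B a := by
      intro g
      obtain ⟨x, hx, hxa⟩ := Lib.ClassSize.exists_mem_mul_of_index_coprime (stab a) B hcop g
      have : ρ g a = ρ x a := by
        conv_rhs => rw [← (show ρ (x⁻¹ * g) a = a from hxa)]
        rw [← Module.End.mul_apply, ← map_mul, mul_inv_cancel_left]
      rw [this, avg_smul_mem ρ B hx]
    obtain ⟨c, hc⟩ := Submodule.mem_span_singleton.1
      (fixed_mem ρ B a (hne B) hspan htr (fun g hg => hg) (v := b))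
    intro h
    have key : ρ h (avg ρ B a) = avg ρ B a := by
      have h2 : avg ρ B (avg ρ ⊤ a) = (Nat.card B : k) • avg ρ ⊤ a :=
        avg_fixed ρ B fun g _ => ρ_avg ρ ⊤ (Subgroup.mem_top g) a
      haveI : Fintype (⊤ : Subgroup H) := Fintype.ofFinite _
      conv_lhs at h2 => rw [avg_apply ρ ⊤ a, map_sum, Finset.sum_congr rfl fun (g : (⊤ : Subgroup H)) _ => htr (g : H)]
      have hn : ((Nat.card (⊤ : Subgroup H) : k)) • avg ρ B a = (Nat.card B : k) • avg ρ ⊤ a := by
        rw [← h2, Nat.card_eq_fintype_card]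
        simp [Nat.cast_smul_eq_nsmul]
      have h4 : avg ρ B a = ((Nat.card (⊤ : Subgroup H) : k))⁻¹ • ((Nat.card B : k) • avg ρ ⊤ a) := by
        rw [← hn, inv_smul_smul₀ (hne ⊤)]
      rw [h4, map_smul, map_smul, ρ_avg ρ ⊤ (Subgroup.mem_top h) a]
    rw [← hc, map_smul, key]

end Cfsg.Agent.S4177
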