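import Cfsg.Statements.S4178
import Mathlib

set_option autoImplicit false
open Cfsg

namespace Cfsg.Agent.S4178

theorem orbit_bound {F V : Type*} [Field F] [Fintype F] [AddCommGroup V] [Module F V]
    [FiniteDimensional F V] (H : Subgroup (V ≃ₗ[F] V)) (W : Submodule F V)
    (hW : ∀ h ∈ H, ∀ w ∈ W, h w ∈ W) (v : V) (hv : v ∉ W)
    (hfix : ∀ h : H, (h : V ≃ₗ[F] V) v - v ∈ W → ∃ u : V, u ≠ 0 ∧ (h : V ≃ₗ[F] V) u = u) :
    (Subgroup.closure {h : ↥H | ∃ v : V, v ≠ 0 ∧ (h : V ≃ₗ[F] V) v = v}).index ≤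
      Nat.card (V ⧸ W) - 1 := by
  haveI : Finite V := Module.finite_of_finite F
  haveI : Finite (V ≃ₗ[F] V) := Finite.of_injective (fun e => ((e : V → V))) DFunLike.coe_injective
  have hinv : ∀ h : H, ∀ w ∈ W, (h : V ≃ₗ[F] V) w ∈ W := fun h w hw => hW _ h.2 w hw
  let S : Subgroup H :=
    { carrier := {h | (h : V ≃ₗ[F] V) v - v ∈ W}
      one_mem' := by simp
      mul_mem' := fun {a b} (ha : _ ∈ W) (hb : _ ∈ W) => by
        have := W.add_mem (hinv a _ hb) ha
        simpa [LinearEquiv.mul_apply, map_sub] using this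
      inv_mem' := fun {a} (ha : _ ∈ W) => by
        have := W.neg_mem (hinv a⁻¹ _ ha)
        rw [Subgroup.coe_inv, LinearEquiv.coe_inv] at this
        simpa [Subgroup.coe_inv, LinearEquiv.coe_inv, map_sub, neg_sub] using this }
  have hS : S ≤ Subgroup.closure {h : ↥H | ∃ v : V, v ≠ 0 ∧ (h : V ≃ₗ[F] V) v = v} :=
    fun h hh => Subgroup.subset_closure (hfix h hh)
  refine (Nat.le_of_dvd (Nat.pos_of_ne_zero Subgroup.FiniteIndex.index_ne_zero)
    (Subgroup.index_dvd_of_le hS)).trans ?_
  let f : H ⧸ S → {q : V ⧸ W // q ≠ 0} := Quotient.lift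
    (fun h : H => ⟨Submodule.Quotient.mk ((h : V ≃ₗ[F] V) v), fun h0 => hv (by
      have := hinv h⁻¹ _ ((Submodule.Quotient.mk_eq_zero W).1 h0)
      simpa [Subgroup.coe_inv, LinearEquiv.coe_inv] using this)⟩)
    (fun a b hab => by
      have h1 : ((a⁻¹ * b : H) : V ≃ₗ[F] V) v - v ∈ W := QuotientGroup.leftRel_apply.1 hab
      refine Subtype.ext ((Submodule.Quotient.eq W).2 ?_)
      have := W.neg_mem (hinv a _ h1)
      simpa [Subgroup.coe_inv, LinearEquiv.coe_inv, LinearEquiv.mul_apply, map_sub, neg_sub] using this)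
  have hinj : Function.Injective f := by
    intro q r
    induction q using QuotientGroup.induction_on with
    | _ a =>
      induction r using QuotientGroup.induction_on with
      | _ b =>
        intro h
        have h1 := (Submodule.Quotient.eq W).1 (congrArg Subtype.val h)
        have h2 := W.neg_mem (hinv a⁻¹ _ h1)
        refine (QuotientGroup.eq (s := S)).2 ?_
        show ((a⁻¹ * b : H) : V ≃ₗ[F] V) v - v ∈ W
        simpa [Subgroup.coe_inv, LinearEquiv.coe_inv, LinearEquiv.mul_apply, map_sub, neg_sub] using h2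
  haveI : Finite (V ⧸ W) := Finite.of_surjective _ (Submodule.Quotient.mk_surjective W)
  haveI : Finite {q : V ⧸ W // q ≠ 0} := Subtype.finite
  refine (Nat.card_le_card_of_injective f hinj).trans (le_of_eq ?_)
  classical
  haveI : Fintype (V ⧸ W) := Fintype.ofFinite _
  rw [Nat.card_eq_fintype_card, Nat.card_eq_fintype_card]
  exact Set.card_ne_eq 0


/-- Let F be a finite field with q elements, V a non-zero finite-dimensional F-space of dimension d, H a group of invertible linear maps of V, and R the subgroup of H generated by the elements of H that fix some non-zero vector (have eigenvalue 1). Then the index of R in H is at most q^d − 1; and if H leaves invariant some proper non-zero subspace, the index is at most q^(d/2) − 1. -/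
theorem result {F V : Type*} [Field F] [Fintype F] [AddCommGroup V] [Module F V] [FiniteDimensional F V] [Nontrivial V]
    (H : Subgroup (V ≃ₗ[F] V)) :
    (Subgroup.closure {h : ↥H | ∃ v : V, v ≠ 0 ∧ (h : V ≃ₗ[F] V) v = v}).index ≤ Fintype.card F ^ Module.finrank F V - 1 ∧
    ((∃ W : Submodule F V, W ≠ ⊥ ∧ W ≠ ⊤ ∧ ∀ h ∈ H, ∀ w ∈ W, h w ∈ W) →
      ((Subgroup.closure {h : ↥H | ∃ v : V, v ≠ 0 ∧ (h : V ≃ₗ[F] V) v = v}).index : ℝ) ≤ Real.sqrt ((Fintype.card F : ℝ) ^ Module.finrank F V) - 1) := by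
  classical
  haveI : Finite V := Module.finite_of_finite F
  haveI : Finite (V ≃ₗ[F] V) := Finite.of_injective (fun e => ((e : V → V))) DFunLike.coe_injective
  obtain ⟨v, hv⟩ := exists_ne (0 : V)
  have hq : 1 < Fintype.card F := Fintype.one_lt_card
  have hcard : ∀ W : Submodule F V, Nat.card (V ⧸ W) =
      Fintype.card F ^ (Module.finrank F V - Module.finrank F W) := by
    intro W
    rw [Module.natCard_eq_pow_finrank (K := F), Nat.card_eq_fintype_card]
    congr 1
    have := Submodule.finrank_quotient_add_finrank W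
    omega
  have h1 := orbit_bound H ⊥ (by simp) v (by simpa using hv)
    (fun h hh => ⟨v, hv, by simpa [sub_eq_zero] using hh⟩)
  rw [hcard, finrank_bot, Nat.sub_zero] at h1
  refine ⟨h1, ?_⟩
  rintro ⟨W, hW0, hW1, hW⟩
  set R := (Subgroup.closure {h : ↥H | ∃ v : V, v ≠ 0 ∧ (h : V ≃ₗ[F] V) v = v}).index
  set q := Fintype.card F
  set d := Module.finrank F V
  have hmain : ∃ e : ℕ, 2 * e ≤ d ∧ R ≤ q ^ e - 1 := by
    rcases le_or_gt (2 * Module.finrank F W) d with hle | hlt
    · -- act on the invariant subspace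
      obtain ⟨w, hwW, hw0⟩ := Submodule.exists_mem_ne_zero_of_ne_bot hW0
      refine ⟨_, hle, ?_⟩
      refine le_trans (Nat.le_of_dvd (Nat.pos_of_ne_zero Subgroup.FiniteIndex.index_ne_zero)
        (Subgroup.index_dvd_of_le (H := MulAction.stabilizer H w) fun h hh =>
          Subgroup.subset_closure ⟨w, hw0, hh⟩)) ?_
      rw [MulAction.index_stabilizer]
      refine (Set.ncard_le_ncard (t := (W : Set V) \ {0}) ?_).trans (le_of_eq ?_)
      · rintro _ ⟨h, rfl⟩
        exact ⟨hW _ h.2 w hwW, fun e => hw0 ((h : V ≃ₗ[F] V).map_eq_zero_iff.1 e)⟩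
      · rw [Set.ncard_diff_singleton_of_mem W.zero_mem, ← Nat.card_coe_set_eq]
        congr 1
        exact (Module.natCard_eq_pow_finrank (K := F) (V := W)).trans (by rw [Nat.card_eq_fintype_card])
    · obtain ⟨u, hu⟩ : ∃ u : V, u ∉ W := by
        by_contra hcon; push Not at hcon
        exact hW1 (eq_top_iff.2 fun x _ => hcon x)
      refine ⟨d - Module.finrank F W, by omega, ?_⟩
      rw [← hcard W]
      refine orbit_bound H W hW u hu fun h hh => ?_
      let φ : V →ₗ[F] V := ((h : V ≃ₗ[F] V) : V →ₗ[F] V) - LinearMap.id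
      have hmaps : ∀ x ∈ W ⊔ Submodule.span F {u}, φ x ∈ W := by
        intro x hx
        obtain ⟨a, ha, b, hb, rfl⟩ := Submodule.mem_sup.1 hx
        obtain ⟨c, rfl⟩ := Submodule.mem_span_singleton.1 hb
        rw [map_add, map_smul]
        exact W.add_mem (W.sub_mem (hW _ h.2 a ha) ha) (W.smul_mem c hh)
      have hne : LinearMap.ker (φ.restrict hmaps) ≠ ⊥ := by
        intro hk
        have := LinearMap.finrank_le_finrank_of_injective (LinearMap.ker_eq_bot.1 hk)
        have h2 : W < W ⊔ Submodule.span F {u} := lt_of_le_of_ne le_sup_left fun e => hu (by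
          rw [e]; exact Submodule.mem_sup_right (Submodule.mem_span_singleton_self u))
        have := Submodule.finrank_lt_finrank_of_lt h2
        omega
      obtain ⟨x, hx, hx0⟩ := Submodule.exists_mem_ne_zero_of_ne_bot hne
      refine ⟨x, fun e => hx0 (Subtype.ext e), ?_⟩
      have := congrArg Subtype.val (LinearMap.mem_ker.1 hx)
      exact sub_eq_zero.1 this
  obtain ⟨e, he, hR⟩ := hmain
  have h3 : 1 ≤ q ^ e := Nat.one_le_pow _ _ (by omega)
  have h4 : (R : ℝ) ≤ (q : ℝ) ^ e - 1 := by
    have : R + 1 ≤ q ^ e := by omega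
    have : ((R + 1 : ℕ) : ℝ) ≤ ((q ^ e : ℕ) : ℝ) := by exact_mod_cast this
    push_cast at this; linarith
  refine h4.trans (sub_le_sub_right ?_ 1)
  rw [Real.le_sqrt (by positivity) (by positivity), ← pow_mul]
  exact pow_le_pow_right₀ (by exact_mod_cast hq.le) (by omega)

end Cfsg.Agent.S4178
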