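import Cfsg.Statements.S4181
import Cfsg.Agent.Lib.SylowFix.Bound

set_option autoImplicit false
open Cfsg

namespace Cfsg.Agent.S4181

/-- Let p be a prime and G a finite group generated by its elements of p-power order, and let H be a proper subgroup of G containing a Sylow p-subgroup of G. Then 2p − 1 times the number of Sylow p-subgroups of H is at most p − 1 times the number of Sylow p-subgroups of G. -/
theorem result {G : Type*} [Group G] [Finite G] (p : ℕ) [Fact p.Prime] (hgen : Subgroup.closure {g : G | ∃ k : ℕ, orderOf g = p ^ k} = ⊤)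
    (H : Subgroup G) (hH : H ≠ ⊤) (P : Sylow p G) (hP : (P : Subgroup G) ≤ H) :
    (2 * p - 1) * Nat.card (Sylow p ↥H) ≤ (p - 1) * Nat.card (Sylow p G) := by
  classical
  haveI : Fintype G := Fintype.ofFinite G
  haveI : Fintype (Sylow p G) := Fintype.ofFinite _
  haveI : Fintype (G ⧸ H) := Fintype.ofFinite _
  have hb := Lib.SylowFix.bound_all (H.index + 1) G hgen P H hH (Nat.lt_succ_self _)
  set f := Nat.card {v : G ⧸ H // Lib.SylowFix.Fixes P v} with hf
  have hone : ∀ Q : Sylow p G,
      Lib.SylowFix.Fixes Q ((1 : G) : G ⧸ H) ↔ (Q : Subgroup G) ≤ H := fun Q =>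
    forall₂_congr fun g _ => by
      rw [MulAction.Quotient.smul_mk, smul_eq_mul, mul_one, QuotientGroup.eq, mul_one, inv_mem_iff]
  have hsub : Nat.card {Q : Sylow p G // (Q : Subgroup G) ≤ H} = Nat.card (Sylow p H) := by
    refine Nat.card_eq_of_bijective (fun Q => Q.1.subtype Q.2) ⟨fun Q R h => ?_, fun R => ?_⟩
    · exact Subtype.ext (Sylow.subtype_injective h)
    · obtain ⟨h, hh⟩ := Sylow.isPretransitive_of_finite.exists_smul_eq (P.subtype hP) R
      rw [Sylow.smul_subtype] at hh
      exact ⟨⟨(h : G) • P, Sylow.smul_le hP h⟩, hh⟩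
  have hfib : ∀ v : G ⧸ H, Nat.card {Q : Sylow p G // Lib.SylowFix.Fixes Q v} =
      Nat.card (Sylow p H) := by
    intro v
    obtain ⟨g, rfl⟩ := MulAction.exists_smul_eq G ((1 : G) : G ⧸ H) v
    rw [← hsub]
    refine Nat.card_congr ((Equiv.subtypeEquiv (MulAction.toPerm g).symm fun Q => ?_))
    show Lib.SylowFix.Fixes Q _ ↔ ((g⁻¹ • Q : Sylow p G) : Subgroup G) ≤ H
    rw [← hone, ← Lib.SylowFix.fixes_smul (g := g⁻¹), inv_smul_smul]
  have hfix : ∀ Q : Sylow p G, Nat.card {v : G ⧸ H // Lib.SylowFix.Fixes Q v} = f := by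
    intro Q
    rw [hf, Lib.SylowFix.card_fixes_eq, Lib.SylowFix.card_fixes_eq]
    exact Lib.SylowFix.fixIn_univ_eq Q P
  have hswap : Nat.card (Sylow p G) * f = H.index * Nat.card (Sylow p H) := by
    have e : (Σ Q : Sylow p G, {v : G ⧸ H // Lib.SylowFix.Fixes Q v}) ≃
        (Σ v : G ⧸ H, {Q : Sylow p G // Lib.SylowFix.Fixes Q v}) :=
      { toFun := fun x => ⟨x.2.1, x.1, x.2.2⟩
        invFun := fun x => ⟨x.2.1, x.1, x.2.2⟩
        left_inv := fun x => rfl
        right_inv := fun x => rfl }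
    have h := Nat.card_congr e
    rw [Nat.card_sigma, Nat.card_sigma, Finset.sum_congr rfl fun Q _ => hfix Q,
      Finset.sum_congr rfl fun v _ => hfib v, Finset.sum_const, Finset.sum_const, Finset.card_univ,
      Finset.card_univ, smul_eq_mul, smul_eq_mul, ← Nat.card_eq_fintype_card,
      ← Nat.card_eq_fintype_card, ← Subgroup.index_eq_card] at h
    exact h
  have h0 : 0 < H.index := Nat.pos_of_ne_zero Subgroup.index_ne_zero_of_finite
  refine Nat.le_of_mul_le_mul_left ?_ h0
  calc H.index * ((2 * p - 1) * Nat.card (Sylow p H))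
      = Nat.card (Sylow p G) * ((2 * p - 1) * f) := by
        rw [mul_left_comm, ← hswap]; ring
    _ ≤ Nat.card (Sylow p G) * ((p - 1) * H.index) := Nat.mul_le_mul_left _ hb
    _ = _ := by ring

end Cfsg.Agent.S4181
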