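import Cfsg.Statements.S4182
import Mathlib

set_option autoImplicit false
open Cfsg

namespace Cfsg.Agent.S4182

open Subgroup Pointwise

theorem closure_pElements_sup {G : Type*} [Group G] {p : ℕ} {A B : Subgroup G}
    (hA : closure {g : G | g ∈ A ∧ ∃ k : ℕ, orderOf g = p ^ k} = A)
    (hB : closure {g : G | g ∈ B ∧ ∃ k : ℕ, orderOf g = p ^ k} = B) :
    closure {g : G | g ∈ A ⊔ B ∧ ∃ k : ℕ, orderOf g = p ^ k} = A ⊔ B := by
  refine le_antisymm ((closure_le _).mpr fun g hg => hg.1) (sup_le ?_ ?_)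
  · exact hA.ge.trans (closure_mono fun g hg => ⟨mem_sup_left hg.1, hg.2⟩)
  · exact hB.ge.trans (closure_mono fun g hg => ⟨mem_sup_right hg.1, hg.2⟩)

theorem closure_pElements_zpowers {G : Type*} [Group G] {p : ℕ} {x : G}
    (hx : ∃ k : ℕ, orderOf x = p ^ k) :
    closure {g : G | g ∈ zpowers x ∧ ∃ k : ℕ, orderOf g = p ^ k} = zpowers x :=
  le_antisymm ((closure_le _).mpr fun _ hg => hg.1)
    (zpowers_le.mpr (subset_closure ⟨mem_zpowers x, hx⟩))

theorem exists_le_cover {G : Type*} [Group G] [Finite G] {p : ℕ} [hp : Fact p.Prime]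
    {ι : Type*} [Fintype ι] (hι : Fintype.card ι ≤ p) (K : ι → Subgroup G) (L : Subgroup G)
    (hgen : closure {g : G | g ∈ L ∧ ∃ k : ℕ, orderOf g = p ^ k} = L)
    (hcov : ∀ g ∈ L, (∃ k : ℕ, orderOf g = p ^ k) → ∃ i, g ∈ K i) : ∃ i, L ≤ K i := by
  induction L using WellFoundedLT.induction with
  | ind L ih => ?_
  by_contra hcon
  push_neg at hcon
  set P : Set G := {g : G | ∃ k : ℕ, orderOf g = p ^ k}
  set F : Set (Subgroup G) := {M | Maximal (fun M : Subgroup G => M < L ∧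
    closure {g : G | g ∈ M ∧ ∃ k : ℕ, orderOf g = p ^ k} = M) M}
  have hsub : ∀ M ∈ F, ∃ i, M ≤ K i := fun M hM =>
    ih M hM.1.1 hM.1.2 fun g hg hk => hcov g (hM.1.1.le hg) hk
  choose f hf using hsub
  have hinj : ∀ M (hM : M ∈ F) M' (hM' : M' ∈ F), f M hM = f M' hM' → M = M' := by
    intro M hM M' hM' h
    have hle : M ⊔ M' ≤ K (f M hM) := sup_le (hf M hM) (h ▸ hf M' hM')
    have hlt : M ⊔ M' < L := lt_of_le_of_ne (sup_le hM.1.1.le hM'.1.1.le) fun e =>
      hcon _ (e ▸ hle)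
    have hgen' := closure_pElements_sup hM.1.2 hM'.1.2
    exact le_antisymm (le_sup_left.trans (hM'.2 ⟨hlt, hgen'⟩ le_sup_right))
      (le_sup_right.trans (hM.2 ⟨hlt, hgen'⟩ le_sup_left))
  have hcard : F.ncard ≤ p := by
    refine le_trans ?_ hι
    rw [← Nat.card_coe_set_eq, ← Nat.card_eq_fintype_card]
    exact Nat.card_le_card_of_injective (fun M : F => f M.1 M.2)
      fun M M' h => Subtype.ext (hinj _ _ _ _ h)
  have hext : ∀ x ∈ L, x ∈ P → ∃ M ∈ F, x ∈ M := by
    intro x hxL hx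
    have hlt : zpowers x < L := lt_of_le_of_ne (zpowers_le.mpr hxL) fun e => by
      obtain ⟨i, hi⟩ := hcov x hxL hx
      exact hcon i (e ▸ zpowers_le.mpr hi)
    obtain ⟨M, hxM, hM⟩ := Finite.exists_le_maximal
      (p := fun M : Subgroup G => M < L ∧ closure {g : G | g ∈ M ∧ ∃ k : ℕ, orderOf g = p ^ k} = M)
      ⟨hlt, closure_pElements_zpowers hx⟩
    exact ⟨M, hM, hxM (mem_zpowers x)⟩
  have hconj : ∀ (x : G), x ∈ L → ∀ M ∈ F, MulAut.conj x • M ∈ F := by
    intro x hx M hM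
    have key : ∀ y ∈ L, ∀ N : Subgroup G, (N < L ∧
        closure {g : G | g ∈ N ∧ ∃ k : ℕ, orderOf g = p ^ k} = N) →
        (MulAut.conj y • N < L ∧ closure {g : G | g ∈ MulAut.conj y • N ∧
          ∃ k : ℕ, orderOf g = p ^ k} = MulAut.conj y • N) := by
      rintro y hy N ⟨hN, hNg⟩
      have hLy : MulAut.conj y • L = L := conj_smul_eq_self_of_mem hy
      refine ⟨lt_of_le_of_ne (hLy ▸ pointwise_smul_le_pointwise_smul_iff.mpr hN.le)
        fun e => hN.ne (smul_left_cancel _ (e.trans hLy.symm)), ?_⟩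
      refine le_antisymm ((closure_le _).mpr fun g hg => hg.1) ?_
      calc MulAut.conj y • N = MulAut.conj y • closure {g : G | g ∈ N ∧ ∃ k : ℕ, orderOf g = p ^ k} := by
            rw [hNg]
        _ ≤ _ := by
          refine le_of_eq_of_le (show MulAut.conj y • Subgroup.closure _ = (Subgroup.closure _).map (MulAut.conj y).toMonoidHom from rfl) ?_
          rw [MonoidHom.map_closure, closure_le]
          rintro _ ⟨g, ⟨hg, k, hk⟩, rfl⟩
          exact subset_closure ⟨smul_mem_pointwise_smul g _ _ hg, k, hk ▸ MulEquiv.orderOf_eq (MulAut.conj y) g⟩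
    refine ⟨key x hx M hM.1, fun N hN hle => ?_⟩
    have h1 := hM.2 (key x⁻¹ (inv_mem hx) N hN) (by
      rw [map_inv, ← pointwise_smul_le_pointwise_smul_iff (a := MulAut.conj x), smul_inv_smul]
      exact hle)
    rwa [map_inv, ← pointwise_smul_le_pointwise_smul_iff (a := MulAut.conj x), smul_inv_smul] at h1
  have hnorm : ∀ M ∈ F, ∀ x ∈ L, x ∈ P → MulAut.conj x • M = M := by
    intro M hM x hxL hx
    obtain ⟨M₀, hM₀, hxM₀⟩ := hext x hxL hx
    obtain ⟨k, hk⟩ := hx
    letI : MulAction (zpowers x) (Subgroup G) :=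
      MulAction.compHom _ (MulAut.conj.comp (zpowers x).subtype)
    have hact : ∀ (a : zpowers x) (N : Subgroup G), a • N = MulAut.conj (a : G) • N := fun _ _ => rfl
    have hPg : IsPGroup p (zpowers x) := IsPGroup.of_card (n := k) (by rw [Nat.card_zpowers, hk])
    obtain ⟨n, hn⟩ := hPg.card_orbit M
    by_cases hMM : M = M₀
    · exact hMM ▸ conj_smul_eq_self_of_mem hxM₀
    have hsubF : MulAction.orbit (zpowers x) M ⊆ F \ {M₀} := by
      rintro _ ⟨a, rfl⟩
      refine ⟨hconj _ (zpowers_le.mpr hxL a.2) M hM, fun e => hMM ?_⟩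
      have e2 : MulAut.conj (a : G) • M₀ = M₀ :=
        conj_smul_eq_self_of_mem (zpowers_le.mpr hxM₀ a.2)
      change MulAut.conj (a : G) • M = M₀ at e
      exact smul_left_cancel _ (e.trans e2.symm)
    have hlt : (MulAction.orbit (zpowers x) M).ncard < p :=
      ((Set.ncard_le_ncard hsubF).trans_lt (Set.ncard_diff_singleton_lt_of_mem hM₀)).trans_le hcard
    rw [← Nat.card_coe_set_eq, hn] at hlt
    have hn0 : n = 0 := by
      by_contra h0
      exact absurd (Nat.le_self_pow h0 p) (not_le.mpr hlt)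
    have h1 : Nat.card (MulAction.orbit (zpowers x) M) = 1 := by rw [hn, hn0, pow_zero]
    haveI := (Nat.card_eq_one_iff_unique.mp h1).1
    exact congrArg Subtype.val (Subsingleton.elim
      (⟨MulAut.conj x • M, ⟨⟨x, mem_zpowers x⟩, rfl⟩⟩ : MulAction.orbit (zpowers x) M)
      ⟨M, MulAction.mem_orbit_self M⟩)
  have hnormal : ∀ M ∈ F, L ≤ normalizer (M : Set G) := fun M hM => hgen.ge.trans
    ((closure_le _).mpr fun x hx => mem_normalizer_iff.mpr fun y => by
      conv_rhs => rw [← hnorm M hM x hx.1 hx.2, ← MulAut.conj_apply, ← MulAut.smul_def,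
        smul_mem_pointwise_smul_iff])
  -- maximality forces `M ⊔ ⟨x⟩ = L`
  have hsup : ∀ M ∈ F, ∀ x ∈ L, x ∈ P → x ∉ M → M ⊔ zpowers x = L := by
    intro M hM x hxL hx hxM
    by_contra hne
    exact hxM (hM.2 ⟨lt_of_le_of_ne (sup_le hM.1.1.le (zpowers_le.mpr hxL)) hne,
      closure_pElements_sup hM.1.2 (closure_pElements_zpowers hx)⟩ le_sup_left
        (mem_sup_right (mem_zpowers x)))
  have hindex : ∀ M ∈ F, ∀ g ∈ L, g ^ p ∈ M := by
    intro M hM g hgL
    haveI := normal_subgroupOf_of_le_normalizer (hnormal M hM)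
    obtain ⟨x, hxL, hx, hxM⟩ : ∃ x ∈ L, x ∈ P ∧ x ∉ M := by
      by_contra hno
      push_neg at hno
      exact hM.1.1.not_ge (hgen.ge.trans ((closure_le _).mpr fun x hx => hno x hx.1 hx.2))
    have hxp : x ^ p ∈ M := by
      by_contra hxp
      obtain ⟨k, hk⟩ := hx
      have hd : orderOf (x ^ p) ∣ p ^ k := hk ▸ orderOf_pow_dvd p
      obtain ⟨j, -, hj⟩ := (Nat.dvd_prime_pow hp.out).mp hd
      have h1 := hsup M hM (x ^ p) (pow_mem hxL p) ⟨j, hj⟩ hxp
      have hxm : x ∈ M ⊔ zpowers (x ^ p) := h1.symm ▸ hxL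
      -- iterate: `x ∈ M ⟨x ^ (p ^ i)⟩`
      set q := QuotientGroup.mk' (M.subgroupOf L)
      have h2 : q ⟨x, hxL⟩ ∈ zpowers (q ⟨x, hxL⟩ ^ p) := by
        have hle : (M ⊔ zpowers (x ^ p)).subgroupOf L ≤
            (zpowers (q ⟨x, hxL⟩ ^ p)).comap q := by
          rw [subgroupOf_sup hM.1.1.le (zpowers_le.mpr (pow_mem hxL p)), sup_le_iff]
          refine ⟨fun m hm => ?_, ?_⟩
          · rw [mem_comap, show q m = 1 from (QuotientGroup.eq_one_iff m).mpr hm]
            exact one_mem _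
          · rintro ⟨y, hy⟩ hy'
            obtain ⟨i, rfl⟩ := hy'
            refine ⟨i, ?_⟩
            show (q ⟨x, hxL⟩ ^ p) ^ i = q ⟨(x ^ p) ^ i, hy⟩
            rw [← map_pow, ← map_zpow]
            rfl
        exact hle (x := ⟨x, hxL⟩) hxm
      obtain ⟨i, hi⟩ := h2
      set a := q ⟨x, hxL⟩
      have ha : a ^ ((p : ℤ) * i - 1) = 1 := by
        rw [zpow_sub, zpow_one, zpow_mul, zpow_natCast]
        exact mul_inv_eq_one.mpr hi
      have hdvd : orderOf a ∣ p ^ k := by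
        rw [← hk, ← orderOf_mk x hxL]; exact orderOf_map_dvd q _
      obtain ⟨j', -, hj'⟩ := (Nat.dvd_prime_pow hp.out).mp hdvd
      have h3 : ((orderOf a : ℕ) : ℤ) ∣ (p : ℤ) * i - 1 := orderOf_dvd_iff_zpow_eq_one.mpr ha
      have hj0 : j' = 0 := by
        by_contra h0
        have hpd : (p : ℤ) ∣ (p : ℤ) * i - 1 :=
          (Int.natCast_dvd_natCast.mpr (hj' ▸ dvd_pow_self p h0)).trans h3
        have : (p : ℤ) ∣ 1 := by simpa using dvd_sub (dvd_mul_right (p : ℤ) i) hpd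
        exact hp.out.ne_one (by simpa using Int.eq_one_of_dvd_one (by positivity) this)
      rw [hj0, pow_zero, orderOf_eq_one_iff] at hj'
      exact hxM ((QuotientGroup.eq_one_iff (N := M.subgroupOf L) (⟨x, hxL⟩ : L)).mp hj')
    have hg : g ∈ M ⊔ zpowers x := (hsup M hM x hxL hx hxM).symm ▸ hgL
    have key : (M ⊔ zpowers x).subgroupOf L ≤
        (zpowers (QuotientGroup.mk' (M.subgroupOf L) ⟨x, hxL⟩)).comap (QuotientGroup.mk' (M.subgroupOf L)) := by
      rw [subgroupOf_sup hM.1.1.le (zpowers_le.mpr hxL), sup_le_iff]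
      refine ⟨fun m hm => ?_, ?_⟩
      · rw [mem_comap, show QuotientGroup.mk' (M.subgroupOf L) m = 1 from (QuotientGroup.eq_one_iff m).mpr hm]
        exact one_mem _
      · rintro ⟨y, hy⟩ hy'
        obtain ⟨i, rfl⟩ := hy'
        exact ⟨i, (map_zpow _ _ _).symm⟩
    obtain ⟨i, hi⟩ := key (x := ⟨g, hgL⟩) hg
    refine (QuotientGroup.eq_one_iff (N := M.subgroupOf L) (⟨g ^ p, pow_mem hgL p⟩ : L)).mp ?_
    have hx1 : QuotientGroup.mk' (M.subgroupOf L) ⟨x, hxL⟩ ^ p = 1 := by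
      rw [← map_pow]; exact (QuotientGroup.eq_one_iff _).mpr hxp
    calc (QuotientGroup.mk' (M.subgroupOf L)) (⟨g, hgL⟩ ^ p)
        = ((QuotientGroup.mk' (M.subgroupOf L) ⟨x, hxL⟩) ^ i) ^ p := by rw [map_pow, ← hi]
      _ = 1 := by rw [← zpow_natCast, zpow_comm, zpow_natCast, hx1, one_zpow]
  -- every element of `L` lies in a member of `F`
  have hall : ∀ g ∈ L, ∃ M ∈ F, g ∈ M := by
    intro g hgL
    obtain ⟨k, m, hm, hn⟩ := Nat.exists_eq_pow_mul_and_not_dvd (orderOf_pos g).ne' p hp.out.ne_one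
    have hgm : g ^ m ∈ P := by
      obtain ⟨j, -, hj⟩ := (Nat.dvd_prime_pow hp.out).mp
        (orderOf_dvd_of_pow_eq_one (show (g ^ m) ^ p ^ k = 1 by
          rw [← pow_mul, mul_comm, ← hn, pow_orderOf_eq_one]))
      exact ⟨j, hj⟩
    obtain ⟨M, hM, hgM⟩ := hext (g ^ m) (pow_mem hgL m) hgm
    refine ⟨M, hM, ?_⟩
    have := Nat.gcd_eq_gcd_ab p m
    rw [(hp.out.coprime_iff_not_dvd.mpr hm).gcd_eq_one, Nat.cast_one] at this
    rw [← zpow_one g, this, zpow_add, zpow_mul, zpow_mul, zpow_natCast, zpow_natCast]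
    exact mul_mem (zpow_mem (hindex M hM g hgL) _) (zpow_mem hgM _)
  -- counting
  have hFfin : F.Finite := Set.toFinite F
  have hle : ∀ M ∈ F, p * Nat.card M ≤ Nat.card L := by
    intro M hM
    have h1 := Subgroup.index_mul_card (M.subgroupOf L)
    rw [Nat.card_congr (subgroupOfEquivOfLe hM.1.1.le).toEquiv] at h1
    rw [← h1]
    refine Nat.mul_le_mul_right _ ?_
    haveI := normal_subgroupOf_of_le_normalizer (hnormal M hM)
    have hP : IsPGroup p (L ⧸ M.subgroupOf L) := fun q => ⟨1, by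
      induction q using QuotientGroup.induction_on with
      | H z =>
        rw [pow_one, ← QuotientGroup.mk_pow]
        exact (QuotientGroup.eq_one_iff _).mpr (hindex M hM _ z.2)⟩
    obtain ⟨j, hj⟩ := IsPGroup.iff_card.mp hP
    rw [index_eq_card, hj]
    refine Nat.le_self_pow ?_ p
    rintro rfl
    rw [pow_zero, ← index_eq_card, index_eq_one, subgroupOf_eq_top] at hj
    exact hM.1.1.not_ge hj
  have hu : ((L : Set G) \ {1}).ncard ≤ ∑ M ∈ hFfin.toFinset, ((M : Set G) \ {1}).ncard := by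
    refine le_trans (Set.ncard_le_ncard ?_) (Finset.set_ncard_biUnion_le _ _)
    rintro g ⟨hg, hg1⟩
    obtain ⟨M, hM, hgM⟩ := hall g hg
    exact Set.mem_biUnion (hFfin.mem_toFinset.mpr hM) ⟨hgM, hg1⟩
  have hn : ∀ H : Subgroup G, ((H : Set G) \ {1}).ncard + 1 = Nat.card H := by
    intro H
    rw [Set.ncard_diff_singleton_add_one (one_mem H)]
    exact (Nat.card_coe_set_eq _).symm
  have hsum : p * (∑ M ∈ hFfin.toFinset, (((M : Set G) \ {1}).ncard + 1)) ≤
      hFfin.toFinset.card * Nat.card L := by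
    rw [Finset.mul_sum, ← smul_eq_mul hFfin.toFinset.card]
    exact Finset.sum_le_card_nsmul _ _ _ fun M hM => by
      rw [hn]; exact hle M (hFfin.mem_toFinset.mp hM)
  rw [Finset.sum_add_distrib, Finset.sum_const, smul_eq_mul, mul_one] at hsum
  rw [Set.ncard_eq_toFinset_card F hFfin] at hcard
  have hL1 := hn L
  obtain ⟨M₀, hM₀, -⟩ := hall 1 (one_mem L)
  have hpos : 0 < hFfin.toFinset.card := Finset.card_pos.mpr ⟨M₀, hFfin.mem_toFinset.mpr hM₀⟩
  have hp2 := hp.out.two_le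
  have hMpos : 2 ≤ Nat.card L := by
    have := hle M₀ hM₀
    have := Nat.card_pos (α := M₀)
    nlinarith
  generalize hs : hFfin.toFinset.card = m at *
  generalize ∑ M ∈ hFfin.toFinset, ((M : Set G) \ {1}).ncard = S at *
  generalize Nat.card L = l at *
  generalize ((L : Set G) \ {1}).ncard = u at *
  subst hL1
  rcases Nat.lt_or_ge m 2 with hm | hm
  · obtain rfl : m = 1 := by omega
    nlinarith
  · nlinarith


/-- Let p be a prime and G a finite group generated by its p-elements. If a finite family of proper subgroups of G covers the set of p-elements of G (every element of p-power order lies in one of them), then the family has at least p + 1 members. -/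
theorem result {G : Type*} [Group G] [Finite G] (p : ℕ) [Fact p.Prime] (hgen : Subgroup.closure {g : G | ∃ k : ℕ, orderOf g = p ^ k} = ⊤)
    {ι : Type*} [Fintype ι] (K : ι → Subgroup G) (hK : ∀ i, K i ≠ ⊤)
    (hcov : ∀ g : G, (∃ k : ℕ, orderOf g = p ^ k) → ∃ i, g ∈ K i) :
    p + 1 ≤ Fintype.card ι := by
  by_contra hlt
  push_neg at hlt
  obtain ⟨i, hi⟩ := exists_le_cover (Nat.lt_succ_iff.mp hlt) K ⊤
    (by simpa using hgen) (fun g _ hg => hcov g hg)
  exact hK i (top_le_iff.mp hi)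

end Cfsg.Agent.S4182
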