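import Mathlib
import Cfsg.Statements.S4184
import Cfsg.Agent.Lib.ClassSize.Cover

set_option autoImplicit false
open Cfsg

namespace Cfsg.Agent.S4184

/-- `s` is divisible by the full `n`-part of every prime satisfying `X`. -/
def Full (n : ℕ) (X : ℕ → Prop) (s : ℕ) : Prop :=
  ∀ q : ℕ, q.Prime → X q → q ^ n.factorization q ∣ s

theorem dvd_of_full {n s : ℕ} (hn : n ≠ 0) {X : ℕ → Prop} (hX : Full n X s)
    (hY : Full n (fun q => ¬ X q) s) : n ∣ s := by
  rcases eq_or_ne s 0 with rfl | hs
  · exact dvd_zero n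
  refine (Nat.factorization_le_iff_dvd hn hs).1 fun q => ?_
  by_cases hq : q.Prime
  · refine (hq.pow_dvd_iff_le_factorization hs).1 ?_
    by_cases hx : X q
    · exact hX q hq hx
    · exact hY q hq hx
  · simp [Nat.factorization_eq_zero_of_not_prime n hq]

theorem Full.mono {n s t : ℕ} {X : ℕ → Prop} (h : Full n X s) (hst : s ∣ t) : Full n X t :=
  fun q hq hx => (h q hq hx).trans hst

variable {G : Type*} [Group G]

theorem index_dvd_of_mem {g w : G} (h : g ∈ Subgroup.zpowers w) :
    (Subgroup.centralizer ({g} : Set G)).index ∣ (Subgroup.centralizer ({w} : Set G)).index := by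
  refine Subgroup.index_dvd_of_le fun x hx => ?_
  rw [Subgroup.mem_centralizer_singleton_iff] at hx ⊢
  obtain ⟨i, rfl⟩ := h
  exact ((show Commute x w from hx).zpow_right i).eq

theorem mem_zpowers_mul_of_coprime [Finite G] {g h : G} (hc : Commute g h)
    (hco : (orderOf g).Coprime (orderOf h)) : g ∈ Subgroup.zpowers (g * h) := by
  have h1 : (g * h) ^ orderOf h = g ^ orderOf h := by
    rw [hc.mul_pow, pow_orderOf_eq_one, mul_one]
  obtain ⟨m, hm⟩ := exists_pow_eq_self_of_coprime hco.symm
  have e : g = ((g * h) ^ orderOf h) ^ m := by rw [h1]; exact hm.symm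
  exact (congrArg (· ∈ Subgroup.zpowers (g * h)) e).mpr <| Subgroup.pow_mem _ (Subgroup.pow_mem _ (Subgroup.mem_zpowers _) _) _

theorem card_mul (g : G) [Finite G] :
    Nat.card (Subgroup.centralizer ({g} : Set G)) * (Subgroup.centralizer ({g} : Set G)).index =
      Nat.card G := Subgroup.card_mul_index _

/-- The main step: a prime on the `X` side does not divide `#G` to a higher power than `n`. -/
theorem factorization_le [Finite G] {n : ℕ} (hn : n ≠ 0) (X : ℕ → Prop)
    (hdvd : ∀ g : G, (Subgroup.centralizer ({g} : Set G)).index ∣ n)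
    (hne : ∀ g : G, ¬ n ∣ (Subgroup.centralizer ({g} : Set G)).index)
    (hnG : n ∣ Nat.card G)
    (hdi : ∀ g : G, g ≠ 1 → Full n X (Subgroup.centralizer ({g} : Set G)).index ∨
      Full n (fun q => ¬ X q) (Subgroup.centralizer ({g} : Set G)).index)
    (hex : ∃ g : G, Full n X (Subgroup.centralizer ({g} : Set G)).index)
    {p : ℕ} [Fact p.Prime] (hp : X p) (hp0 : 0 < n.factorization p) :
    (Nat.card G).factorization p ≤ n.factorization p := by
  have hpp := (Fact.out : p.Prime)
  by_contra hgt
  push Not at hgt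
  have hnc : ∀ g h : G, Commute g h → (orderOf g).Coprime (orderOf h) →
      Full n X (Subgroup.centralizer ({g} : Set G)).index →
      Full n (fun q => ¬ X q) (Subgroup.centralizer ({h} : Set G)).index → False := by
    intro g h hc hco hg hh
    refine hne (g * h) (dvd_of_full hn (hg.mono (index_dvd_of_mem (mem_zpowers_mul_of_coprime hc hco)))
      (hh.mono (index_dvd_of_mem ?_)))
    rw [hc.eq]
    exact mem_zpowers_mul_of_coprime hc.symm hco.symm
  have hidx : ∀ g : G, (Subgroup.centralizer ({g} : Set G)).index ≠ 0 := fun g =>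
    Subgroup.index_ne_zero_of_finite
  -- the `p`-part of the centralizer of an `X`-full element
  have hcp : ∀ g : G, Full n X (Subgroup.centralizer ({g} : Set G)).index →
      (Nat.card (Subgroup.centralizer ({g} : Set G))).factorization p =
        (Nat.card G).factorization p - n.factorization p := by
    intro g hg
    have h1 := (hpp.pow_dvd_iff_le_factorization (hidx g)).1 (hg p hpp hp)
    have h2 := (Nat.factorization_le_iff_dvd (hidx g) hn).2 (hdvd g) p
    rw [← card_mul g, Nat.factorization_mul Nat.card_pos.ne' (hidx g), Finsupp.add_apply]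
    omega
  by_cases hu : ∃ u : G, u ≠ 1 ∧ (orderOf u).Coprime p ∧
      Full n X (Subgroup.centralizer ({u} : Set G)).index
  · obtain ⟨u, hu1, huc, huX⟩ := hu
    set C := Subgroup.centralizer ({u} : Set G)
    obtain ⟨R0⟩ : Nonempty (Sylow p C) := inferInstance
    set R : Subgroup G := (R0 : Subgroup C).map C.subtype with hR
    have hRcard : Nat.card R = p ^ ((Nat.card G).factorization p - n.factorization p) := by
      rw [hR, Subgroup.card_subtype, Sylow.card_eq_multiplicity, hcp u huX]
    have hRp : IsPGroup p R := IsPGroup.of_card hRcard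
    have hRu : ∀ x ∈ R, Commute u x := by
      intro x hx
      obtain ⟨y, -, rfl⟩ := Subgroup.mem_map.1 hx
      exact (Subgroup.mem_centralizer_singleton_iff.1 y.2).symm
    have hcoR : ∀ x ∈ R, (orderOf u).Coprime (orderOf x) := by
      intro x hx
      obtain ⟨k, hk⟩ := IsPGroup.iff_orderOf.1 hRp ⟨x, hx⟩
      rw [Subgroup.orderOf_mk] at hk
      rw [hk]
      exact huc.pow_right k
    haveI : Nontrivial R := (Finite.one_lt_card_iff_nontrivial).1 (by
      rw [hRcard]; exact Nat.one_lt_pow (by omega) hpp.one_lt)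
    haveI := hRp.center_nontrivial
    obtain ⟨r, hr⟩ := exists_ne (1 : Subgroup.center R)
    have hr1 : ((r : R) : G) ≠ 1 := fun h => hr (Subtype.ext (Subtype.ext h))
    have hrX : Full n X (Subgroup.centralizer ({((r : R) : G)} : Set G)).index :=
      (hdi _ hr1).resolve_right fun h =>
        hnc u _ (hRu _ (r : R).2) (hcoR _ (r : R).2) huX h
    obtain ⟨P, hP⟩ := hRp.exists_le_sylow
    haveI : Nontrivial P := (Finite.one_lt_card_iff_nontrivial).1 (by
      rw [Sylow.card_eq_multiplicity]; exact Nat.one_lt_pow (by omega) hpp.one_lt)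
    haveI := P.isPGroup'.center_nontrivial
    obtain ⟨z, hz⟩ := exists_ne (1 : Subgroup.center P)
    have hz1 : ((z : P) : G) ≠ 1 := fun h => hz (Subtype.ext (Subtype.ext h))
    have hzc : ∀ y ∈ (P : Subgroup G), y * ((z : P) : G) = ((z : P) : G) * y := fun y hy =>
      congrArg Subtype.val (Subgroup.mem_center_iff.1 z.2 ⟨y, hy⟩)
    -- `z` lies in `R`
    set T : Subgroup G := R ⊔ Subgroup.zpowers ((z : P) : G)
    have hTP : T ≤ P := sup_le hP (Subgroup.zpowers_le.2 (z : P).2)
    have hTC : T ≤ Subgroup.centralizer ({((r : R) : G)} : Set G) := by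
      refine sup_le (fun x hx => Subgroup.mem_centralizer_singleton_iff.2 ?_) (Subgroup.zpowers_le.2
        (Subgroup.mem_centralizer_singleton_iff.2 (hzc _ (hP (r : R).2)).symm))
      exact congrArg Subtype.val (Subgroup.mem_center_iff.1 r.2 ⟨x, hx⟩)
    have hTR : R = T := by
      refine Subgroup.eq_of_le_of_card_ge le_sup_left ?_
      obtain ⟨k, hk⟩ := IsPGroup.iff_card.1 (P.isPGroup'.to_le hTP)
      rw [hRcard, ← hcp _ hrX, hk]
      exact Nat.pow_le_pow_right hpp.pos
        ((hpp.pow_dvd_iff_le_factorization Nat.card_pos.ne').1 (hk ▸ Subgroup.card_dvd_of_le hTC))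
    have hzR : ((z : P) : G) ∈ R := hTR ▸ Subgroup.mem_sup_right (Subgroup.mem_zpowers _)
    have hPz : (P : Subgroup G) ≤ Subgroup.centralizer ({((z : P) : G)} : Set G) := fun y hy =>
      Subgroup.mem_centralizer_singleton_iff.2 (hzc y hy)
    rcases hdi _ hz1 with h | h
    · have h1 := (hpp.pow_dvd_iff_le_factorization (hidx _)).1 (h p hpp hp)
      have h2 : (Nat.card G).factorization p ≤
          (Nat.card (Subgroup.centralizer ({((z : P) : G)} : Set G))).factorization p := by
        refine (hpp.pow_dvd_iff_le_factorization Nat.card_pos.ne').1 ?_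
        rw [← Sylow.card_eq_multiplicity P]
        exact Subgroup.card_dvd_of_le hPz
      rw [← card_mul ((z : P) : G), Nat.factorization_mul Nat.card_pos.ne' (hidx _),
        Finsupp.add_apply] at h2
      omega
    · exact hnc u _ (hRu _ hzR) (hcoR _ hzR) huX h
  · obtain ⟨g, hg⟩ := hex
    push Not at hu
    have hg1 : g ≠ 1 := by
      rintro rfl
      have h1 := hg p hpp hp
      rw [Subgroup.centralizer_eq_top_iff_subset.2 (by simp [one_mem]), Subgroup.index_top,
        Nat.dvd_one, Nat.pow_eq_one] at h1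
      rcases h1 with h1 | h1
      · exact hpp.ne_one h1
      · omega
    obtain ⟨v, y, hvy, hc, ⟨k, hk⟩, hy, hv', hy'⟩ := Lib.ClassSize.exists_pParts (p := p) g
    -- `g` is a `p`-element
    have hyone : y = 1 := by
      by_contra hy1
      rcases hdi y hy1 with h | h
      · exact hu y hy1 hy h
      · exact hne g (dvd_of_full hn hg (h.mono (index_dvd_of_mem hy')))
    have hgk : orderOf g = p ^ k := by rw [hvy, hyone, mul_one, hk]
    -- a `Y`-prime divides the centralizer
    refine hne g (dvd_of_full hn hg fun q hq hqX => ?_)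
    have hqp : q ≠ p := fun h => hqX (h ▸ hp)
    haveI := Fact.mk hq
    by_cases hqd : q ∣ Nat.card (Subgroup.centralizer ({g} : Set G))
    · exfalso
      obtain ⟨w, hw⟩ := exists_prime_orderOf_dvd_card' q hqd
      have hw' : orderOf (w : G) = q := by rwa [Subgroup.orderOf_coe]
      have hw1 : (w : G) ≠ 1 := fun h => hq.ne_one (by rw [← hw', h, orderOf_one])
      have hwc : (orderOf (w : G)).Coprime p := hw' ▸ (Nat.coprime_primes hq hpp).2 hqp
      rcases hdi (w : G) hw1 with h | h
      · exact hu _ hw1 hwc h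
      · exact hnc g w (Subgroup.mem_centralizer_singleton_iff.1 w.2).symm
          (hgk ▸ (hwc.symm.pow_left k)) hg h
    · have h1 : q ^ (Nat.card G).factorization q ∣ (Subgroup.centralizer ({g} : Set G)).index := by
        refine Nat.Coprime.dvd_of_dvd_mul_left ((hq.coprime_iff_not_dvd.2 hqd).pow_left _) ?_
        rw [card_mul g]
        exact Nat.ordProj_dvd _ q
      exact (Nat.pow_dvd_pow q ((Nat.factorization_le_iff_dvd hn Nat.card_pos.ne').2 hnG q)).trans h1

/-- In a centreless group with disconnected prime graph every class size is full on one side. -/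
theorem full_of_disconnected [Finite G] {A : Set ℕ}
    (hA : ∀ a ∈ A, ∀ b ∉ A, a.Prime → b.Prime → a ∣ Nat.card G → b ∣ Nat.card G →
      ¬ ∃ x : G, orderOf x = a * b) {x : G} {q : ℕ} (hq : q.Prime) (hqx : q ∣ orderOf x) :
    Full (Nat.card G) (fun r => (r ∈ A) ≠ (q ∈ A)) (Subgroup.centralizer ({x} : Set G)).index := by
  intro r hr hrA
  haveI := Fact.mk hr
  refine Nat.Coprime.dvd_of_dvd_mul_left ((hr.coprime_iff_not_dvd.2 fun hdvd => ?_).pow_left _)
    (m := Nat.card (Subgroup.centralizer ({x} : Set G))) (by rw [card_mul x]; exact Nat.ordProj_dvd _ r)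
  obtain ⟨w, hw⟩ := exists_prime_orderOf_dvd_card' r hdvd
  have hw' : orderOf (w : G) = r := by rwa [Subgroup.orderOf_coe]
  set x' := x ^ (orderOf x / q)
  have hx' : orderOf x' = q := orderOf_pow_orderOf_div (orderOf_pos x).ne' hqx
  have hqr : q ≠ r := fun h => hrA (by rw [h])
  have hc : Commute x' (w : G) :=
    ((show Commute x (w : G) from (Subgroup.mem_centralizer_singleton_iff.1 w.2).symm)).pow_left _
  have hord : orderOf (x' * (w : G)) = q * r := by
    rw [hc.orderOf_mul_eq_mul_orderOf_of_coprime (by rw [hx', hw']; exact (Nat.coprime_primes hq hr).2 hqr),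
      hx', hw']
  have hqG : q ∣ Nat.card G := hqx.trans (orderOf_dvd_natCard x)
  have hrG : r ∣ Nat.card G := hw' ▸ orderOf_dvd_natCard (w : G)
  by_cases h : q ∈ A
  · exact hA q h r (fun hr' => hrA (by simp [h, hr'])) hq hr hqG hrG ⟨_, hord⟩
  · have hr' : r ∈ A := by
      by_contra hr'
      exact hrA (by simp [h, hr'])
    exact hA r hr' q h hr hq hrG hqG ⟨_, hord.trans (mul_comm q r)⟩

/-- Let G and M be finite groups with trivial centres and the same set of conjugacy class sizes, and suppose the prime graph of M is disconnected: the prime divisors of #M split into two non-empty parts such that M has no element of order pq with p in one part and q in the other. Then #G = #M. -/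
theorem result {G M : Type*}
    [Group G] [Finite G] [Group M] [Finite M] (hZG : Subgroup.center G = ⊥) (hZM : Subgroup.center M = ⊥)
    (h : Set.range (fun g : G => (Subgroup.centralizer ({g} : Set G)).index) = Set.range (fun g : M => (Subgroup.centralizer ({g} : Set M)).index))
    (hdisc : ∃ A : Set ℕ, (∃ a ∈ A, a.Prime ∧ a ∣ Nat.card M) ∧ (∃ b ∉ A, b.Prime ∧ b ∣ Nat.card M) ∧
      ∀ a ∈ A, ∀ b ∉ A, a.Prime → b.Prime → a ∣ Nat.card M → b ∣ Nat.card M → ¬ ∃ x : M, orderOf x = a * b) :
    Nat.card G = Nat.card M := by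
  obtain ⟨A, ⟨a, haA, ha, hadvd⟩, ⟨b, hbA, hb, hbdvd⟩, hA⟩ := hdisc
  set n := Nat.card M with hn
  have hn0 : n ≠ 0 := Nat.card_pos.ne'
  have hGM : ∀ g : G, ∃ x : M, (Subgroup.centralizer ({x} : Set M)).index =
      (Subgroup.centralizer ({g} : Set G)).index := fun g => h.le ⟨g, rfl⟩
  have hMG : ∀ x : M, ∃ g : G, (Subgroup.centralizer ({g} : Set G)).index =
      (Subgroup.centralizer ({x} : Set M)).index := fun x => h.ge ⟨x, rfl⟩
  have hM1 : 1 < n := hb.one_lt.trans_le (Nat.le_of_dvd Nat.card_pos hbdvd)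
  have hMne : ∀ x : M, ¬ n ∣ (Subgroup.centralizer ({x} : Set M)).index := by
    intro x hdvd
    rcases eq_or_ne x 1 with rfl | hx
    · rw [Subgroup.centralizer_eq_top_iff_subset.2 (by simp [one_mem]), Subgroup.index_top,
        Nat.dvd_one] at hdvd
      omega
    · have h1 := card_mul x
      obtain ⟨c, hc⟩ := hdvd
      rw [hc, ← hn] at h1
      have hc1 : Nat.card (Subgroup.centralizer ({x} : Set M)) * c = 1 :=
        mul_left_cancel₀ hn0 (by rw [mul_one]; linarith [h1])
      have h2 := Subgroup.card_eq_one.1 (Nat.eq_one_of_mul_eq_one_right hc1)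
      exact hx (Subgroup.mem_bot.1 (h2 ▸ Subgroup.mem_centralizer_singleton_iff.2 rfl))
  have hMdi : ∀ x : M, x ≠ 1 → Full n (· ∈ A) (Subgroup.centralizer ({x} : Set M)).index ∨
      Full n (fun q => ¬ q ∈ A) (Subgroup.centralizer ({x} : Set M)).index := by
    intro x hx
    obtain ⟨q, hq, hqx⟩ := Nat.exists_prime_and_dvd (fun h1 => hx (orderOf_eq_one_iff.1 h1))
    by_cases hqA : q ∈ A
    · exact Or.inr fun r hr hrA => full_of_disconnected hA hq hqx r hr (by simp [hqA, hrA])
    · exact Or.inl fun r hr hrA => full_of_disconnected hA hq hqx r hr (by simp [hqA, hrA])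
  have hcent : ∀ {K : Type _} [Group K] (x : K), Subgroup.center K = ⊥ →
      (Subgroup.centralizer ({x} : Set K)).index = 1 → x = 1 := by
    intro K _ x hK hx
    rw [Subgroup.index_eq_one, Subgroup.centralizer_eq_top_iff_subset, Set.singleton_subset_iff,
      SetLike.mem_coe, hK, Subgroup.mem_bot] at hx
    exact hx
  have hGdvd : ∀ g : G, (Subgroup.centralizer ({g} : Set G)).index ∣ n := by
    intro g
    obtain ⟨x, hx⟩ := hGM g
    exact hx ▸ Subgroup.index_dvd_card _
  have hGne : ∀ g : G, ¬ n ∣ (Subgroup.centralizer ({g} : Set G)).index := by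
    intro g
    obtain ⟨x, hx⟩ := hGM g
    exact hx ▸ hMne x
  have hGdi : ∀ g : G, g ≠ 1 → Full n (· ∈ A) (Subgroup.centralizer ({g} : Set G)).index ∨
      Full n (fun q => ¬ q ∈ A) (Subgroup.centralizer ({g} : Set G)).index := by
    intro g hg
    obtain ⟨x, hx⟩ := hGM g
    rw [← hx]
    refine hMdi x fun hx1 => hg ?_
    rw [hx1, Subgroup.centralizer_eq_top_iff_subset.2 (by simp [one_mem]),
      Subgroup.index_top] at hx
    exact hcent g hZG hx.symm
  haveI := Fact.mk ha
  haveI := Fact.mk hb
  obtain ⟨xb, hxb⟩ := exists_prime_orderOf_dvd_card' b hbdvd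
  obtain ⟨xa, hxa⟩ := exists_prime_orderOf_dvd_card' a hadvd
  have hexA : ∃ g : G, Full n (· ∈ A) (Subgroup.centralizer ({g} : Set G)).index := by
    obtain ⟨g, hg⟩ := hMG xb
    exact ⟨g, hg ▸ fun r hr hrA =>
      full_of_disconnected hA hb (dvd_of_eq hxb.symm) r hr (by simp [hbA, hrA])⟩
  have hexB : ∃ g : G, Full n (fun q => ¬ q ∈ A) (Subgroup.centralizer ({g} : Set G)).index := by
    obtain ⟨g, hg⟩ := hMG xa
    exact ⟨g, hg ▸ fun r hr hrA =>
      full_of_disconnected hA ha (dvd_of_eq hxa.symm) r hr (by simp [haA, hrA])⟩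
  -- `n` divides `#G`
  have hnG : n ∣ Nat.card G := by
    refine (Nat.factorization_le_iff_dvd hn0 Nat.card_pos.ne').1 fun q => ?_
    by_cases hq : q.Prime
    · refine (hq.pow_dvd_iff_le_factorization Nat.card_pos.ne').1 ?_
      by_cases hqA : q ∈ A
      · obtain ⟨g, hg⟩ := hexA
        exact (hg q hq hqA).trans (Subgroup.index_dvd_card _)
      · obtain ⟨g, hg⟩ := hexB
        exact (hg q hq hqA).trans (Subgroup.index_dvd_card _)
    · simp [Nat.factorization_eq_zero_of_not_prime n hq]
  refine Nat.dvd_antisymm ((Nat.factorization_le_iff_dvd Nat.card_pos.ne' hn0).1 fun q => ?_) hnG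
  by_cases hq : q.Prime
  swap
  · simp [Nat.factorization_eq_zero_of_not_prime _ hq]
  haveI := Fact.mk hq
  by_cases hqn : n.factorization q = 0
  · -- every centralizer contains a Sylow subgroup
    by_contra hlt
    obtain ⟨P⟩ : Nonempty (Sylow q G) := inferInstance
    haveI : Nontrivial P := (Finite.one_lt_card_iff_nontrivial).1 (by
      rw [Sylow.card_eq_multiplicity]; exact Nat.one_lt_pow (by omega) hq.one_lt)
    haveI := P.isPGroup'.center_nontrivial
    have htop : Subgroup.centralizer ((P : Subgroup G) : Set G) = ⊤ := by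
      refine Lib.ClassSize.eq_top_of_forall_exists_conj_mem _ fun g => ?_
      set C := Subgroup.centralizer ({g} : Set G)
      obtain ⟨Q0⟩ : Nonempty (Sylow q C) := inferInstance
      have hCq : (Nat.card C).factorization q = (Nat.card G).factorization q := by
        have h1 := (Nat.factorization_le_iff_dvd (Subgroup.index_ne_zero_of_finite) hn0).2 (hGdvd g) q
        show (Nat.card (Subgroup.centralizer ({g} : Set G))).factorization q = _
        rw [← card_mul g, Nat.factorization_mul Nat.card_pos.ne' Subgroup.index_ne_zero_of_finite,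
          Finsupp.add_apply]
        omega
      set Q : Sylow q G := Sylow.ofCard ((Q0 : Subgroup C).map C.subtype) (by
        rw [Subgroup.card_subtype, Sylow.card_eq_multiplicity, hCq])
      obtain ⟨x, hx⟩ := MulAction.exists_smul_eq G Q P
      refine ⟨x, Subgroup.mem_centralizer_iff.2 fun y hy => ?_⟩
      rw [← hx] at hy
      obtain ⟨w, hw, rfl⟩ := Subgroup.mem_map.1 hy
      obtain ⟨w', -, rfl⟩ := Subgroup.mem_map.1 hw
      have := Subgroup.mem_centralizer_singleton_iff.1 w'.2
      show x * (w' : G) * x⁻¹ * (x * g * x⁻¹) = x * g * x⁻¹ * (x * (w' : G) * x⁻¹)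
      calc _ = x * ((w' : G) * g) * x⁻¹ := by group
        _ = x * (g * (w' : G)) * x⁻¹ := by rw [this]
        _ = _ := by group
    have hP : (P : Subgroup G) ≤ ⊥ := by
      rw [← hZG]
      exact Subgroup.centralizer_eq_top_iff_subset.1 htop
    obtain ⟨z, hz⟩ := exists_ne (1 : P)
    exact hz (Subtype.ext (Subgroup.mem_bot.1 (hP z.2)))
  · by_cases hqA : q ∈ A
    · exact factorization_le hn0 (· ∈ A) hGdvd hGne hnG hGdi hexA hqA (Nat.pos_of_ne_zero hqn)
    · refine factorization_le hn0 (fun r => ¬ r ∈ A) hGdvd hGne hnG (fun g hg => ?_) hexB hqA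
        (Nat.pos_of_ne_zero hqn)
      rcases hGdi g hg with h | h
      · exact Or.inr fun r hr hr' => h r hr (not_not.1 hr')
      · exact Or.inl h

end Cfsg.Agent.S4184
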