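import Cfsg.Statements.S4186
import Mathlib

set_option autoImplicit false
open Cfsg

namespace Cfsg.Agent.S4186

/-- Let T and X be subgroups of a group with T a finite 2-group normalizing X but not centralizing it. Then some element of T inverts some non-identity element of X under conjugation. -/
theorem result {G : Type*} [Group G] (T X : Subgroup G) [Finite ↥T] (hT : IsPGroup 2 ↥T) (hTN : T ≤ Subgroup.normalizer (X : Set G)) (hTC : ¬ T ≤ Subgroup.centralizer (X : Set G)) : ∃ t ∈ T, ∃ x ∈ X, x ≠ 1 ∧ t * x * t⁻¹ = x⁻¹ := by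
  obtain ⟨t, htT, htC⟩ := SetLike.not_le_iff_exists.1 hTC
  obtain ⟨k, hk⟩ := hT ⟨t, htT⟩
  have hk' : t ^ 2 ^ k = 1 := by simpa using congrArg Subtype.val hk
  classical
  have hex : ∃ j, t ^ 2 ^ j ∈ Subgroup.centralizer (X : Set G) := ⟨k, by rw [hk']; exact Subgroup.one_mem _⟩
  obtain ⟨s, hsT, hsC, hs2⟩ : ∃ s ∈ T, s ∉ Subgroup.centralizer (X : Set G) ∧
      s * s ∈ Subgroup.centralizer (X : Set G) := by
    have hj := Nat.find_spec hex
    rcases h : Nat.find hex with _ | j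
    · rw [h] at hj; exact absurd (by simpa using hj) htC
    · rw [h] at hj
      refine ⟨t ^ 2 ^ j, Subgroup.pow_mem _ htT _, Nat.find_min hex (by omega), ?_⟩
      rwa [← pow_add, ← two_mul, ← pow_succ']
  obtain ⟨x, hxX, hne⟩ : ∃ x ∈ X, s * x ≠ x * s := by
    by_contra hcon
    push Not at hcon
    exact hsC (Subgroup.mem_centralizer_iff.2 fun x hx => (hcon x hx).symm)
  have hsx : s * x * s⁻¹ ∈ X := (Subgroup.mem_normalizer_iff.1 (hTN hsT) x).1 hxX
  refine ⟨s, hsT, x⁻¹ * (s * x * s⁻¹), X.mul_mem (X.inv_mem hxX) hsx, ?_, ?_⟩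
  · intro h
    apply hne
    have h1 : s * x * s⁻¹ = x := (inv_mul_eq_one.1 h).symm
    calc s * x = (s * x * s⁻¹) * s := by group
      _ = x * s := by rw [h1]
  · have h2 : x * (s * s) = (s * s) * x := Subgroup.mem_centralizer_iff.1 hs2 x hxX
    calc s * (x⁻¹ * (s * x * s⁻¹)) * s⁻¹
        = (s * x⁻¹ * s⁻¹) * ((s * s) * x * (s * s)⁻¹) := by group
      _ = (s * x⁻¹ * s⁻¹) * x := by rw [← h2]; group
      _ = (x⁻¹ * (s * x * s⁻¹))⁻¹ := by group

end Cfsg.Agent.S4186
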