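import Cfsg.Statements.S4187
import Cfsg.Agent.Lib.RealGraph.Main
-- import your own Cfsg.Agent.* helpers here

set_option autoImplicit false
open Cfsg

namespace Cfsg.Agent.S4187

/-- Let G be a finite group. Call an element real when it is conjugate to its inverse, and consider the graph whose vertices are the primes dividing the size of some conjugacy class of real elements, two distinct primes being adjacent when their product divides such a class size. If this graph is disconnected — its vertex set splits into two non-empty parts such that no real class size is divisible by a prime from each part — then G is solvable. -/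
theorem result {G : Type*} [Group G] [Finite G] (π₁ π₂ : Set ℕ) (h₁ : π₁.Nonempty) (h₂ : π₂.Nonempty) (hcover : ∀ q : ℕ, q.Prime → (∃ n ∈ {n : ℕ | ∃ x : G, IsConj x x⁻¹ ∧ (Subgroup.centralizer ({x} : Set G)).index = n}, q ∣ n) → q ∈ π₁ ∨ q ∈ π₂) (hsub : ∀ q ∈ π₁ ∪ π₂, q.Prime ∧ ∃ n ∈ {n : ℕ | ∃ x : G, IsConj x x⁻¹ ∧ (Subgroup.centralizer ({x} : Set G)).index = n}, q ∣ n) (hdisj : Disjoint π₁ π₂) (hnoedge : ∀ a ∈ π₁, ∀ b ∈ π₂, ∀ n ∈ {n : ℕ | ∃ x : G, IsConj x x⁻¹ ∧ (Subgroup.centralizer ({x} : Set G)).index = n}, ¬ (a ∣ n ∧ b ∣ n)) : Group.IsSolvable G := by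
  have main : ∀ A B : Set ℕ, A.Nonempty → 2 ∉ A →
      (∀ r : ℕ, r.Prime → ∀ x : G, IsConj x x⁻¹ →
        r ∣ (Subgroup.centralizer ({x} : Set G)).index → r ∈ A ∨ r ∈ B) →
      (∀ r ∈ A, r.Prime ∧ ∃ x : G, IsConj x x⁻¹ ∧
        r ∣ (Subgroup.centralizer ({x} : Set G)).index) →
      (∀ a ∈ A, ∀ b ∈ B, ∀ x : G, IsConj x x⁻¹ →
        a ∣ (Subgroup.centralizer ({x} : Set G)).index →
        ¬ b ∣ (Subgroup.centralizer ({x} : Set G)).index) →
      Group.IsSolvable G := by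
    intro A B hA h2A hc hs hne
    refine Cfsg.Agent.Lib.RealGraph.PureHyp.isSolvable (π := A) ⟨h2A, ?_, ?_⟩
    · intro x g hg q hq hqA hqd r hr hrd
      have hx : IsConj x x⁻¹ := isConj_iff.mpr ⟨g, hg⟩
      rcases hc r hr x hx hrd with h | h
      · exact h
      · exact absurd hrd (hne q hqA r h x hx hqd)
    · obtain ⟨q, hq⟩ := hA
      obtain ⟨hqp, x, hx, hxd⟩ := hs q hq
      obtain ⟨g, hg⟩ := isConj_iff.mp hx
      exact ⟨x, g, hg, q, hqp, hq, hxd⟩
  have hc : ∀ r : ℕ, r.Prime → ∀ x : G, IsConj x x⁻¹ →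
      r ∣ (Subgroup.centralizer ({x} : Set G)).index → r ∈ π₁ ∨ r ∈ π₂ :=
    fun r hr x hx hd => hcover r hr ⟨_, ⟨x, hx, rfl⟩, hd⟩
  have hs : ∀ r ∈ π₁ ∪ π₂, r.Prime ∧ ∃ x : G, IsConj x x⁻¹ ∧
      r ∣ (Subgroup.centralizer ({x} : Set G)).index := by
    intro r hr
    obtain ⟨hp, n, ⟨x, hx, rfl⟩, hd⟩ := hsub r hr
    exact ⟨hp, x, hx, hd⟩
  by_cases h2 : 2 ∈ π₂
  · exact main π₁ π₂ h₁ (fun h => Set.disjoint_left.mp hdisj h h2) hc
      (fun r hr => hs r (Or.inl hr))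
      (fun a ha b hb x hx had hbd => hnoedge a ha b hb _ ⟨x, hx, rfl⟩ ⟨had, hbd⟩)
  · exact main π₂ π₁ h₂ h2 (fun r hr x hx hd => (hc r hr x hx hd).symm)
      (fun r hr => hs r (Or.inr hr))
      (fun a ha b hb x hx had hbd => hnoedge b hb a ha _ ⟨x, hx, rfl⟩ ⟨hbd, had⟩)

end Cfsg.Agent.S4187
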