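import Cfsg.Statements.S4188
import Cfsg.Agent.Lib.Puig.Basic
import Cfsg.Agent.Lib.Core.Nilpotent
import Cfsg.Agent.Lib.PLemmas.NormalRankTwo

set_option autoImplicit false
open Cfsg

namespace Cfsg.Agent.S4188

open Subgroup

section Squares

variable {S : Type*} [Group S]

/-- The subgroup generated by the squares. -/
def sq (S : Type*) [Group S] : Subgroup S := closure (Set.range fun x : S => x ^ 2)

theorem sq_mem (x : S) : x ^ 2 ∈ sq S := subset_closure ⟨x, rfl⟩

instance sq_normal : (sq S).Normal := by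
  refine ⟨fun n hn g => ?_⟩
  refine closure_induction (p := fun n _ => g * n * g⁻¹ ∈ sq S) ?_ ?_ ?_ ?_ hn
  · rintro _ ⟨x, rfl⟩
    simp only
    rw [← conj_pow]
    exact sq_mem _
  · simp
  · intro a b _ _ ha hb
    rw [show g * (a * b) * g⁻¹ = g * a * g⁻¹ * (g * b * g⁻¹) by group]
    exact mul_mem ha hb
  · intro a _ ha
    rw [show g * a⁻¹ * g⁻¹ = (g * a * g⁻¹)⁻¹ by group]
    exact inv_mem ha

theorem map_sq {T : Type*} [Group T] (f : S →* T) :
    (sq S).map f = closure (Set.range fun x : S => (f x) ^ 2) := by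
  rw [sq, MonoidHom.map_closure, ← Set.range_comp]
  congr 2
  funext x
  simp

theorem sq_map_le (K : Subgroup S) : (sq K).map K.subtype ≤ sq S := by
  rw [map_sq, closure_le]
  rintro _ ⟨x, rfl⟩
  exact sq_mem _

theorem index_sup_sq_eq {T : Type*} [Group T] (f : S →* T) (hf : Function.Surjective f) :
    (sq T).index = (sq S ⊔ f.ker).index := by
  have : (sq S).map f = sq T := by
    rw [map_sq]
    congr 1
    ext y
    constructor
    · rintro ⟨x, rfl⟩; exact ⟨f x, rfl⟩
    · rintro ⟨x, rfl⟩
      obtain ⟨x, rfl⟩ := hf x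
      exact ⟨x, rfl⟩
  rw [← this, index_map, MonoidHom.range_eq_top.2 hf, index_top, mul_one]

/-- Squares of a group against those of a subgroup and of a quotient. -/
theorem index_sq_le [Finite S] (X : Subgroup S) {T : Type*} [Group T] (f : S →* T)
    (hf : Function.Surjective f) (hX : f.ker ≤ X ⊔ sq S) (hXT : X ≤ f.ker) :
    (sq S).index ≤ (sq X).index * (sq T).index := by
  have h1 : sq S ⊔ X = sq S ⊔ f.ker :=
    le_antisymm (sup_le_sup_left hXT _) (sup_le le_sup_left (hX.trans_eq (sup_comm _ _)))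
  have h2 : (sq S).relIndex (sq S ⊔ X) * (sq S ⊔ X).index = (sq S).index :=
    relIndex_mul_index le_sup_left
  have h3 : (sq S).relIndex (sq S ⊔ X) ≤ (sq X).index := by
    rw [sup_comm, relIndex_sup_right]
    calc (sq S).relIndex X = ((sq S).subgroupOf X).index := rfl
      _ ≤ (sq X).index := by
        refine Nat.le_of_dvd (Nat.pos_of_ne_zero FiniteIndex.index_ne_zero)
          (index_dvd_of_le ?_)
        intro x hx
        exact mem_subgroupOf.2 (sq_map_le X (mem_map_of_mem _ hx))
  rw [← h2, index_sup_sq_eq f hf, ← h1]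
  exact Nat.mul_le_mul_right _ h3

theorem index_sq_le_ker [Finite S] {T : Type*} [Group T] (f : S →* T) :
    (sq S).index ≤ (sq f.ker).index * (sq f.range).index := by
  have h : f.rangeRestrict.ker = f.ker := MonoidHom.ker_rangeRestrict f
  exact index_sq_le f.ker f.rangeRestrict f.rangeRestrict_surjective
    (h ▸ le_sup_left) (h.ge)

theorem index_sq_le_card [Finite S] : (sq S).index ≤ Nat.card S :=
  Nat.le_of_dvd Nat.card_pos (index_dvd_card _)

/-- In an abelian group the squares have index at most the number of involutions plus one. -/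
theorem index_sq_le_of_comm [Finite S] (hc : ∀ a b : S, a * b = b * a) :
    (sq S).index ≤ Nat.card {x : S // x ^ 2 = 1} := by
  let f : S →* S := MonoidHom.mk' (fun x => x ^ 2) fun a b => (Commute.mul_pow (hc a b) 2)
  have h1 : f.range ≤ sq S := by rintro _ ⟨x, rfl⟩; exact sq_mem x
  have h2 : f.range.index = Nat.card f.ker := by
    have e1 := f.range.card_mul_index
    have e2 := f.ker.card_mul_index
    rw [index_ker] at e2
    exact Nat.eq_of_mul_eq_mul_left Nat.card_pos (e1.trans (e2.symm.trans (mul_comm _ _)))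
  calc (sq S).index ≤ f.range.index :=
        Nat.le_of_dvd (Nat.pos_of_ne_zero FiniteIndex.index_ne_zero) (index_dvd_of_le h1)
    _ = Nat.card f.ker := h2
    _ = _ := rfl

theorem index_sq_le_two_of_cyclic [Finite S] [IsCyclic S] : (sq S).index ≤ 2 := by
  classical
  haveI := Fintype.ofFinite S
  refine (index_sq_le_of_comm fun a b => ?_).trans ?_
  · letI := IsCyclic.commGroup (α := S); exact mul_comm a b
  · rw [Nat.card_eq_fintype_card, Fintype.card_subtype]
    exact IsCyclic.card_pow_eq_one_le (by norm_num)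

theorem sq_le_frattini [Finite S] (hS : IsPGroup 2 S) : sq S ≤ frattini S := by
  refine le_iInf fun M => le_iInf fun (hM : IsCoatom M) => ?_
  rw [sq, closure_le]
  rintro _ ⟨x, rfl⟩
  haveI := hS.isNilpotent
  haveI : M.Normal := NormalizerCondition.normal_of_coatom M normalizerCondition_of_isNilpotent hM
  have hidx : M.index = 2 := by
    obtain ⟨k, hk⟩ := hS.index M
    have hk0 : k ≠ 0 := by
      rintro rfl
      exact hM.1 (index_eq_one.1 hk)
    have h2 : 2 ∣ Nat.card (S ⧸ M) := by
      rw [← index_eq_card, hk]; exact dvd_pow_self _ hk0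
    obtain ⟨q, hq⟩ := exists_prime_orderOf_dvd_card' 2 h2
    induction q using QuotientGroup.induction_on with
    | _ a =>
      have ha : a ∉ M := by
        intro ha
        rw [(QuotientGroup.eq_one_iff a).2 ha, orderOf_one] at hq
        norm_num at hq
      have htop : M ⊔ zpowers a = ⊤ :=
        hM.2 _ (lt_of_le_of_ne le_sup_left fun h =>
          ha (h ▸ mem_sup_right (mem_zpowers a)))
      have hgen : ∀ q : S ⧸ M, q ∈ zpowers (QuotientGroup.mk a : S ⧸ M) := by
        intro q
        induction q using QuotientGroup.induction_on with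
        | _ g =>
          have hg : g ∈ M ⊔ zpowers a := htop ▸ Subgroup.mem_top g
          rw [mem_sup_of_normal_left] at hg
          obtain ⟨m, hm, z, ⟨i, rfl⟩, rfl⟩ := hg
          refine ⟨i, ?_⟩
          rw [QuotientGroup.mk_mul, (QuotientGroup.eq_one_iff m).2 hm, one_mul]
          exact (map_zpow (QuotientGroup.mk' M) a i).symm
      rw [index_eq_card, ← hq, ← Nat.card_zpowers, (eq_top_iff' _).2 hgen, card_top]
  exact Subgroup.sq_mem_of_index_two hidx x

end Squares

section Action

variable {V : Type*} [CommGroup V] [Finite V]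

/-- The points fixed by an automorphism. -/
def fix (a : MulAut V) : Subgroup V where
  carrier := {v | a v = v}
  one_mem' := map_one a
  mul_mem' {x y} hx hy := by
    show a (x * y) = x * y
    rw [map_mul, show a x = x from hx, show a y = y from hy]
  inv_mem' {x} hx := by
    show a x⁻¹ = x⁻¹
    rw [map_inv, show a x = x from hx]

/-- Restriction of an action to an invariant subgroup. -/
noncomputable def res {S : Type*} [Group S] (φ : S →* MulAut V) (W : Subgroup V)
    (hW : ∀ s, ∀ v ∈ W, φ s v ∈ W) : S →* MulAut W where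
  toFun s :=
    { toFun := fun v => ⟨φ s v, hW s v v.2⟩
      invFun := fun v => ⟨φ s⁻¹ v, hW _ v v.2⟩
      left_inv := fun v => by
        apply Subtype.ext
        show φ s⁻¹ (φ s v) = v
        rw [map_inv]; exact MulAut.inv_apply_self V (φ s) v
      right_inv := fun v => by
        apply Subtype.ext
        show φ s (φ s⁻¹ v) = v
        rw [map_inv]; exact MulAut.apply_inv_self V (φ s) v
      map_mul' := fun v w => by apply Subtype.ext; simp }
  map_one' := by ext v; simp
  map_mul' s t := by ext v; simp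

theorem res_eq_one {S : Type*} [Group S] (φ : S →* MulAut V) (W : Subgroup V)
    (hW : ∀ s, ∀ v ∈ W, φ s v ∈ W) {s : S} : res φ W hW s = 1 ↔ ∀ v ∈ W, φ s v = v := by
  constructor
  · intro h v hv
    exact congrArg Subtype.val (DFunLike.congr_fun h ⟨v, hv⟩)
  · intro h
    ext v
    exact h v v.2

/-- Action on the quotient by an invariant subgroup. -/
noncomputable def quot {S : Type*} [Group S] (φ : S →* MulAut V) (W : Subgroup V)
    (hW : ∀ s, ∀ v ∈ W, φ s v ∈ W) : S →* MulAut (V ⧸ W) :=
  have key : ∀ s, W.map ((φ s : V ≃* V) : V →* V) = W := fun s => by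
    refine le_antisymm ?_ fun v hv => ⟨φ s⁻¹ v, hW _ v hv, ?_⟩
    · rintro _ ⟨v, hv, rfl⟩
      exact hW s v hv
    · show φ s (φ s⁻¹ v) = v
      rw [map_inv]; exact MulAut.apply_inv_self V (φ s) v
  { toFun := fun s => QuotientGroup.congr W W (φ s) (key s)
    map_one' := by
      ext q
      induction q using QuotientGroup.induction_on with
      | _ v => simp
    map_mul' := fun s t => by
      ext q
      induction q using QuotientGroup.induction_on with
      | _ v => simp }

theorem eq_one_of_chain {a : MulAut V} (W : Subgroup V) (h1 : ∀ v ∈ W, a v = v)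
    (h2 : ∀ v, v⁻¹ * a v ∈ W) (ha : ∃ k : ℕ, a ^ 2 ^ k = 1) (hodd : Odd (Nat.card V)) : a = 1 := by
  obtain ⟨k, hk⟩ := ha
  ext v
  have hiter : ∀ n : ℕ, (a ^ n) v = v * (v⁻¹ * a v) ^ n := by
    intro n
    induction n with
    | zero => simp
    | succ n ih =>
      rw [pow_succ', MulAut.mul_apply, ih, map_mul, map_pow, h1 _ (h2 v), pow_succ']
      rw [← mul_assoc v, mul_inv_cancel_left]
  have h3 : (v⁻¹ * a v) ^ 2 ^ k = 1 := by
    have := hiter (2 ^ k)
    rw [hk] at this
    simpa using this
  have h4 : v⁻¹ * a v = 1 :=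
    orderOf_eq_one_iff.1 (Nat.eq_one_of_dvd_coprimes
      ((Nat.coprime_two_left.2 hodd).pow_left k) (orderOf_dvd_of_pow_eq_one h3)
      (orderOf_dvd_natCard _))
  simpa using (inv_mul_eq_one.1 h4).symm

theorem eq_inv_of_fix_bot {a : MulAut V} (h : fix a = ⊥) (ha : a * a = 1) (v : V) :
    a v = v⁻¹ := by
  have : v * a v ∈ fix a := by
    show a (v * a v) = v * a v
    rw [map_mul, ← MulAut.mul_apply, ha, MulAut.one_apply, mul_comm]
  rw [h, mem_bot] at this
  exact eq_inv_of_mul_eq_one_right this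

end Action

theorem exists_central_of_normal {S : Type*} [Group S] [Finite S] (hS : IsPGroup 2 S)
    (N : Subgroup S) [N.Normal] (hN : N ≠ ⊥) : ∃ z : S, z ≠ 1 ∧ z ∈ N ∧ z ∈ center S := by
  haveI := hS.isNilpotent
  obtain ⟨z, hz, hz1⟩ := (Subgroup.bot_or_exists_ne_one (N ⊓ center S)).resolve_left
    (Cfsg.Agent.Lib.Nilp.inf_center_ne_bot_of_normal hN)
  exact ⟨z, hz1, (mem_inf.1 hz).1, (mem_inf.1 hz).2⟩

/-- At most four square roots of one modulo a power of two. -/
theorem card_sq_roots_le (k : ℕ) : Nat.card {u : (ZMod (2 ^ k))ˣ // u ^ 2 = 1} ≤ 4 := by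
  haveI : NeZero (2 ^ k) := ⟨by positivity⟩
  rcases le_or_gt k 2 with hk | hk
  · refine (Finite.card_subtype_le _).trans ?_
    rw [Nat.card_eq_fintype_card, ZMod.card_units_eq_totient]
    interval_cases k <;> decide
  set h : ℤ := 2 ^ (k - 1) with hh
  have hk2 : (2 : ℤ) ^ k = h * 2 := by rw [hh, ← pow_succ]; congr 1; omega
  let S4 : Finset (ZMod (2 ^ k)) :=
    {1, ((1 + h : ℤ) : ZMod (2 ^ k)), -1, ((-1 + h : ℤ) : ZMod (2 ^ k))}
  have hmem : ∀ u : (ZMod (2 ^ k))ˣ, u ^ 2 = 1 → (u : ZMod (2 ^ k)) ∈ S4 := by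
    intro u hu
    obtain ⟨x, hx⟩ := ZMod.intCast_surjective (u : ZMod (2 ^ k))
    have h1 : ((x ^ 2 - 1 : ℤ) : ZMod (2 ^ k)) = 0 := by
      rw [Int.cast_sub, Int.cast_pow, hx, Int.cast_one, ← Units.val_pow_eq_pow_val, hu]; simp
    rw [ZMod.intCast_zmod_eq_zero_iff_dvd, Nat.cast_pow, Nat.cast_ofNat] at h1
    have hhdvd : ∀ c : ℤ, x = c + h * ((x - c) / h) → ((2:ℤ) ∣ (x - c) / h →
        (x : ZMod (2 ^ k)) = c) ∧ (¬ (2:ℤ) ∣ (x - c) / h → (x : ZMod (2 ^ k)) = ((c + h : ℤ))) := by
      intro c hc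
      have hzero : ∀ z : ℤ, ((h * (2 * z) : ℤ) : ZMod (2 ^ k)) = 0 := by
        intro z
        rw [ZMod.intCast_zmod_eq_zero_iff_dvd, Nat.cast_pow, Nat.cast_ofNat, hk2]
        exact ⟨z, by ring⟩
      constructor
      · rintro ⟨z, hz⟩
        rw [hc, hz, Int.cast_add, hzero, add_zero]
      · intro hn
        obtain ⟨z, hz⟩ : Odd ((x - c) / h) := Int.not_even_iff_odd.1 (fun he => hn he.two_dvd)
        rw [hc, hz, show c + h * (2 * z + 1) = (c + h) + h * (2 * z) by ring, Int.cast_add, hzero,
          add_zero]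
    -- `h` divides one of `x - 1` and `x + 1`
    have hdvd : h ∣ x - 1 ∨ h ∣ x + 1 := by
      have hprod : (2 : ℤ) ^ k ∣ (x - 1) * (x + 1) := by
        rw [show (x - 1) * (x + 1) = x ^ 2 - 1 by ring]; exact h1
      obtain ⟨y, rfl⟩ : ∃ y, x = 2 * y + 1 := by
        rcases Int.even_or_odd x with ⟨y, rfl⟩ | ho
        · exfalso
          obtain ⟨c, hc⟩ := (dvd_pow_self (2 : ℤ) (by omega : k ≠ 0)).trans h1
          have : (2 : ℤ) * (2 * y ^ 2 - c) = 1 := by linarith [show (y + y) ^ 2 = 4 * y ^ 2 by ring]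
          omega
        · exact ho
      have hh2 : h = (2 : ℤ) ^ (k - 2) * 2 := by rw [hh, ← pow_succ]; congr 1; omega
      have h4 : (2 : ℤ) ^ k = (2 : ℤ) ^ (k - 2) * 4 := by
        rw [show (4 : ℤ) = 2 ^ 2 by norm_num, ← pow_add]; congr 1; omega
      have h2 : (2 : ℤ) ^ (k - 2) ∣ y * (y + 1) := by
        rw [h4, show (2 * y + 1 - 1) * (2 * y + 1 + 1) = y * (y + 1) * 4 by ring] at hprod
        exact Int.dvd_of_mul_dvd_mul_right (by norm_num) hprod
      rcases Int.even_or_odd y with he | ho
      · left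
        have hc : ¬ (2 : ℤ) ∣ y + 1 := by rintro ⟨c, hc⟩; obtain ⟨d, rfl⟩ := he; omega
        obtain ⟨z, hz⟩ := (IsCoprime.pow_left
          ((Int.prime_two).coprime_iff_not_dvd.2 hc)).dvd_of_dvd_mul_right h2
        exact ⟨z, by rw [hh2, hz]; ring⟩
      · right
        have hc : ¬ (2 : ℤ) ∣ y := by rintro ⟨c, hc⟩; obtain ⟨d, rfl⟩ := ho; omega
        obtain ⟨z, hz⟩ := (IsCoprime.pow_left
          ((Int.prime_two).coprime_iff_not_dvd.2 hc)).dvd_of_dvd_mul_left h2
        exact ⟨z, by rw [show 2 * y + 1 + 1 = 2 * (y + 1) by ring, hz, hh2]; ring⟩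
    simp only [S4, Finset.mem_insert, Finset.mem_singleton]
    rw [← hx]
    rcases hdvd with hd | hd
    · have hc := hhdvd 1 (by rw [Int.mul_ediv_cancel' hd]; ring)
      by_cases h2 : (2:ℤ) ∣ (x - 1) / h
      · exact Or.inl (by simpa using hc.1 h2)
      · exact Or.inr (Or.inl (hc.2 h2))
    · have hd' : h ∣ x - -1 := by rwa [sub_neg_eq_add]
      have hc := hhdvd (-1) (by rw [Int.mul_ediv_cancel' hd']; ring)
      by_cases h2 : (2:ℤ) ∣ (x - -1) / h
      · exact Or.inr (Or.inr (Or.inl (by simpa using hc.1 h2)))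
      · exact Or.inr (Or.inr (Or.inr (hc.2 h2)))
  refine (Nat.card_le_card_of_injective
    (fun u : {u : (ZMod (2 ^ k))ˣ // u ^ 2 = 1} => (⟨_, hmem u.1 u.2⟩ : S4))
    fun u v e => Subtype.ext (Units.ext (congrArg Subtype.val e))).trans ?_
  rw [Nat.card_eq_finsetCard]
  exact Finset.card_le_four

open Subgroup in
theorem main : ∀ (a : ℕ) {V : Type} [CommGroup V] [Finite V], Nat.card V = a → Odd a → 1 < a →
    ∀ {S : Type} [Group S] [Finite S], IsPGroup 2 S →
    ∀ φ : S →* MulAut V, Function.Injective φ →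
    (sq S).index ≤ a - 1 ∧ (3 < a → 2 * (sq S).index ≤ a - 1) := by
  intro a
  induction a using Nat.strong_induction_on with
  | _ a ih =>
  intro V _ _ hV hodd ha1 S _ _ hS φ hφ
  classical
  have hVodd : Odd (Nat.card V) := hV ▸ hodd
  have h2pow : ∀ s : S, ∃ k : ℕ, (φ s) ^ 2 ^ k = 1 := fun s => by
    obtain ⟨k, hk⟩ := hS s
    exact ⟨k, by rw [← map_pow, hk, map_one]⟩
  have hinj : ∀ s : S, (∀ v, φ s v = v) → s = 1 := fun s h =>
    hφ (by rw [map_one]; exact MulEquiv.ext h)
  by_cases ha3 : a = 3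
  · subst ha3
    haveI : Fact (Nat.Prime 3) := ⟨Nat.prime_three⟩
    haveI : IsCyclic V := isCyclic_of_prime_card hV
    have hc : Nat.card (MulAut V) = 2 := by
      rw [IsCyclic.card_mulAut, hV]; decide
    refine ⟨?_, fun h => absurd h (lt_irrefl 3)⟩
    calc (sq S).index ≤ Nat.card S := index_sq_le_card
      _ ≤ Nat.card (MulAut V) := Nat.card_le_card_of_injective φ hφ
      _ ≤ 3 - 1 := by rw [hc]
  have ha3' : 3 < a := by
    obtain ⟨c, rfl⟩ := hodd
    omega
  suffices H : 2 * (sq S).index ≤ a - 1 from ⟨by omega, fun _ => H⟩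
  -- a product bound for the reducible case
  have hprod : ∀ b c f g : ℕ, b * c = a → Odd b → Odd c → 1 < b → 1 < c →
      (f ≤ b - 1 ∧ (3 < b → 2 * f ≤ b - 1)) → (g ≤ c - 1 ∧ (3 < c → 2 * g ≤ c - 1)) →
      2 * (f * g) ≤ a - 1 := by
    rintro b c f g rfl ⟨b', rfl⟩ ⟨c', rfl⟩ hb hc ⟨hf, hf'⟩ ⟨hg, hg'⟩
    rcases Nat.lt_or_ge 3 (2 * b' + 1) with hb3 | hb3
    · have := hf' hb3
      have h1 : f ≤ b' := by omega
      have h2 : g ≤ 2 * c' := by omega
      have := Nat.mul_le_mul h1 h2
      have e : (2 * b' + 1) * (2 * c' + 1) - 1 = 4 * (b' * c') + 2 * b' + 2 * c' := by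
        have : (2 * b' + 1) * (2 * c' + 1) = 4 * (b' * c') + 2 * b' + 2 * c' + 1 := by ring
        omega
      rw [e]
      have e2 : b' * (2 * c') = 2 * (b' * c') := by ring
      omega
    · have hb' : b' = 1 := by omega
      subst hb'
      rcases Nat.lt_or_ge 3 (2 * c' + 1) with hc3 | hc3
      · have := hg' hc3
        have h1 : g ≤ c' := by omega
        have := Nat.mul_le_mul (show f ≤ 2 by omega) h1
        omega
      · have hc' : c' = 1 := by omega
        subst hc'
        have := Nat.mul_le_mul (show f ≤ 2 by omega) (show g ≤ 2 by omega)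
        omega
  -- the reducible case
  by_cases hred : ∃ W : Subgroup V, (∀ s, ∀ v ∈ W, φ s v ∈ W) ∧ W ≠ ⊥ ∧ W ≠ ⊤
  · obtain ⟨W, hW, hW1, hW2⟩ := hred
    set r := res φ W hW with hr
    set q := quot φ W hW with hq
    have hbc : Nat.card W * W.index = a := by rw [W.card_mul_index, hV]
    have hb1 : 1 < Nat.card W := (one_lt_card_iff_ne_bot W).2 hW1
    have hc1 : 1 < W.index := by
      have := index_eq_one.not.2 hW2
      have : W.index ≠ 0 := FiniteIndex.index_ne_zero
      omega
    have hob : Odd (Nat.card W) := Nat.Odd.of_mul_left (show Odd (Nat.card W * W.index) by rw [hbc]; exact hodd)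
    have hoc : Odd W.index := Nat.Odd.of_mul_right (show Odd (Nat.card W * W.index) by rw [hbc]; exact hodd)
    have hbl : Nat.card W < a := by
      rw [← hbc]; exact lt_mul_of_one_lt_right (by omega) hc1
    have hcl : W.index < a := by
      rw [← hbc]; exact lt_mul_of_one_lt_left (by omega) hb1
    have hinjk : Function.Injective (q.comp r.ker.subtype) := by
      rw [injective_iff_map_eq_one]
      intro s hs
      refine Subtype.ext (hinj (s : S) fun v => ?_)
      have h1 : ∀ w ∈ W, φ s w = w := (res_eq_one φ W hW).1 (MonoidHom.mem_ker.1 s.2)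
      have h2 : ∀ w, w⁻¹ * φ s w ∈ W := fun w => by
        have := DFunLike.congr_fun hs (QuotientGroup.mk w : V ⧸ W)
        exact QuotientGroup.eq.1 this.symm
      rw [eq_one_of_chain W h1 h2 (h2pow _) hVodd]
      rfl
    have h1 := ih (Nat.card W) hbl (V := W) rfl hob hb1 (S := r.range)
      (hS.of_surjective r.rangeRestrict r.rangeRestrict_surjective) r.range.subtype
      r.range.subtype_injective
    have h2 := ih W.index hcl (V := V ⧸ W) rfl hoc hc1 (S := r.ker) (hS.to_subgroup _) _ hinjk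
    calc 2 * (sq S).index ≤ 2 * ((sq r.ker).index * (sq r.range).index) :=
          Nat.mul_le_mul_left 2 (index_sq_le_ker r)
      _ = 2 * ((sq r.range).index * (sq r.ker).index) := by rw [mul_comm (sq r.ker).index]
      _ ≤ a - 1 := hprod _ _ _ _ hbc hob hoc hb1 hc1 h1 h2
  push Not at hred
  have hirr : ∀ W : Subgroup V, (∀ s, ∀ v ∈ W, φ s v ∈ W) → W = ⊥ ∨ W = ⊤ := fun W hW =>
    or_iff_not_imp_left.2 (hred W hW)
  -- a central involution inverts everything
  have hcent : ∀ z ∈ center S, z ^ 2 = 1 → z ≠ 1 → ∀ v, φ z v = v⁻¹ := by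
    intro z hz hz2 hz1
    refine eq_inv_of_fix_bot ?_ (by rw [← map_mul, ← pow_two, hz2, map_one])
    refine (hirr (fix (φ z)) fun s v (hv : φ z v = v) => ?_).resolve_right ?_
    · show φ z (φ s v) = φ s v
      rw [← MulAut.mul_apply, ← map_mul, ← mem_center_iff.1 hz s, map_mul, MulAut.mul_apply, hv]
    · intro h
      exact hz1 (hinj z fun v => (show v ∈ fix (φ z) by rw [h]; exact Subgroup.mem_top v))
  have hcent1 : ∀ z z' : S, z ∈ center S → z' ∈ center S → z ^ 2 = 1 → z' ^ 2 = 1 → z ≠ 1 →
      z' ≠ 1 → z = z' := fun z z' hz hz' h h' hz1 hz1' =>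
    hφ (MulEquiv.ext fun v => by rw [hcent z hz h hz1 v, hcent z' hz' h' hz1' v])
  haveI := hS.isNilpotent
  -- is there a non-cyclic abelian normal subgroup?
  by_cases hnc : ∃ A : Subgroup S, A.Normal ∧ IsMulCommutative A ∧ ¬ IsCyclic A
  · -- imprimitive case
    obtain ⟨A, hAn, hAc, hA⟩ := hnc
    haveI := hAn
    haveI := hAc
    have hmul : ∀ x ∈ A, ∀ y ∈ A, x * y = y * x := fun x hx y hy =>
      setLike_mul_comm hx hy
    let E : Subgroup S :=
      { carrier := {x | x ∈ A ∧ x ^ 2 = 1}
        one_mem' := ⟨one_mem A, one_pow 2⟩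
        mul_mem' := fun {x y} hx hy => ⟨mul_mem hx.1 hy.1, by
          rw [Commute.mul_pow (hmul x hx.1 y hy.1), hx.2, hy.2, one_mul]⟩
        inv_mem' := fun {x} hx => ⟨inv_mem hx.1, by rw [inv_pow, hx.2, inv_one]⟩ }
    haveI hEn : E.Normal := ⟨fun x hx g => ⟨hAn.conj_mem x hx.1 g, by
      rw [conj_pow, hx.2, mul_one, mul_inv_cancel]⟩⟩
    obtain ⟨hEbig⟩ : Nonempty (∃ x y : S, x ∈ E ∧ y ∈ E ∧ x ≠ 1 ∧ y ≠ 1 ∧ x ≠ y) := by
      refine ⟨?_⟩
      by_contra hsmall
      push Not at hsmall
      apply hA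
      haveI : Fintype A := Fintype.ofFinite A
      letI : CommGroup A := { (inferInstance : Group A) with mul_comm := fun x y => Subtype.ext (hmul x x.2 y y.2) }
      refine isCyclic_of_card_pow_eq_one_le fun n hn => ?_
      obtain ⟨k, hk⟩ := IsPGroup.iff_card.1 (hS.to_subgroup A)
      -- the kernel of squaring has order at most two
      have hker : Nat.card (powMonoidHom 2 : A →* A).ker ≤ 2 := by
        rw [Nat.card_eq_fintype_card]
        by_contra h
        obtain ⟨u, v, w, huv, huw, hvw⟩ := Fintype.two_lt_card_iff.1 (not_le.1 h)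
        have hmem : ∀ u : (powMonoidHom 2 : A →* A).ker, ((u : A) : S) ∈ E := fun u =>
          ⟨(u : A).2, congrArg Subtype.val (MonoidHom.mem_ker.1 u.2)⟩
        have hne : ∀ u v : (powMonoidHom 2 : A →* A).ker, u ≠ v → ((u : A) : S) ≠ ((v : A) : S) :=
          fun u v h e => h (Subtype.ext (Subtype.ext e))
        by_cases hu : ((u : A) : S) = 1
        · exact hne v w hvw (hsmall _ _ (hmem v) (hmem w) (fun e => hne v u huv.symm (e.trans hu.symm))
            (fun e => hne w u huw.symm (e.trans hu.symm)))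
        · by_cases hv : ((v : A) : S) = 1
          · exact hne u w huw (hsmall _ _ (hmem u) (hmem w) hu
              (fun e => hne w v hvw.symm (e.trans hv.symm)))
          · exact hne u v huv (hsmall _ _ (hmem u) (hmem v) hu hv)
      haveI : IsCyclic A := Cfsg.Agent.Lib.PLemmas.isCyclic_of_card_ker_le (p := 2) (hS.to_subgroup A) hker
      exact IsCyclic.card_pow_eq_one_le hn
    obtain ⟨x₀, y₀, hx₀, hy₀, hx₀1, hy₀1, hxy⟩ := hEbig
    -- an element of E outside the centre whose conjugates differ by central elements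
    obtain ⟨w, hwE, hwZ, hwc⟩ : ∃ w ∈ E, w ∉ center S ∧
        ∀ g : S, g * w * g⁻¹ * w⁻¹ ∈ center S := by
      have hEZ : ¬ E ≤ center S := fun h =>
        hxy (hcent1 _ _ (h hx₀) (h hy₀) hx₀.2 hy₀.2 hx₀1 hy₀1)
      set π := QuotientGroup.mk' (center S)
      haveI : (E.map π).Normal := hEn.map π (QuotientGroup.mk'_surjective _)
      have hne : E.map π ≠ ⊥ := by
        rw [Ne, Subgroup.map_eq_bot_iff, QuotientGroup.ker_mk']
        exact hEZ
      have hnt : Nontrivial (E.map π) := (nontrivial_iff_ne_bot _).2 hne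
      have hQ : IsPGroup 2 (S ⧸ center S) := hS.to_quotient _
      obtain ⟨q, hq1, hqE, hqZ⟩ :=
        exists_central_of_normal hQ (E.map π) hne
      obtain ⟨w, hwE, rfl⟩ := hqE
      refine ⟨w, hwE, fun h => hq1 ((QuotientGroup.eq_one_iff w).2 h), fun g => ?_⟩
      rw [← QuotientGroup.eq_one_iff]
      have := mem_center_iff.1 hqZ (π g)
      show π (g * w * g⁻¹ * w⁻¹) = 1
      rw [map_mul, map_mul, map_mul, this, map_inv, map_inv, mul_inv_cancel_right,
        mul_inv_cancel]
    have hcl : ∀ g : S, g * w * g⁻¹ * w⁻¹ ∈ E := fun g =>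
      mul_mem (hEn.conj_mem w hwE g) (inv_mem hwE)
    -- its centralizer has index two
    set M := centralizer ({w} : Set S) with hM
    have hMmem : ∀ g, g ∈ M ↔ g * w * g⁻¹ = w := fun g => by
      rw [hM, mem_centralizer_singleton_iff, mul_inv_eq_iff_eq_mul]
    obtain ⟨t, ht⟩ : ∃ t, t ∉ M := by
      by_contra h
      push Not at h
      exact hwZ (mem_center_iff.2 fun g => mem_centralizer_singleton_iff.1 (h g))
    have hsame : ∀ g h : S, g ∉ M → h ∉ M → g * w * g⁻¹ = h * w * h⁻¹ := by
      intro g h hg hh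
      have := hcent1 _ _ (hwc g) (hwc h) (hcl g).2 (hcl h).2
        (fun e => hg ((hMmem g).2 (mul_inv_eq_one.1 e)))
        (fun e => hh ((hMmem h).2 (mul_inv_eq_one.1 e)))
      exact mul_right_cancel this
    have hMt : ∀ g, g ∉ M → t⁻¹ * g ∈ M := by
      intro g hg
      rw [hMmem]
      calc t⁻¹ * g * w * (t⁻¹ * g)⁻¹ = t⁻¹ * (g * w * g⁻¹) * t := by group
        _ = t⁻¹ * (t * w * t⁻¹) * t := by rw [hsame g t hg ht]
        _ = w := by group
    have hM2 : M.index = 2 := by
      rw [index_eq_two_iff']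
      refine ⟨t⁻¹, fun b => ?_⟩
      by_cases hb : b ∈ M
      · refine Or.inr ⟨hb, fun h => ht ?_⟩
        have := mul_mem h (inv_mem hb)
        rwa [mul_inv_cancel_right, inv_mem_iff] at this
      · exact Or.inl ⟨hMt b hb, hb⟩
    haveI hMn : M.Normal := normal_of_index_eq_two hM2
    have htt : t ^ 2 ∈ M := sq_mem_of_index_two hM2 t
    set V₁ := fix (φ w) with hV₁
    set V₂ := V₁.map ((φ t : V ≃* V) : V →* V) with hV₂
    have happ : ∀ g h : S, ∀ v, φ g (φ h v) = φ (g * h) v := fun g h v => by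
      rw [map_mul, MulAut.mul_apply]
    have hV₁M : ∀ m ∈ M, ∀ v ∈ V₁, φ m v ∈ V₁ := fun m hm v (hv : φ w v = v) => by
      show φ w (φ m v) = φ m v
      rw [happ, ← mem_centralizer_singleton_iff.1 hm, ← happ, hv]
    have hV₂M : ∀ m ∈ M, ∀ v ∈ V₂, φ m v ∈ V₂ := by
      rintro m hm _ ⟨v, hv, rfl⟩
      refine ⟨φ (t⁻¹ * m * t) v, hV₁M _ ?_ v hv, ?_⟩
      · simpa using hMn.conj_mem m hm t⁻¹
      · show φ t (φ (t⁻¹ * m * t) v) = φ m (φ t v)
        rw [happ, happ]; congr 2; group
    have ht1 : ∀ v ∈ V₁, φ t v ∈ V₂ := fun v hv => ⟨v, hv, rfl⟩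
    have ht2 : ∀ v ∈ V₂, φ t v ∈ V₁ := by
      rintro _ ⟨v, hv, rfl⟩
      show φ t (φ t v) ∈ V₁
      rw [happ, ← pow_two]
      exact hV₁M _ htt v hv
    have hgen : ∀ (W : Subgroup V), (∀ m ∈ M, ∀ v ∈ W, φ m v ∈ W) → (∀ v ∈ W, φ t v ∈ W) →
        W = ⊥ ∨ W = ⊤ := by
      refine fun W h1 h2 => hirr W fun s v hv => ?_
      by_cases hs : s ∈ M
      · exact h1 s hs v hv
      · rw [show s = t * (t⁻¹ * s) by group, ← happ]
        exact h2 _ (h1 _ (hMt s hs) v hv)
    have hV₁top : V₁ ≠ ⊤ := fun h => hwZ (by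
      rw [hinj w fun v => (show v ∈ fix (φ w) by rw [← hV₁, h]; exact Subgroup.mem_top v)]; exact one_mem _)
    have hV₁bot : V₁ ≠ ⊥ := by
      intro h
      have hw2 : φ w * φ w = 1 := by rw [← map_mul, ← pow_two, hwE.2, map_one]
      apply hwZ
      rw [mem_center_iff]
      intro g
      exact hφ (MulEquiv.ext fun v => by
        rw [map_mul, map_mul, MulAut.mul_apply, MulAut.mul_apply, eq_inv_of_fix_bot h hw2,
          eq_inv_of_fix_bot h hw2, map_inv])
    have hcardeq : Nat.card V₂ = Nat.card V₁ :=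
      card_map_of_injective (φ t).injective
    have hinf : V₁ ⊓ V₂ = ⊥ := by
      refine (hgen _ (fun m hm v hv => mem_inf.2 ⟨hV₁M m hm v (mem_inf.1 hv).1, hV₂M m hm v (mem_inf.1 hv).2⟩)
        (fun v hv => mem_inf.2 ⟨ht2 v (mem_inf.1 hv).2, ht1 v (mem_inf.1 hv).1⟩)).resolve_right fun h => hV₁top ?_
      exact eq_top_iff.2 (h.ge.trans inf_le_left)
    have hsup : V₁ ⊔ V₂ = ⊤ := by
      refine (hgen _ (fun m hm v hv => ?_) (fun v hv => ?_)).resolve_left
        fun h => hV₁bot (le_bot_iff.1 (h ▸ le_sup_left))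
      · obtain ⟨x, hx, y, hy, rfl⟩ := mem_sup_of_normal_right.1 hv
        rw [map_mul]
        exact mul_mem_sup (hV₁M m hm x hx) (hV₂M m hm y hy)
      · obtain ⟨x, hx, y, hy, rfl⟩ := mem_sup_of_normal_right.1 hv
        rw [map_mul, mul_comm (φ t x)]
        exact mul_mem_sup (ht2 y hy) (ht1 x hx)
    have ha2 : Nat.card V₁ * Nat.card V₁ = a := by
      have h := Subgroup.isComplement'_of_disjoint_and_mul_eq_univ (H := V₁) (K := V₂)
        (disjoint_iff.2 hinf) (by rw [← normal_mul V₁ V₂, hsup]; rfl)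
      rw [← hV, ← h.card_mul, hcardeq]
    set b := Nat.card V₁ with hb
    have hb1 : 1 < b := (one_lt_card_iff_ne_bot V₁).2 hV₁bot
    have hob : Odd b := Nat.Odd.of_mul_left (show Odd (b * b) by rw [ha2]; exact hodd)
    have hbl : b < a := by
      rw [← ha2]; exact lt_mul_of_one_lt_right (by omega) hb1
    set r₁ := res (φ.comp M.subtype) V₁ (fun m v hv => hV₁M m m.2 v hv) with hr₁
    set r₂ := res (φ.comp M.subtype) V₂ (fun m v hv => hV₂M m m.2 v hv) with hr₂
    set K₁ := r₁.ker.map M.subtype with hK₁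
    set K₂ := r₂.ker.map M.subtype with hK₂
    have hK12 : ∀ k ∈ r₁.ker, ∀ k' ∈ r₂.ker, (k : S) = k' → k = 1 := by
      intro k hk k' hk' e
      refine Subtype.ext (hinj (k : S) fun v => ?_)
      have h1 := (res_eq_one _ _ _).1 (MonoidHom.mem_ker.1 hk)
      have h2 := (res_eq_one _ _ _).1 (MonoidHom.mem_ker.1 hk')
      obtain ⟨x, hx, y, hy, rfl⟩ :=
        mem_sup_of_normal_right.1 (hsup ▸ Subgroup.mem_top v : v ∈ V₁ ⊔ V₂)
      have e1 : φ (k : S) x = x := h1 x hx
      have e2 : φ (k : S) y = y := by rw [e]; exact h2 y hy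
      rw [map_mul, e1, e2]
    have hinjk : Function.Injective (r₂.comp r₁.ker.subtype) := by
      rw [injective_iff_map_eq_one]
      exact fun k hk => Subtype.ext (hK12 k k.2 k (MonoidHom.mem_ker.2 hk) rfl)
    have hsqM : sq S ≤ M := by
      rw [sq, closure_le]
      rintro _ ⟨x, rfl⟩
      exact sq_mem_of_index_two hM2 x
    have hconj : ∀ k ∈ K₁, t * k * t⁻¹ ∈ K₂ := by
      rintro _ ⟨k, hk, rfl⟩
      refine ⟨⟨t * k * t⁻¹, hMn.conj_mem _ k.2 t⟩, ?_, rfl⟩
      refine MonoidHom.mem_ker.2 ((res_eq_one _ _ _).2 ?_)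
      rintro _ ⟨v, hv, rfl⟩
      show φ (t * k * t⁻¹) (φ t v) = φ t v
      rw [happ, show t * (k : S) * t⁻¹ * t = t * k by group, ← happ,
        show φ (k : S) v = v from (res_eq_one _ _ _).1 (MonoidHom.mem_ker.1 hk) v hv]
    have hK2K1 : ∀ k ∈ K₁, t * k * t⁻¹ ∈ K₁ ⊔ sq S := by
      intro k hk
      -- a commutator is a product of squares
      have : t * k * t⁻¹ * k⁻¹ ∈ sq S := by
        rw [show t * k * t⁻¹ * k⁻¹ = t ^ 2 * (t⁻¹ * k) ^ 2 * (k⁻¹) ^ 2 by
          simp only [pow_two]; group]
        exact mul_mem (mul_mem (sq_mem _) (sq_mem _)) (sq_mem _)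
      rw [show t * k * t⁻¹ = (t * k * t⁻¹ * k⁻¹) * k by group]
      exact mul_mem (mem_sup_right this) (mem_sup_left hk)
    have hindex : (sq S).index = 2 * (sq S).relIndex M := by
      rw [← hM2, mul_comm, relIndex_mul_index hsqM]
    have hle : sq S ⊔ K₁ ≤ M := sup_le hsqM (map_subtype_le _)
    have hrel1 : (sq S).relIndex (sq S ⊔ K₁) ≤ (sq r₁.ker).index := by
      rw [sup_comm, relIndex_sup_right, ← relIndex_top_right (sq r₁.ker),
        ← relIndex_map_map_of_injective (sq r₁.ker) ⊤
          (f := M.subtype.comp r₁.ker.subtype)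
          (M.subtype_injective.comp r₁.ker.subtype_injective)]
      have htop : (⊤ : Subgroup r₁.ker).map (M.subtype.comp r₁.ker.subtype) = K₁ := by
        rw [← Subgroup.map_map, ← MonoidHom.range_eq_map, range_subtype]
      rw [htop]
      refine relIndex_le_of_le_left ?_ FiniteIndex.index_ne_zero
      rw [map_sq, closure_le]
      rintro _ ⟨x, rfl⟩
      exact sq_mem _
    set X := (sq S ⊔ K₁).subgroupOf M with hX
    have hXle : sq M ⊔ r₁.rangeRestrict.ker ≤ X := by
      rw [MonoidHom.ker_rangeRestrict]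
      refine sup_le (fun x hx => ?_) fun x hx => ?_
      · exact mem_subgroupOf.2 (mem_sup_left (sq_map_le M (mem_map_of_mem _ hx)))
      · exact mem_subgroupOf.2 (mem_sup_right (mem_map_of_mem _ hx))
    have hrel2 : X.index ≤ (sq r₁.range).index := by
      rw [index_sup_sq_eq r₁.rangeRestrict r₁.rangeRestrict_surjective]
      exact Nat.le_of_dvd (Nat.pos_of_ne_zero FiniteIndex.index_ne_zero)
        (index_dvd_of_le hXle)
    have hindex : (sq S).index = 2 * ((sq S).relIndex (sq S ⊔ K₁) * X.index) := by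
      rw [hX, show ((sq S ⊔ K₁).subgroupOf M).index = (sq S ⊔ K₁).relIndex M from rfl,
        relIndex_mul_relIndex (sq S) (sq S ⊔ K₁) M le_sup_left hle, ← hM2, mul_comm,
        relIndex_mul_index hsqM]
    have hf1 := ih b hbl (V := V₁) rfl hob hb1 (S := r₁.range)
      ((hS.to_subgroup M).of_surjective r₁.rangeRestrict r₁.rangeRestrict_surjective)
      r₁.range.subtype r₁.range.subtype_injective
    have hf2 := ih b hbl (V := V₂) hcardeq hob hb1 (S := r₁.ker)
      ((hS.to_subgroup M).to_subgroup _) _ hinjk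
    rcases Nat.lt_or_ge 3 b with hb3 | hb3
    · obtain ⟨b', hb'⟩ := hob
      have u1 : (sq S).relIndex (sq S ⊔ K₁) ≤ b' := by have := hf2.2 hb3; omega
      have u2 : X.index ≤ b' := by have := hf1.2 hb3; omega
      have := Nat.mul_le_mul u1 u2
      have e : a - 1 = 4 * (b' * b') + 4 * b' := by
        have : b * b = 4 * (b' * b') + 4 * b' + 1 := by rw [hb']; ring
        omega
      omega
    · have hb' : b = 3 := by
        obtain ⟨b', hb'⟩ := hob
        omega
      have ha9 : a = 9 := by rw [← ha2, hb']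
      have u1 : (sq S).relIndex (sq S ⊔ K₁) ≤ 2 := by have := hf2.1; omega
      have u2 : X.index ≤ 2 := by have := hf1.1; omega
      suffices (sq S).relIndex (sq S ⊔ K₁) ≤ 1 ∨ X.index ≤ 1 by
        rcases this with h | h
        · have := Nat.mul_le_mul h u2
          omega
        · have := Nat.mul_le_mul u1 h
          omega
      by_cases hK : r₁.ker = ⊥
      · refine Or.inl (hrel1.trans (index_sq_le_card.trans ?_))
        rw [hK, card_bot]
      · refine Or.inr (le_of_eq (index_eq_one.2 ?_))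
        obtain ⟨k, hk, hk1⟩ := (Subgroup.bot_or_exists_ne_one r₁.ker).resolve_left hK
        obtain ⟨k', hk'2, hk'⟩ := hconj _ (mem_map_of_mem M.subtype hk)
        have hk'X : k' ∈ X := by
          rw [hX, mem_subgroupOf, sup_comm]
          show M.subtype k' ∈ _
          rw [hk']
          exact hK2K1 _ (mem_map_of_mem M.subtype hk)
        have hk'r : r₁ k' ≠ 1 := by
          intro h
          have h1 := hK12 k' h k' hk'2 rfl
          rw [h1, map_one, eq_comm, conj_eq_one_iff] at hk'
          exact hk1 (Subtype.ext hk')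
        have hc : Nat.card r₁.range ≤ 2 := by
          refine (card_le_card_group _).trans ?_
          haveI : Fact (Nat.Prime 3) := ⟨Nat.prime_three⟩
          haveI : IsCyclic V₁ := isCyclic_of_prime_card (p := 3) hb'
          rw [IsCyclic.card_mulAut, ← hb, hb']
          decide
        rw [eq_top_iff]
        intro m _
        by_cases hm : r₁ m = 1
        · exact mem_subgroupOf.2 (mem_sup_right (mem_map_of_mem _ (MonoidHom.mem_ker.2 hm)))
        · have heq : r₁.rangeRestrict m = r₁.rangeRestrict k' := by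
            by_contra hne
            haveI : Fintype r₁.range := Fintype.ofFinite _
            rw [Nat.card_eq_fintype_card] at hc
            exact absurd (Fintype.two_lt_card_iff.2 ⟨1, r₁.rangeRestrict m, r₁.rangeRestrict k',
              fun e => hm (congrArg Subtype.val e).symm,
              fun e => hk'r (congrArg Subtype.val e).symm, hne⟩) (by omega)
          have := X.mul_mem (hXle (mem_sup_right (MonoidHom.mem_ker.2
            (show r₁.rangeRestrict (m * k'⁻¹) = 1 by
              rw [map_mul, map_inv, heq, mul_inv_cancel])))) hk'X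
          rwa [inv_mul_cancel_right] at this
  -- primitive case
  push Not at hnc
  have hcommMulAut : ∀ (A : Type) [Group A] [IsCyclic A], ∀ f g : MulAut A, f * g = g * f :=
    fun A _ _ f g => (IsCyclic.mulAutMulEquiv A).injective
      (((IsCyclic.mulAutMulEquiv A).map_mul f g).trans
        ((mul_comm _ _).trans ((IsCyclic.mulAutMulEquiv A).map_mul g f).symm))
  by_cases hVc : IsCyclic V
  · haveI := hVc
    have hSc : ∀ s t : S, s * t = t * s := fun s t => hφ (by
      rw [map_mul, map_mul, hcommMulAut])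
    haveI : IsCyclic (⊤ : Subgroup S) := hnc ⊤ inferInstance
      ⟨⟨fun x y => Subtype.ext (hSc x y)⟩⟩
    haveI : IsCyclic S := isCyclic_of_surjective (topEquiv (G := S)).toMonoidHom
      topEquiv.surjective
    have := index_sq_le_two_of_cyclic (S := S)
    obtain ⟨c, rfl⟩ := hodd
    omega
  obtain ⟨A, hAn, hAc, hAcent⟩ := Cfsg.Agent.Lib.Puig.exists_abelian_normal_self_centralizing hS
  haveI := hAn
  haveI hAcyc : IsCyclic A := hnc A hAn hAc
  set ψ : S →* MulAut A := MulAut.conjNormal with hψ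
  have hker : ψ.ker = A := by
    refine Eq.trans ?_ hAcent
    ext s
    rw [MonoidHom.mem_ker, Subgroup.mem_centralizer_iff]
    constructor
    · intro h x hx
      have := congrArg Subtype.val (DFunLike.congr_fun h ⟨x, hx⟩)
      simp only [hψ, MulAut.conjNormal_apply, MulAut.one_apply] at this
      exact (mul_inv_eq_iff_eq_mul.1 this).symm
    · intro h
      ext x
      simp only [hψ, MulAut.conjNormal_apply, MulAut.one_apply]
      rw [← h x x.2, mul_inv_cancel_right]
  haveI : IsCyclic ψ.ker := by rw [hker]; exact hAcyc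
  have hmain : (sq S).index ≤ 2 * (sq ψ.range).index :=
    (index_sq_le_ker ψ).trans (Nat.mul_le_mul_right _ index_sq_le_two_of_cyclic)
  obtain ⟨k, hk⟩ := IsPGroup.iff_card.1 (hS.to_subgroup A)
  have ha9 : a = 9 ∨ 17 ≤ a := by
    by_contra h
    push Not at h
    apply hVc
    suffices Squarefree a by
      haveI : IsZGroup V := IsZGroup.of_squarefree (by rw [hV]; exact this)
      haveI : Group.IsNilpotent V := CommGroup.isNilpotent
      infer_instance
    obtain ⟨c, rfl⟩ := hodd
    have hc : c < 8 := by omega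
    have h9 : c ≠ 4 := by omega
    interval_cases c <;> first | omega | decide +kernel
  rcases ha9 with ha9 | ha17
  · suffices Nat.card ψ.range ≤ 2 by
      have := (index_sq_le_card (S := ψ.range)).trans this
      omega
    rcases le_or_gt k 2 with hk2 | hk2
    · refine (card_le_card_group _).trans ?_
      rw [IsCyclic.card_mulAut, hk]
      interval_cases k <;> decide
    · -- here `S` has order at most sixteen
      haveI : Fact (Nat.Prime 3) := ⟨Nat.prime_three⟩
      obtain ⟨v, hv⟩ := exists_prime_orderOf_dvd_card' (G := V) 3 (by rw [hV, ha9]; norm_num)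
      letI : MulAction S V :=
        { smul := fun s u => φ s u
          one_smul := fun u => by show φ 1 u = u; rw [map_one]; rfl
          mul_smul := fun s s' u => by show φ (s * s') u = φ s (φ s' u); rw [map_mul]; rfl }
      have horb : Nat.card (MulAction.orbit S v) < 9 := by
        rw [← ha9, ← hV]
        refine Finite.card_subtype_lt (x := 1) ?_
        rintro ⟨s, hs⟩
        have hs' : φ s v = 1 := hs
        rw [(map_eq_one_iff (φ s) (φ s).injective).1 hs', orderOf_one] at hv
        norm_num at hv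
      set T := MulAction.stabilizer S v with hT
      have hTfix : ∀ s : T, ∀ u ∈ zpowers v, φ (s : S) u = u := by
        rintro s _ ⟨i, rfl⟩
        show φ (s : S) (v ^ i) = v ^ i
        rw [map_zpow, show φ (s : S) v = v from s.2]
      have hW : ∀ s : T, ∀ u ∈ zpowers v, (φ.comp T.subtype) s u ∈ zpowers v := fun s u hu => by
        show φ (s : S) u ∈ zpowers v
        rw [hTfix s u hu]; exact hu
      have hinjT : Function.Injective (quot (φ.comp T.subtype) (zpowers v) hW) := by
        rw [injective_iff_map_eq_one]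
        intro s hs
        refine Subtype.ext (hinj (s : S) fun u => ?_)
        have h2 : ∀ w, w⁻¹ * φ (s : S) w ∈ zpowers v := fun w => by
          have := DFunLike.congr_fun hs (QuotientGroup.mk w : V ⧸ zpowers v)
          exact QuotientGroup.eq.1 this.symm
        rw [eq_one_of_chain (zpowers v) (hTfix s) h2 (h2pow _) hVodd]
        rfl
      have hT2 : Nat.card T ≤ 2 := by
        refine (Nat.card_le_card_of_injective _ hinjT).trans ?_
        have h3 : Nat.card (V ⧸ zpowers v) = 3 := by
          have := card_eq_card_quotient_mul_card_subgroup (zpowers v)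
          rw [hV, ha9, Nat.card_zpowers, hv] at this
          omega
        haveI : IsCyclic (V ⧸ zpowers v) := isCyclic_of_prime_card h3
        rw [IsCyclic.card_mulAut, h3]
        decide
      have hS16 : Nat.card S ≤ 16 := by
        have h := Nat.card_congr (MulAction.orbitEquivQuotientStabilizer S v)
        rw [← T.card_mul_index, index_eq_card, hT, ← h]
        exact Nat.mul_le_mul hT2 (Nat.le_of_lt_succ horb)
      have hA8 : 8 ≤ Nat.card A := by
        rw [hk]
        exact le_trans (by norm_num) (Nat.pow_le_pow_right (show 0 < 2 by norm_num) hk2)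
      have h := ψ.ker.card_mul_index
      rw [index_ker, hker] at h
      nlinarith
  · have h4 : (sq ψ.range).index ≤ 4 := by
      refine (index_sq_le_of_comm fun x y => Subtype.ext (hcommMulAut A x y)).trans ?_
      refine le_trans (Nat.card_le_card_of_injective
        (fun x : {x : ψ.range // x ^ 2 = 1} =>
          (⟨(IsCyclic.mulAutMulEquiv A) (x.1 : MulAut A), by
            rw [← map_pow, ← SubgroupClass.coe_pow, x.2, OneMemClass.coe_one, map_one]⟩ :
              {u : (ZMod (Nat.card A))ˣ // u ^ 2 = 1})) ?_) ?_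
      · intro x y h
        exact Subtype.ext (Subtype.ext ((IsCyclic.mulAutMulEquiv A).injective
          (congrArg Subtype.val h)))
      · rw [hk]
        exact card_sq_roots_le k
    omega

end Cfsg.Agent.S4188

namespace Cfsg.Agent.S4188

/-- Let G be a finite group that is the semidirect product of a normal abelian subgroup N of odd order by a 2-subgroup P, and suppose N is the unique minimal normal subgroup of G. Then the index of the Frattini subgroup of P in P is at most #N − 1. -/
theorem result {G : Type*} [Group G] [Finite G] (N P : Subgroup G) (hN : N.Normal) (hNab : IsMulCommutative ↥N) (hNodd : Odd (Nat.card ↥N)) (hP : IsPGroup 2 ↥P) (hdisj : N ⊓ P = ⊥) (hprod : N ⊔ P = ⊤) (hmin : N ≠ ⊥ ∧ ∀ M : Subgroup G, M.Normal → M ≠ ⊥ → N ≤ M) : (frattini ↥P).index ≤ Nat.card ↥N - 1 := by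
  haveI := hN
  haveI := hNab
  letI : CommGroup N := { (inferInstance : Group N) with mul_comm := fun a b => mul_comm' a b }
  set φ : P →* MulAut N := (MulAut.conjNormal (H := N)).comp P.subtype with hφ
  have hinj : Function.Injective φ := by
    rw [injective_iff_map_eq_one]
    intro x hx
    by_contra hx1
    -- the centralizer of `N` in `P` is normal
    set C := P ⊓ Subgroup.centralizer (N : Set G) with hC
    have hxC : (x : G) ∈ C := by
      refine Subgroup.mem_inf.2 ⟨x.2, Subgroup.mem_centralizer_iff.2 fun n hn => ?_⟩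
      have := congrArg Subtype.val (DFunLike.congr_fun hx ⟨n, hn⟩)
      simp only [hφ, MonoidHom.comp_apply, MulAut.conjNormal_apply, MulAut.one_apply,
        Subgroup.coe_subtype] at this
      exact (mul_inv_eq_iff_eq_mul.1 this).symm
    haveI : C.Normal := by
      refine ⟨fun c hc g => ?_⟩
      obtain ⟨h1, h2⟩ := Subgroup.mem_inf.1 hc
      have hg : g ∈ N ⊔ P := hprod ▸ Subgroup.mem_top g
      rw [Subgroup.mem_sup_of_normal_left] at hg
      obtain ⟨n, hn, y, hy, rfl⟩ := hg
      haveI : (Subgroup.centralizer (N : Set G)).Normal := Subgroup.normal_centralizer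
      have h3 : y * c * y⁻¹ ∈ Subgroup.centralizer (N : Set G) :=
        Subgroup.Normal.conj_mem inferInstance c h2 y
      have e : n * y * c * (n * y)⁻¹ = y * c * y⁻¹ := by
        calc n * y * c * (n * y)⁻¹ = n * (y * c * y⁻¹) * n⁻¹ := by group
          _ = y * c * y⁻¹ := by rw [Subgroup.mem_centralizer_iff.1 h3 n hn, mul_inv_cancel_right]
      rw [e]
      exact Subgroup.mem_inf.2 ⟨P.mul_mem (P.mul_mem hy h1) (P.inv_mem hy), h3⟩
    have hCne : C ≠ ⊥ := fun h => hx1 (Subtype.ext (by simpa [h] using hxC))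
    have h1 := hmin.2 C inferInstance hCne
    exact hmin.1 (le_bot_iff.1 (hdisj ▸ le_inf le_rfl (h1.trans inf_le_left)))
  have hN1 : 1 < Nat.card N := (Subgroup.one_lt_card_iff_ne_bot N).2 hmin.1
  let eN : N ≃* Shrink.{0} N := (Shrink.mulEquiv).symm
  let eP : P ≃* Shrink.{0} P := (Shrink.mulEquiv).symm
  let ψ : Shrink.{0} P →* MulAut (Shrink.{0} N) :=
    ((MulAut.congr eN).toMonoidHom.comp φ).comp eP.symm.toMonoidHom
  have h := (main (Nat.card N) (V := Shrink.{0} N) (Nat.card_congr eN.symm.toEquiv) hNodd hN1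
    (S := Shrink.{0} P) (hP.of_equiv eP) ψ
    (((MulAut.congr eN).injective.comp hinj).comp eP.symm.injective)).1
  calc (frattini P).index ≤ (sq P).index :=
        Nat.le_of_dvd (Nat.pos_of_ne_zero Subgroup.FiniteIndex.index_ne_zero)
          (Subgroup.index_dvd_of_le (sq_le_frattini hP))
    _ = (sq (Shrink.{0} P)).index := by
      rw [index_sup_sq_eq eP.toMonoidHom eP.surjective,
        (MonoidHom.ker_eq_bot_iff _).2 eP.injective, sup_bot_eq]
    _ ≤ Nat.card N - 1 := h

end Cfsg.Agent.S4188
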