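import Cfsg.Statements.S4190
import Cfsg.Agent.Lib.ClassLowerSolv.Main
-- import your own Cfsg.Agent.* helpers here

set_option autoImplicit false
open Cfsg

namespace Cfsg.Agent.S4190

/-- Let G be a finite solvable group and p a prime dividing the index of the Fitting subgroup of G. Then the number of conjugacy classes of G is at least p/(3·log₂ p). -/
theorem result {G : Type*} [Group G] [Finite G] (hG : Group.IsSolvable G) (p : ℕ) [Fact p.Prime] (hp : p ∣ (Cfsg.fittingSubgroup G).index) : (p : ℝ) / (3 * Real.logb 2 p) ≤ Nat.card (ConjClasses G) := by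
  have h := Cfsg.Agent.Lib.ClassLowerSolv.class_bound hG hp
  have hp2 : 2 ≤ p := (Fact.out : p.Prime).two_le
  have hlog : (Nat.log 2 p : ℝ) ≤ Real.logb 2 p := by exact_mod_cast Real.natLog_le_logb p 2
  have hpos : (1 : ℝ) ≤ Real.logb 2 p := le_trans
    (by exact_mod_cast Cfsg.Agent.Lib.ClassLowerSolv.prime_log_pos hp2) hlog
  rw [div_le_iff₀ (by linarith)]
  have hk : (0 : ℝ) ≤ (Nat.card (ConjClasses G) : ℝ) := Nat.cast_nonneg _
  calc (p : ℝ) ≤ 3 * (Nat.log 2 p : ℝ) * Nat.card (ConjClasses G) := by exact_mod_cast h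
    _ ≤ 3 * Real.logb 2 p * Nat.card (ConjClasses G) := by
        refine mul_le_mul_of_nonneg_right ?_ hk
        linarith
    _ = Nat.card (ConjClasses G) * (3 * Real.logb 2 p) := by ring

end Cfsg.Agent.S4190
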