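import Cfsg.Statements.S4192
import Cfsg.Agent.Lib.RealGraph.Disconnected
-- import your own Cfsg.Agent.* helpers here

set_option autoImplicit false
open Cfsg

namespace Cfsg.Agent.S4192

/-- Let G be a finite group; call an element real when it is conjugate to its inverse, and say that the real-class-size graph of a group is disconnected when the primes dividing its real class sizes split into two non-empty disjoint parts with no real class size divisible by a prime from each part. If the real-class-size graph of G is disconnected, then some real class size of G is even, and either the Sylow 2-subgroups of G are normal, or the subgroup K generated by the 2-elements of G (the smallest normal subgroup of odd index) again has a disconnected real-class-size graph and every real class size of K is odd or a power of 2. -/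
theorem result {G : Type*} [Group G] [Finite G] (h : (∃ π₁ π₂ : Set ℕ, π₁.Nonempty ∧ π₂.Nonempty ∧ Disjoint π₁ π₂ ∧ (∀ q ∈ π₁ ∪ π₂, q.Prime ∧ ∃ n ∈ {n : ℕ | ∃ x : G, IsConj x x⁻¹ ∧ (Subgroup.centralizer ({x} : Set G)).index = n}, q ∣ n) ∧ (∀ q : ℕ, q.Prime → (∃ n ∈ {n : ℕ | ∃ x : G, IsConj x x⁻¹ ∧ (Subgroup.centralizer ({x} : Set G)).index = n}, q ∣ n) → q ∈ π₁ ∨ q ∈ π₂) ∧ ∀ a ∈ π₁, ∀ b ∈ π₂, ∀ n ∈ {n : ℕ | ∃ x : G, IsConj x x⁻¹ ∧ (Subgroup.centralizer ({x} : Set G)).index = n}, ¬ (a ∣ n ∧ b ∣ n))) : (∃ n ∈ {n : ℕ | ∃ x : G, IsConj x x⁻¹ ∧ (Subgroup.centralizer ({x} : Set G)).index = n}, 2 ∣ n) ∧ ((∀ P : Sylow 2 G, (P : Subgroup G).Normal) ∨ ((∃ π₁ π₂ : Set ℕ, π₁.Nonempty ∧ π₂.Nonempty ∧ Disjoint π₁ π₂ ∧ (∀ q ∈ π₁ ∪ π₂, q.Prime ∧ ∃ n ∈ {n : ℕ | ∃ x : ↥(Subgroup.closure {g : G | ∃ k : ℕ, orderOf g = 2 ^ k}), IsConj x x⁻¹ ∧ (Subgroup.centralizer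 ({x} : Set ↥(Subgroup.closure {g : G | ∃ k : ℕ, orderOf g = 2 ^ k}))).index = n}, q ∣ n) ∧ (∀ q : ℕ, q.Prime → (∃ n ∈ {n : ℕ | ∃ x : ↥(Subgroup.closure {g : G | ∃ k : ℕ, orderOf g = 2 ^ k}), IsConj x x⁻¹ ∧ (Subgroup.centralizer ({x} : Set ↥(Subgroup.closure {g : G | ∃ k : ℕ, orderOf g = 2 ^ k}))).index = n}, q ∣ n) → q ∈ π₁ ∨ q ∈ π₂) ∧ ∀ a ∈ π₁, ∀ b ∈ π₂, ∀ n ∈ {n : ℕ | ∃ x : ↥(Subgroup.closure {g : G | ∃ k : ℕ, orderOf g = 2 ^ k}), IsConj x x⁻¹ ∧ (Subgroup.centralizer ({x} : Set ↥(Subgroup.closure {g : G | ∃ k : ℕ, orderOf g = 2 ^ k}))).index = n}, ¬ (a ∣ n ∧ b ∣ n)) ∧ ∀ n ∈ {n : ℕ | ∃ x : ↥(Subgroup.closure {g : G | ∃ k : ℕ, orderOf g = 2 ^ k}), IsConj x x⁻¹ ∧ (Subgroup.centralizer ({x} : Set ↥(Subgroup.closure {g : G | ∃ k : ℕ, orderOf g = 2 ^ k}))).index = n}, Odd n ∨ ∃ j : ℕ, n = 2 ^ j)) := by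
  obtain ⟨π₁, π₂, h₁, h₂, hdisj, hsub, hcover, hnoedge⟩ := h
  have hc : ∀ r : ℕ, r.Prime → ∀ x : G, IsConj x x⁻¹ →
      r ∣ (Subgroup.centralizer ({x} : Set G)).index → r ∈ π₁ ∨ r ∈ π₂ :=
    fun r hr x hx hd => hcover r hr ⟨_, ⟨x, hx, rfl⟩, hd⟩
  have mk : ∀ A B : Set ℕ, A.Nonempty → 2 ∉ A →
      (∀ r : ℕ, r.Prime → ∀ x : G, IsConj x x⁻¹ →
        r ∣ (Subgroup.centralizer ({x} : Set G)).index → r ∈ A ∨ r ∈ B) →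
      (∀ r ∈ A, r ∈ π₁ ∪ π₂) →
      (∀ a ∈ A, ∀ b ∈ B, ∀ x : G, IsConj x x⁻¹ →
        a ∣ (Subgroup.centralizer ({x} : Set G)).index →
        ¬ b ∣ (Subgroup.centralizer ({x} : Set G)).index) →
      Cfsg.Agent.Lib.RealGraph.PureHyp G A := by
    intro A B hA h2A hc hs hne
    refine ⟨h2A, ?_, ?_⟩
    · intro x g hg q hq hqA hqd r hr hrd
      have hx : IsConj x x⁻¹ := isConj_iff.mpr ⟨g, hg⟩
      rcases hc r hr x hx hrd with h | h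
      · exact h
      · exact absurd hrd (hne q hqA r h x hx hqd)
    · obtain ⟨q, hq⟩ := hA
      obtain ⟨hqp, n, ⟨x, hx, rfl⟩, hxd⟩ := hsub q (hs q hq)
      obtain ⟨g, hg⟩ := isConj_iff.mp hx
      exact ⟨x, g, hg, q, hqp, hq, hxd⟩
  have mk1 : 2 ∉ π₁ → Cfsg.Agent.Lib.RealGraph.PureHyp G π₁ := fun h2 =>
    mk π₁ π₂ h₁ h2 hc (fun r hr => Or.inl hr)
      (fun a ha b hb x hx had hbd => hnoedge a ha b hb _ ⟨x, hx, rfl⟩ ⟨had, hbd⟩)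
  have mk2 : 2 ∉ π₂ → Cfsg.Agent.Lib.RealGraph.PureHyp G π₂ := fun h2 =>
    mk π₂ π₁ h₂ h2 (fun r hr x hx hd => (hc r hr x hx hd).symm) (fun r hr => Or.inr hr)
      (fun a ha b hb x hx had hbd => hnoedge b hb a ha _ ⟨x, hx, rfl⟩ ⟨hbd, had⟩)
  obtain ⟨A, H⟩ : ∃ A : Set ℕ, Cfsg.Agent.Lib.RealGraph.PureHyp G A := by
    by_cases h2 : 2 ∈ π₂
    · exact ⟨π₁, mk1 fun h => Set.disjoint_left.mp hdisj h h2⟩
    · exact ⟨π₂, mk2 h2⟩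
  refine ⟨?_, ?_⟩
  · by_cases hh : 2 ∈ π₁ ∪ π₂
    · exact (hsub 2 hh).2
    · obtain ⟨x, g, hg, hd⟩ := Cfsg.Agent.Lib.RealGraph.exists_even
        (mk1 fun h => hh (Or.inl h)) (mk2 fun h => hh (Or.inr h)) hdisj
      exact ⟨_, ⟨x, isConj_iff.mpr ⟨g, hg⟩, rfl⟩, hd⟩
  by_cases hno : ∀ z g : G, Odd (orderOf z) → g * z * g⁻¹ = z⁻¹ → z = 1
  · exact Or.inl fun P => Cfsg.Agent.Lib.Elem69.sylow_two_normal_of_no_real_odd hno P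
  push Not at hno
  obtain ⟨z, g, hzo, hzg, hz1⟩ := hno
  obtain ⟨⟨x₁, hx₁, hd₁⟩, x₂, q, hx₂, hq, hq2, hd₂⟩ := H.twoGen_both ⟨hzo, g, hzg⟩ hz1
  refine Or.inr ⟨⟨{2}, {r | r.Prime ∧ r ≠ 2 ∧
      ∃ x : ↥(Cfsg.Agent.Lib.RealGraph.twoGen G), IsConj x x⁻¹ ∧
        r ∣ (Subgroup.centralizer ({x} : Set (Cfsg.Agent.Lib.RealGraph.twoGen G))).index},
    ⟨2, rfl⟩, ⟨q, hq, hq2, x₂, hx₂, hd₂⟩, ?_, ?_, ?_, ?_⟩, ?_⟩
  · exact Set.disjoint_left.mpr fun r hr hr' => hr'.2.1 hr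
  · rintro r (rfl | ⟨hr, -, x, hx, hd⟩)
    · exact ⟨Nat.prime_two, _, ⟨x₁, hx₁, rfl⟩, hd₁⟩
    · exact ⟨hr, _, ⟨x, hx, rfl⟩, hd⟩
  · rintro r hr ⟨n, ⟨x, hx, rfl⟩, hd⟩
    rcases eq_or_ne r 2 with h | h
    · exact Or.inl h
    · exact Or.inr ⟨hr, h, x, hx, hd⟩
  · rintro a rfl b ⟨hb, hb2, -⟩ n ⟨x, hx, rfl⟩ ⟨had, hbd⟩
    rcases H.twoGen_sizes x hx with h | ⟨j, hj⟩
    · exact Nat.not_even_iff_odd.mpr h (even_iff_two_dvd.mpr had)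
    · rw [hj] at hbd
      exact hb2 ((Nat.prime_dvd_prime_iff_eq hb Nat.prime_two).mp (hb.dvd_of_dvd_pow hbd))
  · rintro n ⟨x, hx, rfl⟩
    exact H.twoGen_sizes x hx

end Cfsg.Agent.S4192
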