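import Cfsg.Statements.S4355
import Mathlib
import Cfsg.Agent.Lib.Fusion.AllFusedCentral
import Cfsg.Agent.Lib.Fusion.GroupFusion

set_option autoImplicit false
open Cfsg

namespace Cfsg.Agent.S4355

/-- If every element of 2-power order of a finite group has a conjugacy class of odd size, then the Sylow 2-subgroups of the group are abelian. -/
theorem result {G : Type*} [Group G] [Finite G]
    (h : ∀ x : G, (∃ k : ℕ, orderOf x = 2 ^ k) → ¬ 2 ∣ (Subgroup.centralizer ({x} : Set G)).index) (P : Sylow 2 G) :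
    IsMulCommutative P := by
  refine Lib.Fusion.AllFusedCentral.mul_comm_of_all_fused_central (S := (P : Subgroup G))
    (F := groupFusionSystem (P : Subgroup G)) P.2 (Lib.Fusion.isSaturated_groupFusion P)
    fun x hx => ?_
  obtain ⟨k, hk⟩ := IsPGroup.iff_orderOf.1 P.2 ⟨x, hx⟩
  rw [Subgroup.orderOf_mk] at hk
  have hC := h x ⟨k, hk⟩
  -- a Sylow subgroup of `G` inside the centralizer of `x`
  set C := Subgroup.centralizer ({x} : Set G) with hCdef
  obtain ⟨R⟩ := (inferInstance : Nonempty (Sylow 2 C))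
  have hR : ¬ 2 ∣ ((R : Subgroup C).map C.subtype).index := by
    rw [Subgroup.index_map_subtype]
    exact Nat.prime_two.not_dvd_mul R.not_dvd_index hC
  obtain ⟨g, hg⟩ := MulAction.exists_smul_eq G ((R.2.map C.subtype).toSylow hR) P
  have hzc : ∀ a ∈ (P : Subgroup G), a * (g * x * g⁻¹) = g * x * g⁻¹ * a := by
    intro a ha
    rw [← hg] at ha
    obtain ⟨b, hb, rfl⟩ := ha
    obtain ⟨c, -, rfl⟩ := hb
    have hc : x * (c : G) = (c : G) * x := Subgroup.mem_centralizer_iff.1 c.2 x rfl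
    show g * (c : G) * g⁻¹ * (g * x * g⁻¹) = g * x * g⁻¹ * (g * (c : G) * g⁻¹)
    calc g * (c : G) * g⁻¹ * (g * x * g⁻¹) = g * ((c : G) * x) * g⁻¹ := by group
      _ = g * (x * (c : G)) * g⁻¹ := by rw [hc]
      _ = g * x * g⁻¹ * (g * (c : G) * g⁻¹) := by group
  have hzmem : g * x * g⁻¹ ∈ (P : Subgroup G) := by
    have h1 : IsPGroup 2 (Subgroup.zpowers (g * x * g⁻¹)) :=
      (P.2.map (MulAut.conj g).toMonoidHom).to_le (Subgroup.zpowers_le.2 ⟨x, hx, rfl⟩)
    have h2 : g * x * g⁻¹ ∈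
        Subgroup.zpowers (g * x * g⁻¹) ⊓ Subgroup.normalizer ((P : Subgroup G) : Set G) :=
      ⟨Subgroup.mem_zpowers _, Lib.Fusion.mem_normalizer_of_mem_centralizer hzc⟩
    exact (h1.inf_normalizer_sylow P ▸ h2).2
  refine ⟨g * x * g⁻¹, ⟨hzmem, hzc⟩, conjHom _ g,
    ⟨Subgroup.zpowers_le.2 hx, ?_, g, fun a => rfl⟩, rfl⟩
  rintro ⟨_, n, rfl⟩
  show g * x ^ n * g⁻¹ ∈ (P : Subgroup G)
  rw [← conj_zpow]
  exact Subgroup.zpow_mem _ hzmem n

end Cfsg.Agent.S4355
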