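import Cfsg.Statements.S4194
import Mathlib
import Cfsg.Agent.S4355

set_option autoImplicit false
open Cfsg

namespace Cfsg.Agent.S4194

/-- A finite group G has commutative Sylow 2-subgroups if and only if every 2-element of G (element of order a power of 2) is 2-central, that is, its centralizer contains a Sylow 2-subgroup of G. -/
theorem result {G : Type*} [Group G] [Finite G] (P : Sylow 2 G) :
    IsMulCommutative (P : Subgroup G) ↔ ∀ x : G, (∃ k : ℕ, orderOf x = 2 ^ k) → (∃ Q : Sylow 2 G, (Q : Subgroup G) ≤ Subgroup.centralizer ({x} : Set G)) := by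
  constructor
  · intro hab x hx
    obtain ⟨k, hk⟩ := hx
    have hp : IsPGroup 2 (Subgroup.zpowers x) :=
      IsPGroup.of_card (n := k) (by rw [Nat.card_zpowers, hk])
    obtain ⟨Q, hQ⟩ := hp.exists_le_sylow
    have : IsMulCommutative (Q : Subgroup G) := by
      have := hab
      exact ⟨⟨fun a b => (Sylow.equiv Q P).injective
        (by rw [map_mul, map_mul]; exact mul_comm' _ _)⟩⟩
    refine ⟨Q, fun q hq => Subgroup.mem_centralizer_iff.2 ?_⟩
    rintro y rfl
    exact congrArg Subtype.val
      (mul_comm' (⟨y, hQ (Subgroup.mem_zpowers y)⟩ : (Q : Subgroup G)) ⟨q, hq⟩)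
  · intro h
    refine S4355.result (fun x hx hdvd => ?_) P
    obtain ⟨Q, hQ⟩ := h x hx
    exact Q.not_dvd_index (hdvd.trans (Subgroup.index_dvd_of_le hQ))

end Cfsg.Agent.S4194
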