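import Cfsg.Statements.S4195
import Mathlib
-- import your own Cfsg.Agent.* helpers here

set_option autoImplicit false
open Cfsg

namespace Cfsg.Agent.S4195


/-- Let x be a non-identity element of a finite group G whose centralizer contains a Sylow 2-subgroup of G. If x is conjugate to its inverse, then x has order 2. -/
theorem result {G : Type*} [Group G] [Finite G] (x : G) (hx : x ≠ 1) (P : Sylow 2 G) (hP : (P : Subgroup G) ≤ Subgroup.centralizer ({x} : Set G)) (hreal : IsConj x x⁻¹) : orderOf x = 2 := by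
  classical
  set C : Subgroup G := Subgroup.centralizer ({x} : Set G) with hC
  by_contra hord
  have hne : x⁻¹ ≠ x := by
    intro h
    apply hord
    refine orderOf_eq_prime ?_ hx
    rw [pow_two]
    nth_rewrite 1 [← h]
    exact inv_mul_cancel x
  have hCmem : ∀ g : G, g ∈ C ↔ g * x * g⁻¹ = x := fun g => by
    rw [hC, Subgroup.mem_centralizer_singleton_iff]
    constructor
    · intro h; rw [h, mul_inv_cancel_right]
    · intro h; nth_rewrite 2 [← h]; group
  let D : Subgroup G :=
    { carrier := {g | g * x * g⁻¹ = x ∨ g * x * g⁻¹ = x⁻¹}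
      one_mem' := Or.inl (by simp)
      mul_mem' := by
        intro a b ha hb
        have e : a * b * x * (a * b)⁻¹ = a * (b * x * b⁻¹) * a⁻¹ := by group
        have e' : a * x⁻¹ * a⁻¹ = (a * x * a⁻¹)⁻¹ := by group
        rcases hb with hb | hb <;> rcases ha with ha | ha
        · left; rw [e, hb, ha]
        · right; rw [e, hb, ha]
        · right; rw [e, hb, e', ha]
        · left; rw [e, hb, e', ha, inv_inv]
      inv_mem' := by
        intro a ha
        rcases ha with ha | ha
        · left
          calc a⁻¹ * x * a⁻¹⁻¹ = a⁻¹ * (a * x * a⁻¹) * a⁻¹⁻¹ := by rw [ha]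
            _ = x := by group
        · right
          calc a⁻¹ * x * a⁻¹⁻¹ = a⁻¹ * (a * x * a⁻¹)⁻¹ * a⁻¹⁻¹ := by rw [ha]; group
            _ = x⁻¹ := by group }
  have hDmem : ∀ g : G, g ∈ D ↔ (g * x * g⁻¹ = x ∨ g * x * g⁻¹ = x⁻¹) := fun g => Iff.rfl
  obtain ⟨c, hc⟩ := isConj_iff.mp hreal
  have hCD : C ≤ D := fun g hg => (hDmem g).2 (Or.inl ((hCmem g).1 hg))
  have hrel : C.relIndex D = 2 := by
    rw [Subgroup.relIndex, Subgroup.index_eq_two_iff_exists_notMem_and]
    refine ⟨⟨c, (hDmem c).2 (Or.inr hc)⟩, ?_, ?_⟩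
    · rw [Subgroup.mem_subgroupOf, hCmem]
      exact fun h => hne (hc.symm.trans h)
    · rintro ⟨b, hb⟩
      rw [Subgroup.mem_subgroupOf, Subgroup.mem_subgroupOf, hCmem, hCmem]
      rcases (hDmem b).1 hb with h | h
      · exact Or.inr h
      · left
        calc b * c * x * (b * c)⁻¹ = b * (c * x * c⁻¹) * b⁻¹ := by group
          _ = (b * x * b⁻¹)⁻¹ := by rw [hc]; group
          _ = x := by rw [h, inv_inv]
  have h2 : 2 ∣ (P : Subgroup G).index := by
    refine dvd_trans ?_ (Subgroup.index_dvd_of_le hP)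
    rw [← Subgroup.relIndex_mul_index hCD, hrel]
    exact dvd_mul_right 2 _
  exact P.not_dvd_index h2

end Cfsg.Agent.S4195
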