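import Cfsg.Statements.S4198
import Mathlib
-- import your own Cfsg.Agent.* helpers here

set_option autoImplicit false
open Cfsg

namespace Cfsg.Agent.S4198

theorem exists_min_part {n : ℕ} (hn : n ≠ 0) (p : n.Partition) : ∃ s ∈ p.parts, ∀ x ∈ p.parts, s ≤ x := by
  have hne : p.parts.toFinset.Nonempty := by
    rw [Finset.nonempty_iff_ne_empty, ne_eq, Multiset.toFinset_eq_empty]
    intro h
    exact hn (by rw [← p.parts_sum, h, Multiset.sum_zero])
  exact ⟨_, Multiset.mem_toFinset.mp (p.parts.toFinset.min'_mem hne),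
    fun x hx => Finset.min'_le _ x (Multiset.mem_toFinset.mpr hx)⟩

theorem partitions_succ_le (n : ℕ) (hn : 1 ≤ n) :
    Nat.card (n + 1).Partition ≤ 2 * Nat.card n.Partition := by
  classical
  rw [← Nat.card_congr (Equiv.sumCompl (fun p : (n + 1).Partition => 1 ∈ p.parts)), Nat.card_sum, two_mul]
  refine Nat.add_le_add (le_of_eq (Nat.card_congr (Nat.Partition.partitionWithPartEquiv le_rfl (by omega)))) ?_
  choose s hs hmin using fun p : (n + 1).Partition => exists_min_part (by omega : n + 1 ≠ 0) p
  have hs2 : ∀ p : {p : (n + 1).Partition // ¬ 1 ∈ p.parts}, 2 ≤ s p.1 := fun p => by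
    have := p.1.parts_pos (hs p.1)
    by_contra h
    have h1 := hs p.1
    rw [show s p.1 = 1 by omega] at h1
    exact p.2 h1
  let f : {p : (n + 1).Partition // ¬ 1 ∈ p.parts} → n.Partition := fun p =>
    { parts := (s p.1 - 1) ::ₘ p.1.parts.erase (s p.1)
      parts_pos := fun {i} hi => by
        rcases Multiset.mem_cons.mp hi with rfl | hi
        · have := hs2 p; omega
        · exact p.1.parts_pos (Multiset.mem_of_mem_erase hi)
      parts_sum := by
        have h := congrArg Multiset.sum (Multiset.cons_erase (hs p.1))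
        rw [Multiset.sum_cons, p.1.parts_sum] at h
        rw [Multiset.sum_cons]
        have := hs2 p
        omega }
  refine Nat.card_le_card_of_injective f ?_
  intro p q h
  have h' : (s p.1 - 1) ::ₘ p.1.parts.erase (s p.1) = (s q.1 - 1) ::ₘ q.1.parts.erase (s q.1) :=
    congrArg Nat.Partition.parts h
  have hle : ∀ p q : {p : (n + 1).Partition // ¬ 1 ∈ p.parts},
      (s p.1 - 1) ::ₘ p.1.parts.erase (s p.1) = (s q.1 - 1) ::ₘ q.1.parts.erase (s q.1) → s q.1 ≤ s p.1 := by
    intro p q h'
    have : s p.1 - 1 ∈ (s q.1 - 1) ::ₘ q.1.parts.erase (s q.1) := h' ▸ Multiset.mem_cons_self _ _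
    rcases Multiset.mem_cons.mp this with h1 | h1
    · have := hs2 p; have := hs2 q; omega
    · have := hmin q.1 _ (Multiset.mem_of_mem_erase h1)
      omega
  have heq : s p.1 = s q.1 := le_antisymm (hle q p h'.symm) (hle p q h')
  rw [heq, Multiset.cons_inj_right] at h'
  refine Subtype.ext (Nat.Partition.ext ?_)
  rw [← Multiset.cons_erase (heq ▸ hs p.1 : s q.1 ∈ p.1.parts), ← Multiset.cons_erase (hs q.1), h']

theorem partition_five : Nat.card (5 : ℕ).Partition ≤ 2 ^ (5 - 2) := by
  classical
  let T : Finset (ℕ × ℕ × ℕ × ℕ × ℕ) :=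
    (Finset.range 6 ×ˢ Finset.range 3 ×ˢ Finset.range 2 ×ˢ Finset.range 2 ×ˢ Finset.range 2).filter
      fun c => c.1 + 2 * c.2.1 + 3 * c.2.2.1 + 4 * c.2.2.2.1 + 5 * c.2.2.2.2 = 5
  have hT : T.card ≤ 2 ^ (5 - 2) := by decide +kernel
  have hsub : ∀ p : (5 : ℕ).Partition, p.parts.toFinset ⊆ Finset.range 6 := fun p x hx => by
    have := p.le_of_mem_parts (Multiset.mem_toFinset.mp hx)
    simp; omega
  have hsum : ∀ p : (5 : ℕ).Partition, p.parts.count 1 + 2 * p.parts.count 2 + 3 * p.parts.count 3 +
      4 * p.parts.count 4 + 5 * p.parts.count 5 = 5 := fun p => by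
    have h := Finset.sum_multiset_count_of_subset p.parts _ (hsub p)
    rw [p.parts_sum] at h
    simp only [Finset.sum_range_succ, Finset.sum_range_zero, smul_eq_mul] at h
    omega
  refine le_trans (le_of_le_of_eq (Nat.card_le_card_of_injective (β := T)
    (fun p => ⟨(p.parts.count 1, p.parts.count 2, p.parts.count 3, p.parts.count 4, p.parts.count 5), ?_⟩) ?_)
    (Nat.card_eq_finsetCard T)) hT
  · have := hsum p
    simp only [T, Finset.mem_filter, Finset.mem_product, Finset.mem_range]
    omega
  · intro p q h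
    simp only [Subtype.ext_iff, Prod.ext_iff] at h
    refine Nat.Partition.ext (Multiset.ext.mpr fun x => ?_)
    by_cases hx : x ∈ p.parts ∨ x ∈ q.parts
    · have h1 : x ≤ 5 := hx.elim p.le_of_mem_parts q.le_of_mem_parts
      have h2 : 0 < x := hx.elim p.parts_pos q.parts_pos
      interval_cases x <;> omega
    · push Not at hx
      rw [Multiset.count_eq_zero_of_notMem hx.1, Multiset.count_eq_zero_of_notMem hx.2]

theorem partitions_le (n : ℕ) (hn : 5 ≤ n) : Nat.card n.Partition ≤ 2 ^ (n - 2) := by
  induction n, hn using Nat.le_induction with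
  | base => exact partition_five
  | succ m hm ih =>
    calc Nat.card (m + 1).Partition ≤ 2 * Nat.card m.Partition := partitions_succ_le m (by omega)
      _ ≤ 2 * 2 ^ (m - 2) := Nat.mul_le_mul_left _ ih
      _ = 2 ^ (m + 1 - 2) := by rw [← pow_succ', show m + 1 - 2 = m - 2 + 1 by omega]

theorem classes_alt_lt (n : ℕ) (hn : 5 ≤ n) :
    Nat.card (ConjClasses (alternatingGroup (Fin n))) < Nat.card (ConjClasses (Equiv.Perm (Fin n))) := by
  classical
  let A := alternatingGroup (Fin n)
  let F : ConjClasses A → ConjClasses (Equiv.Perm (Fin n)) := ConjClasses.map A.subtype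
  let canon : ConjClasses A → ConjClasses A := fun c =>
    Function.surjInv (f := fun c : ConjClasses A => (⟨F c, c, rfl⟩ : Set.range F))
      (fun x => by obtain ⟨_, c, rfl⟩ := x; exact ⟨c, rfl⟩) ⟨F c, c, rfl⟩
  have hcanon : ∀ c, F (canon c) = F c := fun c => congrArg Subtype.val
    (Function.surjInv_eq (f := fun c : ConjClasses A => (⟨F c, c, rfl⟩ : Set.range F))
      (fun x => by obtain ⟨_, c, rfl⟩ := x; exact ⟨c, rfl⟩) ⟨F c, c, rfl⟩)
  have hcanon' : ∀ a b, F a = F b → canon a = canon b := by
    intro a b h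
    simp only [canon, h]
  have hmul : ∀ u v : Equiv.Perm (Fin n), u ∉ A → v ∉ A → u * v ∈ A := by
    intro u v hu hv
    simp only [A, Equiv.Perm.mem_alternatingGroup] at hu hv ⊢
    rw [map_mul, (Int.units_eq_one_or _).resolve_left hu, (Int.units_eq_one_or _).resolve_left hv]
    rfl
  -- two classes fusing in the symmetric group
  have hodd : ∀ a b : A, IsConj (a : Equiv.Perm (Fin n)) b → ConjClasses.mk a ≠ ConjClasses.mk b →
      ∃ u : Equiv.Perm (Fin n), u ∉ A ∧ u * a * u⁻¹ = b := by
    intro a b h hne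
    obtain ⟨u, hu⟩ := isConj_iff.mp h
    refine ⟨u, fun huA => hne (ConjClasses.mk_eq_mk_iff_isConj.mpr (isConj_iff.mpr ⟨⟨u, huA⟩, Subtype.ext hu⟩)), hu⟩
  have hconj : ∀ (a b : A) (u : Equiv.Perm (Fin n)), u ∈ A → u * a * u⁻¹ = (b : Equiv.Perm (Fin n)) →
      ConjClasses.mk a = ConjClasses.mk b := fun a b u hu h =>
    ConjClasses.mk_eq_mk_iff_isConj.mpr (isConj_iff.mpr ⟨⟨u, hu⟩, Subtype.ext h⟩)
  have hnc : ∀ c : ConjClasses A, canon c ≠ c → ∀ g : A, ConjClasses.mk g = c →
      Subgroup.centralizer {(g : Equiv.Perm (Fin n))} ≤ A := by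
    intro c hne g hg v hv
    by_contra hvA
    obtain ⟨d, hd⟩ := ConjClasses.exists_rep (canon c)
    subst hg
    have hF : ConjClasses.mk (g : Equiv.Perm (Fin n)) = ConjClasses.mk (d : Equiv.Perm (Fin n)) := by
      have := hcanon (ConjClasses.mk g)
      rw [← hd] at this
      exact this.symm
    obtain ⟨u, hu, hug⟩ := hodd g d (ConjClasses.mk_eq_mk_iff_isConj.mp hF) (fun h => hne (hd.symm.trans h.symm))
    refine hne (hd.symm.trans (hconj g d (u * v) (hmul u v hu hvA) ?_).symm)
    rw [Subgroup.mem_centralizer_singleton_iff] at hv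
    rw [← hug]
    calc u * v * g * (u * v)⁻¹ = u * (v * g) * v⁻¹ * u⁻¹ := by group
      _ = u * g * u⁻¹ := by rw [hv]; group
  have huniq : ∀ a b, canon a ≠ a → canon b ≠ b → F a = F b → a = b := by
    intro a b ha hb hab
    by_contra hne
    obtain ⟨x, rfl⟩ := ConjClasses.exists_rep a
    obtain ⟨y, rfl⟩ := ConjClasses.exists_rep b
    obtain ⟨d, hd⟩ := ConjClasses.exists_rep (canon (ConjClasses.mk x))
    have hF1 : ConjClasses.mk (d : Equiv.Perm (Fin n)) = ConjClasses.mk (x : Equiv.Perm (Fin n)) := by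
      have := hcanon (ConjClasses.mk x)
      rw [← hd] at this
      exact this
    have hF2 : ConjClasses.mk (x : Equiv.Perm (Fin n)) = ConjClasses.mk (y : Equiv.Perm (Fin n)) := hab
    obtain ⟨u, hu, hux⟩ := hodd x d (ConjClasses.mk_eq_mk_iff_isConj.mp hF1.symm) (fun h => ha (hd.symm.trans h.symm))
    obtain ⟨v, hv, hvy⟩ := hodd y d (ConjClasses.mk_eq_mk_iff_isConj.mp (hF2.symm.trans hF1.symm))
      (fun h => hb ((hcanon' _ _ hab).symm.trans (hd.symm.trans h.symm)))
    refine hne (hconj x y (v⁻¹ * u) (hmul _ _ (fun h => hv (by simpa using A.inv_mem h)) hu) ?_)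
    calc v⁻¹ * u * x * (v⁻¹ * u)⁻¹ = v⁻¹ * (u * x * u⁻¹) * v := by group
      _ = y := by rw [hux, ← hvy]; group
  -- the odd class attached to a class with odd centralizer-free type
  have htype : ∀ c : ConjClasses A, canon c ≠ c → ∃ (σ : Equiv.Perm (Fin n)) (a : ℕ) (m : Multiset ℕ),
      (∀ g : A, ConjClasses.mk g = c → (g : Equiv.Perm (Fin n)).cycleType = m) ∧
      a ∈ m ∧ (∀ i ∈ m, Odd i) ∧ 3 ≤ a ∧ n ≤ m.sum + 1 ∧
      σ.cycleType = (a - 1) ::ₘ m.erase a ∧ σ ∉ A := by
    intro c hne
    obtain ⟨g, hg⟩ := ConjClasses.exists_rep c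
    obtain ⟨hoddm, hsum, -⟩ := Equiv.Perm.centralizer_le_alternating_iff.mp (hnc c hne g hg)
    set m := (g : Equiv.Perm (Fin n)).cycleType with hm
    rw [Fintype.card_fin] at hsum
    obtain ⟨a, ha⟩ : ∃ a, a ∈ m := Multiset.exists_mem_of_ne_zero (fun h => by rw [h] at hsum; simp at hsum; omega)
    have ha2 : 2 ≤ a := Equiv.Perm.two_le_of_mem_cycleType ha
    obtain ⟨k, hk⟩ := hoddm a ha
    have hs := congrArg Multiset.sum (Multiset.cons_erase ha)
    rw [Multiset.sum_cons] at hs
    have hle : m.sum ≤ n := by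
      rw [hm, Equiv.Perm.sum_cycleType]
      exact (Finset.card_le_univ _).trans (by simp)
    obtain ⟨σ, hσ⟩ : ∃ σ : Equiv.Perm (Fin n), σ.cycleType = (a - 1) ::ₘ m.erase a := by
      refine (Equiv.Perm.exists_with_cycleType_iff (Fin n)).mpr ⟨?_, ?_⟩
      · rw [Multiset.sum_cons, Fintype.card_fin]
        omega
      · intro i hi
        rcases Multiset.mem_cons.mp hi with rfl | hi
        · omega
        · exact Equiv.Perm.two_le_of_mem_cycleType (Multiset.mem_of_mem_erase hi)
    refine ⟨σ, a, m, ?_, ha, hoddm, by omega, hsum, hσ, ?_⟩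
    · intro g' hg'
      rw [hm]
      exact Equiv.Perm.isConj_iff_cycleType_eq.mp
        (A.subtype.map_isConj (ConjClasses.mk_eq_mk_iff_isConj.mp (hg'.trans hg.symm)))
    · intro hσA
      simp only [A, Equiv.Perm.mem_alternatingGroup] at hσA
      have hgA : Equiv.Perm.sign (g : Equiv.Perm (Fin n)) = 1 := Equiv.Perm.mem_alternatingGroup.mp g.2
      rw [Equiv.Perm.sign_of_cycleType, hσ, Multiset.sum_cons, Multiset.card_cons] at hσA
      rw [Equiv.Perm.sign_of_cycleType, ← hm] at hgA
      have e1 : m.sum + m.card = a - 1 + (m.erase a).sum + ((m.erase a).card + 1) + 1 := by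
        have := congrArg Multiset.card (Multiset.cons_erase ha)
        rw [Multiset.card_cons] at this
        omega
      rw [e1, pow_succ, hσA] at hgA
      exact absurd hgA (by decide)
  choose! σ a m hm ha hoddm h3 hsum hσ hσA using htype
  let Φ : ConjClasses A → ConjClasses (Equiv.Perm (Fin n)) := fun c =>
    if canon c = c then F c else ConjClasses.mk (σ c)
  have hFeven : ∀ c τ, F c = ConjClasses.mk τ → τ ∈ A := by
    intro c τ h
    obtain ⟨g, rfl⟩ := ConjClasses.exists_rep c
    obtain ⟨u, hu⟩ := isConj_iff.mp (ConjClasses.mk_eq_mk_iff_isConj.mp h)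
    rw [← hu]
    exact (inferInstance : A.Normal).conj_mem _ g.2 u
  have hinj : Function.Injective Φ := by
    intro c d h
    simp only [Φ] at h
    by_cases hc : canon c = c <;> by_cases hd : canon d = d
    · rw [if_pos hc, if_pos hd] at h
      rw [← hc, ← hd]; exact hcanon' _ _ h
    · rw [if_pos hc, if_neg hd] at h
      exact absurd (hFeven c _ h) (hσA d hd)
    · rw [if_neg hc, if_pos hd] at h
      exact absurd (hFeven d _ h.symm) (hσA c hc)
    · rw [if_neg hc, if_neg hd] at h
      refine huniq c d hc hd ?_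
      have h' := Equiv.Perm.isConj_iff_cycleType_eq.mp (ConjClasses.mk_eq_mk_iff_isConj.mp h)
      rw [hσ c hc, hσ d hd] at h'
      have hae : a c = a d := by
        have hmem : a c - 1 ∈ (a d - 1) ::ₘ (m d).erase (a d) := h' ▸ Multiset.mem_cons_self _ _
        have := h3 c hc
        have := h3 d hd
        rcases Multiset.mem_cons.mp hmem with h1 | h1
        · omega
        · obtain ⟨i, hi⟩ := hoddm d hd _ (Multiset.mem_of_mem_erase h1)
          obtain ⟨j, hj⟩ := hoddm c hc _ (ha c hc)
          omega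
      rw [hae, Multiset.cons_inj_right] at h'
      have hmd : m c = m d := by
        rw [← Multiset.cons_erase (ha c hc), ← Multiset.cons_erase (ha d hd), hae, h']
      obtain ⟨x, hx⟩ := ConjClasses.exists_rep c
      obtain ⟨y, hy⟩ := ConjClasses.exists_rep d
      subst hx hy
      exact ConjClasses.mk_eq_mk_iff_isConj.mpr (Equiv.Perm.isConj_iff_cycleType_eq.mpr
        (((hm _ hc x rfl).trans hmd).trans (hm _ hd y rfl).symm))
  obtain ⟨τ, hτ⟩ : ∃ τ : Equiv.Perm (Fin n), τ.cycleType = {2} := by
    refine (Equiv.Perm.exists_with_cycleType_iff (Fin n)).mpr ⟨?_, ?_⟩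
    · rw [Fintype.card_fin, Multiset.sum_singleton]; omega
    · intro i hi; rw [Multiset.mem_singleton] at hi; omega
  have hns : ¬ Function.Surjective Φ := by
    intro hs
    obtain ⟨c, hc⟩ := hs (ConjClasses.mk τ)
    simp only [Φ] at hc
    by_cases h : canon c = c
    · rw [if_pos h] at hc
      have := hFeven c τ hc
      simp only [A, Equiv.Perm.mem_alternatingGroup, Equiv.Perm.sign_of_cycleType, hτ] at this
      exact absurd this (by decide)
    · rw [if_neg h] at hc
      have h' := Equiv.Perm.isConj_iff_cycleType_eq.mp (ConjClasses.mk_eq_mk_iff_isConj.mp hc)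
      rw [hσ c h, hτ] at h'
      have hcard := congrArg Multiset.card h'
      rw [Multiset.card_cons, Multiset.card_singleton] at hcard
      have he : (m c).erase (a c) = 0 := Multiset.card_eq_zero.mp (by omega)
      have hsum' := congrArg Multiset.sum (Multiset.cons_erase (ha c h))
      rw [he] at hsum' h'
      have h2 := congrArg Multiset.sum h'
      simp only [Multiset.sum_cons, Multiset.sum_zero, Multiset.sum_singleton] at h2 hsum'
      have := hsum c h
      omega
  haveI : Finite (ConjClasses (Equiv.Perm (Fin n))) := Quotient.finite _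
  haveI : Finite (ConjClasses A) := Quotient.finite _
  refine lt_of_le_of_ne (Nat.card_le_card_of_injective Φ hinj) fun heq => hns ?_
  exact (hinj.bijective_of_nat_card_le heq.ge).2


/-- For n ≥ 5 the alternating group of degree n has strictly fewer conjugacy classes than the symmetric group of degree n, and the symmetric group of degree n (whose classes correspond to the partitions of n) has at most 2^(n−2) conjugacy classes. -/
theorem result (n : ℕ) (hn : 5 ≤ n) : Nat.card (ConjClasses (alternatingGroup (Fin n))) < Nat.card (ConjClasses (Equiv.Perm (Fin n))) ∧ Nat.card (ConjClasses (Equiv.Perm (Fin n))) ≤ 2 ^ (n - 2) := by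
  have hfin : Fintype.card (Fin n) = n := Fintype.card_fin n
  refine ⟨classes_alt_lt n hn, ?_⟩
  calc Nat.card (ConjClasses (Equiv.Perm (Fin n))) ≤ Nat.card (Nat.Partition (Fintype.card (Fin n))) := by
        refine Nat.card_le_card_of_injective
          (Quotient.lift (fun σ : Equiv.Perm (Fin n) => σ.partition) (fun a b h => Equiv.Perm.partition_eq_of_isConj.mp h)) ?_
        intro a b
        induction a using Quotient.inductionOn with | _ a =>
        induction b using Quotient.inductionOn with | _ b =>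
        intro h
        exact Quotient.sound (Equiv.Perm.partition_eq_of_isConj.mpr h)
    _ ≤ 2 ^ (n - 2) := by rw [hfin]; exact partitions_le n hn

end Cfsg.Agent.S4198
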