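import Cfsg.Statements.S4200
import Mathlib
-- import your own Cfsg.Agent.* helpers here

set_option autoImplicit false
open Cfsg

namespace Cfsg.Agent.S4200


/-- Let Y be a subgroup of the finite group X, of index m. Then the numbers of conjugacy classes satisfy k(Y) ≤ m·k(X) and k(X) ≤ m·k(Y), and the second inequality is strict unless Y is normal in X. -/
theorem result {X : Type*} [Group X] [Finite X] (Y : Subgroup X) : Nat.card (ConjClasses Y) ≤ Y.index * Nat.card (ConjClasses X) ∧ Nat.card (ConjClasses X) ≤ Y.index * Nat.card (ConjClasses Y) ∧ (¬ Y.Normal → Nat.card (ConjClasses X) < Y.index * Nat.card (ConjClasses Y)) := by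
  classical
  have hm : 0 < Y.index := Nat.pos_of_ne_zero Y.index_ne_zero_of_finite
  have hX0 : 0 < Nat.card X := Nat.card_pos
  have hY0 : 0 < Nat.card Y := Nat.card_pos
  refine ⟨?_, ?_⟩
  · have h : Nat.card (ConjClasses Y) * Nat.card Y ≤ Nat.card (ConjClasses X) * Nat.card X := by
      rw [← card_comm_eq_card_conjClasses_mul_card, ← card_comm_eq_card_conjClasses_mul_card]
      refine Nat.card_le_card_of_injective
        (fun q => ⟨((q.1.1 : X), (q.1.2 : X)), congrArg Subtype.val q.2⟩) ?_
      intro a b h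
      have h' := congrArg Subtype.val h
      exact Subtype.ext (Prod.ext (Subtype.ext (congrArg Prod.fst h')) (Subtype.ext (congrArg Prod.snd h')))
    rw [← Y.card_mul_index, mul_comm (Nat.card Y) Y.index, ← mul_assoc] at h
    rw [mul_comm]
    exact Nat.le_of_mul_le_mul_right h hY0
  · haveI := Fintype.ofFinite X
    let c : X → ℕ := fun x => Nat.card (Subgroup.centralizer ({x} : Set X))
    let d : X → ℕ := fun x => Nat.card {y : Y // Commute x (y : X)}
    have hcd : ∀ x, c x ≤ Y.index * d x ∧
        (c x = Y.index * d x → ∀ g : X, ∃ z ∈ Subgroup.centralizer ({x} : Set X), z⁻¹ * g ∈ Y) := by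
      intro x
      set C := Subgroup.centralizer ({x} : Set X) with hC
      have hor := MulAction.card_orbit_mul_card_stabilizer_eq_card_group C ((1 : X) : X ⧸ Y)
      rw [← Nat.card_eq_fintype_card, ← Nat.card_eq_fintype_card, ← Nat.card_eq_fintype_card] at hor
      have hst : Nat.card (MulAction.stabilizer C ((1 : X) : X ⧸ Y)) = d x := by
        refine Nat.card_congr
          ⟨fun s => ⟨⟨(s.1 : X), ?_⟩, ?_⟩, fun y => ⟨⟨(y.1 : X), ?_⟩, ?_⟩, fun s => rfl, fun y => rfl⟩
        · have h' : (((s.1 : X) * 1 : X) : X ⧸ Y) = ((1 : X) : X ⧸ Y) := s.2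
          rw [mul_one, QuotientGroup.eq, mul_one] at h'
          exact inv_mem_iff.mp h'
        · exact (Subgroup.mem_centralizer_singleton_iff.mp s.1.2).symm
        · exact Subgroup.mem_centralizer_singleton_iff.mpr y.2.symm.eq
        · show ((((y.1 : X)) * 1 : X) : X ⧸ Y) = ((1 : X) : X ⧸ Y)
          rw [mul_one, QuotientGroup.eq, mul_one]
          exact inv_mem (y.1).2
      have hle : Nat.card (MulAction.orbit C ((1 : X) : X ⧸ Y)) ≤ Y.index :=
        Finite.card_subtype_le _
      rw [hst] at hor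
      refine ⟨?_, fun heq g => ?_⟩
      · show Nat.card C ≤ _
        rw [← hor]
        exact Nat.mul_le_mul_right _ hle
      · have hd : 0 < d x := Nat.card_pos_iff.mpr ⟨⟨⟨1, Commute.one_right x⟩⟩, inferInstance⟩
        have hcard : Nat.card (MulAction.orbit C ((1 : X) : X ⧸ Y)) = Y.index := by
          refine Nat.eq_of_mul_eq_mul_right hd ?_
          rw [hor]; exact heq
        have huniv : MulAction.orbit C ((1 : X) : X ⧸ Y) = Set.univ := by
          refine Set.eq_of_subset_of_ncard_le (Set.subset_univ _) ?_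
          rw [Set.ncard_univ, ← Nat.card_coe_set_eq, hcard]
          exact le_rfl
        obtain ⟨z, hz⟩ : (g : X ⧸ Y) ∈ MulAction.orbit C ((1 : X) : X ⧸ Y) := huniv ▸ Set.mem_univ _
        refine ⟨z, z.2, ?_⟩
        have : (((z : X) * 1 : X) : X ⧸ Y) = (g : X ⧸ Y) := hz
        rw [mul_one, QuotientGroup.eq] at this
        exact this
    have hkX : Nat.card (ConjClasses X) * Nat.card X = ∑ x : X, c x := by
      rw [← card_comm_eq_card_conjClasses_mul_card,
        Nat.card_congr (Equiv.subtypeProdEquivSigmaSubtype fun a b : X => Commute a b), Nat.card_sigma]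
      refine Finset.sum_congr rfl fun x _ => Nat.card_congr (Equiv.subtypeEquivRight fun b => ?_)
      rw [Subgroup.mem_centralizer_singleton_iff]
      exact ⟨fun h => h.symm, fun h => h.symm⟩
    have hswap : ∑ x : X, d x = ∑ y : Y, c y := by
      rw [← Nat.card_sigma, ← Nat.card_sigma]
      refine Nat.card_congr ⟨fun q => ⟨q.2.1, ⟨q.1, ?_⟩⟩, fun q => ⟨q.2.1, ⟨q.1, ?_⟩⟩, fun q => rfl, fun q => rfl⟩
      · exact Subgroup.mem_centralizer_singleton_iff.mpr q.2.2
      · exact Subgroup.mem_centralizer_singleton_iff.mp q.2.2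
    have hkY : Nat.card (ConjClasses Y) * Nat.card Y = ∑ y : Y, d y := by
      rw [← card_comm_eq_card_conjClasses_mul_card,
        Nat.card_congr (Equiv.subtypeProdEquivSigmaSubtype fun a b : Y => Commute a b), Nat.card_sigma]
      refine Finset.sum_congr rfl fun y _ => Nat.card_congr (Equiv.subtypeEquivRight fun b => ?_)
      exact ⟨fun h => congrArg Subtype.val h, fun h => Subtype.ext h⟩
    have h1 : ∑ x : X, c x ≤ Y.index * ∑ x : X, d x := by
      rw [Finset.mul_sum]; exact Finset.sum_le_sum fun x _ => (hcd x).1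
    have h2 : ∑ y : Y, c y ≤ Y.index * ∑ y : Y, d y := by
      rw [Finset.mul_sum]; exact Finset.sum_le_sum fun y _ => (hcd y).1
    have hcards := Y.card_mul_index
    refine ⟨?_, fun hnn => ?_⟩
    · refine Nat.le_of_mul_le_mul_right ?_ hX0
      calc Nat.card (ConjClasses X) * Nat.card X = ∑ x : X, c x := hkX
        _ ≤ Y.index * ∑ y : Y, c y := hswap ▸ h1
        _ ≤ Y.index * (Y.index * ∑ y : Y, d y) := Nat.mul_le_mul_left _ h2
        _ = Y.index * Nat.card (ConjClasses Y) * Nat.card X := by rw [← hkY, ← hcards]; ring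
    · obtain ⟨y, hy, g, hg⟩ : ∃ y ∈ Y, ∃ g : X, g * y * g⁻¹ ∉ Y := by
        by_contra hh
        push Not at hh
        exact hnn ⟨hh⟩
      have hlt : c y < Y.index * d y := by
        refine lt_of_le_of_ne (hcd y).1 fun heq => hg ?_
        obtain ⟨z, hz, hzg⟩ := (hcd y).2 heq g⁻¹
        rw [Subgroup.mem_centralizer_singleton_iff] at hz
        have hcom : z⁻¹ * y * z = y := by rw [mul_assoc, ← hz, inv_mul_cancel_left]
        have : g * y * g⁻¹ = (z⁻¹ * g⁻¹)⁻¹ * (z⁻¹ * y * z) * (z⁻¹ * g⁻¹) := by group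
        rw [this, hcom]
        exact Y.mul_mem (Y.mul_mem (Y.inv_mem hzg) hy) hzg
      have h2' : ∑ y : Y, c y < Y.index * ∑ y : Y, d y := by
        rw [Finset.mul_sum]
        exact Finset.sum_lt_sum (fun z _ => (hcd z).1) ⟨⟨y, hy⟩, Finset.mem_univ _, hlt⟩
      refine Nat.lt_of_mul_lt_mul_right (a := Nat.card X) ?_
      calc Nat.card (ConjClasses X) * Nat.card X = ∑ x : X, c x := hkX
        _ ≤ Y.index * ∑ y : Y, c y := hswap ▸ h1
        _ < Y.index * (Y.index * ∑ y : Y, d y) := Nat.mul_lt_mul_of_pos_left h2' hm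
        _ = Y.index * Nat.card (ConjClasses Y) * Nat.card X := by rw [← hkY, ← hcards]; ring

end Cfsg.Agent.S4200
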