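import Cfsg.Statements.S4201
import Mathlib
-- import your own Cfsg.Agent.* helpers here

set_option autoImplicit false
open Cfsg

namespace Cfsg.Agent.S4201


/-- If N is a normal subgroup of the finite group X then k(X) ≤ k(N)·k(X ⧸ N), where k denotes the number of conjugacy classes. -/
theorem result {X : Type*} [Group X] [Finite X] (N : Subgroup X) [N.Normal] : Nat.card (ConjClasses X) ≤ Nat.card (ConjClasses N) * Nat.card (ConjClasses (X ⧸ N)) := by
  classical
  haveI := Fintype.ofFinite X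
  let π : X →* X ⧸ N := QuotientGroup.mk' N
  let a : X → ℕ := fun x => Nat.card {n : N // Commute x (n : X)}
  let b : X ⧸ N → ℕ := fun q => Nat.card {r : X ⧸ N // Commute q r}
  haveI := Fintype.ofFinite (X ⧸ N)
  have hx : ∀ x, Nat.card {y : X // Commute x y} ≤ a x * b (π x) := by
    intro x
    rw [← Nat.card_prod]
    -- choose a representative in `C(x)` for each coset it meets
    let s : {r : X ⧸ N // Commute (π x) r} → X := fun r =>
      if h : ∃ y, Commute x y ∧ π y = r.1 then h.choose else 1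
    have hs : ∀ y (hy : Commute x y), Commute x (s ⟨π y, hy.map π⟩) ∧ π (s ⟨π y, hy.map π⟩) = π y := by
      intro y hy
      have h : ∃ z, Commute x z ∧ π z = π y := ⟨y, hy, rfl⟩
      simp only [s, dif_pos h]
      exact h.choose_spec
    refine Nat.card_le_card_of_injective
      (fun y => (⟨⟨(s ⟨π y.1, y.2.map π⟩)⁻¹ * y.1, ?_⟩, ?_⟩, ⟨π y.1, y.2.map π⟩)) ?_
    · exact QuotientGroup.eq.mp (hs y.1 y.2).2
    · exact ((hs y.1 y.2).1.inv_right).mul_right y.2
    · intro y₁ y₂ h
      simp only [Prod.ext_iff, Subtype.ext_iff] at h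
      obtain ⟨h1, h2⟩ := h
      apply Subtype.ext
      have : s ⟨π y₁.1, y₁.2.map π⟩ = s ⟨π y₂.1, y₂.2.map π⟩ := congrArg s (Subtype.ext h2)
      rw [this] at h1
      exact mul_left_cancel h1
  have hfib : ∀ q, ∑ x ∈ Finset.univ.filter (fun x => π x = q), a x
      ≤ Nat.card (ConjClasses N) * Nat.card N := by
    intro q
    have e1 : ∑ x ∈ Finset.univ.filter (fun x => π x = q), a x
        = Nat.card (Σ x : {x : X // π x = q}, {n : N // Commute (x : X) (n : X)}) := by
      rw [Nat.card_sigma]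
      exact Finset.sum_subtype _ (by simp) a
    rw [e1, ← card_comm_eq_card_conjClasses_mul_card]
    have e2 : Nat.card (Σ x : {x : X // π x = q}, {n : N // Commute (x : X) (n : X)})
        = Nat.card (Σ n : N, {x : X // π x = q ∧ Commute x (n : X)}) :=
      Nat.card_congr ⟨fun z => ⟨z.2.1, ⟨z.1.1, z.1.2, z.2.2⟩⟩, fun z => ⟨⟨z.2.1, z.2.2.1⟩, ⟨z.1, z.2.2.2⟩⟩,
        fun z => rfl, fun z => rfl⟩
    rw [e2, Nat.card_congr (Equiv.subtypeProdEquivSigmaSubtype fun s t : N => Commute s t)]
    refine Nat.card_le_card_of_injective (fun z => ⟨z.1,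
      ⟨⟨((Classical.choice (⟨z.2⟩ : Nonempty {x : X // π x = q ∧ Commute x (z.1 : X)})).1)⁻¹ * z.2.1, ?_⟩, ?_⟩⟩) ?_
    · exact QuotientGroup.eq.mp ((Classical.choice (⟨z.2⟩ :
        Nonempty {x : X // π x = q ∧ Commute x (z.1 : X)})).2.1.trans z.2.2.1.symm)
    · refine Commute.symm (Subtype.ext ?_)
      exact ((Classical.choice (⟨z.2⟩ :
        Nonempty {x : X // π x = q ∧ Commute x (z.1 : X)})).2.2.inv_left.mul_left z.2.2.2).eq
    · rintro ⟨n, x₁⟩ ⟨n', x₂⟩ h
      obtain rfl : n = n' := (Sigma.mk.inj_iff.mp h).1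
      have := eq_of_heq (Sigma.mk.inj_iff.mp h).2
      simp only [Subtype.ext_iff] at this
      exact Sigma.ext rfl (heq_of_eq (Subtype.ext (mul_left_cancel this)))
  refine Nat.le_of_mul_le_mul_right ?_ (Nat.card_pos (α := X))
  calc Nat.card (ConjClasses X) * Nat.card X = ∑ x : X, Nat.card {y : X // Commute x y} := by
        rw [← card_comm_eq_card_conjClasses_mul_card,
          Nat.card_congr (Equiv.subtypeProdEquivSigmaSubtype fun s t : X => Commute s t), Nat.card_sigma]
    _ ≤ ∑ x : X, a x * b (π x) := Finset.sum_le_sum fun x _ => hx x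
    _ = ∑ q : X ⧸ N, ∑ x ∈ Finset.univ.filter (fun x => π x = q), a x * b (π x) :=
        (Finset.sum_fiberwise _ _ _).symm
    _ = ∑ q : X ⧸ N, (∑ x ∈ Finset.univ.filter (fun x => π x = q), a x) * b q := by
        refine Finset.sum_congr rfl fun q _ => ?_
        rw [Finset.sum_mul]
        exact Finset.sum_congr rfl fun x hx => by rw [(Finset.mem_filter.mp hx).2]
    _ ≤ ∑ q : X ⧸ N, Nat.card (ConjClasses N) * Nat.card N * b q :=
        Finset.sum_le_sum fun q _ => Nat.mul_le_mul_right _ (hfib q)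
    _ = Nat.card (ConjClasses N) * Nat.card N * (Nat.card (ConjClasses (X ⧸ N)) * Nat.card (X ⧸ N)) := by
        rw [← Finset.mul_sum, ← card_comm_eq_card_conjClasses_mul_card (X ⧸ N),
          Nat.card_congr (Equiv.subtypeProdEquivSigmaSubtype fun s t : X ⧸ N => Commute s t), Nat.card_sigma]
    _ = Nat.card (ConjClasses N) * Nat.card (ConjClasses (X ⧸ N)) * Nat.card X := by
        rw [Subgroup.card_eq_card_quotient_mul_card_subgroup N]; ring

end Cfsg.Agent.S4201
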