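import Cfsg.Statements.S4203
import Mathlib
-- import your own Cfsg.Agent.* helpers here

set_option autoImplicit false
open Cfsg

namespace Cfsg.Agent.S4203

theorem perm_four_solvable {α : Type*} [Finite α] (hα : Nat.card α = 4) : Group.IsSolvable (Equiv.Perm α) := by
  classical
  haveI := Fintype.ofFinite α
  haveI hA : Group.IsSolvable (alternatingGroup α) := by
    let V := alternatingGroup.kleinFour α
    haveI : V.Normal := alternatingGroup.normal_kleinFour hα
    have hV : Nat.card V = 4 := alternatingGroup.kleinFour_card_of_card_eq_four hα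
    haveI : Group.IsNilpotent V := (IsPGroup.of_card (p := 2) (n := 2) hV).isNilpotent
    have hq : Nat.card (alternatingGroup α ⧸ V) = 3 := by
      have := V.card_eq_card_quotient_mul_card_subgroup
      rw [alternatingGroup.card_of_card_eq_four hα, hV] at this
      omega
    haveI := Fact.mk Nat.prime_three
    haveI : IsCyclic (alternatingGroup α ⧸ V) := isCyclic_of_prime_card hq
    haveI : Group.IsSolvable (alternatingGroup α ⧸ V) :=
      let _ : CommGroup (alternatingGroup α ⧸ V) := IsCyclic.commGroup
      inferInstance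
    exact (Group.isSolvable_iff_subgroup_quotient V).mpr ⟨inferInstance, inferInstance⟩
  exact Group.isSolvable_of_ker_le_range (alternatingGroup α).subtype
    (Equiv.Perm.sign : Equiv.Perm α →* ℤˣ) (by rw [Subgroup.range_subtype, alternatingGroup])

open scoped Pointwise

universe u

theorem aux : ∀ (n : ℕ) (G : Type u) [Group G] [Finite G], Nat.card G = n →
    (∀ M : Subgroup G, IsCoatom M → ∃ p : ℕ, p.Prime ∧ (M.index = p ∨ M.index = p ^ 2)) →
    Group.IsSolvable G := by
  intro n
  induction n using Nat.strong_induction_on with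
  | _ n ih =>
  intro G _ _ hn hmax
  rcases subsingleton_or_nontrivial G with hss | hnt
  · infer_instance
  obtain ⟨N, ⟨hNn, hNne⟩, hNmin⟩ :=
    wellFounded_lt.has_min {N : Subgroup G | N.Normal ∧ N ≠ ⊥} ⟨⊤, inferInstance, top_ne_bot⟩
  haveI := hNn
  have hmin : ∀ K : Subgroup G, K.Normal → K ≤ N → K = ⊥ ∨ K = N := fun K hK hKN =>
    or_iff_not_imp_left.mpr fun hKb => (eq_or_lt_of_le hKN).resolve_right (hNmin K ⟨hK, hKb⟩)
  have hNcard : 1 < Nat.card N := (Subgroup.one_lt_card_iff_ne_bot N).mpr hNne
  haveI hquot : Group.IsSolvable (G ⧸ N) := by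
    refine ih (Nat.card (G ⧸ N)) ?_ (G ⧸ N) rfl fun M hM => ?_
    · rw [← hn, N.card_eq_card_quotient_mul_card_subgroup]
      exact lt_mul_of_one_lt_right Nat.card_pos hNcard
    · have hidx : (M.comap (QuotientGroup.mk' N)).index = M.index :=
        M.index_comap_of_surjective (QuotientGroup.mk'_surjective N)
      rw [← hidx]
      exact hmax _ (Subgroup.isCoatom_comap_of_surjective (QuotientGroup.mk'_surjective N) hM)
  suffices hNs : Group.IsSolvable N from (Group.isSolvable_iff_subgroup_quotient N).mpr ⟨hNs, hquot⟩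
  obtain ⟨p, hpmem, hpmax⟩ := Finset.exists_max_image (Nat.card N).primeFactors id
    ⟨_, Nat.mem_primeFactors.mpr ⟨Nat.minFac_prime hNcard.ne', Nat.minFac_dvd _, by omega⟩⟩
  have hp := Nat.prime_of_mem_primeFactors hpmem
  haveI := Fact.mk hp
  obtain ⟨Q⟩ : Nonempty (Sylow p N) := inferInstance
  set Q' : Subgroup G := (Q : Subgroup N).map N.subtype with hQ'
  have hQ'N : Q' ≤ N := Subgroup.map_subtype_le _
  have hQne : Q' ≠ ⊥ := by
    rw [hQ', ne_eq, Subgroup.map_eq_bot_iff_of_injective _ N.subtype_injective]
    exact Q.ne_bot_of_dvd_card (Nat.dvd_of_mem_primeFactors hpmem)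
  by_cases htop : Subgroup.normalizer (Q' : Set G) = ⊤
  · have hQn : Q'.Normal := Subgroup.normalizer_eq_top_iff.mp htop
    have heq : Q' = N := (hmin Q' hQn hQ'N).resolve_left hQne
    have hpg : IsPGroup p N := heq ▸ Q.isPGroup'.map N.subtype
    haveI := hpg.isNilpotent
    infer_instance
  obtain ⟨M, hM, hQM⟩ := (eq_top_or_exists_le_coatom (Subgroup.normalizer (Q' : Set G))).resolve_left htop
  have hsup : M ⊔ N = ⊤ := top_unique ((Sylow.normalizer_sup_eq_top Q).ge.trans (sup_le_sup_right hQM N))
  have hrel : M.relIndex N = M.index := by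
    refine Nat.card_congr (Equiv.ofBijective
      (fun q : N ⧸ M.subgroupOf N => Quotient.map' (fun a : N => (a : G)) (fun a b h => by
        rw [QuotientGroup.leftRel_apply] at h ⊢
        simpa [Subgroup.mem_subgroupOf] using h) q) ⟨?_, ?_⟩)
    · intro a b
      induction a using QuotientGroup.induction_on with | _ a =>
      induction b using QuotientGroup.induction_on with | _ b =>
      intro h
      rw [QuotientGroup.eq, Subgroup.mem_subgroupOf]
      have h' : ((a : G) : G ⧸ M) = ((b : G) : G ⧸ M) := h
      rw [QuotientGroup.eq] at h'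
      simpa using h'
    · intro b
      induction b using QuotientGroup.induction_on with | _ g =>
      have : g ∈ (N : Set G) * (M : Set G) := by
        rw [← Subgroup.normal_mul, sup_comm, hsup]; trivial
      obtain ⟨a, ha, m, hm, rfl⟩ := this
      refine ⟨((⟨a, ha⟩ : N) : N ⧸ M.subgroupOf N), ?_⟩
      show ((a : G) : G ⧸ M) = ((a * m : G) : G ⧸ M)
      rw [QuotientGroup.eq]; simpa using hm
  have hdvd : M.index ∣ Nat.card N := hrel ▸ Subgroup.index_dvd_card (H := M.subgroupOf N)
  have hmod : M.index ≡ 1 [MOD p] := by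
    have hle : Subgroup.normalizer ((Q : Subgroup N) : Set N) ≤ M.subgroupOf N := by
      intro a ha
      rw [Subgroup.mem_subgroupOf]
      refine hQM (Subgroup.le_normalizer_map N.subtype ⟨a, ha, rfl⟩)
    have hQle : (Q : Subgroup N) ≤ M.subgroupOf N := Subgroup.le_normalizer.trans hle
    have h1 := card_sylow_modEq_one p N
    have h2 := card_sylow_modEq_one p (M.subgroupOf N)
    rw [Sylow.card_eq_index_normalizer Q, ← Sylow.coe_coe, ← Subgroup.relIndex_mul_index hle] at h1
    have h3 : (Subgroup.normalizer ((Q : Subgroup N) : Set N)).relIndex (M.subgroupOf N)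
        = Nat.card (Sylow p (M.subgroupOf N)) := by
      rw [Sylow.card_eq_index_normalizer (Q.subtype hQle), ← Sylow.coe_coe, Sylow.coe_subtype, Subgroup.relIndex,
        Subgroup.subgroupOf_normalizer_eq hQle]
    rw [h3] at h1
    have h4 : M.index = (M.subgroupOf N).index := hrel.symm
    rw [h4]
    calc (M.subgroupOf N).index = 1 * (M.subgroupOf N).index := (one_mul _).symm
      _ ≡ Nat.card (Sylow p (M.subgroupOf N)) * (M.subgroupOf N).index [MOD p] :=
          Nat.ModEq.mul_right _ h2.symm
      _ ≡ 1 [MOD p] := h1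
  obtain ⟨q, hq, hqi⟩ := hmax M hM
  have hqle : q ≤ p := by
    refine hpmax q (Nat.mem_primeFactors.mpr ⟨hq, ?_, Nat.card_pos.ne'⟩)
    rcases hqi with hqi | hqi <;> rw [hqi] at hdvd
    · exact hdvd
    · exact (dvd_pow_self q two_ne_zero).trans hdvd
  have hindex : M.index = 4 := by
    have h2 := hq.two_le
    rcases hqi with hqi | hqi
    · rw [hqi] at hmod
      have hpd := (Nat.modEq_iff_dvd' hq.one_le).mp hmod.symm
      have := Nat.le_of_dvd (by omega) hpd
      omega
    · rw [hqi] at hmod
      have hpd := (Nat.modEq_iff_dvd' (Nat.one_le_pow _ _ hq.pos)).mp hmod.symm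
      rw [show q ^ 2 - 1 = (q + 1) * (q - 1) by simpa using Nat.sq_sub_sq q 1] at hpd
      rcases hp.dvd_mul.mp hpd with hd | hd
      · have hle := Nat.le_of_dvd (by omega) hd
        have : q = p ∨ q + 1 = p := by omega
        rcases this with rfl | hqp
        · exact absurd ((Nat.dvd_add_right dvd_rfl).mp hd) hp.not_dvd_one
        · have hq2 : q = 2 := by
            rcases hq.eq_two_or_odd' with h | h
            · exact h
            · have := hp.eq_two_or_odd'.resolve_left (by omega)
              obtain ⟨i, hi⟩ := h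
              obtain ⟨j, hj⟩ := this
              omega
          rw [hqi, hq2]; norm_num
      · have := Nat.le_of_dvd (by omega) hd
        omega
  have hcore : M.normalCore ⊓ N = ⊥ := by
    refine (hmin _ inferInstance inf_le_right).resolve_right fun h => hM.1 ?_
    have : N ≤ M := h ▸ inf_le_left.trans M.normalCore_le
    rw [← hsup, sup_eq_left.mpr this]
  haveI := perm_four_solvable (α := G ⧸ M) hindex
  refine Group.isSolvable_of_isSolvable_injective (f := (MulAction.toPermHom G (G ⧸ M)).comp N.subtype) ?_
  rw [← MonoidHom.ker_eq_bot_iff, eq_bot_iff]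
  intro a ha
  have : (a : G) ∈ M.normalCore ⊓ N := ⟨by rw [Subgroup.normalCore_eq_ker]; exact ha, a.2⟩
  rw [hcore, Subgroup.mem_bot] at this
  exact Subgroup.mem_bot.mpr (Subtype.ext this)


/-- A finite group in which every maximal subgroup has index a prime or the square of a prime is solvable. -/
theorem result {G : Type*} [Group G] [Finite G] (h : ∀ M : Subgroup G, IsCoatom M → ∃ p : ℕ, p.Prime ∧ (M.index = p ∨ M.index = p ^ 2)) : Group.IsSolvable G := by
  obtain ⟨n, hn⟩ : ∃ n, Nat.card G = n := ⟨_, rfl⟩
  exact aux n G hn h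

end Cfsg.Agent.S4203
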