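import Cfsg.Statements.S4204
import Mathlib
-- import your own Cfsg.Agent.* helpers here

set_option autoImplicit false
open Cfsg

namespace Cfsg.Agent.S4204

theorem commutator_le_iff_map_le_centralizer {G : Type*} [Group G] {A B : Subgroup G} {N : Subgroup G} [N.Normal] :
    ⁅A, B⁆ ≤ N ↔ A.map (QuotientGroup.mk' N) ≤
      Subgroup.centralizer ((B.map (QuotientGroup.mk' N) : Subgroup (G ⧸ N)) : Set (G ⧸ N)) := by
  rw [← Subgroup.commutator_eq_bot_iff_le_centralizer, ← Subgroup.map_commutator,
    Subgroup.map_eq_bot_iff, QuotientGroup.ker_mk']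


/-- If `H` and `K` are normal subgroups of a finite group with `H` nilpotent of class at most `c` and `K` nilpotent of class at most `d` (the terms with index `c`, respectively `d`, of their lower central series are trivial, indices starting at `0`), then `HK` is nilpotent of class at most `c + d`. -/
theorem result {G : Type*} [Group G] [Finite G] (H K : Subgroup G) [H.Normal] [K.Normal] (c d : ℕ) (hH : H.lowerCentralSeries c = ⊥) (hK : K.lowerCentralSeries d = ⊥) : (H ⊔ K).lowerCentralSeries (c + d) = ⊥ := by
  have hlcs : ∀ (S : Subgroup G) (n : ℕ), S.Normal → (S.lowerCentralSeries n).Normal := by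
    intro S n hS
    induction n with
    | zero => simpa using hS
    | succ n ih => rw [Subgroup.lowerCentralSeries_succ]; infer_instance
  let γ : Subgroup G → ℕ → Subgroup G := fun S i => match i with
    | 0 => ⊤
    | i + 1 => S.lowerCentralSeries i
  have hγn : ∀ (S : Subgroup G) [S.Normal] (i : ℕ), (γ S i).Normal := by
    intro S hS i
    cases i with
    | zero => exact inferInstanceAs (⊤ : Subgroup G).Normal
    | succ i => exact hlcs S i hS
  have hγstep : ∀ (S : Subgroup G) [S.Normal] (i : ℕ), ⁅γ S i, S⁆ ≤ γ S (i + 1) := by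
    intro S hS i
    cases i with
    | zero => simpa [γ] using (Subgroup.commutator_le_right (⊤ : Subgroup G) S)
    | succ i => exact (Subgroup.lowerCentralSeries_succ S i).ge
  have hγleft : ∀ (S : Subgroup G) [S.Normal] (i : ℕ) (T : Subgroup G), ⁅γ S i, T⁆ ≤ γ S i := by
    intro S hS i T
    haveI := hγn S i
    exact Subgroup.commutator_le_left _ _
  let T : ℕ → Subgroup G := fun n => ⨆ i : Fin (n + 1), γ H i ⊓ γ K (n - i)
  have hTn : ∀ n, (T n).Normal := fun n => by
    haveI : ∀ i : Fin (n + 1), (γ H i ⊓ γ K (n - i)).Normal := fun i => by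
      haveI := hγn H i; haveI := hγn K (n - i); infer_instance
    exact Subgroup.iSup_normal _
  have hmem : ∀ (n i : ℕ), i ≤ n → γ H i ⊓ γ K (n - i) ≤ T n := fun n i hi =>
    le_iSup_of_le (⟨i, Nat.lt_succ_of_le hi⟩ : Fin (n + 1)) le_rfl
  have hstep : ∀ n, ⁅T n, H ⊔ K⁆ ≤ T (n + 1) := by
    intro n
    haveI := hTn (n + 1)
    rw [commutator_le_iff_map_le_centralizer, Subgroup.map_iSup, iSup_le_iff]
    intro i
    rw [← commutator_le_iff_map_le_centralizer, Subgroup.commutator_comm,
      commutator_le_iff_map_le_centralizer, Subgroup.map_sup, sup_le_iff,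
      ← commutator_le_iff_map_le_centralizer, ← commutator_le_iff_map_le_centralizer,
      Subgroup.commutator_comm, Subgroup.commutator_comm K]
    have hi : (i : ℕ) ≤ n := Nat.lt_succ_iff.mp i.2
    constructor
    · refine le_trans ?_ (hmem (n + 1) (i + 1) (by omega))
      rw [show n + 1 - ((i : ℕ) + 1) = n - i by omega]
      exact le_inf ((Subgroup.commutator_mono inf_le_left le_rfl).trans (hγstep H i))
        ((Subgroup.commutator_mono inf_le_right le_rfl).trans (hγleft K (n - i) H))
    · refine le_trans ?_ (hmem (n + 1) i (by omega))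
      rw [show n + 1 - (i : ℕ) = n - i + 1 by omega]
      exact le_inf ((Subgroup.commutator_mono inf_le_left le_rfl).trans (hγleft H i K))
        ((Subgroup.commutator_mono inf_le_right le_rfl).trans (hγstep K (n - i)))
  have main : ∀ m, (H ⊔ K).lowerCentralSeries m ≤ T (m + 1) := by
    intro m
    induction m with
    | zero =>
      simp only [Subgroup.lowerCentralSeries_zero]
      refine sup_le (le_trans ?_ (hmem 1 1 le_rfl)) (le_trans ?_ (hmem 1 0 (by omega)))
      · exact le_inf le_rfl le_top
      · exact le_inf le_top le_rfl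
    | succ m ih =>
      rw [Subgroup.lowerCentralSeries_succ]
      exact (Subgroup.commutator_mono ih le_rfl).trans (hstep (m + 1))
  rw [eq_bot_iff]
  refine (main (c + d)).trans (iSup_le fun i => ?_)
  by_cases hic : c + 1 ≤ (i : ℕ)
  · obtain ⟨k, hk⟩ := Nat.exists_eq_add_of_le hic
    refine inf_le_left.trans ?_
    rw [hk, show c + 1 + k = (c + k) + 1 by omega]
    exact (H.lowerCentralSeries_antitone (Nat.le_add_right c k)).trans hH.le
  · refine inf_le_right.trans ?_
    rw [show c + d + 1 - (i : ℕ) = (c + d - i) + 1 by omega]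
    exact (K.lowerCentralSeries_antitone (show d ≤ c + d - (i : ℕ) by omega)).trans hK.le

end Cfsg.Agent.S4204
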