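import Cfsg.Statements.S4205
import Mathlib
-- import your own Cfsg.Agent.* helpers here

set_option autoImplicit false
open Cfsg

namespace Cfsg.Agent.S4205


/-- In a finite group whose upper central series reaches the whole group at step `c` (nilpotent of class at most `c`), starting from any subgroup and taking normalizers `c` times reaches the whole group. -/
theorem result {G : Type*} [Group G] [Finite G] (c : ℕ) (hG : Subgroup.upperCentralSeries G c = ⊤) (H : Subgroup G) : (fun K : Subgroup G => Subgroup.normalizer (K : Set G))^[c] H = ⊤ := by
  suffices hs : ∀ i, Subgroup.upperCentralSeries G i ≤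
      (fun K : Subgroup G => Subgroup.normalizer (K : Set G))^[i] H from
    top_unique (hG ▸ hs c)
  intro i
  induction i with
  | zero => simp
  | succ i ih =>
    rw [Function.iterate_succ_apply']
    intro g hg
    generalize hK : (fun K : Subgroup G => Subgroup.normalizer (K : Set G))^[i] H = K at ih
    rw [Subgroup.mem_normalizer_iff]
    intro k
    have key : g * k * g⁻¹ * k⁻¹ ∈ K := ih (Subgroup.mem_upperCentralSeries_succ_iff.mp hg k)
    constructor
    · intro hk
      simpa using mul_mem key hk
    · intro hk
      have := mul_mem (inv_mem key) hk
      simpa [mul_assoc] using this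

end Cfsg.Agent.S4205
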