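import Cfsg.Statements.S4207
import Mathlib
-- import your own Cfsg.Agent.* helpers here

set_option autoImplicit false
open Cfsg

namespace Cfsg.Agent.S4207

theorem exists_fin_closure_eq_top {Q : Type*} [Group Q] [Finite Q] {p r : ℕ} [Fact p.Prime]
    (hQ : Nat.card Q = p ^ r) : ∃ s : Fin r → Q, Subgroup.closure (Set.range s) = ⊤ := by
  have key : ∀ k, ∃ s : Fin k → Q, Subgroup.closure (Set.range s) = ⊤ ∨
      p ^ k ≤ Nat.card (Subgroup.closure (Set.range s)) := by
    intro k
    induction k with
    | zero => exact ⟨Fin.elim0, Or.inr (by simpa using Nat.one_le_iff_ne_zero.mpr Nat.card_pos.ne')⟩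
    | succ k ih =>
      obtain ⟨s, hs⟩ := ih
      by_cases htop : Subgroup.closure (Set.range s) = ⊤
      · refine ⟨Fin.cons 1 s, Or.inl ?_⟩
        rw [eq_top_iff, ← htop]
        refine Subgroup.closure_mono ?_
        rw [Fin.range_cons]
        exact Set.subset_insert _ _
      · obtain ⟨g, hg⟩ : ∃ g, g ∉ Subgroup.closure (Set.range s) := by
          by_contra h
          push Not at h
          exact htop ((Subgroup.eq_top_iff' _).mpr h)
        have hs' := hs.resolve_left htop
        refine ⟨Fin.cons g s, Or.inr ?_⟩
        have hle : Subgroup.closure (Set.range s) ≤ Subgroup.closure (Set.range (Fin.cons g s)) :=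
          Subgroup.closure_mono (by rw [Fin.range_cons]; exact Set.subset_insert _ _)
        have hne : Nat.card (Subgroup.closure (Set.range s)) < Nat.card (Subgroup.closure (Set.range (Fin.cons g s))) := by
          refine lt_of_le_of_ne (Subgroup.card_le_of_le hle) fun heq => hg ?_
          rw [Subgroup.eq_of_le_of_card_ge hle heq.ge]
          exact Subgroup.subset_closure ⟨0, rfl⟩
        obtain ⟨a, -, ha⟩ := (Nat.dvd_prime_pow (Fact.out : p.Prime)).mp
          (hQ ▸ Subgroup.card_subgroup_dvd_card (Subgroup.closure (Set.range (Fin.cons g s))))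
        rw [ha] at hne ⊢
        exact Nat.pow_le_pow_right (Fact.out : p.Prime).pos
          ((Nat.pow_lt_pow_iff_right (Fact.out : p.Prime).one_lt).mp (lt_of_le_of_lt hs' hne))
  obtain ⟨s, hs⟩ := key r
  refine ⟨s, hs.elim id fun h => Subgroup.eq_top_of_le_card _ (hQ ▸ h)⟩


/-- Let `P` be a group of order `p^n` whose Frattini subgroup has index `p^r`. Then any group of automorphisms of `P` each of which induces the identity on the Frattini quotient has order dividing `p^(r(n-r))`; in particular it is a `p`-group. -/
theorem result {P : Type*} [Group P] [Finite P] {p n r : ℕ} [Fact p.Prime] (hP : Nat.card P = p ^ n) (hr : (frattini P).index = p ^ r) (A : Subgroup (MulAut P)) (hA : ∀ α ∈ A, ∀ x : P, α x * x⁻¹ ∈ frattini P) : Nat.card A ∣ p ^ (r * (n - r)) := by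
  have hcard := (frattini P).card_mul_index
  rw [hP, hr] at hcard
  have hrn : r ≤ n := by
    refine (Nat.pow_dvd_pow_iff_le_right (Fact.out : p.Prime).one_lt).mp ⟨Nat.card (frattini P), ?_⟩
    rw [← hcard, mul_comm]
  have hΦ : Nat.card (frattini P) = p ^ (n - r) := by
    apply Nat.eq_of_mul_eq_mul_right (pow_pos (Fact.out : p.Prime).pos r)
    rw [hcard, ← pow_add, Nat.sub_add_cancel hrn]
  obtain ⟨s, hs⟩ := exists_fin_closure_eq_top (Q := P ⧸ frattini P) (p := p) (r := r)
    (by rw [← Subgroup.index_eq_card, hr])
  let T := {t : Fin r → P // ∀ i, QuotientGroup.mk' (frattini P) (t i) = s i}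
  have hT : Nat.card T = p ^ (r * (n - r)) := by
    have e : T ≃ (Fin r → frattini P) :=
      { toFun := fun t i => ⟨(Quotient.out (s i))⁻¹ * t.1 i, by
          rw [← QuotientGroup.eq, QuotientGroup.out_eq']
          exact (t.2 i).symm⟩
        invFun := fun f => ⟨fun i => Quotient.out (s i) * f i, fun i => by
          rw [map_mul, QuotientGroup.mk'_apply, QuotientGroup.out_eq',
            (QuotientGroup.eq_one_iff _).mpr (f i).2 |> (fun h => show QuotientGroup.mk' (frattini P) (f i : P) = 1 from h),
            mul_one]⟩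
        left_inv := fun t => Subtype.ext (funext fun i => by simp)
        right_inv := fun f => funext fun i => Subtype.ext (by simp) }
    rw [Nat.card_congr e, Nat.card_fun, hΦ, Nat.card_eq_fintype_card, Fintype.card_fin, ← pow_mul, mul_comm]
  have hmk : ∀ (α : A) (x : P), QuotientGroup.mk' (frattini P) ((α : MulAut P) x) = QuotientGroup.mk' (frattini P) x := by
    intro α x
    rw [QuotientGroup.mk'_eq_mk']
    refine ⟨x⁻¹ * ((α : MulAut P) x * x⁻¹)⁻¹ * x, ?_, by group⟩
    have := (inferInstance : (frattini P).Normal).conj_mem _ (inv_mem (hA α α.2 x)) x⁻¹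
    simpa using this
  let act : MulAction A T :=
    { smul := fun α t => ⟨fun i => (α : MulAut P) (t.1 i), fun i => (hmk α _).trans (t.2 i)⟩
      one_smul := fun t => Subtype.ext (funext fun i => rfl)
      mul_smul := fun α β t => Subtype.ext (funext fun i => rfl) }
  have hfree : ∀ t : T, MulAction.stabilizer A t = ⊥ := by
    intro t
    rw [eq_bot_iff]
    intro α hα
    rw [MulAction.mem_stabilizer_iff] at hα
    have hgen : Subgroup.closure (Set.range t.1) = ⊤ := by
      apply frattini_nongenerating
      have h1 : (Subgroup.closure (Set.range t.1)).map (QuotientGroup.mk' (frattini P)) = ⊤ := by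
        rw [MonoidHom.map_closure, ← Set.range_comp, ← hs]
        exact congrArg (fun f => Subgroup.closure (Set.range f)) (funext t.2)
      have h2 := Subgroup.comap_map_eq (QuotientGroup.mk' (frattini P)) (Subgroup.closure (Set.range t.1))
      rw [h1, Subgroup.comap_top, QuotientGroup.ker_mk'] at h2
      exact h2.symm
    have heq : ((α : MulAut P) : P →* P) = MonoidHom.id P := by
      refine MonoidHom.eq_of_eqOn_dense hgen ?_
      rintro _ ⟨i, rfl⟩
      exact congrFun (congrArg Subtype.val hα) i
    rw [Subgroup.mem_bot]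
    exact Subtype.ext (MulEquiv.ext fun x => DFunLike.congr_fun heq x)
  rw [← hT, Nat.card_congr (MulAction.selfEquivSigmaOrbitsQuotientStabilizer A T)]
  haveI := Fintype.ofFinite (MulAction.orbitRel.Quotient A T)
  rw [Nat.card_sigma]
  refine Finset.dvd_sum fun ω _ => ?_
  rw [hfree, ← Subgroup.index_eq_card, Subgroup.index_bot]

end Cfsg.Agent.S4207
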