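import Cfsg.Statements.S4208
import Mathlib
import Cfsg.Agent.Lib.Transfer.Tate
-- import your own Cfsg.Agent.* helpers here

set_option autoImplicit false
open Cfsg

namespace Cfsg.Agent.S4208

open scoped commutatorElement

theorem pow_prime_mem_frattini {P : Type*} [Group P] [Finite P] {p : ℕ} [hp : Fact p.Prime]
    (hP : IsPGroup p P) (a : P) : a ^ p ∈ frattini P := by
  change a ^ p ∈ Order.radical (Subgroup P)
  rw [Order.radical, Subgroup.mem_iInf]
  intro M
  rw [Subgroup.mem_iInf]
  intro (hM : IsCoatom M)
  haveI := hP.isNilpotent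
  haveI : M.Normal := Subgroup.NormalizerCondition.normal_of_coatom M Group.normalizerCondition_of_isNilpotent hM
  haveI : IsSimpleGroup (P ⧸ M) := by
    haveI : Nontrivial (P ⧸ M) := QuotientGroup.nontrivial_iff.mpr hM.1
    refine ⟨fun K _ => ?_⟩
    have hle : M ≤ K.comap (QuotientGroup.mk' M) := by
      intro x hx
      rw [Subgroup.mem_comap, QuotientGroup.mk'_apply, (QuotientGroup.eq_one_iff x).mpr hx]
      exact K.one_mem
    rcases eq_or_lt_of_le hle with h | h
    · left
      rw [← Subgroup.map_comap_eq_self_of_surjective (QuotientGroup.mk'_surjective M) K, ← h,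
        Subgroup.map_eq_bot_iff, QuotientGroup.ker_mk']
    · right
      rw [← Subgroup.map_comap_eq_self_of_surjective (QuotientGroup.mk'_surjective M) K, hM.2 _ h,
        Subgroup.map_top_of_surjective _ (QuotientGroup.mk'_surjective M)]
  haveI : Group.IsNilpotent (P ⧸ M) := (hP.to_quotient M).isNilpotent
  haveI : Group.IsSolvable (P ⧸ M) := inferInstance
  let _ : CommGroup (P ⧸ M) :=
    { (inferInstance : Group (P ⧸ M)) with mul_comm := IsSimpleGroup.comm_iff_isSolvable.mpr inferInstance }
  have hpr : (Nat.card (P ⧸ M)).Prime := IsSimpleGroup.prime_card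
  have hcard : Nat.card (P ⧸ M) = p := by
    obtain ⟨k, hk⟩ := (hP.to_quotient M).exists_card_eq
    rw [hk] at hpr
    rw [hk, (Nat.Prime.pow_eq_iff hpr).mp rfl |>.2, pow_one]
  rw [← QuotientGroup.eq_one_iff, QuotientGroup.mk_pow, ← hcard]
  exact pow_card_eq_one'

theorem card_tuples {V : Type*} [CommGroup V] [Finite V] {p r : ℕ} [hp : Fact p.Prime]
    (hexp : ∀ v : V, v ^ p = 1) (hV : Nat.card V = p ^ r) : ∀ k ≤ r,
    Nat.card {s : Fin k → V // Nat.card (Subgroup.closure (Set.range s)) = p ^ k}
      = ∏ i ∈ Finset.range k, (p ^ r - p ^ i) := by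
  classical
  have hpow : ∀ H : Subgroup V, ∃ a, Nat.card H = p ^ a := fun H => by
    obtain ⟨a, -, ha⟩ := (Nat.dvd_prime_pow hp.out).mp (hV ▸ Subgroup.card_subgroup_dvd_card H)
    exact ⟨a, ha⟩
  have hcons : ∀ {k : ℕ} (g : V) (s : Fin k → V),
      Subgroup.closure (Set.range (Fin.cons g s)) = Subgroup.zpowers g ⊔ Subgroup.closure (Set.range s) := by
    intro k g s
    rw [Fin.range_cons, Set.insert_eq, Subgroup.closure_union, Subgroup.zpowers_eq_closure]
  have hstep : ∀ {k : ℕ} (g : V) (s : Fin k → V),
      Nat.card (Subgroup.closure (Set.range (Fin.cons g s))) ≤ p * Nat.card (Subgroup.closure (Set.range s)) := by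
    intro k g s
    rw [hcons]
    calc Nat.card ↥(Subgroup.zpowers g ⊔ Subgroup.closure (Set.range s))
        ≤ Nat.card (Subgroup.zpowers g × Subgroup.closure (Set.range s)) := by
          refine Nat.card_le_card_of_surjective
            (fun q => ⟨(q.1 : V) * q.2, Subgroup.mul_mem_sup q.1.2 q.2.2⟩) ?_
          rintro ⟨x, hx⟩
          obtain ⟨a, ha, b, hb, rfl⟩ := Subgroup.mem_sup.mp hx
          exact ⟨(⟨a, ha⟩, ⟨b, hb⟩), rfl⟩
      _ ≤ p * Nat.card (Subgroup.closure (Set.range s)) := by
          rw [Nat.card_prod, Nat.card_zpowers]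
          exact Nat.mul_le_mul_right _ (Nat.le_of_dvd hp.out.pos (orderOf_dvd_of_pow_eq_one (hexp g)))
  have hbound : ∀ {k : ℕ} (s : Fin k → V), Nat.card (Subgroup.closure (Set.range s)) ≤ p ^ k := by
    intro k
    induction k with
    | zero => intro s; simp [Set.range_eq_empty s]
    | succ k ih =>
      intro s
      rw [← Fin.cons_self_tail s, pow_succ']
      exact (hstep _ _).trans (Nat.mul_le_mul_left _ (ih _))
  intro k
  induction k with
  | zero =>
    intro _
    haveI : Unique {s : Fin 0 → V // Nat.card (Subgroup.closure (Set.range s)) = p ^ 0} :=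
      ⟨⟨⟨Fin.elim0, by simp⟩⟩, fun _ => Subtype.ext (funext fun i => i.elim0)⟩
    simp
  | succ k ih =>
    intro hk
    have hiff : ∀ (g : V) (s : Fin k → V),
        Nat.card (Subgroup.closure (Set.range (Fin.cons g s))) = p ^ (k + 1) ↔
          Nat.card (Subgroup.closure (Set.range s)) = p ^ k ∧ g ∉ Subgroup.closure (Set.range s) := by
      intro g s
      constructor
      · intro h
        refine ⟨le_antisymm (hbound s) (Nat.le_of_mul_le_mul_left ?_ hp.out.pos), fun hg => ?_⟩
        · rw [← pow_succ', ← h]; exact hstep g s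
        · rw [hcons, sup_eq_right.mpr (Subgroup.zpowers_le.mpr hg)] at h
          have := hbound s
          rw [h] at this
          exact absurd ((Nat.pow_le_pow_iff_right hp.out.one_lt).mp this) (by omega)
      · rintro ⟨h, hg⟩
        refine le_antisymm (hbound _) ?_
        have hlt : Nat.card (Subgroup.closure (Set.range s)) < Nat.card (Subgroup.closure (Set.range (Fin.cons g s))) := by
          have hle : Subgroup.closure (Set.range s) ≤ Subgroup.closure (Set.range (Fin.cons g s)) :=
            hcons g s ▸ le_sup_right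
          refine lt_of_le_of_ne (Subgroup.card_le_of_le hle) fun heq => hg ?_
          rw [Subgroup.eq_of_le_of_card_ge hle heq.ge]
          exact Subgroup.subset_closure ⟨0, rfl⟩
        obtain ⟨a, ha⟩ := hpow (Subgroup.closure (Set.range (Fin.cons g s)))
        rw [ha] at hlt ⊢
        rw [h] at hlt
        exact Nat.pow_le_pow_right hp.out.pos ((Nat.pow_lt_pow_iff_right hp.out.one_lt).mp hlt)
    let e : {t : Fin (k + 1) → V // Nat.card (Subgroup.closure (Set.range t)) = p ^ (k + 1)} ≃
        Σ s : {s : Fin k → V // Nat.card (Subgroup.closure (Set.range s)) = p ^ k},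
          {g : V // g ∉ Subgroup.closure (Set.range s.1)} :=
      { toFun := fun t =>
          have h := (hiff (t.1 0) (Fin.tail t.1)).mp (by rw [Fin.cons_self_tail]; exact t.2)
          ⟨⟨Fin.tail t.1, h.1⟩, ⟨t.1 0, h.2⟩⟩
        invFun := fun q => ⟨Fin.cons q.2.1 q.1.1, (hiff _ _).mpr ⟨q.1.2, q.2.2⟩⟩
        left_inv := fun t => Subtype.ext (Fin.cons_self_tail t.1)
        right_inv := by
          rintro ⟨⟨s, hs⟩, ⟨g, hg⟩⟩
          refine Sigma.subtype_ext (Subtype.ext ?_) ?_
          · exact funext fun i => Fin.cons_succ (α := fun _ => V) g s i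
          · exact Fin.cons_zero (α := fun _ => V) g s }
    haveI := Fintype.ofFinite {s : Fin k → V // Nat.card (Subgroup.closure (Set.range s)) = p ^ k}
    haveI := Fintype.ofFinite V
    rw [Nat.card_congr e, Nat.card_sigma, Finset.prod_range_succ, ← ih (by omega),
      Nat.card_eq_fintype_card, ← Finset.card_univ, ← smul_eq_mul, ← Finset.sum_const]
    refine Finset.sum_congr rfl fun s _ => ?_
    rw [Nat.card_eq_fintype_card, Fintype.card_subtype_compl]
    rw [← Nat.card_eq_fintype_card, ← Nat.card_eq_fintype_card, hV, s.2]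


/-- Let `P` be a group of order `p^n` whose Frattini subgroup has index `p^r`. Then the order of the automorphism group of `P` divides `p^(r(n-r)) · (p^r - 1)(p^r - p) ⋯ (p^r - p^(r-1))`. -/
theorem result {P : Type*} [Group P] [Finite P] {p n r : ℕ} [Fact p.Prime] (hP : Nat.card P = p ^ n) (hr : (frattini P).index = p ^ r) : Nat.card (MulAut P) ∣ p ^ (r * (n - r)) * ∏ i ∈ Finset.range r, (p ^ r - p ^ i) := by
  have hp : p.Prime := Fact.out
  have hcard := (frattini P).card_mul_index
  rw [hP, hr] at hcard
  have hrn : r ≤ n := (Nat.pow_dvd_pow_iff_le_right hp.one_lt).mp ⟨Nat.card (frattini P), by rw [← hcard, mul_comm]⟩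
  have hΦ : Nat.card (frattini P) = p ^ (n - r) := by
    apply Nat.eq_of_mul_eq_mul_right (pow_pos hp.pos r)
    rw [hcard, ← pow_add, Nat.sub_add_cancel hrn]
  have hPg : IsPGroup p P := IsPGroup.of_card hP
  let _ : CommGroup (P ⧸ frattini P) :=
    { (inferInstance : Group (P ⧸ frattini P)) with
      mul_comm := fun a b => by
        induction a using QuotientGroup.induction_on with | _ a =>
        induction b using QuotientGroup.induction_on with | _ b =>
        rw [← QuotientGroup.mk_mul, ← QuotientGroup.mk_mul, QuotientGroup.eq]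
        apply Cfsg.Agent.Lib.Transfer.commutator_le_frattini_of_isPGroup hPg
        have : (a * b)⁻¹ * (b * a) = ⁅b⁻¹, a⁻¹⁆ := by rw [commutatorElement_def]; group
        rw [this]
        open commutatorElement in exact Subgroup.commutator_mem_commutator (Subgroup.mem_top _) (Subgroup.mem_top _) }
  have hexp : ∀ v : P ⧸ frattini P, v ^ p = 1 := fun v => by
    induction v using QuotientGroup.induction_on with | _ a =>
    rw [← QuotientGroup.mk_pow, QuotientGroup.eq_one_iff]
    exact pow_prime_mem_frattini hPg a
  let π : P →* P ⧸ frattini P := QuotientGroup.mk' (frattini P)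
  let T := {t : Fin r → P // Subgroup.closure (Set.range t) = ⊤}
  let U := {s : Fin r → P ⧸ frattini P // Nat.card (Subgroup.closure (Set.range s)) = p ^ r}
  have hcardQ : Nat.card (P ⧸ frattini P) = p ^ r := by rw [← Subgroup.index_eq_card, hr]
  have hiff : ∀ t : Fin r → P, Subgroup.closure (Set.range t) = ⊤ ↔
      Nat.card (Subgroup.closure (Set.range (π ∘ t))) = p ^ r := by
    intro t
    rw [Set.range_comp, ← MonoidHom.map_closure]
    constructor
    · intro h
      rw [h, Subgroup.map_top_of_surjective π (QuotientGroup.mk'_surjective _), Subgroup.card_top, hcardQ]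
    · intro h
      apply frattini_nongenerating
      have h1 : (Subgroup.closure (Set.range t)).map π = ⊤ := Subgroup.eq_top_of_card_eq _ (by rw [h, hcardQ])
      have h2 := Subgroup.comap_map_eq π (Subgroup.closure (Set.range t))
      rw [h1, Subgroup.comap_top, QuotientGroup.ker_mk'] at h2
      exact h2.symm
  let e : T ≃ U × (Fin r → frattini P) :=
    { toFun := fun t => (⟨π ∘ t.1, (hiff t.1).mp t.2⟩, fun i => ⟨(Quotient.out (π (t.1 i)))⁻¹ * t.1 i, by
        rw [← QuotientGroup.eq, QuotientGroup.out_eq']; rfl⟩)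
      invFun := fun q => ⟨fun i => Quotient.out (q.1.1 i) * (q.2 i : P), (hiff _).mpr (by
        have : π ∘ (fun i => Quotient.out (q.1.1 i) * (q.2 i : P)) = q.1.1 := funext fun i => by
          show π _ = _
          rw [map_mul, show π (q.2 i : P) = 1 from (QuotientGroup.eq_one_iff _).mpr (q.2 i).2, mul_one]
          exact QuotientGroup.out_eq' _
        rw [this]; exact q.1.2)⟩
      left_inv := fun t => Subtype.ext (funext fun i => by simp)
      right_inv := fun q => by
        have hh : ∀ i, π (Quotient.out (q.1.1 i) * (q.2 i : P)) = q.1.1 i := fun i => by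
          rw [map_mul, show π (q.2 i : P) = 1 from (QuotientGroup.eq_one_iff _).mpr (q.2 i).2, mul_one]
          exact QuotientGroup.out_eq' _
        refine Prod.ext (Subtype.ext (funext hh)) (funext fun i => Subtype.ext ?_)
        show (Quotient.out (π _))⁻¹ * _ = _
        rw [hh i, inv_mul_cancel_left] }
  have hT : Nat.card T = p ^ (r * (n - r)) * ∏ i ∈ Finset.range r, (p ^ r - p ^ i) := by
    rw [Nat.card_congr e, Nat.card_prod, card_tuples hexp hcardQ r le_rfl, Nat.card_fun, hΦ,
      Nat.card_eq_fintype_card, Fintype.card_fin, ← pow_mul, mul_comm (n - r) r, mul_comm]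
  let act : MulAction (MulAut P) T :=
    { smul := fun α t => ⟨fun i => α (t.1 i), by
        show Subgroup.closure (Set.range (α.toMonoidHom ∘ t.1)) = ⊤
        rw [Set.range_comp, ← MonoidHom.map_closure, t.2]
        exact Subgroup.map_top_of_surjective _ α.surjective⟩
      one_smul := fun t => Subtype.ext (funext fun i => rfl)
      mul_smul := fun α β t => Subtype.ext (funext fun i => rfl) }
  have hfree : ∀ t : T, MulAction.stabilizer (MulAut P) t = ⊥ := by
    intro t
    rw [eq_bot_iff]
    intro α hα
    rw [MulAction.mem_stabilizer_iff] at hα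
    have heq : (α : P →* P) = MonoidHom.id P := by
      refine MonoidHom.eq_of_eqOn_dense t.2 ?_
      rintro _ ⟨i, rfl⟩
      exact congrFun (congrArg Subtype.val hα) i
    rw [Subgroup.mem_bot]
    exact MulEquiv.ext fun x => DFunLike.congr_fun heq x
  haveI : Finite (MulAut P) := Finite.of_injective (fun α : MulAut P => (α : P → P)) DFunLike.coe_injective
  rw [← hT, Nat.card_congr (MulAction.selfEquivSigmaOrbitsQuotientStabilizer (MulAut P) T)]
  haveI := Fintype.ofFinite (MulAction.orbitRel.Quotient (MulAut P) T)
  rw [Nat.card_sigma]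
  refine Finset.dvd_sum fun ω _ => ?_
  rw [hfree, ← Subgroup.index_eq_card, Subgroup.index_bot]

end Cfsg.Agent.S4208
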