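import Cfsg.Statements.S4211
import Mathlib
-- import your own Cfsg.Agent.* helpers here

set_option autoImplicit false
open Cfsg

namespace Cfsg.Agent.S4211

open scoped Pointwise

theorem pow_odd_eq {M : Type*} [Monoid M] {u : M} (h : u ^ 2 = 1) (j : ℕ) : u ^ (2 * j + 1) = u := by
  rw [pow_succ, pow_mul, h, one_pow, one_mul]

theorem pow_even_eq {M : Type*} [Monoid M] {u : M} (h : u ^ 2 = 1) (j : ℕ) : u ^ (j + j) = 1 := by
  rw [← two_mul, pow_mul, h, one_pow]

variable {G : Type*} [Group G] [Finite G]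

theorem conj_mem_zpowers (hn : ∀ H : Subgroup G, H.Normal) (g h : G) :
    g * h * g⁻¹ ∈ Subgroup.zpowers h :=
  (hn _).conj_mem h (Subgroup.mem_zpowers h) g

theorem comm_facts (hn : ∀ H : Subgroup G, H.Normal) (x y : G) :
    x * y * x⁻¹ * y⁻¹ ∈ Subgroup.zpowers x ∧ x * y * x⁻¹ * y⁻¹ ∈ Subgroup.zpowers y := by
  refine ⟨?_, mul_mem (conj_mem_zpowers hn x y) (inv_mem (Subgroup.mem_zpowers y))⟩
  have h := mul_mem (Subgroup.mem_zpowers x)
    (show y * x⁻¹ * y⁻¹ ∈ Subgroup.zpowers x by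
      have := inv_mem (conj_mem_zpowers hn y x)
      simpa [mul_assoc] using this)
  simpa [mul_assoc] using h

theorem commute_of_mem_zpowers {x c : G} (h : c ∈ Subgroup.zpowers x) : Commute c x := by
  obtain ⟨i, rfl⟩ := h
  exact (Commute.refl x).zpow_left i

theorem zpowers_eq_of_mem {x c : G} (h : c ∈ Subgroup.zpowers x) (ho : orderOf c = orderOf x) :
    Subgroup.zpowers c = Subgroup.zpowers x :=
  Subgroup.eq_of_le_of_card_ge (Subgroup.zpowers_le.mpr h) (by rw [Nat.card_zpowers, Nat.card_zpowers, ho])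

/-- Non-commuting `p`-elements in a group with all subgroups normal. -/
theorem q8_of_noncomm (hn : ∀ H : Subgroup G, H.Normal) {p : ℕ} [hp : Fact p.Prime] {x₀ y₀ : G}
    (hx₀ : ∃ k, orderOf x₀ = p ^ k) (hy₀ : ∃ k, orderOf y₀ = p ^ k) (h₀ : ¬ Commute x₀ y₀) :
    p = 2 ∧ ∃ x y : G, orderOf x = 4 ∧ y * x * y⁻¹ = x⁻¹ ∧ y ^ 2 = x ^ 2 := by
  obtain ⟨⟨x, y⟩, ⟨hx, hy, hxy, hle⟩, hmin⟩ := Set.exists_min_image
    {q : G × G | (∃ k, orderOf q.1 = p ^ k) ∧ (∃ k, orderOf q.2 = p ^ k) ∧ ¬ Commute q.1 q.2 ∧ orderOf q.2 ≤ orderOf q.1}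
    (fun q => orderOf q.1 + orderOf q.2) (Set.toFinite _) (by
      rcases le_total (orderOf y₀) (orderOf x₀) with h | h
      · exact ⟨(x₀, y₀), hx₀, hy₀, h₀, h⟩
      · exact ⟨(y₀, x₀), hy₀, hx₀, fun hc => h₀ hc.symm, h⟩)
  simp only at hx hy hxy hle hmin
  have hsmall : ∀ u v : G, (∃ k, orderOf u = p ^ k) → (∃ k, orderOf v = p ^ k) →
      orderOf u + orderOf v < orderOf x + orderOf y → Commute u v := by
    intro u v hu hv hlt
    by_contra hc
    rcases le_total (orderOf v) (orderOf u) with h | h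
    · have := hmin (u, v) ⟨hu, hv, hc, h⟩
      simp only at this
      omega
    · have := hmin (v, u) ⟨hv, hu, fun hc' => hc hc'.symm, h⟩
      simp only at this
      omega
  set c := x * y * x⁻¹ * y⁻¹ with hc
  obtain ⟨hcx, hcy⟩ : c ∈ Subgroup.zpowers x ∧ c ∈ Subgroup.zpowers y := comm_facts hn x y
  have hcx' : Commute c x := commute_of_mem_zpowers hcx
  have hcy' : Commute c y := commute_of_mem_zpowers hcy
  have hxc : x * y * x⁻¹ = c * y := by rw [hc]; group
  have hc1 : c ≠ 1 := fun h => hxy (mul_inv_eq_iff_eq_mul.mp (by rw [hxc, h, one_mul]))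
  have hcpow : ∀ n : ℕ, x ^ n * y * (x ^ n)⁻¹ = c ^ n * y := by
    intro n
    induction n with
    | zero => simp
    | succ n ih =>
      calc x ^ (n + 1) * y * (x ^ (n + 1))⁻¹ = x * (x ^ n * y * (x ^ n)⁻¹) * x⁻¹ := by rw [pow_succ']; group
        _ = x * (c ^ n * y) * x⁻¹ := by rw [ih]
        _ = (x * c ^ n) * y * x⁻¹ := by group
        _ = (c ^ n * x) * y * x⁻¹ := by rw [(hcx'.pow_left n).eq]
        _ = c ^ n * (x * y * x⁻¹) := by group
        _ = c ^ (n + 1) * y := by rw [hxc, ← mul_assoc, ← pow_succ]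
  obtain ⟨a', ha'⟩ := hx
  obtain ⟨b', hb'⟩ := hy
  have hxne : x ≠ 1 := fun h => hxy (h ▸ Commute.one_left y)
  have hyne : y ≠ 1 := fun h => hxy (h ▸ Commute.one_right x)
  obtain ⟨a, rfl⟩ : ∃ a, a' = a + 1 := Nat.exists_eq_add_one_of_ne_zero fun h =>
    hxne (orderOf_eq_one_iff.mp (by rw [ha', h, pow_zero]))
  obtain ⟨b, rfl⟩ : ∃ b, b' = b + 1 := Nat.exists_eq_add_one_of_ne_zero fun h =>
    hyne (orderOf_eq_one_iff.mp (by rw [hb', h, pow_zero]))
  have hxp : orderOf (x ^ p) = p ^ a := by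
    rw [orderOf_pow_of_dvd hp.out.ne_zero (ha' ▸ dvd_pow_self p (by omega)), ha', pow_succ,
      Nat.mul_div_cancel _ hp.out.pos]
  have hxpy : Commute (x ^ p) y := hsmall _ _ ⟨a, hxp⟩ ⟨_, hb'⟩ (by
    have : p ^ a < p ^ (a + 1) := Nat.pow_lt_pow_right hp.out.one_lt a.lt_succ_self
    omega)
  have hcp : c ^ p = 1 := by
    have h := hcpow p
    rw [hxpy.eq, mul_inv_cancel_right] at h
    exact (mul_eq_right.mp h.symm)
  have hco : orderOf c = p := orderOf_eq_prime hcp hc1
  have hab : b ≤ a := by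
    rw [ha', hb', Nat.pow_le_pow_iff_right hp.out.one_lt] at hle
    omega
  have hb0 : b ≠ 0 := fun h => by
    have he := zpowers_eq_of_mem hcy (by rw [hco, hb', h, pow_one])
    have : y ∈ Subgroup.zpowers x := Subgroup.zpowers_le.mpr hcx (he ▸ Subgroup.mem_zpowers y)
    exact hxy (commute_of_mem_zpowers this).symm
  -- elements of order `p` in `⟨x⟩` are powers of `x ^ p ^ a`
  have hcW : c ∈ Subgroup.zpowers (x ^ p ^ a) := by
    obtain ⟨i, hi⟩ := mem_powers_iff_mem_zpowers.mpr hcx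
    simp only at hi
    have h1 : x ^ (i * p) = 1 := by rw [pow_mul, hi, hcp]
    rw [← orderOf_dvd_iff_pow_eq_one, ha', pow_succ] at h1
    obtain ⟨k, rfl⟩ := Nat.dvd_of_mul_dvd_mul_right hp.out.pos h1
    rw [← hi, pow_mul]
    exact pow_mem (Subgroup.mem_zpowers _) k
  have hWc : Subgroup.zpowers c = Subgroup.zpowers (x ^ p ^ a) := zpowers_eq_of_mem hcW (by
    rw [hco, orderOf_pow_of_dvd (pow_pos hp.out.pos a).ne' (ha' ▸ pow_dvd_pow p a.le_succ), ha', pow_succ,
      Nat.mul_div_cancel_left _ (pow_pos hp.out.pos a)])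
  have hyW : Subgroup.zpowers (y ^ p ^ b) = Subgroup.zpowers c := by
    have ho : orderOf (y ^ p ^ b) = p := by
      rw [orderOf_pow_of_dvd (pow_pos hp.out.pos b).ne' (hb' ▸ pow_dvd_pow p b.le_succ), hb', pow_succ,
        Nat.mul_div_cancel_left _ (pow_pos hp.out.pos b)]
    refine (zpowers_eq_of_mem ?_ (hco.trans ho.symm)).symm
    obtain ⟨i, hi⟩ := mem_powers_iff_mem_zpowers.mpr hcy
    simp only at hi
    have h1 : y ^ (i * p) = 1 := by rw [pow_mul, hi, hcp]
    rw [← orderOf_dvd_iff_pow_eq_one, hb', pow_succ] at h1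
    obtain ⟨k, rfl⟩ := Nat.dvd_of_mul_dvd_mul_right hp.out.pos h1
    rw [← hi, pow_mul]
    exact pow_mem (Subgroup.mem_zpowers _) k
  obtain ⟨m, hm⟩ : ∃ m : ℤ, (x ^ p ^ a) ^ m = y ^ p ^ b := Subgroup.mem_zpowers_iff.mp
    (hWc ▸ hyW ▸ Subgroup.mem_zpowers (y ^ p ^ b))
  set z := x ^ (-((p : ℤ) ^ (a - b) * m)) with hz
  have hzx : Commute z x := commute_of_mem_zpowers (zpow_mem (Subgroup.mem_zpowers x) _)
  have hzc : Commute z c := ((hcx'.symm).zpow_left _)
  have hzpow : z ^ p ^ b = (y ^ p ^ b)⁻¹ := by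
    rw [← hm, ← zpow_natCast z, hz, ← zpow_mul, ← zpow_natCast x (p ^ a), ← zpow_mul, ← zpow_neg]
    congr 1
    push_cast
    rw [show a = (a - b) + b by omega, pow_add, show a - b + b - b = a - b by omega]
    ring
  set d := y * z * y⁻¹ * z⁻¹ with hd
  have hdW : d ∈ Subgroup.zpowers c := by
    have e : ∀ n : ℕ, y * x ^ n * y⁻¹ * (x ^ n)⁻¹ ∈ Subgroup.zpowers c := by
      intro n
      have h := hcpow n
      have h' : y * x ^ n * y⁻¹ * (x ^ n)⁻¹ = ((c ^ n))⁻¹ := by
        have h2 : x ^ n * y = c ^ n * y * x ^ n := mul_inv_eq_iff_eq_mul.mp h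
        have h3 : y * x ^ n = (c ^ n)⁻¹ * (x ^ n * y) := by rw [h2]; group
        have h4 : Commute (x ^ n) (c ^ n) := (hcx'.symm.pow_left n).pow_right n
        calc y * x ^ n * y⁻¹ * (x ^ n)⁻¹ = (c ^ n)⁻¹ * (x ^ n * y) * y⁻¹ * (x ^ n)⁻¹ := by rw [h3]
          _ = (c ^ n)⁻¹ := by group
      rw [h']
      exact inv_mem (pow_mem (Subgroup.mem_zpowers c) n)
    obtain ⟨n, hn'⟩ := mem_powers_iff_mem_zpowers.mpr
      (show z ∈ Subgroup.zpowers x from zpow_mem (Subgroup.mem_zpowers x) _)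
    simp only at hn'
    rw [hd, ← hn']
    exact e n
  have hdz : Commute d z := by obtain ⟨i, hi⟩ := hdW; rw [← hi]; exact hzc.symm.zpow_left i
  have hdy : Commute d y := by obtain ⟨i, hi⟩ := hdW; rw [← hi]; exact hcy'.zpow_left i
  have hdp : d ^ p = 1 := by
    rw [← orderOf_dvd_iff_pow_eq_one, ← hco, ← Nat.card_zpowers c]
    exact Subgroup.orderOf_dvd_natCard _ hdW
  have hyz : ∀ n : ℕ, y ^ n * z = d ^ n * z * y ^ n := by
    intro n
    induction n with
    | zero => simp
    | succ n ih =>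
      calc y ^ (n + 1) * z = y * (y ^ n * z) := by rw [pow_succ', mul_assoc]
        _ = (y * d ^ n) * z * y ^ n := by rw [ih]; group
        _ = (d ^ n * y) * z * y ^ n := by rw [(hdy.pow_left n).eq]
        _ = d ^ n * (y * z * y⁻¹ * z⁻¹) * z * (y * y ^ n) := by group
        _ = d ^ (n + 1) * z * y ^ (n + 1) := by rw [← hd, ← pow_succ, ← pow_succ']
  have hprod : ∀ n : ℕ, (z * y) ^ n = d ^ n.choose 2 * z ^ n * y ^ n := by
    intro n
    induction n with
    | zero => simp
    | succ n ih =>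
      calc (z * y) ^ (n + 1) = d ^ n.choose 2 * z ^ n * (y ^ n * z) * y := by rw [pow_succ, ih]; group
        _ = d ^ n.choose 2 * (z ^ n * d ^ n) * z * y ^ n * y := by rw [hyz]; group
        _ = d ^ n.choose 2 * (d ^ n * z ^ n) * z * y ^ n * y := by rw [((hdz.pow_left n).pow_right n).eq]
        _ = d ^ (n + 1).choose 2 * z ^ (n + 1) * y ^ (n + 1) := by
          rw [Nat.choose_succ_succ', Nat.choose_one_right, add_comm n (n.choose 2), pow_add d, pow_succ, pow_succ]
          group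
  have hne : d ^ (p ^ b).choose 2 ≠ 1 := by
    intro h
    have h1 : (z * y) ^ p ^ b = 1 := by rw [hprod, h, hzpow, one_mul, inv_mul_cancel]
    obtain ⟨k, hk, hk'⟩ := (Nat.dvd_prime_pow hp.out).mp (orderOf_dvd_of_pow_eq_one h1)
    refine hxy ?_
    have hcomm : Commute x (z * y) := hsmall _ _ ⟨_, ha'⟩ ⟨k, hk'⟩ (by
      have : p ^ k < p ^ (b + 1) := Nat.pow_lt_pow_right hp.out.one_lt (by omega)
      omega)
    have h2 := (hzx.symm.inv_right).mul_right hcomm
    rwa [inv_mul_cancel_left] at h2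
  have hndvd : ¬ p ∣ (p ^ b).choose 2 := by
    rintro ⟨k, hk⟩
    exact hne (by rw [hk, pow_mul, hdp, one_pow])
  obtain ⟨rfl, rfl⟩ : p = 2 ∧ b = 1 := by
    have hpb : p ∣ p ^ b := dvd_pow_self p hb0
    rw [Nat.choose_two_right] at hndvd
    have h2 : p = 2 := by
      by_contra h2
      refine hndvd (Nat.dvd_div_of_mul_dvd ?_)
      exact Nat.Coprime.mul_dvd_of_dvd_of_dvd ((Nat.coprime_primes Nat.prime_two hp.out).mpr (Ne.symm h2))
        ((Nat.even_mul_pred_self _).two_dvd) (hpb.mul_right _)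
    refine ⟨h2, ?_⟩
    subst h2
    by_contra hb1
    obtain ⟨b, rfl⟩ : ∃ b', b = b' + 2 := ⟨b - 2, by omega⟩
    refine hndvd ?_
    rw [pow_succ, mul_comm _ 2, mul_assoc, Nat.mul_div_cancel_left _ two_pos]
    exact (dvd_pow_self 2 (by omega : b + 1 ≠ 0)).mul_right _
  have ha1 : a = 1 := by
    by_contra ha1
    have hd1 : d = 1 := by
      have hx2y : Commute (x ^ (2 : ℤ)) y := by
        rw [show x ^ (2 : ℤ) = x ^ (2 : ℕ) from zpow_natCast x 2]; exact hxpy
      obtain ⟨k, hk⟩ : ∃ k : ℤ, z = (x ^ (2 : ℤ)) ^ k := by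
        obtain ⟨a, rfl⟩ : ∃ a', a = a' + 2 := ⟨a - 2, by omega⟩
        refine ⟨-((2 : ℤ) ^ a * m), ?_⟩
        rw [hz, ← zpow_mul]
        congr 1
        rw [show a + 2 - 1 = a + 1 by omega]
        push_cast
        ring
      have hzy : Commute z y := by rw [hk]; exact hx2y.zpow_left k
      rw [hd, ← hzy.eq]; group
    exact hne (by rw [hd1, one_pow])
  subst ha1
  have hx22 : (x ^ 2) ^ 2 = 1 := by
    rw [← pow_mul, show 2 * 2 = orderOf x by rw [ha']; norm_num]
    exact pow_orderOf_eq_one x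
  refine ⟨rfl, x, y, by rw [ha']; norm_num, ?_, ?_⟩
  · have hx2 : x ^ 2 = c := by
      have h4 : c ∈ Subgroup.zpowers (x ^ 2) := by simpa using hcW
      obtain ⟨i, hi⟩ := mem_powers_iff_mem_zpowers.mpr h4
      simp only at hi
      rcases Nat.even_or_odd i with ⟨j, rfl⟩ | ⟨j, rfl⟩
      · exfalso
        refine hc1 ?_
        rw [← hi]; exact pow_even_eq hx22 j
      · rw [← hi]; exact (pow_odd_eq hx22 j).symm
    have h := hx2
    rw [hc, pow_two, mul_assoc, mul_assoc] at h
    have h2 := mul_left_cancel h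
    -- `x = y x⁻¹ y⁻¹`
    calc y * x * y⁻¹ = (y * (x⁻¹ * y⁻¹))⁻¹ := by group
      _ = x⁻¹ := by rw [← h2]
  · have h1 : y ^ 2 ∈ Subgroup.zpowers (x ^ 2) := by
      have := hWc ▸ hyW ▸ Subgroup.mem_zpowers (y ^ 2 ^ 1)
      simpa using this
    obtain ⟨i, hi⟩ := mem_powers_iff_mem_zpowers.mpr h1
    simp only at hi
    rcases Nat.even_or_odd i with ⟨j, rfl⟩ | ⟨j, rfl⟩
    · exfalso
      have hy2 : y ^ 2 = 1 := by rw [← hi]; exact pow_even_eq hx22 j
      have := orderOf_dvd_of_pow_eq_one hy2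
      rw [hb'] at this
      norm_num at this
    · rw [← hi]; exact pow_odd_eq hx22 j

/-- A subgroup containing the prime power order powers of `g` contains `g`. -/
theorem mem_of_primePow_mem (S : Subgroup G) : ∀ n : ℕ, ∀ g : G, orderOf g = n →
    (∀ h ∈ Subgroup.zpowers g, ∀ p k : ℕ, p.Prime → orderOf h = p ^ k → h ∈ S) → g ∈ S := by
  intro n
  induction n using Nat.recOnPrimeCoprime with
  | zero => exact fun g hg _ => absurd hg (orderOf_pos g).ne'
  | prime_pow p k hp => exact fun g hg h => h g (Subgroup.mem_zpowers g) p k hp hg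
  | coprime a b ha hb hab iha ihb =>
    intro g hg h
    have h1 : g ^ a ∈ S := ihb _ (by
      rw [orderOf_pow_of_dvd (by omega) (hg ▸ dvd_mul_right a b), hg, Nat.mul_div_cancel_left _ (by omega)])
      (fun x hx => h x (Subgroup.zpowers_le.mpr (pow_mem (Subgroup.mem_zpowers g) a) hx))
    have h2 : g ^ b ∈ S := iha _ (by
      rw [orderOf_pow_of_dvd (by omega) (hg ▸ dvd_mul_left b a), hg, Nat.mul_div_cancel _ (by omega)])
      (fun x hx => h x (Subgroup.zpowers_le.mpr (pow_mem (Subgroup.mem_zpowers g) b) hx))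
    have e : g = (g ^ a) ^ (Nat.gcdA a b) * (g ^ b) ^ (Nat.gcdB a b) := by
      rw [← zpow_natCast g a, ← zpow_natCast g b, ← zpow_mul, ← zpow_mul, ← zpow_add,
        ← Nat.gcd_eq_gcd_ab, hab.gcd_eq_one, Nat.cast_one, zpow_one]
    rw [e]
    exact mul_mem (zpow_mem h1 _) (zpow_mem h2 _)

theorem commute_of_odd (hn : ∀ H : Subgroup G, H.Normal) {g : G} (hg : Odd (orderOf g)) (h : G) :
    Commute g h := by
  have key : ∀ g' : G, ∀ p k : ℕ, p.Prime → orderOf g' = p ^ k → Odd (orderOf g') → Commute g' h := by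
    intro g' p k hp hpk hodd
    have := mem_of_primePow_mem (Subgroup.centralizer {g'}) _ h rfl (fun h' _ q l hq hql => by
      rw [Subgroup.mem_centralizer_singleton_iff]
      by_contra hc
      haveI := Fact.mk hp
      by_cases hpq : p = q
      · subst hpq
        obtain ⟨hp2, -⟩ := q8_of_noncomm hn (p := p) ⟨k, hpk⟩ ⟨l, hql⟩ (fun h => hc h.eq.symm)
        subst hp2
        rw [hpk] at hodd
        rcases Nat.eq_zero_or_pos k with rfl | hk
        · rw [pow_zero, orderOf_eq_one_iff] at hpk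
          exact hc (by rw [hpk, mul_one, one_mul])
        · exact (Nat.not_even_iff_odd.mpr hodd) (Nat.even_pow.mpr ⟨even_two, by omega⟩)
      · obtain ⟨h1, h2⟩ := comm_facts hn g' h'
        refine hc ?_
        have h3 : g' * h' * g'⁻¹ * h'⁻¹ = 1 := orderOf_eq_one_iff.mp (Nat.eq_one_of_dvd_coprimes
          ((Nat.coprime_primes hp hq).mpr hpq |>.pow k l)
          (hpk ▸ Nat.card_zpowers g' ▸ Subgroup.orderOf_dvd_natCard _ h1)
          (hql ▸ Nat.card_zpowers h' ▸ Subgroup.orderOf_dvd_natCard _ h2))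
        rw [mul_inv_eq_one, mul_inv_eq_iff_eq_mul] at h3
        exact h3.symm)
    exact (Subgroup.mem_centralizer_singleton_iff.mp this).symm
  have := mem_of_primePow_mem (Subgroup.centralizer {h}) _ g rfl (fun g' hg' p k hp hpk => by
    rw [Subgroup.mem_centralizer_singleton_iff]
    refine (key g' p k hp hpk ?_).eq
    exact hg.of_dvd_nat (Nat.card_zpowers g ▸ Subgroup.orderOf_dvd_natCard _ hg'))
  exact Subgroup.mem_centralizer_singleton_iff.mp this

theorem hamiltonian (hna : ¬ IsMulCommutative G) (hn : ∀ H : Subgroup G, H.Normal) :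
    ∃ Q E A : Subgroup G, Nonempty (Q ≃* QuaternionGroup 2) ∧ Cfsg.IsElementaryAbelian 2 E ∧
      IsMulCommutative A ∧ Odd (Nat.card A) ∧ E ⊓ A = ⊥ ∧ Q ⊓ (E ⊔ A) = ⊥ ∧ Q ⊔ (E ⊔ A) = ⊤ := by
  haveI : Fact (Nat.Prime 2) := ⟨Nat.prime_two⟩
  have hcopr : ∀ (g h : G) (p : ℕ) (k l : ℕ), p.Prime → p ≠ 2 → orderOf g = p ^ k → orderOf h = 2 ^ l → Commute g h :=
    fun g h p k l hp hp2 hg _ => commute_of_odd hn (hg ▸ (hp.odd_of_ne_two hp2).pow) h
  -- two non-commuting 2-elements
  obtain ⟨x, y, hx, hyx, hy2⟩ : ∃ x y : G, orderOf x = 4 ∧ y * x * y⁻¹ = x⁻¹ ∧ y ^ 2 = x ^ 2 := by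
    by_contra hcon
    refine hna ⟨⟨fun g h => ?_⟩⟩
    have key : ∀ (g' h' : G) (p q k l : ℕ), p.Prime → q.Prime → orderOf g' = p ^ k → orderOf h' = q ^ l → Commute g' h' := by
      intro g' h' p q k l hp hq hg hh
      by_cases hp2 : p = 2
      · by_cases hq2 : q = 2
        · subst hp2; subst hq2
          by_contra hc
          exact hcon (q8_of_noncomm hn (p := 2) ⟨k, hg⟩ ⟨l, hh⟩ hc).2
        · exact (commute_of_odd hn (hh ▸ (hq.odd_of_ne_two hq2).pow) g').symm
      · exact commute_of_odd hn (hg ▸ (hp.odd_of_ne_two hp2).pow) h'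
    have := mem_of_primePow_mem (Subgroup.centralizer {h}) _ g rfl (fun g' _ p k hp hpk => by
      rw [Subgroup.mem_centralizer_singleton_iff]
      have h2 := mem_of_primePow_mem (Subgroup.centralizer {g'}) _ h rfl (fun h' _ q l hq hql => by
        rw [Subgroup.mem_centralizer_singleton_iff]
        exact (key g' h' p q k l hp hq hpk hql).eq.symm)
      exact (Subgroup.mem_centralizer_singleton_iff.mp h2).symm)
    exact Subgroup.mem_centralizer_singleton_iff.mp this
  have hx4 : x ^ 4 = 1 := hx ▸ pow_orderOf_eq_one x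
  have hx2 : x ^ 2 ≠ 1 := fun h => by
    have := orderOf_dvd_of_pow_eq_one h; rw [hx] at this; norm_num at this
  have hxy : ¬ Commute x y := by
    intro hc
    refine hx2 ?_
    rw [← hc.eq, mul_inv_cancel_right] at hyx
    rw [pow_two]; nth_rw 1 [hyx]; rw [inv_mul_cancel]
  -- the quaternion subgroup
  let f : ZMod 4 → G := fun i => x ^ i.val
  have hf : ∀ i j, f (i + j) = f i * f j := fun i j => by
    show x ^ (i + j).val = x ^ i.val * x ^ j.val
    rw [← pow_add, ZMod.val_add]
    have := pow_mod_orderOf x (i.val + j.val)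
    rwa [hx] at this
  have hf0 : f 0 = 1 := by show x ^ (0 : ZMod 4).val = 1; simp
  have hfneg : ∀ i, f (-i) = (f i)⁻¹ := fun i => eq_inv_of_mul_eq_one_left (by rw [← hf, neg_add_cancel, hf0])
  have hfy : ∀ i, f i * y = y * (f i)⁻¹ := by
    intro i
    have h1 : y * f i * y⁻¹ = (f i)⁻¹ := by
      show y * x ^ i.val * y⁻¹ = (x ^ i.val)⁻¹
      rw [← inv_pow, ← hyx, conj_pow]
    calc f i * y = (y * f i * y⁻¹)⁻¹ * y := by rw [h1, inv_inv]
      _ = y * (f i)⁻¹ := by group
  let φ : QuaternionGroup 2 →* G := MonoidHom.mk'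
    (fun q => match q with
      | .a i => f i
      | .xa i => y * f i) (by
    rintro (i | i) (j | j)
    · exact hf i j
    · show y * f (j - i) = f i * (y * f j)
      rw [← mul_assoc, hfy, mul_assoc, ← hfneg, ← hf, neg_add_eq_sub]
    · show y * f (i + j) = y * f i * f j
      rw [hf, mul_assoc]
    · show f ((2 : ℕ) + j - i) = y * f i * (y * f j)
      have e : y * f i * (y * f j) = y ^ 2 * ((f i)⁻¹ * f j) := by
        rw [mul_assoc, ← mul_assoc (f i), hfy, pow_two]; group
      rw [e, hy2, ← hfneg, ← hf, show ((2 : ℕ) : ZMod 4) + j - i = (2 : ℕ) + (-i + j) by ring, hf]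
      congr 1)
  have hφa : ∀ i, φ (.a i) = f i := fun _ => rfl
  have hφxa : ∀ i, φ (.xa i) = y * f i := fun _ => rfl
  have hyf : ∀ i, y * f i ∈ Subgroup.zpowers x → False := fun i h => by
    have h' : y ∈ Subgroup.zpowers x :=
      (Subgroup.mul_mem_cancel_right _ (pow_mem (Subgroup.mem_zpowers x) _)).mp h
    exact hxy (commute_of_mem_zpowers h').symm
  have hφinj : Function.Injective φ := by
    rw [injective_iff_map_eq_one]
    rintro (i | i) h
    · rw [hφa] at h
      have h1 : x ^ i.val = 1 := h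
      rw [← orderOf_dvd_iff_pow_eq_one, hx] at h1
      have := i.val_lt
      have hi : i = 0 := (ZMod.val_eq_zero i).mp (Nat.eq_zero_of_dvd_of_lt h1 this)
      rw [hi]; rfl
    · rw [hφxa] at h
      exact (hyf i (by rw [h]; exact one_mem _)).elim
  -- the centralizer of the quaternion subgroup
  set C := Subgroup.centralizer ({x, y} : Set G) with hC
  have hmemC : ∀ g : G, g ∈ C ↔ Commute x g ∧ Commute y g := by
    intro g
    rw [hC, Subgroup.mem_centralizer_iff]
    exact ⟨fun h => ⟨h x (by simp), h y (by simp)⟩, fun h z hz => by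
      rcases hz with rfl | rfl
      exacts [h.1, h.2]⟩
  have hx2C : x ^ 2 ∈ C := (hmemC _).mpr ⟨(Commute.refl x).pow_right 2, hy2 ▸ (Commute.refl y).pow_right 2⟩
  have hno4 : ∀ t ∈ C, orderOf t ≠ 4 := by
    intro t ht ht4
    obtain ⟨htx, hty⟩ := (hmemC t).mp ht
    have htx' : Commute t x := htx.symm
    have hc : (t * x) * y * (t * x)⁻¹ * y⁻¹ = x ^ 2 := by
      calc (t * x) * y * (t * x)⁻¹ * y⁻¹ = t * (x * (y * x⁻¹ * y⁻¹) * y) * t⁻¹ * y⁻¹ := by group
        _ = t * (x * x * y) * t⁻¹ * y⁻¹ := by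
          rw [show y * x⁻¹ * y⁻¹ = x by
            calc y * x⁻¹ * y⁻¹ = (y * x * y⁻¹)⁻¹ := by group
              _ = x := by rw [hyx, inv_inv]]
        _ = (t * (x * x * y)) * t⁻¹ * y⁻¹ := by group
        _ = ((x * x * y) * t) * t⁻¹ * y⁻¹ := by rw [((htx'.mul_right htx').mul_right hty.symm).eq]
        _ = x ^ 2 := by rw [pow_two]; group
    obtain ⟨i, hi⟩ := mem_powers_iff_mem_zpowers.mpr (hc ▸ (comm_facts hn (t * x) y).1)
    simp only at hi
    rw [htx'.mul_pow] at hi
    rcases Nat.even_or_odd i with ⟨j, rfl⟩ | ⟨j, rfl⟩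
    · rw [← two_mul, pow_mul, pow_mul] at hi
      have ht2 : (t ^ 2) ^ 2 = 1 := by rw [← pow_mul, ← orderOf_dvd_iff_pow_eq_one, ht4]
      have hx22 : (x ^ 2) ^ 2 = 1 := by rw [← pow_mul]; exact hx4
      rcases Nat.even_or_odd j with ⟨l, rfl⟩ | ⟨l, rfl⟩
      · rw [← two_mul, pow_mul, pow_mul, ht2, hx22, one_pow, one_mul] at hi
        exact hx2 hi.symm
      · rw [pow_succ, pow_succ, pow_mul, pow_mul, ht2, hx22, one_pow, one_mul, one_mul, mul_eq_right] at hi
        have := orderOf_dvd_of_pow_eq_one hi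
        rw [ht4] at this
        norm_num at this
    · -- an odd power: `x` would commute with `y`
      refine hxy ?_
      have h1 : Commute (t ^ (2 * j + 1) * x ^ (2 * j + 1)) y := by
        rw [hi]; exact ((hmemC _).mp hx2C).2.symm
      have h2 := ((hty.symm.pow_left (2 * j + 1)).inv_left).mul_left h1
      rw [inv_mul_cancel_left, pow_succ, pow_mul] at h2
      have h3 := (((((hmemC _).mp hx2C).2.symm).pow_left j).inv_left).mul_left h2
      rwa [inv_mul_cancel_left] at h3
  have hexp : ∀ t ∈ C, ∀ k, orderOf t = 2 ^ k → t ^ 2 = 1 := by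
    intro t ht k hk
    by_contra hc
    have hk2 : 2 ≤ k := by
      by_contra h
      refine hc ?_
      rw [← orderOf_dvd_iff_pow_eq_one, hk]
      exact (pow_dvd_pow 2 (show k ≤ 1 by omega)).trans (by norm_num)
    refine hno4 _ (pow_mem ht (2 ^ (k - 2))) ?_
    rw [orderOf_pow_of_dvd (pow_pos two_pos _).ne' (hk ▸ pow_dvd_pow 2 (by omega)), hk,
      Nat.pow_div (by omega) two_pos, show k - (k - 2) = 2 by omega]
    norm_num
  have hCcomm : ∀ g ∈ C, ∀ h ∈ C, Commute g h := by
    intro g hg h hh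
    have key : ∀ g' ∈ C, ∀ h' ∈ C, ∀ (p q k l : ℕ), p.Prime → q.Prime → orderOf g' = p ^ k → orderOf h' = q ^ l → Commute g' h' := by
      intro g' hg' h' hh' p q k l hp hq hgo hho
      by_cases hp2 : p = 2
      · by_cases hq2 : q = 2
        · subst hp2; subst hq2
          have h1 := hexp g' hg' k hgo
          have hz := conj_mem_zpowers hn h' g'
          obtain ⟨i, hi⟩ := mem_powers_iff_mem_zpowers.mpr hz
          simp only at hi
          rcases Nat.even_or_odd i with ⟨j, rfl⟩ | ⟨j, rfl⟩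
          · rw [← two_mul, pow_mul, h1, one_pow] at hi
            have : g' = 1 := by
              have h3 := hi.symm
              rwa [mul_inv_eq_one, mul_eq_left] at h3
            rw [this]; exact Commute.one_left _
          · rw [pow_succ, pow_mul, h1, one_pow, one_mul] at hi
            exact (mul_inv_eq_iff_eq_mul.mp hi.symm).symm
        · exact (commute_of_odd hn (hho ▸ (hq.odd_of_ne_two hq2).pow) g').symm
      · exact commute_of_odd hn (hgo ▸ (hp.odd_of_ne_two hp2).pow) h'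
    have := mem_of_primePow_mem (Subgroup.centralizer {h}) _ g rfl (fun g' hg' p k hp hpk => by
      rw [Subgroup.mem_centralizer_singleton_iff]
      have h2 := mem_of_primePow_mem (Subgroup.centralizer {g'}) _ h rfl (fun h' hh' q l hq hql => by
        rw [Subgroup.mem_centralizer_singleton_iff]
        exact (key g' (Subgroup.zpowers_le.mpr hg hg') h' (Subgroup.zpowers_le.mpr hh hh') p q k l hp hq hpk hql).eq.symm)
      exact (Subgroup.mem_centralizer_singleton_iff.mp h2).symm)
    exact Subgroup.mem_centralizer_singleton_iff.mp this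
  -- `A`, the elements of odd order
  let A : Subgroup G :=
    { carrier := {g | Odd (orderOf g)}
      one_mem' := by simp
      mul_mem' := fun {a b} ha hb =>
        (Odd.mul ha hb).of_dvd_nat (Commute.orderOf_mul_dvd_mul_orderOf (commute_of_odd hn ha b))
      inv_mem' := fun {a} ha => by simpa using ha }
  have hA : ∀ g, g ∈ A ↔ Odd (orderOf g) := fun _ => Iff.rfl
  have hAodd : Odd (Nat.card A) := by
    rw [← Nat.not_even_iff_odd, even_iff_two_dvd]
    intro h2
    obtain ⟨g, hg⟩ := exists_prime_orderOf_dvd_card' 2 h2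
    have := (hA g).mp g.2
    rw [Subgroup.orderOf_coe, hg] at this
    exact (Nat.not_even_iff_odd.mpr this) even_two
  let E₀ : Subgroup G :=
    { carrier := {g | g ∈ C ∧ g ^ 2 = 1}
      one_mem' := ⟨one_mem _, one_pow 2⟩
      mul_mem' := fun {a b} ha hb => ⟨mul_mem ha.1 hb.1, by rw [(hCcomm a ha.1 b hb.1).mul_pow, ha.2, hb.2, one_mul]⟩
      inv_mem' := fun {a} ha => ⟨inv_mem ha.1, by rw [inv_pow, ha.2, inv_one]⟩ }
  obtain ⟨E, -, hEmax⟩ := (Set.toFinite {E : Subgroup G | E ≤ E₀ ∧ x ^ 2 ∉ E}).exists_le_maximal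
    (show (⊥ : Subgroup G) ∈ _ from ⟨bot_le, hx2⟩)
  obtain ⟨hEle, hcE⟩ := hEmax.prop
  have hsplit : ∀ t ∈ E₀, t ∈ E ∨ t * x ^ 2 ∈ E := by
    intro t ht
    by_contra hcon
    push Not at hcon
    let E' : Subgroup G :=
      { carrier := {g | g ∈ E ∨ g * t ∈ E}
        one_mem' := Or.inl (one_mem _)
        mul_mem' := fun {a b} ha hb => by
          have hbC : b ∈ C := by
            rcases hb with hb | hb
            · exact (hEle hb).1
            · exact (Subgroup.mul_mem_cancel_right _ ht.1).mp (hEle hb).1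
          have e : a * t * b = a * b * t := by rw [mul_assoc, (hCcomm t ht.1 b hbC).eq, mul_assoc]
          have ht2 : t * t = 1 := by rw [← pow_two]; exact ht.2
          rcases ha with ha | ha <;> rcases hb with hb | hb
          · exact Or.inl (mul_mem ha hb)
          · exact Or.inr (by rw [mul_assoc]; exact mul_mem ha hb)
          · exact Or.inr (e ▸ mul_mem ha hb)
          · refine Or.inl ?_
            have := mul_mem ha hb
            rwa [← mul_assoc, e, mul_assoc, ht2, mul_one] at this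
        inv_mem' := fun {a} ha => by
          have ht2 : t⁻¹ = t := inv_eq_of_mul_eq_one_right (by rw [← pow_two]; exact ht.2)
          rcases ha with ha | ha
          · exact Or.inl (inv_mem ha)
          · refine Or.inr ?_
            have h1 := inv_mem ha
            rw [mul_inv_rev, ht2] at h1
            rwa [(hCcomm _ ht.1 a⁻¹ (inv_mem ((Subgroup.mul_mem_cancel_right _ ht.1).mp (hEle ha).1))).eq] at h1 }
    have hE' : E' ≤ E₀ := by
      rintro g (hg | hg)
      · exact hEle hg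
      · exact (Subgroup.mul_mem_cancel_right _ ht).mp (hEle hg)
    have hx' : x ^ 2 ∉ E' := by
      rintro (h | h)
      · exact hcE h
      · exact hcon.2 (by rwa [(hCcomm t ht.1 _ hx2C).eq])
    exact hcon.1 (hEmax.le_of_ge ⟨hE', hx'⟩ (fun g hg => Or.inl hg) (Or.inr (by
      rw [← pow_two, ht.2]; exact one_mem _)))
  have hCdec : ∀ g ∈ C, ∃ t ∈ E₀, ∃ a ∈ A, g = t * a := by
    intro g hg
    rcases Nat.even_or_odd (orderOf g) with ⟨m, hm⟩ | hodd
    · have hm2 : orderOf g = 2 * m := by omega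
      have hm0 : 0 < m := by have := orderOf_pos g; omega
      have hmo : Odd m := by
        rw [← Nat.not_even_iff_odd]
        rintro ⟨l, hl⟩
        have hl0 : 0 < l := by omega
        refine hno4 _ (pow_mem hg l) ?_
        rw [orderOf_pow_of_dvd hl0.ne' ⟨4, by omega⟩, hm2, hl, show 2 * (l + l) = l * 4 by ring,
          Nat.mul_div_cancel_left _ hl0]
      refine ⟨g ^ m, ⟨pow_mem hg m, by rw [← pow_mul, mul_comm, ← hm2, pow_orderOf_eq_one]⟩, g ^ (m + 1), ?_, ?_⟩
      · rw [hA]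
        refine hmo.of_dvd_nat (orderOf_dvd_of_pow_eq_one ?_)
        obtain ⟨l, hl⟩ := hmo.add_one
        rw [← pow_mul, ← orderOf_dvd_iff_pow_eq_one, hm2, hl]
        exact ⟨l, by ring⟩
      · rw [← pow_add, show m + (m + 1) = orderOf g + 1 by omega, pow_succ, pow_orderOf_eq_one, one_mul]
    · exact ⟨1, one_mem _, g, (hA g).mpr hodd, (one_mul g).symm⟩
  have hEA : E ⊓ A = ⊥ := by
    rw [Subgroup.eq_bot_iff_forall]
    rintro g ⟨hgE, hgA⟩
    rcases (Nat.dvd_prime Nat.prime_two).mp (orderOf_dvd_of_pow_eq_one (hEle hgE).2) with h | h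
    · exact orderOf_eq_one_iff.mp h
    · have := (hA g).mp hgA
      rw [h] at this
      exact absurd this (by decide)
  have hAn : A.Normal := hn A
  refine ⟨φ.range, E, A, ⟨(MonoidHom.ofInjective hφinj).symm⟩, ⟨⟨⟨fun a b => Subtype.ext
    (hCcomm a (hEle a.2).1 b (hEle b.2).1)⟩⟩, fun a ha => (hEle ha).2⟩, ⟨⟨fun a b => Subtype.ext
    (commute_of_odd hn a.2 (b : G))⟩⟩, hAodd, hEA, ?_, ?_⟩
  · rw [Subgroup.eq_bot_iff_forall]
    rintro g ⟨⟨q, rfl⟩, hg⟩
    obtain ⟨e, he, a, ha, hea⟩ : φ q ∈ (E : Set G) * (A : Set G) := by rw [← Subgroup.mul_normal]; exact hg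
    simp only at hea
    have hgC : φ q ∈ C := by
      rw [← hea]
      exact mul_mem (hEle he).1 ((hmemC a).mpr ⟨(commute_of_odd hn ha x).symm, (commute_of_odd hn ha y).symm⟩)
    obtain ⟨hqx, hqy⟩ := (hmemC _).mp hgC
    rcases q with i | i
    · rw [hφa] at hqy hea hgC ⊢
      have h2 : f i = (f i)⁻¹ := by
        have := hfy i
        rw [← hqy.eq] at this
        exact mul_left_cancel this
      have h3 : (x ^ i.val) ^ 2 = 1 := by rw [pow_two]; exact mul_eq_one_iff_eq_inv.mpr h2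
      have hf2 : f i ^ 2 = 1 := h3
      have hae : a = e⁻¹ * f i := by rw [← hea]; group
      have ha1 : a = 1 := by
        have haC : a ∈ C := by rw [hae]; exact mul_mem (inv_mem (hEle he).1) hgC
        have h4 : a ^ 2 = 1 := by
          rw [hae, (hCcomm _ (inv_mem (hEle he).1) _ hgC).mul_pow, inv_pow, (hEle he).2, hf2, inv_one, one_mul]
        rcases (Nat.dvd_prime Nat.prime_two).mp (orderOf_dvd_of_pow_eq_one h4) with h | h
        · exact orderOf_eq_one_iff.mp h
        · have := (hA a).mp ha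
          rw [h] at this
          exact absurd this (by decide)
      rw [ha1, mul_one] at hea
      rw [← pow_mul, ← orderOf_dvd_iff_pow_eq_one, hx] at h3
      obtain ⟨l, hl⟩ : 2 ∣ i.val := by omega
      have hlt : i.val < 4 := i.val_lt
      have hl2 : l < 2 := by omega
      interval_cases l
      · show x ^ i.val = 1
        rw [hl, mul_zero, pow_zero]
      · exfalso
        refine hcE ?_
        have : f i = x ^ 2 := by show x ^ i.val = _; rw [hl]
        rw [← this, ← hea]; exact he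
    · rw [hφxa] at hqx
      exfalso
      have h1 : Commute x (f i) := (Commute.refl x).pow_right _
      have h2 := hqx.mul_right h1.inv_right
      rw [mul_inv_cancel_right] at h2
      exact hxy h2
  · rw [eq_top_iff]
    intro g _
    -- `G = Q C`
    have hdec : ∀ g : G, ∃ q, g * (φ q)⁻¹ ∈ C := by
      intro g
      have h4 : ∀ w : G, orderOf w = 4 → g * w * g⁻¹ = w ∨ g * w * g⁻¹ = w⁻¹ := by
        intro w hw
        obtain ⟨i, hi⟩ := mem_powers_iff_mem_zpowers.mpr (conj_mem_zpowers hn g w)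
        simp only at hi
        have hw4 : w ^ 4 = 1 := hw ▸ pow_orderOf_eq_one w
        have ho : orderOf (w ^ i) = 4 := by
          rw [hi]; exact (orderOf_injective (MulAut.conj g).toMonoidHom (MulAut.conj g).injective w).trans hw
        rw [← Nat.mod_add_div i 4, pow_add, pow_mul, hw4, one_pow, mul_one] at hi ho
        have := Nat.mod_lt i (show 4 > 0 by omega)
        interval_cases h : i % 4
        · simp at ho
        · left; rw [← hi, pow_one]
        · exfalso
          have h2 : (w ^ 2) ^ 2 = 1 := by rw [← pow_mul]; exact hw4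
          have := orderOf_dvd_of_pow_eq_one h2
          rw [ho] at this; norm_num at this
        · right; rw [← hi]; exact eq_inv_of_mul_eq_one_left (by rw [← pow_succ]; exact hw4)
      have hyo : orderOf y = 4 := by
        refine orderOf_eq_prime_pow (p := 2) (n := 1) (by rw [pow_one, hy2]; exact hx2) ?_
        rw [show 2 ^ (1 + 1) = 2 * 2 by rfl, pow_mul, hy2, ← pow_mul]; exact hx4
      have hxy' : x * y * x⁻¹ = y⁻¹ := by
        have h1 : x * y = y * x⁻¹ := by
          have := hfy 1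
          have e : f 1 = x := pow_one x
          rwa [e] at this
        calc x * y * x⁻¹ = y * (x ^ 2)⁻¹ := by rw [h1, pow_two]; group
          _ = y * (y ^ 2)⁻¹ := by rw [hy2]
          _ = y⁻¹ := by group
      have hfix : ∀ w z : G, w * z * w⁻¹ = z⁻¹ → ∀ u : G, u * z * u⁻¹ = z⁻¹ → Commute z (u * w⁻¹) := by
        intro w z hw u hu
        have hw' : w⁻¹ * z * w = z⁻¹ := by
          have h := congrArg Inv.inv hw
          calc w⁻¹ * z * w = w⁻¹ * z⁻¹⁻¹ * w := by rw [inv_inv]
            _ = w⁻¹ * (w * z * w⁻¹)⁻¹ * w := by rw [hw]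
            _ = z⁻¹ := by group
        calc z * (u * w⁻¹) = (u * z⁻¹ * u⁻¹) * (u * w⁻¹) := by
              rw [show u * z⁻¹ * u⁻¹ = (u * z * u⁻¹)⁻¹ by group, hu, inv_inv]
          _ = u * (w⁻¹ * z * w) * w⁻¹ := by rw [hw']; group
          _ = u * w⁻¹ * z := by group
      have hfix0 : ∀ z u : G, u * z * u⁻¹ = z → Commute z u := fun z u hu => (mul_inv_eq_iff_eq_mul.mp hu).symm
      -- correct the action on `x` by `y`, then the action on `y` by `x`
      obtain ⟨q₁, hq₁⟩ : ∃ q, Commute x (g * (φ q)⁻¹) := by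
        rcases h4 x hx with h | h
        · exact ⟨1, by rw [map_one, inv_one, mul_one]; exact hfix0 _ _ h⟩
        · refine ⟨.xa 0, ?_⟩
          rw [hφxa, hf0, mul_one]
          exact hfix _ _ hyx _ h
      set g' := g * (φ q₁)⁻¹ with hg'
      have h4' : g' * y * g'⁻¹ = y ∨ g' * y * g'⁻¹ = y⁻¹ := by
        obtain ⟨i, hi⟩ := mem_powers_iff_mem_zpowers.mpr (conj_mem_zpowers hn g' y)
        simp only at hi
        have hy4 : y ^ 4 = 1 := hyo ▸ pow_orderOf_eq_one y
        have ho : orderOf (y ^ i) = 4 := by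
          rw [hi]; exact (orderOf_injective (MulAut.conj g').toMonoidHom (MulAut.conj g').injective y).trans hyo
        rw [← Nat.mod_add_div i 4, pow_add, pow_mul, hy4, one_pow, mul_one] at hi ho
        have := Nat.mod_lt i (show 4 > 0 by omega)
        interval_cases h : i % 4
        · simp at ho
        · left; rw [← hi, pow_one]
        · exfalso
          have h2 : (y ^ 2) ^ 2 = 1 := by rw [← pow_mul]; exact hy4
          have := orderOf_dvd_of_pow_eq_one h2
          rw [ho] at this; norm_num at this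
        · right; rw [← hi]; exact eq_inv_of_mul_eq_one_left (by rw [← pow_succ]; exact hy4)
      rcases h4' with h | h
      · exact ⟨q₁, (hmemC _).mpr ⟨hq₁, hfix0 _ _ h⟩⟩
      · refine ⟨.a 1 * q₁, ?_⟩
        have e : φ (.a 1) = x := (hφa 1).trans (pow_one x)
        rw [map_mul, e, mul_inv_rev, ← mul_assoc, ← hg']
        exact (hmemC _).mpr ⟨hq₁.mul_right (Commute.refl x).inv_right, hfix _ _ hxy' _ h⟩
    obtain ⟨q, hq⟩ := hdec g
    obtain ⟨t, ht, a, ha, hta⟩ := hCdec _ hq
    have hg : g = t * a * φ q := by rw [← hta]; group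
    rw [hg]
    refine mul_mem ?_ (Subgroup.mem_sup_left ⟨q, rfl⟩)
    refine mul_mem ?_ (Subgroup.mem_sup_right (Subgroup.mem_sup_right ha))
    rcases hsplit t ht with h | h
    · exact Subgroup.mem_sup_right (Subgroup.mem_sup_left h)
    · have h' := mul_mem (Subgroup.mem_sup_right (S := φ.range) (Subgroup.mem_sup_left (T := A) h))
        (Subgroup.mem_sup_left (T := E ⊔ A) (show x ^ 2 ∈ φ.range from ⟨.a 2, by rw [hφa]; rfl⟩))
      rwa [mul_assoc, ← pow_two, ← pow_mul, hx4, mul_one] at h'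


/-- A finite non-abelian group in which every subgroup is normal is the internal direct product of a subgroup isomorphic to the quaternion group of order `8`, an elementary abelian `2`-subgroup and an abelian subgroup of odd order. -/
theorem result {G : Type*} [Group G] [Finite G] (hna : ¬ IsMulCommutative G) (hn : ∀ H : Subgroup G, H.Normal) : ∃ Q E A : Subgroup G, Nonempty (Q ≃* QuaternionGroup 2) ∧ Cfsg.IsElementaryAbelian 2 E ∧ IsMulCommutative A ∧ Odd (Nat.card A) ∧ E ⊓ A = ⊥ ∧ Q ⊓ (E ⊔ A) = ⊥ ∧ Q ⊔ (E ⊔ A) = ⊤ := by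
  exact hamiltonian hna hn

end Cfsg.Agent.S4211
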