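import Cfsg.Statements.S4212
import Mathlib
import Cfsg.Agent.Lib.OrderCount.Frobenius
import Cfsg.Agent.Lib.Involution.Basic
-- import your own Cfsg.Agent.* helpers here

set_option autoImplicit false
open Cfsg

namespace Cfsg.Agent.S4212

theorem gcd_mul_gcd_dvd {a h d N m : ℕ} (ha : a ∣ d) (haN : a ∣ N) (hN : h * m = N) :
    a ∣ h * Nat.gcd d m := by
  rw [← Nat.gcd_mul_left]
  exact Nat.dvd_gcd (dvd_mul_of_dvd_right ha h) (hN ▸ haN)

theorem roots_of_central {C : Type*} [Group C] [Finite C] (c : C) (hc : c ∈ Subgroup.center C) (n : ℕ) :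
    Nat.gcd n (Nat.card C) ∣ Nat.card {x : C // x ^ n = c} := by
  classical
  haveI := Fintype.ofFinite C
  rw [Nat.dvd_iff_prime_pow_dvd_dvd]
  intro q a hq hqa
  haveI := Fact.mk hq
  obtain ⟨hqn, hqN⟩ := Nat.dvd_gcd_iff.mp hqa
  rcases Nat.eq_zero_or_pos a with rfl | ha
  · simp
  by_cases hqc : q ∣ orderOf c
  · -- partition the roots by `(⟨x⟩, x ^ q ^ a)`
    have horder : ∀ x : C, x ^ n = c → q ^ a * q ∣ orderOf x := by
      intro x hx
      have h1 : orderOf c * Nat.gcd (orderOf x) n = orderOf x := by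
        rw [← hx, orderOf_pow]; exact Nat.div_mul_cancel (Nat.gcd_dvd_left _ _)
      by_contra hne
      have h2 : q ^ a ∣ orderOf x := by
        obtain ⟨b, o, ho, hbo⟩ := Nat.exists_eq_pow_mul_and_not_dvd (orderOf_pos x).ne' q hq.ne_one
        by_contra h3
        have hb : b < a := by
          by_contra hba
          exact h3 (hbo ▸ dvd_mul_of_dvd_left (pow_dvd_pow q (not_lt.mp hba)) o)
        have h4 : q ^ b * q ∣ orderOf c * Nat.gcd (orderOf x) n := by
          rw [mul_comm (q ^ b) q]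
          refine mul_dvd_mul hqc (Nat.dvd_gcd (hbo ▸ dvd_mul_right _ _) ?_)
          exact (pow_dvd_pow q hb.le).trans hqn
        rw [h1, hbo] at h4
        exact ho ((Nat.mul_dvd_mul_iff_left (pow_pos hq.pos b)).mp h4)
      exact hne (by rw [mul_comm (q ^ a) q, ← h1]; exact mul_dvd_mul hqc (Nat.dvd_gcd h2 hqn))
    rw [Nat.card_eq_fintype_card, Fintype.card_subtype]
    rw [Finset.card_eq_sum_card_image (fun x : C => (Subgroup.zpowers x, x ^ q ^ a))]
    refine Finset.dvd_sum fun key hkey => ?_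
    obtain ⟨x, hx, rfl⟩ := Finset.mem_image.mp hkey
    have hxn : x ^ n = c := (Finset.mem_filter.mp hx).2
    obtain ⟨L, hL⟩ := dvd_trans (dvd_mul_right _ q) (horder x hxn)
    have hqL : q ∣ L := by
      have := horder x hxn
      rw [hL] at this
      exact (Nat.mul_dvd_mul_iff_left (pow_pos hq.pos a)).mp this
    have hL0 : L ≠ 0 := by
      rintro rfl
      rw [mul_zero] at hL
      exact (orderOf_pos x).ne' hL
    have hW : Nat.card (Subgroup.zpowers (x ^ L)) = q ^ a := by
      rw [Nat.card_zpowers, orderOf_pow_of_dvd hL0 (Dvd.intro_left _ hL.symm), hL,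
        Nat.mul_div_cancel _ (Nat.pos_of_ne_zero hL0)]
    rw [← Fintype.card_coe, ← Nat.card_eq_fintype_card]
    have hwpow : ∀ w ∈ Subgroup.zpowers (x ^ L), w ^ q ^ a = 1 := fun w hw => by
      rw [← hW]
      exact congrArg Subtype.val (pow_card_eq_one' (x := (⟨w, hw⟩ : Subgroup.zpowers (x ^ L))))
    have hgen : ∀ w ∈ Subgroup.zpowers (x ^ L), Subgroup.zpowers (x * w) = Subgroup.zpowers x ∧
        (x * w) ^ q ^ a = x ^ q ^ a ∧ (x * w) ^ n = c := by
      intro w hw
      have hwx : w ∈ Subgroup.zpowers x :=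
        (Subgroup.zpowers_le.mpr ((Subgroup.zpowers x).pow_mem (Subgroup.mem_zpowers x) L)) hw
      have hcomm : Commute x w := by
        obtain ⟨i, rfl⟩ := hwx
        exact Commute.self_zpow x i
      have hqa' : (x * w) ^ q ^ a = x ^ q ^ a := by rw [hcomm.mul_pow, hwpow w hw, mul_one]
      refine ⟨?_, hqa', ?_⟩
      · have hmem : x * w ∈ Subgroup.zpowers x := (Subgroup.zpowers x).mul_mem (Subgroup.mem_zpowers x) hwx
        refine Subgroup.eq_of_le_of_card_ge (Subgroup.zpowers_le.mpr hmem) ?_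
        rw [Nat.card_zpowers, Nat.card_zpowers]
        refine Nat.le_of_dvd (orderOf_pos _) ?_
        have hoL : orderOf ((x * w) ^ q ^ a) = L := by
          rw [hqa', orderOf_pow_of_dvd (pow_ne_zero a hq.ne_zero) (Dvd.intro _ hL.symm), hL,
            Nat.mul_div_cancel_left _ (pow_pos hq.pos a)]
        rw [orderOf_pow] at hoL
        obtain ⟨i, hia, hi⟩ := (Nat.dvd_prime_pow hq).mp (Nat.gcd_dvd_right (orderOf (x * w)) (q ^ a))
        have h1 : orderOf (x * w) = L * q ^ i := by
          rw [← hi, ← hoL, Nat.div_mul_cancel (Nat.gcd_dvd_left _ _)]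
        have h2 : i = a := by
          by_contra hne
          have : q ^ (i + 1) ∣ q ^ i := by
            conv_rhs => rw [← hi]
            refine Nat.dvd_gcd ?_ (pow_dvd_pow q (by omega))
            rw [h1, pow_succ, mul_comm]
            exact mul_dvd_mul hqL dvd_rfl
          have := (Nat.pow_dvd_pow_iff_le_right hq.one_lt).mp this
          omega
        rw [h1, h2, mul_comm, ← hL]
      · obtain ⟨n', rfl⟩ := hqn
        rw [pow_mul, hqa', ← pow_mul, hxn]
    refine dvd_of_eq (hW.symm.trans (Nat.card_congr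
      { toFun := fun w => ⟨x * w.1, Finset.mem_filter.mpr
          ⟨Finset.mem_filter.mpr ⟨Finset.mem_univ _, (hgen w.1 w.2).2.2⟩, Prod.ext (hgen w.1 w.2).1 (hgen w.1 w.2).2.1⟩⟩
        invFun := fun y => ⟨x⁻¹ * y.1, ?_⟩
        left_inv := fun w => Subtype.ext (inv_mul_cancel_left _ _)
        right_inv := fun y => Subtype.ext (mul_inv_cancel_left _ _) }))
    obtain ⟨hyz, hyq⟩ := Prod.ext_iff.mp (Finset.mem_filter.mp y.2).2
    obtain ⟨t, ht⟩ : y.1 ∈ Subgroup.zpowers x := (show Subgroup.zpowers y.1 = Subgroup.zpowers x from hyz).le (Subgroup.mem_zpowers y.1)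
    have hpow : (x ^ (t - 1)) ^ q ^ a = 1 := by
      have ht' : x ^ (t - 1) = x⁻¹ * y.1 := by
        rw [zpow_sub_one, ← ht]
        exact ((Commute.self_zpow x t).inv_left).eq.symm
      have hcomm : Commute x⁻¹ y.1 := by
        rw [← ht]; exact (Commute.self_zpow x t).inv_left
      rw [ht', hcomm.mul_pow, inv_pow, show y.1 ^ q ^ a = x ^ q ^ a from hyq, inv_mul_cancel]
    have hyx : x⁻¹ * y.1 = x ^ (t - 1) := by
      rw [zpow_sub_one, ← ht]
      exact ((Commute.self_zpow x t).inv_left).eq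
    rw [hyx]
    rw [← zpow_natCast, ← zpow_mul, ← orderOf_dvd_iff_zpow_eq_one, hL, Nat.cast_mul, mul_comm (t - 1)] at hpow
    obtain ⟨j, hj⟩ := Int.dvd_of_mul_dvd_mul_left (by exact_mod_cast pow_ne_zero a hq.ne_zero) hpow
    exact ⟨j, by show (x ^ L) ^ j = _; rw [hj, zpow_mul, zpow_natCast]⟩
  · -- split into commuting parts
    obtain ⟨v, M, hM, hNM⟩ := Nat.exists_eq_pow_mul_and_not_dvd (Nat.card_pos (α := C)).ne' q hq.ne_one
    have hcop : Nat.Coprime (q ^ v) M := (hq.coprime_iff_not_dvd.mpr hM).pow_left v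
    obtain ⟨e, he1, he2⟩ := Nat.chineseRemainder hcop 1 0
    have hN : ∀ x : C, x ^ (q ^ v * M) = 1 := fun x => hNM ▸ pow_card_eq_one'
    have hMe : M ∣ e := Nat.modEq_zero_iff_dvd.mp he2
    have hcM : c ^ M = 1 := by
      rw [← orderOf_dvd_iff_pow_eq_one]
      refine ((hq.coprime_iff_not_dvd.mpr hqc).symm.pow_right v).dvd_of_dvd_mul_left ?_
      exact orderOf_dvd_of_pow_eq_one (hN c)
    have hev : ∀ x : C, (x ^ e) ^ q ^ v = 1 := fun x => by
      obtain ⟨j, hj⟩ := hMe
      rw [← pow_mul, hj, show M * j * q ^ v = q ^ v * M * j by ring, pow_mul, hN, one_pow]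
    have hone : ∀ z : C, z ^ q ^ v = 1 → z ^ e = z := fun z hz => by
      conv_rhs => rw [← pow_one z]
      exact pow_eq_pow_iff_modEq.mpr (he1.of_dvd (orderOf_dvd_of_pow_eq_one hz))
    have hzero : ∀ z : C, z ^ M = 1 → z ^ e = 1 := fun z hz => by
      obtain ⟨j, hj⟩ := hMe
      rw [hj, pow_mul, hz, one_pow]
    set q0 := q ^ v with hq0
    set d := Nat.gcd n q0 with hd
    have hqd : q ^ a ∣ d := Nat.dvd_gcd hqn (by
      rw [hNM] at hqN
      exact ((hq.coprime_iff_not_dvd.mpr hM).pow_left a).dvd_of_dvd_mul_right hqN)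
    have hkey : ∀ x : C, x ^ n = c → (x ^ e) ^ d = 1 ∧ ((x ^ e)⁻¹ * x) ^ M = 1 ∧ ((x ^ e)⁻¹ * x) ^ n = c := by
      intro x hx
      have hcom : Commute (x ^ e)⁻¹ x := ((Commute.refl x).pow_left e).inv_left
      have hzn : (x ^ e) ^ n = 1 := by rw [← pow_mul, mul_comm, pow_mul, hx, hzero c hcM]
      refine ⟨pow_gcd_eq_one.mpr ⟨hzn, hev x⟩, ?_, by rw [hcom.mul_pow, inv_pow, hzn, inv_one, one_mul, hx]⟩
      rw [hcom.mul_pow, inv_pow, inv_mul_eq_one, ← pow_mul]
      apply pow_eq_pow_iff_modEq.mpr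
      have h1 : e * M ≡ 1 * M [MOD q ^ v * M] := he1.mul_right' M
      rw [one_mul] at h1
      exact h1.of_dvd (orderOf_dvd_of_pow_eq_one (hN x))
    let E : {x : C // x ^ n = c} ≃ Σ y : {y : C // y ^ M = 1 ∧ y ^ n = c}, {z : C // Commute y.1 z ∧ z ^ d = 1} :=
      { toFun := fun x => ⟨⟨(x.1 ^ e)⁻¹ * x.1, (hkey x.1 x.2).2⟩, x.1 ^ e,
          (((Commute.refl x.1).pow_left e).inv_left.mul_left (Commute.refl x.1)).pow_right e, (hkey x.1 x.2).1⟩
        invFun := fun q => ⟨q.2.1 * q.1.1, by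
          obtain ⟨⟨y, hy⟩, z, hz⟩ := q
          obtain ⟨j, hj⟩ : d ∣ n := Nat.gcd_dvd_left _ _
          show (z * y) ^ n = c
          rw [hz.1.symm.mul_pow, hy.2, hj, pow_mul, hz.2, one_pow, one_mul]⟩
        left_inv := fun x => Subtype.ext (mul_inv_cancel_left _ _)
        right_inv := fun q => by
          obtain ⟨⟨y, hy⟩, z, hz⟩ := q
          obtain ⟨j, hj⟩ : d ∣ q0 := Nat.gcd_dvd_right _ _
          have hze : (z * y) ^ e = z := by
            rw [hz.1.symm.mul_pow, hzero y hy.1, mul_one]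
            exact hone z (by rw [hj, pow_mul, hz.2, one_pow])
          refine Sigma.subtype_ext (Subtype.ext ?_) hze
          show ((z * y) ^ e)⁻¹ * (z * y) = y
          rw [hze, inv_mul_cancel_left] }
    rw [Nat.card_congr E, Nat.card_sigma]
    set f : C → ℕ := fun y => Nat.card {z : C // Commute y z ∧ z ^ d = 1} with hf
    show q ^ a ∣ ∑ y : {y : C // y ^ M = 1 ∧ y ^ n = c}, f y.1
    rw [← Finset.sum_fiberwise (g := fun y : {y : C // y ^ M = 1 ∧ y ^ n = c} => ConjClasses.mk y.1)]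
    refine Finset.dvd_sum fun K _ => ?_
    rcases (Finset.univ.filter fun y : {y : C // y ^ M = 1 ∧ y ^ n = c} => ConjClasses.mk y.1 = K).eq_empty_or_nonempty with h | h
    · rw [h, Finset.sum_empty]; exact dvd_zero _
    obtain ⟨y, hy⟩ := h
    have hyK : ConjClasses.mk y.1 = K := (Finset.mem_filter.mp hy).2
    have hconst : ∀ z ∈ Finset.univ.filter (fun z : {y : C // y ^ M = 1 ∧ y ^ n = c} => ConjClasses.mk z.1 = K), f z.1 = f y.1 := by
      intro z hz
      obtain ⟨g, hg⟩ := isConj_iff.mp (ConjClasses.mk_eq_mk_iff_isConj.mp (hyK.trans (Finset.mem_filter.mp hz).2.symm))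
      refine (Nat.card_congr (Equiv.subtypeEquiv (MulAut.conj g).toEquiv fun w => ?_)).symm
      show Commute y.1 w ∧ w ^ d = 1 ↔ Commute z.1 (MulAut.conj g w) ∧ (MulAut.conj g w) ^ d = 1
      rw [← hg, show g * y.1 * g⁻¹ = MulAut.conj g y.1 from rfl,
        commute_map_iff (MulAut.conj g).injective, ← map_pow, EmbeddingLike.map_eq_one_iff]
    rw [Finset.sum_eq_card_nsmul hconst, smul_eq_mul]
    have hclass : (Finset.univ.filter fun z : {y : C // y ^ M = 1 ∧ y ^ n = c} => ConjClasses.mk z.1 = K).card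
        = Nat.card {z : C // IsConj y.1 z} := by
      rw [← Fintype.card_coe, ← Nat.card_eq_fintype_card]
      refine Nat.card_congr
        { toFun := fun z => ⟨z.1.1, ConjClasses.mk_eq_mk_iff_isConj.mp (hyK.trans (Finset.mem_filter.mp z.2).2.symm)⟩
          invFun := fun z => ⟨⟨z.1, ?_, ?_⟩, Finset.mem_filter.mpr ⟨Finset.mem_univ _,
            (ConjClasses.mk_eq_mk_iff_isConj.mpr z.2).symm.trans hyK⟩⟩
          left_inv := fun z => rfl
          right_inv := fun z => rfl }
      · obtain ⟨g, hg⟩ := isConj_iff.mp z.2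
        rw [← hg, conj_pow, y.2.1]; group
      · obtain ⟨g, hg⟩ := isConj_iff.mp z.2
        rw [← hg, conj_pow, y.2.2, Subgroup.mem_center_iff.mp hc g]
        group
    rw [hclass]
    set S := Subgroup.centralizer ({y.1} : Set C) with hS
    have hfS : f y.1 = Nat.card {z : S // z ^ d = 1} := Nat.card_congr
      { toFun := fun z => ⟨⟨z.1, Subgroup.mem_centralizer_singleton_iff.mpr z.2.1.symm.eq⟩, Subtype.ext z.2.2⟩
        invFun := fun z => ⟨z.1.1, (show Commute z.1.1 y.1 from Subgroup.mem_centralizer_singleton_iff.mp z.1.2).symm,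
          congrArg Subtype.val z.2⟩
        left_inv := fun z => rfl
        right_inv := fun z => rfl }
    rw [hfS]
    refine dvd_trans ?_ (Nat.mul_dvd_mul_left _ (Cfsg.Agent.Lib.OrderCount.gcd_dvd_card_pow_eq_one (G := S) d))
    exact gcd_mul_gcd_dvd hqd hqN (Cfsg.Agent.Lib.Involution.card_isConj_mul_card_centralizer y.1)


/-- Let `G` be a finite group of order `g`, `c` an element whose conjugacy class has `h` elements, and `n` a natural number. Then the number of elements `x` of `G` with `x^n` conjugate to `c` is a multiple of `gcd(hn, g)`. -/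
theorem result {G : Type*} [Group G] [Finite G] (c : G) (n : ℕ) : Nat.gcd (Nat.card {y : G // IsConj c y} * n) (Nat.card G) ∣ Nat.card {x : G // IsConj c (x ^ n)} := by
  classical
  haveI := Fintype.ofFinite G
  set C := Subgroup.centralizer ({c} : Set G) with hC
  have hcl : Nat.card {y : G // IsConj c y} * Nat.card C = Nat.card G :=
    Cfsg.Agent.Lib.Involution.card_isConj_mul_card_centralizer c
  set cC : C := ⟨c, Subgroup.mem_centralizer_singleton_iff.mpr rfl⟩ with hcC
  have hcen : cC ∈ Subgroup.center C := Subgroup.mem_center_iff.mpr fun x =>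
    Subtype.ext (Subgroup.mem_centralizer_singleton_iff.mp x.2)
  let e0 : {x : G // IsConj c (x ^ n)} ≃ Σ y : {y : G // IsConj c y}, {x : G // x ^ n = y.1} :=
    { toFun := fun x => ⟨⟨x.1 ^ n, x.2⟩, ⟨x.1, rfl⟩⟩
      invFun := fun q => ⟨q.2.1, by rw [q.2.2]; exact q.1.2⟩
      left_inv := fun x => rfl
      right_inv := fun q => Sigma.subtype_ext (Subtype.ext q.2.2) rfl }
  have hfib : ∀ y : {y : G // IsConj c y}, Nat.card {x : G // x ^ n = y.1} = Nat.card {x : C // x ^ n = cC} := by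
    rintro ⟨y, hy⟩
    obtain ⟨g, rfl⟩ := isConj_iff.mp hy
    refine Nat.card_congr
      { toFun := fun x => ⟨⟨g⁻¹ * x.1 * g, ?_⟩, Subtype.ext ?_⟩
        invFun := fun x => ⟨g * x.1.1 * g⁻¹, ?_⟩
        left_inv := fun x => Subtype.ext (by group)
        right_inv := fun x => Subtype.ext (Subtype.ext (by group)) }
    · rw [hC, Subgroup.mem_centralizer_singleton_iff]
      have hc' : (g⁻¹ * x.1 * g) ^ n = c := by
        have h1 := conj_pow (i := n) (a := g⁻¹) (b := x.1)
        rw [inv_inv] at h1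
        rw [h1, x.2]; group
      have hself := (Commute.self_pow (g⁻¹ * x.1 * g) n).eq
      rwa [hc'] at hself
    · show (g⁻¹ * x.1 * g) ^ n = c
      have h1 := conj_pow (i := n) (a := g⁻¹) (b := x.1)
      rw [inv_inv] at h1
      rw [h1, x.2]; group
    · have h : (x.1.1) ^ n = c := congrArg Subtype.val x.2
      rw [conj_pow, h]
  rw [Nat.card_congr e0, Nat.card_sigma, Finset.sum_congr rfl (fun y _ => hfib y), Finset.sum_const,
    smul_eq_mul, Finset.card_univ, ← Nat.card_eq_fintype_card, ← hcl, Nat.gcd_mul_left]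
  exact Nat.mul_dvd_mul_left _ (roots_of_central cC hcen n)

end Cfsg.Agent.S4212
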