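import Cfsg.Statements.S4213
import Mathlib
import Cfsg.Agent.Lib.OrderCount.Frobenius
import Cfsg.Agent.Lib.MinimalNormal
-- import your own Cfsg.Agent.* helpers here

set_option autoImplicit false
open Cfsg

namespace Cfsg.Agent.S4213

universe u

noncomputable def preimageEquiv {G : Type*} [Group G] (M : Subgroup G) [M.Normal] (P : G ⧸ M → Prop) :
    {x : G // P (x : G ⧸ M)} ≃ M × {y : G ⧸ M // P y} where
  toFun x := (⟨(Quotient.out (x.1 : G ⧸ M))⁻¹ * x.1, QuotientGroup.eq.mp (QuotientGroup.out_eq' _)⟩,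
    ⟨(x.1 : G ⧸ M), x.2⟩)
  invFun q := ⟨Quotient.out q.2.1 * q.1.1, by
    have : ((Quotient.out q.2.1 * q.1.1 : G) : G ⧸ M) = q.2.1 := by
      rw [QuotientGroup.mk_mul, QuotientGroup.out_eq', (QuotientGroup.eq_one_iff _).mpr q.1.2, mul_one]
    rw [this]; exact q.2.2⟩
  left_inv x := Subtype.ext (mul_inv_cancel_left _ _)
  right_inv q := by
    have h : ((Quotient.out q.2.1 * q.1.1 : G) : G ⧸ M) = q.2.1 := by
      rw [QuotientGroup.mk_mul, QuotientGroup.out_eq', (QuotientGroup.eq_one_iff _).mpr q.1.2, mul_one]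
    refine Prod.ext (Subtype.ext ?_) (Subtype.ext h)
    show (Quotient.out ((Quotient.out q.2.1 * q.1.1 : G) : G ⧸ M))⁻¹ * _ = _
    rw [h, inv_mul_cancel_left]

theorem exists_min_normal {G : Type*} [Group G] [Finite G] [Nontrivial G] :
    ∃ N : Subgroup G, N.Normal ∧ N ≠ ⊥ ∧ ∀ K : Subgroup G, K.Normal → K ≤ N → K = ⊥ ∨ K = N := by
  obtain ⟨N, h1, h2, -, h4⟩ :=
    Cfsg.Agent.Lib.MinimalNormal.exists_minimal_normal_le (M := (⊤ : Subgroup G)) inferInstance top_ne_bot
  exact ⟨N, h1, h2, h4⟩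

theorem min_normal_structure {G : Type*} [Group G] [Finite G] [Group.IsSolvable G] (M : Subgroup G)
    [M.Normal] (hne : M ≠ ⊥) (hmin : ∀ K : Subgroup G, K.Normal → K ≤ M → K = ⊥ ∨ K = M) :
    ∃ p, p.Prime ∧ ∃ i, 0 < i ∧ (∀ x ∈ M, x ^ p = 1) ∧ Nat.card M = p ^ i := by
  obtain ⟨-, p, hp, hexp⟩ := Cfsg.Agent.Lib.MinimalNormal.elementaryAbelian M hne hmin
  haveI := Fact.mk hp
  have hpg : IsPGroup p M := fun x => ⟨1, Subtype.ext (by simpa using hexp x.1 x.2)⟩
  obtain ⟨i, hi⟩ := hpg.exists_card_eq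
  refine ⟨p, hp, i, Nat.pos_of_ne_zero ?_, hexp, hi⟩
  rintro rfl
  exact hne (Subgroup.eq_bot_of_card_eq _ (by rw [hi, pow_zero]))

theorem div_gcd_dvd {n N q : ℕ} (hq : 0 < q) (hqN : q ∣ N) (hn : n ∣ N) : n / Nat.gcd n q ∣ N / q := by
  refine Nat.dvd_div_of_mul_dvd ?_
  have h1 : Nat.gcd n q ∣ n := Nat.gcd_dvd_left n q
  have h2 : q * (n / Nat.gcd n q) = Nat.lcm n q := by
    rw [Nat.lcm, mul_comm n q, Nat.mul_div_assoc q h1]
  rw [h2]
  exact Nat.lcm_dvd hn hqN

theorem aux : ∀ (N : ℕ) (G : Type u) [Group G] [Finite G], Nat.card G ≤ N → Group.IsSolvable G →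
    ∀ n : ℕ, n ∣ Nat.card G → Nat.card {x : G // x ^ n = 1} = n →
      ∃ H : Subgroup G, (H : Set G) = {x : G | x ^ n = 1} := by
  intro N
  induction N with
  | zero => intro G _ _ h; exact absurd h (not_le.mpr Nat.card_pos)
  | succ N ih =>
  intro G _ _ hN hsol n hn hcount
  classical
  haveI := Fintype.ofFinite G
  have hn0 : 0 < n := Nat.pos_of_dvd_of_pos hn Nat.card_pos
  rcases subsingleton_or_nontrivial G with hs | hs
  · refine ⟨⊤, Set.ext fun x => ⟨fun _ => ?_, fun _ => trivial⟩⟩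
    show x ^ n = 1
    exact Subsingleton.elim _ _
  obtain ⟨M, hMn, hMne, hMmin⟩ := exists_min_normal (G := G)
  haveI := hMn
  obtain ⟨p, hp, i, hi, hexp, hcard⟩ := min_normal_structure M hMne hMmin
  haveI := Fact.mk hp
  have hq0 : 0 < p ^ i := pow_pos hp.pos i
  have hdiv : p ^ i ∣ Nat.card G := hcard ▸ Subgroup.card_subgroup_dvd_card M
  have hQcard : Nat.card (G ⧸ M) = Nat.card G / p ^ i := by
    rw [M.card_eq_card_quotient_mul_card_subgroup, hcard, Nat.mul_div_cancel _ hq0]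
  have hQlt : Nat.card (G ⧸ M) ≤ N := by
    have h1 : Nat.card (G ⧸ M) < Nat.card G := by
      rw [hQcard]
      exact Nat.div_lt_self Nat.card_pos (Nat.one_lt_pow hi.ne' hp.one_lt)
    omega
  haveI : Group.IsSolvable (G ⧸ M) := inferInstance
  let T := {x : G // x ^ n = 1}
  by_cases hpn : p ∣ n
  · set g := Nat.gcd n (p ^ i) with hg
    set n' := n / g with hn'
    have hg0 : 0 < g := Nat.gcd_pos_of_pos_left _ hn0
    have hgn : g ∣ n := Nat.gcd_dvd_left _ _
    have hpg : p ∣ g := Nat.dvd_gcd hpn (dvd_pow_self p hi.ne')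
    have hn'dvd : n' ∣ Nat.card (G ⧸ M) := hQcard ▸ div_gcd_dvd hq0 hdiv hn
    have hkill : ∀ x : G, (x : G ⧸ M) ^ n' = 1 → x ^ n = 1 := by
      intro x hx
      rw [← QuotientGroup.mk_pow, QuotientGroup.eq_one_iff] at hx
      obtain ⟨j, hj⟩ := hpg
      rw [← Nat.div_mul_cancel hgn, ← hn', hj, pow_mul, pow_mul, hexp _ hx, one_pow]
    obtain ⟨k, hk⟩ := Cfsg.Agent.Lib.OrderCount.dvd_card_pow_eq_one hn'dvd
    let S := {x : G // (x : G ⧸ M) ^ n' = 1}
    have hS : Nat.card S = p ^ i * (n' * k) := by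
      rw [← hk, ← hcard, ← Nat.card_prod]
      exact Nat.card_congr (preimageEquiv M (fun y : G ⧸ M => y ^ n' = 1))
    have hle : Nat.card S ≤ n := by
      rw [← hcount]
      exact Nat.card_le_card_of_injective (fun s => (⟨s.1, hkill s.1 s.2⟩ : T))
        (fun a b h => Subtype.ext (congrArg (fun t : T => t.1) h))
    have hk1 : 1 ≤ k := by
      rcases Nat.eq_zero_or_pos k with rfl | h
      · rw [mul_zero] at hk
        haveI : Nonempty {y : G ⧸ M // y ^ n' = 1} := ⟨⟨1, one_pow _⟩⟩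
        exact absurd hk Nat.card_pos.ne'
      · exact h
    have hn'0 : 0 < n' := Nat.div_pos (Nat.le_of_dvd hn0 hgn) hg0
    have hge : n ≤ p ^ i * n' := by
      calc n = g * n' := (Nat.mul_div_cancel' hgn).symm
        _ ≤ p ^ i * n' := Nat.mul_le_mul_right _ (Nat.le_of_dvd hq0 (Nat.gcd_dvd_right _ _))
    have hkk : k = 1 := by
      have h1 : p ^ i * n' * k ≤ p ^ i * n' * 1 := by
        rw [mul_one, mul_assoc]
        exact (hS ▸ hle).trans hge
      exact le_antisymm (Nat.le_of_mul_le_mul_left h1 (Nat.mul_pos hq0 hn'0)) hk1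
    have hbij : Nat.card S = n := by
      refine le_antisymm hle ?_
      rw [hS, hkk, mul_one]; exact hge
    rw [hkk, mul_one] at hk
    obtain ⟨H, hH⟩ := ih (G ⧸ M) hQlt inferInstance n' hn'dvd hk
    refine ⟨H.comap (QuotientGroup.mk' M), Set.ext fun x => ?_⟩
    have hmem : x ∈ H.comap (QuotientGroup.mk' M) ↔ (x : G ⧸ M) ^ n' = 1 := by
      rw [Subgroup.mem_comap]
      exact Set.ext_iff.mp hH _
    refine hmem.trans ⟨hkill x, fun hx => ?_⟩
    have hinj : Function.Injective (fun s : S => (⟨s.1, hkill s.1 s.2⟩ : T)) :=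
      fun a b h => Subtype.ext (congrArg (fun t : T => t.1) h)
    obtain ⟨⟨y, hy⟩, hyx⟩ := (hinj.bijective_of_nat_card_le (by rw [hbij]; exact hcount.le)).2 ⟨x, hx⟩
    have : y = x := congrArg (fun t : T => t.1) hyx
    exact this ▸ hy
  · have hcop : Nat.Coprime p n := hp.coprime_iff_not_dvd.mpr hpn
    have hndvd : n ∣ Nat.card (G ⧸ M) := by
      rw [M.card_eq_card_quotient_mul_card_subgroup, hcard] at hn
      exact (hcop.symm.pow_right i).dvd_of_dvd_mul_right hn
    obtain ⟨e, he1, he2⟩ := Nat.chineseRemainder hcop 0 1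
    let f : T → {y : G ⧸ M // y ^ n = 1} := fun x =>
      ⟨(x.1 : G ⧸ M), by rw [← QuotientGroup.mk_pow, x.2, QuotientGroup.mk_one]⟩
    have hf : Function.Surjective f := by
      rintro ⟨y, hy⟩
      induction y using QuotientGroup.induction_on with | _ x =>
      have hxM : x ^ n ∈ M := by
        rw [← QuotientGroup.mk_pow, QuotientGroup.eq_one_iff] at hy
        exact hy
      obtain ⟨j, hj⟩ := Nat.modEq_zero_iff_dvd.mp he1
      refine ⟨⟨x ^ e, ?_⟩, Subtype.ext ?_⟩
      · rw [← pow_mul, hj, show p * j * n = n * (p * j) by ring, pow_mul, pow_mul, hexp _ hxM, one_pow]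
      · show ((x ^ e : G) : G ⧸ M) = (x : G ⧸ M)
        rw [QuotientGroup.mk_pow]
        conv_rhs => rw [← pow_one (x : G ⧸ M)]
        exact pow_eq_pow_iff_modEq.mpr (he2.of_dvd (orderOf_dvd_of_pow_eq_one hy))
    obtain ⟨k, hk⟩ := Cfsg.Agent.Lib.OrderCount.dvd_card_pow_eq_one hndvd
    have hle : n * k ≤ n := by
      rw [← hk]
      exact le_trans (Nat.card_le_card_of_surjective f hf) hcount.le
    have hk1 : k = 1 := by
      refine le_antisymm (Nat.le_of_mul_le_mul_left (by rwa [mul_one]) hn0) ?_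
      rcases Nat.eq_zero_or_pos k with rfl | h
      · rw [mul_zero] at hk
        haveI : Nonempty {y : G ⧸ M // y ^ n = 1} := ⟨⟨1, one_pow _⟩⟩
        exact absurd hk Nat.card_pos.ne'
      · exact h
    rw [hk1, mul_one] at hk
    obtain ⟨H, hH⟩ := ih (G ⧸ M) hQlt inferInstance n hndvd hk
    set U := H.comap (QuotientGroup.mk' M) with hU
    have hMU : M ≤ U := QuotientGroup.le_comap_mk' M H
    have hHcard : Nat.card H = n := by
      rw [← hk]
      exact Nat.card_congr (Equiv.subtypeEquivRight fun y => Set.ext_iff.mp hH y)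
    have hidx : (M.subgroupOf U).index = n := by
      have h1 : Nat.card U = p ^ i * n := by
        have hmap : U.map (QuotientGroup.mk' M) = H :=
          Subgroup.map_comap_eq_self_of_surjective (QuotientGroup.mk'_surjective M) H
        rw [← hcard, ← hHcard, ← Nat.card_prod]
        exact Nat.card_congr (preimageEquiv M (fun y : G ⧸ M => y ∈ H))
      have h2 := (M.subgroupOf U).card_mul_index
      rw [Nat.card_congr (Subgroup.subgroupOfEquivOfLe hMU).toEquiv, hcard, h1] at h2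
      exact Nat.eq_of_mul_eq_mul_left hq0 h2
    obtain ⟨K, hK⟩ := Subgroup.exists_right_complement'_of_coprime (N := M.subgroupOf U) (by
      rw [hidx, Nat.card_congr (Subgroup.subgroupOfEquivOfLe hMU).toEquiv, hcard]
      exact hcop.pow_left i)
    have hKcard : Nat.card (K.map U.subtype) = n := by
      rw [Subgroup.card_map_of_injective U.subtype_injective, ← hidx, hK.symm.index_eq_card]
    refine ⟨K.map U.subtype, ?_⟩
    refine Set.eq_of_subset_of_ncard_le (fun x hx => ?_) ?_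
    · show x ^ n = 1
      rw [← hKcard]
      exact congrArg Subtype.val (pow_card_eq_one' (x := (⟨x, hx⟩ : K.map U.subtype)))
    · rw [← Nat.card_coe_set_eq, ← Nat.card_coe_set_eq, SetLike.coe_sort_coe, hKcard]
      exact le_of_eq hcount


/-- If `G` is a finite solvable group and `n` divides the order of `G` and exactly `n` elements `x` of `G` satisfy `x^n = 1`, then these elements form a normal subgroup. -/
theorem result {G : Type*} [Group G] [Finite G] [Group.IsSolvable G] (n : ℕ) (hn : n ∣ Nat.card G) (hcount : Nat.card {x : G // x ^ n = 1} = n) : ∃ H : Subgroup G, H.Normal ∧ (H : Set G) = {x : G | x ^ n = 1} := by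
  classical
  suffices h : ∃ H : Subgroup G, (H : Set G) = {x : G | x ^ n = 1} by
    obtain ⟨H, hH⟩ := h
    refine ⟨H, ⟨fun x hx g => ?_⟩, hH⟩
    have hx' : x ^ n = 1 := (Set.ext_iff.mp hH x).mp hx
    refine (Set.ext_iff.mp hH _).mpr ?_
    show (g * x * g⁻¹) ^ n = 1
    rw [conj_pow, hx', mul_one, mul_inv_cancel]
  exact aux (Nat.card G) G le_rfl inferInstance n hn hcount

end Cfsg.Agent.S4213
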