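import Cfsg.Statements.S4214
import Mathlib
import Cfsg.Agent.Lib.Hall.Solvable
import Cfsg.Agent.Lib.Supersolvable.MinNormal
import Cfsg.Agent.Lib.Supersolvable.Schmidt
-- import your own Cfsg.Agent.* helpers here

set_option autoImplicit false
open Cfsg

namespace Cfsg.Agent.S4214
open scoped Pointwise
universe u

/-- `x` is a prime power, congruent to `1` modulo some prime dividing `m`. -/
def IsGoodNum (m x : ℕ) : Prop :=
  (∃ q e : ℕ, q.Prime ∧ x = q ^ e) ∧ ∃ r : ℕ, r.Prime ∧ r ∣ m ∧ x ≡ 1 [MOD r]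

/-- `x` divides the order of a chief factor. -/
def DvdChief (G : Type u) [Group G] (x : ℕ) : Prop :=
  ∃ K L : Subgroup G, K.Normal ∧ L.Normal ∧ K < L ∧
    (∀ M : Subgroup G, M.Normal → K ≤ M → M ≤ L → M = K ∨ M = L) ∧ x ∣ K.relIndex L

theorem centralizer_factors {G : Type u} [Group G] [Finite G] [Group.IsSolvable G] {q : ℕ} [hq : Fact q.Prime]
    (V : Subgroup G) (hV : IsPGroup q V) :
    ∀ (N : ℕ) (H : Subgroup G), Nat.card H = N → H ≤ Subgroup.normalizer (V : Set G) → ¬ q ∣ Nat.card H →
      ∃ l : List ℕ, (V ⊓ Subgroup.centralizer (H : Set G)).relIndex V = l.prod ∧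
        ∀ x ∈ l, IsGoodNum (Nat.card H) x := by
  intro N
  induction N using Nat.strong_induction_on with
  | _ N ih =>
  intro H hHN hHV hqH
  by_cases hH : H = ⊥
  · refine ⟨[], ?_, by simp⟩
    rw [List.prod_nil, Subgroup.relIndex_eq_one]
    refine le_inf le_rfl fun v _ => ?_
    rw [Subgroup.mem_centralizer_iff]
    intro h hh
    rw [hH] at hh
    rw [Subgroup.mem_bot.mp hh, one_mul, mul_one]
  haveI : Nontrivial H := (Subgroup.nontrivial_iff_ne_bot H).mpr hH
  haveI : Group.IsSolvable H := inferInstance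
  obtain ⟨M₀, hM₀n, hr⟩ := Cfsg.Agent.Lib.Supersolvable.exists_normal_prime_index H
  haveI := hM₀n
  set r := M₀.index with hrdef
  haveI := Fact.mk hr
  have hrH : r ∣ Nat.card H := hrdef ▸ M₀.index_dvd_card
  have hrq : q ≠ r := fun e => hqH (e ▸ hrH)
  set M := M₀.map H.subtype with hMdef
  have hMH : M ≤ H := Subgroup.map_subtype_le _
  have hMdvd : Nat.card M ∣ Nat.card H := Subgroup.card_dvd_of_le hMH
  have hlt : Nat.card M < N := by
    rw [hMdef, Subgroup.card_map_of_injective H.subtype_injective, ← hHN, ← M₀.card_mul_index]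
    exact lt_mul_of_one_lt_right Nat.card_pos hr.one_lt
  obtain ⟨l, hl, hlg⟩ := ih _ hlt M rfl (hMH.trans hHV) (fun h => hqH (h.trans hMdvd))
  set W := V ⊓ Subgroup.centralizer (M : Set G) with hW
  set U := V ⊓ Subgroup.centralizer (H : Set G) with hU
  have hUW : U ≤ W := inf_le_inf_left _ (Subgroup.centralizer_le hMH)
  -- a Sylow `r`-subgroup of `H` acts on `W`
  obtain ⟨R₀⟩ : Nonempty (Sylow r H) := inferInstance
  set R := (R₀ : Subgroup H).map H.subtype with hR
  have hRH : R ≤ H := Subgroup.map_subtype_le _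
  have hWinv : ∀ g ∈ R, ∀ w ∈ W, g * w * g⁻¹ ∈ W := by
    intro g hg w hw
    refine ⟨(Subgroup.mem_normalizer_iff.mp (hHV (hRH hg)) w).mp hw.1, ?_⟩
    refine Subgroup.mem_centralizer_iff.mpr ?_
    rintro _ ⟨m, hm, rfl⟩
    have h1 := Subgroup.mem_centralizer_iff.mp hw.2
      ((⟨g, hRH hg⟩⁻¹ * m * ⟨g, hRH hg⟩ : H) : G) ⟨_, hM₀n.conj_mem' m hm _, rfl⟩
    simp only [Subgroup.coe_mul, Subgroup.coe_inv] at h1
    calc (m : G) * (g * w * g⁻¹) = g * ((g⁻¹ * (m : G) * g) * w) * g⁻¹ := by group
      _ = g * (w * (g⁻¹ * (m : G) * g)) * g⁻¹ := by rw [h1]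
      _ = g * w * g⁻¹ * (m : G) := by group
  let act : MulAction R W :=
    { smul := fun g w => ⟨(g : G) * (w : G) * (g : G)⁻¹, hWinv g g.2 w w.2⟩
      one_smul := fun w => Subtype.ext (by show (1 : G) * (w : G) * (1 : G)⁻¹ = w; simp)
      mul_smul := fun g h w => Subtype.ext (by
        show (g : G) * (h : G) * (w : G) * ((g : G) * (h : G))⁻¹ = (g : G) * ((h : G) * (w : G) * (h : G)⁻¹) * (g : G)⁻¹
        group) }
  have hsupR : M₀ ⊔ (R₀ : Subgroup H) = ⊤ := by
    have h1 := Subgroup.index_dvd_of_le (le_sup_left : M₀ ≤ M₀ ⊔ (R₀ : Subgroup H))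
    rw [← hrdef] at h1
    rcases hr.eq_one_or_self_of_dvd _ h1 with h | h
    · exact Subgroup.index_eq_one.mp h
    · exfalso
      refine R₀.not_dvd_index ?_
      have h2 := Subgroup.index_dvd_of_le (le_sup_right : (R₀ : Subgroup H) ≤ M₀ ⊔ (R₀ : Subgroup H))
      rwa [h] at h2
  have hcong := (R₀.2.map H.subtype).card_modEq_card_fixedPoints (G := R) (α := W)
  have hfix : Nat.card (MulAction.fixedPoints R W) = Nat.card U := by
    refine Nat.card_congr
      { toFun := fun w => ⟨(w.1 : G), w.1.2.1, ?_⟩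
        invFun := fun u => ⟨⟨u.1, hUW u.2⟩, fun g => Subtype.ext ?_⟩
        left_inv := fun w => rfl
        right_inv := fun u => rfl }
    · refine Subgroup.mem_centralizer_iff.mpr ?_
      have hle : H ≤ M ⊔ R := by
        rw [hMdef, hR, ← Subgroup.map_sup, hsupR, ← MonoidHom.range_eq_map, Subgroup.range_subtype]
      have hle2 : M ⊔ R ≤ Subgroup.centralizer {(w.1 : G)} := by
        refine sup_le (fun m hm => ?_) (fun g hg => ?_)
        · rw [Subgroup.mem_centralizer_singleton_iff]
          exact Subgroup.mem_centralizer_iff.mp w.1.2.2 m hm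
        · rw [Subgroup.mem_centralizer_singleton_iff]
          have h2 : g * (w.1 : G) * g⁻¹ = w.1 := congrArg Subtype.val (w.2 ⟨g, hg⟩)
          exact mul_inv_eq_iff_eq_mul.mp h2
      intro h hh
      exact Subgroup.mem_centralizer_singleton_iff.mp (hle2 (hle hh))
    · show (g : G) * (u : G) * (g : G)⁻¹ = u
      rw [Subgroup.mem_centralizer_iff.mp u.2.2 g (hRH g.2), mul_inv_cancel_right]
  rw [hfix] at hcong
  have hx : U.relIndex W ≡ 1 [MOD r] := by
    have h1 : Nat.card U * U.relIndex W = Nat.card W := by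
      rw [← Subgroup.relIndex_bot_left, ← Subgroup.relIndex_bot_left,
        Subgroup.relIndex_mul_relIndex _ _ _ bot_le hUW]
    obtain ⟨a, ha⟩ := (hV.to_le (inf_le_left : U ≤ V)).exists_card_eq
    rw [← h1, ha] at hcong
    refine Nat.ModEq.cancel_left_of_coprime (c := q ^ a) ?_ (by rwa [mul_one])
    exact ((Nat.coprime_primes hr hq.out).mpr (Ne.symm hrq)).pow_right a
  refine ⟨U.relIndex W :: l, ?_, ?_⟩
  · rw [List.prod_cons, ← hl, Subgroup.relIndex_mul_relIndex _ _ _ hUW inf_le_left]
  · intro x hxl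
    rcases List.mem_cons.mp hxl with rfl | hxl
    · obtain ⟨a, ha⟩ := (hV.to_le (inf_le_left : W ≤ V)).exists_card_eq
      obtain ⟨b, -, hb⟩ := (Nat.dvd_prime_pow hq.out).mp (ha ▸ Subgroup.relIndex_dvd_card U W)
      exact ⟨⟨q, b, hq.out, hb⟩, r, hr, hrH, hx⟩
    · obtain ⟨h1, r', hr', hd', hm'⟩ := hlg x hxl
      exact ⟨h1, r', hr', hd'.trans hMdvd, hm'⟩

theorem dvdChief_of_quotient {G : Type u} [Group G] (N : Subgroup G) [N.Normal] {x : ℕ}
    (h : DvdChief (G ⧸ N) x) : DvdChief G x := by
  obtain ⟨K, L, hK, hL, hKL, hmax, hx⟩ := h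
  have hs := QuotientGroup.mk'_surjective N
  refine ⟨K.comap (QuotientGroup.mk' N), L.comap (QuotientGroup.mk' N), hK.comap _, hL.comap _,
    (Subgroup.comap_lt_comap_of_surjective hs).mpr hKL, ?_, ?_⟩
  · intro M hM hKM hML
    have hNM : (QuotientGroup.mk' N).ker ≤ M := le_trans (Subgroup.comap_mono bot_le) hKM
    rcases hmax (M.map (QuotientGroup.mk' N)) (hM.map _ hs)
      (by rw [← Subgroup.map_comap_eq_self_of_surjective hs K]; exact Subgroup.map_mono hKM)
      (by rw [← Subgroup.map_comap_eq_self_of_surjective hs L]; exact Subgroup.map_mono hML) with h1 | h1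
    · left; rw [← h1, Subgroup.comap_map_eq_self hNM]
    · right; rw [← h1, Subgroup.comap_map_eq_self hNM]
  · rwa [Subgroup.relIndex_comap, Subgroup.map_comap_eq_self_of_surjective hs]

theorem hall_count : ∀ (c : ℕ) (G : Type u) [Group G] [Finite G] [Group.IsSolvable G], Nat.card G = c →
    ∀ m n : ℕ, Nat.card G = m * n → Nat.Coprime m n →
      ∃ l : List ℕ, Nat.card {H : Subgroup G // Nat.card H = m} = l.prod ∧
        ∀ x ∈ l, IsGoodNum m x ∧ DvdChief G x := by
  intro c
  induction c using Nat.strong_induction_on with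
  | _ c ih =>
  intro G _ _ _ hc m n hG hmn
  rcases subsingleton_or_nontrivial G with hs | hs
  · refine ⟨[], ?_, by simp⟩
    have hG1 : Nat.card G = 1 := Nat.card_of_subsingleton 1
    have hm : m = 1 := Nat.eq_one_of_mul_eq_one_right (hG ▸ hG1)
    haveI : Nonempty {H : Subgroup G // Nat.card H = m} := ⟨⟨⊥, by rw [Subgroup.card_bot, hm]⟩⟩
    rw [List.prod_nil, Nat.card_eq_one_iff_unique]
    exact ⟨inferInstance, inferInstance⟩
  obtain ⟨N, hNn, hNne, -, hNmin, q, hq, hNq, -⟩ := Cfsg.Agent.Lib.Supersolvable.exists_minimal_normal_solvable G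
  haveI := hNn
  haveI := Fact.mk hq
  obtain ⟨e, he, hNe⟩ := Cfsg.Agent.Lib.Supersolvable.isPGroup_prime_dvd hNq hNne
  have hNpos : 1 < Nat.card N := hNe ▸ Nat.one_lt_pow he.ne' hq.one_lt
  have hlt : Nat.card (G ⧸ N) < c := by
    rw [← hc, Subgroup.card_eq_card_quotient_mul_card_subgroup N]
    exact lt_mul_of_one_lt_right Nat.card_pos hNpos
  haveI : Group.IsSolvable (G ⧸ N) := Group.isSolvable_of_surjective (QuotientGroup.mk'_surjective N)
  have hquot : Nat.card (G ⧸ N) * Nat.card N = m * n := by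
    rw [← hG, ← Subgroup.card_eq_card_quotient_mul_card_subgroup N]
  set π := QuotientGroup.mk' N with hπ
  have hsurj := QuotientGroup.mk'_surjective N
  have hcomap : ∀ X : Subgroup (G ⧸ N), Nat.card (X.comap π) = Nat.card X * Nat.card N := by
    intro X
    have h1 := (X.comap π).card_mul_index
    rw [Subgroup.index_comap_of_surjective X hsurj, Subgroup.card_eq_card_quotient_mul_card_subgroup N,
      ← X.card_mul_index, mul_assoc, mul_comm X.index, ← mul_assoc] at h1
    exact Nat.eq_of_mul_eq_mul_right (Nat.pos_of_ne_zero Subgroup.index_ne_zero_of_finite) h1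
  have hmapN : ∀ X : Subgroup G, N ≤ X → (X.map π).comap π = X := fun X hX =>
    Subgroup.comap_map_eq_self (by rw [hπ, QuotientGroup.ker_mk']; exact hX)
  have hconj : ∀ {H K : Subgroup G}, Nat.card H = m → Nat.card K = m → ∃ g : G, MulAut.conj g • H = K :=
    fun hH hK => Cfsg.Agent.Lib.Hall.conj_of_card_eq hG hmn hH hK
  by_cases hqm : q ∣ m
  · have hcopN : (Nat.card N).Coprime n := hNe ▸ (Nat.Coprime.coprime_dvd_left hqm hmn).pow_left e
    obtain ⟨H₀, hH₀, hNH₀⟩ := Cfsg.Agent.Lib.Hall.exists_card_eq_ge hG hmn hcopN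
    have hNle : ∀ H : Subgroup G, Nat.card H = m → N ≤ H := by
      intro H hH
      obtain ⟨g, rfl⟩ := hconj hH₀ hH
      intro x hx
      rw [Subgroup.mem_pointwise_smul_iff_inv_smul_mem]
      refine hNH₀ ?_
      simpa [MulAut.smul_def] using hNn.conj_mem' x hx g
    obtain ⟨m', hm'⟩ : Nat.card N ∣ m := hH₀ ▸ Subgroup.card_dvd_of_le hNH₀
    have hG' : Nat.card (G ⧸ N) = m' * n := by
      refine Nat.eq_of_mul_eq_mul_right Nat.card_pos (hquot.trans ?_)
      rw [hm']; ring
    have hmn' : Nat.Coprime m' n := Nat.Coprime.coprime_dvd_left ⟨Nat.card N, by rw [hm', mul_comm]⟩ hmn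
    obtain ⟨l, hl, hlg⟩ := ih _ hlt (G ⧸ N) rfl m' n hG' hmn'
    refine ⟨l, ?_, fun x hx => ?_⟩
    · rw [← hl]
      refine Nat.card_congr
        { toFun := fun H => ⟨H.1.map π, Nat.eq_of_mul_eq_mul_right (Nat.card_pos (α := N)) (by
            rw [← hcomap, hmapN _ (hNle _ H.2), H.2, hm', mul_comm])⟩
          invFun := fun X => ⟨X.1.comap π, by rw [hcomap, X.2, hm', mul_comm]⟩
          left_inv := fun H => Subtype.ext (hmapN _ (hNle _ H.2))
          right_inv := fun X => Subtype.ext (Subgroup.map_comap_eq_self_of_surjective hsurj _) }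
    · obtain ⟨⟨h1, r, hr, hd, hm1⟩, h2⟩ := hlg x hx
      exact ⟨⟨h1, r, hr, hd.trans ⟨Nat.card N, by rw [hm', mul_comm]⟩, hm1⟩, dvdChief_of_quotient N h2⟩
  · have hcopN : (Nat.card N).Coprime m := hNe ▸ ((hq.coprime_iff_not_dvd).mpr hqm).pow_left e
    obtain ⟨n', hn'⟩ : Nat.card N ∣ n := hcopN.dvd_of_dvd_mul_left (hG ▸ N.card_subgroup_dvd_card)
    have hG' : Nat.card (G ⧸ N) = m * n' := by
      refine Nat.eq_of_mul_eq_mul_right Nat.card_pos (hquot.trans ?_)
      rw [hn']; ring
    have hmn' : Nat.Coprime m n' := Nat.Coprime.coprime_dvd_right ⟨Nat.card N, by rw [hn', mul_comm]⟩ hmn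
    obtain ⟨l, hl, hlg⟩ := ih _ hlt (G ⧸ N) rfl m n' hG' hmn'
    obtain ⟨H₀, hH₀⟩ := Cfsg.Agent.Lib.Hall.exists_card_eq hG hmn
    obtain ⟨l', hl', hlg'⟩ := centralizer_factors N hNq _ H₀ rfl
      (by rw [Subgroup.normalizer_eq_top_iff.mpr hNn]; exact le_top) (by rwa [hH₀])
    set x := (N ⊓ Subgroup.centralizer (H₀ : Set G)).relIndex N with hxdef
    have hdisj : ∀ H : Subgroup G, Nat.card H = m → Disjoint H N := fun H hH =>
      disjoint_iff.mpr (Subgroup.inf_eq_bot_of_coprime (by rw [hH]; exact hcopN.symm))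
    have hmap : ∀ H : Subgroup G, Nat.card H = m → Nat.card (H.map π) = m := by
      intro H hH
      rw [← hH]
      refine (Nat.card_eq_of_bijective (π.subgroupMap H) ⟨?_, π.subgroupMap_surjective H⟩).symm
      rw [injective_iff_map_eq_one]
      intro a ha
      have h2 : (a : G) ∈ N := (QuotientGroup.eq_one_iff _).mp (congrArg Subtype.val ha)
      exact Subtype.ext (Subgroup.disjoint_def.mp (hdisj H hH) a.2 h2)
    let F : {H : Subgroup G // Nat.card H = m} → {X : Subgroup (G ⧸ N) // Nat.card X = m} :=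
      fun H => ⟨H.1.map π, hmap _ H.2⟩
    have hfib : ∀ X, Nat.card {H // F H = X} = x := by
      intro X
      set K := X.1.comap π with hK
      have hKc : Nat.card K = m * Nat.card N := by rw [hcomap, X.2]
      have hNK : N ≤ K := by
        intro v hv
        rw [hK, Subgroup.mem_comap, hπ, QuotientGroup.mk'_apply, (QuotientGroup.eq_one_iff v).mpr hv]
        exact one_mem _
      obtain ⟨H₁', hH₁'⟩ := Cfsg.Agent.Lib.Hall.exists_card_eq (G := K) hKc hcopN.symm
      set H₁ := H₁'.map K.subtype with hH₁def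
      have hH₁ : Nat.card H₁ = m := by rw [hH₁def, Subgroup.card_map_of_injective K.subtype_injective, hH₁']
      have hiff : ∀ H : {H : Subgroup G // Nat.card H = m}, F H = X ↔ H.1 ≤ K := by
        intro H
        constructor
        · intro h
          rw [hK, ← h]
          exact Subgroup.le_comap_map π _
        · intro h
          refine Subtype.ext (Subgroup.eq_of_le_of_card_ge ?_ (by rw [(F H).2, X.2]))
          exact (Subgroup.map_mono h).trans_eq (Subgroup.map_comap_eq_self_of_surjective hsurj _)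
      let cj : N →* MulAut G := MulAut.conj.comp N.subtype
      letI act : MulAction N (Subgroup G) := MulAction.compHom _ cj
      have horb : ∀ H : Subgroup G, H ∈ MulAction.orbit N H₁ ↔ Nat.card H = m ∧ H ≤ K := by
        intro H
        constructor
        · rintro ⟨v, rfl⟩
          refine ⟨?_, ?_⟩
          · show Nat.card (cj v • H₁ : Subgroup G) = m
            rw [← hH₁]
            exact (Nat.card_congr (H₁.equivSMul (cj v)).toEquiv).symm
          · show (cj v • H₁ : Subgroup G) ≤ K
            intro y hy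
            obtain ⟨z, hz, rfl⟩ := (Subgroup.mem_smul_pointwise_iff_exists _ _ _).mp hy
            show (v : G) * z * (v : G)⁻¹ ∈ K
            exact mul_mem (mul_mem (hNK v.2) (Subgroup.map_subtype_le _ hz)) (inv_mem (hNK v.2))
        · rintro ⟨hH, hHK⟩
          have h2 : Nat.card (H.subgroupOf K) = m := by
            rw [Nat.card_congr (Subgroup.subgroupOfEquivOfLe hHK).toEquiv, hH]
          obtain ⟨g, hg⟩ := Cfsg.Agent.Lib.Hall.conj_of_card_eq (G := K) hKc hcopN.symm hH₁' h2
          -- write `g = v h` with `v ∈ N`, `h ∈ H₁'`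
          have htop : (N.subgroupOf K) ⊔ H₁' = ⊤ := by
            refine Subgroup.eq_top_of_card_eq _ (Nat.dvd_antisymm (Subgroup.card_subgroup_dvd_card _) ?_)
            rw [hKc]
            refine Nat.Coprime.mul_dvd_of_dvd_of_dvd hcopN.symm ?_ ?_
            · rw [← hH₁']; exact Subgroup.card_dvd_of_le le_sup_right
            · rw [← Nat.card_congr (Subgroup.subgroupOfEquivOfLe hNK).toEquiv]
              exact Subgroup.card_dvd_of_le le_sup_left
          obtain ⟨v, hv, h, hh, hvh⟩ : g ∈ ((N.subgroupOf K : Subgroup K) : Set K) * (H₁' : Set K) := by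
            rw [← Subgroup.normal_mul, htop]; trivial
          simp only at hvh
          refine ⟨⟨v, hv⟩, ?_⟩
          show MulAut.conj (v : G) • H₁ = H
          have h3 : MulAut.conj v • H₁' = H.subgroupOf K := by
            rw [← hg, ← hvh, map_mul, mul_smul]
            congr 1
            exact (Cfsg.Agent.Lib.Supersolvable.mem_normalizer_iff_conj_smul.mp (Subgroup.le_normalizer hh)).symm
          have h4 := congrArg (Subgroup.map K.subtype) h3
          rw [Subgroup.map_subgroupOf_eq_of_le hHK] at h4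
          rw [← h4]
          ext y
          simp only [hH₁def, Subgroup.mem_smul_pointwise_iff_exists, Subgroup.mem_map]
          constructor
          · rintro ⟨_, ⟨z, hz, rfl⟩, rfl⟩
            exact ⟨MulAut.conj v • z, ⟨z, hz, rfl⟩, rfl⟩
          · rintro ⟨_, ⟨z, hz, rfl⟩, rfl⟩
            exact ⟨z, ⟨z, hz, rfl⟩, rfl⟩
      have hcard1 : Nat.card {H // F H = X} = Nat.card (MulAction.orbit N H₁) :=
        Nat.card_congr
          { toFun := fun H => ⟨H.1.1, (horb _).mpr ⟨H.1.2, (hiff H.1).mp H.2⟩⟩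
            invFun := fun H => ⟨⟨H.1, ((horb _).mp H.2).1⟩, (hiff _).mpr ((horb _).mp H.2).2⟩
            left_inv := fun H => rfl
            right_inv := fun H => rfl }
      have hstab : MulAction.stabilizer N H₁ = (N ⊓ Subgroup.centralizer (H₁ : Set G)).subgroupOf N := by
        ext v
        rw [MulAction.mem_stabilizer_iff, Subgroup.mem_subgroupOf, Subgroup.mem_inf]
        constructor
        · intro h
          refine ⟨v.2, ?_⟩
          rw [Subgroup.mem_centralizer_iff]
          intro y hy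
          have h' : cj v • H₁ = H₁ := h
          have h1 : (v : G) * y * (v : G)⁻¹ ∈ H₁ := by
            have h5 := Subgroup.smul_mem_pointwise_smul y (cj v) H₁ hy
            rw [h'] at h5
            exact h5
          have h2 : y⁻¹ * ((v : G) * y * (v : G)⁻¹) ∈ N := by
            have := mul_mem (hNn.conj_mem' v v.2 y) (inv_mem v.2)
            simpa [mul_assoc] using this
          have h3 := Subgroup.disjoint_def.mp (hdisj H₁ hH₁) (mul_mem (inv_mem hy) h1) h2
          rw [inv_mul_eq_one, eq_mul_inv_iff_mul_eq] at h3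
          exact h3
        · rintro ⟨-, h⟩
          show cj v • H₁ = H₁
          have hc := Subgroup.mem_centralizer_iff.mp h
          ext y
          rw [Subgroup.mem_pointwise_smul_iff_inv_smul_mem, ← map_inv]
          show ((v⁻¹ : N) : G) * y * ((v⁻¹ : N) : G)⁻¹ ∈ H₁ ↔ y ∈ H₁
          rw [Subgroup.coe_inv, inv_inv]
          constructor
          · intro hy
            have h5 := hc _ hy
            have h6 : y = (v : G)⁻¹ * y * (v : G) :=
              (mul_right_cancel (h5.trans (show (v : G) * ((v : G)⁻¹ * y * (v : G)) = y * (v : G) by group))).symm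
            rw [h6]; exact hy
          · intro hy
            rw [mul_assoc, hc y hy, inv_mul_cancel_left]
            exact hy
      rw [hcard1, Nat.card_coe_set_eq, ← MulAction.index_stabilizer, hstab]
      obtain ⟨g, hg⟩ := hconj hH₀ hH₁
      have hNg : N.map (MulAut.conj g).toMonoidHom = N := by
        ext y
        rw [Subgroup.mem_map_equiv, MulAut.conj_symm_apply]
        exact ⟨fun h => by simpa [mul_assoc] using hNn.conj_mem _ h g, fun h => hNn.conj_mem' y h g⟩
      have hH₁g : H₁ = H₀.map (MulAut.conj g).toMonoidHom := hg.symm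
      have hCg : (N ⊓ Subgroup.centralizer (H₀ : Set G)).map (MulAut.conj g).toMonoidHom =
          N ⊓ Subgroup.centralizer (H₁ : Set G) := by
        rw [Subgroup.map_inf _ _ _ (MulAut.conj g).injective, hNg, hH₁g]
        congr 1
        ext y
        simp only [Subgroup.mem_map_equiv, Subgroup.mem_centralizer_iff, Subgroup.coe_map, Set.forall_mem_image]
        refine forall₂_congr fun z _ => ?_
        constructor
        · intro h
          have := congrArg (MulAut.conj g) h
          rw [map_mul, map_mul, MulEquiv.apply_symm_apply] at this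
          exact this
        · intro h
          apply (MulAut.conj g).injective
          rw [map_mul, map_mul, MulEquiv.apply_symm_apply]
          exact h
      show (N ⊓ Subgroup.centralizer (H₁ : Set G)).relIndex N = x
      rw [hxdef, ← hCg]
      have h9 := Subgroup.relIndex_map_map_of_injective (f := (MulAut.conj g).toMonoidHom)
        (N ⊓ Subgroup.centralizer (H₀ : Set G)) N (MulAut.conj g).injective
      rwa [hNg] at h9
    refine ⟨l ++ l', ?_, fun y hy => ?_⟩
    · haveI := Fintype.ofFinite {X : Subgroup (G ⧸ N) // Nat.card X = m}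
      rw [List.prod_append, ← hl, ← hl', Nat.card_congr (Equiv.sigmaFiberEquiv F).symm, Nat.card_sigma,
        Finset.sum_congr rfl (fun X _ => hfib X), Finset.sum_const, smul_eq_mul, Finset.card_univ,
        ← Nat.card_eq_fintype_card]
    · rcases List.mem_append.mp hy with h | h
      · obtain ⟨h1, h2⟩ := hlg y h
        exact ⟨h1, dvdChief_of_quotient N h2⟩
      · refine ⟨hH₀ ▸ hlg' y h, ⊥, N, inferInstance, hNn, bot_lt_iff_ne_bot.mpr hNne,
          fun M hM _ hMN => hNmin M hM hMN, ?_⟩
        rw [Subgroup.relIndex_bot_left]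
        calc y ∣ l'.prod := List.dvd_prod h
          _ = x := hl'.symm
          _ ∣ Nat.card N := Subgroup.relIndex_dvd_card _ _


/-- Let `G` be a finite solvable group of order `mn` with `gcd(m, n) = 1`. Then the number of subgroups of order `m` is a product of natural numbers each of which is a power of a prime, divides the order of some chief factor of `G` (a quotient `L/K` of normal subgroups `K < L` of `G` with no normal subgroup of `G` strictly between them), and is congruent to `1` modulo some prime divisor of `m`. -/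
theorem result {G : Type*} [Group G] [Finite G] [Group.IsSolvable G] (m n : ℕ) (hG : Nat.card G = m * n) (hmn : Nat.Coprime m n) : ∃ (k : ℕ) (f : Fin k → ℕ), Nat.card {H : Subgroup G // Nat.card H = m} = ∏ i, f i ∧ ∀ i, (∃ q e : ℕ, q.Prime ∧ f i = q ^ e) ∧ (∃ K L : Subgroup G, K.Normal ∧ L.Normal ∧ K < L ∧ (∀ M : Subgroup G, M.Normal → K ≤ M → M ≤ L → M = K ∨ M = L) ∧ f i ∣ K.relIndex L) ∧ (∃ q : ℕ, q.Prime ∧ q ∣ m ∧ f i ≡ 1 [MOD q]) := by
  obtain ⟨l, hl, hlg⟩ := hall_count _ G rfl m n hG hmn
  refine ⟨l.length, l.get, ?_, fun i => ?_⟩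
  · rw [hl, ← List.prod_ofFn, List.ofFn_get]
  · obtain ⟨⟨h1, h2⟩, h3⟩ := hlg _ (List.get_mem l i)
    exact ⟨h1, h3, h2⟩

end Cfsg.Agent.S4214
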