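import Cfsg.Statements.S4216
import Mathlib
import Cfsg.Agent.Lib.TransferOrbit.Basic
-- import your own Cfsg.Agent.* helpers here

set_option autoImplicit false
open Cfsg

namespace Cfsg.Agent.S4216


/-- Grün's first Theorem: if `P` is a Sylow `p`-subgroup of the finite group `G`, then `P ∩ G'` is the subgroup generated by `P ∩ N_G(P)'` together with the subgroups `P ∩ z P' z⁻¹` for all `z ∈ G`, where `'` denotes the derived subgroup and `N_G(P)` the normalizer of `P`. -/
theorem result {G : Type*} [Group G] [Finite G] {p : ℕ} [Fact p.Prime] (P : Sylow p G) : (P : Subgroup G) ⊓ commutator G = ((P : Subgroup G) ⊓ ⁅Subgroup.normalizer ((P : Subgroup G) : Set G), Subgroup.normalizer ((P : Subgroup G) : Set G)⁆) ⊔ ⨆ z : G, (P : Subgroup G) ⊓ (⁅(P : Subgroup G), (P : Subgroup G)⁆).map (MulAut.conj z).toMonoidHom := by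
  classical
  open commutatorElement in
  have hmain : (P : Subgroup G) ⊓ commutator G ≤ ((P : Subgroup G) ⊓ ⁅Subgroup.normalizer ((P : Subgroup G) : Set G), Subgroup.normalizer ((P : Subgroup G) : Set G)⁆) ⊔ ⨆ z : G, (P : Subgroup G) ⊓ (⁅(P : Subgroup G), (P : Subgroup G)⁆).map (MulAut.conj z).toMonoidHom := by
    set R := ((P : Subgroup G) ⊓ ⁅Subgroup.normalizer ((P : Subgroup G) : Set G), Subgroup.normalizer ((P : Subgroup G) : Set G)⁆) ⊔ ⨆ z : G, (P : Subgroup G) ⊓ (⁅(P : Subgroup G), (P : Subgroup G)⁆).map (MulAut.conj z).toMonoidHom with hR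
    have hz : ∀ (z : G) (c : G), c ∈ ⁅(P : Subgroup G), (P : Subgroup G)⁆ → z * c * z⁻¹ ∈ (P : Subgroup G) →
        z * c * z⁻¹ ∈ R := fun z c hc hP =>
      Subgroup.mem_sup_right (Subgroup.mem_iSup_of_mem z ⟨hP, c, hc, rfl⟩)
    have hPR : ⁅(P : Subgroup G), (P : Subgroup G)⁆ ≤ R := fun c hc => by
      have := hz 1 c hc (by simpa using Subgroup.commutator_le_self _ hc)
      simpa using this
    let R₀ : Subgroup (P : Subgroup G) := R.subgroupOf P
    haveI : R₀.Normal := ⟨fun r hr u => by
      have h1 : ⁅u, r⁆ ∈ R₀ := hPR (Subgroup.commutator_mem_commutator u.2 r.2)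
      have : u * r * u⁻¹ = ⁅u, r⁆ * r := by rw [commutatorElement_def]; group
      rw [this]
      exact R₀.mul_mem h1 hr⟩
    let _ : CommGroup ((P : Subgroup G) ⧸ R₀) :=
      { (inferInstance : Group ((P : Subgroup G) ⧸ R₀)) with
        mul_comm := fun a b => by
          induction a using QuotientGroup.induction_on with | _ a =>
          induction b using QuotientGroup.induction_on with | _ b =>
          rw [← QuotientGroup.mk_mul, ← QuotientGroup.mk_mul, QuotientGroup.eq]
          have : (a * b)⁻¹ * (b * a) = ⁅b⁻¹, a⁻¹⁆ := by rw [commutatorElement_def]; group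
          rw [this]
          exact hPR (Subgroup.commutator_mem_commutator (b⁻¹).2 (a⁻¹).2) }
    let φ : (P : Subgroup G) →* (P : Subgroup G) ⧸ R₀ := QuotientGroup.mk' R₀
    have hφ : ∀ (g : G) (hg : g ∈ (P : Subgroup G)), φ ⟨g, hg⟩ = 1 ↔ g ∈ R := fun g hg =>
      (QuotientGroup.eq_one_iff _).trans Subgroup.mem_subgroupOf
    suffices h : ∀ (n : ℕ) (x : G) (hxP : x ∈ (P : Subgroup G)), orderOf x = n → x ∈ commutator G → x ∈ R from
      fun x hx => h _ x hx.1 rfl hx.2
    intro n
    induction n using Nat.strong_induction_on with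
    | _ n ih =>
    intro x hxP hn hxG
    rcases eq_or_ne x 1 with rfl | hx1
    · exact R.one_mem
    haveI := Fintype.ofFinite (MulAction.orbitRel.Quotient (P : Subgroup G) (G ⧸ (P : Subgroup G)))
    have hV : MonoidHom.transfer φ x = 1 := Abelianization.commutator_subset_ker (MonoidHom.transfer φ) hxG
    have hdec := Cfsg.Agent.Lib.TransferOrbit.transfer_eq_prod_orbits φ (P : Subgroup G) ⟨x, hxP⟩
    set idx : MulAction.orbitRel.Quotient (P : Subgroup G) (G ⧸ (P : Subgroup G)) → ℕ :=
      fun ω => (MulAction.stabilizer (P : Subgroup G) ω.out).index with hidx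
    have hterm : ∀ ω, MonoidHom.transfer (Cfsg.Agent.Lib.TransferOrbit.orbitHom φ (P : Subgroup G) ω.out) ⟨x, hxP⟩
        = if idx ω = 1 then φ ⟨x, hxP⟩ else 1 := by
      intro ω
      set S := MulAction.stabilizer (P : Subgroup G) ω.out with hS
      set y : G := ω.out.out with hy
      have hmemS : ∀ s : S, y⁻¹ * (s : G) * y ∈ (P : Subgroup G) := fun s => by
        have h : ((y : G) : G ⧸ (P : Subgroup G)) = ((((s : (P : Subgroup G)) : G) * y : G) : G ⧸ (P : Subgroup G)) := by
          have h2 := s.2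
          have e : (y : G ⧸ (P : Subgroup G)) = ω.out := QuotientGroup.out_eq' _
          rw [e]
          refine h2.symm.trans ?_
          conv_lhs => rw [← e]
          rfl
        rw [QuotientGroup.eq] at h
        rwa [mul_assoc]
      have hpow : (⟨x, hxP⟩ : (P : Subgroup G)) ^ S.index ∈ S :=
        Cfsg.Agent.Lib.TransferOrbit.pow_index_mem_of_isPGroup P.isPGroup' S _
      have hT := Cfsg.Agent.Lib.TransferOrbit.transfer_eq_of_abelian
        (Cfsg.Agent.Lib.TransferOrbit.orbitHom φ (P : Subgroup G) ω.out) (Abelianization.of (G := (P : Subgroup G)))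
        (fun s hs => by
          have hc : ((s : (P : Subgroup G)) : G) ∈ ⁅(P : Subgroup G), (P : Subgroup G)⁆ := by
            rw [← Subgroup.map_subtype_commutator]
            exact ⟨s.1, (QuotientGroup.eq_one_iff _).mp hs, rfl⟩
          rw [Cfsg.Agent.Lib.TransferOrbit.orbitHom_apply φ (P : Subgroup G) ω.out s (hmemS s), hφ]
          have := hz y⁻¹ _ hc (by simpa using hmemS s)
          simpa using this)
        ⟨x, hxP⟩ hpow
      rw [hT, Cfsg.Agent.Lib.TransferOrbit.orbitHom_apply φ (P : Subgroup G) ω.out _ (hmemS ⟨_, hpow⟩)]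
      by_cases h1 : idx ω = 1
      · rw [if_pos h1]
        have hall : ∀ u : (P : Subgroup G), y⁻¹ * (u : G) * y ∈ (P : Subgroup G) := fun u =>
          hmemS ⟨u, by rw [hS, Subgroup.index_eq_one.mp h1]; exact Subgroup.mem_top u⟩
        have hyN : y⁻¹ ∈ Subgroup.normalizer ((P : Subgroup G) : Set G) := by
          rw [Subgroup.mem_normalizer_iff]
          intro u
          refine ⟨fun hu => by simpa using hall ⟨u, hu⟩, fun hu => ?_⟩
          let f : ↥(P : Subgroup G) → ↥(P : Subgroup G) := fun u => ⟨_, hall u⟩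
          have hf : Function.Injective f := fun a b h => Subtype.ext (by
            have := congrArg Subtype.val h
            simpa [f] using this)
          obtain ⟨w, hw⟩ := (Finite.injective_iff_surjective.mp hf) ⟨_, hu⟩
          have : (w : G) = u := by
            have := congrArg Subtype.val hw
            simpa [f] using this
          exact this ▸ w.2
        rw [← mul_inv_eq_one, ← map_inv, ← map_mul]
        refine (hφ _ _).mpr (Subgroup.mem_sup_left ⟨Subgroup.mul_mem _ (hmemS ⟨_, hpow⟩) (Subgroup.inv_mem _ hxP), ?_⟩)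
        have h2 : (((⟨x, hxP⟩ : (P : Subgroup G)) ^ S.index : (P : Subgroup G)) : G) = x := by
          rw [show S.index = 1 from h1, pow_one]
        show y⁻¹ * (((⟨x, hxP⟩ : (P : Subgroup G)) ^ S.index : (P : Subgroup G)) : G) * y * x⁻¹ ∈ _
        rw [h2]
        have h3 : ⁅y⁻¹, x⁆ = y⁻¹ * x * y * x⁻¹ := by rw [commutatorElement_def, inv_inv]
        rw [← h3]
        exact Subgroup.commutator_mem_commutator hyN (Subgroup.le_normalizer hxP)
      · rw [if_neg h1, hφ]
        obtain ⟨k, hk⟩ := P.isPGroup'.index S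
        have hk0 : k ≠ 0 := fun h => h1 (by rw [hidx]; simpa [h] using hk)
        obtain ⟨j, hj⟩ := IsPGroup.iff_orderOf.mp P.isPGroup' ⟨x, hxP⟩
        rw [Subgroup.orderOf_mk] at hj
        have hxpow : (((⟨x, hxP⟩ : (P : Subgroup G)) ^ S.index : (P : Subgroup G)) : G) = x ^ S.index := rfl
        refine ih _ ?_ _ (hmemS ⟨_, hpow⟩) rfl ?_
        · show orderOf (y⁻¹ * (((⟨x, hxP⟩ : (P : Subgroup G)) ^ S.index : (P : Subgroup G)) : G) * y) < n
          rw [hxpow]
          have : orderOf (y⁻¹ * x ^ S.index * y) = orderOf (x ^ S.index) := by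
            have h := orderOf_injective (MulAut.conj y⁻¹).toMonoidHom (MulAut.conj y⁻¹).injective (x ^ S.index)
            simpa using h
          rw [this, ← hn, orderOf_pow' x (by rw [hk]; positivity [(Fact.out : p.Prime).pos])]
          refine Nat.div_lt_self (orderOf_pos x) ?_
          have hp := (Fact.out : p.Prime)
          have hj0 : j ≠ 0 := fun h => hx1 (orderOf_eq_one_iff.mp (by rw [hj, h, pow_zero]))
          exact lt_of_lt_of_le hp.one_lt (Nat.le_of_dvd (Nat.gcd_pos_of_pos_left _ (orderOf_pos x))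
            (Nat.dvd_gcd (hj ▸ dvd_pow_self p hj0) (hk ▸ dvd_pow_self p hk0)))
        · show y⁻¹ * (((⟨x, hxP⟩ : (P : Subgroup G)) ^ S.index : (P : Subgroup G)) : G) * y ∈ commutator G
          rw [hxpow]
          have := (inferInstance : (commutator G).Normal).conj_mem _ ((commutator G).pow_mem hxG S.index) y⁻¹
          simpa using this
    rw [hdec, Finset.prod_congr rfl (fun ω _ => hterm ω), ← Finset.prod_filter, Finset.prod_const] at hV
    set c := (Finset.univ.filter fun ω => idx ω = 1).card with hc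
    have hsum : (P : Subgroup G).index = ∑ ω, idx ω := by
      rw [Subgroup.index_eq_card, Nat.card_congr (MulAction.selfEquivSigmaOrbitsQuotientStabilizer (P : Subgroup G) (G ⧸ (P : Subgroup G)))]
      exact Nat.card_sigma
    have hcp : c.Coprime p := by
      refine ((Fact.out : p.Prime).coprime_iff_not_dvd.mpr fun hd => P.not_dvd_index ?_).symm
      rw [hsum, ← Finset.sum_filter_add_sum_filter_not Finset.univ (fun ω => idx ω = 1)]
      refine Nat.dvd_add ?_ (Finset.dvd_sum fun ω hω => ?_)
      · rw [Finset.sum_congr rfl (fun ω hω => (Finset.mem_filter.mp hω).2), Finset.sum_const, smul_eq_mul, mul_one]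
        exact hd
      · obtain ⟨k, hk⟩ := P.isPGroup'.index (MulAction.stabilizer (P : Subgroup G) ω.out)
        have hk0 : k ≠ 0 := fun h => (Finset.mem_filter.mp hω).2 (by rw [hidx]; simpa [h] using hk)
        rw [show idx ω = p ^ k from hk]
        exact dvd_pow_self p hk0
    refine (hφ x hxP).mp ?_
    have h1 : orderOf (φ ⟨x, hxP⟩) ∣ c := orderOf_dvd_of_pow_eq_one hV
    obtain ⟨j, hj⟩ := IsPGroup.iff_orderOf.mp (P.isPGroup'.to_quotient R₀) (φ ⟨x, hxP⟩)
    rw [hj] at h1
    refine orderOf_eq_one_iff.mp ?_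
    rw [hj]
    exact Nat.eq_one_of_dvd_coprimes (hcp.symm.pow_left j) dvd_rfl h1
  refine le_antisymm hmain (sup_le ?_ (iSup_le fun z => ?_))
  · exact inf_le_inf_left _ (Subgroup.commutator_mono le_top le_top)
  · refine inf_le_inf_left _ ?_
    rintro _ ⟨c, hc, rfl⟩
    exact (inferInstance : (commutator G).Normal).conj_mem _ (Subgroup.commutator_mono le_top le_top hc) z

end Cfsg.Agent.S4216
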