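import Cfsg.Statements.S4217
import Mathlib
import Cfsg.Agent.Lib.Gaschutz
-- import your own Cfsg.Agent.* helpers here

set_option autoImplicit false
open Cfsg

namespace Cfsg.Agent.S4217

open scoped Pointwise

theorem relIndex_eq_index {G : Type*} [Group G] {N U X : Subgroup G} [N.Normal] (hNU : N ≤ U)
    (hsup : N ⊔ X = ⊤) : U.relIndex X = U.index := by
  refine Nat.card_congr (Equiv.ofBijective
    (fun q : X ⧸ U.subgroupOf X => Quotient.map' (fun a : X => (a : G)) (fun a b h => by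
      rw [QuotientGroup.leftRel_apply] at h ⊢
      simpa [Subgroup.mem_subgroupOf] using h) q) ⟨?_, ?_⟩)
  · intro a b
    induction a using QuotientGroup.induction_on with | _ a =>
    induction b using QuotientGroup.induction_on with | _ b =>
    intro h
    rw [QuotientGroup.eq, Subgroup.mem_subgroupOf]
    have h' : ((a : G) : G ⧸ U) = ((b : G) : G ⧸ U) := h
    rw [QuotientGroup.eq] at h'
    simpa using h'
  · intro b
    induction b using QuotientGroup.induction_on with | _ g =>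
    have : g ∈ (X : Set G) * (N : Set G) := by
      rw [← Subgroup.mul_normal, sup_comm, hsup]; trivial
    obtain ⟨x, hx, n, hn, rfl⟩ := this
    refine ⟨((⟨x, hx⟩ : X) : X ⧸ U.subgroupOf X), ?_⟩
    show ((x : G) : G ⧸ U) = ((x * n : G) : G ⧸ U)
    rw [QuotientGroup.eq]; simpa using hNU hn

universe u

theorem aux : ∀ (N : ℕ) (G : Type u) [Group G] [Finite G] (A : Subgroup G) [A.Normal],
    (∀ a ∈ A, ∀ b ∈ A, a * b = b * a) → Nat.card A ≤ N →
    (∀ p : ℕ, p.Prime → p ∣ A.index → ∃ U, A ≤ U ∧ ¬ p ∣ U.index ∧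
      ∃ K, K ≤ U ∧ K ⊓ A = ⊥ ∧ A ⊔ K = U) →
    ∃ K : Subgroup G, K.IsComplement' A := by
  intro N
  induction N with
  | zero =>
    intro G _ _ A _ _ hle
    exact absurd hle (not_le.mpr Nat.card_pos)
  | succ N ih =>
  intro G _ _ A _ hAc hle h
  haveI hAm : IsMulCommutative A := ⟨⟨fun a b => Subtype.ext (hAc a a.2 b b.2)⟩⟩
  by_cases hA1 : A = ⊥
  · subst hA1
    exact ⟨⊤, Subgroup.isComplement'_top_bot⟩
  have hc1 : 1 < Nat.card A := (Subgroup.one_lt_card_iff_ne_bot A).mpr hA1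
  set p := (Nat.card A).minFac with hpdef
  have hp : p.Prime := Nat.minFac_prime hc1.ne'
  haveI := Fact.mk hp
  obtain ⟨k, m, hm, hkm⟩ := Nat.exists_eq_pow_mul_and_not_dvd Nat.card_pos.ne' p hp.ne_one (n := Nat.card A)
  have hk : k ≠ 0 := by
    rintro rfl
    rw [pow_zero, one_mul] at hkm
    exact hm (hkm ▸ Nat.minFac_dvd _)
  by_cases hm1 : m = 1
  · rw [hm1, mul_one] at hkm
    by_cases hpi : p ∣ A.index
    · obtain ⟨U, hAU, hUi, K, hKU, hKA, hsup⟩ := h p hp hpi
      obtain ⟨H, hH⟩ := Cfsg.Agent.Lib.Gaschutz.exists_complement A U hAU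
        (by rw [hkm]; exact (hp.coprime_iff_not_dvd.mpr hUi).pow_left k) K hKU hKA hsup
      exact ⟨H, hH.symm⟩
    · exact Subgroup.exists_left_complement'_of_coprime
        (by rw [hkm]; exact (hp.coprime_iff_not_dvd.mpr hpi).pow_left k)
  let mkS : ℕ → Subgroup G := fun j =>
    { carrier := {a | a ∈ A ∧ a ^ j = 1}
      one_mem' := ⟨A.one_mem, one_pow _⟩
      mul_mem' := fun {a b} ha hb => ⟨A.mul_mem ha.1 hb.1, by
        rw [(show Commute a b from hAc a ha.1 b hb.1).mul_pow, ha.2, hb.2, one_mul]⟩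
      inv_mem' := fun {a} ha => ⟨A.inv_mem ha.1, by rw [inv_pow, ha.2, inv_one]⟩ }
  have hnS : ∀ j, (mkS j).Normal := fun j => ⟨fun a ha g =>
    ⟨(inferInstance : A.Normal).conj_mem a ha.1 g, by rw [conj_pow, ha.2, mul_one, mul_inv_cancel]⟩⟩
  set B := mkS (p ^ k) with hB
  set C := mkS m with hC
  haveI : B.Normal := hnS _
  haveI : C.Normal := hnS _
  have hBA : B ≤ A := fun a ha => ha.1
  have hCA : C ≤ A := fun a ha => ha.1
  have hcop : (p ^ k).Coprime m := (hp.coprime_iff_not_dvd.mpr hm).pow_left k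
  have hBC : ∀ a, a ∈ B → a ∈ C → a = 1 := fun a hb hc => by
    have := pow_gcd_eq_one.mpr ⟨hb.2, hc.2⟩
    rwa [hcop.gcd_eq_one, pow_one] at this
  have hpowcard : ∀ a ∈ A, a ^ (p ^ k * m) = 1 := fun a ha => by
    rw [← hkm]
    exact congrArg Subtype.val (pow_card_eq_one' (x := (⟨a, ha⟩ : A)))
  have hsplit : ∀ a ∈ A, ∃ b ∈ B, ∃ c ∈ C, a = c * b := by
    intro a ha
    have hbez := Nat.gcd_eq_gcd_ab (p ^ k) m
    rw [hcop.gcd_eq_one, Nat.cast_one] at hbez
    refine ⟨a ^ ((m : ℤ) * Nat.gcdB (p ^ k) m), ⟨A.zpow_mem ha _, ?_⟩,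
      a ^ (((p ^ k : ℕ) : ℤ) * Nat.gcdA (p ^ k) m), ⟨A.zpow_mem ha _, ?_⟩, ?_⟩
    · rw [← zpow_natCast, ← zpow_mul, show (m : ℤ) * Nat.gcdB (p ^ k) m * ((p ^ k : ℕ) : ℤ)
        = ((p ^ k * m : ℕ) : ℤ) * Nat.gcdB (p ^ k) m by push_cast; ring, zpow_mul, zpow_natCast,
        hpowcard a ha, one_zpow]
    · rw [← zpow_natCast, ← zpow_mul, show ((p ^ k : ℕ) : ℤ) * Nat.gcdA (p ^ k) m * (m : ℤ)
        = ((p ^ k * m : ℕ) : ℤ) * Nat.gcdA (p ^ k) m by push_cast; ring, zpow_mul, zpow_natCast,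
        hpowcard a ha, one_zpow]
    · rw [← zpow_add, ← hbez, zpow_one]
  obtain ⟨a₀, ha₀⟩ := exists_prime_orderOf_dvd_card' (G := A) p (Nat.minFac_dvd _)
  have hBne : B ≠ ⊥ := by
    intro hb
    have hmem : (a₀ : G) ∈ B := ⟨a₀.2, by
      obtain ⟨j, hj⟩ : p ∣ p ^ k := dvd_pow_self p hk
      rw [hj, pow_mul, ← Subgroup.coe_pow, ← ha₀, pow_orderOf_eq_one]
      simp⟩
    rw [hb, Subgroup.mem_bot] at hmem
    have : orderOf a₀ = 1 := orderOf_eq_one_iff.mpr (Subtype.ext hmem)
    rw [ha₀] at this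
    exact hp.ne_one this
  have hBlt : Nat.card B < Nat.card A := by
    refine lt_of_le_of_ne (Subgroup.card_le_of_le hBA) fun heq => ?_
    have hBeq : B = A := Subgroup.eq_of_le_of_card_ge hBA heq.ge
    have hm0 : m ≠ 0 := fun h0 => hm (h0 ▸ dvd_zero p)
    obtain ⟨q, hq, hqm⟩ := Nat.exists_prime_and_dvd hm1
    haveI := Fact.mk hq
    obtain ⟨b, hb⟩ := exists_prime_orderOf_dvd_card' (G := A) q (dvd_trans hqm (Dvd.intro_left _ hkm.symm))
    have hbB : (b : G) ∈ B := (SetLike.ext_iff.mp hBeq _).mpr b.2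
    have := orderOf_dvd_of_pow_eq_one hbB.2
    rw [Subgroup.orderOf_coe, hb] at this
    have heq' : q = p := (Nat.prime_dvd_prime_iff_eq hq hp).mp (hq.dvd_of_dvd_pow this)
    exact hm (heq' ▸ hqm)
  -- quotient step
  let π := QuotientGroup.mk' B
  have hπ : Function.Surjective π := QuotientGroup.mk'_surjective B
  have hkerπ : π.ker = B := QuotientGroup.ker_mk' B
  have hindex : ∀ U : Subgroup G, B ≤ U → (U.map π).index = U.index := fun U hU => by
    have h1 := Subgroup.index_comap_of_surjective (U.map π) hπ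
    rw [Subgroup.comap_map_eq, hkerπ, sup_eq_left.mpr hU] at h1
    exact h1.symm
  haveI : (A.map π).Normal := Subgroup.Normal.map inferInstance π hπ
  obtain ⟨X', hX'⟩ := ih (G ⧸ B) (A.map π)
    (by rintro _ ⟨a, ha, rfl⟩ _ ⟨b, hb, rfl⟩; rw [← map_mul, hAc a ha b hb, map_mul])
    (by
      have hlt : Nat.card (A.map π) < Nat.card A := by
        refine lt_of_le_of_ne (Nat.card_le_card_of_surjective _ (π.subgroupMap_surjective A)) fun heq => hBne ?_
        have hinj := ((π.subgroupMap_surjective A).bijective_of_nat_card_le heq.ge).1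
        refine (Subgroup.eq_bot_iff_forall _).mpr fun b hb => ?_
        have : (⟨b, hBA hb⟩ : A) = 1 := hinj (Subtype.ext (by
          show π b = π ((1 : A) : G)
          rw [(QuotientGroup.eq_one_iff b).mpr hb |> (fun e => show π b = 1 from e), Subgroup.coe_one, map_one]))
        exact congrArg Subtype.val this
      omega)
    (by
      intro q hq hqi
      rw [hindex A hBA] at hqi
      obtain ⟨U, hAU, hUi, K, hKU, hKA, hsup⟩ := h q hq hqi
      refine ⟨U.map π, Subgroup.map_mono hAU, by rwa [hindex U (hBA.trans hAU)], K.map π,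
        Subgroup.map_mono hKU, ?_, by rw [← Subgroup.map_sup, hsup]⟩
      rw [eq_bot_iff]
      rintro _ ⟨⟨x, hx, rfl⟩, y, hy, hxy⟩
      have hxA : x ∈ A := by
        have h1 : y⁻¹ * x ∈ B := QuotientGroup.eq.mp hxy
        simpa using A.mul_mem hy (hBA h1)
      have : x ∈ K ⊓ A := ⟨hx, hxA⟩
      rw [hKA, Subgroup.mem_bot] at this
      rw [Subgroup.mem_bot, this, map_one])
  set X := X'.comap π with hX
  have hBX : B ≤ X := fun b hb => by
    rw [hX, Subgroup.mem_comap, show π b = 1 from (QuotientGroup.eq_one_iff b).mpr hb]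
    exact X'.one_mem
  have hXA : X ⊓ A = B := by
    refine le_antisymm (fun x hx => ?_) (le_inf hBX hBA)
    have : π x ∈ X' ⊓ A.map π := ⟨hx.1, x, hx.2, rfl⟩
    rw [hX'.disjoint.eq_bot, Subgroup.mem_bot] at this
    exact (QuotientGroup.eq_one_iff x).mp this
  have hAX : A ⊔ X = ⊤ := by
    refine top_unique fun g _ => ?_
    obtain ⟨x, hx, y, ⟨a, ha, hay⟩, hxy⟩ : π g ∈ (X' : Set (G ⧸ B)) * (A.map π : Set (G ⧸ B)) :=
      hX'.mul_eq ▸ Set.mem_univ _
    have hgx : g * a⁻¹ ∈ X := by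
      rw [hX, Subgroup.mem_comap, map_mul, map_inv, hay]
      simp only at hxy
      rw [← hxy, mul_inv_cancel_right]
      exact hx
    simpa using Subgroup.mul_mem _ (Subgroup.mem_sup_right hgx) (Subgroup.mem_sup_left ha : a ∈ A ⊔ X)
  obtain ⟨H, hH⟩ := ih X (B.subgroupOf X)
    (fun a ha b hb => Subtype.ext (hAc a (hBA ha) b (hBA hb)))
    (by rw [Nat.card_congr (Subgroup.subgroupOfEquivOfLe hBX).toEquiv]; omega)
    (by
      intro q hq hqi
      have hi : (B.subgroupOf X).index = A.index := by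
        rw [← relIndex_eq_index (N := A) le_rfl hAX, ← Subgroup.inf_relIndex_left, hXA]
        rfl
      rw [hi] at hqi
      obtain ⟨U, hAU, hUi, K, hKU, hKA, hsup⟩ := h q hq hqi
      have hU : (U.subgroupOf X).index = U.index := relIndex_eq_index hAU hAX
      refine ⟨U.subgroupOf X, Subgroup.comap_mono (hBA.trans hAU), by rwa [hU], (K ⊔ C).subgroupOf X,
        Subgroup.comap_mono (sup_le hKU (hCA.trans hAU)), ?_, ?_⟩
      · rw [eq_bot_iff]
        rintro x ⟨hx1, hx2⟩
        change (x : G) ∈ K ⊔ C at hx1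
        change (x : G) ∈ B at hx2
        obtain ⟨k', hk', c, hc, hkc⟩ : (x : G) ∈ (K : Set G) * (C : Set G) := by
          rw [← Subgroup.mul_normal]; exact hx1
        simp only at hkc
        have hk'A : k' ∈ K ⊓ A := ⟨hk', by
          have : k' = (x : G) * c⁻¹ := by rw [← hkc, mul_inv_cancel_right]
          rw [this]; exact A.mul_mem (hBA hx2) (A.inv_mem (hCA hc))⟩
        rw [hKA, Subgroup.mem_bot] at hk'A
        rw [hk'A, one_mul] at hkc
        rw [Subgroup.mem_bot]
        exact Subtype.ext (hBC _ hx2 (hkc ▸ hc))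
      · refine le_antisymm (sup_le (Subgroup.comap_mono (hBA.trans hAU))
          (Subgroup.comap_mono (sup_le hKU (hCA.trans hAU)))) ?_
        intro x hx
        obtain ⟨k', hk', a, ha, hka⟩ : (x : G) ∈ (K : Set G) * (A : Set G) := by
          rw [← Subgroup.mul_normal, sup_comm, hsup]; exact hx
        simp only at hka
        obtain ⟨b, hb, c, hc, rfl⟩ := hsplit a ha
        have hkcX : k' * c ∈ X := by
          have := X.mul_mem x.2 (X.inv_mem (hBX hb))
          rw [← hka] at this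
          simpa [mul_assoc] using this
        have : x = (⟨k' * c, hkcX⟩ : X) * ⟨b, hBX hb⟩ := Subtype.ext (by rw [← hka]; simp [mul_assoc])
        rw [this, sup_comm]
        refine Subgroup.mul_mem_sup ?_ ?_
        · show k' * c ∈ K ⊔ C
          exact Subgroup.mul_mem_sup hk' hc
        · exact hb)
  refine ⟨H.map X.subtype, Subgroup.isComplement'_of_disjoint_and_mul_eq_univ ?_ ?_⟩
  · rw [disjoint_iff, eq_bot_iff]
    rintro _ ⟨⟨x, hx, rfl⟩, hxA⟩
    have hxB : (x : G) ∈ B := hXA ▸ ⟨x.2, hxA⟩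
    have : x ∈ H ⊓ B.subgroupOf X := ⟨hx, hxB⟩
    rw [hH.disjoint.eq_bot, Subgroup.mem_bot] at this
    simp [this]
  · refine Set.eq_univ_of_forall fun g => ?_
    obtain ⟨x, hx, a, ha, rfl⟩ : g ∈ (X : Set G) * (A : Set G) := by
      rw [← Subgroup.mul_normal, sup_comm, hAX]; trivial
    obtain ⟨h', hh', b, hb, hhb⟩ : (⟨x, hx⟩ : X) ∈ (H : Set X) * (B.subgroupOf X : Set X) :=
      hH.mul_eq ▸ Set.mem_univ _
    refine ⟨(h' : G), ⟨h', hh', rfl⟩, (b : G) * a, A.mul_mem (hBA hb) ha, ?_⟩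
    have hxe : x = (h' : G) * (b : G) := (congrArg Subtype.val hhb).symm
    simp only [hxe, mul_assoc]


/-- Let `A` be an abelian normal subgroup of the finite group `G`. Then `A` has a complement in `G` if and only if, for every prime `p` dividing the index of `A`, there are a Sylow `p`-subgroup `S` of `G/A` and a subgroup `K` of `G` with `K ∩ A = 1` and `KA` equal to the preimage of `S` (that is, `A` has a complement in the preimage of a Sylow `p`-subgroup of `G/A`). -/
theorem result {G : Type*} [Group G] [Finite G] (A : Subgroup G) [A.Normal] (hA : IsMulCommutative A) : (∃ K : Subgroup G, K.IsComplement' A) ↔ ∀ p : ℕ, p.Prime → p ∣ A.index → ∃ (S : Sylow p (G ⧸ A)) (K : Subgroup G), K ⊓ A = ⊥ ∧ K ⊔ A = (S : Subgroup (G ⧸ A)).comap (QuotientGroup.mk' A) := by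
  classical
  constructor
  · rintro ⟨K, hK⟩ p hp hpA
    haveI := Fact.mk hp
    obtain ⟨S⟩ : Nonempty (Sylow p (G ⧸ A)) := inferInstance
    refine ⟨S, (S : Subgroup (G ⧸ A)).comap (QuotientGroup.mk' A) ⊓ K, ?_, ?_⟩
    · rw [eq_bot_iff]
      exact le_trans (inf_le_inf_right A inf_le_right) hK.disjoint.eq_bot.le
    · refine le_antisymm (sup_le inf_le_left (QuotientGroup.le_comap_mk' A _)) ?_
      intro u hu
      obtain ⟨k, hk, a, ha, rfl⟩ : u ∈ (K : Set G) * (A : Set G) := hK.mul_eq ▸ Set.mem_univ u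
      refine Subgroup.mul_mem_sup ⟨?_, hk⟩ ha
      have := Subgroup.mul_mem _ hu (Subgroup.inv_mem _ (QuotientGroup.le_comap_mk' A (S : Subgroup (G ⧸ A)) ha))
      rwa [mul_inv_cancel_right] at this
  · intro h
    haveI := hA
    refine aux (Nat.card A) G A (fun a ha b hb => ?_) le_rfl fun p hp hpA => ?_
    · exact congrArg Subtype.val (mul_comm' (⟨a, ha⟩ : A) ⟨b, hb⟩)
    obtain ⟨S, K, h1, h2⟩ := h p hp hpA
    haveI := Fact.mk hp
    refine ⟨_, QuotientGroup.le_comap_mk' A (S : Subgroup (G ⧸ A)), ?_, K, le_sup_left.trans h2.le, h1, by rw [sup_comm]; exact h2⟩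
    rw [Subgroup.index_comap_of_surjective _ (QuotientGroup.mk'_surjective A)]
    exact S.not_dvd_index

end Cfsg.Agent.S4217
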