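import Cfsg.Statements.S4218
import Mathlib
import Cfsg.Agent.Lib.PSolvable.HallHigman
import Cfsg.Agent.Lib.Coprime.Quotient
import Cfsg.Agent.Lib.Transfer.Tate
-- import your own Cfsg.Agent.* helpers here

set_option autoImplicit false
open Cfsg

namespace Cfsg.Agent.S4218


/-- Let `G` be a finite `p`-solvable group, `N₀ = O_{p'}(G)`, `P₁ = O_{p',p}(G)`, and let `F ≤ P₁` be the preimage of the Frattini subgroup of `P₁/N₀`. Then an element `g` of `G` induces the identity on `P₁/F` by conjugation (that is, `g x g⁻¹ x⁻¹ ∈ F` for all `x ∈ P₁`) if and only if `g ∈ P₁`: the group `G/P₁` acts faithfully on `P₁/F`. -/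
theorem result {G : Type*} [Group G] [Finite G] {p : ℕ} [Fact p.Prime] (hG : Cfsg.IsPSolvable p G) (g : G) : (∀ x ∈ Cfsg.pPrimePCore p G, g * x * g⁻¹ * x⁻¹ ∈ ((frattini (↥(Cfsg.pPrimePCore p G) ⧸ (Cfsg.pPrimeCore p G).subgroupOf (Cfsg.pPrimePCore p G))).comap (QuotientGroup.mk' ((Cfsg.pPrimeCore p G).subgroupOf (Cfsg.pPrimePCore p G)))).map (Cfsg.pPrimePCore p G).subtype) ↔ g ∈ Cfsg.pPrimePCore p G := by
  classical
  set N₀ := Cfsg.pPrimeCore p G with hN₀
  set P₁ := Cfsg.pPrimePCore p G with hP₁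
  let π : G →* G ⧸ N₀ := QuotientGroup.mk' N₀
  set P := Cfsg.pCore p (G ⧸ N₀) with hP
  let φ : P₁ →* P := (π.comp P₁.subtype).codRestrict P (fun x => x.2)
  have hφ : Function.Surjective φ := by
    rintro ⟨q, hq⟩
    obtain ⟨y, rfl⟩ := QuotientGroup.mk'_surjective N₀ q
    exact ⟨⟨y, hq⟩, rfl⟩
  have hker : φ.ker = N₀.subgroupOf P₁ := by
    ext x
    rw [MonoidHom.mem_ker, Subgroup.mem_subgroupOf, ← QuotientGroup.eq_one_iff]
    exact Subtype.ext_iff
  let ψ : P₁ ⧸ N₀.subgroupOf P₁ ≃* P :=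
    (QuotientGroup.quotientMulEquivOfEq hker.symm).trans (QuotientGroup.quotientKerEquivOfSurjective φ hφ)
  have hψ : ∀ x : P₁, ψ (x : P₁ ⧸ N₀.subgroupOf P₁) = φ x := fun x => rfl
  set F := ((frattini (P₁ ⧸ N₀.subgroupOf P₁)).comap (QuotientGroup.mk' (N₀.subgroupOf P₁))).map P₁.subtype with hF
  set Φ := (frattini P).map P.subtype with hΦ
  have hmem : ∀ y : G, y ∈ F ↔ y ∈ P₁ ∧ π y ∈ Φ := by
    intro y
    constructor
    · rintro ⟨x, hx, rfl⟩
      refine ⟨x.2, φ x, ?_, rfl⟩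
      have := frattini_le_comap_frattini_of_surjective (φ := ψ.toMonoidHom) ψ.surjective hx
      rwa [Subgroup.mem_comap] at this
    · rintro ⟨hy, c, hc, hcy⟩
      refine ⟨⟨y, hy⟩, ?_, rfl⟩
      rw [SetLike.mem_coe, Subgroup.mem_comap]
      have := frattini_le_comap_frattini_of_surjective (φ := ψ.symm.toMonoidHom) ψ.symm.surjective hc
      rw [Subgroup.mem_comap] at this
      have hc' : φ ⟨y, hy⟩ = c := Subtype.ext hcy.symm
      rw [← hc', ← hψ] at this
      simpa using this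
  haveI hP₁n : P₁.Normal := Cfsg.Agent.Lib.PSolvable.pPrimePCore_normal
  haveI hΦn : Φ.Normal := ConjAct.normal_of_characteristic_of_normal
  let μ := QuotientGroup.mk' Φ
  haveI : (P.map μ).Normal := Subgroup.Normal.map inferInstance μ (QuotientGroup.mk'_surjective _)
  set K : Subgroup (G ⧸ N₀) := (Subgroup.centralizer ((P.map μ : Subgroup ((G ⧸ N₀) ⧸ Φ)) : Set ((G ⧸ N₀) ⧸ Φ))).comap μ with hK
  haveI : K.Normal := Subgroup.Normal.comap inferInstance μ
  have hKmem : ∀ q, q ∈ K ↔ ∀ c ∈ P, q * c * q⁻¹ * c⁻¹ ∈ Φ := by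
    intro q
    rw [hK, Subgroup.mem_comap, Subgroup.mem_centralizer_iff]
    constructor
    · intro h c hc
      rw [← QuotientGroup.eq_one_iff]
      show μ (q * c * q⁻¹ * c⁻¹) = 1
      rw [map_mul, map_mul, map_mul, map_inv, map_inv, ← h _ ⟨c, hc, rfl⟩, mul_inv_cancel_right, mul_inv_cancel]
    · rintro h _ ⟨c, hc, rfl⟩
      have : μ (q * c * q⁻¹ * c⁻¹) = 1 := (QuotientGroup.eq_one_iff _).mpr (h c hc)
      rw [map_mul, map_mul, map_mul, map_inv, map_inv, mul_inv_eq_one, mul_inv_eq_iff_eq_mul] at this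
      exact this.symm
  have hPpg : IsPGroup p P := Cfsg.Agent.Lib.PSolvable.pCore_isPGroup
  have hKP : K ≤ P := by
    haveI : Fact p.Prime := inferInstance
    refine Cfsg.Agent.Lib.PSolvable.le_pCore ?_
    rintro ⟨q, hq⟩
    obtain ⟨k, hk⟩ := Cfsg.Agent.Lib.Transfer.exists_pow_coprime (p := p) q
    refine ⟨k, Subtype.ext ?_⟩
    show q ^ p ^ k = 1
    have hcop : (Nat.card (Subgroup.zpowers (q ^ p ^ k))).Coprime (Nat.card (frattini P)) := by
      obtain ⟨j, hj⟩ := (hPpg.to_subgroup (frattini P)).exists_card_eq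
      rw [Nat.card_zpowers, hj]
      exact hk.pow_right j
    have hC := Cfsg.Agent.Lib.Coprime.le_centralizer_of_frattini (A := Subgroup.zpowers (q ^ p ^ k))
      (K := P) (by rw [Subgroup.normalizer_eq_top_iff.mpr (inferInstance : P.Normal)]; exact le_top) hcop
      (fun a ha c hc => (hKmem a).mp (Subgroup.zpowers_le.mpr (K.pow_mem hq _) ha) c hc)
    have hqP : q ^ p ^ k ∈ P :=
      Cfsg.Agent.Lib.PSolvable.centralizer_pCore_le_of_isPSolvable
        (Cfsg.Agent.Lib.PSolvable.isPSolvable_quotient hG N₀)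
        Cfsg.Agent.Lib.PSolvable.pPrimeCore_quotient_eq_bot (hC (Subgroup.mem_zpowers _))
    exact congrArg Subtype.val
      (Cfsg.Agent.Lib.Transfer.eq_one_of_isPGroup_coprime hPpg (x := ⟨_, hqP⟩) (by rwa [Subgroup.orderOf_mk]))
  constructor
  · intro h
    refine hKP ((hKmem (π g)).mpr ?_)
    intro c hc
    obtain ⟨y, rfl⟩ := QuotientGroup.mk'_surjective N₀ c
    have := ((hmem _).mp (h y hc)).2
    simpa [π] using this
  · intro hg x hx
    refine (hmem _).mpr ⟨P₁.mul_mem (hP₁n.conj_mem x hx g) (P₁.inv_mem hx), ⟨φ ⟨g, hg⟩ * φ ⟨x, hx⟩ * (φ ⟨g, hg⟩)⁻¹ * (φ ⟨x, hx⟩)⁻¹, ?_, ?_⟩⟩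
    · open commutatorElement in
      exact Cfsg.Agent.Lib.Transfer.commutator_le_frattini_of_isPGroup hPpg
        (Subgroup.commutator_mem_commutator (Subgroup.mem_top (φ ⟨g, hg⟩)) (Subgroup.mem_top (φ ⟨x, hx⟩)))
    · simp only [Subgroup.coe_subtype, Subgroup.coe_mul, Subgroup.coe_inv, map_mul, map_inv]; rfl

end Cfsg.Agent.S4218
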