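import Cfsg.Statements.S4219
import Mathlib
-- import your own Cfsg.Agent.* helpers here

set_option autoImplicit false
open Cfsg

namespace Cfsg.Agent.S4219


/-- Let a finite group `G` act `t`-fold transitively on a finite set, let `H` be the stabilizer of `t` distinct points and `P` a Sylow `p`-subgroup of `H`. Then the normalizer of `P` in `G` is `t`-fold transitive on the fixed points of `P`: any `t` distinct fixed points of `P` can be carried to any other `t` distinct fixed points of `P` by an element normalizing `P`. -/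
theorem result {G : Type*} [Group G] [Finite G] {α : Type*} [Fintype α] [MulAction G α] {t : ℕ} (hG : MulAction.IsMultiplyPretransitive G α t) (x : Fin t ↪ α) {p : ℕ} [Fact p.Prime] (P : Sylow p (MulAction.stabilizer G x)) (a b : Fin t ↪ α) (ha : ∀ i, a i ∈ MulAction.fixedPoints ((P : Subgroup (MulAction.stabilizer G x)).map (MulAction.stabilizer G x).subtype) α) (hb : ∀ i, b i ∈ MulAction.fixedPoints ((P : Subgroup (MulAction.stabilizer G x)).map (MulAction.stabilizer G x).subtype) α) : ∃ g ∈ Subgroup.normalizer ((((P : Subgroup (MulAction.stabilizer G x)).map (MulAction.stabilizer G x).subtype) : Subgroup G) : Set G), g • a = b := by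
  classical
  obtain ⟨Q, hQ⟩ : ∃ Q : Subgroup G,
      Q = (P : Subgroup (MulAction.stabilizer G x)).map (MulAction.stabilizer G x).subtype := ⟨_, rfl⟩
  rw [← hQ] at ha hb ⊢
  have := hG
  have htrans : MulAction.IsPretransitive G (Fin t ↪ α) := hG
  obtain ⟨g, hg⟩ := MulAction.exists_smul_eq G a b
  obtain ⟨u, hu⟩ := MulAction.exists_smul_eq G x b
  set K : Subgroup G := MulAction.stabilizer G b with hK
  have hcardK : Nat.card K = Nat.card (MulAction.stabilizer G x) := by
    rw [hK]
    exact (Nat.card_congr (MulAction.stabilizerEquivStabilizer hu.symm).toEquiv).symm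
  have hQK : Q ≤ K := by
    intro q hq
    rw [hK, MulAction.mem_stabilizer_iff]
    ext i
    exact (hb i) ⟨q, hq⟩
  have hgQK : Q.map (MulAut.conj g).toMonoidHom ≤ K := by
    rintro _ ⟨q, hq, rfl⟩
    rw [hK, MulAction.mem_stabilizer_iff]
    have : q • a = a := by ext i; exact (ha i) ⟨q, hq⟩
    simp [mul_smul, ← hg, this]
  have hcQ : Nat.card Q = p ^ (Nat.card K).factorization p := by
    rw [hQ, Subgroup.card_map_of_injective (MulAction.stabilizer G x).subtype_injective, P.card_eq_multiplicity, hcardK]
  let S₁ : Sylow p K := Sylow.ofCard (Q.subgroupOf K) (by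
    rw [Nat.card_congr (Subgroup.subgroupOfEquivOfLe hQK).toEquiv, hcQ])
  let S₂ : Sylow p K := Sylow.ofCard ((Q.map (MulAut.conj g).toMonoidHom).subgroupOf K) (by
    rw [Nat.card_congr (Subgroup.subgroupOfEquivOfLe hgQK).toEquiv,
      Subgroup.card_map_of_injective (MulAut.conj g).injective, hcQ])
  obtain ⟨k, hk⟩ := MulAction.exists_smul_eq K S₂ S₁
  refine ⟨(k : G) * g, ?_, ?_⟩
  · have hfwd : ∀ q ∈ Q, (k : G) * g * q * ((k : G) * g)⁻¹ ∈ Q := by
      intro q hq
      have hm : g * q * g⁻¹ ∈ Q.map (MulAut.conj g).toMonoidHom := ⟨q, hq, rfl⟩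
      have : k * (⟨_, hgQK hm⟩ : K) * k⁻¹ ∈ (S₁ : Subgroup K) := by
        rw [← hk, Sylow.coe_subgroup_smul, Subgroup.mem_pointwise_smul_iff_inv_smul_mem]
        simpa [MulAut.smul_def, mul_assoc, S₂, Subgroup.mem_subgroupOf] using hm
      have h' : (k : G) * (g * q * g⁻¹) * (k : G)⁻¹ ∈ Q := by
        simpa [S₁, Subgroup.mem_subgroupOf] using this
      simpa [mul_assoc] using h'
    rw [Subgroup.mem_normalizer_iff]
    intro q
    refine ⟨hfwd q, fun hq => ?_⟩
    let f : Q → Q := fun q => ⟨_, hfwd q q.2⟩
    have hf : Function.Injective f := fun a b h => Subtype.ext (by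
      have := congrArg Subtype.val h
      simpa [f] using this)
    obtain ⟨q', hq'⟩ := (Finite.injective_iff_surjective.mp hf) ⟨_, hq⟩
    have : (q' : G) = q := by simpa [f] using congrArg Subtype.val hq'
    exact this ▸ q'.2
  · rw [mul_smul, hg]
    exact k.2

end Cfsg.Agent.S4219
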