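import Cfsg.Statements.S4223
import Mathlib
-- import your own Cfsg.Agent.* helpers here

set_option autoImplicit false
open Cfsg

namespace Cfsg.Agent.S4223

universe u v

/-- Not the internal direct product of two nontrivial normal subgroups. -/
def Indec (A : Type*) [Group A] : Prop :=
  Nontrivial A ∧ ∀ H K : Subgroup A, H.Normal → K.Normal → H ⊓ K = ⊥ → H ⊔ K = ⊤ → H = ⊥ ∨ K = ⊥

/-- An endomorphism commuting with the inner automorphisms. -/
def NormalEndo {A : Type*} [Group A] (h : Monoid.End A) : Prop := ∀ a x, h (a * x * a⁻¹) = a * h x * a⁻¹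

theorem fitting {A : Type*} [Group A] [Finite A] (hA : Indec A) (h : Monoid.End A) (hn : NormalEndo h) :
    Function.Bijective h ∨ ∃ N : ℕ, ∀ x, (h ^ N) x = 1 := by
  haveI : Finite (Monoid.End A) := Finite.of_injective _ DFunLike.coe_injective
  obtain ⟨N, hN0, hN⟩ : ∃ N, 0 < N ∧ h ^ N * h ^ N = h ^ N := by
    obtain ⟨i, k, hik, he⟩ := Finite.exists_ne_map_eq_of_infinite (fun n : ℕ => h ^ n)
    wlog hlt : i < k generalizing i k
    · exact this k i hik.symm he.symm (by omega)
    have key : ∀ l, i ≤ l → ∀ m, h ^ (l + (k - i) * m) = h ^ l := by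
      intro l hl m
      induction m with
      | zero => simp
      | succ m ih =>
        calc h ^ (l + (k - i) * (m + 1)) = h ^ (k - i) * h ^ (l + (k - i) * m) := by
              rw [← pow_add]; congr 1; ring
          _ = h ^ (k - i) * h ^ l := by rw [ih]
          _ = h ^ k * h ^ (l - i) := by rw [← pow_add, ← pow_add]; congr 1; omega
          _ = h ^ i * h ^ (l - i) := by rw [he]
          _ = h ^ l := by rw [← pow_add]; congr 1; omega
    refine ⟨(k - i) * (i + 1), Nat.mul_pos (by omega) (by omega), ?_⟩
    rw [← pow_add]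
    refine key _ ?_ (i + 1)
    calc i ≤ 1 * (i + 1) := by omega
      _ ≤ _ := Nat.mul_le_mul_right _ (by omega)
  have hnN : ∀ M : ℕ, NormalEndo (h ^ M) := by
    intro M
    induction M with
    | zero => intro a x; rfl
    | succ M ih =>
      intro a x
      rw [pow_succ']
      show h ((h ^ M) (a * x * a⁻¹)) = a * h ((h ^ M) x) * a⁻¹
      rw [ih, hn]
  let q : A →* A := h ^ N
  have hq : ∀ x, q (q x) = q x := fun x => DFunLike.congr_fun hN x
  have hrange : q.range.Normal := ⟨fun y hy a => by
    obtain ⟨x, rfl⟩ := hy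
    exact ⟨a * x * a⁻¹, hnN N a x⟩⟩
  obtain hker | hran : q.ker = ⊥ ∨ q.range = ⊥ := by
    refine hA.2 q.ker q.range inferInstance hrange ?_ ?_
    · rw [Subgroup.eq_bot_iff_forall]
      rintro y ⟨hy1, x, rfl⟩
      rw [← hq]; exact MonoidHom.mem_ker.mp hy1
    · rw [eq_top_iff]
      intro x _
      have h1 : x * (q x)⁻¹ ∈ q.ker := by rw [MonoidHom.mem_ker, map_mul, map_inv, hq, mul_inv_cancel]
      have h2 := Subgroup.mul_mem_sup h1 (show q x ∈ q.range from ⟨x, rfl⟩)
      rwa [inv_mul_cancel_right] at h2
  · left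
    have hinj : Function.Injective h := by
      intro x y hxy
      refine (MonoidHom.ker_eq_bot_iff q).mp hker ?_
      show (h ^ N) x = (h ^ N) y
      rw [← Nat.sub_add_cancel hN0, pow_succ]
      show (h ^ (N - 1)) (h x) = (h ^ (N - 1)) (h y)
      rw [hxy]
    exact ⟨hinj, Finite.surjective_of_injective hinj⟩
  · right
    exact ⟨N, fun x => DFunLike.congr_fun (MonoidHom.range_eq_bot_iff.mp hran) x⟩

theorem bijective_or_bijective {A : Type*} [Group A] [Finite A] (hA : Indec A) (h k s : Monoid.End A)
    (hn : NormalEndo h) (kn : NormalEndo k) (hs : ∀ x, s x = h x * k x) (hb : Function.Bijective s) :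
    Function.Bijective h ∨ Function.Bijective k := by
  have sn : NormalEndo s := fun a x => by
    rw [hs, hs, hn, kn]; group
  let α : A ≃* A := MulEquiv.ofBijective (s : A →* A) hb
  have αn : ∀ a x, α.symm (a * x * a⁻¹) = a * α.symm x * a⁻¹ := by
    intro a x
    rw [MulEquiv.symm_apply_eq]
    show a * x * a⁻¹ = s (a * α.symm x * a⁻¹)
    rw [sn, show s (α.symm x) = x from α.apply_symm_apply x]
  let h' : Monoid.End A := α.symm.toMonoidHom.comp h
  let k' : Monoid.End A := α.symm.toMonoidHom.comp k
  have hn' : NormalEndo h' := fun a x => by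
    show α.symm (h (a * x * a⁻¹)) = a * α.symm (h x) * a⁻¹
    rw [hn, αn]
  have kn' : NormalEndo k' := fun a x => by
    show α.symm (k (a * x * a⁻¹)) = a * α.symm (k x) * a⁻¹
    rw [kn, αn]
  rcases fitting hA h' hn' with hb' | ⟨N, hN⟩
  · left
    exact (Function.Bijective.of_comp_iff' α.symm.bijective h).mp hb'
  right
  rcases fitting hA k' kn' with kb' | ⟨M, hM⟩
  · exact (Function.Bijective.of_comp_iff' α.symm.bijective k).mp kb'
  exfalso
  haveI := hA.1
  obtain ⟨x, hx, hx1⟩ : ∃ x, h' x = 1 ∧ x ≠ 1 := by
    by_contra hc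
    push Not at hc
    have hinj : Function.Injective h' := (injective_iff_map_eq_one (h' : A →* A)).mpr hc
    obtain ⟨y, hy⟩ := exists_ne (1 : A)
    refine hy ?_
    have : ∀ n : ℕ, Function.Injective (h' ^ n : Monoid.End A) := by
      intro n
      induction n with
      | zero => exact fun a b h => h
      | succ n ih =>
        rw [pow_succ]
        exact ih.comp hinj
    exact this N ((hN y).trans (map_one (h' ^ N)).symm)
  have hk : k' x = x := by
    show α.symm (k x) = x
    rw [MulEquiv.symm_apply_eq]
    show k x = s x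
    have hx' : h x = 1 := α.symm.injective ((show α.symm (h x) = 1 from hx).trans (map_one _).symm)
    rw [hs, hx', one_mul]
  refine hx1 ?_
  have hiter : ∀ n : ℕ, (k' ^ n : Monoid.End A) x = x := by
    intro n
    induction n with
    | zero => rfl
    | succ n ih =>
      rw [pow_succ]
      show (k' ^ n : Monoid.End A) (k' x) = x
      rw [hk, ih]
  rw [← hiter M]; exact hM x

/-- Projection to a set of coordinates. -/
def projSet {n : ℕ} {B : Fin n → Type v} [∀ j, Group (B j)] (S : Finset (Fin n)) :
    ((j : Fin n) → B j) →* ((j : Fin n) → B j) where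
  toFun b i := if i ∈ S then b i else 1
  map_one' := by funext i; simp
  map_mul' a b := by funext i; by_cases h : i ∈ S <;> simp [h]

theorem krs : ∀ (m n : ℕ) {A : Fin m → Type u} {B : Fin n → Type v} [∀ i, Group (A i)] [∀ j, Group (B j)]
    [∀ i, Finite (A i)] [∀ j, Finite (B j)], (∀ i, Indec (A i)) → (∀ j, Indec (B j)) →
    (((i : Fin m) → A i) ≃* ((j : Fin n) → B j)) → ∃ σ : Fin m ≃ Fin n, ∀ i, Nonempty (A i ≃* B (σ i)) := by
  intro m
  induction m with
  | zero =>
    intro n A B _ _ _ _ hA hB e
    cases n with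
    | zero => exact ⟨Equiv.refl _, fun i => i.elim0⟩
    | succ n =>
      exfalso
      haveI := (hB 0).1
      obtain ⟨b, hb⟩ := exists_ne (1 : B 0)
      have := e.symm.injective (Subsingleton.elim (e.symm (Pi.mulSingle 0 b)) (e.symm 1))
      exact hb (by simpa using congrFun this 0)
  | succ m ih =>
    intro n A B _ _ _ _ hA hB e
    classical
    let ι₁ : A 0 →* ((i : Fin (m + 1)) → A i) := MonoidHom.mulSingle A 0
    let π₁ : ((i : Fin (m + 1)) → A i) →* A 0 := Pi.evalMonoidHom A 0
    have hι : ∀ a x, ι₁ a * ι₁ x * (ι₁ a)⁻¹ = ι₁ (a * x * a⁻¹) := fun a x => by simp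
    let hS : Finset (Fin n) → Monoid.End (A 0) := fun S =>
      π₁.comp (e.symm.toMonoidHom.comp ((projSet S).comp (e.toMonoidHom.comp ι₁)))
    have hSn : ∀ S, NormalEndo (hS S) := by
      intro S a x
      show π₁ (e.symm (projSet S (e (ι₁ (a * x * a⁻¹))))) = _
      rw [← hι, map_mul e, map_mul e, map_inv e]
      have : projSet S (e (ι₁ a) * e (ι₁ x) * (e (ι₁ a))⁻¹) = e (ι₁ a) * projSet S (e (ι₁ x)) * (e (ι₁ a))⁻¹ := by
        funext i
        simp only [projSet, MonoidHom.coe_mk, OneHom.coe_mk, Pi.mul_apply, Pi.inv_apply]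
        by_cases h : i ∈ S <;> simp [h]
      rw [this, map_mul e.symm, map_mul e.symm, map_inv e.symm, e.symm_apply_apply, map_mul, map_mul, map_inv]
      show π₁ (ι₁ a) * _ * (π₁ (ι₁ a))⁻¹ = _
      simp only [ι₁, π₁, Pi.evalMonoidHom_apply, MonoidHom.mulSingle_apply, Pi.mulSingle_eq_same]
      rfl
    have huniv : Function.Bijective (hS Finset.univ) := by
      have h1 : ∀ x, hS Finset.univ x = x := by
        intro x
        show π₁ (e.symm (projSet Finset.univ (e (ι₁ x)))) = x
        have : projSet Finset.univ (e (ι₁ x)) = e (ι₁ x) := by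
          funext i; simp [projSet]
        rw [this, e.symm_apply_apply]
        simp [ι₁, π₁]
      exact ⟨fun a b h => by rwa [h1, h1] at h, fun b => ⟨b, h1 b⟩⟩
    have hemp : ¬ Function.Bijective (hS ∅) := by
      intro hb
      haveI := (hA 0).1
      obtain ⟨a, ha⟩ := exists_ne (1 : A 0)
      refine ha (hb.1 ?_)
      rw [map_one]
      show π₁ (e.symm (projSet ∅ (e (ι₁ a)))) = 1
      have : projSet ∅ (e (ι₁ a)) = 1 := by funext i; simp [projSet]
      rw [this, map_one, map_one]
    obtain ⟨j, hj⟩ : ∃ j, Function.Bijective (hS {j}) := by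
      by_contra hcon
      push Not at hcon
      suffices H : ∀ S, ¬ Function.Bijective (hS S) from H _ huniv
      intro S
      induction S using Finset.induction with
      | empty => exact hemp
      | insert j S hjS ihS =>
        intro hb
        have hsum : ∀ x, hS (insert j S) x = hS {j} x * hS S x := by
          intro x
          show π₁ (e.symm (projSet (insert j S) (e (ι₁ x)))) = π₁ (e.symm (projSet {j} (e (ι₁ x)))) * π₁ (e.symm (projSet S (e (ι₁ x))))
          rw [← map_mul π₁, ← map_mul e.symm]
          congr 2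
          funext i
          simp only [projSet, MonoidHom.coe_mk, OneHom.coe_mk, Pi.mul_apply, Finset.mem_insert, Finset.mem_singleton]
          by_cases h1 : i = j
          · subst h1; simp [hjS]
          · simp [h1]
        rcases bijective_or_bijective (hA 0) (hS {j}) (hS S) (hS (insert j S)) (hSn _) (hSn _) hsum hb with h | h
        · exact hcon j h
        · exact ihS h
    -- `A 0 ≅ B j`
    let f : A 0 →* B j := (Pi.evalMonoidHom B j).comp (e.toMonoidHom.comp ι₁)
    let g : B j →* A 0 := π₁.comp (e.symm.toMonoidHom.comp (MonoidHom.mulSingle B j))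
    have hgf : ∀ x, g (f x) = hS {j} x := by
      intro x
      show π₁ (e.symm (Pi.mulSingle j (e (ι₁ x) j))) = π₁ (e.symm (projSet {j} (e (ι₁ x))))
      congr 2
      funext i
      simp only [projSet, MonoidHom.coe_mk, OneHom.coe_mk, Finset.mem_singleton]
      by_cases h1 : i = j
      · subst h1; simp
      · simp [h1]
    have hfinj : Function.Injective f := fun a b h => hj.1 (by rw [← hgf, ← hgf, h])
    have hfn : f.range.Normal := ⟨by
      rintro _ ⟨x, rfl⟩ b
      obtain ⟨a, ha⟩ : ∃ a, e a = Pi.mulSingle j b := ⟨e.symm _, e.apply_symm_apply _⟩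
      refine ⟨π₁ a * x * (π₁ a)⁻¹, ?_⟩
      have h1 : ι₁ (π₁ a * x * (π₁ a)⁻¹) = a * ι₁ x * a⁻¹ := by
        funext i
        simp only [ι₁, π₁, MonoidHom.mulSingle_apply, Pi.evalMonoidHom_apply, Pi.mul_apply, Pi.inv_apply]
        by_cases h : i = 0
        · subst h; simp
        · simp [h]
      show (e (ι₁ (π₁ a * x * (π₁ a)⁻¹))) j = b * (e (ι₁ x)) j * b⁻¹
      rw [h1, map_mul, map_mul, map_inv, ha]
      simp⟩
    have hfsurj : Function.Surjective f := by
      obtain h | h : f.range = ⊥ ∨ g.ker = ⊥ := by
        refine (hB j).2 f.range g.ker hfn inferInstance ?_ ?_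
        · rw [Subgroup.eq_bot_iff_forall]
          rintro y ⟨⟨x, rfl⟩, hy⟩
          have h1 : hS {j} x = 1 := (hgf x).symm.trans (MonoidHom.mem_ker.mp hy)
          rw [hj.1 (h1.trans (map_one _).symm), map_one]
        · rw [eq_top_iff]
          intro b _
          obtain ⟨a, ha⟩ := hj.2 (g b)
          have h1 : (f a)⁻¹ * b ∈ g.ker := by
            rw [MonoidHom.mem_ker, map_mul, map_inv, hgf, ha, inv_mul_cancel]
          have h2 := Subgroup.mul_mem_sup (show f a ∈ f.range from ⟨a, rfl⟩) h1
          rwa [mul_inv_cancel_left] at h2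
      · exfalso
        haveI := (hA 0).1
        obtain ⟨a, ha⟩ := exists_ne (1 : A 0)
        exact ha (hfinj ((DFunLike.congr_fun (MonoidHom.range_eq_bot_iff.mp h) a).trans (map_one f).symm))
      · intro b
        obtain ⟨a, ha⟩ := hj.2 (g b)
        refine ⟨a, (MonoidHom.ker_eq_bot_iff g).mp h ?_⟩
        rw [hgf, ha]
    let ej : A 0 ≃* B j := MulEquiv.ofBijective f ⟨hfinj, hfsurj⟩
    cases n with
    | zero => exact j.elim0
    | succ n =>
    let A' : Fin m → Type u := fun i => A i.succ
    let B' : Fin n → Type v := fun i => B (j.succAbove i)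
    let incl : ((i : Fin n) → B' i) →* ((i : Fin (n + 1)) → B i) :=
      { toFun := fun b => j.insertNth (1 : B j) b
        map_one' := by
          funext i
          induction i using Fin.succAboveCases j with
          | x => simp
          | p i => simp [B']
        map_mul' := fun a b => by
          funext i
          induction i using Fin.succAboveCases j with
          | x => simp
          | p i => simp [B'] }
    let res : ((i : Fin (m + 1)) → A i) →* ((i : Fin m) → A' i) :=
      MonoidHom.mk' (fun a i => a i.succ) (fun _ _ => rfl)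
    let ψ : ((i : Fin n) → B' i) →* ((i : Fin m) → A' i) := res.comp (e.symm.toMonoidHom.comp incl)
    have hψinj : Function.Injective ψ := by
      rw [injective_iff_map_eq_one]
      intro b hb
      set a := e.symm (incl b) with ha
      have h1 : a = ι₁ (a 0) := by
        funext i
        induction i using Fin.cases with
        | zero => simp [ι₁]
        | succ i =>
          simp only [ι₁, MonoidHom.mulSingle_apply, Pi.mulSingle_eq_of_ne (Fin.succ_ne_zero i)]
          exact congrFun hb i
      have h2 : f (a 0) = 1 := by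
        show e (ι₁ (a 0)) j = 1
        rw [← h1, ha, e.apply_symm_apply]
        simp [incl]
      have h3 : a 0 = 1 := hfinj (h2.trans (map_one f).symm)
      rw [h3, map_one] at h1
      have h4 : incl b = 1 := e.symm.injective ((ha.symm.trans h1).trans (map_one e.symm).symm)
      funext i
      have h5 := congrFun h4 (j.succAbove i)
      simpa [incl] using h5
    have hcard : Nat.card ((i : Fin n) → B' i) = Nat.card ((i : Fin m) → A' i) := by
      refine Nat.eq_of_mul_eq_mul_left (Nat.card_pos (α := A 0)) ?_
      have h1 := Nat.card_congr e.toEquiv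
      rw [Nat.card_pi, Nat.card_pi, Fin.prod_univ_succ, Fin.prod_univ_succAbove _ j,
        ← Nat.card_congr ej.toEquiv] at h1
      rw [Nat.card_pi, Nat.card_pi]
      exact h1.symm
    let e' : ((i : Fin m) → A' i) ≃* ((i : Fin n) → B' i) :=
      (MulEquiv.ofBijective ψ ((Nat.bijective_iff_injective_and_card ψ).mpr ⟨hψinj, hcard⟩)).symm
    obtain ⟨σ, hσ⟩ := ih n (A := A') (B := B') (fun i => hA _) (fun i => hB _) e'
    refine ⟨(finSuccEquiv m).trans ((Equiv.optionCongr σ).trans (finSuccEquiv' j).symm), fun i => ?_⟩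
    induction i using Fin.cases with
    | zero =>
      rw [show ((finSuccEquiv m).trans ((Equiv.optionCongr σ).trans (finSuccEquiv' j).symm)) 0 = j by simp [Equiv.optionCongr_apply]]
      exact ⟨ej⟩
    | succ i =>
      rw [show ((finSuccEquiv m).trans ((Equiv.optionCongr σ).trans (finSuccEquiv' j).symm)) i.succ = j.succAbove (σ i) by simp [Equiv.optionCongr_apply]]
      exact hσ i


/-- If a finite group is isomorphic both to a direct product of `m` directly indecomposable nontrivial groups and to a direct product of `n` such groups (a group is directly indecomposable when it is not the internal direct product of two nontrivial normal subgroups), then `m = n` and the factors are isomorphic in pairs after a suitable matching. -/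
theorem result {m n : ℕ} {A : Fin m → Type*} {B : Fin n → Type*} [∀ i, Group (A i)] [∀ j, Group (B j)] [∀ i, Finite (A i)] [∀ j, Finite (B j)] (hA : ∀ i, Nontrivial (A i) ∧ ∀ H K : Subgroup (A i), H.Normal → K.Normal → H ⊓ K = ⊥ → H ⊔ K = ⊤ → H = ⊥ ∨ K = ⊥) (hB : ∀ j, Nontrivial (B j) ∧ ∀ H K : Subgroup (B j), H.Normal → K.Normal → H ⊓ K = ⊥ → H ⊔ K = ⊤ → H = ⊥ ∨ K = ⊥) (e : ((i : Fin m) → A i) ≃* ((j : Fin n) → B j)) : ∃ σ : Fin m ≃ Fin n, ∀ i, Nonempty (A i ≃* B (σ i)) := by
  exact krs m n (A := A) (B := B) hA hB e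

end Cfsg.Agent.S4223
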