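import Cfsg.Statements.S4227
import Mathlib
import Cfsg.Agent.Lib.PSolvable.Series
import Cfsg.Agent.Lib.PSolvable.HallHigman
import Cfsg.Agent.Lib.Burnside.Paqb
import Cfsg.Agent.Lib.Coprime.Quotient
import Cfsg.Agent.Lib.Transfer.Tate
-- import your own Cfsg.Agent.* helpers here

set_option autoImplicit false
open Cfsg

namespace Cfsg.Agent.S4227

theorem exp_six_of_two_group {G : Type*} [Group G] [Finite G] (h : ∀ x : G, x ^ 6 = 1) {S : Subgroup G}
    (hS : IsPGroup 2 S) {a : G} (ha : a ∈ S) : a ^ 2 = 1 := by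
  obtain ⟨k, hk⟩ := hS ⟨a, ha⟩
  have hk' : a ^ 2 ^ k = 1 := congrArg Subtype.val hk
  have h1 : a ^ ((6 : ℕ).gcd (2 ^ k)) = 1 := pow_gcd_eq_one.mpr ⟨h a, hk'⟩
  obtain ⟨j, -, hj⟩ := (Nat.dvd_prime_pow Nat.prime_two).mp (Nat.gcd_dvd_right 6 (2 ^ k))
  have hj6 : 2 ^ j ∣ 6 := hj ▸ Nat.gcd_dvd_left _ _
  rw [hj] at h1
  have hj1 : j ≤ 1 := by
    by_contra hc
    have h4 : 4 ∣ 6 := (pow_dvd_pow 2 (show 2 ≤ j by omega)).trans hj6
    omega
  obtain ⟨c, hc⟩ := (pow_dvd_pow 2 (show j ≤ 1 by omega) : 2 ^ j ∣ 2 ^ 1)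
  calc a ^ 2 = a ^ (2 ^ j * c) := by rw [← hc, pow_one]
    _ = 1 := by rw [pow_mul, h1, one_pow]

theorem isSolvable_of_exp_six {G : Type*} [Group G] [Finite G] (h : ∀ x : G, x ^ 6 = 1) :
    Group.IsSolvable G := by
  have hN : Nat.card G ≠ 0 := Nat.card_pos.ne'
  refine Cfsg.Agent.Lib.Burnside.isSolvable_of_card_eq_prime_pow_mul Nat.prime_two Nat.prime_three
    (a := (Nat.card G).factorization 2) (b := (Nat.card G).factorization 3) ?_
  have hsupp : ∀ q, q ∈ (Nat.card G).primeFactors → q = 2 ∨ q = 3 := by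
    intro q hq
    haveI := Fact.mk (Nat.prime_of_mem_primeFactors hq)
    obtain ⟨x, hx⟩ := exists_prime_orderOf_dvd_card' q (Nat.dvd_of_mem_primeFactors hq)
    have h6 : q ∣ 2 * 3 := hx ▸ orderOf_dvd_of_pow_eq_one (h x)
    rcases (Nat.prime_of_mem_primeFactors hq).dvd_mul.mp h6 with h' | h'
    · exact Or.inl ((Nat.prime_dvd_prime_iff_eq (Nat.prime_of_mem_primeFactors hq) Nat.prime_two).mp h')
    · exact Or.inr ((Nat.prime_dvd_prime_iff_eq (Nat.prime_of_mem_primeFactors hq) Nat.prime_three).mp h')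
  conv_lhs => rw [← Nat.prod_factorization_pow_eq_self hN]
  rw [Nat.prod_factorization_eq_prod_primeFactors,
    Finset.prod_subset (show (Nat.card G).primeFactors ⊆ ({2, 3} : Finset ℕ) from fun q hq => by
      rcases hsupp q hq with rfl | rfl <;> simp)]
  · rw [Finset.prod_pair (by norm_num)]
  · intro q _ hq
    rw [Finsupp.notMem_support_iff.mp (by rwa [Nat.support_factorization]), pow_zero]

/-- The four-group computation. -/
theorem ring_key {R : Type*} [Ring R] (h3 : (3 : R) = 0) {X U U' U'' : R}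
    (e0 : 1 + X + X * X = 0) (e1 : 1 + U * X + U'' * (X * X) = 0) (e2 : 1 + U' * X + U * (X * X) = 0)
    (e3 : 1 + U'' * X + U' * (X * X) = 0) (hUU : U * U = 1) (hUV : U * U' = U'') (hUW : U * U'' = U') :
    U = 1 := by
  set S := 1 + U + U' + U'' with hS
  have hsum : 4 + S * (X + X * X) = 0 := by
    have : 4 + S * (X + X * X) = (1 + X + X * X) + (1 + U * X + U'' * (X * X)) + (1 + U' * X + U * (X * X)) + (1 + U'' * X + U' * (X * X)) := by
      rw [hS, show (4 : R) = 1 + 1 + 1 + 1 by norm_num]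
      noncomm_ring
    rw [this, e0, e1, e2, e3]; simp
  have hX : X + X * X = -1 := eq_neg_of_add_eq_zero_right (by rw [← add_assoc]; exact e0)
  rw [hX, mul_neg, mul_one, ← sub_eq_add_neg, sub_eq_zero] at hsum
  have hUS : U * S = S := by
    rw [hS, mul_add, mul_add, mul_add, mul_one, hUU, hUV, hUW]
    abel
  have h4 : (4 : R) = 1 := by rw [show (4 : R) = 3 + 1 by norm_num, h3, zero_add]
  rw [← hsum, h4, mul_one] at hUS
  exact hUS

open scoped commutatorElement in
theorem key {Q : Type*} [Group Q] [Finite Q] [Fact (Nat.Prime 2)] [Fact (Nat.Prime 3)] (h : ∀ x : Q, x ^ 6 = 1)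
    (h0 : Cfsg.pPrimeCore 3 Q = ⊥) (x : Q) (hx : x ^ 3 ∈ Cfsg.pCore 3 Q) : x ∈ Cfsg.pCore 3 Q := by
  classical
  haveI hsol : Group.IsSolvable Q := isSolvable_of_exp_six h
  set P := Cfsg.pCore 3 Q with hP
  have hPpg : IsPGroup 3 P := Cfsg.Agent.Lib.PSolvable.pCore_isPGroup
  have hCP : Subgroup.centralizer (P : Set Q) ≤ P :=
    Cfsg.Agent.Lib.PSolvable.centralizer_pCore_le_of_isPSolvable
      (Cfsg.Agent.Lib.PSolvable.isPSolvable_of_isSolvable (p := 3)) h0
  let π := QuotientGroup.mk' P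
  by_contra hxP
  have hxne : π x ≠ 1 := fun e => hxP ((QuotientGroup.eq_one_iff x).mp e)
  have hx3 : π x ^ 3 = 1 := by rw [← map_pow]; exact (QuotientGroup.eq_one_iff _).mpr hx
  -- the 2-core of the quotient
  set V := Cfsg.pCore 2 (Q ⧸ P) with hV
  have h6' : ∀ y : Q ⧸ P, y ^ 6 = 1 := fun y => by
    obtain ⟨w, rfl⟩ := QuotientGroup.mk'_surjective P y
    rw [← map_pow, h, map_one]
  have hVsq : ∀ v ∈ V, v * v = 1 := fun v hv => by
    rw [← pow_two]; exact exp_six_of_two_group h6' Cfsg.Agent.Lib.PSolvable.pCore_isPGroup hv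
  have h20 : Cfsg.pPrimeCore 2 (Q ⧸ P) = ⊥ := by
    have hN : IsPGroup 3 (Cfsg.pPrimeCore 2 (Q ⧸ P)) := by
      intro y
      refine ⟨1, Subtype.ext ?_⟩
      show (y : Q ⧸ P) ^ 3 ^ 1 = 1
      have hc : (orderOf (y : Q ⧸ P)).Coprime 2 :=
        Nat.Coprime.coprime_dvd_left (by rw [Subgroup.orderOf_coe]; exact orderOf_dvd_natCard y)
          Cfsg.Agent.Lib.PSolvable.pPrimeCore_coprime
      rw [← orderOf_dvd_iff_pow_eq_one, pow_one]
      exact hc.dvd_of_dvd_mul_left (orderOf_dvd_of_pow_eq_one (h6' _) : orderOf (y : Q ⧸ P) ∣ 2 * 3)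
    have := Cfsg.Agent.Lib.PSolvable.le_pCore (p := 3) (N := Cfsg.pPrimeCore 2 (Q ⧸ P)) hN
    rw [Cfsg.Agent.Lib.PSolvable.pCore_quotient_eq_bot] at this
    exact le_bot_iff.mp this
  have hxV : π x ∉ Subgroup.centralizer (V : Set (Q ⧸ P)) := fun hc => by
    have := Cfsg.Agent.Lib.PSolvable.centralizer_pCore_le_of_isPSolvable
      (Cfsg.Agent.Lib.PSolvable.isPSolvable_of_isSolvable (p := 2)) h20 hc
    have h2 := hVsq _ this
    refine hxne ?_
    rw [pow_succ, pow_two, h2, one_mul] at hx3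
    exact hx3
  rw [Subgroup.mem_centralizer_iff] at hxV
  push Not at hxV
  obtain ⟨v, hv, hvx⟩ := hxV
  set X := π x with hX
  let u : Q ⧸ P := v * (X * v * X⁻¹)
  have hcV : ∀ a ∈ V, ∀ b ∈ V, a * b = b * a := fun a ha b hb => by
    calc a * b = (a * b)⁻¹ := (inv_eq_of_mul_eq_one_right (hVsq _ (V.mul_mem ha hb))).symm
      _ = b * a := by rw [mul_inv_rev, inv_eq_of_mul_eq_one_right (hVsq a ha), inv_eq_of_mul_eq_one_right (hVsq b hb)]
  have hconj : ∀ a ∈ V, X * a * X⁻¹ ∈ V := fun a ha => (inferInstance : V.Normal).conj_mem a ha X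
  have huV : u ∈ V := V.mul_mem hv (hconj v hv)
  have hu1 : u ≠ 1 := fun e => hvx (by
    have h1 : v⁻¹ = X * v * X⁻¹ := inv_eq_of_mul_eq_one_right e
    rw [inv_eq_of_mul_eq_one_right (hVsq v hv)] at h1
    calc v * X = X * v * X⁻¹ * X := by rw [← h1]
      _ = X * v := by group)
  set u' := X * u * X⁻¹ with hu'
  have hu'V : u' ∈ V := hconj u huV
  -- the norm of `u` is trivial
  have hnorm : X * u' * X⁻¹ = u * u' := by
    set b := X * v * X⁻¹ with hb; set c := X * b * X⁻¹ with hc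
    have hbV : b ∈ V := hconj v hv
    have hcV' : c ∈ V := hconj b hbV
    have hca : X * c * X⁻¹ = v := by
      calc X * c * X⁻¹ = (X * (X * X)) * v * (X * (X * X))⁻¹ := by rw [hc, hb]; group
        _ = v := by rw [← pow_three, hx3]; group
    have e1 : u' = b * c := by rw [hu', hc, hb]; show X * (v * (X * v * X⁻¹)) * X⁻¹ = _; group
    rw [e1]
    calc X * (b * c) * X⁻¹ = c * (X * c * X⁻¹) := by rw [hc]; group
      _ = c * v := by rw [hca]
      _ = v * c := hcV c hcV' v hv
      _ = v * (b * b) * c := by rw [hVsq b hbV, mul_one]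
      _ = u * (b * c) := by show _ = v * b * (b * c); group
  set u'' := u * u' with hu''
  have hu''V : u'' ∈ V := V.mul_mem huV hu'V
  have hnorm2 : X * u'' * X⁻¹ = u := by
    calc X * u'' * X⁻¹ = X * u * X⁻¹ * (X * u' * X⁻¹) := by rw [hu'']; group
      _ = u' * (u * u') := by rw [hnorm]
      _ = u' * (u' * u) := by rw [hcV u huV u' hu'V]
      _ = u := by rw [← mul_assoc, hVsq u' hu'V, one_mul]
  -- the action on the Frattini quotient
  let Φ := frattini P
  let _ : CommGroup (P ⧸ Φ) :=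
    { (inferInstance : Group (P ⧸ Φ)) with
      mul_comm := fun a b => by
        induction a using QuotientGroup.induction_on with | _ a =>
        induction b using QuotientGroup.induction_on with | _ b =>
        rw [← QuotientGroup.mk_mul, ← QuotientGroup.mk_mul, QuotientGroup.eq]
        apply Cfsg.Agent.Lib.Transfer.commutator_le_frattini_of_isPGroup hPpg
        have : (a * b)⁻¹ * (b * a) = ⁅b⁻¹, a⁻¹⁆ := by rw [commutatorElement_def]; group
        rw [this]
        exact Subgroup.commutator_mem_commutator (Subgroup.mem_top _) (Subgroup.mem_top _) }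
  let R := AddMonoid.End (Additive (P ⧸ Φ))
  let act : Q → R := fun q => MonoidHom.toAdditive (QuotientGroup.map Φ Φ (MulAut.conjNormal q : P ≃* P).toMonoidHom
    (frattini_le_comap_frattini_of_surjective (MulEquiv.surjective _)))
  have hact : ∀ (q : Q) (w : P), act q (Additive.ofMul (w : P ⧸ Φ)) = Additive.ofMul ((MulAut.conjNormal q w : P) : P ⧸ Φ) :=
    fun q w => rfl
  let ρ₀ : Q →* R :=
    { toFun := act
      map_one' := by
        refine AddMonoidHom.ext fun z => ?_
        induction z using Additive.rec with | _ z =>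
        induction z using QuotientGroup.induction_on with | _ w =>
        show act 1 _ = _
        rw [hact, map_one]; rfl
      map_mul' := fun a b => by
        refine AddMonoidHom.ext fun z => ?_
        induction z using Additive.rec with | _ z =>
        induction z using QuotientGroup.induction_on with | _ w =>
        show act (a * b) _ = act a (act b _)
        rw [hact, hact, hact, map_mul]; rfl }
  have hker : P ≤ ρ₀.ker := by
    intro q hq
    rw [MonoidHom.mem_ker]
    refine AddMonoidHom.ext fun z => ?_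
    induction z using Additive.rec with | _ z =>
    induction z using QuotientGroup.induction_on with | _ w =>
    show act q _ = _
    rw [hact]
    have : (MulAut.conjNormal q w : P) = ⟨q, hq⟩ * w * ⟨q, hq⟩⁻¹ := Subtype.ext rfl
    rw [this, QuotientGroup.mk_mul, QuotientGroup.mk_mul, QuotientGroup.mk_inv, mul_comm ((⟨q, hq⟩ : P) : P ⧸ Φ),
      mul_inv_cancel_right]
    rfl
  let ρ : (Q ⧸ P) →* R := QuotientGroup.lift P ρ₀ hker
  have hcube : ∀ (q : Q) (w : P), q ^ 3 ∈ P →
      (w : Q) * (q * w * q⁻¹) * ((q * q) * w * (q * q)⁻¹) = 1 := by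
    intro q w hq
    have hall : ∀ z : Q, z ^ 3 ∈ P → z ^ 3 = 1 := by
      intro z hz
      obtain ⟨k, hk⟩ := hPpg ⟨_, hz⟩
      have h2 : (z ^ 3) ^ 3 ^ k = 1 := congrArg Subtype.val hk
      have h1 : (z ^ 3) ^ 2 = 1 := by rw [← pow_mul]; exact h z
      have := pow_gcd_eq_one.mpr ⟨h1, h2⟩
      rwa [(Nat.Coprime.pow_right k (by norm_num : Nat.Coprime 2 3)).gcd_eq_one, pow_one] at this
    have hq1 := hall q hq
    have hwq : ((w : Q) * q) ^ 3 = 1 := by
      refine hall _ ?_
      rw [← QuotientGroup.eq_one_iff, QuotientGroup.mk_pow, QuotientGroup.mk_mul,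
        (QuotientGroup.eq_one_iff (w : Q)).mpr w.2, one_mul, ← QuotientGroup.mk_pow, QuotientGroup.eq_one_iff]
      exact hq
    calc (w : Q) * (q * w * q⁻¹) * ((q * q) * w * (q * q)⁻¹) = ((w : Q) * q) ^ 3 * (q ^ 3)⁻¹ := by simp only [pow_three]; group
      _ = 1 := by rw [hwq, hq1, inv_one, mul_one]
  have hrel : ∀ y : Q ⧸ P, y ^ 3 = 1 → 1 + ρ y + ρ (y * y) = 0 := by
    intro y hy
    obtain ⟨q, rfl⟩ := QuotientGroup.mk'_surjective P y
    rw [← map_pow] at hy
    refine AddMonoidHom.ext fun z => ?_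
    induction z using Additive.rec with | _ z =>
    induction z using QuotientGroup.induction_on with | _ w =>
    show Additive.ofMul (w : P ⧸ Φ) + act q _ + ρ (π q * π q) _ = 0
    rw [← map_mul π]
    show Additive.ofMul (w : P ⧸ Φ) + act q _ + act (q * q) _ = 0
    rw [hact, hact, ← ofMul_mul, ← ofMul_mul, ← QuotientGroup.mk_mul, ← QuotientGroup.mk_mul]
    have : w * MulAut.conjNormal q w * MulAut.conjNormal (q * q) w = 1 :=
      Subtype.ext (hcube q w ((QuotientGroup.eq_one_iff _).mp hy))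
    rw [this]
    rfl
  have h3 : (3 : R) = 0 := by
    refine AddMonoidHom.ext fun z => ?_
    induction z using Additive.rec with | _ z =>
    induction z using QuotientGroup.induction_on with | _ w =>
    have h31 : w ^ 3 = 1 := by
      have hw3 : (w : Q) ^ 3 = 1 := by
        have hq := hcube 1 w (by simp)
        simpa [pow_succ] using hq
      exact Subtype.ext hw3
    show (3 : ℕ) • Additive.ofMul (w : P ⧸ Φ) = 0
    rw [← ofMul_pow, ← QuotientGroup.mk_pow, h31]
    rfl
  have hmulX : ∀ t : Q ⧸ P, ρ (t * X) = ρ t * ρ X := fun t => map_mul ρ t X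
  have hXX : ∀ t : Q ⧸ P, t * X * (t * X) = t * (X * t * X⁻¹) * (X * X) := fun t => by group
  have hcubeTX : ∀ t ∈ V, t * (X * t * X⁻¹) * (X * (X * t * X⁻¹) * X⁻¹) = 1 → (t * X) ^ 3 = 1 := by
    intro t _ ht
    calc (t * X) ^ 3 = t * (X * t * X⁻¹) * (X * (X * t * X⁻¹) * X⁻¹) * X ^ 3 := by simp only [pow_three]; group
      _ = 1 := by rw [ht, hx3, mul_one]
  have hU : ρ u = 1 := by
    refine ring_key h3 (X := ρ X) (U := ρ u) (U' := ρ u') (U'' := ρ u'') ?_ ?_ ?_ ?_ ?_ ?_ ?_
    · have := hrel X hx3; rwa [map_mul] at this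
    · have hh := hrel (u * X) (hcubeTX u huV (by rw [← hu', hnorm]; exact hVsq _ hu''V))
      rw [hXX, ← hu', ← hu'', map_mul ρ u'' (X * X), map_mul ρ X X, map_mul ρ u X] at hh
      exact hh
    · have hh := hrel (u' * X) (hcubeTX u' hu'V (by
        rw [hnorm, hnorm2, hcV u' hu'V u'' hu''V, mul_assoc, hcV u' hu'V u huV, ← hu'']
        exact hVsq _ hu''V))
      rw [hXX, hnorm, hcV u' hu'V u'' hu''V, hu'', mul_assoc u u' u', hVsq u' hu'V, mul_one,
        map_mul ρ u (X * X), map_mul ρ X X, map_mul ρ u' X] at hh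
      exact hh
    · have e : u'' * u = u' := by
        rw [hu'', hcV u huV u' hu'V, mul_assoc, hVsq u huV, mul_one]
      have hh := hrel (u'' * X) (hcubeTX u'' hu''V (by
        rw [hnorm2, ← hu', e]
        exact hVsq _ hu'V))
      rw [hXX, hnorm2, e, map_mul ρ u' (X * X), map_mul ρ X X, map_mul ρ u'' X] at hh
      exact hh
    · rw [← map_mul, hVsq u huV, map_one]
    · rw [← map_mul]
    · rw [← map_mul, hu'', ← mul_assoc, hVsq u huV, one_mul]
  -- an involution lifting `u` centralises `P`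
  obtain ⟨a, ha⟩ := QuotientGroup.mk'_surjective P u
  set b := a ^ 3 with hb
  have hbπ : π b = u := by
    show π (a ^ 3) = u
    rw [map_pow, ha, pow_succ, pow_two, hVsq u huV, one_mul]
  have hb2 : b ^ 2 = 1 := by rw [hb, ← pow_mul]; exact h a
  have hρb : ρ₀ b = 1 := by
    have : ρ (π b) = 1 := by rw [hbπ]; exact hU
    exact this
  have hbC : b ∈ Subgroup.centralizer (P : Set Q) := by
    refine Cfsg.Agent.Lib.Coprime.le_centralizer_of_frattini (A := Subgroup.zpowers b) (K := P)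
      (by rw [Subgroup.normalizer_eq_top_iff.mpr (inferInstance : P.Normal)]; exact le_top) ?_ ?_
      (Subgroup.mem_zpowers b)
    · obtain ⟨j, hj⟩ := (hPpg.to_subgroup (frattini P)).exists_card_eq
      rw [Nat.card_zpowers, hj]
      exact Nat.Coprime.coprime_dvd_left (orderOf_dvd_of_pow_eq_one hb2) (Nat.Coprime.pow_right j (by norm_num))
    · intro c hc k hk
      have hρc : ρ₀ c = 1 := by
        obtain ⟨i, rfl⟩ := hc
        have : b ∈ ρ₀.ker := MonoidHom.mem_ker.mpr hρb
        exact MonoidHom.mem_ker.mp (ρ₀.ker.zpow_mem this i)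
      have h1 := DFunLike.congr_fun hρc (Additive.ofMul ((⟨k, hk⟩ : P) : P ⧸ Φ))
      have h2 : ((MulAut.conjNormal c ⟨k, hk⟩ : P) : P ⧸ Φ) = ((⟨k, hk⟩ : P) : P ⧸ Φ) := h1
      rw [← div_eq_one, ← QuotientGroup.mk_div, QuotientGroup.eq_one_iff] at h2
      refine ⟨_, h2, ?_⟩
      simp [div_eq_mul_inv]
  exact hu1 (by rw [← hbπ]; exact (QuotientGroup.eq_one_iff b).mpr (hCP hbC))


/-- A finite group in which every element has order dividing `6` has `2`-length at most `1` and `3`-length at most `1`. -/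
theorem result {G : Type*} [Group G] [Finite G] (h : ∀ x : G, x ^ 6 = 1) : Cfsg.PLengthLE 2 1 G ∧ Cfsg.PLengthLE 3 1 G := by
  haveI : Fact (Nat.Prime 2) := ⟨Nat.prime_two⟩
  haveI : Fact (Nat.Prime 3) := ⟨Nat.prime_three⟩
  have hsol : Group.IsSolvable G := isSolvable_of_exp_six h
  refine ⟨?_, ?_⟩
  · obtain ⟨S⟩ : Nonempty (Sylow 2 G) := inferInstance
    refine Cfsg.Agent.Lib.PSolvable.pLengthLE_of_nilpotencyClass_le 1
      (Cfsg.Agent.Lib.PSolvable.isPSolvable_of_isSolvable (p := 2)) S ?_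
    haveI := S.isPGroup'.isNilpotent
    have hsq : ∀ a : (S : Subgroup G), a * a = 1 := fun a => Subtype.ext (by
      have h2 := exp_six_of_two_group h S.isPGroup' a.2
      simpa [pow_two] using h2)
    rw [← upperCentralSeries_eq_top_iff_nilpotencyClass_le, Subgroup.upperCentralSeries_one, Subgroup.eq_top_iff']
    intro a
    rw [Subgroup.mem_center_iff]
    intro b
    calc b * a = (b * a)⁻¹ := (inv_eq_of_mul_eq_one_right (hsq _)).symm
      _ = a⁻¹ * b⁻¹ := mul_inv_rev b a
      _ = a * b := by rw [inv_eq_of_mul_eq_one_right (hsq a), inv_eq_of_mul_eq_one_right (hsq b)]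
  · show (Cfsg.upperPSeries 3 G (2 * 1 + 1)).1 = ⊤
    rw [Cfsg.Agent.Lib.PSolvable.upperPSeries_succ_of_even (n := 2) (by decide)]
    rw [eq_top_iff]
    intro g _
    have hcop : (Nat.card (G ⧸ (Cfsg.upperPSeries 3 G 2).1)).Coprime 3 := by
      rw [Nat.coprime_comm, Nat.prime_three.coprime_iff_not_dvd]
      intro hd
      obtain ⟨y, hy⟩ := exists_prime_orderOf_dvd_card' 3 hd
      obtain ⟨x, rfl⟩ := QuotientGroup.mk'_surjective _ y
      have hx3 : x ^ 3 ∈ (Cfsg.upperPSeries 3 G 2).1 := by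
        rw [← QuotientGroup.eq_one_iff, QuotientGroup.mk_pow]
        have := pow_orderOf_eq_one ((QuotientGroup.mk' (Cfsg.upperPSeries 3 G 2).1) x)
        rw [hy] at this
        exact this
      have hmem : x ∈ (Cfsg.upperPSeries 3 G 2).1 := by
        rw [Cfsg.Agent.Lib.PSolvable.upperPSeries_succ_of_odd (n := 1) (by decide), Subgroup.mem_comap] at hx3 ⊢
        haveI : Group.IsSolvable G := hsol
        have h6 : ∀ z : G ⧸ (Cfsg.upperPSeries 3 G 1).1, z ^ 6 = 1 := fun z => by
          obtain ⟨w, rfl⟩ := QuotientGroup.mk'_surjective _ z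
          rw [← map_pow, h, map_one]
        have hbot := Cfsg.Agent.Lib.PSolvable.pPrimeCore_quotient_upperPSeries_eq_bot (p := 3) (G := G) (n := 0) (by decide)
        exact key h6 hbot _ (by rw [← map_pow]; exact hx3)
      rw [show (QuotientGroup.mk' (Cfsg.upperPSeries 3 G 2).1) x = 1 from (QuotientGroup.eq_one_iff x).mpr hmem,
        orderOf_one] at hy
      omega
    rw [Subgroup.mem_comap]
    exact Cfsg.Agent.Lib.PSolvable.le_pPrimeCore (N := ⊤) (by rw [Subgroup.card_top]; exact hcop) (Subgroup.mem_top _)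

end Cfsg.Agent.S4227
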