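import Cfsg.Statements.S4230
import Mathlib
-- import your own Cfsg.Agent.* helpers here

set_option autoImplicit false
open Cfsg

namespace Cfsg.Agent.S4230


/-- Let p be an odd prime, q a natural number not divisible by p, and e the multiplicative order of q modulo p. For a natural number f, p divides the value at q of the f-th cyclotomic polynomial if and only if f = e·p^j for some j ≥ 0. -/
theorem result (p q f : ℕ) (hp : p.Prime) (hp2 : p ≠ 2) (hpq : ¬ p ∣ q) :
    ((p : ℤ) ∣ (Polynomial.cyclotomic f ℤ).eval (q : ℤ)) ↔ ∃ j : ℕ, f = orderOf (q : ZMod p) * p ^ j := by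
  haveI := Fact.mk hp
  have hq0 : (q : ZMod p) ≠ 0 := by rwa [ne_eq, ZMod.natCast_eq_zero_iff] 
  set e := orderOf (q : ZMod p) with he
  have hedvd : e ∣ p - 1 := ZMod.orderOf_dvd_card_sub_one hq0
  have he0 : e ≠ 0 := by
    rintro h
    rw [h, zero_dvd_iff] at hedvd
    have := hp.two_le
    omega
  have hpe : ¬ p ∣ e := fun h => by
    have h1 := Nat.le_of_dvd (by have := hp.two_le; omega) (h.trans hedvd)
    have := hp.two_le
    omega
  have hcast : ((p : ℤ) ∣ (Polynomial.cyclotomic f ℤ).eval (q : ℤ)) ↔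
      (Polynomial.cyclotomic f (ZMod p)).IsRoot (q : ZMod p) := by
    rw [← ZMod.intCast_zmod_eq_zero_iff_dvd, Polynomial.IsRoot.def,
      ← Polynomial.map_cyclotomic_int f (ZMod p), Polynomial.eval_map,
      show (q : ZMod p) = Int.castRingHom (ZMod p) (q : ℤ) by simp, Polynomial.eval₂_at_apply]
    simp
  rw [hcast]
  rcases eq_or_ne f 0 with rfl | hf0
  · simp [he0, hp.ne_zero]
  obtain ⟨k, m, hm, rfl⟩ := Nat.exists_eq_pow_mul_and_not_dvd hf0 p hp.ne_one
  have : NeZero (m : ZMod p) := ⟨by rwa [ne_eq, ZMod.natCast_eq_zero_iff]⟩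
  rw [Polynomial.isRoot_cyclotomic_prime_pow_mul_iff_of_charP]
  constructor
  · intro h
    exact ⟨k, by rw [he, ← h.eq_orderOf, mul_comm]⟩
  · rintro ⟨j, hj⟩
    have h1 : m ∣ e := by
      refine ((hp.coprime_iff_not_dvd.mpr hm).symm.pow_right j).dvd_of_dvd_mul_right ?_
      rw [← hj]; exact dvd_mul_left m _
    have h2 : e ∣ m := by
      refine ((hp.coprime_iff_not_dvd.mpr hpe).symm.pow_right k).dvd_of_dvd_mul_left ?_
      rw [hj]; exact dvd_mul_right e _
    rw [Nat.dvd_antisymm h1 h2]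
    exact IsPrimitiveRoot.orderOf _

end Cfsg.Agent.S4230
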