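import Cfsg.Statements.S4231
import Mathlib
import Cfsg.Agent.Lib.AltAutOdd.Basic
import Cfsg.Agent.Lib.AltOrders.Basic
-- import your own Cfsg.Agent.* helpers here

set_option autoImplicit false
open Cfsg

namespace Cfsg.Agent.S4231
open Equiv

/-- In degree less than `p²` the `p`-subgroups of the symmetric group are abelian. -/
theorem commute_of_isPGroup {n p : ℕ} [hp : Fact p.Prime] (hn : n < p ^ 2) {P : Subgroup (Perm (Fin n))}
    (hP : IsPGroup p P) (a b : P) : a * b = b * a := by
  classical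
  refine Subtype.ext (Perm.ext fun x => ?_)
  set O := MulAction.orbit P x
  obtain ⟨k, hk⟩ := hP.card_orbit x
  have hk1 : k ≤ 1 := by
    have h1 : Nat.card O ≤ Nat.card (Fin n) := Finite.card_subtype_le _
    rw [Nat.card_fin, hk] at h1
    by_contra hc
    exact absurd (lt_of_le_of_lt ((Nat.pow_le_pow_right hp.out.pos (show 2 ≤ k by omega)).trans h1) hn) (lt_irrefl _)
  let f : P →* Perm O := MulAction.toPermHom P O
  obtain ⟨j, hj⟩ := (hP.of_surjective f.rangeRestrict f.rangeRestrict_surjective).exists_card_eq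
  have hd : p ^ j ∣ (p ^ k).factorial := by
    rw [← hj, ← hk, ← Nat.card_perm]
    exact f.range.card_subgroup_dvd_card
  have hj1 : j ≤ 1 := by
    by_contra hc
    have h2 : p ^ 2 ∣ p.factorial := by
      refine dvd_trans (pow_dvd_pow p (show 2 ≤ j by omega)) (hd.trans (Nat.factorial_dvd_factorial ?_))
      calc p ^ k ≤ p ^ 1 := Nat.pow_le_pow_right hp.out.pos hk1
        _ = p := pow_one p
    rw [← Nat.mul_factorial_pred hp.out.ne_zero, pow_two] at h2
    have h3 := Nat.dvd_of_mul_dvd_mul_left hp.out.pos h2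
    have := hp.out.dvd_factorial.mp h3
    have := hp.out.one_lt
    omega
  have hcyc : IsCyclic f.range := by
    rcases Nat.eq_zero_or_pos j with rfl | h
    · haveI : Subsingleton f.range := by
        rw [← Finite.card_le_one_iff_subsingleton, hj, pow_zero]
      infer_instance
    · exact isCyclic_of_prime_card (p := p) (by rw [hj, show j = 1 by omega, pow_one])
  have h1 : f a * f b = f b * f a :=
    congrArg Subtype.val (hcyc.isMulCommutative.is_comm.comm (f.rangeRestrict a) (f.rangeRestrict b))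
  rw [← map_mul, ← map_mul] at h1
  exact congrArg Subtype.val (Perm.congr_fun h1 ⟨x, MulAction.mem_orbit_self x⟩)

/-- Abelian Sylow subgroups for odd `p` with `n < p²`. -/
theorem sylow_comm {n p : ℕ} [hp : Fact p.Prime] (hn5 : 5 ≤ n) (hp2 : p ≠ 2) (hn : n < p ^ 2)
    {G : Subgroup (MulAut (alternatingGroup (Fin n)))} (P : Sylow p G) : IsMulCommutative (P : Subgroup G) := by
  classical
  set f : Perm (Fin n) →* MulAut (alternatingGroup (Fin n)) := MulAut.conjNormal
  have hf : Function.Injective f := Cfsg.Agent.Lib.AltAut.conjNormal_injective (by simp; omega)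
  set P' := ((P : Subgroup G).map G.subtype).comap f with hP'
  have hP'p : IsPGroup p P' := (P.2.map G.subtype).comap_of_injective f hf
  have hsurj : ∀ a : (P : Subgroup G), ∃ σ : P', f σ = ((a : G) : MulAut (alternatingGroup (Fin n))) := by
    intro a
    obtain ⟨k, hk⟩ := IsPGroup.iff_orderOf.mp P.2 a
    obtain ⟨σ, hσ⟩ := Cfsg.Agent.Lib.AltAutOdd.mem_range_conjNormal_of_odd (α := Fin n) (by simp; omega)
      ((a : G) : MulAut (alternatingGroup (Fin n))) (by
        rw [Subgroup.orderOf_coe, Subgroup.orderOf_coe, hk]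
        exact (hp.out.odd_of_ne_two hp2).pow)
    exact ⟨⟨σ, Subgroup.mem_comap.mpr ⟨a, a.2, hσ.symm⟩⟩, hσ⟩
  refine ⟨⟨fun a b => ?_⟩⟩
  obtain ⟨σ, hσ⟩ := hsurj a
  obtain ⟨τ, hτ⟩ := hsurj b
  apply Subtype.ext
  apply Subtype.ext
  simp only [Subgroup.coe_mul]
  rw [← hσ, ← hτ, ← map_mul, ← map_mul]
  exact congrArg (fun z : P' => f z) (commute_of_isPGroup hn hP'p σ τ)

theorem exists_order {n : ℕ} (hn5 : 5 ≤ n) {G : Subgroup (MulAut (alternatingGroup (Fin n)))}
    (hG : (MulAut.conj : alternatingGroup (Fin n) →* MulAut (alternatingGroup (Fin n))).range ≤ G)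
    (m : Multiset ℕ) (hs : m.sum ≤ n) (h2 : ∀ a ∈ m, 2 ≤ a) (hev : Even (m.sum + Multiset.card m)) :
    ∃ g : G, orderOf g = m.lcm := by
  obtain ⟨a, ha⟩ := Cfsg.Agent.Lib.AltOrders.exists_alt_order m hs h2 hev
  refine ⟨⟨MulAut.conj a, hG ⟨a, rfl⟩⟩, ?_⟩
  rw [← Subgroup.orderOf_coe, ← ha]
  refine orderOf_injective MulAut.conj ?_ a
  intro x y hxy
  refine Subtype.ext (Cfsg.Agent.Lib.AltAut.conjNormal_injective (α := Fin n) (by simp; omega) ?_)
  rw [MulAut.conjNormal_val, MulAut.conjNormal_val]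
  exact hxy

theorem exists_pq {n p q : ℕ} [hp : Fact p.Prime] [hq : Fact q.Prime] (hn5 : 5 ≤ n) (hpq : p ≠ q) (hp2 : p ≠ 2)
    (hnp : p ^ 2 ≤ n) (hnq : q = 2 ∨ q ^ 2 ≤ n) {G : Subgroup (MulAut (alternatingGroup (Fin n)))}
    (hG : (MulAut.conj : alternatingGroup (Fin n) →* MulAut (alternatingGroup (Fin n))).range ≤ G) :
    ∃ g : G, orderOf g = p * q := by
  obtain ⟨r, hr⟩ := hp.out.odd_of_ne_two hp2
  have hp3 : 3 ≤ p := by have := hp.out.two_le; omega
  by_cases hq2 : q = 2
  · subst hq2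
    have hcop : Nat.Coprime p 2 := (Nat.coprime_primes hp.out Nat.prime_two).mpr hpq
    obtain ⟨g, hg⟩ := exists_order hn5 hG {p, 2, 2} (by simp; nlinarith) (by simp; omega)
      (by simp; exact ⟨r + 4, by omega⟩)
    refine ⟨g, hg.trans ?_⟩
    simp
    exact hcop.lcm_eq_mul
  · obtain ⟨s, hs⟩ := hq.out.odd_of_ne_two hq2
    have hq3 : 3 ≤ q := by have := hq.out.two_le; omega
    have hcop : Nat.Coprime p q := (Nat.coprime_primes hp.out hq.out).mpr hpq
    have hnq' := hnq.resolve_left hq2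
    obtain ⟨g, hg⟩ := exists_order hn5 hG {p, q} (by simp; rcases le_total p q with h | h <;> nlinarith) (by simp; omega)
      (by simp; exact ⟨r + s + 2, by omega⟩)
    refine ⟨g, hg.trans ?_⟩
    simp
    exact hcop.lcm_eq_mul


/-- Let n ≥ 5 and let G be a group of automorphisms of the alternating group of degree n containing all inner automorphisms. If p ≠ q are primes and G has no element of order pq, then every Sylow p-subgroup of G is abelian or every Sylow q-subgroup of G is abelian. -/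
theorem result (n : ℕ) (hn : 5 ≤ n) (G : Subgroup (MulAut (alternatingGroup (Fin n))))
    (hG : (MulAut.conj : alternatingGroup (Fin n) →* MulAut (alternatingGroup (Fin n))).range ≤ G)
    (p q : ℕ) [Fact p.Prime] [Fact q.Prime] (hpq : p ≠ q) (h : ∀ g : G, orderOf g ≠ p * q) :
    (∀ P : Sylow p G, IsMulCommutative (P : Subgroup G)) ∨ (∀ Q : Sylow q G, IsMulCommutative (Q : Subgroup G)) := by
  by_cases hp2 : p = 2
  · refine Or.inr fun Q => ?_
    by_cases hnq : n < q ^ 2
    · exact sylow_comm hn (fun h2 => hpq (hp2.trans h2.symm)) hnq Q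
    · obtain ⟨g, hg⟩ := exists_pq (p := q) (q := p) hn hpq.symm (fun h2 => hpq (hp2.trans h2.symm)) (by omega) (Or.inl hp2) hG
      exact absurd (hg.trans (mul_comm q p)) (h g)
  by_cases hnp : n < p ^ 2
  · exact Or.inl fun P => sylow_comm hn hp2 hnp P
  refine Or.inr fun Q => ?_
  by_cases hq2 : q = 2
  · obtain ⟨g, hg⟩ := exists_pq (p := p) (q := q) hn hpq hp2 (by omega) (Or.inl hq2) hG
    exact absurd hg (h g)
  by_cases hnq : n < q ^ 2
  · exact sylow_comm hn hq2 hnq Q
  · obtain ⟨g, hg⟩ := exists_pq (p := p) (q := q) hn hpq hp2 (by omega) (Or.inr (by omega)) hG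
    exact absurd hg (h g)

end Cfsg.Agent.S4231
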