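import Cfsg.Statements.S4234
import Mathlib
import Cfsg.Agent.Lib.PSLThirteen.Basic
-- import your own Cfsg.Agent.* helpers here

set_option autoImplicit false
open Cfsg

namespace Cfsg.Agent.S4234
open Subgroup Cfsg.Agent.Lib.SL2

instance : Fact (Nat.Prime 13) := ⟨by norm_num⟩

theorem psl_good {H : Subgroup (Matrix.ProjectiveSpecialLinearGroup (Fin 2) (ZMod 13))} (h1 : H ≠ ⊥) (h2 : H ≠ ⊤) :
    IsCoatom (normalizer (H : Set (Matrix.ProjectiveSpecialLinearGroup (Fin 2) (ZMod 13)))) := by
  haveI : IsSimpleGroup (Matrix.ProjectiveSpecialLinearGroup (Fin 2) (ZMod 13)) :=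
    Matrix.ProjectiveSpecialLinearGroup.rank_two_simple (by rw [Nat.card_zmod]; norm_num)
  have hc : Nat.card (Matrix.ProjectiveSpecialLinearGroup (Fin 2) (ZMod 13)) = 1092 := by
    rw [Cfsg.Agent.Lib.SL2.card_PSL, ZMod.card]
    norm_num
  let a : (ZMod 13)ˣ := ⟨2, 7, by decide, by decide⟩
  refine Cfsg.Agent.Lib.PSLThirteen.isCoatom_normalizer hc
    (QuotientGroup.mk' (center (SLtwo (ZMod 13))) (diag a)) ?_ h1 h2
  have hdiag : ∀ k, (diag a) ^ k = diag (a ^ k) := fun k => (map_pow diagHom a k).symm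
  have hnot : ∀ k, k = 2 ∨ k = 3 → (QuotientGroup.mk' (center (SLtwo (ZMod 13))) (diag a)) ^ k ≠ 1 := by
    intro k hk h
    rw [← map_pow, hdiag, QuotientGroup.mk'_apply, QuotientGroup.eq_one_iff, mem_center_iff_entries] at h
    obtain ⟨-, -, h⟩ := h
    simp only [diag_00, diag_11] at h
    rcases hk with rfl | rfl <;> exact absurd h (by decide)
  have h6 : (QuotientGroup.mk' (center (SLtwo (ZMod 13))) (diag a)) ^ 6 = 1 := by
    rw [← map_pow, hdiag, QuotientGroup.mk'_apply, QuotientGroup.eq_one_iff, mem_center_iff_entries]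
    refine ⟨rfl, rfl, ?_⟩
    simp only [diag_00, diag_11]
    decide
  set g := QuotientGroup.mk' (center (SLtwo (ZMod 13))) (diag a) with hg
  have hd : orderOf g ∣ 6 := orderOf_dvd_of_pow_eq_one h6
  have hle := Nat.le_of_dvd (by norm_num) hd
  have hne : ∀ k, k ∣ 2 ∨ k ∣ 3 → orderOf g ≠ k := by
    rintro k (hk | hk) rfl
    · exact hnot 2 (Or.inl rfl) (orderOf_dvd_iff_pow_eq_one.mp hk)
    · exact hnot 3 (Or.inr rfl) (orderOf_dvd_iff_pow_eq_one.mp hk)
  have := orderOf_pos g
  interval_cases orderOf g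
  all_goals first
    | rfl
    | (revert hd; decide)
    | exact absurd rfl (hne _ (by decide))

theorem psl_nonnormal (H : Subgroup (Matrix.ProjectiveSpecialLinearGroup (Fin 2) (ZMod 13))) (hH : ¬ H.Normal) :
    IsCoatom (normalizer (H : Set (Matrix.ProjectiveSpecialLinearGroup (Fin 2) (ZMod 13)))) :=
  psl_good (fun h => hH (h ▸ inferInstance)) (fun h => hH (h ▸ inferInstance))

theorem isCoatom_comap_surj {A B : Type*} [Group A] [Group B] {f : A →* B} (hf : Function.Surjective f)
    {M : Subgroup B} (hM : IsCoatom M) : IsCoatom (M.comap f) := by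
  refine ⟨fun h => hM.1 ?_, fun L hL => ?_⟩
  · rw [← map_comap_eq_self_of_surjective hf M, h, map_top_of_surjective f hf]
  · have hker : f.ker ≤ L := le_trans (comap_mono bot_le) hL.le
    rw [← comap_map_eq_self hker, hM.2 (L.map f) ?_, comap_top]
    rw [← map_comap_eq_self_of_surjective hf M]
    refine lt_of_le_of_ne (map_mono hL.le) fun h => hL.ne ?_
    rw [← comap_map_eq_self hker, ← h, map_comap_eq_self_of_surjective hf M]

theorem sl_nonnormal (H : Subgroup (SLtwo (ZMod 13))) (hH : ¬ H.Normal) :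
    IsCoatom (normalizer (H : Set (SLtwo (ZMod 13)))) := by
  set q : SLtwo (ZMod 13) →* Matrix.ProjectiveSpecialLinearGroup (Fin 2) (ZMod 13) :=
    QuotientGroup.mk' (center (SLtwo (ZMod 13))) with hq
  have hs : Function.Surjective q := QuotientGroup.mk'_surjective _
  have h2 : (2 : ZMod 13) ≠ 0 := by decide
  have hker : ∀ z, q z = 1 → z = 1 ∨ z = -1 := fun z hz =>
    (mem_center_iff_eq z).mp ((QuotientGroup.eq_one_iff z).mp hz)
  by_cases hneg : (-1 : SLtwo (ZMod 13)) ∈ H
  · have hle : q.ker ≤ H := fun z hz => by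
      rcases hker z hz with rfl | rfl
      exacts [one_mem H, hneg]
    have e : H = (H.map q).comap q := (comap_map_eq_self hle).symm
    have hn : ¬ (H.map q).Normal := fun h => hH (e ▸ h.comap q)
    have hN : (normalizer ((H.map q : Subgroup _) : Set _)).comap q = normalizer (H : Set (SLtwo (ZMod 13))) := by
      conv_rhs => rw [e]
      exact comap_normalizer_eq_of_surjective _ hs
    rw [← hN]
    exact isCoatom_comap_surj hs (psl_nonnormal _ hn)
  · -- `H` has odd order
    have hodd : Odd (Nat.card H) := by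
      rw [← Nat.not_even_iff_odd, even_iff_two_dvd]
      intro hd
      haveI : Fact (Nat.Prime 2) := ⟨Nat.prime_two⟩
      obtain ⟨⟨x, hx⟩, hxo⟩ := exists_prime_orderOf_dvd_card' (G := H) 2 hd
      rw [Subgroup.orderOf_mk] at hxo
      have hx2 : x * x = 1 := by
        have := pow_orderOf_eq_one x
        rwa [hxo, pow_two] at this
      have hx1 : x ≠ 1 := fun h => by simp [h] at hxo
      exact hneg (eq_neg_one_of_mul_self_eq_one h2 hx2 hx1 ▸ hx)
    have hb : H.map q ≠ ⊥ := by
      intro hb
      refine hH ?_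
      have : H = ⊥ := by
        rw [eq_bot_iff_forall]
        intro x hx
        rcases hker x (by simpa using (eq_bot_iff_forall _).mp hb (q x) (mem_map_of_mem q hx)) with h | h
        · exact h
        · exact absurd (h ▸ hx) hneg
      rw [this]; infer_instance
    have ht : H.map q ≠ ⊤ := by
      intro ht
      have hd := Subgroup.card_map_dvd H q
      rw [ht, Subgroup.card_top, Cfsg.Agent.Lib.SL2.card_PSL, ZMod.card] at hd
      have h3 := hodd.of_dvd_nat hd
      revert h3
      norm_num
    have hN : (normalizer ((H.map q : Subgroup _) : Set _)).comap q = normalizer (H : Set (SLtwo (ZMod 13))) := by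
      refine le_antisymm ?_ ?_
      · intro g hg
        rw [mem_comap, mem_normalizer_iff] at hg
        have key : ∀ u : SLtwo (ZMod 13), ∀ h ∈ H, q u * q h * (q u)⁻¹ ∈ H.map q → u * h * u⁻¹ ∈ H := by
          intro u h hh hm
          obtain ⟨h', hh', he⟩ := hm
          rw [← map_inv, ← map_mul, ← map_mul] at he
          rcases hker (h'⁻¹ * (u * h * u⁻¹)) (by rw [map_mul, map_inv, he, inv_mul_cancel]) with e | e
          · rw [inv_mul_eq_one] at e; exact e ▸ hh'
          · exfalso
            have e' : u * h * u⁻¹ = h' * -1 := by rw [← e, mul_inv_cancel_left]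
            have ho : ∀ y ∈ H, y ^ Nat.card H = 1 := fun y hy => orderOf_dvd_iff_pow_eq_one.mp (H.orderOf_dvd_natCard hy)
            have h1 : (u * h * u⁻¹) ^ Nat.card H = 1 := by rw [conj_pow, ho h hh, mul_one, mul_inv_cancel]
            have hcomm : Commute h' (-1 : SLtwo (ZMod 13)) := mem_center_iff.mp neg_one_mem_center h'
            obtain ⟨k, hk⟩ := hodd
            have hm1 : ((-1 : SLtwo (ZMod 13)) ^ 2) = 1 := by rw [neg_one_sq]
            rw [e', hcomm.mul_pow, ho h' hh', one_mul, hk, pow_succ, pow_mul, hm1, one_pow, one_mul] at h1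
            exact neg_one_ne_one h2 h1
        rw [mem_normalizer_iff]
        intro h
        refine ⟨fun hh => key g h hh ((hg (q h)).mp (mem_map_of_mem q hh)), fun hh => ?_⟩
        have h3 := key g⁻¹ _ hh (by
          rw [map_mul, map_mul, map_inv]
          have h5 := (hg (q h)).mpr (by rw [← map_inv, ← map_mul, ← map_mul]; exact mem_map_of_mem q hh)
          rw [show (q g)⁻¹ * (q g * q h * (q g)⁻¹) * (q g)⁻¹⁻¹ = q h by group]
          exact h5)
        simpa [mul_assoc] using h3
      · exact map_le_iff_le_comap.mp (le_normalizer_map q)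
    rw [← hN]
    exact isCoatom_comap_surj hs (psl_good hb ht)

theorem transport {A B : Type*} [Group A] [Group B] (e : A ≃* B)
    (h : ∀ H : Subgroup B, ¬ H.Normal → IsCoatom (normalizer (H : Set B))) (H : Subgroup A) (hH : ¬ H.Normal) :
    IsCoatom (normalizer (H : Set A)) := by
  have hcm : (H.map e.toMonoidHom).comap e.toMonoidHom = H := comap_map_eq_self_of_injective e.injective H
  have hn : ¬ (H.map e.toMonoidHom).Normal := fun hn => hH (hcm ▸ hn.comap e.toMonoidHom)
  have h1 := isCoatom_comap_surj (f := e.toMonoidHom) e.surjective (h _ hn)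
  rwa [comap_normalizer_eq_of_surjective (f := e.toMonoidHom) _ e.surjective, hcm] at h1


/-- Let K be isomorphic to PSL(2, 13) or to SL(2, 13) and let S be a finite abelian group of order coprime to the order of K. Then in the direct product K × S every subgroup that is not normal has a normalizer that is a maximal subgroup. -/
theorem result {K S : Type*} [Group K] [CommGroup S] [Finite K] [Finite S]
    (hK : Nonempty (K ≃* Matrix.ProjectiveSpecialLinearGroup (Fin 2) (ZMod 13)) ∨
      Nonempty (K ≃* Matrix.SpecialLinearGroup (Fin 2) (ZMod 13)))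
    (hKS : (Nat.card K).Coprime (Nat.card S)) (H : Subgroup (K × S)) (hH : ¬ H.Normal) :
    IsCoatom (Subgroup.normalizer (H : Set (K × S))) := by
  have hK' : ∀ L : Subgroup K, ¬ L.Normal → IsCoatom (Subgroup.normalizer (L : Set K)) := by
    rcases hK with ⟨⟨e⟩⟩ | ⟨⟨e⟩⟩
    · exact transport e psl_nonnormal
    · exact transport e sl_nonnormal
  -- both projections of an element of `H` lie in `H`
  have hsplit : ∀ k : K, ∀ s : S, (k, s) ∈ H → (k, 1) ∈ H ∧ (1, s) ∈ H := by
    intro k s hks
    obtain ⟨u, v, huv⟩ : IsCoprime (Nat.card K : ℤ) (Nat.card S : ℤ) := Nat.isCoprime_iff_coprime.mpr hKS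
    have hk : k ^ (Nat.card K : ℤ) = 1 := by rw [zpow_natCast]; exact pow_card_eq_one'
    have hs : s ^ (Nat.card S : ℤ) = 1 := by rw [zpow_natCast]; exact pow_card_eq_one'
    have h1 : ((k, s) : K × S) ^ (v * (Nat.card S : ℤ)) = (k, 1) := by
      refine Prod.ext ?_ ?_
      · show k ^ (v * (Nat.card S : ℤ)) = k
        calc k ^ (v * (Nat.card S : ℤ)) = k ^ ((1 : ℤ) - (Nat.card K : ℤ) * u) := by congr 1; linarith
          _ = k := by rw [zpow_sub, zpow_one, zpow_mul, hk, one_zpow, inv_one, mul_one]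
      · show s ^ (v * (Nat.card S : ℤ)) = 1
        rw [mul_comm, zpow_mul, hs, one_zpow]
    have h2 : (k, 1) ∈ H := h1 ▸ H.zpow_mem hks _
    exact ⟨h2, by simpa using H.mul_mem (H.inv_mem h2) hks⟩
  set L : Subgroup K := H.comap (MonoidHom.inl K S) with hL
  have hconj : ∀ (g : K × S) (k : K) (s : S), g * (k, s) * g⁻¹ = (g.1 * k * g.1⁻¹, s) := fun g k s =>
    Prod.ext rfl (show g.2 * s * g.2⁻¹ = s by rw [mul_comm g.2 s, mul_inv_cancel_right])
  have hLn : ¬ L.Normal := by
    intro hn
    refine hH ⟨fun x hx g => ?_⟩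
    obtain ⟨h1, h2⟩ := hsplit x.1 x.2 hx
    rw [show g * x * g⁻¹ = (g.1 * x.1 * g.1⁻¹, x.2) from hconj g x.1 x.2]
    simpa using H.mul_mem (hn.conj_mem x.1 h1 g.1 : (g.1 * x.1 * g.1⁻¹, (1 : S)) ∈ H) h2
  have hN : Subgroup.normalizer (H : Set (K × S)) = (Subgroup.normalizer (L : Set K)).comap (MonoidHom.fst K S) := by
    ext g
    rw [Subgroup.mem_comap, Subgroup.mem_normalizer_iff, Subgroup.mem_normalizer_iff]
    constructor
    · intro h k
      show (k, (1 : S)) ∈ H ↔ (g.1 * k * g.1⁻¹, (1 : S)) ∈ H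
      rw [h (k, 1), hconj]
    · intro h x
      obtain ⟨k, s⟩ := x
      rw [hconj]
      constructor
      · intro hx
        obtain ⟨h1, h2⟩ := hsplit k s hx
        simpa using H.mul_mem ((h k).mp h1) h2
      · intro hx
        obtain ⟨h1, h2⟩ := hsplit _ s hx
        simpa using H.mul_mem ((h k).mpr h1) h2
  rw [hN]
  exact isCoatom_comap_surj Prod.fst_surjective (hK' L hLn)

end Cfsg.Agent.S4234
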