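import Cfsg.Statements.S4236
import Mathlib
import Cfsg.Agent.Lib.SylowNumber.Factor
import Cfsg.Agent.Lib.SylowNumber.Small
import Cfsg.Agent.Lib.SmallGroups.PrimeSylow
import Cfsg.Agent.Lib.Transfer.SmallSylow
-- import your own Cfsg.Agent.* helpers here

set_option autoImplicit false
open Cfsg

namespace Cfsg.Agent.S4236

universe u

open MulAction

theorem no_simple (S : Type u) [Group S] [Finite S] [IsSimpleGroup S] [Fact (Nat.Prime 17)]
    (hnc : ¬ IsMulCommutative S) : Nat.card (Sylow 17 S) = 35 → False := by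
  classical
  intro h35
  haveI := Fintype.ofFinite (Sylow 17 S)
  have hncomm : ∃ x y : S, x * y ≠ y * x := by
    by_contra h
    push Not at h
    exact hnc ⟨⟨h⟩⟩
  have hdvd : 17 ∣ Nat.card S := by
    by_contra hd
    have hbot : ∀ P : Sylow 17 S, (P : Subgroup S) = ⊥ := fun P => by
      obtain ⟨k, hk⟩ := P.2.exists_card_eq
      refine Subgroup.eq_bot_of_card_eq _ ?_
      rcases Nat.eq_zero_or_pos k with rfl | hk0
      · simpa using hk
      · exact absurd ((dvd_pow_self 17 hk0.ne').trans (hk ▸ Subgroup.card_subgroup_dvd_card _)) hd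
    haveI : Subsingleton (Sylow 17 S) := ⟨fun P Q => Sylow.ext ((hbot P).trans (hbot Q).symm)⟩
    rw [Nat.card_of_subsingleton (default : Sylow 17 S)] at h35
    omega
  obtain ⟨P⟩ : Nonempty (Sylow 17 S) := inferInstance
  have hP : Nat.card (P : Subgroup S) = 17 :=
    Cfsg.Agent.Lib.SylowNumber.card_sylow_eq_prime_of_lt_sq hnc hdvd (by rw [h35]; norm_num) P
  -- the conjugation action is faithful and even
  let f : S →* Equiv.Perm (Sylow 17 S) := MulAction.toPermHom S (Sylow 17 S)
  have hinj : Function.Injective f := by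
    rw [← MonoidHom.ker_eq_bot_iff]
    refine (f.normal_ker.eq_bot_or_eq_top).resolve_right fun ht => ?_
    obtain ⟨Q, hQ⟩ := Fintype.exists_ne_of_one_lt_card (α := Sylow 17 S) (by
      rw [← Nat.card_eq_fintype_card, h35]; norm_num) P
    obtain ⟨g, hg⟩ := MulAction.exists_smul_eq S P Q
    have : f g = 1 := MonoidHom.mem_ker.mp (ht ▸ Subgroup.mem_top g)
    exact hQ (hg.symm.trans (Equiv.ext_iff.mp this P))
  have hsign : ∀ g : S, Equiv.Perm.sign (f g) = 1 := by
    intro g
    let σ : S →* ℤˣ := Equiv.Perm.sign.comp f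
    rcases σ.normal_ker.eq_bot_or_eq_top with hb | ht
    · obtain ⟨x, y, hxy⟩ := hncomm
      exact absurd (MonoidHom.ker_eq_bot_iff σ |>.mp hb (by rw [map_mul, map_mul, mul_comm])) hxy
    · exact MonoidHom.mem_ker.mp (show g ∈ σ.ker from ht ▸ Subgroup.mem_top g)
  -- fixed points of `P` and its orbits
  have hfixP : ∀ Q : Sylow 17 S, (∀ u ∈ (P : Subgroup S), u • Q = Q) → Q = P := by
    intro Q hQ
    refine Sylow.ext ?_
    have h1 : (P : Subgroup S) ⊓ Subgroup.normalizer ((Q : Subgroup S) : Set S) = (P : Subgroup S) :=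
      inf_eq_left.mpr fun u hu => Sylow.smul_eq_iff_mem_normalizer.mp (hQ u hu)
    have h2 := P.2.inf_normalizer_sylow Q
    simp only [Sylow.coe_coe] at h1 h2
    rw [h1] at h2
    exact (Subgroup.eq_of_le_of_card_ge (inf_eq_left.mp h2.symm)
      (by rw [P.card_eq_multiplicity, Q.card_eq_multiplicity])).symm
  have horb : ∀ a : Sylow 17 S, a ≠ P → Nat.card (orbit (P : Subgroup S) a) = 17 := by
    intro a ha
    have hdv : Nat.card (orbit (P : Subgroup S) a) ∣ 17 := by
      rw [Nat.card_coe_set_eq, ← MulAction.index_stabilizer]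
      exact (Subgroup.index_dvd_card _).trans (dvd_of_eq hP)
    rcases (Nat.dvd_prime (by norm_num)).mp hdv with h | h
    · exfalso
      obtain ⟨hsub, -⟩ := Nat.card_eq_one_iff_unique.mp h
      refine ha (hfixP a fun u hu => ?_)
      have := @Subsingleton.elim _ hsub ⟨(⟨u, hu⟩ : (P : Subgroup S)) • a, mem_orbit _ _⟩ ⟨a, mem_orbit_self _⟩
      exact congrArg Subtype.val this
    · exact h
  have hPnot : ∀ a : Sylow 17 S, a ≠ P → P ∉ orbit (P : Subgroup S) a := by
    intro a ha h
    obtain ⟨u, hu⟩ := h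
    have hPu : ((u : (P : Subgroup S)) : S) • P = P := Sylow.smul_eq_iff_mem_normalizer.mpr (Subgroup.le_normalizer u.2)
    have : (u : S) • a = (u : S) • P := by rw [hPu]; exact hu
    exact ha (smul_left_cancel _ this)
  have htwo : ∀ a b x : Sylow 17 S, a ≠ P → b ≠ P → x ≠ P → b ∉ orbit (P : Subgroup S) a →
      x ∈ orbit (P : Subgroup S) a ∨ x ∈ orbit (P : Subgroup S) b := by
    intro a b x ha hb hx hab
    by_contra hcon
    push Not at hcon
    have hd : ∀ {s t : Sylow 17 S}, t ∉ orbit (P : Subgroup S) s →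
        Disjoint (orbit (P : Subgroup S) s) (orbit (P : Subgroup S) t) := by
      intro s t hst
      rw [Set.disjoint_left]
      intro z hzs hzt
      exact hst (orbit_eq_iff.mp ((orbit_eq_iff.mpr hzt).symm.trans (orbit_eq_iff.mpr hzs)))
    have h3 : Disjoint (orbit (P : Subgroup S) a ∪ orbit (P : Subgroup S) b) (orbit (P : Subgroup S) x) :=
      Disjoint.union_left (hd hcon.1) (hd hcon.2)
    have hP' : P ∉ orbit (P : Subgroup S) a ∪ orbit (P : Subgroup S) b ∪ orbit (P : Subgroup S) x := by
      simp only [Set.mem_union]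
      rintro ((h | h) | h) <;> exact hPnot _ (by assumption) h
    have hle := Set.ncard_le_ncard (Set.subset_univ
      (insert P (orbit (P : Subgroup S) a ∪ orbit (P : Subgroup S) b ∪ orbit (P : Subgroup S) x)))
    rw [Set.ncard_univ, h35, Set.ncard_insert_of_notMem hP', Set.ncard_union_eq h3,
      Set.ncard_union_eq (hd hab), ← Nat.card_coe_set_eq, ← Nat.card_coe_set_eq, ← Nat.card_coe_set_eq,
      horb a ha, horb b hb, horb x hx] at hle
    omega
  -- the centralizer of `P` is `P`
  set C := Subgroup.centralizer ((P : Subgroup S) : Set S) with hC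
  have hPC : (P : Subgroup S) ≤ C := Cfsg.Agent.Lib.SmallGroups.le_centralizer_of_prime hP
  have hnoq : ∀ q : ℕ, q.Prime → q ≠ 17 → ∀ c ∈ C, orderOf c ≠ q := by
    intro q hq hq17 c hcC hord
    have hcne : c ≠ 1 := fun h => hq.ne_one (by rw [← hord, h, orderOf_one])
    have hcomm : ∀ (v : S), v ∈ (P : Subgroup S) → ∀ z : Sylow 17 S, c • v • z = v • c • z := by
      intro v hv z
      rw [← mul_smul, ← mul_smul]
      rw [(Subgroup.mem_centralizer_iff.mp hcC v hv).symm]
    have hcP : c • P = P := Sylow.smul_eq_iff_mem_normalizer.mpr (Subgroup.centralizer_le_normalizer _ hcC)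
    have hcne' : ∀ a, a ≠ P → c • a ≠ P := fun a ha h => ha (smul_left_cancel c (h.trans hcP.symm))
    have hqfix : ∀ (d : S), d ^ q = 1 → d ∈ C → ∀ a : Sylow 17 S, d • a ∈ orbit (P : Subgroup S) a → d • a = a := by
      intro d hd hdC a ha
      obtain ⟨u, hu⟩ := ha
      have hu' : d • a = (u : S) • a := hu.symm
      have hdu : Commute d (u : S) := (Subgroup.mem_centralizer_iff.mp hdC (u : S) u.2).symm
      have key : ∀ k : ℕ, d ^ k • a = (u : S) ^ k • a := by
        intro k
        induction k with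
        | zero => simp
        | succ k ih =>
          rw [pow_succ', mul_smul, ih, ← mul_smul, (hdu.pow_right k).eq, mul_smul, hu', ← mul_smul, ← pow_succ]
      have h17 : d ^ 17 • a = a := by
        rw [key, show (u : S) ^ 17 = 1 by
          have := congrArg Subtype.val (pow_card_eq_one' (x := u))
          rw [hP] at this
          simpa using this, one_smul]
      have hd1 : d ∈ MulAction.stabilizer S a := by
        have hmem17 : d ^ 17 ∈ MulAction.stabilizer S a := h17
        have hmemq : d ^ q ∈ MulAction.stabilizer S a := by rw [hd]; exact one_mem _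
        have hg : (17 : ℕ).gcd q = 1 := (Nat.coprime_primes (by norm_num) hq).mpr (Ne.symm hq17)
        have hb : d ^ (((17 : ℕ).gcd q : ℕ) : ℤ) ∈ MulAction.stabilizer S a := by
          rw [Nat.gcd_eq_gcd_ab, zpow_add, zpow_mul, zpow_mul, zpow_natCast, zpow_natCast]
          exact mul_mem (zpow_mem hmem17 _) (zpow_mem hmemq _)
        rw [hg] at hb
        simpa using hb
      exact hd1
    have hcq : c ^ q = 1 := by rw [← hord]; exact pow_orderOf_eq_one c
    have hsq : ∀ a : Sylow 17 S, a ≠ P → c • c • a = a := by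
      intro a ha
      by_cases h1 : c • a ∈ orbit (P : Subgroup S) a
      · rw [hqfix c hcq hcC a h1, hqfix c hcq hcC a h1]
      · rcases htwo a (c • a) (c • c • a) ha (hcne' a ha) (hcne' _ (hcne' a ha)) h1 with h | h
        · rw [← mul_smul] at h ⊢
          exact hqfix (c * c) (by rw [← pow_two, ← pow_mul, mul_comm, pow_mul, hcq, one_pow]) (mul_mem hcC hcC) a h
        · exfalso
          obtain ⟨u, hu⟩ := h
          refine h1 ⟨u, smul_left_cancel c ?_⟩
          show c • ((u : S) • a) = c • c • a
          rw [hcomm _ u.2]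
          exact hu
    have hc2 : c ^ 2 = 1 := hinj (by
      rw [map_one]
      refine Equiv.ext fun a => ?_
      show (c ^ 2) • a = a
      rw [pow_two, mul_smul]
      rcases eq_or_ne a P with rfl | ha
      · rw [hcP, hcP]
      · exact hsq a ha)
    have hnofix : ∀ a : Sylow 17 S, a ≠ P → c • a ≠ a := by
      intro a ha hfix
      apply hcne
      refine hinj ?_
      rw [map_one]
      refine Equiv.ext fun z => ?_
      show c • z = z
      rcases eq_or_ne z P with rfl | hz
      · exact hcP
      have horba : ∀ w ∈ orbit (P : Subgroup S) a, c • w = w := by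
        rintro _ ⟨u, rfl⟩
        show c • ((u : S) • a) = (u : S) • a
        rw [hcomm _ u.2, hfix]
      by_cases hza : z ∈ orbit (P : Subgroup S) a
      · exact horba z hza
      rcases htwo a z (c • z) ha hz (hcne' z hz) hza with h | h
      · exfalso
        have h2 := horba _ h
        rw [hsq z hz] at h2
        exact hza (h2 ▸ h)
      · exact hqfix c hcq hcC z h
    have hsupp : (f c).support = Finset.univ.erase P := by
      ext z
      simp only [Equiv.Perm.mem_support, Finset.mem_erase, Finset.mem_univ, and_true]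
      show c • z ≠ z ↔ z ≠ P
      exact ⟨fun h hz => h (hz ▸ hcP), hnofix z⟩
    have hcard : (f c).support.card = 34 := by
      rw [hsupp, Finset.card_erase_of_mem (Finset.mem_univ _), Finset.card_univ, ← Nat.card_eq_fintype_card, h35]
    have htwos : ∀ m ∈ (f c).cycleType, m = 2 := by
      intro m hm
      have h1 := Equiv.Perm.dvd_of_mem_cycleType hm
      have h2 := Equiv.Perm.two_le_of_mem_cycleType hm
      have h3 : orderOf (f c) ∣ 2 := orderOf_dvd_of_pow_eq_one (by rw [← map_pow, hc2, map_one])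
      have := Nat.le_of_dvd (by norm_num) (h1.trans h3)
      omega
    have hs := hsign c
    rw [Equiv.Perm.sign_of_cycleType, Equiv.Perm.sum_cycleType, hcard] at hs
    have hsum := Equiv.Perm.sum_cycleType (f c)
    rw [hcard, Multiset.eq_replicate_card.mpr htwos, Multiset.sum_replicate, smul_eq_mul] at hsum
    rw [show (f c).cycleType.card = 17 by omega] at hs
    exact absurd hs (by decide)
  have hCP : C = (P : Subgroup S) := by
    refine (P.3 ?_ hPC)
    intro c
    refine ⟨1, Subtype.ext ?_⟩
    show (c : S) ^ 17 ^ 1 = 1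
    rw [pow_one, ← orderOf_dvd_iff_pow_eq_one]
    have key : ∀ q : ℕ, q.Prime → q ∣ orderOf (c : S) → q = 17 := by
      intro q hq hd
      by_contra hne
      obtain ⟨j, hj⟩ := hd
      refine hnoq q hq hne ((c : S) ^ j) (pow_mem c.2 j) ?_
      rw [orderOf_pow_of_dvd (fun h0 => (orderOf_pos (c : S)).ne' (by rw [hj, h0, mul_zero])) (Dvd.intro_left q hj.symm), hj,
        Nat.mul_div_cancel _ (Nat.pos_of_ne_zero (fun h0 => (orderOf_pos (c : S)).ne' (by rw [hj, h0, mul_zero])))]
    obtain ⟨k, hk⟩ : ∃ k, orderOf (c : S) = 17 ^ k :=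
      ⟨_, Nat.eq_prime_pow_of_unique_prime_dvd (orderOf_pos (c : S)).ne' (fun {d} hd hdd => key d hd hdd)⟩
    rw [hk]
    rcases Nat.lt_or_ge k 2 with hk2 | hk2
    · interval_cases k <;> norm_num
    · exfalso
      have h1 : 17 ^ 2 ∣ Nat.card S := (pow_dvd_pow 17 hk2).trans (hk ▸ orderOf_dvd_natCard _)
      have h2 := (Nat.Prime.pow_dvd_iff_le_factorization (by norm_num : Nat.Prime 17) Nat.card_pos.ne').mp h1
      have h3 := P.card_eq_multiplicity
      rw [hP] at h3
      have : (Nat.card S).factorization 17 = 1 :=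
        ((Nat.pow_right_injective (by norm_num : 2 ≤ 17)) (by simpa using h3)).symm
      omega
  -- the Sylow `2`-subgroup is cyclic
  obtain ⟨e, he16, he1, -, hNcard⟩ := Cfsg.Agent.Lib.SmallGroups.exists_card_normalizer_eq_of_simple hnc P hP
  set N := Subgroup.normalizer ((P : Subgroup S) : Set S) with hN
  rw [show Subgroup.centralizer ((P : Subgroup S) : Set S) = (P : Subgroup S) from hCP, hP] at hNcard
  have hcardS : Nat.card S = e * 17 * 35 := by
    rw [← N.card_mul_index, hNcard, ← Cfsg.Agent.Lib.SylowNumber.card_sylow_eq_index P, h35]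
  obtain ⟨j, hj4, hj⟩ := (Nat.dvd_prime_pow Nat.prime_two).mp (show e ∣ 2 ^ 4 by simpa using he16)
  obtain ⟨T⟩ : Nonempty (Sylow 2 N) := inferInstance
  set T' : Subgroup S := (T : Subgroup N).map N.subtype with hT'
  have hT'card : Nat.card T' = e := by
    rw [hT', Subgroup.card_map_of_injective N.subtype_injective, T.card_eq_multiplicity, hNcard, hj,
      Nat.factorization_mul_apply_of_coprime (Nat.Coprime.pow_left _ (by norm_num)),
      Nat.prime_two.factorization_pow, Nat.factorization_eq_zero_of_not_dvd (by norm_num : ¬ 2 ∣ 17)]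
    simp
  have hfac : (Nat.card S).factorization 2 = j := by
    rw [hcardS, hj, mul_assoc, Nat.factorization_mul_apply_of_coprime (Nat.Coprime.pow_left _ (by norm_num)),
      Nat.prime_two.factorization_pow, Nat.factorization_eq_zero_of_not_dvd (by norm_num : ¬ 2 ∣ 17 * 35)]
    simp
  let T2 : Sylow 2 S := Sylow.ofCard T' (by rw [hT'card, hj, hfac])
  haveI : IsCyclic (P : Subgroup S) := isCyclic_of_prime_card hP
  haveI : IsCyclic (T : Subgroup N) := by
    haveI : Fact (Nat.Prime (Nat.card (P : Subgroup S))) := ⟨by rw [hP]; norm_num⟩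
    haveI : IsCyclic (MulAut (P : Subgroup S)) :=
      isCyclic_of_injective (IsCyclic.mulAutMulEquiv (P : Subgroup S)).toMonoidHom (MulEquiv.injective _)
    refine isCyclic_of_injective (((P : Subgroup S).normalizerMonoidHom).comp (T : Subgroup N).subtype) ?_
    rw [← MonoidHom.ker_eq_bot_iff, eq_bot_iff]
    intro t ht
    rw [MonoidHom.mem_ker, MonoidHom.comp_apply, ← MonoidHom.mem_ker, Subgroup.normalizerMonoidHom_ker] at ht
    have htP : ((t : N) : S) ∈ (P : Subgroup S) := hCP.le ht
    obtain ⟨k, hk⟩ := T.2 t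
    have h2 : ((t : N) : S) ^ 2 ^ k = 1 := congrArg (fun z : (T : Subgroup N) => ((z : N) : S)) hk
    have h17 : ((t : N) : S) ^ 17 = 1 := by
      have := congrArg Subtype.val (pow_card_eq_one' (x := (⟨_, htP⟩ : (P : Subgroup S))))
      rw [hP] at this
      simpa using this
    have hone : ((t : N) : S) ^ ((2 ^ k).gcd 17) = 1 := pow_gcd_eq_one.mpr ⟨h2, h17⟩
    rw [(Nat.Coprime.pow_left k (by norm_num : Nat.Coprime 2 17)).gcd_eq_one, pow_one] at hone
    exact Subgroup.mem_bot.mpr (Subtype.ext (Subtype.ext hone))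
  haveI hT2 : IsCyclic T2 := ((T : Subgroup N).equivMapOfInjective N.subtype N.subtype_injective).isCyclic.mp inferInstance
  have hj0 : j ≠ 0 := fun h => he1 (by rw [hj, h, pow_zero])
  have h2dvd : 2 ∣ Nat.card S := by
    rw [hcardS, hj]
    exact dvd_mul_of_dvd_left (dvd_mul_of_dvd_left (dvd_pow_self 2 hj0) _) _
  refine Cfsg.Agent.Lib.Transfer.not_hasNormalPComplement_of_isSimpleGroup (p := 2) hncomm h2dvd
    ⟨T2, _, ?_, IsCyclic.isComplement' ((Nat.minFac_eq_two_iff _).mpr h2dvd) hT2⟩
  exact MonoidHom.normal_ker _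


/-- No finite group has exactly 35 Sylow 17-subgroups. -/
theorem result {G : Type*} [Group G] [Finite G] : Nat.card (Sylow 17 G) ≠ 35 := by
  classical
  haveI : Fact (Nat.Prime 17) := ⟨by norm_num⟩
  intro h35
  obtain ⟨S, hg, hf, hsimp, hnc, hS⟩ := Cfsg.Agent.Lib.SylowNumber.exists_simple_of_atomic (p := 17) (n := 35)
    (by norm_num) (by
      intro h
      obtain ⟨q, k, hq, hk, hqk⟩ := (isPrimePow_nat_iff _).mp h
      have h5 : 5 = q := (Nat.prime_dvd_prime_iff_eq Nat.prime_five hq).mp (Nat.prime_five.dvd_of_dvd_pow (by rw [hqk]; norm_num))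
      have h7 : 7 = q := (Nat.prime_dvd_prime_iff_eq (by norm_num) hq).mp ((show Nat.Prime 7 by norm_num).dvd_of_dvd_pow (by rw [hqk]; norm_num))
      omega)
    (by
      intro m hm hmod
      have hle := Nat.le_of_dvd (by norm_num) hm
      interval_cases m <;> omega) h35
  exact no_simple S hnc hS

end Cfsg.Agent.S4236
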