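import Cfsg.Statements.S4238
import Mathlib
import Cfsg.Agent.Lib.PSolvable.Core
import Cfsg.Agent.Lib.Coprime.Quotient
import Cfsg.Agent.Lib.Transfer.Criteria
import Cfsg.Agent.Lib.Transfer.Tate
-- import your own Cfsg.Agent.* helpers here

set_option autoImplicit false
open Cfsg

namespace Cfsg.Agent.S4238
theorem ord_dvd {G : Type*} [Group G] (S : Subgroup G) {x : G} (hx : x ∈ S) : orderOf x ∣ Nat.card S := by
  rw [← Subgroup.orderOf_mk x hx]
  exact orderOf_dvd_natCard _

open Subgroup in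
/-- A group `V ⋊ ⟨a⟩` with `C_V(a) = 1` has no element whose order equals the exponent. -/
theorem no_elt {K : Type*} [Group K] [Finite K] {p : ℕ} [hp : Fact p.Prime] (V : Subgroup K) [V.Normal]
    (hV : IsPGroup p V) (hVc : ∀ x ∈ V, ∀ y ∈ V, x * y = y * x) (a : K) (ha : (orderOf a).Coprime p)
    (hgen : V ⊔ zpowers a = ⊤) (hfix : ∀ v ∈ V, a * v = v * a → v = 1) (hV1 : V ≠ ⊥) :
    ¬ ∃ k : K, orderOf k = Monoid.exponent K := by
  rintro ⟨k, hk⟩
  set π := QuotientGroup.mk' V with hπ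
  have hgenQ : ∀ y : K ⧸ V, y ∈ zpowers (π a) := by
    intro y
    obtain ⟨w, rfl⟩ := QuotientGroup.mk'_surjective V y
    have hw : w ∈ (zpowers (π a)).comap π := by
      have h1 : V ⊔ zpowers a ≤ (zpowers (π a)).comap π := by
        refine sup_le (fun x hx => ?_) (zpowers_le.mpr (mem_zpowers (π a)))
        have hπx : π x = 1 := (QuotientGroup.eq_one_iff x).mpr hx
        rw [mem_comap, hπx]
        exact one_mem _
      exact h1 (hgen ▸ mem_top w)
    exact hw
  have hcardQ : Nat.card (K ⧸ V) = orderOf (π a) := (orderOf_eq_card_of_forall_mem_zpowers hgenQ).symm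
  have hcop : (Nat.card (K ⧸ V)).Coprime p :=
    hcardQ ▸ Nat.Coprime.coprime_dvd_left (orderOf_map_dvd π a) ha
  have hdivn : ∀ x : K, orderOf x ∣ orderOf k := fun x => hk ▸ Monoid.order_dvd_exponent x
  have hpn : p ∣ orderOf k := by
    obtain ⟨⟨x, hxV⟩, hx1⟩ : ∃ x : V, x ≠ 1 := by
      by_contra hc
      push Not at hc
      exact hV1 ((eq_bot_iff_forall V).mpr fun x hx => congrArg Subtype.val (hc ⟨x, hx⟩))
    obtain ⟨e, he⟩ := (IsPGroup.iff_orderOf.mp hV) ⟨x, hxV⟩
    have he0 : e ≠ 0 := fun h0 => hx1 (orderOf_eq_one_iff.mp (by rw [he, h0, pow_zero]))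
    refine ((dvd_pow_self p he0).trans ?_).trans (hdivn x)
    rw [← he, ← Subgroup.orderOf_coe]
  set v := k ^ (orderOf k / p) with hv
  have hvo : orderOf v = p := orderOf_pow_orderOf_div (orderOf_pos k).ne' hpn
  have hvV : v ∈ V := by
    rw [← QuotientGroup.eq_one_iff, ← orderOf_eq_one_iff]
    exact Nat.eq_one_of_dvd_coprimes hcop (orderOf_dvd_natCard _) (hvo ▸ orderOf_map_dvd π v)
  have hd : orderOf (π a) ∣ orderOf (π k) := by
    have h1 : k ^ orderOf (π k) ∈ V := by
      rw [← QuotientGroup.eq_one_iff, QuotientGroup.mk_pow]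
      exact pow_orderOf_eq_one (π k)
    obtain ⟨e, he⟩ := (IsPGroup.iff_orderOf.mp hV) ⟨_, h1⟩
    have h2 : orderOf k ∣ orderOf (π k) * p ^ e := orderOf_dvd_of_pow_eq_one (by
      rw [pow_mul, ← he, ← Subgroup.orderOf_coe]
      exact pow_orderOf_eq_one _)
    exact (orderOf_map_dvd π a).trans
      ((Nat.Coprime.pow_right e ha).dvd_of_dvd_mul_right ((hdivn a).trans h2))
  have htop : zpowers (π k) = ⊤ := by
    refine eq_top_of_le_card _ ?_
    rw [Nat.card_zpowers, hcardQ]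
    exact Nat.le_of_dvd (orderOf_pos _) hd
  obtain ⟨i, hi⟩ := mem_zpowers_iff.mp (htop ▸ mem_top (π a) : π a ∈ zpowers (π k))
  rw [← map_zpow] at hi
  have hu : (k ^ i)⁻¹ * a ∈ V := QuotientGroup.eq.mp hi
  have hcomm : Commute v ((k ^ i) * ((k ^ i)⁻¹ * a)) := by
    refine Commute.mul_right (((Commute.refl k).pow_left _).zpow_right i) ?_
    exact hVc v hvV _ hu
  rw [mul_inv_cancel_left] at hcomm
  have hv1 := hfix v hvV hcomm.eq.symm
  rw [hv1, orderOf_one] at hvo
  exact hp.out.one_lt.ne hvo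

open Subgroup in
theorem core {G : Type*} [Group G] [Finite G] {p : ℕ} [hp : Fact p.Prime] (Q W : Subgroup G) [Q.Normal]
    [W.Normal] (hQ : IsPGroup p Q) (hQW : ∀ x ∈ Q, ∀ y ∈ Q, (x * y)⁻¹ * (y * x) ∈ W) (hne : ¬ Q ≤ W)
    (g : G) (hg : (orderOf g).Coprime p) (hgen : Q ⊔ zpowers g = ⊤)
    (hfix : ∀ q ∈ Q, q⁻¹ * (g * q * g⁻¹) ∈ W → q ∈ W) :
    ∃ (N : Subgroup G) (_ : N.Normal), Cfsg.pPrimeCore p (G ⧸ N) = ⊥ ∧
      ¬ ∃ k : G ⧸ N, orderOf k = Monoid.exponent (G ⧸ N) := by
  set N := (Cfsg.pPrimeCore p (G ⧸ W)).comap (QuotientGroup.mk' W) with hN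
  haveI hNn : N.Normal := inferInstance
  refine ⟨N, hNn, ?_, ?_⟩
  · -- no normal `p'`-subgroup
    set M := (Cfsg.pPrimeCore p (G ⧸ N)).comap (QuotientGroup.mk' N) with hM
    haveI : M.Normal := inferInstance
    have hWM : W ≤ M := by
      intro x hx
      rw [hM, mem_comap]
      have : x ∈ N := by
        rw [hN, mem_comap, QuotientGroup.mk'_apply, (QuotientGroup.eq_one_iff x).mpr hx]
        exact one_mem _
      rw [QuotientGroup.mk'_apply, (QuotientGroup.eq_one_iff x).mpr this]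
      exact one_mem _
    haveI : (M.map (QuotientGroup.mk' W)).Normal := Subgroup.Normal.map inferInstance _ (QuotientGroup.mk'_surjective W)
    have hc : (Nat.card (M.map (QuotientGroup.mk' W))).Coprime p := by
      rw [Nat.coprime_comm, hp.out.coprime_iff_not_dvd]
      intro hd
      obtain ⟨⟨y, m, hm, rfl⟩, hy⟩ := exists_prime_orderOf_dvd_card' p hd
      rw [← Subgroup.orderOf_coe] at hy
      change orderOf (QuotientGroup.mk' W m) = p at hy
      have hmN : m ∈ N := by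
        rw [← QuotientGroup.eq_one_iff, ← orderOf_eq_one_iff]
        refine Nat.eq_one_of_dvd_coprimes (Cfsg.Agent.Lib.PSolvable.pPrimeCore_coprime (p := p) (G := G ⧸ N))
          (ord_dvd _ (mem_comap.mp hm)) ?_
        refine orderOf_dvd_of_pow_eq_one ?_
        have hmp : m ^ p ∈ W := by
          rw [← QuotientGroup.eq_one_iff, QuotientGroup.mk_pow, ← hy]
          exact pow_orderOf_eq_one _
        rw [← QuotientGroup.mk_pow, QuotientGroup.eq_one_iff, hN, mem_comap, QuotientGroup.mk'_apply,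
          (QuotientGroup.eq_one_iff _).mpr hmp]
        exact one_mem _
      rw [hN, mem_comap] at hmN
      have := Nat.eq_one_of_dvd_coprimes (Cfsg.Agent.Lib.PSolvable.pPrimeCore_coprime (p := p) (G := G ⧸ W))
        (ord_dvd _ hmN) (hy ▸ dvd_refl p : orderOf (QuotientGroup.mk' W m) ∣ p)
      rw [hy] at this
      exact hp.out.ne_one this
    have hle : M ≤ N := by
      intro m hm
      rw [hN, mem_comap]
      exact Cfsg.Agent.Lib.PSolvable.le_pPrimeCore hc (mem_map_of_mem _ hm)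
    rw [eq_bot_iff_forall]
    intro x hx
    obtain ⟨m, rfl⟩ := QuotientGroup.mk'_surjective N x
    exact (QuotientGroup.eq_one_iff m).mpr (hle (mem_comap.mpr hx))
  · -- the image of `Q`
    have hQN : ∀ q ∈ Q, q ∈ N → q ∈ W := by
      intro q hq hqN
      rw [← QuotientGroup.eq_one_iff, ← orderOf_eq_one_iff]
      obtain ⟨e, he⟩ := (IsPGroup.iff_orderOf.mp hQ) ⟨q, hq⟩
      refine Nat.eq_one_of_dvd_coprimes
        (Nat.Coprime.pow_right e (Cfsg.Agent.Lib.PSolvable.pPrimeCore_coprime (p := p) (G := G ⧸ W)))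
        (ord_dvd _ (mem_comap.mp hqN)) ?_
      rw [← he, ← Subgroup.orderOf_coe]
      exact orderOf_map_dvd (QuotientGroup.mk' W) q
    have hWN : ∀ x ∈ W, (QuotientGroup.mk' N x) = 1 := by
      intro x hx
      rw [QuotientGroup.mk'_apply, QuotientGroup.eq_one_iff, hN, mem_comap, QuotientGroup.mk'_apply,
        (QuotientGroup.eq_one_iff x).mpr hx]
      exact one_mem _
    haveI : (Q.map (QuotientGroup.mk' N)).Normal := Subgroup.Normal.map inferInstance _ (QuotientGroup.mk'_surjective N)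
    refine no_elt (Q.map (QuotientGroup.mk' N)) (hQ.map _) ?_ (QuotientGroup.mk' N g)
      (Nat.Coprime.coprime_dvd_left (orderOf_map_dvd _ g) hg) ?_ ?_ ?_
    · rintro _ ⟨x, hx, rfl⟩ _ ⟨y, hy, rfl⟩
      have := hWN _ (hQW x hx y hy)
      rw [map_mul _ (x * y)⁻¹ (y * x), map_inv, inv_mul_eq_one, map_mul, map_mul] at this
      exact this
    · rw [← MonoidHom.map_zpowers, ← Subgroup.map_sup, hgen, map_top_of_surjective _ (QuotientGroup.mk'_surjective N)]
    · rintro _ ⟨q, hq, rfl⟩ hc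
      refine hWN q (hfix q hq (hQN _ (Q.mul_mem (Q.inv_mem hq) ((inferInstance : Q.Normal).conj_mem q hq g)) ?_))
      rw [← QuotientGroup.eq_one_iff]
      show QuotientGroup.mk' N (q⁻¹ * (g * q * g⁻¹)) = 1
      rw [map_mul, map_mul, map_mul, map_inv, map_inv, hc]
      group
    · intro hb
      refine hne fun q hq => hQN q hq ?_
      rw [← QuotientGroup.eq_one_iff]
      exact (mem_bot.mp (hb ▸ mem_map_of_mem (QuotientGroup.mk' N) hq) :)

open Subgroup in
open scoped commutatorElement in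
theorem not_npc {G : Type*} [Group G] [Finite G] {p : ℕ} [hp : Fact p.Prime]
    (hG : ¬ Cfsg.HasNormalPComplement p G) :
    ∃ (H : Subgroup G) (N : Subgroup H) (_ : N.Normal), Cfsg.pPrimeCore p (H ⧸ N) = ⊥ ∧
      ¬ ∃ k : H ⧸ N, orderOf k = Monoid.exponent (H ⧸ N) := by
  classical
  rw [Cfsg.Agent.Lib.Transfer.hasNormalPComplement_iff_locallyPTrivial, Cfsg.Agent.Lib.Transfer.LocallyPTrivial] at hG
  push Not at hG
  obtain ⟨Q₀, hQ₀, g, hg₀, hgo, hgc₀⟩ := hG
  obtain ⟨Q, -, hmin⟩ := (Set.toFinite {Q : Subgroup G | IsPGroup p Q ∧ g ∈ normalizer (Q : Set G) ∧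
    g ∉ centralizer (Q : Set G)}).exists_le_minimal ⟨hQ₀, hg₀, hgc₀⟩
  obtain ⟨hQ, hgN, hgc⟩ := hmin.prop
  set H := Q ⊔ zpowers g with hH
  set Q' := Q.subgroupOf H with hQ'
  let g' : H := ⟨g, le_sup_right (a := Q) (mem_zpowers g)⟩
  have hHN : H ≤ normalizer (Q : Set G) := sup_le le_normalizer (zpowers_le.mpr hgN)
  haveI hQ'n : Q'.Normal := (normal_subgroupOf_iff_le_normalizer le_sup_left).mpr hHN
  have hQ'p : IsPGroup p Q' := hQ.comap_subtype
  have hgo' : (orderOf g').Coprime p := by rwa [← Subgroup.orderOf_coe]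
  have hgen : Q' ⊔ zpowers g' = ⊤ := by
    apply map_injective H.subtype_injective
    rw [Subgroup.map_sup, hQ', map_subgroupOf_eq_of_le le_sup_left, MonoidHom.map_zpowers, ← MonoidHom.range_eq_map,
      range_subtype]
    rfl
  set Φ : Subgroup H := (frattini Q').map Q'.subtype with hΦ
  haveI hΦn : Φ.Normal := by rw [hΦ]; exact inferInstance
  have hΦQ : Φ ≤ Q' := map_subtype_le _
  have hcomm : ∀ x ∈ Q', ∀ y ∈ Q', (x * y)⁻¹ * (y * x) ∈ Φ := by
    intro x hx y hy
    refine ⟨(⟨x, hx⟩ * ⟨y, hy⟩ : Q')⁻¹ * (⟨y, hy⟩ * ⟨x, hx⟩), ?_, rfl⟩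
    refine Cfsg.Agent.Lib.Transfer.commutator_le_frattini_of_isPGroup hQ'p ?_
    have e : (⟨x, hx⟩ * ⟨y, hy⟩ : Q')⁻¹ * (⟨y, hy⟩ * ⟨x, hx⟩) = ⁅(⟨y, hy⟩ : Q')⁻¹, (⟨x, hx⟩ : Q')⁻¹⁆ := by
      rw [commutatorElement_def]; group
    rw [e]
    exact commutator_mem_commutator (mem_top _) (mem_top _)
  let W : Subgroup H :=
    { carrier := {q | q ∈ Q' ∧ q⁻¹ * (g' * q * g'⁻¹) ∈ Φ}
      one_mem' := ⟨one_mem _, by simp⟩
      mul_mem' := fun {a b} ha hb => ⟨mul_mem ha.1 hb.1, by
        have := mul_mem (hΦn.conj_mem _ ha.2 b⁻¹) hb.2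
        convert this using 1
        group⟩
      inv_mem' := fun {a} ha => ⟨inv_mem ha.1, by
        have := hΦn.conj_mem _ (inv_mem ha.2) a
        convert this using 1
        group⟩ }
  have hWmem : ∀ q, q ∈ W ↔ q ∈ Q' ∧ q⁻¹ * (g' * q * g'⁻¹) ∈ Φ := fun q => Iff.rfl
  have hΦW : Φ ≤ W := fun x hx => (hWmem x).mpr ⟨hΦQ hx, mul_mem (inv_mem hx) (hΦn.conj_mem x hx g')⟩
  have hgW : g' ∈ normalizer (W : Set H) := by
    rw [Subgroup.mem_normalizer_iff]
    intro w
    simp only [hWmem]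
    constructor
    · rintro ⟨h1, h2⟩
      refine ⟨hQ'n.conj_mem w h1 g', ?_⟩
      have := hΦn.conj_mem _ h2 g'
      convert this using 1
      group
    · rintro ⟨h1, h2⟩
      refine ⟨?_, ?_⟩
      · simpa [mul_assoc] using hQ'n.conj_mem _ h1 g'⁻¹
      · simpa [mul_assoc] using hΦn.conj_mem _ h2 g'⁻¹
  have hQW' : Q' ≤ normalizer (W : Set H) := by
    intro x hx
    have key : ∀ y ∈ Q', ∀ w ∈ W, y * w * y⁻¹ ∈ W := by
      intro y hy w hw
      have h1 := hcomm w⁻¹ (inv_mem hw.1) y hy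
      have h2 : y * w * y⁻¹ * w⁻¹ ∈ W := hΦW (by
        have := hΦn.conj_mem _ h1 y
        have := hΦn.conj_mem _ this w
        have := inv_mem this
        convert hΦn.conj_mem _ (hcomm w⁻¹ (inv_mem hw.1) y⁻¹ (inv_mem hy)) 1 using 1
        group)
      have := mul_mem h2 hw
      simpa using this
    rw [Subgroup.mem_normalizer_iff]
    intro w
    refine ⟨key x hx w, fun h => ?_⟩
    simpa [mul_assoc] using key x⁻¹ (inv_mem hx) _ h
  haveI hWn : W.Normal := normalizer_eq_top_iff.mp (top_le_iff.mp (hgen ▸ sup_le hQW' (zpowers_le.mpr hgW)))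
  have hne : ¬ Q' ≤ W := by
    intro hle
    have htriv : ∀ a ∈ zpowers g', ∀ k ∈ Q', a * k * a⁻¹ * k⁻¹ ∈ Φ := by
      intro a ha k hk
      have h1 : zpowers g' ≤ (centralizer ((Q'.map (QuotientGroup.mk' Φ) : Subgroup (H ⧸ Φ)) : Set (H ⧸ Φ))).comap (QuotientGroup.mk' Φ) := by
        rw [zpowers_le, mem_comap, Subgroup.mem_centralizer_iff]
        rintro _ ⟨q, hq, rfl⟩
        have := (hle hq).2
        rw [← QuotientGroup.eq_one_iff] at this
        change QuotientGroup.mk' Φ (q⁻¹ * (g' * q * g'⁻¹)) = 1 at this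
        rw [map_mul, map_mul, map_mul, map_inv, map_inv, inv_mul_eq_one, eq_mul_inv_iff_mul_eq] at this
        exact this
      have h2 := Subgroup.mem_centralizer_iff.mp (h1 ha) _ ⟨k, hk, rfl⟩
      rw [← QuotientGroup.eq_one_iff]
      show QuotientGroup.mk' Φ (a * k * a⁻¹ * k⁻¹) = 1
      rw [map_mul, map_mul, map_mul, map_inv, map_inv, ← h2]
      group
    have hc := Cfsg.Agent.Lib.Coprime.le_centralizer_of_frattini (A := zpowers g') (K := Q')
      (le_top.trans_eq (normalizer_eq_top_iff.mpr hQ'n).symm)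
      (by
        obtain ⟨j, hj⟩ := (hQ'p.to_subgroup (frattini Q')).exists_card_eq
        rw [Nat.card_zpowers, hj]
        exact Nat.Coprime.pow_right j hgo') htriv (mem_zpowers g')
    refine hgc (Subgroup.mem_centralizer_iff.mpr fun q hq => ?_)
    exact congrArg Subtype.val (Subgroup.mem_centralizer_iff.mp hc ⟨q, le_sup_left (b := zpowers g) hq⟩ hq)
  have hWc : ∀ w ∈ W, g' * w = w * g' := by
    have hWQ : W.map H.subtype ≤ Q := by
      rintro _ ⟨w, hw, rfl⟩; exact hw.1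
    have hgc' : g ∈ centralizer ((W.map H.subtype : Subgroup G) : Set G) := by
      by_contra hc
      refine hne fun q hq => ?_
      have hle := hmin.le_of_le ⟨hQ.to_le hWQ, ?_, hc⟩ hWQ
      · obtain ⟨w, hw, hwe⟩ := hle (show (q : G) ∈ Q from hq)
        exact H.subtype_injective hwe ▸ hw
      · have hmm : g' ∈ (normalizer ((W.map H.subtype : Subgroup G) : Set G)).comap H.subtype := by
          rw [mem_comap, Subgroup.mem_normalizer_iff]
          intro z
          constructor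
          · rintro ⟨w, hw, rfl⟩
            exact ⟨g' * w * g'⁻¹, hWn.conj_mem w hw g', rfl⟩
          · rintro ⟨w, hw, hwe⟩
            refine ⟨g'⁻¹ * w * g', by simpa using hWn.conj_mem w hw g'⁻¹, ?_⟩
            show (g : G)⁻¹ * (w : G) * g = z
            rw [show (w : G) = g * z * g⁻¹ from hwe]
            group
        exact hmm
    intro w hw
    exact Subtype.ext (Subgroup.mem_centralizer_iff.mp hgc' _ ⟨w, hw, rfl⟩).symm
  have hfix : ∀ q ∈ Q', q⁻¹ * (g' * q * g'⁻¹) ∈ W → q ∈ W := by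
    intro q hq hw
    set w := q⁻¹ * (g' * q * g'⁻¹) with hwdef
    have hpow : ∀ n : ℕ, g' ^ n * q * (g' ^ n)⁻¹ = q * w ^ n := by
      intro n
      induction n with
      | zero => simp
      | succ n ih =>
        have hc : g' * w ^ n = w ^ n * g' := ((show Commute g' w from hWc w hw).pow_right n).eq
        calc g' ^ (n + 1) * q * (g' ^ (n + 1))⁻¹ = g' * (g' ^ n * q * (g' ^ n)⁻¹) * g'⁻¹ := by
              rw [pow_succ']; group
          _ = g' * q * (w ^ n * g' * g'⁻¹ * g'⁻¹) * g' * g'⁻¹ := by rw [ih]; group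
          _ = g' * q * g'⁻¹ * (g' * w ^ n * g'⁻¹) := by group
          _ = g' * q * g'⁻¹ * w ^ n := by rw [hc, mul_inv_cancel_right]
          _ = q * w ^ (n + 1) := by
            have e : g' * q * g'⁻¹ = q * w := by rw [hwdef]; group
            rw [e, mul_assoc, ← pow_succ']
    have h1 := hpow (orderOf g')
    rw [pow_orderOf_eq_one, one_mul, inv_one, mul_one] at h1
    have hw1 : w = 1 := by
      obtain ⟨e, he⟩ := (IsPGroup.iff_orderOf.mp hQ'p) ⟨w, hw.1⟩
      rw [← orderOf_eq_one_iff]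
      refine Nat.eq_one_of_dvd_coprimes (Nat.Coprime.pow_right e hgo')
        (orderOf_dvd_of_pow_eq_one (mul_left_cancel (h1.symm.trans (mul_one q).symm))) ?_
      rw [← he]
      exact (orderOf_injective Q'.subtype Q'.subtype_injective ⟨w, hw.1⟩).dvd
    refine (hWmem q).mpr ⟨hq, ?_⟩
    show w ∈ Φ
    rw [hw1]
    exact one_mem _
  obtain ⟨N, hNn, hN1, hN2⟩ := core Q' W hQ'p (fun x hx y hy => hΦW (hcomm x hx y hy)) hne g' hgo' hgen hfix
  exact ⟨H, N, hNn, hN1, hN2⟩

theorem exists_max_order {K : Type*} [Group K] [Finite K] {p : ℕ} [hp : Fact p.Prime] (h : IsPGroup p K) :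
    ∃ k : K, orderOf k = Monoid.exponent K := by
  obtain ⟨k, hk⟩ := Finite.exists_max (fun x : K => orderOf x)
  refine ⟨k, Nat.dvd_antisymm (Monoid.order_dvd_exponent k) ?_⟩
  refine Monoid.exponent_dvd_of_forall_pow_eq_one fun x => orderOf_dvd_iff_pow_eq_one.mp ?_
  obtain ⟨a, ha⟩ := IsPGroup.iff_orderOf.mp h x
  obtain ⟨b, hb⟩ := IsPGroup.iff_orderOf.mp h k
  rw [ha, hb]
  refine pow_dvd_pow p ?_
  have := hk x
  rwa [ha, hb, Nat.pow_le_pow_iff_right hp.out.one_lt] at this


/-- Let G be a finite group and p a prime. Then G has a normal p-complement if and only if every section K = H/N of G (N a normal subgroup of a subgroup H) whose largest normal subgroup of order prime to p is trivial contains an element whose order equals the exponent of K. -/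
theorem result {G : Type*} [Group G] [Finite G] (p : ℕ) [Fact p.Prime] :
    Cfsg.HasNormalPComplement p G ↔
      ∀ (H : Subgroup G) (N : Subgroup H) [N.Normal], Cfsg.pPrimeCore p (H ⧸ N) = ⊥ →
        ∃ k : H ⧸ N, orderOf k = Monoid.exponent (H ⧸ N) := by
  constructor
  · intro hG H N _ h0
    have hK : Cfsg.HasNormalPComplement p (H ⧸ N) :=
      Cfsg.Agent.Lib.Transfer.hasNormalPComplement_of_surjective (QuotientGroup.mk' N) (QuotientGroup.mk'_surjective N)
        (Cfsg.Agent.Lib.Transfer.hasNormalPComplement_subgroup hG H)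
    have hres := Cfsg.Agent.Lib.Transfer.hasNormalPComplement_iff.mp hK
    haveI := Cfsg.Agent.Lib.Transfer.pResidual_characteristic (p := p) (G := H ⧸ N)
    have hle : Cfsg.pResidual p (H ⧸ N) ≤ ⊥ := h0 ▸ Cfsg.Agent.Lib.PSolvable.le_pPrimeCore
      (Nat.coprime_comm.mp (((Fact.out : p.Prime).coprime_iff_not_dvd).mpr hres))
    refine exists_max_order (p := p) fun x => ?_
    obtain ⟨k, hk⟩ := Cfsg.Agent.Lib.Transfer.exists_pow_mem_pResidual (p := p) x
    exact ⟨k, Subgroup.mem_bot.mp (hle hk)⟩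
  · intro h
    by_contra hG
    obtain ⟨H, N, hN, hN1, hN2⟩ := not_npc hG
    exact hN2 (h H N hN1)

end Cfsg.Agent.S4238
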