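import Cfsg.Statements.S4241
import Cfsg.Agent.S0205
import Cfsg.Agent.S2756
import Cfsg.Agent.Lib.OddCond.InvNilpotent

set_option autoImplicit false
open Cfsg

namespace Cfsg.Agent.S4241

open Subgroup Cfsg.Agent.Lib

universe u v

variable {A : Type v} [Group A] {G : Type u} [Group G]

/-- Invariance under the acting group. -/
def Inv (A : Type v) [Group A] [MulDistribMulAction A G] (H : Subgroup G) : Prop :=
  ∀ a : A, ∀ x ∈ H, a • x ∈ H

/-- The proper invariant subgroups of order divisible by `p` are nilpotent. -/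
def NilAt (A : Type v) [Group A] [MulDistribMulAction A G] (p : ℕ) : Prop :=
  ∀ H : Subgroup G, H ≠ ⊤ → Inv A H → p ∣ Nat.card H → Group.IsNilpotent H

variable [MulDistribMulAction A G]

theorem Inv.map_eq [Finite G] {H : Subgroup G} (h : Inv A H) (a : A) :
    H.map (MulDistribMulAction.toMulEquiv G a).toMonoidHom = H :=
  eq_of_le_of_card_ge (by rintro _ ⟨x, hx, rfl⟩; exact h a x hx)
    (card_map_of_injective (MulDistribMulAction.toMulEquiv G a).injective).ge

theorem inv_of_map_le {H : Subgroup G}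
    (h : ∀ a : A, H.map (MulDistribMulAction.toMulEquiv G a).toMonoidHom ≤ H) : Inv A H :=
  fun a x hx => h a ⟨x, hx, rfl⟩

theorem Inv.normalizer [Finite G] {H : Subgroup G} (h : Inv A H) :
    Inv A (Subgroup.normalizer (H : Set G)) :=
  inv_of_map_le fun a => le_of_eq (by rw [map_equiv_normalizer_eq, h.map_eq a])

theorem Inv.sup {H K : Subgroup G} (hH : Inv A H) (hK : Inv A K) : Inv A (H ⊔ K) := by
  intro a x hx
  have h : H ⊔ K ≤ (H ⊔ K).comap (MulDistribMulAction.toMulEquiv G a).toMonoidHom :=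
    sup_le (fun y hy => mem_sup_left (hH a y hy)) (fun y hy => mem_sup_right (hK a y hy))
  exact h hx

theorem nilAt_of_max [Finite G] (p : ℕ)
    (hmax : ∀ H : Subgroup G, H ≠ ⊤ → (∀ a : A, ∀ x ∈ H, a • x ∈ H) →
      (∀ K : Subgroup G, H < K → (∀ a : A, ∀ x ∈ K, a • x ∈ K) → K = ⊤) → p ∣ Nat.card H →
      Group.IsNilpotent H) : NilAt (G := G) A p := by
  intro H hH hinv hp
  obtain ⟨K, ⟨hHK, hK, hKinv⟩, hKmax⟩ := Set.exists_max_image
    {K : Subgroup G | H ≤ K ∧ K ≠ ⊤ ∧ Inv A K} (fun K => Nat.card K)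
    (Set.toFinite _) ⟨H, le_rfl, hH, hinv⟩
  haveI := hmax K hK hKinv (fun L hKL hL => by
    by_contra hne
    have h1 := hKmax L ⟨hHK.trans hKL.le, hne, hL⟩
    exact hKL.ne (eq_of_le_of_card_ge hKL.le h1)) (hp.trans (card_dvd_of_le hHK))
  exact Group.nilpotent_of_mulEquiv (Subgroup.subgroupOfEquivOfLe hHK)

/-- The action on an invariant subgroup. -/
def resHom {N : Subgroup G} (h : Inv A N) : A →* MulAut ↥N where
  toFun a :=
    { toFun := fun x => ⟨a • (x : G), h a x x.2⟩
      invFun := fun x => ⟨a⁻¹ • (x : G), h a⁻¹ x x.2⟩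
      left_inv := fun x => Subtype.ext (inv_smul_smul a (x : G))
      right_inv := fun x => Subtype.ext (smul_inv_smul a (x : G))
      map_mul' := fun x y => Subtype.ext (smul_mul' a (x : G) (y : G)) }
  map_one' := MulEquiv.ext fun x => Subtype.ext (one_smul A (x : G))
  map_mul' a b := MulEquiv.ext fun x => Subtype.ext (mul_smul a b (x : G))

theorem coe_resHom {N : Subgroup G} (h : Inv A N) (a : A) (x : N) :
    ((resHom h a x : N) : G) = a • (x : G) := rfl

theorem odd_solv : OddCond.OddSolvable.{u} := fun H _ _ h => Cfsg.Agent.S0205.result h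

variable [Finite A] [Finite G]

/-- The case of a normal invariant `p'`-subgroup with a complement of `p`-power order. -/
theorem solvable_split (hcop : (Nat.card A).Coprime (Nat.card G)) {p : ℕ} [Fact p.Prime]
    (hnil : NilAt (G := G) A p) {N : Subgroup G} [N.Normal] (hN : Inv A N)
    (hpN : ¬ p ∣ Nat.card N) {P : Subgroup G} (hP : IsPGroup p P) (hPinv : Inv A P)
    (hpP : p ∣ Nat.card P) : Group.IsSolvable N := by
  let f1 : ↥P →* MulAut ↥N := MulAut.conjNormal.comp P.subtype
  let φ : A →* MulAut ↥P := resHom hPinv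
  let f2 : A →* MulAut ↥N := resHom hN
  have hcompat : ∀ a : A, f1.comp (φ a).toMonoidHom = (MulAut.conj (f2 a)).toMonoidHom.comp f1 := by
    intro a
    refine MonoidHom.ext fun x => MulEquiv.ext fun n => Subtype.ext ?_
    show (MulAut.conjNormal ((φ a x : P) : G) n : G) =
      ((f2 a (f1 x ((f2 a)⁻¹ n)) : N) : G)
    rw [MulAut.conjNormal_apply, ← map_inv, coe_resHom, coe_resHom]
    show _ = a • (MulAut.conjNormal (x : G) (f2 a⁻¹ n) : G)
    rw [MulAut.conjNormal_apply, coe_resHom, smul_mul', smul_mul', smul_inv', smul_inv_smul]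
  let B := ↥P ⋊[φ] A
  let ρ : B →* MulAut ↥N := SemidirectProduct.lift f1 f2 hcompat
  haveI : Finite B := Finite.of_equiv (↥P × A) SemidirectProduct.equivProd.symm
  letI : MulDistribMulAction B ↥N := MulDistribMulAction.compHom ↥N ρ
  obtain ⟨k, hk⟩ := IsPGroup.iff_card.1 hP
  have hPN : (Nat.card P).Coprime (Nat.card N) :=
    hk ▸ ((Nat.Prime.coprime_iff_not_dvd Fact.out).2 hpN).pow_left k
  have hBN : (Nat.card B).Coprime (Nat.card N) := by
    rw [SemidirectProduct.card]
    exact hPN.mul_left (hcop.coprime_dvd_right (card_subgroup_dvd_card N))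
  refine OddCond.isSolvable_of_invariant_nilpotent odd_solv odd_solv hBN fun K hK hKinv => ?_
  set K' := K.map N.subtype with hK'
  have hK'N : K' ≤ N := map_subtype_le K
  have hKA : Inv A K' := by
    rintro a _ ⟨k, hk, rfl⟩
    have h := hKinv (SemidirectProduct.inr a) k hk
    change ρ (SemidirectProduct.inr a) k ∈ K at h
    rw [SemidirectProduct.lift_inr] at h
    exact ⟨_, h, rfl⟩
  have hKP : P ≤ normalizer (K' : Set G) := by
    intro x hx
    rw [mem_normalizer_iff_map_conj_eq]
    refine eq_of_le_of_card_ge ?_ (card_map_of_injective (MulAut.conj x).injective).ge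
    rintro _ ⟨_, ⟨k, hk, rfl⟩, rfl⟩
    have h := hKinv (SemidirectProduct.inl ⟨x, hx⟩) k hk
    change ρ (SemidirectProduct.inl ⟨x, hx⟩) k ∈ K at h
    rw [SemidirectProduct.lift_inl] at h
    exact ⟨_, h, rfl⟩
  have htop : K' ⊔ P ≠ ⊤ := by
    intro h
    haveI : K'.Normal := normalizer_eq_top_iff.1 (top_le_iff.1 (h ▸ sup_le le_normalizer hKP))
    have h1 := SZ.card_sup_of_coprime P K' (hPN.coprime_dvd_right (card_dvd_of_le hK'N))
    rw [sup_comm] at h
    rw [h, Subgroup.card_top] at h1
    have h2 := SZ.card_sup_of_coprime P N hPN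
    rw [top_le_iff.1 (h.ge.trans (sup_le_sup_left hK'N P)), Subgroup.card_top, h1] at h2
    have h3 : Nat.card K' = Nat.card N := Nat.eq_of_mul_eq_mul_left Nat.card_pos h2
    rw [hK', card_map_of_injective N.subtype_injective] at h3
    exact hK (eq_top_of_card_eq K h3)
  haveI := hnil (K' ⊔ P) htop (hKA.sup hPinv) (hpP.trans (card_dvd_of_le le_sup_right))
  haveI : Group.IsNilpotent K' :=
    Group.nilpotent_of_mulEquiv (Subgroup.subgroupOfEquivOfLe (le_sup_left : K' ≤ K' ⊔ P))
  exact Group.nilpotent_of_mulEquiv (K.equivMapOfInjective _ N.subtype_injective).symm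

/-- The case without invariant normal subgroups, for the prime two. -/
theorem sylow_two_normal (hcop : (Nat.card A).Coprime (Nat.card G)) (hnil : NilAt (G := G) A 2)
    (hsimple : ∀ M : Subgroup G, M.Normal → Inv A M → M ≠ ⊥ → M = ⊤)
    (hns : ¬ Group.IsSolvable G) : ∀ P : Sylow 2 G, (P : Subgroup G).Normal := by
  haveI : Fact (Nat.Prime 2) := ⟨Nat.prime_two⟩
  refine S2756.normal_of_no_inverted fun q _ hq T x hx hx1 g hg he => ?_
  obtain ⟨T0, hT0⟩ := OddCond.exists_invariant_sylow (A := A) odd_solv odd_solv hcop q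
  obtain ⟨c, hc⟩ := MulAction.exists_smul_eq G T T0
  have hmapT : (T : Subgroup G).map (MulAut.conj c).toMonoidHom = (T0 : Subgroup G) := by
    rw [← hc, Sylow.coe_subgroup_smul]; rfl
  set Z := ZJ.zj 0 (T0 : Subgroup G) with hZ
  have hZT : Z = (ZJ.zj 0 (T : Subgroup G)).map (MulAut.conj c).toMonoidHom := by
    rw [hZ, ← hmapT, ZJ.zj_map _ (MulAut.conj c).injective.injOn]
  have hZinv : Inv A Z := inv_of_map_le fun a => le_of_eq (by
    have h := ZJ.zj_map (m := 0) (MulDistribMulAction.toMulEquiv G a).toMonoidHom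
      (U := (T0 : Subgroup G)) (MulDistribMulAction.toMulEquiv G a).injective.injOn
    rw [Inv.map_eq hT0 a] at h
    exact h.symm)
  set N := Subgroup.normalizer (Z : Set G) with hN
  have hx' : c * x * c⁻¹ ∈ (T0 : Subgroup G) := hmapT ▸ ⟨x, hx, rfl⟩
  have hx1' : c * x * c⁻¹ ≠ 1 := by simpa using hx1
  have hg' : c * g * c⁻¹ ∈ N := by
    rw [hN, hZT, ← map_equiv_normalizer_eq]
    refine ⟨g, ?_, rfl⟩
    rwa [ZJ.zj_zero_eq]
  have hxN : c * x * c⁻¹ ∈ N := ZJ.normalizer_le 0 _ (le_normalizer hx')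
  have he' : c * g * c⁻¹ * (c * x * c⁻¹) * (c * g * c⁻¹)⁻¹ = (c * x * c⁻¹)⁻¹ := by
    calc c * g * c⁻¹ * (c * x * c⁻¹) * (c * g * c⁻¹)⁻¹ = c * (g * x * g⁻¹) * c⁻¹ := by group
      _ = (c * x * c⁻¹)⁻¹ := by rw [he]; group
  obtain ⟨j, hj⟩ := T0.2 ⟨_, hx'⟩
  have hj' : (c * x * c⁻¹) ^ q ^ j = 1 := congrArg Subtype.val hj
  have hNt : N ≠ ⊤ := by
    intro h
    have hT0ne : (T0 : Subgroup G) ≠ ⊥ := fun h0 => hx1' (mem_bot.1 (h0 ▸ hx'))
    have hle : (⊤ : Subgroup G) ≤ T0 := (hsimple Z (normalizer_eq_top_iff.1 h) hZinv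
      (ZJ.zj_ne_bot T0.2 hT0ne (Or.inl rfl))) ▸ ZJ.zj_le 0 _
    exact hns (OddCond.isPGroup_isSolvable (p := q) ((T0.2.to_le hle).of_equiv topEquiv))
  have hS : ∀ S : Sylow 2 ↥N, (S : Subgroup ↥N).Normal := by
    intro S
    by_cases h2 : 2 ∣ Nat.card N
    · haveI := hnil N hNt hZinv.normalizer h2
      exact S.normal_of_normalizerCondition Group.normalizerCondition_of_isNilpotent
    · have hbot : (S : Subgroup ↥N) = ⊥ := by
        obtain ⟨i, hi⟩ := IsPGroup.iff_card.1 S.2
        rw [eq_bot_iff_card, hi]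
        rcases Nat.eq_zero_or_pos i with h0 | h0
        · rw [h0, pow_zero]
        · exact absurd ((dvd_pow_self 2 h0.ne').trans (hi ▸ card_subgroup_dvd_card _)) h2
      rw [hbot]; infer_instance
  exact S2756.not_inverted (G := ↥N) hS q hq (x := ⟨_, hxN⟩) (g := ⟨_, hg'⟩)
    (fun e => hx1' (congrArg Subtype.val e)) (k := j) (Subtype.ext hj') (Subtype.ext he')

/-- The case without invariant normal subgroups. -/
theorem solvable_simple (hcop : (Nat.card A).Coprime (Nat.card G)) {p : ℕ} [Fact p.Prime]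
    (hpG : p ∣ Nat.card G) (hnil : NilAt (G := G) A p)
    (hsimple : ∀ M : Subgroup G, M.Normal → Inv A M → M ≠ ⊥ → M = ⊤) : Group.IsSolvable G := by
  by_contra hns
  apply hns
  obtain ⟨P, hP⟩ := OddCond.exists_invariant_sylow (A := A) odd_solv odd_solv hcop p
  have hP : Inv A (P : Subgroup G) := hP
  have hPne : (P : Subgroup G) ≠ ⊥ := P.ne_bot_of_dvd_card hpG
  have hpgrp : (⊤ : Subgroup G) ≤ P → Group.IsSolvable G := fun h =>
    OddCond.isPGroup_isSolvable (p := p) ((P.2.to_le h).of_equiv topEquiv)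
  by_cases hp2 : p = 2
  · subst hp2
    exact hpgrp (hsimple _ (sylow_two_normal hcop hnil hsimple hns P) hP hPne).ge
  set Z := Cfsg.centerThompsonOf p (P : Subgroup G) with hZ
  have hZinv : Inv A Z := inv_of_map_le fun a => le_of_eq (by
    have h := MaxCentralisers.centerThompsonOf_map (p := p)
      (f := (MulDistribMulAction.toMulEquiv G a).toMonoidHom)
      (MulDistribMulAction.toMulEquiv G a).injective (P : Subgroup G)
    rw [Inv.map_eq hP a] at h
    exact h.symm)
  have hZP : Z ≤ P := inf_le_left.trans (Thompson.thompsonSubgroupOf_le p _)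
  set N := Subgroup.normalizer (Z : Set G) with hN
  by_cases hNt : N = ⊤
  · exact hpgrp ((hsimple Z (normalizer_eq_top_iff.1 hNt) hZinv
      (ThompsonNPC.centerThompsonOf_ne_bot P.2 hPne)).ge.trans hZP)
  have hPN : (P : Subgroup G) ≤ N := by
    intro x hx
    have h := MaxCentralisers.centerThompsonOf_map (p := p)
      (f := (MulAut.conj x).toMonoidHom) (MulAut.conj x).injective (P : Subgroup G)
    have hm : (P : Subgroup G).map (MulAut.conj x).toMonoidHom = P :=
      mem_normalizer_iff_map_conj_eq.1 (le_normalizer hx)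
    rw [hm] at h
    exact mem_normalizer_iff_map_conj_eq.2 h.symm
  obtain ⟨i, hi⟩ := IsPGroup.iff_card.1 P.2
  have hpP : p ∣ Nat.card (P : Subgroup G) := P.dvd_card_of_dvd_card hpG
  haveI := hnil N hNt hZinv.normalizer (hpP.trans (card_dvd_of_le hPN))
  have hc := ThompsonNPC.hasNormalPComplement_of_glaubermanThompson hp2 P
    (Transfer.hasNormalPComplement_of_isNilpotent (G := N))
  have hK := Transfer.hasNormalPComplement_iff.1 hc
  set K := Cfsg.pResidual p G
  have hKt : K ≠ ⊤ := fun h => hK (by rw [h, Subgroup.card_top]; exact hpG)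
  have hKb : K = ⊥ := by
    by_contra hne
    refine hKt (hsimple K inferInstance (fun a q hq => ?_) hne)
    have hle : K ≤ K.comap (MulDistribMulAction.toMulEquiv G a).toMonoidHom :=
      (closure_le _).2 fun g hg => subset_closure
        (show (orderOf (MulDistribMulAction.toMulEquiv G a g)).Coprime p by
          rwa [MulEquiv.orderOf_eq])
    exact hle hq
  have hcomp := Transfer.isComplement'_pResidual P hK
  have hcomp' : (⊥ : Subgroup G).IsComplement' (P : Subgroup G) := hKb ▸ hcomp
  exact hpgrp (isComplement'_bot_left.1 hcomp').ge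

omit [MulDistribMulAction A G] [Finite G] in
theorem main (p : ℕ) [Fact p.Prime] (n : ℕ) :
    ∀ (G : Type u) [Group G] [Finite G] [MulDistribMulAction A G], Nat.card G = n →
      (Nat.card A).Coprime (Nat.card G) → p ∣ Nat.card G → NilAt (G := G) A p →
      Group.IsSolvable G := by
  induction n using Nat.strong_induction_on with
  | _ n ih =>
  intro G _ _ _ hn hcop hpG hnil
  by_cases hex : ∃ N : Subgroup G, N.Normal ∧ Inv A N ∧ N ≠ ⊥ ∧ N ≠ ⊤
  swap
  · push Not at hex
    exact solvable_simple hcop hpG hnil hex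
  obtain ⟨N, hNn, hN, hNb, hNt⟩ := hex
  haveI := hNn
  -- the action on the quotient
  let φ : A →* MulAut (G ⧸ N) :=
    { toFun := fun a => QuotientGroup.congr N N (MulDistribMulAction.toMulEquiv G a) (hN.map_eq a)
      map_one' := MulEquiv.ext fun q => by
        obtain ⟨g, rfl⟩ := QuotientGroup.mk_surjective q
        exact congrArg QuotientGroup.mk (one_smul A g)
      map_mul' := fun a b => MulEquiv.ext fun q => by
        obtain ⟨g, rfl⟩ := QuotientGroup.mk_surjective q
        exact congrArg QuotientGroup.mk (mul_smul a b g) }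
  letI : MulDistribMulAction A (G ⧸ N) := MulDistribMulAction.compHom (G ⧸ N) φ
  set π := QuotientGroup.mk' N with hπdef
  have hπ : Function.Surjective π := QuotientGroup.mk'_surjective N
  have hcardQ : Nat.card (G ⧸ N) ∣ Nat.card G := card_quotient_dvd_card N
  have hcopQ : (Nat.card A).Coprime (Nat.card (G ⧸ N)) := hcop.coprime_dvd_right hcardQ
  have hpull : ∀ X : Subgroup (G ⧸ N), X ≠ ⊤ → Inv A X → p ∣ Nat.card (X.comap π) →
      Group.IsNilpotent X := by
    intro X hX hXinv hpX
    have hYt : X.comap π ≠ ⊤ := fun h => hX (by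
      rw [← map_comap_eq_self_of_surjective hπ X, h, map_top_of_surjective _ hπ])
    haveI := hnil (X.comap π) hYt (fun a x hx => by
      show π (a • x) ∈ X
      exact hXinv a _ hx) hpX
    exact Group.nilpotent_of_surjective (π.subgroupComap X)
      (MonoidHom.subgroupComap_surjective_of_surjective π X hπ)
  have hNsol : ∀ h : p ∣ Nat.card N, Group.IsSolvable N := fun h => by
    haveI := hnil N hNt hN h
    infer_instance
  rw [Group.isSolvable_iff_subgroup_quotient N]
  by_cases hpQ : p ∣ Nat.card (G ⧸ N)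
  · refine ⟨?_, ih _ ?_ (G ⧸ N) rfl hcopQ hpQ fun X hX hXinv hpX => hpull X hX hXinv ?_⟩
    · by_cases hpN : p ∣ Nat.card N
      · exact hNsol hpN
      by_cases hp2 : p = 2
      · subst hp2
        exact Cfsg.Agent.S0205.result (Nat.not_even_iff_odd.1 fun h => hpN (even_iff_two_dvd.1 h))
      obtain ⟨P, hP⟩ := OddCond.exists_invariant_sylow (A := A) odd_solv odd_solv hcop p
      exact solvable_split hcop hnil hN hpN P.2 hP (P.dvd_card_of_dvd_card hpG)
    · rw [← hn, card_eq_card_quotient_mul_card_subgroup N]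
      exact lt_mul_of_one_lt_right Nat.card_pos ((one_lt_card_iff_ne_bot N).2 hNb)
    · refine hpX.trans ?_
      conv_lhs => rw [← map_comap_eq_self_of_surjective hπ X]
      exact card_map_dvd (X.comap π) π
  · have hpN : p ∣ Nat.card N := by
      rw [card_eq_card_quotient_mul_card_subgroup N] at hpG
      exact ((Fact.out : p.Prime).dvd_mul.1 hpG).resolve_left hpQ
    refine ⟨hNsol hpN, OddCond.isSolvable_of_invariant_nilpotent odd_solv odd_solv hcopQ
      fun X hX hXinv => hpull X hX hXinv (hpN.trans (card_dvd_of_le ?_))⟩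
    exact QuotientGroup.le_comap_mk' N X

/-- Let a finite group A act by automorphisms on a finite group G of order coprime to that of A, and let p be a prime dividing the order of G. If every maximal A-invariant proper subgroup of G whose order is divisible by p is nilpotent, then G is solvable. -/
theorem result {A G : Type*} [Group A] [Group G] [Finite A] [Finite G] [MulDistribMulAction A G]
    (hcop : (Nat.card A).Coprime (Nat.card G)) (p : ℕ) (hp : p.Prime) (hpG : p ∣ Nat.card G)
    (hmax : ∀ H : Subgroup G, H ≠ ⊤ → (∀ a : A, ∀ x ∈ H, a • x ∈ H) →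
      (∀ K : Subgroup G, H < K → (∀ a : A, ∀ x ∈ K, a • x ∈ K) → K = ⊤) → p ∣ Nat.card H → Group.IsNilpotent H) :
    Group.IsSolvable G := by
  haveI : Fact p.Prime := ⟨hp⟩
  exact main (A := A) p _ G rfl hcop hpG (nilAt_of_max p hmax)

end Cfsg.Agent.S4241
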