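import Cfsg.Statements.S4242
import Mathlib
import Cfsg.Agent.Lib.Transfer.Criteria
import Cfsg.Agent.Lib.NilpotentLocal.Basic

/-!
Groups all of whose maximal subgroups of order divisible by `p` are nilpotent.
-/

set_option autoImplicit false
open Cfsg

namespace Cfsg.Agent.S4242

open Subgroup

universe u

variable {G : Type u} [Group G]

theorem isNilpotent_of_le {X Y : Subgroup G} (h : X ≤ Y) (hY : Group.IsNilpotent Y) :
    Group.IsNilpotent X :=
  haveI := hY
  Group.nilpotent_of_mulEquiv (subgroupOfEquivOfLe h)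

/-- In a nilpotent subgroup, elements of order prime to `p` centralise the `p`-subgroups they
normalise. -/
theorem mem_centralizer_of_nilpotent [Finite G] {p : ℕ} [Fact p.Prime] {S R : Subgroup G}
    (hS : Group.IsNilpotent S) (hRS : R ≤ S) (hR : IsPGroup p R) {g : G} (hgS : g ∈ S)
    (hgR : g ∈ normalizer (R : Set G)) (hg : (orderOf g).Coprime p) :
    g ∈ centralizer (R : Set G) := by
  haveI := hS
  have h := Lib.Transfer.locallyPTrivial_of_hasNormalPComplement
    (Lib.NilpotentLocal.hasNormalPComplement_of_isNilpotent (G := S) p) (R.subgroupOf S)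
    hR.comap_subtype ⟨g, hgS⟩ (by
      rw [← subgroupOf_normalizer_eq hRS, mem_subgroupOf]
      exact hgR) (by rwa [← orderOf_coe])
  refine mem_centralizer_iff.mpr fun r hr => ?_
  exact congrArg Subtype.val (mem_centralizer_iff.mp h ⟨r, hRS hr⟩ hr)

theorem main_forward [Finite G] {p : ℕ} [Fact p.Prime] (hpG : p ∣ Nat.card G)
    (h : ∀ M : Subgroup G, IsCoatom M → p ∣ Nat.card M → Group.IsNilpotent M)
    (hG : ¬ Group.IsNilpotent G) :
    Cfsg.IsMinimalNonNilpotent G ∨ ∃ Z K : Subgroup G, Z.Normal ∧ K.Normal ∧ Z ⊓ K = ⊥ ∧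
      Z ⊔ K = ⊤ ∧ Nat.card Z = p ∧ Cfsg.IsMinimalNonNilpotent K ∧ ¬ p ∣ Nat.card K := by
  have hp : p.Prime := Fact.out
  have hsub : ∀ H : Subgroup G, H ≠ ⊤ → p ∣ Nat.card H → Group.IsNilpotent H := by
    intro H hH hpH
    obtain ⟨M, hM, hle⟩ := (eq_top_or_exists_le_coatom H).resolve_left hH
    exact isNilpotent_of_le hle (h M hM (hpH.trans (card_dvd_of_le hle)))
  by_cases hN : Cfsg.HasNormalPComplement p G
  · by_cases hall : ∀ H : Subgroup G, H ≠ ⊤ → Group.IsNilpotent H
    · exact Or.inl ⟨hG, hall⟩
    refine Or.inr ?_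
    push Not at hall
    obtain ⟨H, hH, hHn⟩ := hall
    obtain ⟨P, N, hNn, hc⟩ := hN
    haveI := hNn
    have hcardN : ¬ p ∣ Nat.card N := by
      rw [← hc.index_eq_card]
      exact P.not_dvd_index
    obtain ⟨e, he⟩ := P.2.exists_card_eq
    have hquot : Nat.card (G ⧸ N) = p ^ e := by
      rw [← Subgroup.index_eq_card, hc.symm.index_eq_card, he]
    have hmemN : ∀ g : G, (orderOf g).Coprime p → g ∈ N := by
      intro g hg
      rw [← QuotientGroup.eq_one_iff, ← orderOf_eq_one_iff]
      exact Nat.eq_one_of_dvd_coprimes (hg.pow_right e) (orderOf_map_dvd (QuotientGroup.mk' N) g)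
        (hquot ▸ orderOf_dvd_natCard _)
    have hHN : H ≤ N := fun g hg => hmemN g
      ((hp.coprime_iff_not_dvd.mpr fun hd => hHn (hsub H hH
        (hd.trans (H.orderOf_dvd_natCard hg)))).symm)
    have hNnil : ¬ Group.IsNilpotent N := fun hn => hHn (isNilpotent_of_le hHN hn)
    -- `P` centralises `N`
    have hPN : N ≤ centralizer ((P : Subgroup G) : Set G) := by
      have key : (centralizer ((P : Subgroup G) : Set G)).subgroupOf N = ⊤ := by
        refine eq_top_of_card_eq _ (Nat.dvd_antisymm (card_subgroup_dvd_card _) ?_)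
        refine (Nat.dvd_iff_prime_pow_dvd_dvd _ _).mpr fun q k hq hk => ?_
        haveI := Fact.mk hq
        obtain ⟨Q⟩ := (inferInstance : Nonempty (Sylow q N))
        refine (Q.pow_dvd_card_of_pow_dvd_card hk).trans ?_
        rcases eq_or_ne q p with rfl | hqp
        · obtain ⟨l, hl⟩ := Q.2.exists_card_eq
          rcases l with _ | l
          · simp [hl]
          · exact absurd ((dvd_pow_self q l.succ_ne_zero).trans
              (hl ▸ card_subgroup_dvd_card (Q : Subgroup N))) hcardN
        set Q' : Subgroup G := (Q : Subgroup N).map N.subtype with hQ'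
        set NQ : Subgroup G := normalizer (Q' : Set G) with hNQ
        have hsup : NQ ⊔ N = ⊤ := Sylow.normalizer_sup_eq_top Q
        obtain ⟨P₂⟩ := (inferInstance : Nonempty (Sylow p NQ))
        have hidx : ¬ p ∣ NQ.index := by
          intro hd
          refine hcardN (hd.trans ?_)
          have h1 : NQ.index = NQ.relIndex N := by
            have h2 : N.relIndex NQ = N.index := by
              rw [← relIndex_top_right N, ← hsup, relIndex_sup_right]
            have h3 := relIndex_mul_index (inf_le_right : N ⊓ NQ ≤ NQ)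
            have h4 := relIndex_mul_index (inf_le_left : N ⊓ NQ ≤ N)
            rw [inf_relIndex_right, h2] at h3
            rw [inf_comm N NQ, inf_relIndex_right] at h4
            rw [inf_comm N NQ] at h3
            rw [← h4, mul_comm] at h3
            exact Nat.eq_of_mul_eq_mul_right (Nat.pos_of_ne_zero N.index_ne_zero_of_finite) h3
          rw [h1]
          exact NQ.relIndex_dvd_card N
        set P' : Subgroup G := (P₂ : Subgroup NQ).map NQ.subtype with hP'
        have hP'p : IsPGroup p P' := P₂.2.map _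
        have hP'idx : ¬ p ∣ P'.index := by
          rw [hP', index_map_subtype]
          exact hp.not_dvd_mul P₂.not_dvd_index hidx
        have hS : Q' ⊔ P' ≠ ⊤ := by
          intro htop
          refine hNnil ?_
          have hle : N ≤ Q' := by
            intro n hn
            have hn' : n ∈ ((P' ⊔ Q' : Subgroup G) : Set G) := by
              rw [sup_comm, htop]; trivial
            rw [coe_mul_of_left_le_normalizer_right P' Q' (map_subtype_le _)] at hn'
            obtain ⟨a, ha, b, hb, rfl⟩ := hn'
            have haN : a ∈ N := (N.mul_mem_cancel_right (map_subtype_le _ hb)).mp hn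
            obtain ⟨m, hm⟩ := IsPGroup.iff_orderOf.mp hP'p ⟨a, ha⟩
            rw [← orderOf_coe] at hm
            have hd := N.orderOf_dvd_natCard haN
            rw [show orderOf a = p ^ m from hm] at hd
            rcases m with _ | m
            · rw [pow_zero] at hm
              simp only [show a = 1 from orderOf_eq_one_iff.mp hm, one_mul]
              exact hb
            · exact absurd ((dvd_pow_self p m.succ_ne_zero).trans hd) hcardN
          have hQn : Group.IsNilpotent Q' := (Q.2.map N.subtype).isNilpotent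
          exact isNilpotent_of_le hle hQn
        have hpP' : p ∣ Nat.card P' := by
          by_contra hd
          exact hp.not_dvd_mul hd hP'idx (P'.card_mul_index.symm ▸ hpG)
        have hnil : Group.IsNilpotent (Q' ⊔ P' : Subgroup G) :=
          hsub _ hS (hpP'.trans (card_dvd_of_le le_sup_right))
        have hcomm : Q' ≤ centralizer (P' : Set G) := by
          refine le_centralizer_iff.mp fun a ha => ?_
          refine mem_centralizer_of_nilpotent hnil le_sup_left (Q.2.map _) (mem_sup_right ha)
            (map_subtype_le _ ha) ?_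
          obtain ⟨m, hm⟩ := IsPGroup.iff_orderOf.mp hP'p ⟨a, ha⟩
          rw [← orderOf_coe] at hm
          rw [show orderOf a = p ^ m from hm]
          exact ((Nat.coprime_primes hp hq).mpr hqp.symm).pow_left m
        obtain ⟨g, hg⟩ := MulAction.exists_smul_eq G P (hP'p.toSylow hP'idx)
        have hg' : ∀ a ∈ (P : Subgroup G), g * a * g⁻¹ ∈ P' := by
          intro a ha
          have h1 : MulAut.conj g a ∈ ((g • P : Sylow p G) : Subgroup G) :=
            ⟨a, ha, rfl⟩
          rw [hg] at h1
          exact h1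
        have hmem : ∀ a : Q, g⁻¹ * ((a : N) : G) * g ∈ N := fun a => by
          simpa using hNn.conj_mem _ (a : N).2 g⁻¹
        have hmem2 : ∀ a : Q,
            (⟨_, hmem a⟩ : N) ∈ (centralizer ((P : Subgroup G) : Set G)).subgroupOf N := by
          intro a
          refine mem_subgroupOf.mpr (mem_centralizer_iff.mpr fun b hb => ?_)
          have h2 := mem_centralizer_iff.mp (hcomm (mem_map_of_mem N.subtype a.2)) _ (hg' b hb)
          calc b * (g⁻¹ * ((a : N) : G) * g)
              = g⁻¹ * ((g * b * g⁻¹) * ((a : N) : G)) * g := by group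
            _ = g⁻¹ * (((a : N) : G) * (g * b * g⁻¹)) * g := congrArg (fun z => g⁻¹ * z * g) h2
            _ = g⁻¹ * ((a : N) : G) * g * b := by group
        let f : Q →* (centralizer ((P : Subgroup G) : Set G)).subgroupOf N :=
          MonoidHom.mk' (fun a => ⟨⟨_, hmem a⟩, hmem2 a⟩) fun a b => by
            apply Subtype.ext
            apply Subtype.ext
            simp only [Subgroup.coe_mul]
            group
        refine card_dvd_of_injective f fun a b hab => ?_
        have h1 := Subtype.ext_iff.mp (Subtype.ext_iff.mp hab)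
        simp only [f, MonoidHom.mk'_apply, mul_left_inj, mul_right_inj] at h1
        exact Subtype.ext (Subtype.ext h1)
      exact subgroupOf_eq_top.mp key
    haveI hPn : (P : Subgroup G).Normal := by
      refine normalizer_eq_top_iff.mp (eq_top_iff.mpr ?_)
      rw [← hc.sup_eq_top]
      exact sup_le (hPN.trans (centralizer_le_normalizer _)) le_normalizer
    have hdisj : N ⊓ (P : Subgroup G) = ⊥ := hc.disjoint.eq_bot
    have hmod : ∀ X : Subgroup G, X ≤ N → X ⊔ (P : Subgroup G) = ⊤ → N ≤ X := by
      intro X hX htop n hn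
      have hn' : n ∈ ((X ⊔ (P : Subgroup G) : Subgroup G) : Set G) := by rw [htop]; trivial
      rw [Subgroup.mul_normal] at hn'
      obtain ⟨a, ha, b, hb, rfl⟩ := hn'
      have hbb : b ∈ N ⊓ (P : Subgroup G) := ⟨(N.mul_mem_cancel_left (hX ha)).mp hn, hb⟩
      rw [hdisj, mem_bot] at hbb
      simp only [hbb, mul_one]
      exact ha
    have hpP : p ∣ Nat.card P := P.dvd_card_of_dvd_card hpG
    have hPp : Nat.card P = p := by
      obtain ⟨z, hz⟩ := exists_prime_orderOf_dvd_card' p hpP
      rw [← orderOf_coe] at hz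
      set Z₀ : Subgroup G := zpowers (z : G) with hZ₀
      have hZP : Z₀ ≤ P := zpowers_le.mpr z.2
      by_contra hne
      refine hNnil ?_
      have hne' : N ⊔ Z₀ ≠ ⊤ := by
        intro htop
        refine hne ?_
        have hle : (P : Subgroup G) ≤ Z₀ := by
          intro a ha
          have ha' : a ∈ ((Z₀ ⊔ N : Subgroup G) : Set G) := by rw [sup_comm, htop]; trivial
          rw [Subgroup.mul_normal] at ha'
          obtain ⟨b, hb, c, hc', rfl⟩ := ha'
          have hcc : c ∈ N ⊓ (P : Subgroup G) :=
            ⟨hc', ((P : Subgroup G).mul_mem_cancel_left (hZP hb)).mp ha⟩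
          rw [hdisj, mem_bot] at hcc
          simp only [hcc, mul_one]
          exact hb
        rw [le_antisymm hle hZP, hZ₀, Nat.card_zpowers, hz]
      refine isNilpotent_of_le le_sup_left (hsub _ hne' ?_)
      rw [← hz, ← Nat.card_zpowers]
      exact card_dvd_of_le le_sup_right
    refine ⟨P, N, hPn, hNn, by rw [inf_comm]; exact hdisj, by rw [sup_comm]; exact hc.sup_eq_top,
      hPp, ⟨hNnil, fun K hK => ?_⟩, hcardN⟩
    have hne : K.map N.subtype ⊔ (P : Subgroup G) ≠ ⊤ := fun htop => hK (eq_top_iff.mpr fun n _ => by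
      obtain ⟨k, hk, hkn⟩ := hmod _ (map_subtype_le K) htop n.2
      rwa [← Subtype.ext hkn])
    haveI := isNilpotent_of_le (X := K.map N.subtype) le_sup_left
      (hsub _ hne (hpP.trans (card_dvd_of_le le_sup_right)))
    exact Group.nilpotent_of_mulEquiv (K.equivMapOfInjective _ N.subtype_injective).symm
  · refine Or.inl ⟨hG, fun H hH => ?_⟩
    obtain ⟨M, hM, hle⟩ := (eq_top_or_exists_le_coatom H).resolve_left hH
    refine isNilpotent_of_le hle ?_
    by_cases hpM : p ∣ Nat.card M
    · exact h M hM hpM
    rw [Lib.Transfer.hasNormalPComplement_iff_forall_normalizer] at hN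
    push Not at hN
    obtain ⟨R, hR, hR1, hRN⟩ := hN
    haveI hRn : R.Normal := by
      refine normalizer_eq_top_iff.mp (Classical.byContradiction fun hne => hRN ?_)
      haveI := hsub _ hne (by
        obtain ⟨m, hm⟩ := hR.exists_card_eq
        rcases m with _ | m
        · exact absurd (eq_bot_of_card_eq R (by simpa using hm)) hR1
        · exact (dvd_pow_self p m.succ_ne_zero).trans (hm ▸ card_dvd_of_le le_normalizer))
      exact Lib.NilpotentLocal.hasNormalPComplement_of_isNilpotent p
    have hpR : p ∣ Nat.card R := by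
      obtain ⟨m, hm⟩ := hR.exists_card_eq
      rcases m with _ | m
      · exact absurd (eq_bot_of_card_eq R (by simpa using hm)) hR1
      · exact hm ▸ dvd_pow_self p m.succ_ne_zero
    have hMR : M ⊔ R = ⊤ := hM.2 _ (left_lt_sup.mpr fun hle' =>
      hpM (hpR.trans (card_dvd_of_le hle')))
    by_contra hMn
    have hMC : M ≤ centralizer (R : Set G) := by
      intro m hm
      have hZ : zpowers m ⊔ R ≠ ⊤ := by
        intro htop
        refine hMn ?_
        have hle' : M ≤ zpowers m := by
          intro a ha
          have ha' : a ∈ ((zpowers m ⊔ R : Subgroup G) : Set G) := by rw [htop]; trivial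
          rw [Subgroup.mul_normal] at ha'
          obtain ⟨b, hb, c, hc, rfl⟩ := ha'
          have hbM : b ∈ M := (zpowers_le.mpr hm) hb
          have hcM : c ∈ M := (M.mul_mem_cancel_left hbM).mp ha
          obtain ⟨k, hk⟩ := IsPGroup.iff_orderOf.mp hR ⟨c, hc⟩
          rw [← orderOf_coe] at hk
          have hd := M.orderOf_dvd_natCard hcM
          rw [show orderOf c = p ^ k from hk] at hd
          rcases k with _ | k
          · rw [pow_zero] at hk
            simp only [show c = 1 from orderOf_eq_one_iff.mp hk, mul_one]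
            exact hb
          · exact absurd ((dvd_pow_self p k.succ_ne_zero).trans hd) hpM
        exact isNilpotent_of_le hle' (open scoped IsMulCommutative in inferInstance)
      refine mem_centralizer_of_nilpotent (hsub _ hZ (hpR.trans (card_dvd_of_le le_sup_right)))
        le_sup_right hR (mem_sup_left (mem_zpowers m)) (by rw [normalizer_eq_top]; trivial) ?_
      exact (hp.coprime_iff_not_dvd.mpr fun hd => hpM (hd.trans (M.orderOf_dvd_natCard hm))).symm
    haveI hMnormal : M.Normal := by
      refine normalizer_eq_top_iff.mp (eq_top_iff.mpr ?_)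
      rw [← hMR]
      exact sup_le le_normalizer
        ((le_centralizer_iff.mp hMC).trans (centralizer_le_normalizer _))
    refine hRN (Lib.Transfer.hasNormalPComplement_subgroup
      (Lib.Transfer.hasNormalPComplement_of_isPGroup_quotient M hpM ?_) _)
    intro z
    obtain ⟨g, rfl⟩ := QuotientGroup.mk'_surjective M z
    have hg : g ∈ ((R ⊔ M : Subgroup G) : Set G) := by rw [sup_comm, hMR]; trivial
    rw [Subgroup.mul_normal] at hg
    obtain ⟨r, hr, m, hm, rfl⟩ := hg
    obtain ⟨k, hk⟩ := hR ⟨r, hr⟩
    refine ⟨k, ?_⟩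
    rw [map_mul, show QuotientGroup.mk' M m = 1 from (QuotientGroup.eq_one_iff m).mpr hm, mul_one,
      ← map_pow, show r ^ p ^ k = 1 from congrArg Subtype.val hk, map_one]

theorem main_backward [Finite G] {p : ℕ} [Fact p.Prime] {Z K : Subgroup G} (hZ : Z.Normal)
    (hK : K.Normal) (hdisj : Z ⊓ K = ⊥) (htop : Z ⊔ K = ⊤) (hZp : Nat.card Z = p)
    (hKmin : Cfsg.IsMinimalNonNilpotent K) (hpK : ¬ p ∣ Nat.card K) (M : Subgroup G)
    (hM : IsCoatom M) (hpM : p ∣ Nat.card M) : Group.IsNilpotent M := by
  have hp : p.Prime := Fact.out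
  haveI := hZ
  haveI := hK
  obtain ⟨z, hz⟩ := exists_prime_orderOf_dvd_card' p hpM
  rw [← orderOf_coe] at hz
  have hKZ : IsPGroup p Z := IsPGroup.of_card (n := 1) (by rw [hZp, pow_one])
  have hzZ : (z : G) ∈ Z := by
    have hzp : (z : G) ∈ ((Z ⊔ K : Subgroup G) : Set G) := by rw [htop]; trivial
    rw [Subgroup.mul_normal] at hzp
    obtain ⟨a, ha, b, hb, hab⟩ := hzp
    have hab' : a * b = (z : G) := hab
    have hc : Commute a b := commute_of_normal_of_disjoint Z K hZ hK
      (disjoint_iff.mpr hdisj) a b ha hb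
    have h1 : a ^ p * b ^ p = 1 := by rw [← hc.mul_pow, hab', ← hz, pow_orderOf_eq_one]
    have h2 : a ^ p = 1 := by
      have h3 := congrArg Subtype.val (pow_card_eq_one' (x := (⟨a, ha⟩ : Z)))
      rw [hZp] at h3
      simpa using h3
    rw [h2, one_mul] at h1
    have hb1 : b = 1 := orderOf_eq_one_iff.mp (Nat.eq_one_of_dvd_coprimes
      (hp.coprime_iff_not_dvd.mpr hpK) (orderOf_dvd_of_pow_eq_one h1) (K.orderOf_dvd_natCard hb))
    rw [← hab', hb1, mul_one]
    exact ha
  have hZM : Z ≤ M := by
    have heq : zpowers (z : G) = Z := eq_of_le_of_card_ge (zpowers_le.mpr hzZ)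
      (by rw [Nat.card_zpowers, hz, hZp])
    exact heq ▸ zpowers_le.mpr z.2
  have hMK : M ⊓ K ≠ K := fun heq => hM.1 (top_le_iff.mp (htop ▸ sup_le hZM
    (heq ▸ inf_le_left)))
  haveI : Group.IsNilpotent (M ⊓ K : Subgroup G) := by
    haveI := hKmin.2 ((M ⊓ K).subgroupOf K) (fun h => hMK (le_antisymm inf_le_right
      (subgroupOf_eq_top.mp h)))
    exact Group.nilpotent_of_mulEquiv (subgroupOfEquivOfLe inf_le_right)
  have hcentral : ∀ a ∈ Z, ∀ g : G, g * a = a * g := by
    intro a ha g
    have hg : g ∈ ((Z ⊔ K : Subgroup G) : Set G) := by rw [htop]; trivial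
    rw [Subgroup.mul_normal] at hg
    obtain ⟨b, hb, c, hc, rfl⟩ := hg
    haveI : IsCyclic Z := isCyclic_of_prime_card hZp
    have h1 : b * a = a * b := by
      obtain ⟨w, hw⟩ := IsCyclic.exists_generator (α := Z)
      obtain ⟨i, hi⟩ := mem_zpowers_iff.mp (hw ⟨a, ha⟩)
      obtain ⟨j, hj⟩ := mem_zpowers_iff.mp (hw ⟨b, hb⟩)
      have h3 : (⟨b, hb⟩ : Z) * ⟨a, ha⟩ = ⟨a, ha⟩ * ⟨b, hb⟩ := by
        rw [← hi, ← hj, ← zpow_add, ← zpow_add, add_comm]
      exact congrArg Subtype.val h3
    have h2 : c * a = a * c :=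
      (commute_of_normal_of_disjoint Z K hZ hK (disjoint_iff.mpr hdisj) a c ha hc).eq.symm
    rw [mul_assoc, h2, ← mul_assoc, h1, mul_assoc]
  set f : M →* G ⧸ Z := (QuotientGroup.mk' Z).comp M.subtype with hf
  let g : (M ⊓ K : Subgroup G) →* f.range :=
    (f.comp (inclusion inf_le_left)).codRestrict f.range fun x => ⟨_, rfl⟩
  have hg : Function.Surjective g := by
    rintro ⟨_, m, rfl⟩
    have hm : (m : G) ∈ ((Z ⊔ K : Subgroup G) : Set G) := by rw [htop]; trivial
    rw [Subgroup.mul_normal] at hm
    obtain ⟨a, ha, b, hb, hab⟩ := hm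
    have hab' : a * b = (m : G) := hab
    have hbM : b ∈ M := (M.mul_mem_cancel_left (hZM ha)).mp (hab' ▸ m.2)
    refine ⟨⟨b, hbM, hb⟩, Subtype.ext ?_⟩
    change QuotientGroup.mk' Z b = QuotientGroup.mk' Z (m : G)
    rw [← hab', map_mul, show QuotientGroup.mk' Z a = 1 from (QuotientGroup.eq_one_iff a).mpr ha,
      one_mul]
  haveI : Group.IsNilpotent f.range := Group.nilpotent_of_surjective g hg
  refine Subgroup.isNilpotent_of_ker_le_center f.rangeRestrict ?_
  intro a ha
  rw [MonoidHom.ker_rangeRestrict] at ha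
  exact mem_center_iff.mpr fun b =>
    Subtype.ext (hcentral _ ((QuotientGroup.eq_one_iff (a : G)).mp ha) b)

/-- Let G be a finite group and p a prime dividing its order. Every maximal subgroup of G of order divisible by p is nilpotent if and only if G is nilpotent, or G is a minimal non-nilpotent group, or G is the internal direct product of a normal subgroup of order p and a normal minimal non-nilpotent subgroup of order prime to p. -/
theorem result {G : Type*} [Group G] [Finite G] (p : ℕ) (hp : p.Prime) (hpG : p ∣ Nat.card G) :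
    (∀ M : Subgroup G, IsCoatom M → p ∣ Nat.card M → Group.IsNilpotent M) ↔
      (Group.IsNilpotent G ∨ Cfsg.IsMinimalNonNilpotent G ∨
        ∃ Z K : Subgroup G, Z.Normal ∧ K.Normal ∧ Z ⊓ K = ⊥ ∧ Z ⊔ K = ⊤ ∧ Nat.card Z = p ∧
          Cfsg.IsMinimalNonNilpotent K ∧ ¬ p ∣ Nat.card K) := by
  haveI := Fact.mk hp
  refine ⟨fun h => ?_, ?_⟩
  · by_cases hG : Group.IsNilpotent G
    · exact Or.inl hG
    · exact Or.inr (main_forward hpG h hG)
  · rintro (hG | hG | ⟨Z, K, hZ, hK, h1, h2, h3, h4, h5⟩) M hM hpM
    · haveI := hG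
      infer_instance
    · exact hG.2 M hM.1
    · exact main_backward hZ hK h1 h2 h3 h4 h5 M hM hpM

end Cfsg.Agent.S4242
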