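import Cfsg.Statements.S4244
import Mathlib

set_option autoImplicit false
open Cfsg

namespace Cfsg.Agent.S4244

theorem relIndex_dvd_index_normal {G : Type*} [Group G] [Finite G] (H K : Subgroup G) [H.Normal] :
    K.relIndex H ∣ K.index := by
  have h1 : (H ⊓ K).relIndex H * H.index = (H ⊓ K).index := Subgroup.relIndex_mul_index inf_le_left
  have h2 : (H ⊓ K).relIndex K * K.index = (H ⊓ K).index := Subgroup.relIndex_mul_index inf_le_right
  rw [Subgroup.inf_relIndex_left] at h1
  rw [Subgroup.inf_relIndex_right] at h2
  obtain ⟨c, hc⟩ := Subgroup.relIndex_dvd_index_of_normal H K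
  have hne : H.relIndex K ≠ 0 := Subgroup.index_ne_zero_of_finite
  refine ⟨c, mul_left_cancel₀ hne ?_⟩
  calc H.relIndex K * K.index = (H ⊓ K).index := h2
    _ = K.relIndex H * H.index := h1.symm
    _ = H.relIndex K * (K.relIndex H * c) := by rw [hc]; ring

/-- Let H be a subnormal subgroup of a finite group G. Then for every subgroup K of G the index of H ∩ K in H divides the index of K in G. -/
theorem result {G : Type*} [Group G] [Finite G] (H : Subgroup G) (hH : H.IsSubnormal) (K : Subgroup G) :
    (H ⊓ K).relIndex H ∣ K.index := by
  rw [Subgroup.inf_relIndex_left]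
  induction hH with
  | top => simp
  | step H L hle _ hN ih =>
    haveI := hN
    have := relIndex_dvd_index_normal (H.subgroupOf L) (K.subgroupOf L)
    rw [Subgroup.relIndex_subgroupOf hle] at this
    exact this.trans ih

end Cfsg.Agent.S4244
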