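import Cfsg.Statements.S4245
import Mathlib
import Cfsg.Agent.Lib.Burnside.Paqb

set_option autoImplicit false
open Cfsg

namespace Cfsg.Agent.S4245

universe u

/-- A group with a cyclic normal subgroup whose quotient is a cyclic 2-group. -/
def CycByTwo (A : Type*) [Group A] : Prop :=
  ∃ (K : Subgroup A) (_ : K.Normal), IsCyclic K ∧ IsCyclic (A ⧸ K) ∧ IsPGroup 2 (A ⧸ K)

theorem CycByTwo.of_surjective {A A' : Type*} [Group A] [Group A'] {f : A →* A'}
    (hf : Function.Surjective f) (h : CycByTwo A) : CycByTwo A' := by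
  obtain ⟨K, hKn, hK, hQ, h2⟩ := h
  haveI := hKn
  haveI : (K.map f).Normal := hKn.map f hf
  have hs : Function.Surjective
      (QuotientGroup.map K (K.map f) f (Subgroup.le_comap_map f K)) := by
    intro y
    obtain ⟨y, rfl⟩ := QuotientGroup.mk_surjective y
    obtain ⟨x, rfl⟩ := hf y
    exact ⟨x, rfl⟩
  exact ⟨K.map f, inferInstance, isCyclic_of_surjective (f.subgroupMap K) (f.subgroupMap_surjective K),
    isCyclic_of_surjective _ hs, h2.of_surjective _ hs⟩

theorem CycByTwo.of_injective {A A' : Type*} [Group A] [Group A'] {f : A' →* A}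
    (hf : Function.Injective f) (h : CycByTwo A) : CycByTwo A' := by
  obtain ⟨K, hKn, hK, hQ, h2⟩ := h
  haveI := hKn
  haveI := hK
  have hi : Function.Injective (QuotientGroup.map (K.comap f) K f le_rfl) := by
    rw [← MonoidHom.ker_eq_bot_iff, eq_bot_iff]
    intro x hx
    obtain ⟨x, rfl⟩ := QuotientGroup.mk_surjective x
    refine Subgroup.mem_bot.mpr ((QuotientGroup.eq_one_iff x).mpr ?_)
    exact (QuotientGroup.eq_one_iff (f x)).mp hx
  refine ⟨K.comap f, inferInstance,
    isCyclic_of_injective (f.subgroupComap K) ?_,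
    isCyclic_of_injective _ hi, h2.of_injective _ hi⟩
  intro x y hxy
  exact Subtype.ext (hf (congrArg Subtype.val hxy))

theorem CycByTwo.isSolvable {A : Type*} [Group A] (h : CycByTwo A) : Group.IsSolvable A := by
  obtain ⟨K, hKn, hK, hQ, -⟩ := h
  haveI := hKn
  haveI : IsMulCommutative K := IsCyclic.isMulCommutative
  haveI : IsMulCommutative (A ⧸ K) := IsCyclic.isMulCommutative
  haveI : Group.IsSolvable K := Group.isSolvable_of_comm fun a b => mul_comm' a b
  haveI : Group.IsSolvable (A ⧸ K) := Group.isSolvable_of_comm fun a b => mul_comm' a b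
  exact Group.isSolvable_of_ker_le_range K.subtype (QuotientGroup.mk' K)
    (by rw [QuotientGroup.ker_mk', Subgroup.range_subtype])

theorem relIndex_dvd_index {G : Type*} [Group G] [Finite G] (A N : Subgroup G) [N.Normal] :
    A.relIndex N ∣ A.index := by
  have ha : (A ⊓ N).relIndex N * N.index = (A ⊓ N).index :=
    Subgroup.relIndex_mul_index inf_le_right
  have hb : (A ⊓ N).relIndex A * A.index = (A ⊓ N).index :=
    Subgroup.relIndex_mul_index inf_le_left
  rw [Subgroup.inf_relIndex_right] at ha
  rw [Subgroup.inf_relIndex_left] at hb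
  obtain ⟨c, hc⟩ := Subgroup.relIndex_dvd_index_of_normal N A
  have hne : N.relIndex A ≠ 0 := Subgroup.index_ne_zero_of_finite
  refine ⟨c, mul_left_cancel₀ hne ?_⟩
  calc N.relIndex A * A.index = (A ⊓ N).index := hb
    _ = A.relIndex N * N.index := ha.symm
    _ = N.relIndex A * (A.relIndex N * c) := by rw [hc]; ring

/-- In a simple group with trivial centre no non-identity element is centralized by a subgroup
of prime-power index. -/
theorem eq_one_of_le_centralizer {G : Type u} [Group G] [Finite G] [IsSimpleGroup G]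
    (hZ : Subgroup.center G = ⊥) {A : Subgroup G} {p s : ℕ} (hp : p.Prime) (hA : A.index = p ^ s)
    {g : G} (hg : A ≤ Subgroup.centralizer ({g} : Set G)) : g = 1 := by
  obtain ⟨k, -, hk⟩ := (Nat.dvd_prime_pow hp).mp (hA ▸ Subgroup.index_dvd_of_le hg)
  rcases Nat.eq_zero_or_pos k with hk0 | hk0
  · rw [hk0, pow_zero, Subgroup.index_eq_one] at hk
    refine Subgroup.mem_bot.mp (hZ ▸ (Subgroup.mem_center_iff.mpr fun w => ?_))
    exact Subgroup.mem_centralizer_singleton_iff.mp (hk ▸ Subgroup.mem_top w)
  · exact absurd ((Cfsg.Agent.Lib.Chars.card_conjClass_eq_index g).trans hk)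
      (Cfsg.Agent.Lib.Burnside.class_card_ne_prime_pow hp hk0)

theorem false_of_simple {G : Type u} [Group G] [Finite G] [IsSimpleGroup G]
    (hns : ¬ Group.IsSolvable G) (A : Subgroup G) {p s : ℕ} (hp : p.Prime) (hA : A.index = p ^ s)
    (h : CycByTwo A) : False := by
  have hZ : Subgroup.center G = ⊥ := by
    refine ((inferInstance : (Subgroup.center G).Normal).eq_bot_or_eq_top).resolve_right fun h' => hns ?_
    exact Group.isSolvable_of_comm fun a b => Subgroup.mem_center_iff.mp (h' ▸ Subgroup.mem_top b) a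
  -- the centre of `A` is trivial
  have hcen : ∀ z : A, (∀ a : A, a * z = z * a) → z = 1 := fun z hz => Subtype.ext
    (eq_one_of_le_centralizer hZ hp hA fun a ha =>
      Subgroup.mem_centralizer_singleton_iff.mpr (congrArg Subtype.val (hz ⟨a, ha⟩)))
  obtain ⟨K, hKn, hK, hQ, h2⟩ := h
  haveI := hKn
  haveI := hK
  haveI := hQ
  -- `K` has odd order
  have hKodd : ¬ 2 ∣ Nat.card K := by
    intro hd
    obtain ⟨t, ht⟩ := exists_prime_orderOf_dvd_card' 2 hd
    have ht1 : (t : A) ≠ 1 := by
      intro h1
      rw [(Subtype.ext h1 : t = 1), orderOf_one] at ht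
      norm_num at ht
    refine ht1 (hcen _ fun a => ?_)
    let u : K := ⟨a * t * a⁻¹, hKn.conj_mem _ t.2 a⟩
    have hu : orderOf u = 2 := by
      rw [← Subgroup.orderOf_coe, ← ht, ← Subgroup.orderOf_coe t]
      exact (MulEquiv.orderOf_eq (MulAut.conj a) (t : A))
    haveI : Fintype K := Fintype.ofFinite K
    have h1 := IsCyclic.card_orderOf_eq_totient (α := K) (d := 2) (by
      rw [← Nat.card_eq_fintype_card]; exact hd)
    rw [Nat.totient_two] at h1
    have hval : u = t := Finset.card_le_one.mp h1.le u (Finset.mem_filter.mpr ⟨Finset.mem_univ _, hu⟩)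
      t (Finset.mem_filter.mpr ⟨Finset.mem_univ _, ht⟩)
    have := congrArg Subtype.val hval
    exact mul_inv_eq_iff_eq_mul.mp this
  have hK0 : Nontrivial K := by
    rw [Subgroup.nontrivial_iff_ne_bot]
    intro hK0
    have hinj : Function.Injective (QuotientGroup.mk' K) := by
      rw [← MonoidHom.ker_eq_bot_iff, QuotientGroup.ker_mk', hK0]
    have hAbot : A = ⊥ := by
      rw [eq_bot_iff]
      intro a ha
      haveI : IsMulCommutative (A ⧸ K) := IsCyclic.isMulCommutative
      exact Subgroup.mem_bot.mpr (congrArg Subtype.val (hcen ⟨a, ha⟩ fun b => hinj (by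
        rw [map_mul, map_mul, mul_comm'])))
    rw [hAbot, Subgroup.index_bot] at hA
    haveI : Fact p.Prime := ⟨hp⟩
    haveI := (IsPGroup.of_card hA).isNilpotent
    exact hns inferInstance
  by_cases hp2 : p = 2
  · obtain ⟨z, hz⟩ := exists_ne (1 : K)
    obtain ⟨r, hr⟩ := IsPGroup.iff_card.mp h2
    have hidx : (K.map A.subtype).index = 2 ^ (r + s) := by
      rw [Subgroup.index_map_subtype, Subgroup.index_eq_card, hr, hA, hp2, pow_add]
    haveI : IsMulCommutative K := IsCyclic.isMulCommutative
    have : ((z : A) : G) = 1 := eq_one_of_le_centralizer hZ Nat.prime_two hidx (by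
      rintro _ ⟨a, ha, rfl⟩
      rw [Subgroup.mem_centralizer_singleton_iff]
      exact congrArg (fun w : K => ((w : A) : G)) (mul_comm' (⟨a, ha⟩ : K) z))
    exact hz (Subtype.ext (Subtype.ext this))
  · obtain ⟨S⟩ : Nonempty (Sylow 2 A) := inferInstance
    haveI hScyc : IsCyclic (S : Subgroup A) := by
      refine isCyclic_of_injective ((QuotientGroup.mk' K).comp (S : Subgroup A).subtype) ?_
      rw [← MonoidHom.ker_eq_bot_iff, eq_bot_iff]
      intro x hx
      have hxK : ((x : (S : Subgroup A)) : A) ∈ K := (QuotientGroup.eq_one_iff _).mp hx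
      obtain ⟨k, hk⟩ := S.isPGroup' x
      have ho : orderOf (⟨_, hxK⟩ : K) = 1 := by
        refine Nat.eq_one_of_dvd_coprimes (a := 2 ^ k) (b := Nat.card K)
          (Nat.Coprime.pow_left k ((Nat.prime_two.coprime_iff_not_dvd).mpr hKodd)) ?_
          (orderOf_dvd_natCard _)
        rw [← Subgroup.orderOf_coe]
        exact orderOf_dvd_of_pow_eq_one (congrArg Subtype.val hk)
      have := orderOf_eq_one_iff.mp ho
      exact Subgroup.mem_bot.mpr (Subtype.ext (congrArg (fun w : K => (w : A)) this))
    have hndvd : ¬ 2 ∣ ((S : Subgroup A).map A.subtype).index := by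
      rw [Subgroup.index_map_subtype, Nat.prime_two.dvd_mul]
      rintro (h | h)
      · exact S.not_dvd_index h
      · rw [hA] at h
        exact hp2 ((Nat.prime_dvd_prime_iff_eq Nat.prime_two hp).mp (Nat.prime_two.dvd_of_dvd_pow h)).symm
    let T : Sylow 2 G := (S.isPGroup'.map A.subtype).toSylow hndvd
    have hTcyc : IsCyclic (T : Subgroup G) := by
      have hTc : (T : Subgroup G) = (S : Subgroup A).map A.subtype := rfl
      rw [hTc]
      exact isCyclic_of_surjective _ (A.subtype.subgroupMap_surjective (S : Subgroup A))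
    by_cases h2G : 2 ∣ Nat.card G
    · have hmin : (Nat.card G).minFac = 2 := (Nat.minFac_eq_two_iff _).mpr h2G
      have hc := hTcyc.isComplement' hmin
      rcases ((inferInstance : (MonoidHom.transferSylow T (hTcyc.normalizer_le_centralizer hmin)).ker.Normal)).eq_bot_or_eq_top with h | h
      · rw [h, Subgroup.isComplement'_bot_left] at hc
        haveI : Fact (Nat.Prime 2) := ⟨Nat.prime_two⟩
        have hG2 : IsPGroup 2 G := fun g => by
          obtain ⟨k, hk⟩ := T.isPGroup' ⟨g, hc ▸ Subgroup.mem_top g⟩
          exact ⟨k, congrArg Subtype.val hk⟩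
        haveI := hG2.isNilpotent
        exact hns inferInstance
      · rw [h, Subgroup.isComplement'_top_left] at hc
        have := T.not_dvd_index
        rw [hc, Subgroup.index_bot] at this
        exact this h2G
    · -- `G` has odd order, so `A = K` is abelian
      haveI : IsMulCommutative K := IsCyclic.isMulCommutative
      have hAK : ∀ a : A, a ∈ K := by
        intro a
        rw [← QuotientGroup.eq_one_iff]
        obtain ⟨r, hr⟩ := h2 a
        refine orderOf_eq_one_iff.mp (Nat.eq_one_of_dvd_coprimes (a := 2 ^ r) (b := Nat.card G)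
          (Nat.Coprime.pow_left r ((Nat.prime_two.coprime_iff_not_dvd).mpr h2G))
          (orderOf_dvd_of_pow_eq_one hr) ?_)
        exact (orderOf_map_dvd (QuotientGroup.mk' K) a).trans
          ((Subgroup.orderOf_coe a).symm ▸ orderOf_dvd_natCard (a : G))
      obtain ⟨z, hz⟩ := exists_ne (1 : K)
      exact hz (Subtype.ext (hcen _ fun a => congrArg Subtype.val (mul_comm' (⟨a, hAK a⟩ : K) z)))

theorem isSolvable_of_cycByTwo {G : Type u} [Group G] [Finite G] {p : ℕ} (hp : p.Prime) :
    ∀ (A : Subgroup G) (s : ℕ), A.index = p ^ s → CycByTwo A → Group.IsSolvable G := by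
  induction hn : Nat.card G using Nat.strong_induction_on generalizing G with
  | _ n ih =>
    intro A s hA h
    by_cases hs : ∃ N : Subgroup G, N.Normal ∧ N ≠ ⊥ ∧ N ≠ ⊤
    · obtain ⟨N, hN, hbot, htop⟩ := hs
      have hNlt : Nat.card N < n := by
        rw [← hn]
        exact Nat.lt_of_le_of_ne (Subgroup.card_le_card_group N)
          (fun h => htop (Subgroup.eq_top_of_card_eq _ h))
      have hQlt : Nat.card (G ⧸ N) < n := by
        rw [← hn, Subgroup.card_eq_card_quotient_mul_card_subgroup N]
        exact lt_mul_of_one_lt_right Nat.card_pos ((Subgroup.one_lt_card_iff_ne_bot N).mpr hbot)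
      obtain ⟨s₁, -, hs₁⟩ := (Nat.dvd_prime_pow hp).mp (hA ▸ relIndex_dvd_index A N)
      have hN' : CycByTwo (A.subgroupOf N) := by
        let f : A.subgroupOf N →* A :=
          { toFun := fun x => ⟨((x : N) : G), x.2⟩
            map_one' := rfl
            map_mul' := fun _ _ => rfl }
        exact h.of_injective (f := f) fun x y hxy =>
          Subtype.ext (Subtype.ext (congrArg (fun w : A => (w : G)) hxy))
      have := ih _ hNlt rfl (A.subgroupOf N) s₁ hs₁ hN'
      obtain ⟨s₂, -, hs₂⟩ := (Nat.dvd_prime_pow hp).mp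
        (hA ▸ Subgroup.index_map_dvd A (QuotientGroup.mk'_surjective N))
      have := ih _ hQlt rfl _ s₂ hs₂
        (h.of_surjective (f := (QuotientGroup.mk' N).subgroupMap A) (MonoidHom.subgroupMap_surjective _ A))
      exact Group.isSolvable_of_ker_le_range N.subtype (QuotientGroup.mk' N)
        (by rw [QuotientGroup.ker_mk', Subgroup.range_subtype])
    · by_contra hns
      rcases subsingleton_or_nontrivial G with hG1 | hG1
      · exact hns (Group.isSolvable_of_comm fun a b => Subsingleton.elim _ _)
      · push Not at hs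
        haveI : IsSimpleGroup G := ⟨fun N hN => or_iff_not_imp_left.mpr (hs N hN)⟩
        exact false_of_simple hns A hp hA h

/-- Let G be a finite group with a subgroup A of prime-power index. Suppose A has a normal cyclic subgroup B such that A/B is cyclic of order a power of 2. Then G is solvable. -/
theorem result {G : Type*} [Group G] [Finite G] (A : Subgroup G) (p s : ℕ) (hp : p.Prime) (hA : A.index = p ^ s)
    (B : Subgroup A) [B.Normal] (hB : IsCyclic B) (hAB : IsCyclic (A ⧸ B)) (r : ℕ) (hr : Nat.card (A ⧸ B) = 2 ^ r) :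
    Group.IsSolvable G := by
  exact isSolvable_of_cycByTwo hp A s hA
    ⟨B, inferInstance, hB, hAB, IsPGroup.of_card hr⟩

end Cfsg.Agent.S4245
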