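import Cfsg.Statements.S4250
import Mathlib
import Cfsg.Agent.Lib.AlperinTame.Basic

/-!
The focal subgroup through tame intersections.
-/

set_option autoImplicit false
open Cfsg

namespace Cfsg.Agent.S4250

open Subgroup
open scoped commutatorElement
open Cfsg.Agent.Lib.AlperinTame

theorem telescope {G : Type*} [Group G] {p : ℕ} {P : Sylow p G} {R : Subgroup G}
    (hP : ⁅(P : Subgroup G), normalizer ((P : Subgroup G) : Set G)⁆ ≤ R)
    (hstep : ∀ Q : Sylow p G, Tame P Q → ∀ x : G,
      x ∈ normalizer (((P : Subgroup G) ⊓ (Q : Subgroup G) : Subgroup G) : Set G) →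
      (∃ k : ℕ, orderOf x = p ^ k) → ⁅(P : Subgroup G) ⊓ (Q : Subgroup G), zpowers x⁆ ≤ R)
    {A : Set G} {g : G} (h : TameSteps P A g) : ∀ a ∈ A, a⁻¹ * (g⁻¹ * a * g) ∈ R := by
  induction h with
  | nil A => intro a _; simp
  | cons Q x hQ hA hx hxp _ ih =>
    rename_i A g h'
    intro a ha
    have h1 : a⁻¹ * (x⁻¹ * a * x) ∈ R := by
      have hc : a⁻¹ * (x⁻¹ * a * x) = ⁅a⁻¹, x⁻¹⁆ := by rw [commutatorElement_def]; group
      rw [hc]
      rcases hxp with hQP | hk
      · refine hP (commutator_mem_commutator (inv_mem (hA ha).1) (inv_mem ?_))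
        rw [hQP, inf_idem] at hx
        exact hx
      · exact hstep Q hQ x hx hk
          (commutator_mem_commutator (inv_mem (hA ha)) (inv_mem (mem_zpowers x)))
    have h2 := ih (x⁻¹ * a * x) ⟨a, ha, rfl⟩
    have := R.mul_mem h1 h2
    rwa [show a⁻¹ * (x⁻¹ * a * x) * ((x⁻¹ * a * x)⁻¹ * (g⁻¹ * (x⁻¹ * a * x) * g)) =
      a⁻¹ * ((x * g)⁻¹ * a * (x * g)) by group] at this

/-- Let P be a Sylow p-subgroup of a finite group G. Call an intersection H = P ∩ Q with a Sylow p-subgroup Q tame when N_P(H) and N_Q(H) are Sylow p-subgroups of N_G(H). Then P ∩ G′ is generated by [P, N_G(P)] together with the commutator subgroups [P ∩ Q, ⟨x⟩] for all tame intersections P ∩ Q and all p-elements x of N_G(P ∩ Q). -/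
theorem result {G : Type*} [Group G] [Finite G] (p : ℕ) [Fact p.Prime] (P : Sylow p G) :
    (P : Subgroup G) ⊓ commutator G =
      ⁅(P : Subgroup G), Subgroup.normalizer ((P : Subgroup G) : Set G)⁆ ⊔
        ⨆ (Q : Sylow p G) (_ : (¬ p ∣ ((P : Subgroup G) ⊓ Subgroup.normalizer (((P : Subgroup G) ⊓ (Q : Subgroup G) : Subgroup G) : Set G)).relIndex (Subgroup.normalizer (((P : Subgroup G) ⊓ (Q : Subgroup G) : Subgroup G) : Set G)) ∧ ¬ p ∣ ((Q : Subgroup G) ⊓ Subgroup.normalizer (((P : Subgroup G) ⊓ (Q : Subgroup G) : Subgroup G) : Set G)).relIndex (Subgroup.normalizer (((P : Subgroup G) ⊓ (Q : Subgroup G) : Subgroup G) : Set G))))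
          (x : G) (_ : x ∈ Subgroup.normalizer (((P : Subgroup G) ⊓ (Q : Subgroup G) : Subgroup G) : Set G) ∧ ∃ k : ℕ, orderOf x = p ^ k),
          ⁅(P : Subgroup G) ⊓ (Q : Subgroup G), Subgroup.zpowers x⁆ := by
  apply le_antisymm
  · rw [inf_comm, Subgroup.commutator_inf_eq_focalSubgroup P, Subgroup.focalSubgroup_def,
      closure_le]
    rintro _ ⟨hmem, x, hx, u, rfl⟩
    have hu : u * x⁻¹ * u⁻¹ ∈ (P : Subgroup G) := by
      have := mul_mem (inv_mem hx) hmem
      simpa [commutatorElement_def, mul_assoc] using this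
    have hsteps := exists_tameSteps P {x⁻¹} u⁻¹ (Set.singleton_subset_iff.mpr (inv_mem hx))
      (by
        rw [rightConj, Set.image_singleton, Set.singleton_subset_iff, inv_inv]
        exact hu)
    have h := telescope (P := P) le_sup_left (fun Q hQ y hy hk => le_sup_of_le_right ((le_iSup₂_of_le Q hQ (by
        exact le_iSup₂ (f := fun (x : G) (_ : x ∈ normalizer (((P : Subgroup G) ⊓ (Q : Subgroup G) : Subgroup G) : Set G) ∧ ∃ k : ℕ, orderOf x = p ^ k) => ⁅(P : Subgroup G) ⊓ (Q : Subgroup G), zpowers x⁆) y ⟨hy, hk⟩))))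
      hsteps x⁻¹ rfl
    simp only [inv_inv] at h
    rw [show ⁅x, u⁆ = x * (u * x⁻¹ * u⁻¹) by rw [commutatorElement_def]; group]
    exact h
  · refine sup_le (le_inf ?_ (commutator_mono le_top le_top)) (iSup₂_le fun Q _ => iSup₂_le fun x hx => le_inf ?_ (commutator_mono le_top le_top))
    · refine commutator_le.mpr fun a ha b hb => ?_
      rw [commutatorElement_def]
      have := mul_mem ha ((mem_normalizer_iff.mp hb a⁻¹).mp (inv_mem ha))
      simpa [mul_assoc] using this
    · refine commutator_le.mpr fun a ha b hb => ?_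
      rw [commutatorElement_def]
      have hbN := (zpowers_le.mpr hx.1) hb
      have := mul_mem ha.1 ((mem_normalizer_iff.mp hbN a⁻¹).mp (inv_mem ha)).1
      simpa [mul_assoc] using this

end Cfsg.Agent.S4250
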