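import Cfsg.Statements.S4251
import Mathlib
import Cfsg.Agent.Lib.AlperinTame.Basic

/-!
A normal `p`-complement from tame intersections.
-/

set_option autoImplicit false
open Cfsg

namespace Cfsg.Agent.S4251

open Subgroup
open Cfsg.Agent.Lib.AlperinTame

theorem realised {G : Type*} [Group G] {p : ℕ} {P : Sylow p G}
    (hstep : ∀ Q : Sylow p G, Tame P Q → ∀ x : G,
      x ∈ normalizer (((P : Subgroup G) ⊓ (Q : Subgroup G) : Subgroup G) : Set G) →
      ∀ a ∈ (P : Subgroup G) ⊓ (Q : Subgroup G), ∃ k ∈ P, k * a * k⁻¹ = x⁻¹ * a * x)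
    {A : Set G} {g : G} (h : TameSteps P A g) :
    ∀ a ∈ A, ∃ k ∈ P, k * a * k⁻¹ = g⁻¹ * a * g := by
  induction h with
  | nil A => intro a _; exact ⟨1, one_mem _, by simp⟩
  | cons Q x hQ hA hx _ _ ih =>
    intro a ha
    obtain ⟨k, hk, hka⟩ := hstep Q hQ x hx a (hA ha)
    obtain ⟨l, hl, hla⟩ := ih (x⁻¹ * a * x) ⟨a, ha, rfl⟩
    refine ⟨l * k, mul_mem hl hk, ?_⟩
    rw [show l * k * a * (l * k)⁻¹ = l * (k * a * k⁻¹) * l⁻¹ by group, hka, hla]
    group

/-- Let P be a Sylow p-subgroup of a finite group G. Call an intersection H = P ∩ Q with a Sylow p-subgroup Q tame when N_P(H) and N_Q(H) are Sylow p-subgroups of N_G(H). If N_G(H)/C_G(H) is a p-group for every nontrivial tame intersection H = P ∩ Q, then G has a normal p-complement. -/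
theorem result {G : Type*} [Group G] [Finite G] (p : ℕ) [Fact p.Prime] (P : Sylow p G)
    (h : ∀ Q : Sylow p G, (P : Subgroup G) ⊓ (Q : Subgroup G) ≠ ⊥ → (¬ p ∣ ((P : Subgroup G) ⊓ Subgroup.normalizer (((P : Subgroup G) ⊓ (Q : Subgroup G) : Subgroup G) : Set G)).relIndex (Subgroup.normalizer (((P : Subgroup G) ⊓ (Q : Subgroup G) : Subgroup G) : Set G)) ∧ ¬ p ∣ ((Q : Subgroup G) ⊓ Subgroup.normalizer (((P : Subgroup G) ⊓ (Q : Subgroup G) : Subgroup G) : Set G)).relIndex (Subgroup.normalizer (((P : Subgroup G) ⊓ (Q : Subgroup G) : Subgroup G) : Set G))) →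
      IsPGroup p (Subgroup.normalizer (((P : Subgroup G) ⊓ (Q : Subgroup G) : Subgroup G) : Set G) ⧸
        (Subgroup.centralizer (((P : Subgroup G) ⊓ (Q : Subgroup G) : Subgroup G) : Set G)).subgroupOf
          (Subgroup.normalizer (((P : Subgroup G) ⊓ (Q : Subgroup G) : Subgroup G) : Set G)))) :
    Cfsg.HasNormalPComplement p G := by
  refine Lib.Transfer.hasNormalPComplement_of_control P fun a ha g hg => ?_
  suffices hstep : ∀ Q : Sylow p G, Tame P Q → ∀ x : G,
      x ∈ normalizer (((P : Subgroup G) ⊓ (Q : Subgroup G) : Subgroup G) : Set G) →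
      ∀ a ∈ (P : Subgroup G) ⊓ (Q : Subgroup G), ∃ k ∈ P, k * a * k⁻¹ = x⁻¹ * a * x by
    obtain ⟨k, hk, hka⟩ := realised hstep (exists_tameSteps P {a} g⁻¹ (by simpa using ha)
      (by simpa [rightConj] using hg)) a rfl
    exact ⟨k, hk, by simpa using hka⟩
  intro Q hQ x hx a ha
  rcases eq_or_ne a 1 with rfl | ha1
  · exact ⟨1, one_mem _, by simp⟩
  set H : Subgroup G := (P : Subgroup G) ⊓ (Q : Subgroup G) with hH
  set N : Subgroup G := normalizer (H : Set G) with hN
  set C : Subgroup N := (centralizer (H : Set G)).subgroupOf N with hC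
  haveI : C.Normal := inferInstance
  have hp : IsPGroup p (N ⧸ C) := h Q (fun hb => ha1 (by rw [show H = ⊥ from hb] at ha; exact ha)) hQ
  set T : Subgroup N := (P : Subgroup G).subgroupOf N with hT
  have hTi : ¬ p ∣ T.index := by
    rw [hT, ← inf_subgroupOf_right]
    exact hQ.1
  let T₀ : Sylow p N := (P.2.comap_subtype (K := N)).toSylow hTi
  have hsurj := QuotientGroup.mk'_surjective C
  have htop : ((T₀.mapSurjective hsurj : Sylow p (N ⧸ C)) : Subgroup (N ⧸ C)) = ⊤ :=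
    ((T₀.mapSurjective hsurj).3 (hp.to_subgroup ⊤) le_top).symm
  obtain ⟨t, ht, htx⟩ : QuotientGroup.mk' C ⟨x, hx⟩⁻¹ ∈
      ((T₀.mapSurjective hsurj : Sylow p (N ⧸ C)) : Subgroup (N ⧸ C)) := by
    rw [htop]; trivial
  refine ⟨(t : G), mem_subgroupOf.mp ht, ?_⟩
  have hmem : (x * (t : G)) ∈ centralizer (H : Set G) := by
    have h1 : (⟨x, hx⟩ * t : N) ∈ C := by
      rw [← QuotientGroup.eq_one_iff, QuotientGroup.mk_mul]
      have h2 : (QuotientGroup.mk t : N ⧸ C) = (QuotientGroup.mk (⟨x, hx⟩ : N))⁻¹ := by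
        simpa using htx
      rw [h2, mul_inv_cancel]
    exact mem_subgroupOf.mp h1
  calc (t : G) * a * (t : G)⁻¹ = x⁻¹ * ((x * (t : G)) * a * (x * (t : G))⁻¹) * x := by group
    _ = x⁻¹ * a * x := by
      rw [← mem_centralizer_iff.mp hmem a ha, mul_inv_cancel_right]

end Cfsg.Agent.S4251
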