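import Cfsg.Statements.S4260
import Mathlib

set_option autoImplicit false
open Cfsg

namespace Cfsg.Agent.S4260

/-- Let H be a Hall subgroup of a finite group G (the order of H is coprime to its index) such that x^[G : H] lies in H for every x in G. Then H is normal in G. -/
theorem result {G : Type*} [Group G] [Finite G] (H : Subgroup G) (hHall : (Nat.card H).Coprime H.index)
    (hexp : ∀ x : G, x ^ H.index ∈ H) : H.Normal := by
  have key : ∀ x : G, ∀ n : ℕ, x ^ n = 1 → n.Coprime H.index → x ∈ H := by
    intro x n hn hc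
    have h1 : (x ^ ((n : ℕ) : ℤ)) = 1 := by simpa using hn
    have e := Nat.gcd_eq_gcd_ab n H.index
    rw [hc] at e
    have : x = (x ^ H.index) ^ (Nat.gcdB n H.index) := by
      conv_lhs => rw [← zpow_one x, ← Nat.cast_one (R := ℤ), e, zpow_add, zpow_mul, h1, one_zpow,
        one_mul, zpow_mul, zpow_natCast]
    rw [this]
    exact H.zpow_mem (hexp x) _
  refine ⟨fun h hh g => key _ (Nat.card H) ?_ hHall⟩
  rw [conj_pow]
  have : h ^ Nat.card H = 1 := by
    rw [← Subgroup.coe_mk H h hh, ← SubgroupClass.coe_pow, pow_card_eq_one', Subgroup.coe_one]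
  simp [this]

end Cfsg.Agent.S4260
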