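import Cfsg.Statements.S4261
import Mathlib

set_option autoImplicit false
open scoped commutatorElement
open Cfsg

namespace Cfsg.Agent.S4261

theorem maximal_corefree {G : Type*} [Group G] [Finite G] [Group.IsSolvable G] (M : Subgroup G)
    (hM : IsCoatom M) (hexp : ∀ x : G, x ^ M.index ∈ M)
    (hcore : ∀ N : Subgroup G, N.Normal → N ≤ M → N = ⊥) : M.Normal := by
  classical
  haveI : Nontrivial G := by
    by_contra h
    rw [not_nontrivial_iff_subsingleton] at h
    exact hM.1 (Subsingleton.elim _ _)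
  obtain ⟨n, hn⟩ := (Group.IsSolvable.solvable : ∃ n, derivedSeries G n = ⊥)
  -- last nontrivial term of the derived series
  obtain ⟨B, hBn, hBne, hBc⟩ : ∃ B : Subgroup G, B.Normal ∧ B ≠ ⊥ ∧ ⁅B, B⁆ = ⊥ := by
    have hex : ∃ k, derivedSeries G k = ⊥ := ⟨n, hn⟩
    have h0 : Nat.find hex ≠ 0 := by
      intro h
      have := Nat.find_spec hex
      rw [h, derivedSeries_zero] at this
      exact top_ne_bot this
    obtain ⟨k, hk⟩ := Nat.exists_eq_succ_of_ne_zero h0
    refine ⟨derivedSeries G k, derivedSeries_normal G k, Nat.find_min hex (by omega), ?_⟩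
    have := Nat.find_spec hex
    rw [hk, derivedSeries_succ] at this
    exact this
  have hcomm : ∀ a ∈ B, ∀ b ∈ B, a * b = b * a := fun a ha b hb => by
    have : ⁅a, b⁆ ∈ ⁅B, B⁆ := Subgroup.commutator_mem_commutator ha hb
    rw [hBc, Subgroup.mem_bot] at this
    exact commutatorElement_eq_one_iff_mul_comm.mp this
  obtain ⟨q, hq, hqB⟩ := Nat.exists_prime_and_dvd
    (fun h => hBne (Subgroup.card_eq_one.mp h) : Nat.card B ≠ 1)
  haveI : Fact q.Prime := ⟨hq⟩
  let A : Subgroup G :=
    { carrier := {a | a ∈ B ∧ a ^ q = 1}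
      one_mem' := ⟨B.one_mem, one_pow q⟩
      mul_mem' := fun {a b} ha hb => ⟨B.mul_mem ha.1 hb.1, by
        rw [(Commute.mul_pow (hcomm a ha.1 b hb.1)), ha.2, hb.2, mul_one]⟩
      inv_mem' := fun {a} ha => ⟨B.inv_mem ha.1, by rw [inv_pow, ha.2, inv_one]⟩ }
  have hAn : A.Normal := ⟨fun a ha g => ⟨hBn.conj_mem a ha.1 g, by rw [conj_pow, ha.2]; simp⟩⟩
  have hAne : A ≠ ⊥ := by
    obtain ⟨x, hx⟩ := exists_prime_orderOf_dvd_card' q hqB
    intro h
    have h1 : (x : G) ∈ A := ⟨x.2, by rw [← SubgroupClass.coe_pow, ← hx, pow_orderOf_eq_one]; rfl⟩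
    rw [h, Subgroup.mem_bot] at h1
    have : x = 1 := Subtype.ext h1
    rw [this, orderOf_one] at hx
    exact hq.one_lt.ne hx
  have hsup : A ⊔ M = ⊤ := by
    refine hM.2 _ (lt_of_le_of_ne le_sup_right ?_)
    intro h
    exact hAne (hcore A hAn (le_sup_left.trans h.ge))
  -- `A ⊓ M` is normal, hence trivial
  have hAM : A ⊓ M = ⊥ := by
    refine hcore _ ?_ inf_le_right
    rw [← Subgroup.normalizer_eq_top_iff, eq_top_iff, ← hsup, sup_le_iff]
    refine ⟨?_, ?_⟩
    · intro a ha
      rw [Subgroup.mem_normalizer_iff]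
      intro x
      refine ⟨fun hx => ?_, fun hx => ?_⟩
      · rwa [hcomm a ha.1 x hx.1.1, mul_inv_cancel_right]
      · have h2 : x = a * x * a⁻¹ := by
          have h3 := hcomm a⁻¹ (B.inv_mem ha.1) (a * x * a⁻¹) hx.1.1
          calc x = a⁻¹ * (a * x * a⁻¹) * a := by group
            _ = a * x * a⁻¹ := by rw [h3]; group
        rw [h2]; exact hx
    · intro m hm
      rw [Subgroup.mem_normalizer_iff]
      intro x
      refine ⟨fun hx => ⟨hAn.conj_mem x hx.1 m, M.mul_mem (M.mul_mem hm hx.2) (M.inv_mem hm)⟩,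
        fun hx => ?_⟩
      have h1 := hAn.conj_mem _ hx.1 m⁻¹
      have h2 := M.mul_mem (M.mul_mem (M.inv_mem hm) hx.2) hm
      simp only [inv_inv] at h1
      have e : m⁻¹ * (m * x * m⁻¹) * m = x := by group
      rw [e] at h1 h2
      exact ⟨h1, h2⟩
  haveI := hAn
  have hcompl : Subgroup.IsComplement' A M :=
    Subgroup.isComplement'_of_disjoint_and_mul_eq_univ (disjoint_iff.mpr hAM)
      (by rw [← Subgroup.normal_mul, hsup, Subgroup.coe_top])
  have hAp : IsPGroup q A := fun a => ⟨1, by
    rw [pow_one]; exact Subtype.ext (by simpa using a.2.2)⟩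
  obtain ⟨r, hr⟩ := IsPGroup.iff_card.mp hAp
  have hidx : M.index = q ^ r := by rw [hcompl.index_eq_card, hr]
  have hMp : ∀ m ∈ M, m ^ M.index = 1 := by
    intro m hm
    have hcA : ∀ a ∈ A, a * m ^ M.index = m ^ M.index * a := by
      intro a ha
      have h1 : (a * m * a⁻¹) ^ M.index ∈ M := hexp _
      rw [conj_pow] at h1
      have h2 : a * m ^ M.index * a⁻¹ * (m ^ M.index)⁻¹ ∈ A ⊓ M := by
        refine ⟨?_, M.mul_mem h1 (M.inv_mem (M.pow_mem hm _))⟩
        have h3 := hAn.conj_mem a⁻¹ (A.inv_mem ha) (m ^ M.index)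
        have h4 := A.mul_mem ha h3
        simpa [mul_assoc] using h4
      rw [hAM, Subgroup.mem_bot, mul_inv_eq_one, mul_inv_eq_iff_eq_mul] at h2
      exact h2
    have hK : (M ⊓ Subgroup.centralizer (A : Set G)) = ⊥ := by
      refine hcore _ ?_ inf_le_left
      rw [← Subgroup.normalizer_eq_top_iff, eq_top_iff, ← hsup, sup_le_iff]
      refine ⟨?_, ?_⟩
      · intro a ha
        rw [Subgroup.mem_normalizer_iff]
        intro x
        refine ⟨fun hx => ?_, fun hx => ?_⟩
        · rwa [Subgroup.mem_centralizer_iff.mp hx.2 a ha, mul_inv_cancel_right]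
        · have h3 := Subgroup.mem_centralizer_iff.mp hx.2 a ha
          have h2 : x = a * x * a⁻¹ := by
            calc x = a⁻¹ * ((a * x * a⁻¹) * a) := by group
              _ = a⁻¹ * (a * (a * x * a⁻¹)) := by rw [h3]
              _ = a * x * a⁻¹ := by group
          rw [h2]; exact hx
      · have hsym := Subgroup.inf_normalizer_le_normalizer_inf (H := M) (K := Subgroup.centralizer (A : Set G))
        refine le_trans (le_inf Subgroup.le_normalizer ?_) hsym
        rw [Subgroup.normalizer_eq_top]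
        exact le_top
    have : m ^ M.index ∈ M ⊓ Subgroup.centralizer (A : Set G) :=
      ⟨M.pow_mem hm _, Subgroup.mem_centralizer_iff.mpr hcA⟩
    rwa [hK, Subgroup.mem_bot] at this
  have hMq : IsPGroup q M := fun m => ⟨r, Subtype.ext (by
    rw [SubgroupClass.coe_pow, ← hidx]; exact hMp m m.2)⟩
  have hG : IsPGroup q G := by
    obtain ⟨s, hs⟩ := IsPGroup.iff_card.mp hMq
    refine IsPGroup.of_card (n := r + s) ?_
    rw [← hcompl.card_mul, hr, hs, pow_add]
  haveI : Group.IsNilpotent G := hG.isNilpotent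
  exact Subgroup.NormalizerCondition.normal_of_coatom M Group.normalizerCondition_of_isNilpotent hM

/-- Let M be a maximal subgroup of a finite solvable group G such that x^[G : M] lies in M for every x in G. Then M is normal in G. -/
theorem result {G : Type*} [Group G] [Finite G] (hG : Group.IsSolvable G) (M : Subgroup G) (hM : IsCoatom M)
    (hexp : ∀ x : G, x ^ M.index ∈ M) : M.Normal := by
  haveI := hG
  let L := M.normalCore
  let f := QuotientGroup.mk' L
  have hf : Function.Surjective f := QuotientGroup.mk'_surjective L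
  have hker : f.ker ≤ M := by rw [QuotientGroup.ker_mk']; exact M.normalCore_le
  have hM' : IsCoatom (M.map f) := by
    refine ⟨fun h => hM.1 ?_, fun K hK => ?_⟩
    · rw [← Subgroup.comap_map_eq_self hker, h, Subgroup.comap_top]
    · have h1 : M < K.comap f := by
        exact (Subgroup.comap_map_eq_self hker).symm.trans_lt ((Subgroup.comap_lt_comap_of_surjective hf).mpr hK)
      rw [← Subgroup.map_comap_eq_self_of_surjective hf K, hM.2 _ h1, Subgroup.map_top_of_surjective f hf]
  have hidx : (M.map f).index = M.index := M.index_map_eq hf hker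
  have hexp' : ∀ x, x ^ (M.map f).index ∈ M.map f := fun x => by
    obtain ⟨g, rfl⟩ := hf x
    rw [hidx, ← map_pow]
    exact Subgroup.mem_map_of_mem f (hexp g)
  have hcore : ∀ N, Subgroup.Normal N → N ≤ M.map f → N = ⊥ := by
    intro N hN hle
    have h1 : N.comap f ≤ L := by
      haveI := hN
      refine Subgroup.normal_le_normalCore.mpr ?_
      exact (Subgroup.comap_mono hle).trans (Subgroup.comap_map_eq_self hker).le
    rw [← Subgroup.map_comap_eq_self_of_surjective hf N, eq_bot_iff]
    rintro _ ⟨g, hg, rfl⟩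
    exact Subgroup.mem_bot.mpr ((QuotientGroup.eq_one_iff g).mpr (h1 hg))
  haveI : Group.IsSolvable (G ⧸ L) := Group.isSolvable_of_surjective hf
  have := maximal_corefree (M.map f) hM' hexp' hcore
  have := this.comap f
  rwa [Subgroup.comap_map_eq_self hker] at this

end Cfsg.Agent.S4261
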