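import Cfsg.Statements.S4262
import Mathlib
import Cfsg.Agent.Lib.Burnside.Paqb
import Cfsg.Agent.Lib.Transfer.Criteria
import Cfsg.Agent.Lib.PGroup.Thompson
import Cfsg.Agent.Lib.NilpotentLocal.Basic

set_option autoImplicit false
open Cfsg

namespace Cfsg.Agent.S4262

universe u

theorem eq_pow_mul_pow {n p q : ℕ} (hp : p.Prime) (hq : q.Prime) (hn : n ≠ 0)
    (h : ∀ r : ℕ, r.Prime → r ∣ n → r = p ∨ r = q) : ∃ a b, n = p ^ a * q ^ b := by
  have hdvd : n ∣ p ^ n * q ^ n := by
    rw [Nat.dvd_iff_prime_pow_dvd_dvd]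
    intro r k hr hrk
    rcases Nat.eq_zero_or_pos k with rfl | hk
    · simp
    have hkn : k ≤ n := (Nat.lt_pow_self hr.one_lt).le.trans (Nat.le_of_dvd (Nat.pos_of_ne_zero hn) hrk)
    rcases h r hr ((dvd_pow_self r hk.ne').trans hrk) with rfl | rfl
    · exact (pow_dvd_pow r hkn).mul_right _
    · exact (pow_dvd_pow r hkn).mul_left _
  obtain ⟨d1, d2, h1, h2, rfl⟩ := Nat.dvd_mul.mp hdvd
  obtain ⟨a, -, rfl⟩ := (Nat.dvd_prime_pow hp).mp h1
  obtain ⟨b, -, rfl⟩ := (Nat.dvd_prime_pow hq).mp h2
  exact ⟨a, b, rfl⟩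

theorem isSolvable_pi {ι : Type*} [Finite ι] {H : ι → Type*} [∀ i, Group (H i)]
    (h : ∀ i, Group.IsSolvable (H i)) : Group.IsSolvable (∀ i, H i) := by
  cases nonempty_fintype ι
  choose n hn using fun i => (h i).solvable
  refine ⟨⟨Finset.univ.sup n, ?_⟩⟩
  rw [eq_bot_iff]
  intro x hx
  refine Subgroup.mem_bot.mpr (funext fun i => ?_)
  have h1 := map_derivedSeries_le_derivedSeries (Pi.evalMonoidHom H i) (n i)
    (Subgroup.mem_map_of_mem _ (derivedSeries_antitone (∀ i, H i) (Finset.le_sup (Finset.mem_univ i)) hx))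
  rw [hn i, Subgroup.mem_bot] at h1
  exact h1

variable {G : Type u} [Group G]

theorem isSolvable_of_isCoatom_normal [Finite G] {M : Subgroup G} [M.Normal] (hM : IsCoatom M)
    [Group.IsSolvable M] : Group.IsSolvable G := by
  have hs : Group.IsSolvable (G ⧸ M) := by
    refine Group.isSolvable_of_comm ?_
    rcases subsingleton_or_nontrivial (G ⧸ M) with h | h
    · exact fun a b => Subsingleton.elim _ _
    obtain ⟨t, ht⟩ := exists_ne (1 : G ⧸ M)
    have htop : Subgroup.zpowers t = ⊤ := by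
      obtain ⟨g, rfl⟩ := QuotientGroup.mk_surjective t
      have h1 : M < (Subgroup.zpowers (g : G ⧸ M)).comap (QuotientGroup.mk' M) := by
        refine lt_of_le_of_ne (QuotientGroup.le_comap_mk' M _) fun he => ht ?_
        have : g ∈ (Subgroup.zpowers (g : G ⧸ M)).comap (QuotientGroup.mk' M) :=
          Subgroup.mem_zpowers _
        rw [← he] at this
        exact (QuotientGroup.eq_one_iff g).mpr this
      rw [← Subgroup.map_comap_eq_self_of_surjective (QuotientGroup.mk'_surjective M)
        (Subgroup.zpowers (g : G ⧸ M)), hM.2 _ h1,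
        Subgroup.map_top_of_surjective _ (QuotientGroup.mk'_surjective M)]
    intro a b
    obtain ⟨i, rfl⟩ := Subgroup.mem_zpowers_iff.mp (htop ▸ Subgroup.mem_top a)
    obtain ⟨j, rfl⟩ := Subgroup.mem_zpowers_iff.mp (htop ▸ Subgroup.mem_top b)
    rw [← zpow_add, ← zpow_add, add_comm]
  exact Group.isSolvable_of_ker_le_range M.subtype (QuotientGroup.mk' M)
    (by rw [QuotientGroup.ker_mk', Subgroup.range_subtype])

variable [Finite G]

theorem ne_top_centralizer {g : G} (hg : g ∉ Subgroup.center G) :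
    Subgroup.centralizer ({g} : Set G) ≠ ⊤ := fun h => hg <|
  Subgroup.mem_center_iff.mpr fun w =>
    Subgroup.mem_centralizer_singleton_iff.mp (h ▸ Subgroup.mem_top w)

section Coatoms

variable (hG : ∀ g : G, g ∉ Subgroup.center G → IsCoatom (Subgroup.centralizer ({g} : Set G)))
include hG

theorem centralizer_eq_of_le {a b : G} (ha : a ∉ Subgroup.center G) (hb : b ∉ Subgroup.center G)
    (h : Subgroup.centralizer ({a} : Set G) ≤ Subgroup.centralizer ({b} : Set G)) :
    Subgroup.centralizer ({a} : Set G) = Subgroup.centralizer ({b} : Set G) :=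
  eq_of_le_of_not_lt h fun hlt => ne_top_centralizer hb ((hG a ha).2 _ hlt)

theorem centralizer_eq_of_coprime {x y : G} (hc : Commute x y) (hx : x ∉ Subgroup.center G)
    (hy : y ∉ Subgroup.center G) (hco : (orderOf x).Coprime (orderOf y)) :
    Subgroup.centralizer ({x} : Set G) = Subgroup.centralizer ({y} : Set G) := by
  have key : ∀ a b : G, Commute a b → (orderOf a).Coprime (orderOf b) →
      a ∈ Subgroup.zpowers (a * b) := by
    intro a b hab hco
    have h1 : (a * b) ^ orderOf b = a ^ orderOf b := by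
      rw [hab.mul_pow, pow_orderOf_eq_one, mul_one]
    have e := Nat.gcd_eq_gcd_ab (orderOf a) (orderOf b)
    rw [hco] at e
    refine Subgroup.mem_zpowers_iff.mpr ⟨(orderOf b : ℤ) * Nat.gcdB (orderOf a) (orderOf b), ?_⟩
    rw [zpow_mul, zpow_natCast, h1, ← zpow_natCast, ← zpow_mul]
    conv_rhs => rw [← zpow_one a, ← Nat.cast_one (R := ℤ), e, zpow_add, zpow_mul, zpow_natCast,
      pow_orderOf_eq_one, one_zpow, one_mul]
  have h1 : x * y ∉ Subgroup.center G := by
    intro h
    obtain ⟨k, hk⟩ := Subgroup.mem_zpowers_iff.mp (key x y hc hco)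
    exact hx (hk ▸ (Subgroup.center G).zpow_mem h k)
  have aux : ∀ z : G, z ∈ Subgroup.zpowers (x * y) →
      Subgroup.centralizer ({x * y} : Set G) ≤ Subgroup.centralizer ({z} : Set G) := by
    intro z hz w hw
    rw [Subgroup.mem_centralizer_singleton_iff] at hw ⊢
    obtain ⟨k, rfl⟩ := Subgroup.mem_zpowers_iff.mp hz
    exact (Commute.zpow_right (show Commute w (x * y) from hw) k).eq
  have hx' := centralizer_eq_of_le hG h1 hx (aux x (key x y hc hco))
  have hy' := centralizer_eq_of_le hG h1 hy (aux y (hc.eq ▸ key y x hc.symm hco.symm))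
  exact hx'.symm.trans hy'

/-- The centralizer of a non-central element of prime-power order is nilpotent. -/
theorem isNilpotent_centralizer_pElement {x : G} {p k : ℕ} [hp : Fact p.Prime]
    (hxo : orderOf x ∣ p ^ k) (hx1 : x ∉ Subgroup.center G) :
    Group.IsNilpotent (Subgroup.centralizer ({x} : Set G)) := by
  set M := Subgroup.centralizer ({x} : Set G)
  have hcen : ∀ y : M, (orderOf y).Coprime p → y ∈ Subgroup.center M := by
    intro y hy
    rw [Subgroup.mem_center_iff]
    intro m
    by_cases hy1 : (y : G) ∈ Subgroup.center G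
    · exact Subtype.ext (Subgroup.mem_center_iff.mp hy1 m)
    have := centralizer_eq_of_coprime hG
      (show Commute x y from (Subgroup.mem_centralizer_singleton_iff.mp y.2).symm) hx1 hy1
      (Nat.Coprime.coprime_dvd_left hxo
        (by rw [Subgroup.orderOf_coe]; exact (hy.pow_right k).symm))
    exact Subtype.ext (Subgroup.mem_centralizer_singleton_iff.mp (this ▸ m.2))
  have hQ : IsPGroup p (M ⧸ Subgroup.center M) := by
    intro m
    obtain ⟨m, rfl⟩ := QuotientGroup.mk_surjective m
    obtain ⟨k, hk⟩ := Cfsg.Agent.Lib.Transfer.exists_pow_coprime (p := p) m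
    exact ⟨k, by rw [← QuotientGroup.mk_pow, QuotientGroup.eq_one_iff]; exact hcen _ hk⟩
  exact Group.of_quotient_center_nilpotent hQ.isNilpotent

variable (hZ : Subgroup.center G = ⊥)
include hZ

omit hG in
theorem notMem_center {g : G} (hg : g ≠ 1) : g ∉ Subgroup.center G := fun h =>
  hg (Subgroup.mem_bot.mp (hZ ▸ h))

theorem isNilpotent_centralizer {g : G} (hg : g ≠ 1) :
    Group.IsNilpotent (Subgroup.centralizer ({g} : Set G)) := by
  obtain ⟨p, hp, hpg⟩ := Nat.exists_prime_and_dvd (fun h => hg (orderOf_eq_one_iff.mp h))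
  haveI : Fact p.Prime := ⟨hp⟩
  set x := g ^ (orderOf g / p) with hx
  have hxo : orderOf x = p := orderOf_pow_orderOf_div (orderOf_pos g).ne' hpg
  have hx1 : x ∉ Subgroup.center G := notMem_center hZ fun h => by
    rw [h, orderOf_one] at hxo; exact hp.one_lt.ne hxo
  have hle : Subgroup.centralizer ({g} : Set G) ≤ Subgroup.centralizer ({x} : Set G) := fun w hw => by
    rw [Subgroup.mem_centralizer_singleton_iff] at hw ⊢
    exact (Commute.pow_right (show Commute w g from hw) _).eq
  rw [centralizer_eq_of_le hG (notMem_center hZ hg) hx1 hle]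
  exact isNilpotent_centralizer_pElement hG (k := 1) (by rw [hxo, pow_one]) hx1

theorem hasNormalPComplement_or_normal (p : ℕ) [hp : Fact p.Prime]
    (hp2 : p ≠ 2) (hpG : p ∣ Nat.card G) :
    Cfsg.HasNormalPComplement p G ∨ ∃ J : Subgroup G, J.Normal ∧ IsPGroup p J ∧ J ≠ ⊥ := by
  let P : Sylow p G := default
  haveI : Nontrivial (P : Subgroup G) := by
    rw [Subgroup.nontrivial_iff_ne_bot]
    exact P.ne_bot_of_dvd_card hpG
  haveI := P.isPGroup'.center_nontrivial
  obtain ⟨z, hz⟩ := exists_ne (1 : Subgroup.center (P : Subgroup G))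
  set x : G := ((z : (P : Subgroup G)) : G) with hx
  have hx1 : x ≠ 1 := fun h => hz (Subtype.ext (Subtype.ext h))
  set M := Subgroup.centralizer ({x} : Set G) with hM
  haveI := isNilpotent_centralizer hG hZ hx1
  have hPM : (P : Subgroup G) ≤ M := fun w hw => by
    rw [hM, Subgroup.mem_centralizer_singleton_iff]
    exact congrArg Subtype.val (Subgroup.mem_center_iff.mp z.2 ⟨w, hw⟩)
  set J := Cfsg.thompsonSubgroupOf p (P : Subgroup G) with hJ
  have hJP : J ≤ (P : Subgroup G) := Cfsg.Agent.Lib.Thompson.thompsonSubgroupOf_le p _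
  by_cases hJn : Subgroup.normalizer (J : Set G) = ⊤
  · right
    exact ⟨J, Subgroup.normalizer_eq_top_iff.mp hJn, P.isPGroup'.to_le hJP,
      Cfsg.Agent.Lib.Thompson.thompsonSubgroupOf_ne_bot (P.dvd_card_of_dvd_card hpG)⟩
  left
  have hPn : (((P.subtype hPM) : Sylow p M) : Subgroup M).Normal :=
    (P.subtype hPM).normal_of_normalizerCondition Group.normalizerCondition_of_isNilpotent
  have hMJ : M ≤ Subgroup.normalizer (J : Set G) := by
    intro m hm
    have hfix : (P : Subgroup G).map (MulAut.conj m).toMonoidHom = (P : Subgroup G) := by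
      ext w
      simp only [Subgroup.mem_map, MulEquiv.coe_toMonoidHom, MulAut.conj_apply]
      constructor
      · rintro ⟨v, hv, rfl⟩
        exact hPn.conj_mem ⟨v, hPM hv⟩ hv ⟨m, hm⟩
      · intro hw
        refine ⟨m⁻¹ * w * m, ?_, by group⟩
        have := hPn.conj_mem ⟨w, hPM hw⟩ hw ⟨m⁻¹, M.inv_mem hm⟩
        simpa [Subgroup.mem_subgroupOf] using this
    have hJfix : J.map (MulAut.conj m).toMonoidHom = J := by
      rw [hJ, ← Cfsg.Agent.Lib.Thompson.thompsonSubgroupOf_map (MulAut.conj m).injective, hfix]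
    rw [Subgroup.mem_normalizer_iff]
    intro w
    constructor
    · intro hw
      rw [← hJfix]
      exact ⟨w, hw, rfl⟩
    · intro hw
      rw [← hJfix] at hw
      obtain ⟨v, hv, hvw⟩ := hw
      exact (MulAut.conj m).injective hvw ▸ hv
  have hNM : Subgroup.normalizer (J : Set G) = M :=
    (eq_of_le_of_not_lt hMJ fun hlt => hJn ((hG x (notMem_center hZ hx1)).2 _ hlt)).symm
  haveI : Group.IsNilpotent (Subgroup.normalizer (J : Set G)) := by rw [hNM]; infer_instance
  have hCle : Subgroup.centralizer (((P : Subgroup G) ⊓ Subgroup.centralizer (P : Set G)) : Set G)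
      ≤ M := by
    intro w hw
    rw [hM, Subgroup.mem_centralizer_singleton_iff]
    exact (Subgroup.mem_centralizer_iff.mp hw x ⟨(z : (P : Subgroup G)).2,
      Subgroup.mem_centralizer_iff.mpr fun v hv =>
        congrArg Subtype.val (Subgroup.mem_center_iff.mp z.2 ⟨v, hv⟩)⟩).symm
  haveI := Group.nilpotent_of_mulEquiv (Subgroup.subgroupOfEquivOfLe hCle)
  exact Cfsg.Agent.Lib.NilpotentLocal.hasNormalPComplement_of_nilpotent_locals hp2 P inferInstance inferInstance

theorem isSolvable_of_two_primes {p q : ℕ} [Fact p.Prime] [Fact q.Prime] (hpq : p ≠ q)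
    {J K : Subgroup G} [hJn : J.Normal] [hKn : K.Normal] (hJ : IsPGroup p J) (hK : IsPGroup q K)
    (hJ1 : J ≠ ⊥) (hK1 : K ≠ ⊥) : Group.IsSolvable G := by
  have hcomm : ∀ a ∈ J, ∀ b ∈ K, a ≠ 1 → b ≠ 1 →
      Subgroup.centralizer ({a} : Set G) = Subgroup.centralizer ({b} : Set G) := by
    intro a ha b hb ha1 hb1
    refine centralizer_eq_of_coprime hG
      (Subgroup.commute_of_normal_of_disjoint _ _ hJn hKn (IsPGroup.disjoint_of_ne p q hpq _ _ hJ hK) a b ha hb)
      (notMem_center hZ ha1) (notMem_center hZ hb1) ?_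
    obtain ⟨i, hi⟩ := hJ ⟨a, ha⟩
    obtain ⟨j, hj⟩ := hK ⟨b, hb⟩
    exact Nat.Coprime.coprime_dvd_left (orderOf_dvd_of_pow_eq_one (congrArg Subtype.val hi))
      (Nat.Coprime.coprime_dvd_right (orderOf_dvd_of_pow_eq_one (congrArg Subtype.val hj))
        (Nat.Coprime.pow i j ((Nat.coprime_primes Fact.out Fact.out).mpr hpq)))
  obtain ⟨b, hb, hb1⟩ := (Subgroup.ne_bot_iff_exists_ne_one.mp hK1).elim
    fun b hb => (⟨(b : G), b.2, fun h => hb (Subtype.ext h)⟩ : ∃ b ∈ K, b ≠ 1)
  obtain ⟨a, ha, ha1⟩ := (Subgroup.ne_bot_iff_exists_ne_one.mp hJ1).elim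
    fun b hb => (⟨(b : G), b.2, fun h => hb (Subtype.ext h)⟩ : ∃ b ∈ J, b ≠ 1)
  set M := Subgroup.centralizer ({b} : Set G) with hM
  haveI : M.Normal := by
    refine ⟨fun m hm g => ?_⟩
    have h1 : Subgroup.centralizer ({g * a * g⁻¹} : Set G) = M :=
      hcomm _ (hJn.conj_mem a ha g) b hb (fun h => ha1 (conj_eq_one_iff.mp h)) hb1
    rw [← h1, Subgroup.mem_centralizer_singleton_iff]
    rw [hM, ← hcomm a ha b hb ha1 hb1, Subgroup.mem_centralizer_singleton_iff] at hm
    calc g * m * g⁻¹ * (g * a * g⁻¹) = g * (m * a) * g⁻¹ := by group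
      _ = g * a * g⁻¹ * (g * m * g⁻¹) := by rw [hm]; group
  haveI := isNilpotent_centralizer hG hZ hb1
  haveI : Group.IsNilpotent M := this
  exact isSolvable_of_isCoatom_normal (hG b (notMem_center hZ hb1))

theorem isSolvable_of_trivial_center : Group.IsSolvable G := by
  classical
  obtain ⟨p₀, hp₀, hgood⟩ : ∃ p₀ : ℕ, p₀.Prime ∧ (Group.IsSolvable G ∨ ∀ p : ℕ, p.Prime →
      p ∣ Nat.card G → p ≠ 2 → p ≠ p₀ → Cfsg.HasNormalPComplement p G) := by
    by_cases h : ∀ p : ℕ, p.Prime → p ∣ Nat.card G → p ≠ 2 → Cfsg.HasNormalPComplement p G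
    · exact ⟨2, Nat.prime_two, Or.inr fun p hp hd h2 _ => h p hp hd h2⟩
    push Not at h
    obtain ⟨p₀, hp₀, hd₀, h20, hn₀⟩ := h
    refine ⟨p₀, hp₀, ?_⟩
    by_cases h' : ∀ p : ℕ, p.Prime → p ∣ Nat.card G → p ≠ 2 → p ≠ p₀ → Cfsg.HasNormalPComplement p G
    · exact Or.inr h'
    push Not at h'
    obtain ⟨p, hp, hd, h2, hne, hn⟩ := h'
    haveI : Fact p.Prime := ⟨hp⟩
    haveI : Fact p₀.Prime := ⟨hp₀⟩
    obtain ⟨J, hJn, hJp, hJ1⟩ := (hasNormalPComplement_or_normal hG hZ p h2 hd).resolve_left hn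
    obtain ⟨K, hKn, hKp, hK1⟩ := (hasNormalPComplement_or_normal hG hZ p₀ h20 hd₀).resolve_left hn₀
    exact Or.inl (isSolvable_of_two_primes hG hZ hne (hJn := hJn) (hKn := hKn) hJp hKp hJ1 hK1)
  rcases hgood with h | hgood
  · exact h
  let ι := {p : ℕ // p ∈ (Nat.card G).primeFactors ∧ p ≠ 2 ∧ p ≠ p₀}
  haveI hnil : ∀ i : ι, Group.IsSolvable (G ⧸ Cfsg.pResidual i.1 G) := fun i => by
    haveI : Fact i.1.Prime := ⟨Nat.prime_of_mem_primeFactors i.2.1⟩
    haveI := (Cfsg.Agent.Lib.Transfer.isPGroup_quotient_pResidual (G := G) (p := i.1)).isNilpotent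
    infer_instance
  haveI : Finite ι := Finite.of_injective
    (fun i : ι => (⟨i.1, i.2.1⟩ : {p : ℕ // p ∈ (Nat.card G).primeFactors}))
    fun a b h => Subtype.ext (by simpa using h)
  let f : G →* ∀ i : ι, G ⧸ Cfsg.pResidual i.1 G :=
    MonoidHom.pi fun i => QuotientGroup.mk' (Cfsg.pResidual i.1 G)
  haveI : Group.IsSolvable (∀ i : ι, G ⧸ Cfsg.pResidual i.1 G) := isSolvable_pi hnil
  have hprimes : ∀ r : ℕ, r.Prime → r ∣ Nat.card f.ker → r = 2 ∨ r = p₀ := by
    intro r hr hrd
    by_contra hne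
    push Not at hne
    have hrG := hrd.trans (Subgroup.card_subgroup_dvd_card f.ker)
    haveI : Fact r.Prime := ⟨hr⟩
    have hN := Cfsg.Agent.Lib.Transfer.hasNormalPComplement_iff.mp (hgood r hr hrG hne.1 hne.2)
    refine hN (hrd.trans (Subgroup.card_dvd_of_le fun w hw => ?_))
    have := congrFun (MonoidHom.mem_ker.mp hw)
      ⟨r, Nat.mem_primeFactors.mpr ⟨hr, hrG, Nat.card_pos.ne'⟩, hne⟩
    exact (QuotientGroup.eq_one_iff w).mp this
  haveI : Group.IsSolvable f.ker := by
    obtain ⟨a, b, hab⟩ := eq_pow_mul_pow Nat.prime_two hp₀ Nat.card_pos.ne' hprimes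
    exact Cfsg.Agent.Lib.Burnside.isSolvable_of_card_eq_prime_pow_mul Nat.prime_two hp₀ hab
  exact Group.isSolvable_of_ker_le_range f.ker.subtype f (by rw [Subgroup.range_subtype])

end Coatoms

theorem isSolvable_of_coatom_centralizers 
    (hG : ∀ g : G, g ∉ Subgroup.center G → IsCoatom (Subgroup.centralizer ({g} : Set G))) :
    Group.IsSolvable G := by
  classical
  set Z := Subgroup.center G with hZdef
  by_cases hext : ∀ x : G, x ∉ Z → ∃ g : G, x * g * (g * x)⁻¹ ∉ Z
  · -- the central quotient has trivial centre and the same property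
    set f := QuotientGroup.mk' Z
    have hf : Function.Surjective f := QuotientGroup.mk'_surjective Z
    have hZ' : Subgroup.center (G ⧸ Z) = ⊥ := by
      rw [eq_bot_iff]
      intro q hq
      obtain ⟨x, rfl⟩ := QuotientGroup.mk_surjective q
      refine Subgroup.mem_bot.mpr ((QuotientGroup.eq_one_iff x).mpr ?_)
      by_contra hx
      obtain ⟨g, hg⟩ := hext x hx
      apply hg
      rw [← QuotientGroup.eq_one_iff, QuotientGroup.mk_mul, QuotientGroup.mk_mul,
        QuotientGroup.mk_inv, QuotientGroup.mk_mul, ← Subgroup.mem_center_iff.mp hq (g : G ⧸ Z),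
        mul_inv_cancel]
    have hG' : ∀ q : G ⧸ Z, q ∉ Subgroup.center (G ⧸ Z) →
        IsCoatom (Subgroup.centralizer ({q} : Set (G ⧸ Z))) := by
      intro q hq
      obtain ⟨x, rfl⟩ := hf q
      have hx : x ∉ Z := fun h => hq (by
        rw [show f x = 1 from (QuotientGroup.eq_one_iff x).mpr h]; exact one_mem _)
      have hle : Subgroup.centralizer ({x} : Set G) ≤
          (Subgroup.centralizer ({f x} : Set (G ⧸ Z))).comap f := fun w hw => by
        rw [Subgroup.mem_centralizer_singleton_iff] at hw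
        rw [Subgroup.mem_comap, Subgroup.mem_centralizer_singleton_iff, ← map_mul, hw, map_mul]
      have hne : (Subgroup.centralizer ({f x} : Set (G ⧸ Z))).comap f ≠ ⊤ := by
        intro h
        exact hq (Subgroup.mem_center_iff.mpr fun w => by
          obtain ⟨w, rfl⟩ := hf w
          exact Subgroup.mem_centralizer_singleton_iff.mp
            (show f w ∈ _ from h.ge (Subgroup.mem_top w)))
      have heq : Subgroup.centralizer ({x} : Set G) =
          (Subgroup.centralizer ({f x} : Set (G ⧸ Z))).comap f :=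
        eq_of_le_of_not_lt hle fun hlt => hne ((hG x hx).2 _ hlt)
      refine ⟨fun h => hne (by rw [h, Subgroup.comap_top]), fun K hK => ?_⟩
      have hK' : Subgroup.centralizer ({x} : Set G) < K.comap f := by
        rw [heq]; exact (Subgroup.comap_lt_comap_of_surjective hf).mpr hK
      rw [← Subgroup.map_comap_eq_self_of_surjective hf K, (hG x hx).2 _ hK',
        Subgroup.map_top_of_surjective f hf]
    haveI := isSolvable_of_trivial_center hG' hZ'
    haveI : Group.IsSolvable Z := Group.isSolvable_of_comm fun a b =>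
      Subtype.ext (Subgroup.mem_center_iff.mp b.2 a)
    exact Group.isSolvable_of_ker_le_range Z.subtype f
      (by rw [QuotientGroup.ker_mk', Subgroup.range_subtype])
  · push Not at hext
    obtain ⟨x, hx, hxc⟩ := hext
    -- pick a non-central primary part of `x`
    obtain ⟨p, hp, hpart⟩ : ∃ p : ℕ, p.Prime ∧
        x ^ (orderOf x / p ^ (orderOf x).factorization p) ∉ Z := by
      by_contra hall
      push Not at hall
      have hd : orderOf (QuotientGroup.mk x : G ⧸ Z) ≠ 1 := fun h =>
        hx ((QuotientGroup.eq_one_iff x).mp (orderOf_eq_one_iff.mp h))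
      obtain ⟨p, hp, hpd⟩ := Nat.exists_prime_and_dvd hd
      have h1 : orderOf (QuotientGroup.mk x : G ⧸ Z) ∣ orderOf x / p ^ (orderOf x).factorization p := by
        apply orderOf_dvd_of_pow_eq_one
        rw [← QuotientGroup.mk_pow, QuotientGroup.eq_one_iff]
        exact hall p hp
      exact Nat.not_dvd_ordCompl hp (orderOf_pos x).ne' (hpd.trans h1)
    haveI : Fact p.Prime := ⟨hp⟩
    set y := x ^ (orderOf x / p ^ (orderOf x).factorization p) with hy
    have hyo : orderOf y ∣ p ^ (orderOf x).factorization p := by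
      apply orderOf_dvd_of_pow_eq_one
      rw [hy, ← pow_mul, Nat.div_mul_cancel (Nat.ordProj_dvd _ p), pow_orderOf_eq_one]
    set M := Subgroup.centralizer ({y} : Set G) with hM
    have hyc : ∀ g : G, (g * y * g⁻¹) * y⁻¹ ∈ Z := by
      intro g
      have h1 : ((g : G ⧸ Z)) * x = x * g := by
        have := (QuotientGroup.eq_one_iff _).mpr (hxc g)
        rw [QuotientGroup.mk_mul, QuotientGroup.mk_mul, QuotientGroup.mk_inv, QuotientGroup.mk_mul,
          mul_inv_eq_one] at this
        exact this.symm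
      rw [← QuotientGroup.eq_one_iff, QuotientGroup.mk_mul, QuotientGroup.mk_mul,
        QuotientGroup.mk_mul, QuotientGroup.mk_inv, QuotientGroup.mk_inv, hy, QuotientGroup.mk_pow,
        (Commute.pow_right (show Commute (g : G ⧸ Z) x from h1) _).eq, mul_inv_cancel_right,
        mul_inv_cancel]
    haveI : M.Normal := by
      refine ⟨fun m hm g => ?_⟩
      rw [hM, Subgroup.mem_centralizer_singleton_iff] at hm ⊢
      set c := (g⁻¹ * y * g⁻¹⁻¹) * y⁻¹ with hc
      have hcz : c ∈ Z := hyc g⁻¹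
      have hyg : g⁻¹ * y * g = c * y := by rw [hc]; group
      calc g * m * g⁻¹ * y = g * (m * (g⁻¹ * y * g)) * g⁻¹ := by group
        _ = g * (m * (c * y)) * g⁻¹ := by rw [hyg]
        _ = g * (c * (m * y)) * g⁻¹ := by
          rw [← mul_assoc m c y, Subgroup.mem_center_iff.mp hcz m]; group
        _ = g * ((c * y) * m) * g⁻¹ := by rw [hm]; group
        _ = y * (g * m * g⁻¹) := by rw [← hyg]; group
    haveI : Group.IsNilpotent M := isNilpotent_centralizer_pElement hG hyo hpart
    exact isSolvable_of_isCoatom_normal (hG y hpart)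

/-- Let G be a finite group in which the centralizer of every non-central element is a maximal subgroup of G. Then G is solvable. -/
theorem result {G : Type*} [Group G] [Finite G]
    (h : ∀ g : G, g ∉ Subgroup.center G → IsCoatom (Subgroup.centralizer ({g} : Set G))) :
    Group.IsSolvable G := by
  exact isSolvable_of_coatom_centralizers h

end Cfsg.Agent.S4262
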