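import Cfsg.Statements.S4263
import Mathlib

set_option autoImplicit false
open Cfsg

namespace Cfsg.Agent.S4263

section
variable {G : Type*} [Group G] [Finite G]

theorem pow_index_mem_of_isSubnormal {H : Subgroup G} (hH : H.IsSubnormal) (x : G) :
    x ^ H.index ∈ H := by
  induction hH generalizing x with
  | top => simp
  | step H L hle _ hN ih =>
    haveI := hN
    have h1 := Subgroup.pow_index_mem (H.subgroupOf L) ⟨x ^ L.index, ih x⟩
    rw [Subgroup.mem_subgroupOf, SubgroupClass.coe_pow, ← pow_mul] at h1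
    rwa [← Subgroup.relIndex_mul_index hle, mul_comm]

theorem isSubnormal_of_isNilpotent [hG : Group.IsNilpotent G] (H : Subgroup G) : H.IsSubnormal := by
  induction H using (wellFounded_gt (α := Subgroup G)).induction with
  | _ H ih =>
    by_cases h : H = ⊤
    · subst h; exact Subgroup.IsSubnormal.top
    · have hlt := Group.normalizerCondition_of_isNilpotent H (lt_top_iff_ne_top.mpr h)
      exact Subgroup.IsSubnormal.step H _ hlt.le (ih _ hlt) Subgroup.normal_in_normalizer

/-- The intersection of all Sylow subgroups for one prime. -/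
def sylowInf (G : Type*) [Group G] (p : ℕ) : Subgroup G := ⨅ P : Sylow p G, (P : Subgroup G)

theorem sylowInf_normal (p : ℕ) : (sylowInf G p).Normal := by
  refine ⟨fun x hx g => ?_⟩
  rw [sylowInf, Subgroup.mem_iInf] at hx ⊢
  intro P
  have h := hx (g⁻¹ • P)
  rw [Sylow.coe_subgroup_smul, Subgroup.mem_pointwise_smul_iff_inv_smul_mem] at h
  simpa [MulAut.smul_def] using h

theorem sylowInf_isPGroup (p : ℕ) [Fact p.Prime] : IsPGroup p (sylowInf G p) :=
  (default : Sylow p G).isPGroup'.to_le (iInf_le _ _)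

/-- The set of primes dividing the group order. -/
abbrev primesOf (G : Type*) : Type := {p : ℕ // p ∈ (Nat.card G).primeFactors}

theorem fact_prime {G : Type*} (p : primesOf G) : Fact p.1.Prime :=
  ⟨Nat.prime_of_mem_primeFactors p.2⟩

theorem iSup_sylowInf_nilpotent :
    Group.IsNilpotent (⨆ p : primesOf G, sylowInf G p.1 : Subgroup G) := by
  classical
  have hcomm : Pairwise fun i j : primesOf G => ∀ x y : G,
      x ∈ sylowInf G i.1 → y ∈ sylowInf G j.1 → Commute x y := by
    intro i j hij x y hx hy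
    haveI := fact_prime i
    haveI := fact_prime j
    exact Subgroup.commute_of_normal_of_disjoint _ _ (sylowInf_normal _) (sylowInf_normal _)
      (IsPGroup.disjoint_of_ne i.1 j.1 (Subtype.coe_ne_coe.mpr hij) _ _ (sylowInf_isPGroup i.1)
        (sylowInf_isPGroup j.1)) x y hx hy
  haveI : ∀ i : primesOf G, Group.IsNilpotent (sylowInf G i.1) := fun i =>
    haveI := fact_prime i
    (sylowInf_isPGroup i.1).isNilpotent
  haveI : Fintype (primesOf G) := Fintype.ofFinite _
  let f := Subgroup.noncommPiCoprod hcomm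
  have := Group.nilpotent_of_surjective f.rangeRestrict f.rangeRestrict_surjective
  rwa [Subgroup.noncommPiCoprod_range] at this

theorem mem_iSup_sylowInf (x : G)
    (hx : ∀ p : ℕ, p.Prime → ∀ P : Sylow p G, x ^ (P : Subgroup G).index ∈ (P : Subgroup G)) :
    x ∈ ⨆ p : primesOf G, sylowInf G p.1 := by
  classical
  set F : Subgroup G := ⨆ p : primesOf G, sylowInf G p.1
  haveI : F.Normal := by
    haveI := fun p : primesOf G => sylowInf_normal (G := G) p.1
    exact Subgroup.iSup_normal _
  by_contra hxF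
  have hy : orderOf (QuotientGroup.mk x : G ⧸ F) ≠ 1 := fun h =>
    hxF ((QuotientGroup.eq_one_iff x).mp (orderOf_eq_one_iff.mp h))
  obtain ⟨p, hp, hpy⟩ := Nat.exists_prime_and_dvd hy
  haveI : Fact p.Prime := ⟨hp⟩
  set n := orderOf x
  have hn : n ≠ 0 := (orderOf_pos x).ne'
  set r := n / p ^ n.factorization p with hr
  have hord : (x ^ r) ^ p ^ n.factorization p = 1 := by
    rw [← pow_mul, hr, Nat.div_mul_cancel (Nat.ordProj_dvd n p), pow_orderOf_eq_one]
  have hxr : x ^ r ∈ sylowInf G p := by
    rw [sylowInf, Subgroup.mem_iInf]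
    intro P
    have hc : (p ^ n.factorization p).Coprime (P : Subgroup G).index :=
      Nat.Coprime.pow_left _ ((hp.coprime_iff_not_dvd).mpr P.not_dvd_index)
    have h1 : (x ^ r) ^ (P : Subgroup G).index ∈ (P : Subgroup G) := by
      rw [← pow_mul, mul_comm, pow_mul]
      exact Subgroup.pow_mem _ (hx p hp P) r
    have e := Nat.gcd_eq_gcd_ab (p ^ n.factorization p) (P : Subgroup G).index
    rw [hc] at e
    rw [← zpow_one (x ^ r), ← Nat.cast_one (R := ℤ), e, zpow_add, zpow_mul, zpow_natCast, hord,
      one_zpow, one_mul, zpow_mul, zpow_natCast]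
    exact Subgroup.zpow_mem _ h1 _
  have hpn : p ∣ Nat.card G :=
    (hpy.trans (orderOf_map_dvd (QuotientGroup.mk' F) x)).trans (orderOf_dvd_natCard x)
  have hmem : x ^ r ∈ F :=
    le_iSup (fun q : primesOf G => sylowInf G q.1)
      ⟨p, Nat.mem_primeFactors.mpr ⟨hp, hpn, Nat.card_pos.ne'⟩⟩ hxr
  have h2 : orderOf (QuotientGroup.mk x : G ⧸ F) ∣ r := by
    apply orderOf_dvd_of_pow_eq_one
    rw [← QuotientGroup.mk_pow, QuotientGroup.eq_one_iff]
    exact hmem
  exact Nat.not_dvd_ordCompl hp hn (hpy.trans h2)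

theorem normal_nilpotent_le {N : Subgroup G} (hN : N.Normal) (hnil : Group.IsNilpotent N) :
    N ≤ ⨆ p : primesOf G, sylowInf G p.1 := by
  haveI := hN
  intro x hx
  refine mem_iSup_sylowInf x fun p hp P => ?_
  have h1 := pow_index_mem_of_isSubnormal
    (isSubnormal_of_isNilpotent (hG := hnil) ((P : Subgroup G).subgroupOf N)) ⟨x, hx⟩
  rw [Subgroup.mem_subgroupOf, SubgroupClass.coe_pow] at h1
  obtain ⟨c, hc⟩ : (P : Subgroup G).relIndex N ∣ (P : Subgroup G).index := by
    have ha : ((P : Subgroup G) ⊓ N).relIndex N * N.index = ((P : Subgroup G) ⊓ N).index :=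
      Subgroup.relIndex_mul_index inf_le_right
    have hb : ((P : Subgroup G) ⊓ N).relIndex P * (P : Subgroup G).index = ((P : Subgroup G) ⊓ N).index :=
      Subgroup.relIndex_mul_index inf_le_left
    rw [Subgroup.inf_relIndex_right] at ha
    rw [Subgroup.inf_relIndex_left] at hb
    obtain ⟨c, hc⟩ := Subgroup.relIndex_dvd_index_of_normal N (P : Subgroup G)
    have hne : N.relIndex (P : Subgroup G) ≠ 0 := Subgroup.index_ne_zero_of_finite
    refine ⟨c, mul_left_cancel₀ hne ?_⟩
    calc N.relIndex (P : Subgroup G) * (P : Subgroup G).index = ((P : Subgroup G) ⊓ N).index := hb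
      _ = (P : Subgroup G).relIndex N * N.index := ha.symm
      _ = N.relIndex (P : Subgroup G) * ((P : Subgroup G).relIndex N * c) := by rw [hc]; ring
  rw [hc, pow_mul]
  exact Subgroup.pow_mem _ h1 c

theorem fittingSubgroup_eq_iSup :
    Cfsg.fittingSubgroup G = ⨆ p : primesOf G, sylowInf G p.1 := by
  refine le_antisymm (sSup_le fun N hN => normal_nilpotent_le hN.1 hN.2) (le_sSup ⟨?_, iSup_sylowInf_nilpotent⟩)
  haveI := fun p : primesOf G => sylowInf_normal (G := G) p.1
  exact Subgroup.iSup_normal _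

end

/-- Let G be a finite group. An element x lies in the Fitting subgroup F(G) if and only if, for every subgroup H of G, the power x^[G : H] lies in H. -/
theorem result {G : Type*} [Group G] [Finite G] (x : G) :
    x ∈ Cfsg.fittingSubgroup G ↔ ∀ H : Subgroup G, x ^ H.index ∈ H := by
  rw [fittingSubgroup_eq_iSup]
  refine ⟨fun hx H => ?_, fun h => mem_iSup_sylowInf x fun p _ P => h _⟩
  set F : Subgroup G := ⨆ p : primesOf G, sylowInf G p.1
  haveI : F.Normal := by
    haveI := fun p : primesOf G => sylowInf_normal (G := G) p.1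
    exact Subgroup.iSup_normal _
  haveI : Group.IsNilpotent F := iSup_sylowInf_nilpotent
  have h1 := pow_index_mem_of_isSubnormal (isSubnormal_of_isNilpotent (H.subgroupOf F)) ⟨x, hx⟩
  rw [Subgroup.mem_subgroupOf, SubgroupClass.coe_pow] at h1
  obtain ⟨c, hc⟩ : H.relIndex F ∣ H.index := by
    have ha : (H ⊓ F).relIndex F * F.index = (H ⊓ F).index := Subgroup.relIndex_mul_index inf_le_right
    have hb : (H ⊓ F).relIndex H * H.index = (H ⊓ F).index := Subgroup.relIndex_mul_index inf_le_left
    rw [Subgroup.inf_relIndex_right] at ha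
    rw [Subgroup.inf_relIndex_left] at hb
    obtain ⟨c, hc⟩ := Subgroup.relIndex_dvd_index_of_normal F H
    have hne : F.relIndex H ≠ 0 := Subgroup.index_ne_zero_of_finite
    refine ⟨c, mul_left_cancel₀ hne ?_⟩
    calc F.relIndex H * H.index = (H ⊓ F).index := hb
      _ = H.relIndex F * F.index := ha.symm
      _ = F.relIndex H * (H.relIndex F * c) := by rw [hc]; ring
  rw [hc, pow_mul]
  exact Subgroup.pow_mem _ h1 c

end Cfsg.Agent.S4263
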