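import Cfsg.Statements.S4264
import Mathlib
import Cfsg.Agent.Lib.ClassBound.Count
-- import your own Cfsg.Agent.* helpers here

set_option autoImplicit false
open Cfsg

namespace Cfsg.Agent.S4264


/-- Let G be a subgroup of the symmetric group of degree d ≥ 1. Then G has at most 5^{d−1} conjugacy classes. -/
theorem result (d : ℕ) (hd : 1 ≤ d) (G : Subgroup (Equiv.Perm (Fin d))) : Nat.card (ConjClasses ↥G) ≤ 5 ^ (d - 1) := by
  rcases Nat.lt_or_ge d 8 with h | h
  · refine le_trans (Nat.card_le_card_of_surjective _ ConjClasses.mk_surjective) (le_trans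
      (Nat.card_le_card_of_injective _ Subtype.val_injective) ?_)
    rw [Nat.card_perm, Nat.card_fin]
    interval_cases d <;> decide
  · refine le_trans (Cfsg.Agent.Lib.ClassBound.card_conjClasses_le_four_pow G) ?_
    rw [Nat.card_fin]
    induction d, h using Nat.le_induction with
    | base => norm_num
    | succ k hk ih =>
      obtain ⟨j, rfl⟩ : ∃ j, k = j + 1 := ⟨k - 1, by omega⟩
      simp only [Nat.add_sub_cancel] at ih ⊢
      calc 4 ^ (j + 1 + 1) = 4 ^ (j + 1) * 4 := pow_succ _ _
        _ ≤ 5 ^ j * 5 := Nat.mul_le_mul (ih (by omega) (Classical.arbitrary _)) (by norm_num)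
        _ = 5 ^ (j + 1) := (pow_succ _ _).symm

end Cfsg.Agent.S4264
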