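import Cfsg.Statements.S4265
import Cfsg.Agent.Lib.ClassesModFitting.Main

set_option autoImplicit false
open Cfsg

namespace Cfsg.Agent.S4265

/-- Let G be a finite solvable subgroup of GL_r(ℂ), r ≥ 1, with Fitting subgroup F(G) normal in G. Then for every subgroup H of G the quotient H/(H ∩ F(G)) has at most 3^{r−1} conjugacy classes. -/
theorem result (r : ℕ) (hr : 1 ≤ r) (G : Subgroup (GL (Fin r) ℂ)) [Finite ↥G] (hsolv : Group.IsSolvable ↥G) [hF : (Cfsg.fittingSubgroup ↥G).Normal] (H : Subgroup ↥G) : Nat.card (ConjClasses (↥H ⧸ (Cfsg.fittingSubgroup ↥G).subgroupOf H)) ≤ 3 ^ (r - 1) := by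
  haveI := hsolv
  let ρ : ↥G →* Module.End ℂ (Fin r → ℂ) :=
    (Matrix.toLinAlgEquiv' (R := ℂ) (n := Fin r)).toRingEquiv.toRingHom.toMonoidHom.comp
      ((Units.coeHom _).comp G.subtype)
  have hρ : Function.Injective ρ := fun a b hab =>
    Subtype.ext (Units.ext ((Matrix.toLinAlgEquiv' (R := ℂ) (n := Fin r)).injective hab))
  obtain ⟨E, hEn, hnil, hE⟩ := Lib.ClassesModFitting.exists_nilpotent_classes_bound ρ hρ
    (by rw [Module.finrank_fin_fun]; exact hr)
  haveI := hEn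
  have hle : E ≤ Cfsg.fittingSubgroup ↥G := le_sSup ⟨hEn, hnil⟩
  have hsub : E.subgroupOf H ≤ (Cfsg.fittingSubgroup ↥G).subgroupOf H :=
    fun x hx => Subgroup.mem_subgroupOf.mpr (hle (Subgroup.mem_subgroupOf.mp hx))
  refine (Lib.ClassesModFitting.classes_le_of_surjective
    (QuotientGroup.map (E.subgroupOf H) ((Cfsg.fittingSubgroup ↥G).subgroupOf H) (MonoidHom.id H) hsub)
    fun q => ?_).trans ((hE H inferInstance).trans_eq (by rw [Module.finrank_fin_fun]))
  obtain ⟨x, rfl⟩ := QuotientGroup.mk_surjective q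
  exact ⟨QuotientGroup.mk x, rfl⟩

end Cfsg.Agent.S4265
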