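import Cfsg.Statements.S4266
import Cfsg.Agent.Lib.ClassLowerSolv.Orbits
import Cfsg.Agent.Lib.ClassLowerSolv.Main
-- import your own Cfsg.Agent.* helpers here

set_option autoImplicit false
set_option linter.style.haveILetI false
open Cfsg

namespace Cfsg.Agent.S4266

open Cfsg.Agent.Lib.ClassLowerSolv Module
open scoped commutatorElement

universe u

variable {G : Type u} [Group G] [Finite G]

/-- A linear model over `ZMod r` of an action on an elementary abelian `r`-group. -/
theorem exists_additive_model {V : Type*} [Group V] [Finite V] {r : ℕ} [Fact r.Prime]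
    (hcomm : ∀ a b : V, a * b = b * a) (hexp : ∀ v : V, v ^ r = 1) :
    ∃ n : ℕ, Nat.card V = r ^ n ∧ ∃ (Mh : MulAut V →* Matrix (Fin n) (Fin n) (ZMod r))
      (e : V → Fin n → ZMod r), Function.Injective Mh ∧ Function.Bijective e ∧ e 1 = 0 ∧ (∀ v w, e (v * w) = e v + e w) ∧
        ∀ α v, e (α v) = (Mh α).mulVec (e v) := by
  letI : CommGroup V := { (inferInstance : Group V) with mul_comm := hcomm }
  have hsm : ∀ x : Additive V, r • x = 0 := fun x => by
    apply Additive.toMul.injective
    rw [toMul_nsmul, toMul_zero]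
    exact hexp _
  letI : Module (ZMod r) (Additive V) := AddCommGroup.zmodModule (n := r) (G := Additive V) hsm
  haveI : FiniteDimensional (ZMod r) (Additive V) := Module.Finite.of_finite
  set n := finrank (ZMod r) (Additive V)
  let b : Basis (Fin n) (ZMod r) (Additive V) := Module.finBasisOfFinrankEq (ZMod r) (Additive V) rfl
  refine ⟨n, ?_, (LinearMap.toMatrixAlgEquiv b).toAlgHom.toRingHom.toMonoidHom.comp
    { toFun := fun α : MulAut V => (MulEquiv.toAdditive α).toAddMonoidHom.toZModLinearMap r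
      map_one' := LinearMap.ext fun x => rfl
      map_mul' := fun α β => LinearMap.ext fun x => rfl },
    fun v => b.equivFun (Additive.ofMul v), ?_, ?_, ?_, fun v w => map_add b.equivFun _ _, ?_⟩
  · have h := Module.natCard_eq_pow_finrank (K := ZMod r) (V := Additive V)
    rw [Nat.card_zmod] at h
    rw [← h]
    exact Nat.card_congr Additive.ofMul
  · intro α β h
    have h' : (MulEquiv.toAdditive α).toAddMonoidHom.toZModLinearMap r =
        (MulEquiv.toAdditive β).toAddMonoidHom.toZModLinearMap r :=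
      (LinearMap.toMatrixAlgEquiv b).injective h
    exact MulEquiv.ext fun v => congrArg Additive.toMul (LinearMap.congr_fun h' (Additive.ofMul v))
  · exact b.equivFun.bijective.comp Additive.ofMul.bijective
  · exact map_zero b.equivFun
  · intro α v
    have h := LinearMap.toMatrix_mulVec_repr b b
      ((MulEquiv.toAdditive α).toAddMonoidHom.toZModLinearMap r) (Additive.ofMul v)
    exact h.symm

theorem three_le_classes [Group.IsSolvable G] (h : 3 ≤ Nat.card G) :
    3 ≤ Nat.card (ConjClasses G) := by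
  classical
  by_cases hab : ∀ a b : G, a * b = b * a
  · rw [classes_ge_of_commutative hab]; exact h
  haveI : Nontrivial G := Finite.one_lt_card_iff_nontrivial.mp (by omega)
  set D := commutator G with hD
  have hDtop : D ≠ ⊤ := (Group.IsSolvable.commutator_lt_top_of_nontrivial (G := G)).ne
  obtain ⟨x, hxD, hx1⟩ : ∃ x ∈ D, x ≠ (1 : G) := by
    by_contra hc
    push Not at hc
    exact hab fun a b => commutatorElement_eq_one_iff_mul_comm.mp
      (hc _ (Subgroup.commutator_mem_commutator (Subgroup.mem_top a) (Subgroup.mem_top b)))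
  obtain ⟨y, -, hyD⟩ := SetLike.exists_of_lt (lt_top_iff_ne_top.mpr hDtop)
  have hconj : ∀ a, IsConj a y → a ∉ D := fun a ha haD => by
    obtain ⟨c, rfl⟩ := isConj_iff.mp ha
    exact hyD ((inferInstance : D.Normal).conj_mem a haD c)
  have e1 : ConjClasses.mk x ≠ ConjClasses.mk (1 : G) := fun h =>
    hx1 (isConj_one_left.mp (ConjClasses.mk_eq_mk_iff_isConj.mp h))
  have e2 : ConjClasses.mk x ≠ ConjClasses.mk y := fun h =>
    hconj x (ConjClasses.mk_eq_mk_iff_isConj.mp h) hxD
  have e3 : ConjClasses.mk (1 : G) ≠ ConjClasses.mk y := fun h =>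
    hconj 1 (ConjClasses.mk_eq_mk_iff_isConj.mp h) (one_mem _)
  haveI := Fintype.ofFinite (ConjClasses G)
  rw [Nat.card_eq_fintype_card, ← Finset.card_univ]
  refine le_trans (le_of_eq ?_) (Finset.card_le_univ
    {ConjClasses.mk x, ConjClasses.mk (1 : G), ConjClasses.mk y})
  rw [Finset.card_insert_of_notMem (by simp [e1, e2]), Finset.card_pair e3]

/-- A nilpotent normal subgroup above a self-centralising failure. -/
theorem exists_nilpotent_above [Group.IsSolvable G] (P L : Subgroup G) [P.Normal] [L.Normal]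
    (hPL : P < L) (hcen : ∀ x ∈ P, ∀ g ∈ L, g * x = x * g) :
    ∃ J : Subgroup G, J.Normal ∧ P < J ∧ J ≤ L ∧ Group.IsNilpotent J := by
  obtain ⟨J, hJ⟩ := Set.Finite.exists_minimal
    (s := {J : Subgroup G | J.Normal ∧ P < J ∧ J ≤ L}) (Set.toFinite _)
    ⟨L, inferInstance, hPL, le_rfl⟩
  obtain ⟨⟨hJn, hPJ, hJL⟩, hJmin⟩ := hJ
  haveI := hJn
  set π := QuotientGroup.mk' P with hπ
  have hJne : J.map π ≠ ⊥ := by
    intro h
    rw [Subgroup.map_eq_bot_iff, QuotientGroup.ker_mk'] at h
    exact hPJ.not_ge h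
  haveI : Group.IsSolvable (G ⧸ P) :=
    Group.isSolvable_of_surjective (QuotientGroup.mk'_surjective P)
  have hlt : ⁅J.map π, J.map π⁆ < J.map π := Group.IsSolvable.commutator_lt_of_ne_bot hJne
  have hJJ : ⁅J, J⁆ ≤ P := by
    by_contra hnot
    have h1 : P ⊔ ⁅J, J⁆ ≤ J := sup_le hPJ.le (Subgroup.commutator_le_self J)
    have h2 : J ≤ P ⊔ ⁅J, J⁆ := hJmin (y := P ⊔ ⁅J, J⁆)
      ⟨inferInstance, left_lt_sup.mpr hnot, h1.trans hJL⟩ h1
    refine hlt.not_ge ?_
    rw [← Subgroup.map_commutator]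
    refine (Subgroup.map_mono h2).trans ?_
    rw [Subgroup.map_sup, QuotientGroup.map_mk'_self, bot_sup_eq]
  refine ⟨J, hJn, hPJ, hJL, ?_⟩
  set φ := π.comp J.subtype with hφ
  have hker : φ.ker ≤ Subgroup.center J := fun x hx => Subgroup.mem_center_iff.mpr fun g => by
    have hxP : (x : G) ∈ P := (QuotientGroup.eq_one_iff _).mp hx
    exact Subtype.ext (hcen _ hxP _ (hJL g.2))
  haveI : IsMulCommutative φ.range := ⟨⟨fun a b => by
    obtain ⟨_, x, rfl⟩ := a
    obtain ⟨_, y, rfl⟩ := b
    refine Subtype.ext (commutatorElement_eq_one_iff_mul_comm.mp ?_)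
    show ⁅π (x : G), π (y : G)⁆ = 1
    rw [← map_commutatorElement, hπ, QuotientGroup.mk'_apply, QuotientGroup.eq_one_iff]
    exact hJJ (Subgroup.commutator_mem_commutator x.2 y.2)⟩⟩
  letI : CommGroup φ.range :=
    { (inferInstance : Group φ.range) with
      mul_comm := (inferInstance : IsMulCommutative φ.range).is_comm.comm }
  haveI : Group.IsNilpotent φ.range := CommGroup.isNilpotent
  exact Subgroup.isNilpotent_of_ker_le_center φ.rangeRestrict (by rwa [MonoidHom.ker_rangeRestrict])

/-- In a nilpotent normal subgroup every prime has its own normal subgroup. -/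
theorem isPGroup_of_nilpotent {p : ℕ} [hp : Fact p.Prime]
    (hnor : ∀ N : Subgroup G, N.Normal → N ≠ ⊥ → ¬ p ^ 2 ∣ N.index) (hp2 : p ^ 2 ∣ Nat.card G)
    (J : Subgroup G) [J.Normal] [Group.IsNilpotent J] : IsPGroup p J := by
  refine IsPGroup.of_card (n := (Nat.card J).primeFactorsList.length)
    (Nat.eq_prime_pow_of_unique_prime_dvd Nat.card_pos.ne' fun {q} hq hqd => ?_)
  by_contra hne
  haveI := Fact.mk hq
  obtain ⟨Q⟩ : Nonempty (Sylow q J) := inferInstance
  have hn : (Q : Subgroup J).Normal :=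
    (Group.isNilpotent_of_finite_tfae.out 0 3 rfl rfl).mp ‹Group.IsNilpotent J› q ‹_› Q
  haveI := Q.characteristic_of_normal hn
  haveI hN : ((Q : Subgroup J).map J.subtype).Normal := ConjAct.normal_of_characteristic_of_normal
  refine hnor _ hN ?_ ?_
  · rw [Ne, Subgroup.map_eq_bot_iff_of_injective _ J.subtype_injective]
    exact Q.ne_bot_of_dvd_card hqd
  · obtain ⟨k, hk⟩ := (Q.isPGroup'.map J.subtype).exists_card_eq
    have hmul := ((Q : Subgroup J).map J.subtype).card_mul_index
    rw [hk] at hmul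
    rw [← hmul] at hp2
    exact (Nat.Coprime.dvd_mul_left (Nat.Coprime.pow 2 k
      ((Nat.coprime_primes hp.out hq).mpr (Ne.symm hne)))).mp hp2

/-- The bound for an elementary abelian self-centralising normal subgroup. -/
theorem bound_elementary [Group.IsSolvable G] {p : ℕ} [hp : Fact p.Prime] (hp5 : 5 ≤ p)
    (V : Subgroup G) [V.Normal] (hcomm : ∀ a ∈ V, ∀ b ∈ V, a * b = b * a)
    (hexp : ∀ a ∈ V, a ^ p = 1) (hself : ∀ g : G, (∀ x ∈ V, g * x = x * g) → g ∈ V)
    {a : ℕ} (ha : Nat.card V = p ^ a) (ha2 : 2 ≤ a) (hsq : ¬ p ^ 2 ∣ V.index)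
    (hcase : ¬ p ∣ V.index ∨ ∀ N : Subgroup G, N.Normal → N ≤ V → N = ⊥ ∨ N = V) :
    49 * p ≤ 60 * Nat.card (ConjClasses G) := by
  classical
  obtain ⟨Y, hY, hk⟩ := classes_split V V le_rfl fun x hx c hc => hcomm c hc x hx
  set H := G ⧸ V
  haveI : Group.IsSolvable H := Group.isSolvable_of_surjective (QuotientGroup.mk'_surjective V)
  have hVc : ∀ x y : V, x * y = y * x := fun x y => Subtype.ext (hcomm x x.2 y y.2)
  have hVe : ∀ v : V, v ^ p = 1 := fun v => Subtype.ext (by simpa using hexp v v.2)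
  obtain ⟨n, hn, Mh, e, hMh, he, he1, hea, heq⟩ := exists_additive_model hVc hVe
  have hna : n = a := Nat.pow_right_injective hp.out.two_le (hn.symm.trans ha)
  subst hna
  set ψ : G →* MulAut V := MulAut.conjNormal with hψ
  have hker : ψ.ker = V := by
    ext g
    rw [MonoidHom.mem_ker]
    constructor
    · intro hg
      refine hself g fun x hx => ?_
      have := congrArg (fun t : MulAut V => ((t ⟨x, hx⟩ : V) : G)) hg
      simp only [hψ, MulAut.conjNormal_apply, MulAut.one_apply] at this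
      exact mul_inv_eq_iff_eq_mul.mp this
    · intro hg
      refine MulEquiv.ext fun x => Subtype.ext ?_
      rw [hψ, MulAut.conjNormal_apply, MulAut.one_apply, hcomm g hg x x.2, mul_inv_cancel_right]
  let θ : H →* MulAut V := QuotientGroup.lift V ψ hker.ge
  have hθ : Function.Injective θ := by
    rw [injective_iff_map_eq_one]
    intro q hq
    obtain ⟨g, rfl⟩ := QuotientGroup.mk_surjective q
    exact (QuotientGroup.eq_one_iff g).mpr (hker.le hq)
  set F := AlgebraicClosure (ZMod p)
  haveI : CharP F p := charP_of_injective_algebraMap (algebraMap (ZMod p) F).injective p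
  set M := Mh.comp θ with hM
  let L : H →* Module.End F (Fin n → F) :=
    { toFun := fun h => Matrix.toLin' ((M h).map (algebraMap (ZMod p) F))
      map_one' := by rw [map_one, Matrix.map_one _ (map_zero _) (map_one _), Matrix.toLin'_one]; rfl
      map_mul' := fun g h => by rw [map_mul, Matrix.map_mul, Matrix.toLin'_mul]; rfl }
  have hidx : Nat.card H = V.index := (Subgroup.index_eq_card V).symm
  have hgood : GoodRep p L := by
    rcases hcase with h | h
    · exact Or.inl (by rwa [hidx])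
    refine Or.inr ⟨socTop_of_irreducible M L (fun g v => rfl) (by omega) fun U hU hU0 => ?_,
      by rwa [hidx]⟩
    have hemul : ∀ h : H, ∀ v, e (θ h v) = (M h).mulVec (e v) := fun g v => heq (θ g) v
    let N0 : Subgroup G := (Subgroup.closure {v : V | e v ∈ U}).map V.subtype
    have hmem : ∀ g : G, ∀ v : V, e v ∈ U → e (ψ g v) ∈ U := fun g v hv => by
      have := hemul (QuotientGroup.mk g) v
      show e (θ (QuotientGroup.mk g) v) ∈ U
      rw [this]; exact hU _ _ hv
    haveI hN0 : N0.Normal := ⟨fun x hx g => by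
      obtain ⟨v, hv, rfl⟩ := hx
      refine ⟨ψ g v, ?_, by simp [hψ]⟩
      have hle : Subgroup.closure {v : V | e v ∈ U} ≤
          (Subgroup.closure {v : V | e v ∈ U}).comap (ψ g).toMonoidHom :=
        (Subgroup.closure_le _).mpr fun w hw => Subgroup.subset_closure (hmem g w hw)
      exact hle hv⟩
    rcases h N0 hN0 (Subgroup.map_subtype_le _) with h0 | h0
    · exfalso
      obtain ⟨u, hu, hu0⟩ := Submodule.exists_mem_ne_zero_of_ne_bot hU0
      obtain ⟨v, rfl⟩ := he.2 u
      have : (v : G) ∈ N0 := ⟨v, Subgroup.subset_closure hu, rfl⟩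
      rw [h0, Subgroup.mem_bot] at this
      exact hu0 (by rw [show v = 1 from Subtype.ext this, he1])
    · -- the image of `U` is closed under the group operations
      have headd : ∀ v w : V, e v ∈ U → e w ∈ U → e (v * w) ∈ U := by
        intro v w hv hw
        rw [hea]; exact U.add_mem hv hw
      rw [eq_top_iff]
      intro u _
      obtain ⟨v, rfl⟩ := he.2 u
      have hv : v ∈ Subgroup.closure {v : V | e v ∈ U} := by
        have h1 : (v : G) ∈ N0 := by rw [h0]; exact v.2
        obtain ⟨w, hw, hwv⟩ := h1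
        exact Subtype.ext hwv ▸ hw
      refine Subgroup.closure_induction (p := fun w _ => e w ∈ U) (fun w hw => hw)
        (by rw [he1]; exact U.zero_mem) (fun x y _ _ hx hy => headd x y hx hy) (fun x _ hx => ?_) hv
      have hinv : x⁻¹ = x ^ (p - 1) := by
        rw [inv_eq_iff_mul_eq_one, ← pow_succ', Nat.sub_add_cancel hp.out.one_le, hVe]
      rw [hinv]
      induction p - 1 with
      | zero => rw [pow_zero, he1]; exact U.zero_mem
      | succ k ih => rw [pow_succ]; exact headd _ _ ih hx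
  have hY' : p ^ n ≤ Y * Nat.card H + 1 := by rw [hidx, ← ha]; exact hY
  have := classes_add_orbits ha2 M (fun g h hgh => hθ (hMh hgh)) L (fun h => rfl) hgood hp5 hY'
  have hk' : Y + Nat.card (ConjClasses H) ≤ Nat.card (ConjClasses G) := hk
  omega

/-- The bound when the normal subgroup has order `p ^ 2`. -/
theorem bound_cyclic [Group.IsSolvable G] {p : ℕ} [hp : Fact p.Prime] (hp5 : 5 ≤ p)
    (P : Subgroup G) [P.Normal] [IsCyclic P] (hcard : Nat.card P = p ^ 2)
    (hself : ∀ g : G, (∀ x ∈ P, g * x = x * g) → g ∈ P) :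
    49 * p ≤ 60 * Nat.card (ConjClasses G) := by
  have hcom : ∀ a ∈ P, ∀ b ∈ P, a * b = b * a := fun a ha b hb =>
    congrArg Subtype.val (IsCyclic.commGroup.mul_comm (⟨a, ha⟩ : P) ⟨b, hb⟩)
  obtain ⟨Y, hY, hk⟩ := classes_split P P le_rfl fun x hx c hc => hcom c hc x hx
  obtain ⟨g0, hg0⟩ := IsCyclic.exists_generator (α := P)
  set ψ : G →* MulAut P := MulAut.conjNormal with hψ
  have hcomm : ∀ u v : MulAut P, u * v = v * u := by
    intro α β
    refine MulEquiv.ext fun z => ?_
    obtain ⟨m, rfl⟩ := Subgroup.mem_zpowers_iff.mp (hg0 z)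
    rw [map_zpow, map_zpow]
    congr 1
    obtain ⟨i, hi⟩ := Subgroup.mem_zpowers_iff.mp (hg0 (α g0))
    obtain ⟨j, hj⟩ := Subgroup.mem_zpowers_iff.mp (hg0 (β g0))
    rw [MulAut.mul_apply, MulAut.mul_apply, ← hj, map_zpow, ← hi, map_zpow, ← hj, ← zpow_mul,
      ← zpow_mul, mul_comm]
  have hab : ∀ a b : G ⧸ P, a * b = b * a := by
    intro a b
    obtain ⟨x, rfl⟩ := QuotientGroup.mk_surjective a
    obtain ⟨y, rfl⟩ := QuotientGroup.mk_surjective b
    rw [← QuotientGroup.mk_mul, ← QuotientGroup.mk_mul, QuotientGroup.eq]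
    refine hself _ fun z hz => ?_
    have h1 : ψ ((x * y)⁻¹ * (y * x)) = 1 := by
      rw [map_mul, map_inv, map_mul, map_mul, hcomm (ψ x), inv_mul_cancel]
    have := congrArg (fun t : MulAut P => ((t ⟨z, hz⟩ : P) : G)) h1
    simp only [hψ, MulAut.conjNormal_apply, MulAut.one_apply] at this
    exact mul_inv_eq_iff_eq_mul.mp this
  have hk' : Y + P.index ≤ Nat.card (ConjClasses G) := by
    rwa [classes_ge_of_commutative hab, ← Subgroup.index_eq_card] at hk
  rw [hcard] at hY
  have h4 : 4 * (P.index * Y) ≤ (P.index + Y) * (P.index + Y) := by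
    nlinarith [mul_self_nonneg ((P.index : ℤ) - Y)]
  by_contra hc
  push Not at hc
  have h6 : (60 * (P.index + Y) + 1) * (60 * (P.index + Y) + 1) ≤ (49 * p) * (49 * p) :=
    Nat.mul_self_le_mul_self (by omega)
  nlinarith [Nat.mul_le_mul hp5 hp5]

/-- The main induction. -/
theorem main {p : ℕ} [hp : Fact p.Prime] : ∀ (N : ℕ) (G : Type u) [Group G] [Finite G]
    [Group.IsSolvable G], Nat.card G = N → p ^ 2 ∣ Nat.card G →
    49 * p ≤ 60 * Nat.card (ConjClasses G) := by
  intro N
  induction N using Nat.strong_induction_on with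
  | _ N ih => ?_
  intro G _ _ _ hN hd
  have hbig : p ^ 2 ≤ Nat.card G := Nat.le_of_dvd Nat.card_pos hd
  have hp2 := hp.out.two_le
  rcases Nat.lt_or_ge p 5 with hsmall | hp5
  · have h9 : p * p ≤ Nat.card G := by rwa [← sq]
    have h3 := three_le_classes (G := G) (by nlinarith)
    have h4 : p ≠ 4 := fun h => absurd (h ▸ hp.out) (by norm_num)
    omega
  by_cases hq : ∃ N : Subgroup G, N.Normal ∧ N ≠ ⊥ ∧ p ^ 2 ∣ N.index
  · obtain ⟨K, hK, hK0, hKd⟩ := hq
    haveI := hK
    haveI : Group.IsSolvable (G ⧸ K) := Group.isSolvable_of_surjective (QuotientGroup.mk'_surjective K)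
    have hlt : Nat.card (G ⧸ K) < N := by
      rw [← Subgroup.index_eq_card, ← hN, ← K.card_mul_index]
      have h1 : 1 < Nat.card K := K.one_lt_card_iff_ne_bot.mpr hK0
      have h2 : 0 < K.index := Nat.pos_of_ne_zero Subgroup.index_ne_zero_of_finite
      nlinarith
    have := ih _ hlt (G ⧸ K) rfl (by rwa [← Subgroup.index_eq_card])
    have := classes_quotient_le (G := G) K
    omega
  push Not at hq
  haveI : Nontrivial G := Finite.one_lt_card_iff_nontrivial.mp (by nlinarith)
  obtain ⟨M, hMn, hM0, hMc, hMmin, q, hqp, hMq, hMexp⟩ :=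
    Cfsg.Agent.Lib.Supersolvable.exists_minimal_normal_solvable G
  haveI := hMn
  haveI := Fact.mk hqp
  obtain ⟨a, ha0, hMcard⟩ := Cfsg.Agent.Lib.Supersolvable.isPGroup_prime_dvd hMq hM0
  have hqeq : q = p := by
    by_contra hne
    refine hq M hMn hM0 ?_
    have hd' := hd
    rw [← M.card_mul_index, hMcard] at hd'
    exact (Nat.Coprime.dvd_mul_left (Nat.Coprime.pow 2 a
      ((Nat.coprime_primes hp.out hqp).mpr (Ne.symm hne)))).mp hd'
  subst hqeq
  have hMcom : ∀ x ∈ M, ∀ y ∈ M, x * y = y * x := fun x hx y hy =>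
    congrArg Subtype.val (mul_comm' (⟨x, hx⟩ : M) ⟨y, hy⟩)
  set C := Subgroup.centralizer (M : Set G) with hC
  haveI : C.Normal := by rw [hC]; infer_instance
  have hMC : M ≤ C := fun x hx => Subgroup.mem_centralizer_iff.mpr fun y hy => hMcom y hy x hx
  by_cases hCM : C = M
  · have hself : ∀ g : G, (∀ x ∈ M, g * x = x * g) → g ∈ M := fun g hg =>
      hCM ▸ Subgroup.mem_centralizer_iff.mpr fun x hx => (hg x hx).symm
    have ha2 : 2 ≤ a := by
      by_contra h
      obtain rfl : a = 1 := by omega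
      rw [pow_one] at hMcard
      set ψ : G →* MulAut M := MulAut.conjNormal with hψ
      have hker : ψ.ker ≤ M := fun g hg => hself g fun x hx => by
        have := congrArg (fun t : MulAut M => ((t ⟨x, hx⟩ : M) : G)) (MonoidHom.mem_ker.mp hg)
        simp only [hψ, MulAut.conjNormal_apply, MulAut.one_apply] at this
        exact mul_inv_eq_iff_eq_mul.mp this
      haveI : IsCyclic M := isCyclic_of_prime_card hMcard
      have h1 : ψ.ker.index ∣ q - 1 := by
        rw [Subgroup.index_ker]
        refine (Subgroup.card_subgroup_dvd_card _).trans (dvd_of_eq ?_)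
        rw [IsCyclic.card_mulAut, hMcard, Nat.totient_prime hqp]
      have h2 : M.index ∣ q - 1 := (Subgroup.index_dvd_of_le hker).trans h1
      rw [← M.card_mul_index, hMcard, sq] at hd
      have h3 := (Nat.le_of_dvd (by omega) ((Nat.dvd_of_mul_dvd_mul_left hqp.pos hd).trans h2))
      omega
    exact bound_elementary hp5 M hMcom hMexp hself hMcard ha2 (hq M hMn hM0) (Or.inr hMmin)
  obtain ⟨J, hJn, hMJ, hJC, hJnil⟩ := exists_nilpotent_above M C (lt_of_le_of_ne hMC (Ne.symm hCM))
    fun x hx g hg => (Subgroup.mem_centralizer_iff.mp hg x hx).symm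
  haveI := hJn
  haveI := hJnil
  have hJp : IsPGroup q J := isPGroup_of_nilpotent (fun N hN hN0 => hq N hN hN0) hd J
  obtain ⟨c, hc⟩ := hJp.exists_card_eq
  have hac : a < c := by
    have := lt_of_le_of_ne (Subgroup.card_le_of_le hMJ.le) fun h => hMJ.ne (Subgroup.eq_of_le_of_card_ge hMJ.le h.ge)
    rw [hMcard, hc] at this
    exact (Nat.pow_lt_pow_iff_right hqp.one_lt).mp this
  have hJidx : ¬ q ∣ J.index := by
    intro hdJ
    refine hq M hMn hM0 ?_
    rw [← Subgroup.relIndex_mul_index hMJ.le]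
    have h1 : q ∣ M.relIndex J := by
      have h2 := (M.subgroupOf J).card_mul_index
      rw [Nat.card_congr (Subgroup.subgroupOfEquivOfLe hMJ.le).toEquiv, hMcard, hc] at h2
      obtain ⟨d, rfl⟩ := Nat.exists_eq_add_of_lt hac
      refine ⟨q ^ d, Nat.eq_of_mul_eq_mul_left (pow_pos hqp.pos a) ?_⟩
      show q ^ a * (M.subgroupOf J).index = _
      rw [h2]; ring
    rw [sq]
    exact Nat.mul_dvd_mul h1 hdJ
  have hca : c = a + 1 := by
    by_contra hne
    refine hq M hMn hM0 ?_
    have h2 : q ^ a * M.index = q ^ c * J.index := by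
      rw [← hMcard, ← hc, M.card_mul_index, J.card_mul_index]
    obtain ⟨d, rfl⟩ := Nat.exists_eq_add_of_le (show a + 2 ≤ c by omega)
    refine ⟨q ^ d * J.index, Nat.eq_of_mul_eq_mul_left (pow_pos hqp.pos a) ?_⟩
    rw [h2]; ring
  subst hca
  have hJcom : ∀ x ∈ J, ∀ y ∈ J, x * y = y * x := by
    have hcard : Nat.card (J ⧸ M.subgroupOf J) = q := by
      have h2 := (M.subgroupOf J).card_mul_index
      rw [Nat.card_congr (Subgroup.subgroupOfEquivOfLe hMJ.le).toEquiv, hMcard, hc, pow_succ] at h2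
      rw [← Subgroup.index_eq_card]
      exact Nat.eq_of_mul_eq_mul_left (pow_pos hqp.pos a) h2
    haveI : IsCyclic (J ⧸ M.subgroupOf J) := isCyclic_of_prime_card hcard
    intro x hx y hy
    refine congrArg Subtype.val (commutative_of_cyclic_center_quotient
      (QuotientGroup.mk' (M.subgroupOf J)) ?_ (⟨x, hx⟩ : J) ⟨y, hy⟩)
    rw [QuotientGroup.ker_mk']
    exact fun z hz => Subgroup.mem_center_iff.mpr fun g => Subtype.ext
      (Subgroup.mem_centralizer_iff.mp (hJC g.2) z hz).symm
  have hJM0 : J ≠ ⊥ := fun h => hM0 (le_bot_iff.mp (h ▸ hMJ.le))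
  have hselfJ : ∀ g : G, (∀ x ∈ J, g * x = x * g) → g ∈ J := by
    set D := Subgroup.centralizer (J : Set G) with hD
    haveI : D.Normal := by rw [hD]; infer_instance
    have hJD : J ≤ D := fun x hx => Subgroup.mem_centralizer_iff.mpr fun y hy => hJcom y hy x hx
    have hDJ : D = J := by
      by_contra hne
      obtain ⟨J2, hJ2n, hJJ2, hJ2D, hJ2nil⟩ := exists_nilpotent_above J D
        (lt_of_le_of_ne hJD (Ne.symm hne)) fun x hx g hg => (Subgroup.mem_centralizer_iff.mp hg x hx).symm
      haveI := hJ2n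
      haveI := hJ2nil
      obtain ⟨c2, hc2⟩ := (isPGroup_of_nilpotent (fun N hN hN0 => hq N hN hN0) hd J2).exists_card_eq
      have hlt := lt_of_le_of_ne (Subgroup.card_le_of_le hJJ2.le) fun h => hJJ2.ne (Subgroup.eq_of_le_of_card_ge hJJ2.le h.ge)
      rw [hc, hc2] at hlt
      have hcc := (Nat.pow_lt_pow_iff_right hqp.one_lt).mp hlt
      apply hJidx
      have h2 : q ^ (a + 1) * J.index = q ^ c2 * J2.index := by
        rw [← hc, ← hc2, J.card_mul_index, J2.card_mul_index]
      obtain ⟨d, rfl⟩ := Nat.exists_eq_add_of_lt hcc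
      refine ⟨q ^ d * J2.index, Nat.eq_of_mul_eq_mul_left (pow_pos hqp.pos (a + 1)) ?_⟩
      rw [h2]; ring
    exact fun g hg => hDJ ▸ Subgroup.mem_centralizer_iff.mpr fun x hx => (hg x hx).symm
  by_cases hexp : ∀ x ∈ J, x ^ q = 1
  · exact bound_elementary hp5 J hJcom hexp hselfJ hc (by omega) (hq J hJn hJM0) (Or.inl hJidx)
  push Not at hexp
  obtain ⟨x, hxJ, hx⟩ := hexp
  letI : CommGroup J :=
    { (inferInstance : Group J) with mul_comm := fun u v => Subtype.ext (hJcom u u.2 v v.2) }
  -- the `q`-th power map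
  set pw : J →* J := powMonoidHom q with hpw
  set R := pw.range.map J.subtype with hR
  have hRn : R.Normal := ⟨fun r hr g => by
    obtain ⟨_, ⟨u, rfl⟩, rfl⟩ := hr
    refine ⟨pw ⟨g * u * g⁻¹, hJn.conj_mem u u.2 g⟩, ⟨_, rfl⟩, ?_⟩
    show (g * (u : G) * g⁻¹) ^ q = g * (u : G) ^ q * g⁻¹
    exact conj_pow⟩
  have hRM : R ≤ M := by
    rintro _ ⟨_, ⟨u, rfl⟩, rfl⟩
    show ((u : G)) ^ q ∈ M
    have h2 := (M.subgroupOf J).card_mul_index
    rw [Nat.card_congr (Subgroup.subgroupOfEquivOfLe hMJ.le).toEquiv, hMcard, hc, pow_succ] at h2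
    have hi : (M.subgroupOf J).index = q := Nat.eq_of_mul_eq_mul_left (pow_pos hqp.pos a) h2
    have h3 := Subgroup.pow_index_mem (M.subgroupOf J) u
    rw [hi, Subgroup.mem_subgroupOf] at h3
    simpa using h3
  have hRcard : Nat.card R ≤ q := by
    rw [hR, Nat.card_congr (Subgroup.equivMapOfInjective _ _ J.subtype_injective).symm.toEquiv,
      ← Subgroup.index_ker]
    have hle : M.subgroupOf J ≤ pw.ker := fun u hu => by
      rw [MonoidHom.mem_ker]
      exact Subtype.ext (hMexp _ hu)
    have h2 := (M.subgroupOf J).card_mul_index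
    rw [Nat.card_congr (Subgroup.subgroupOfEquivOfLe hMJ.le).toEquiv, hMcard, hc, pow_succ] at h2
    have hi : (M.subgroupOf J).index = q := Nat.eq_of_mul_eq_mul_left (pow_pos hqp.pos a) h2
    exact Nat.le_of_dvd hqp.pos (hi ▸ Subgroup.index_dvd_of_le hle)
  have hR0 : R ≠ ⊥ := fun h => hx (by
    have : x ^ q ∈ R := ⟨pw ⟨x, hxJ⟩, ⟨_, rfl⟩, rfl⟩
    rwa [h, Subgroup.mem_bot] at this)
  have hRM' : R = M := (hMmin R hRn hRM).resolve_left hR0
  rw [hRM', hMcard] at hRcard
  obtain rfl : a = 1 := by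
    by_contra h
    have : q ^ 2 ≤ q ^ a := Nat.pow_le_pow_right hqp.pos (by omega)
    nlinarith [hqp.two_le]
  have hord : orderOf (⟨x, hxJ⟩ : J) = Nat.card J := by
    rw [hc]
    refine orderOf_eq_prime_pow (fun h => hx ?_) ?_
    · rw [pow_one] at h; exact congrArg Subtype.val h
    · rw [← hc]; exact pow_card_eq_one'
  haveI : IsCyclic J := isCyclic_of_orderOf_eq_card _ hord
  exact bound_cyclic hp5 J hc hselfJ

/-- Let p be a prime and G a finite solvable group whose order is divisible by p². Then G has at least 49p/60 conjugacy classes. -/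
theorem result {G : Type*} [Group G] [Finite G] (hsolv : Group.IsSolvable G) (p : ℕ) [Fact p.Prime] (hp : p ^ 2 ∣ Nat.card G) : 49 * p ≤ 60 * Nat.card (ConjClasses G) := by
  haveI := hsolv
  exact main _ G rfl hp

end Cfsg.Agent.S4266
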