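import Cfsg.Statements.S4269
import Mathlib


set_option autoImplicit false
open Cfsg

namespace Cfsg.Agent.S4269

/-- Let G be a finite group, V an abelian normal subgroup and H a subgroup with HV = G. Then H is pronormal in G (H and gHg⁻¹ are conjugate inside the subgroup they generate, for every g) if and only if every H-invariant subgroup U of V satisfies U = N_U(H)·[H, U], that is, U is the join of U ∩ N_G(H) and the commutator subgroup [H, U]. -/
theorem result {G : Type*} [Group G] [Finite G]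
    (V : Subgroup G) [V.Normal] (hV : IsMulCommutative ↥V) (H : Subgroup G) (hHV : H ⊔ V = ⊤) :
    Cfsg.IsPronormal H ↔
      ∀ U : Subgroup G, U ≤ V → (∀ h ∈ H, U.map (MulAut.conj h).toMonoidHom = U) →
        U = (U ⊓ Subgroup.normalizer (H : Set G)) ⊔ ⁅H, U⁆ := by
  open scoped commutatorElement in
  constructor
  · intro hP U hUV hUinv
    have hn : ∀ h ∈ H, ∀ u ∈ U, h * u * h⁻¹ ∈ U := fun h hh u hu => by
      have := Subgroup.mem_map_of_mem (MulAut.conj h).toMonoidHom hu
      rw [hUinv h hh] at this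
      simpa using this
    have hHU : ⁅H, U⁆ ≤ U := Subgroup.commutator_le.mpr fun h hh u hu => by
      simpa [commutatorElement_def] using U.mul_mem (hn h hh u hu) (U.inv_mem hu)
    refine le_antisymm (fun u hu => ?_) (sup_le inf_le_left hHU)
    obtain ⟨x, hx, hxe⟩ := hP u
    have hCn : H ≤ Subgroup.normalizer ((⁅H, U⁆ : Subgroup G) : Set G) := by
      intro h hh
      have hcl : ∀ h ∈ H, ∀ z ∈ ⁅H, U⁆, h * z * h⁻¹ ∈ ⁅H, U⁆ := by
        intro h hh z hz
        have := Subgroup.mem_map_of_mem (MulAut.conj h).toMonoidHom hz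
        rw [Subgroup.map_commutator] at this
        have e : H.map (MulAut.conj h).toMonoidHom = H := by
          refine le_antisymm ?_ fun a ha => ⟨h⁻¹ * a * h,
            H.mul_mem (H.mul_mem (H.inv_mem hh) ha) hh, by simp [mul_assoc]⟩
          rintro _ ⟨a, ha, rfl⟩
          simpa using H.mul_mem (H.mul_mem hh ha) (H.inv_mem hh)
        rw [e, hUinv h hh] at this
        simpa using this
      rw [Subgroup.mem_normalizer_iff]
      refine fun z => ⟨hcl h hh z, fun hz => ?_⟩
      simpa [mul_assoc] using hcl h⁻¹ (H.inv_mem hh) _ hz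
    have hle : H ⊔ H.map (MulAut.conj u).toMonoidHom ≤ ⁅H, U⁆ ⊔ H := by
      refine sup_le le_sup_right ?_
      rintro _ ⟨h, hh, rfl⟩
      have e : MulAut.conj u h = ⁅h, u⁆⁻¹ * h := by
        simp [commutatorElement_def, mul_assoc]
      rw [show (MulAut.conj u).toMonoidHom h = MulAut.conj u h from rfl, e]
      exact mul_mem (Subgroup.mem_sup_left (inv_mem (Subgroup.commutator_mem_commutator hh hu)))
        (Subgroup.mem_sup_right hh)
    have hx' : x ∈ ((⁅H, U⁆ ⊔ H : Subgroup G) : Set G) := hle hx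
    rw [Subgroup.coe_mul_of_right_le_normalizer_left _ _ hCn] at hx'
    obtain ⟨c, hc, h, hh, rfl⟩ := hx'
    have hcu : c⁻¹ * u ∈ U ⊓ Subgroup.normalizer (H : Set G) := by
      refine ⟨U.mul_mem (U.inv_mem (hHU hc)) hu, ?_⟩
      change c⁻¹ * u ∈ Subgroup.normalizer (H : Set G)
      rw [Subgroup.mem_normalizer_iff]
      intro a
      constructor
      · intro ha
        have := Subgroup.mem_map_of_mem (MulAut.conj u).toMonoidHom ha
        rw [hxe] at this
        obtain ⟨b, hb, e⟩ := this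
        have e' : c * h * b * (c * h)⁻¹ = u * a * u⁻¹ := by simpa [mul_assoc] using e
        have : c⁻¹ * u * a * (c⁻¹ * u)⁻¹ = h * b * h⁻¹ := by
          calc c⁻¹ * u * a * (c⁻¹ * u)⁻¹ = c⁻¹ * (u * a * u⁻¹) * c := by group
            _ = _ := by rw [← e']; group
        rw [this]
        exact H.mul_mem (H.mul_mem hh hb) (H.inv_mem hh)
      · intro ha
        have hb : h⁻¹ * (c⁻¹ * u * a * (c⁻¹ * u)⁻¹) * h ∈ H :=
          H.mul_mem (H.mul_mem (H.inv_mem hh) ha) hh
        have := Subgroup.mem_map_of_mem (MulAut.conj (c * h)).toMonoidHom hb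
        rw [← hxe] at this
        obtain ⟨b, hb', e⟩ := this
        have e' : u * b * u⁻¹ = u * a * u⁻¹ :=
          (show u * b * u⁻¹ = c * h * (h⁻¹ * (c⁻¹ * u * a * (c⁻¹ * u)⁻¹) * h) * (c * h)⁻¹ by
            simpa [mul_assoc] using e).trans (by group)
        rwa [← mul_left_cancel (mul_right_cancel e')]
    rw [← mul_inv_cancel_left c u]
    exact mul_mem (Subgroup.mem_sup_right hc) (Subgroup.mem_sup_left hcu)
  · intro hU g
    obtain ⟨v, hv, h₀, hh₀, rfl⟩ : ∃ v ∈ V, ∃ h₀ ∈ H, v * h₀ = g :=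
      Subgroup.mem_sup_of_normal_left.mp
        (show g ∈ V ⊔ H by rw [sup_comm, hHV]; exact Subgroup.mem_top g)
    have e0 : H.map (MulAut.conj (v * h₀)).toMonoidHom = H.map (MulAut.conj v).toMonoidHom := by
      ext a
      simp only [Subgroup.mem_map]
      constructor
      · rintro ⟨b, hb, rfl⟩
        exact ⟨h₀ * b * h₀⁻¹, H.mul_mem (H.mul_mem hh₀ hb) (H.inv_mem hh₀), by simp [mul_assoc]⟩
      · rintro ⟨b, hb, rfl⟩
        exact ⟨h₀⁻¹ * b * h₀, H.mul_mem (H.mul_mem (H.inv_mem hh₀) hb) hh₀, by simp [mul_assoc]⟩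
    rw [e0]
    set J := H ⊔ H.map (MulAut.conj v).toMonoidHom with hJ
    set U := Subgroup.closure {u : G | ∃ k ∈ H, u = k * v * k⁻¹} with hUdef
    have hUV : U ≤ V := (Subgroup.closure_le _).mpr fun u ⟨k, _, hu⟩ => by
      rw [hu]; exact Subgroup.Normal.conj_mem inferInstance v hv k
    have hUinv : ∀ h ∈ H, U.map (MulAut.conj h).toMonoidHom = U := by
      intro h hh
      rw [hUdef, MonoidHom.map_closure]
      congr 1
      ext a
      constructor
      · rintro ⟨_, ⟨k, hk, rfl⟩, rfl⟩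
        exact ⟨h * k, H.mul_mem hh hk, by simp [mul_assoc]⟩
      · rintro ⟨k, hk, rfl⟩
        exact ⟨h⁻¹ * k * v * (h⁻¹ * k)⁻¹, ⟨h⁻¹ * k, H.mul_mem (H.inv_mem hh) hk, rfl⟩,
          by simp [mul_assoc]⟩
    have hvU : v ∈ U := Subgroup.subset_closure ⟨1, H.one_mem, by simp⟩
    have hcomm : ∀ a ∈ V, ∀ b ∈ V, a * b = b * a := fun a ha b hb =>
      congrArg Subtype.val (Std.Commutative.comm (op := (· * · : V → V → V)) ⟨a, ha⟩ ⟨b, hb⟩)
    have hgen : ∀ u ∈ U, ∀ h ∈ H, ⁅h, u⁆ ∈ J := by
      intro u hu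
      induction hu using Subgroup.closure_induction with
      | mem u hu =>
        obtain ⟨k, hk, rfl⟩ := hu
        intro h hh
        have e : ⁅h, k * v * k⁻¹⁆
            = k * ((k⁻¹ * h * k) * (v * (k⁻¹ * h * k)⁻¹ * v⁻¹)) * k⁻¹ := by
          simp [commutatorElement_def, mul_assoc]
        rw [e]
        have hk' : k ∈ J := Subgroup.mem_sup_left hk
        have h' : k⁻¹ * h * k ∈ H := H.mul_mem (H.mul_mem (H.inv_mem hk) hh) hk
        refine J.mul_mem (J.mul_mem hk' (J.mul_mem (Subgroup.mem_sup_left h') ?_)) (J.inv_mem hk')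
        exact Subgroup.mem_sup_right ⟨_, H.inv_mem h', by simp [mul_assoc]⟩
      | one => intro h _; simp
      | mul a b ha hb iha ihb =>
        intro h hh
        have hV' : ⁅h, b⁆ ∈ V := by
          simpa [commutatorElement_def] using
            V.mul_mem (Subgroup.Normal.conj_mem inferInstance b (hUV hb) h) (V.inv_mem (hUV hb))
        have e : ⁅h, a * b⁆ = ⁅h, a⁆ * (a * ⁅h, b⁆ * a⁻¹) := by
          simp [commutatorElement_def, mul_assoc]
        rw [e, hcomm a (hUV ha) _ hV', mul_inv_cancel_right]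
        exact J.mul_mem (iha h hh) (ihb h hh)
      | inv a ha iha =>
        intro h hh
        have hV' : ⁅h, a⁆ ∈ V := by
          simpa [commutatorElement_def] using
            V.mul_mem (Subgroup.Normal.conj_mem inferInstance a (hUV ha) h) (V.inv_mem (hUV ha))
        have e : ⁅h, a⁻¹⁆ = a⁻¹ * ⁅h, a⁆⁻¹ * a⁻¹⁻¹ := by
          simp [commutatorElement_def, mul_assoc]
        rw [e, hcomm a⁻¹ (V.inv_mem (hUV ha)) _ (V.inv_mem hV'), mul_inv_cancel_right]
        exact J.inv_mem (iha h hh)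
    have hCJ : ⁅H, U⁆ ≤ J := Subgroup.commutator_le.mpr fun h hh u hu => hgen u hu h hh
    have hv' : v ∈ U ⊓ Subgroup.normalizer (H : Set G) ⊔ ⁅H, U⁆ := by
      rw [← hU U hUV hUinv]; exact hvU
    have hCV : ⁅H, U⁆ ≤ V := (Subgroup.commutator_mono le_rfl hUV).trans (Subgroup.commutator_le_right H V)
    have hsup : ∃ c ∈ ⁅H, U⁆, ∃ n ∈ U ⊓ Subgroup.normalizer (H : Set G), c * n = v := by
      have hn : U ⊓ Subgroup.normalizer (H : Set G) ≤
          Subgroup.normalizer ((⁅H, U⁆ : Subgroup G) : Set G) := by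
        intro n hn
        rw [Subgroup.mem_normalizer_iff]
        intro a
        constructor
        · intro ha; rwa [hcomm n (hUV hn.1) a (hCV ha), mul_inv_cancel_right]
        · intro ha
          have haV : a ∈ V := by
            have := Subgroup.Normal.conj_mem inferInstance _ (hCV ha) n⁻¹
            simpa [mul_assoc] using this
          rwa [hcomm n (hUV hn.1) a haV, mul_inv_cancel_right] at ha
      have : v ∈ ((⁅H, U⁆ ⊔ (U ⊓ Subgroup.normalizer (H : Set G)) : Subgroup G) : Set G) := by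
        rw [sup_comm]; exact hv'
      rw [Subgroup.coe_mul_of_right_le_normalizer_left _ _ hn] at this
      obtain ⟨c, hc, n, hn', e⟩ := this
      exact ⟨c, hc, n, hn', e⟩
    obtain ⟨c, hc, n, hn, rfl⟩ := hsup
    refine ⟨c, hCJ hc, ?_⟩
    ext a
    simp only [Subgroup.mem_map]
    constructor
    · rintro ⟨b, hb, rfl⟩
      exact ⟨n * b * n⁻¹, (Subgroup.mem_normalizer_iff.mp hn.2 b).mp hb, by simp [mul_assoc]⟩
    · rintro ⟨b, hb, rfl⟩
      refine ⟨n⁻¹ * b * n, ?_, by simp [mul_assoc]⟩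
      rw [Subgroup.mem_normalizer_iff.mp hn.2]
      simpa [mul_assoc] using hb

end Cfsg.Agent.S4269
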