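import Cfsg.Statements.S4274
import Mathlib

set_option autoImplicit false
open Cfsg

namespace Cfsg.Agent.S4274

/-- Divisors of `175560`, as a list. -/
def dvs : List ℕ :=
  [1, 2, 4, 8].flatMap fun a => [1, 3].flatMap fun b => [1, 5].flatMap fun c =>
    [1, 7].flatMap fun e => [1, 11].flatMap fun f => [1, 19].map fun g => a * b * c * e * f * g

theorem mem_dvs {a : ℕ} (h : a ∣ 175560) : a ∈ dvs := by
  rw [show 175560 = 8 * 3 * 5 * 7 * 11 * 19 by norm_num] at h
  obtain ⟨a5, g, h5, hg, rfl⟩ := Nat.dvd_mul.mp h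
  obtain ⟨a4, f, h4, hf, rfl⟩ := Nat.dvd_mul.mp h5
  obtain ⟨a3, e, h3, he, rfl⟩ := Nat.dvd_mul.mp h4
  obtain ⟨a2, c, h2, hc, rfl⟩ := Nat.dvd_mul.mp h3
  obtain ⟨a1, b, h1, hb, rfl⟩ := Nat.dvd_mul.mp h2
  obtain ⟨i, hi, rfl⟩ := (Nat.dvd_prime_pow Nat.prime_two (m := 3)).mp h1
  rw [Nat.dvd_prime (by norm_num)] at hg hf he hc hb
  simp only [dvs, List.mem_flatMap, List.mem_map]
  refine ⟨2 ^ i, ?_, b, ?_, c, ?_, e, ?_, f, ?_, g, ?_, rfl⟩
  · interval_cases i <;> simp
  all_goals simp only [List.mem_cons, List.not_mem_nil, or_false]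
  all_goals assumption

/-- The primes dividing `175560` exactly once. -/
def eprimes : List ℕ := [19, 11, 7, 5, 3]

theorem eprimes_facts : ∀ p ∈ eprimes, Nat.Prime p ∧ ¬ p * p ∣ 175560 := by
  intro p hp
  fin_cases hp <;> exact ⟨by norm_num, by norm_num⟩

/-- Candidates (number of Sylow subgroups, centraliser order) at a prime. -/
def opts (d p : ℕ) : List (ℕ × ℕ) :=
  (dvs.filter fun n => (d / p) % n == 0 && n % p == 1 && !(n == 1)).flatMap fun n =>
    (dvs.filter fun c => d / n % c == 0 && c % p == 0 && !(c == d / n) &&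
      (p - 1) % (d / n / c) == 0 &&
      [2, 3, 5, 7, 11, 19].all fun q => !(c / p % q == 0) || decide (p * q ≤ n - 1)).map
      fun c => (n, c)

/-- Compatibility of the data at two primes. -/
def compat (d p : ℕ) (x : ℕ × ℕ) (q : ℕ) (y : ℕ × ℕ) : Bool :=
  !(x.2 % q == 0) || dvs.any fun t => t % q == 1 && x.2 / (p * q) % t == 0 &&
    d / x.1 % t == 0 && d / y.1 % (d / x.1 / t) == 0

/-- The multiplicity used in counting elements. -/
def kk (d p c : ℕ) : ℕ :=
  if eprimes.all (fun q => !(decide (p < q) && d % q == 0 && c / p % q == 0)) then c / p else 1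

/-- Exhaustive search over the candidates. -/
def search (d : ℕ) : List ℕ → List (ℕ × (ℕ × ℕ)) → Bool
  | [], ch => decide (d < 1 + (ch.map fun z => z.2.1 * (z.1 - 1) * kk d z.1 z.2.2).sum)
  | p :: ps, ch => (opts d p).all fun x =>
      (ch.any fun z => !compat d p x z.1 z.2 || !compat d z.1 z.2 p x) || search d ps ((p, x) :: ch)

theorem search_all : ∀ d ∈ dvs, d % 19 = 0 → d ≠ 19 → d ≠ 175560 → d ≠ 760 → d ≠ 2280 →
    search d (eprimes.filter fun p => d % p == 0) [] = true := by decide +kernel

theorem opts_760 : opts 760 19 = [(20, 19)] ∧ opts 760 5 = [(76, 5)] := by decide +kernel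

theorem opts_2280 : opts 2280 19 = [(20, 19)] ∧ opts 2280 5 = [(76, 15)] := by decide +kernel

theorem small_prime_powers : ∀ a ∈ dvs, (∀ r ∈ [2, 3, 5, 7, 11, 19], ∀ s ∈ [2, 3, 5, 7, 11, 19],
    a % r = 0 → a % s = 0 → r = s) → a = 19 ∨ a ≤ 11 := by decide +kernel

theorem search_sound (d : ℕ) (F : ℕ → ℕ × ℕ) : ∀ (ps done : List ℕ),
    (∀ p ∈ ps, F p ∈ opts d p) →
    (∀ p ∈ ps ++ done, ∀ q ∈ ps ++ done, p ≠ q → compat d p (F p) q (F q) = true) →
    (ps ++ done).Nodup →
    1 + ((ps.reverse ++ done).map fun p => (F p).1 * (p - 1) * kk d p (F p).2).sum ≤ d →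
    search d ps (done.map fun p => (p, F p)) = true → False := by
  intro ps
  induction ps with
  | nil =>
    intro done _ _ _ hsum h
    simp only [search, decide_eq_true_eq, List.map_map] at h
    simp only [List.reverse_nil, List.nil_append] at hsum
    exact (h.trans_le (le_of_eq rfl)).not_ge (le_trans (le_of_eq (by rfl)) hsum)
  | cons p ps ih =>
    intro done hopt hcomp hnd hsum h
    have h' := List.all_eq_true.mp h (F p) (hopt p List.mem_cons_self)
    rw [Bool.or_eq_true] at h'
    rcases h' with h' | h'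
    · obtain ⟨z, hz, hbad⟩ := List.any_eq_true.mp h'
      obtain ⟨q, hq, rfl⟩ := List.mem_map.mp hz
      have hpq : p ≠ q := by
        rintro rfl
        exact (List.nodup_cons.mp hnd).1 (List.mem_append_right _ hq)
      have hmp : p ∈ (p :: ps) ++ done := by simp
      have hmq : q ∈ (p :: ps) ++ done := by simp [hq]
      simp [hcomp p hmp q hmq hpq, hcomp q hmq p hmp (Ne.symm hpq)] at hbad
    · have hperm : (ps ++ p :: done).Perm ((p :: ps) ++ done) := List.perm_middle
      refine ih (p :: done) (fun q hq => hopt q (List.mem_cons_of_mem _ hq))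
        (fun a ha b hb => hcomp a (hperm.mem_iff.mp ha) b (hperm.mem_iff.mp hb))
        (hperm.nodup_iff.mpr hnd) ?_ h'
      simpa using hsum

section SimpleGroup

variable {G : Type*} [Group G] [Finite G]

theorem sylow_card {p : ℕ} [hp : Fact p.Prime] (hd : Nat.card G ∣ 175560) (hp' : ¬ p * p ∣ 175560)
    (hpd : p ∣ Nat.card G) (P : Sylow p G) : Nat.card (P : Subgroup G) = p := by
  obtain ⟨k, hk⟩ := (IsPGroup.iff_card).mp P.2
  have h1 : p ∣ Nat.card (P : Subgroup G) := P.dvd_card_of_dvd_card hpd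
  have h2 : p ^ k ∣ 175560 := hk ▸ (Subgroup.card_subgroup_dvd_card _).trans hd
  rcases k with _ | _ | k
  · rw [hk, pow_zero] at h1
    exact absurd (Nat.dvd_one.mp h1) hp.out.ne_one
  · simpa using hk
  · exact absurd ((dvd_trans (by rw [← pow_two]; exact pow_dvd_pow p (by omega)) h2)) hp'

/-- Data of a Sylow subgroup in a simple group. -/
theorem simple_opts [IsSimpleGroup G] (hd : Nat.card G ∣ 175560) {p : ℕ} [hp : Fact p.Prime]
    (hp' : ¬ p * p ∣ 175560) (hpd : p ∣ Nat.card G) (hne : Nat.card G ≠ p) (P : Sylow p G) :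
    (Nat.card (Sylow p G), Nat.card (Subgroup.centralizer (P : Set G))) ∈ opts (Nat.card G) p := by
  have hcP := sylow_card hd hp' hpd P
  set n := Nat.card (Sylow p G) with hn
  set N := Subgroup.normalizer (P : Set G) with hN
  set C := Subgroup.centralizer (P : Set G) with hC
  have hnN : n * Nat.card N = Nat.card G := by
    rw [hn, P.card_eq_index_normalizer, mul_comm, Subgroup.card_mul_index]
  have hn0 : 0 < n := Nat.card_pos
  have hdn : Nat.card G / n = Nat.card N := by rw [← hnN, Nat.mul_div_cancel_left _ hn0]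
  have hCN : C ≤ N := Subgroup.centralizer_le_normalizer _
  have hPN : (P : Subgroup G) ≤ N := Subgroup.le_normalizer
  have hPab : IsCyclic (P : Subgroup G) := isCyclic_of_prime_card hcP
  have hPC : (P : Subgroup G) ≤ C := by
    intro x hx
    rw [hC, Subgroup.mem_centralizer_iff]
    intro y hy
    obtain ⟨g, hg⟩ := hPab.exists_generator
    obtain ⟨i, hi⟩ := hg ⟨x, hx⟩
    obtain ⟨j, hj⟩ := hg ⟨y, hy⟩
    have e1 : x = (g : G) ^ i := by rw [← Subgroup.coe_zpow]; exact congrArg Subtype.val hi.symm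
    have e2 : y = (g : G) ^ j := by rw [← Subgroup.coe_zpow]; exact congrArg Subtype.val hj.symm
    rw [e1, e2]
    exact (Commute.zpow_zpow_self _ _ _).eq
  have hPtop : (P : Subgroup G) ≠ ⊤ := fun e => hne (by rw [← hcP, e, Subgroup.card_top])
  have hPbot : (P : Subgroup G) ≠ ⊥ := fun e => by
    rw [e, Subgroup.card_bot] at hcP
    exact hp.out.ne_one hcP.symm
  have hn1 : n ≠ 1 := fun h => by
    have : Subsingleton (Sylow p G) := (Nat.card_eq_one_iff_unique.mp h).1
    have hnorm : (P : Subgroup G).Normal := P.normal_of_subsingleton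
    exact hnorm.eq_bot_or_eq_top.elim hPbot hPtop
  have hpN : p ∣ Nat.card N := hcP ▸ Subgroup.card_dvd_of_le hPN
  have hmod : n % p = 1 := by
    have := card_sylow_modEq_one p G
    rw [← hn] at this
    exact Eq.trans (this : n % p = 1 % p) (Nat.mod_eq_of_lt hp.out.one_lt)
  have hdvd : n ∣ Nat.card G / p := by
    obtain ⟨m, hm⟩ := hpN
    refine ⟨m, ?_⟩
    rw [← hnN, hm, show n * (p * m) = p * (n * m) by ring, Nat.mul_div_cancel_left _ hp.out.pos]
  have hpC : p ∣ Nat.card C := hcP ▸ Subgroup.card_dvd_of_le hPC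
  have hCneN : C ≠ N := by
    intro e
    have hle : N ≤ C := e.ge
    have hker := MonoidHom.ker_transferSylow_isComplement' P hle
    rcases (MonoidHom.normal_ker (MonoidHom.transferSylow P hle)).eq_bot_or_eq_top with h | h
    · rw [h] at hker
      exact hPtop (Subgroup.isComplement'_bot_left.mp hker)
    · rw [h] at hker
      exact hPbot (Subgroup.isComplement'_top_left.mp hker)
  have hCc : Nat.card C ≠ Nat.card N := fun e => hCneN (Subgroup.eq_of_le_of_card_ge hCN e.ge)
  have haut : (p - 1) % (Nat.card N / Nat.card C) = 0 := by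
    refine Nat.mod_eq_zero_of_dvd ?_
    have h1 := Subgroup.card_subgroup_dvd_card ((P : Subgroup G).normalizerMonoidHom).range
    rw [IsCyclic.card_mulAut, hcP, Nat.totient_prime hp.out] at h1
    have h2 := Subgroup.index_ker (P : Subgroup G).normalizerMonoidHom
    rw [Subgroup.normalizerMonoidHom_ker] at h2
    have h3 : ((C).subgroupOf N).index = Nat.card N / Nat.card C := by
      rw [← Subgroup.card_mul_index (C.subgroupOf N),
        Nat.card_congr (Subgroup.subgroupOfEquivOfLe hCN).toEquiv, Nat.mul_div_cancel_left _ Nat.card_pos]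
    rw [← h3]
    exact h2 ▸ h1
  refine List.mem_flatMap.mpr ⟨n, List.mem_filter.mpr ⟨mem_dvs (dvd_trans (hdvd.trans (Nat.div_dvd_of_dvd hpd)) hd), ?_⟩,
    List.mem_map.mpr ⟨Nat.card C, List.mem_filter.mpr ⟨mem_dvs ((Subgroup.card_subgroup_dvd_card C).trans hd), ?_⟩, rfl⟩⟩
  · simp [Nat.mod_eq_zero_of_dvd hdvd, hmod, hn1]
  simp only [hdn, Bool.and_eq_true, beq_iff_eq, Bool.not_eq_true', beq_eq_false_iff_ne, List.all_eq_true,
    Bool.or_eq_true, decide_eq_true_eq]
  refine ⟨⟨⟨⟨Nat.mod_eq_zero_of_dvd (Subgroup.card_dvd_of_le hCN), Nat.mod_eq_zero_of_dvd hpC⟩, hCc⟩, haut⟩, fun q hq => ?_⟩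
  by_cases hqc : Nat.card C / p % q = 0
  swap
  · exact Or.inl hqc
  right
  have hqp : q.Prime := by fin_cases hq <;> norm_num
  have : Fact q.Prime := ⟨hqp⟩
  have hqdvd : p * q ∣ Nat.card C := by
    obtain ⟨m, hm⟩ := Nat.dvd_of_mod_eq_zero hqc
    refine ⟨m, ?_⟩
    rw [mul_assoc, ← hm, Nat.mul_div_cancel' hpC]
  have hqne : q ≠ p := fun e => hp' (e ▸ hqdvd |>.trans ((Subgroup.card_subgroup_dvd_card C).trans hd))
  obtain ⟨⟨y, hyC⟩, hy⟩ := exists_prime_orderOf_dvd_card' q (dvd_trans (Dvd.intro_left p rfl) hqdvd)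
  rw [← Subgroup.orderOf_coe] at hy
  change orderOf y = q at hy
  obtain ⟨x, hx⟩ := hPab.exists_generator
  have hxo : orderOf (x : G) = p := by
    rw [Subgroup.orderOf_coe, orderOf_eq_card_of_forall_mem_zpowers hx, hcP]
  have hxy : Commute y (x : G) := ((Subgroup.mem_centralizer_iff.mp hyC) x x.2).symm
  -- a Sylow subgroup moved by y
  obtain ⟨R, hR⟩ : ∃ R : Sylow p G, y • R ≠ R := by
    by_contra hall
    simp only [not_exists, not_not] at hall
    have hmem : y ∈ (MulAction.toPermHom G (Sylow p G)).ker := Equiv.ext fun R => hall R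
    rcases (MonoidHom.normal_ker (MulAction.toPermHom G (Sylow p G))).eq_bot_or_eq_top with h | h
    · rw [h, Subgroup.mem_bot] at hmem
      rw [hmem, orderOf_one] at hy
      exact hqp.ne_one hy.symm
    · refine hn1 (Nat.card_eq_one_iff_unique.mpr ⟨⟨fun A B => ?_⟩, ⟨P⟩⟩)
      obtain ⟨g, rfl⟩ := MulAction.exists_smul_eq G A B
      have hg : g ∈ (MulAction.toPermHom G (Sylow p G)).ker := h ▸ Subgroup.mem_top g
      exact (congrArg (fun σ : Equiv.Perm (Sylow p G) => σ A) hg).symm
  have hPfix : ∀ g ∈ N, g • P = P := fun g hg => Sylow.smul_eq_iff_mem_normalizer.mpr hg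
  have hxR : (x : G) • R ≠ R := by
    intro h
    have h' := Sylow.smul_eq_iff_mem_normalizer.mp h
    have hxRmem : (x : G) ∈ (P : Subgroup G) ⊓ (R : Subgroup G) :=
      (IsPGroup.inf_normalizer_sylow P.2 R) ▸ (⟨x.2, h'⟩ : (x : G) ∈ (P : Subgroup G) ⊓ _)
    have hPR : (P : Subgroup G) ≤ R := by
      intro z hz
      obtain ⟨i, hi⟩ := hx ⟨z, hz⟩
      have e : z = (x : G) ^ i := by rw [← Subgroup.coe_zpow]; exact congrArg Subtype.val hi.symm
      rw [e]
      exact Subgroup.zpow_mem _ hxRmem.2 i
    have heq : R = P := Sylow.ext (P.3 R.2 hPR)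
    rw [heq] at hR
    exact hR (hPfix y (hCN hyC))
  have hFix : ∀ {g : G} {m : ℕ}, orderOf g = m → m.Prime → g • R ≠ R →
      ∀ i : ℕ, g ^ i • R = R → m ∣ i := by
    intro g m hm hmp hg i hi
    by_contra hmi
    apply hg
    have hco : Nat.Coprime i m := ((Nat.Prime.coprime_iff_not_dvd hmp).mpr hmi).symm
    have : g ∈ Subgroup.zpowers (g ^ i) := by
      rw [← hm] at hco
      exact mem_zpowers_pow_iff.mpr hco
    exact (Subgroup.zpowers_le.mpr (MulAction.mem_stabilizer_iff.mpr hi) this : g ∈ MulAction.stabilizer G R)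
  set g := (x : G) * y
  have hgN : g ∈ N := mul_mem (hPN x.2) (hCN hyC)
  let f : Fin (p * q) → {S : Sylow p G // S ≠ P} := fun i =>
    ⟨g ^ i.val • R, fun e => by
      have : R = P :=
        (inv_smul_smul (g ^ i.val) R).symm.trans ((congrArg (_ • ·) e).trans
          (hPfix _ (inv_mem (pow_mem hgN _))))
      rw [this] at hR
      exact hR (hPfix y (hCN hyC))⟩
  have hfix' : ∀ k : ℕ, g ^ k • R = R → p * q ∣ k := by
    intro k hk
    have hm : ∀ m : ℕ, g ^ (k * m) • R = R := fun m => by
      rw [pow_mul]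
      exact (pow_mem (MulAction.mem_stabilizer_iff.mpr hk : _ ∈ MulAction.stabilizer G R) m)
    have hxp : (x : G) ^ p = 1 := orderOf_dvd_iff_pow_eq_one.mp hxo.dvd
    have hyq : y ^ q = 1 := orderOf_dvd_iff_pow_eq_one.mp hy.dvd
    have h1 := hm q
    rw [hxy.symm.mul_pow, mul_comm k q, pow_mul y, hyq, one_pow, mul_one] at h1
    have h2 := hm p
    rw [hxy.symm.mul_pow, mul_comm k p, pow_mul (x : G), hxp, one_pow, one_mul] at h2
    have hcop : Nat.Coprime p q := (Nat.coprime_primes hp.out hqp).mpr (Ne.symm hqne)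
    refine Nat.Coprime.mul_dvd_of_dvd_of_dvd hcop ?_ ?_
    · exact hcop.dvd_of_dvd_mul_left (hFix hxo hp.out hxR _ h1)
    · exact hcop.symm.dvd_of_dvd_mul_left (hFix hy hqp hR _ h2)
  have hfinj : Function.Injective f := by
    intro i j h
    have h' : g ^ i.val • R = g ^ j.val • R := congrArg Subtype.val h
    have key : ∀ a b : ℕ, a ≤ b → b < p * q → g ^ a • R = g ^ b • R → a = b := by
      intro a b hab hb e
      rw [← Nat.sub_add_cancel hab, add_comm, pow_add, mul_smul] at e
      have hd := hfix' _ (MulAction.injective (g ^ a) e).symm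
      have := Nat.eq_zero_of_dvd_of_lt hd (lt_of_le_of_lt (Nat.sub_le b a) hb)
      omega
    refine Fin.ext ?_
    rcases le_total i.val j.val with hab | hab
    · exact key _ _ hab j.isLt h'
    · exact (key _ _ hab i.isLt h'.symm).symm
  have hle := Nat.card_le_card_of_injective f hfinj
  have hcompl : Nat.card {S : Sylow p G // S ≠ P} = n - 1 := by
    classical
    have := Fintype.ofFinite (Sylow p G)
    rw [Nat.card_eq_fintype_card, hn, Nat.card_eq_fintype_card, Fintype.card_subtype_compl,
      Fintype.card_subtype_eq]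
  rwa [Nat.card_fin, hcompl] at hle

/-- Compatibility of two Sylow subgroups. -/
theorem simple_compat [IsSimpleGroup G] (hd : Nat.card G ∣ 175560) {p q : ℕ} [hp : Fact p.Prime]
    [hq : Fact q.Prime] (hp' : ¬ p * p ∣ 175560) (hq' : ¬ q * q ∣ 175560) (hpd : p ∣ Nat.card G)
    (hpq : p ≠ q) (P : Sylow p G) (Q : Sylow q G) :
    compat (Nat.card G) p (Nat.card (Sylow p G), Nat.card (Subgroup.centralizer (P : Set G)))
      q (Nat.card (Sylow q G), Nat.card (Subgroup.centralizer (Q : Set G))) = true := by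
  simp only [compat]
  set C := Subgroup.centralizer (P : Set G) with hC
  set N := Subgroup.normalizer (P : Set G) with hN
  by_cases hqc : Nat.card C % q = 0
  swap
  · simp [hqc]
  have hqC : q ∣ Nat.card C := Nat.dvd_of_mod_eq_zero hqc
  have hqd : q ∣ Nat.card G := hqC.trans (Subgroup.card_subgroup_dvd_card C)
  have hcP := sylow_card hd hp' hpd P
  -- a Sylow q-subgroup inside the centraliser
  obtain ⟨⟨y, hyC⟩, hy⟩ := exists_prime_orderOf_dvd_card' q hqC
  rw [← Subgroup.orderOf_coe] at hy
  change orderOf y = q at hy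
  have hYcard : Nat.card (Subgroup.zpowers y) = q := by rw [Nat.card_zpowers]; exact hy
  obtain ⟨Q₀, hQ₀⟩ := (IsPGroup.of_card (n := 1) (by rw [hYcard, pow_one]) : IsPGroup q (Subgroup.zpowers y)).exists_le_sylow
  have hQ₀eq : Subgroup.zpowers y = (Q₀ : Subgroup G) :=
    Subgroup.eq_of_le_of_card_ge hQ₀ (by rw [sylow_card hd hq' hqd Q₀, hYcard])
  have hQ₀C : (Q₀ : Subgroup G) ≤ C := hQ₀eq ▸ Subgroup.zpowers_le.mpr hyC
  set T : Sylow q C := Q₀.subtype hQ₀C
  set t := Nat.card (Sylow q C)
  have hmod : t % q = 1 := Eq.trans (card_sylow_modEq_one q C : t % q = 1 % q) (Nat.mod_eq_of_lt hq.out.one_lt)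
  -- orbit of Q₀ under the normaliser
  have hCN : C ≤ N := Subgroup.centralizer_le_normalizer _
  have hinC : ∀ g ∈ N, ((g • Q₀ : Sylow q G) : Subgroup G) ≤ C := by
    intro g hg
    rintro _ ⟨z, hz, rfl⟩
    have hzC := hQ₀C hz
    rw [hC, Subgroup.mem_centralizer_iff] at hzC ⊢
    intro h hh
    have h1 := hzC (g⁻¹ * h * g) (by
      exact (Subgroup.mem_normalizer_iff'.mp hg (g⁻¹ * h)).mpr (by rw [mul_inv_cancel_left]; exact hh))
    show h * (g * z * g⁻¹) = g * z * g⁻¹ * h
    calc h * (g * z * g⁻¹) = g * ((g⁻¹ * h * g) * z) * g⁻¹ := by group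
      _ = g * (z * (g⁻¹ * h * g)) * g⁻¹ := by rw [h1]
      _ = g * z * g⁻¹ * h := by group
  have horb : MulAction.orbit N Q₀ = {S : Sylow q G | (S : Subgroup G) ≤ C} := by
    ext S
    constructor
    · rintro ⟨g, rfl⟩
      exact hinC g g.2
    · intro hS
      obtain ⟨g, hg⟩ := MulAction.exists_smul_eq C T (S.subtype hS)
      refine ⟨⟨(g : G), hCN g.2⟩, ?_⟩
      rw [Sylow.smul_subtype] at hg
      exact Sylow.subtype_injective hg
  have hcard_orb : Nat.card (MulAction.orbit N Q₀) = t := by
    rw [horb]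
    refine Nat.card_congr (Equiv.ofBijective (fun S => S.1.subtype S.2) ⟨fun A B h => ?_, fun U => ?_⟩)
    · exact Subtype.ext (Sylow.subtype_injective h)
    · obtain ⟨g, hg⟩ := MulAction.exists_smul_eq C T U
      rw [← hg, Sylow.smul_subtype]
      exact ⟨⟨(g : G) • Q₀, Sylow.smul_le hQ₀C g⟩, rfl⟩
  have hos : t * Nat.card (MulAction.stabilizer N Q₀) = Nat.card N := by
    rw [← hcard_orb, ← Subgroup.card_mul_index (MulAction.stabilizer N Q₀), MulAction.index_stabilizer,
      Nat.card_coe_set_eq, mul_comm]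
  have hst : (Nat.card (MulAction.stabilizer N Q₀)) ∣ Nat.card G / Nat.card (Sylow q G) := by
    rw [Q₀.card_eq_index_normalizer, ← Subgroup.card_mul_index (Subgroup.normalizer (Q₀ : Set G)),
      Nat.mul_div_cancel _ (Nat.pos_of_ne_zero Subgroup.index_ne_zero_of_finite)]
    have e : MulAction.stabilizer N Q₀ = (Subgroup.normalizer (Q₀ : Set G)).subgroupOf N := by
      rw [← Sylow.stabilizer_eq_normalizer]
      rfl
    rw [e]
    exact Subgroup.card_comap_dvd_of_injective _ _ N.subtype_injective
  have hNn : Nat.card G / Nat.card (Sylow p G) = Nat.card N := by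
    rw [P.card_eq_index_normalizer, ← Subgroup.card_mul_index N,
      Nat.mul_div_cancel _ (Nat.pos_of_ne_zero Subgroup.index_ne_zero_of_finite)]
  have htC : t * (p * q) ∣ Nat.card C := by
    have hPnorm : (P : Subgroup G).subgroupOf C ≤ Subgroup.normalizer (T : Set C) := by
      intro x hx
      rw [← Sylow.smul_eq_iff_mem_normalizer, Sylow.smul_subtype]
      congr 1
      show (x : G) • Q₀ = Q₀
      rw [Sylow.smul_eq_iff_mem_normalizer, ← Q₀.coe_coe, Subgroup.mem_normalizer_iff]
      have hcomm : ∀ z ∈ C, (x : G) * z * (x : G)⁻¹ = z := fun z hz => by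
        rw [Subgroup.mem_centralizer_iff.mp hz x hx, mul_inv_cancel_right]
      intro z
      constructor
      · intro hz; rw [hcomm z (hQ₀C hz)]; exact hz
      · intro hz
        have hzC : z ∈ C := by
          have h1 : (x : G)⁻¹ * ((x : G) * z * (x : G)⁻¹) * x ∈ C :=
            mul_mem (mul_mem (inv_mem x.2) (hQ₀C hz)) x.2
          simpa [mul_assoc] using h1
        rwa [hcomm z hzC] at hz
    have hp1 : p ∣ Nat.card (Subgroup.normalizer (T : Set C)) := by
      have := Subgroup.card_dvd_of_le hPnorm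
      rwa [Nat.card_congr (Subgroup.subgroupOfEquivOfLe ?_).toEquiv, hcP] at this
      intro x hx
      rw [hC, Subgroup.mem_centralizer_iff]
      intro h hh
      have hPab : IsCyclic (P : Subgroup G) := isCyclic_of_prime_card hcP
      letI := hPab.commGroup
      exact congrArg Subtype.val (mul_comm (⟨h, hh⟩ : (P : Subgroup G)) ⟨x, hx⟩)
    have hq1 : q ∣ Nat.card (Subgroup.normalizer (T : Set C)) := by
      have := Subgroup.card_dvd_of_le (T.le_normalizer)
      rwa [show Nat.card (T : Subgroup C) = q by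
        rw [show (T : Subgroup C) = (Q₀ : Subgroup G).subgroupOf C from rfl,
          Nat.card_congr (Subgroup.subgroupOfEquivOfLe hQ₀C).toEquiv, sylow_card hd hq' hqd Q₀]] at this
    have h := mul_dvd_mul_left t (Nat.Coprime.mul_dvd_of_dvd_of_dvd
      ((Nat.coprime_primes hp.out hq.out).mpr hpq) hp1 hq1)
    refine h.trans (dvd_of_eq ?_)
    rw [show t = _ from T.card_eq_index_normalizer, mul_comm, Subgroup.card_mul_index]
  simp only [Bool.or_eq_true, List.any_eq_true, Bool.and_eq_true, beq_iff_eq]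
  right
  refine ⟨t, mem_dvs (((dvd_mul_right t _).trans htC).trans ((Subgroup.card_subgroup_dvd_card C).trans hd)),
    ⟨⟨hmod, ?_⟩, ?_⟩, ?_⟩
  · refine Nat.mod_eq_zero_of_dvd ?_
    obtain ⟨m, hm⟩ := htC
    exact ⟨m, by rw [hm, show t * (p * q) * m = p * q * (t * m) by ring,
      Nat.mul_div_cancel_left _ (Nat.mul_pos hp.out.pos hq.out.pos)]⟩
  · rw [hNn, ← hos]; exact Nat.mul_mod_right _ _
  · rw [hNn, ← hos, Nat.mul_div_cancel_left _ (Nat.card_pos)]
    exact Nat.mod_eq_zero_of_dvd hst

end SimpleGroup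

section SimpleOrders

variable {G : Type*} [Group G] [Finite G]

theorem card_centralizer_sylow {p : ℕ} [Fact p.Prime] (P S : Sylow p G) :
    Nat.card (Subgroup.centralizer (S : Set G)) = Nat.card (Subgroup.centralizer (P : Set G)) := by
  obtain ⟨g, rfl⟩ := MulAction.exists_smul_eq G P S
  refine (Nat.card_congr (((Subgroup.centralizer (P : Set G)).equivMapOfInjective
    (MulAut.conj g).toMonoidHom (MulAut.conj g).injective).toEquiv.trans (Equiv.setCongr ?_))).symm
  ext x
  simp only [SetLike.mem_coe]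
  constructor
  · rintro ⟨c, hc, rfl⟩
    rw [Subgroup.mem_centralizer_iff]
    rintro _ ⟨z, hz, rfl⟩
    show (MulAut.conj g) z * (MulAut.conj g) c = (MulAut.conj g) c * (MulAut.conj g) z
    rw [← map_mul, ← map_mul, Subgroup.mem_centralizer_iff.mp hc z hz]
  · intro hx
    refine ⟨g⁻¹ * x * g, ?_, by simp [mul_assoc]⟩
    rw [SetLike.mem_coe, Subgroup.mem_centralizer_iff]
    intro z hz
    have h := Subgroup.mem_centralizer_iff.mp hx (g * z * g⁻¹) ⟨z, hz, rfl⟩
    calc z * (g⁻¹ * x * g) = g⁻¹ * (g * z * g⁻¹ * x) * g := by group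
      _ = g⁻¹ * (x * (g * z * g⁻¹)) * g := by rw [h]
      _ = g⁻¹ * x * g * z := by group

/-- An element of prime order normalising a Sylow subgroup lies in it. -/
theorem mem_of_order {p : ℕ} [Fact p.Prime] (S : Sylow p G) {x : G} (hx : orderOf x = p)
    (hxS : x ∈ Subgroup.normalizer (S : Set G)) : x ∈ (S : Subgroup G) := by
  have hp : IsPGroup p (Subgroup.zpowers x) := IsPGroup.of_card (n := 1) (by rw [Nat.card_zpowers, hx, pow_one])
  have h : x ∈ Subgroup.zpowers x ⊓ Subgroup.normalizer (S : Set G) := ⟨Subgroup.mem_zpowers x, hxS⟩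
  rw [hp.inf_normalizer_sylow] at h
  exact h.2

/-- Elements whose largest relevant prime divisor of the order is `p`. -/
def topSet (G : Type*) [Group G] (ps : List ℕ) (p : ℕ) : Set G :=
  {g | p ∣ orderOf g ∧ ∀ q ∈ ps, p < q → ¬ q ∣ orderOf g}

theorem count_top (hd : Nat.card G ∣ 175560) {p : ℕ} [hp : Fact p.Prime] (hp' : ¬ p * p ∣ 175560)
    (hpd : p ∣ Nat.card G) (P : Sylow p G) (ps : List ℕ)
    (hps : ∀ q ∈ ps, q.Prime ∧ q ∈ eprimes ∧ q ∣ Nat.card G) :
    Nat.card (Sylow p G) * (p - 1) * kk (Nat.card G) p (Nat.card (Subgroup.centralizer (P : Set G))) ≤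
      Nat.card (topSet G ps p) := by
  classical
  set c := Nat.card (Subgroup.centralizer (P : Set G))
  set K := kk (Nat.card G) p c with hK
  let U : Sylow p G → Set G := fun S => {g | g ∈ Subgroup.centralizer (S : Set G) ∧ g ∈ topSet G ps p}
  have hinS : ∀ (S : Sylow p G) (g : G), g ∈ U S →
      g ^ (orderOf g / p) ∈ (S : Subgroup G) ∧ orderOf (g ^ (orderOf g / p)) = p := by
    rintro S g ⟨hgC, hgp, -⟩
    have ho : orderOf (g ^ (orderOf g / p)) = p := by
      rw [orderOf_pow, Nat.gcd_eq_right (Nat.div_dvd_of_dvd hgp), Nat.div_div_self hgp (orderOf_pos g).ne']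
    exact ⟨mem_of_order S ho (Subgroup.centralizer_le_normalizer _ (pow_mem hgC _)), ho⟩
  have hdisj : ∀ (S S' : Sylow p G) (g : G), g ∈ U S → g ∈ U S' → S = S' := by
    intro S S' g h h'
    obtain ⟨hS, ho⟩ := hinS S g h
    obtain ⟨hS', -⟩ := hinS S' g h'
    set x := g ^ (orderOf g / p)
    have e : ∀ T : Sylow p G, x ∈ (T : Subgroup G) → Subgroup.zpowers x = (T : Subgroup G) := fun T hT =>
      Subgroup.eq_of_le_of_card_ge (Subgroup.zpowers_le.mpr hT)
        (by rw [sylow_card hd hp' hpd T, Nat.card_zpowers, ho])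
    exact Sylow.ext ((e S hS).symm.trans (e S' hS'))
  have hU : ∀ S : Sylow p G, (p - 1) * K ≤ Nat.card (U S) := by
    intro S
    set CS := Subgroup.centralizer (S : Set G)
    have hcS : Nat.card CS = c := card_centralizer_sylow P S
    have hSab : IsCyclic (S : Subgroup G) := isCyclic_of_prime_card (sylow_card hd hp' hpd S)
    have hSC : (S : Subgroup G) ≤ CS := fun x hx => by
      rw [Subgroup.mem_centralizer_iff]
      intro h hh
      letI := hSab.commGroup
      exact congrArg Subtype.val (mul_comm (⟨h, hh⟩ : (S : Subgroup G)) ⟨x, hx⟩)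
    have hpc : p ∣ c := hcS ▸ (sylow_card hd hp' hpd S) ▸ Subgroup.card_dvd_of_le hSC
    have hcd : c ∣ Nat.card G := Subgroup.card_subgroup_dvd_card _
    obtain ⟨k, hk⟩ := hpc
    have hkp : ¬ p ∣ k := fun ⟨m, hm⟩ => hp' ((Dvd.intro m (by rw [hk, hm]; ring)).trans (hcd.trans hd))
    by_cases hall : eprimes.all (fun q => !(decide (p < q) && Nat.card G % q == 0 && c / p % q == 0)) = true
    · have hKk : K = k := by
        rw [hK, kk, if_pos hall, hk, Nat.mul_div_cancel_left _ hp.out.pos]
      have hgood : ∀ g : G, g ∈ CS → g ^ k ≠ 1 → g ∈ U S := by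
        intro g hg hgk
        have hog : orderOf g ∣ p * k := by
          rw [← hk, ← hcS, ← Subgroup.orderOf_mk g hg]; exact orderOf_dvd_natCard _
        refine ⟨hg, ?_, fun q hq hpq hqo => ?_⟩
        · by_contra hno
          exact hgk (orderOf_dvd_iff_pow_eq_one.mp
            (((Nat.Prime.coprime_iff_not_dvd hp.out).mpr hno).symm.dvd_of_dvd_mul_left hog))
        · obtain ⟨hqp, hqe, hqd⟩ := hps q hq
          have hqk : q ∣ k := ((Nat.Prime.dvd_mul hqp).mp (hqo.trans hog)).resolve_left
            fun h => hpq.ne' ((Nat.prime_dvd_prime_iff_eq hqp hp.out).mp h)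
          have h := List.all_eq_true.mp hall q hqe
          simp [hpq, Nat.mod_eq_zero_of_dvd hqd, hk, Nat.mul_div_cancel_left _ hp.out.pos,
            Nat.mod_eq_zero_of_dvd hqk] at h
      let Z : Set G := {g | g ∈ CS ∧ g ^ k = 1}
      have hZ : p * Nat.card Z ≤ c := by
        let f : ↥(S : Subgroup G) × Z → CS := fun w =>
          ⟨(w.1 : G) * (w.2 : G), mul_mem (hSC w.1.2) w.2.2.1⟩
        have hf : Function.Injective f := by
          rintro ⟨⟨a, ha⟩, ⟨z, hz⟩⟩ ⟨⟨b, hb⟩, ⟨w, hw⟩⟩ h
          have h' : a * z = b * w := congrArg Subtype.val h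
          have hza : Commute a z := (Subgroup.mem_centralizer_iff.mp hz.1 a ha)
          have hwb : Commute b w := (Subgroup.mem_centralizer_iff.mp hw.1 b hb)
          have h'' := congrArg (· ^ k) h'
          simp only [hza.mul_pow, hwb.mul_pow, hz.2, hw.2, mul_one] at h''
          have hab : a = b := by
            have hco : Nat.Coprime (Nat.card (S : Subgroup G)) k := by
              rw [sylow_card hd hp' hpd S]; exact (Nat.Prime.coprime_iff_not_dvd hp.out).mpr hkp
            have := (powCoprime hco).injective (a₁ := (⟨a, ha⟩ : (S : Subgroup G))) (a₂ := ⟨b, hb⟩)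
              (Subtype.ext h'')
            exact congrArg Subtype.val this
          subst hab
          simp [mul_left_cancel h']
        have := Nat.card_le_card_of_injective f hf
        rwa [Nat.card_prod, sylow_card hd hp' hpd S, hcS] at this
      have hsub : (CS : Set G) ⊆ Z ∪ U S := fun g hg => by
        by_cases h : g ^ k = 1
        · exact Or.inl ⟨hg, h⟩
        · exact Or.inr (hgood g hg h)
      have h1 := Set.ncard_le_ncard hsub (Set.toFinite _)
      have h2 := Set.ncard_union_le Z (U S)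
      rw [← Nat.card_coe_set_eq, ← Nat.card_coe_set_eq, ← Nat.card_coe_set_eq] at h2
      rw [← Nat.card_coe_set_eq, ← Nat.card_coe_set_eq] at h1
      have hc' : c = Nat.card ((CS : Set G) : Type _) := hcS.symm
      have hZk : Nat.card Z ≤ k := Nat.le_of_mul_le_mul_left (hZ.trans hk.le) hp.out.pos
      have hsplit : c = (p - 1) * k + k := by
        rw [hk]; nth_rewrite 1 [← Nat.sub_add_cancel hp.out.one_le]; ring
      rw [hKk]
      omega
    · have hK1 : K = 1 := by rw [hK, kk, if_neg hall]
      rw [hK1, mul_one]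
      let f : {x : (S : Subgroup G) // x ≠ 1} → U S := fun x => ⟨x.1.1, hSC x.1.2, by
        have ho : orderOf (x.1 : G) = p := by
          have h := orderOf_dvd_natCard x.1
          rw [sylow_card hd hp' hpd S] at h
          rw [Subgroup.orderOf_coe]
          exact (hp.out.eq_one_or_self_of_dvd _ h).resolve_left fun e => x.2 (orderOf_eq_one_iff.mp e)
        refine ⟨dvd_of_eq ho.symm, fun q hq hpq h => ?_⟩
        rw [ho] at h
        exact hpq.ne' ((Nat.prime_dvd_prime_iff_eq (hps q hq).1 hp.out).mp h)⟩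
      have hf : Function.Injective f := fun a b h => Subtype.ext (Subtype.ext (congrArg (fun w : U S => (w : G)) h))
      refine le_trans (le_of_eq ?_) (Nat.card_le_card_of_injective f hf)
      have := Fintype.ofFinite (S : Subgroup G)
      rw [Nat.card_eq_fintype_card, Fintype.card_subtype_compl, Fintype.card_subtype_eq,
        ← Nat.card_eq_fintype_card, sylow_card hd hp' hpd S]
  let F : (Σ S : Sylow p G, U S) → topSet G ps p := fun w => ⟨w.2.1, w.2.2.2⟩
  have hF : Function.Injective F := by
    rintro ⟨S, g, hg⟩ ⟨S', g', hg'⟩ h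
    have e : g = g' := congrArg Subtype.val h
    subst e
    obtain rfl := hdisj S S' g hg hg'
    rfl
  refine le_trans ?_ (Nat.card_le_card_of_injective F hF)
  have := Fintype.ofFinite (Sylow p G)
  rw [Nat.card_sigma, mul_assoc, Nat.card_eq_fintype_card (α := Sylow p G)]
  refine le_trans ?_ (Finset.card_nsmul_le_sum _ _ _ fun S _ => hU S)
  simp

theorem topSet_sum_lt (ps : List ℕ) (hps : ∀ q ∈ ps, q.Prime) (hnd : ps.Nodup) (X : Set G)
    (hX : ∀ g ∈ X, g ≠ 1 ∧ ∀ q ∈ ps, ¬ q ∣ orderOf g) :
    1 + (ps.map fun p => Nat.card (topSet G ps p)).sum + Nat.card X ≤ Nat.card G := by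
  classical
  have := Fintype.ofFinite G
  let T : ℕ → Finset G := fun p => Finset.univ.filter fun g => g ∈ topSet G ps p
  have hdis : (ps.toFinset : Set ℕ).PairwiseDisjoint T := by
    intro p hp q hq hne
    simp only [Function.onFun, Finset.disjoint_left]
    intro g hg hg'
    simp only [T, Finset.mem_filter, Finset.mem_univ, true_and] at hg hg'
    rcases lt_or_gt_of_ne hne with h | h
    · exact hg.2 q (List.mem_toFinset.mp hq) h hg'.1
    · exact hg'.2 p (List.mem_toFinset.mp hp) h hg.1
  have hsum : (ps.map fun p => Nat.card (topSet G ps p)).sum = (ps.toFinset.biUnion T).card := by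
    rw [Finset.card_biUnion hdis, List.sum_toFinset _ hnd]
    simp [T, Nat.card_eq_fintype_card, Fintype.card_subtype]
  have h1 : (1 : G) ∉ ps.toFinset.biUnion T ∪ X.toFinset := by
    simp only [Finset.mem_union, Finset.mem_biUnion, List.mem_toFinset, T, Finset.mem_filter,
      Finset.mem_univ, true_and, Set.mem_toFinset, not_or, not_exists, not_and]
    exact ⟨fun q hq h => (hps q hq).ne_one (Nat.dvd_one.mp (orderOf_one (G := G) ▸ h.1)),
      fun h => (hX 1 h).1 rfl⟩
  have h2 : Disjoint (ps.toFinset.biUnion T) X.toFinset := by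
    rw [Finset.disjoint_left]
    intro g hg hgX
    obtain ⟨q, hq, hgq⟩ := Finset.mem_biUnion.mp hg
    simp only [T, Finset.mem_filter, Finset.mem_univ, true_and] at hgq
    exact (hX g (Set.mem_toFinset.mp hgX)).2 q (List.mem_toFinset.mp hq) hgq.1
  have h3 := Finset.card_le_univ (insert 1 (ps.toFinset.biUnion T ∪ X.toFinset))
  rw [Finset.card_insert_of_notMem h1, Finset.card_union_of_disjoint h2] at h3
  rw [Nat.card_eq_fintype_card (α := G), hsum, Nat.card_eq_fintype_card, ← Set.toFinset_card]
  omega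

/-- In the exceptional case with twenty Sylow subgroups, a non-trivial element fixes at most two. -/
theorem fix_le_two (hd : Nat.card G ∣ 175560) (h19 : 19 ∣ Nat.card G)
    [Fact (Nat.Prime 19)] (hn : Nat.card (Sylow 19 G) = 20)
    (hc : ∀ S : Sylow 19 G, Nat.card (Subgroup.centralizer (S : Set G)) = 19)
    {g : G} (hg : g ≠ 1) {A B D : Sylow 19 G} (hA : g • A = A) (hB : g • B = B) (hD : g • D = D)
    (hAB : A ≠ B) (hAD : A ≠ D) (hBD : B ≠ D) : False := by
  classical
  have hp' : ¬ 19 * 19 ∣ 175560 := by norm_num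
  have hcA := sylow_card hd hp' h19 A
  have hAcyc : IsCyclic (A : Subgroup G) := isCyclic_of_prime_card hcA
  have hCA : Subgroup.centralizer (A : Set G) = (A : Subgroup G) := by
    symm
    refine Subgroup.eq_of_le_of_card_ge (fun x hx => ?_) (by rw [hc, hcA])
    rw [Subgroup.mem_centralizer_iff]
    intro h hh
    letI := hAcyc.commGroup
    exact congrArg Subtype.val (mul_comm (⟨h, hh⟩ : (A : Subgroup G)) ⟨x, hx⟩)
  have hinter : ∀ (E : Sylow 19 G) (x : G), E ≠ A → x ∈ (A : Subgroup G) → x • E = E → x = 1 := by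
    intro E x hE hx hfix
    by_contra hx1
    have ho : orderOf x = 19 := by
      have h := Subgroup.orderOf_mk x hx ▸ orderOf_dvd_natCard (⟨x, hx⟩ : (A : Subgroup G))
      rw [hcA] at h
      exact ((Nat.Prime.eq_one_or_self_of_dvd (by norm_num) _ h)).resolve_left
        fun e => hx1 (orderOf_eq_one_iff.mp e)
    have hxE := mem_of_order E ho (Sylow.smul_eq_iff_mem_normalizer.mp hfix)
    have hAeq : Subgroup.zpowers x = (A : Subgroup G) :=
      Subgroup.eq_of_le_of_card_ge (Subgroup.zpowers_le.mpr hx) (by rw [hcA, Nat.card_zpowers, ho])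
    have hEeq : Subgroup.zpowers x = (E : Subgroup G) :=
      Subgroup.eq_of_le_of_card_ge (Subgroup.zpowers_le.mpr hxE)
        (by rw [sylow_card hd hp' h19 E, Nat.card_zpowers, ho])
    exact hE (Sylow.ext (hEeq.symm.trans hAeq))
  have hfixA : ∀ x ∈ (A : Subgroup G), x • A = A := fun x hx =>
    Sylow.smul_eq_iff_mem_normalizer.mpr (Subgroup.le_normalizer hx)
  -- the orbit of B under A
  let f : ↥(A : Subgroup G) → {S : Sylow 19 G // S ≠ A} := fun x =>
    ⟨(x : G) • B, fun e => hAB.symm ((MulAction.injective (x : G)) (e.trans (hfixA x x.2).symm))⟩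
  have hf : Function.Injective f := by
    intro x y h
    have h' : (x : G) • B = (y : G) • B := congrArg Subtype.val h
    have := hinter B ((x : G)⁻¹ * y) hAB.symm (mul_mem (inv_mem x.2) y.2)
      (by rw [mul_smul, ← h', inv_smul_smul])
    exact Subtype.ext (inv_mul_eq_one.mp this)
  have hsur : Function.Surjective f := by
    have := Fintype.ofFinite (Sylow 19 G)
    have := Fintype.ofFinite (A : Subgroup G)
    refine ((Fintype.bijective_iff_injective_and_card f).mpr ⟨hf, ?_⟩).2
    rw [Fintype.card_subtype_compl, Fintype.card_subtype_eq, ← Nat.card_eq_fintype_card,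
      ← Nat.card_eq_fintype_card, hn, hcA]
  obtain ⟨⟨x, hx⟩, hxD⟩ := hsur ⟨D, hAD.symm⟩
  have hxD' : x • B = D := congrArg Subtype.val hxD
  have hgN : g ∈ Subgroup.normalizer (A : Set G) := Sylow.smul_eq_iff_mem_normalizer.mp hA
  have hgx : g * x * g⁻¹ ∈ (A : Subgroup G) := (Subgroup.mem_normalizer_iff.mp hgN x).mp hx
  have hcomm : x⁻¹ * (g * x * g⁻¹) = 1 := by
    refine hinter B _ hAB.symm (mul_mem (inv_mem hx) hgx) ?_
    have e1 : g⁻¹ • B = B := inv_smul_eq_iff.mpr hB.symm
    rw [mul_smul, mul_smul, mul_smul, e1, hxD', hD, ← hxD', inv_smul_smul]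
  have hcom : g * x = x * g := by
    have := inv_mul_eq_one.mp hcomm
    calc g * x = g * x * g⁻¹ * g := by group
      _ = x * g := by rw [← this]
  have hx1 : x ≠ 1 := fun e => hBD (by rw [← hxD', e, one_smul])
  have hgC : g ∈ Subgroup.centralizer (A : Set G) := by
    rw [Subgroup.mem_centralizer_iff]
    intro h hh
    have ho : orderOf x = 19 := by
      have h := Subgroup.orderOf_mk x hx ▸ orderOf_dvd_natCard (⟨x, hx⟩ : (A : Subgroup G))
      rw [hcA] at h
      exact ((Nat.Prime.eq_one_or_self_of_dvd (by norm_num) _ h)).resolve_left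
        fun e => hx1 (orderOf_eq_one_iff.mp e)
    have hAeq : Subgroup.zpowers x = (A : Subgroup G) :=
      Subgroup.eq_of_le_of_card_ge (Subgroup.zpowers_le.mpr hx) (by rw [hcA, Nat.card_zpowers, ho])
    obtain ⟨i, rfl⟩ := Subgroup.mem_zpowers_iff.mp (hAeq ▸ hh : h ∈ Subgroup.zpowers x)
    exact ((show Commute g x from hcom).zpow_right i).eq.symm
  rw [hCA] at hgC
  exact hg (hinter B g hAB.symm hgC hB)

theorem no_simple [IsSimpleGroup G] (hd : Nat.card G ∣ 175560) (h19 : 19 ∣ Nat.card G)
    (hne : Nat.card G ≠ 19) (hneN : Nat.card G ≠ 175560) : False := by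
  classical
  have hprime19 : Fact (Nat.Prime 19) := ⟨by norm_num⟩
  have hne' : ∀ p ∈ eprimes, Nat.card G ≠ p := by
    intro p hp e
    rw [e] at h19 hne
    exact hne ((Nat.prime_dvd_prime_iff_eq (by norm_num) (eprimes_facts p hp).1).mp h19).symm
  -- the data
  set ps := eprimes.filter fun p => Nat.card G % p == 0 with hps
  have hpsmem : ∀ p ∈ ps, p.Prime ∧ p ∈ eprimes ∧ p ∣ Nat.card G := fun p hp => by
    obtain ⟨h1, h2⟩ := List.mem_filter.mp hp
    exact ⟨(eprimes_facts p h1).1, h1, Nat.dvd_of_mod_eq_zero (by simpa using h2)⟩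
  let F : ℕ → ℕ × ℕ := fun p => if h : p.Prime then
      haveI : Fact p.Prime := ⟨h⟩
      (Nat.card (Sylow p G), Nat.card (Subgroup.centralizer
        ((Classical.arbitrary (Sylow p G) : Sylow p G) : Set G))) else (0, 0)
  have hopt : ∀ p ∈ ps, F p ∈ opts (Nat.card G) p := by
    intro p hp
    obtain ⟨h1, h2, h3⟩ := hpsmem p hp
    have : Fact p.Prime := ⟨h1⟩
    simp only [F, dif_pos h1]
    exact simple_opts hd (eprimes_facts p h2).2 h3 (hne' p h2) _
  have hcnt : ∀ p ∈ ps, (F p).1 * (p - 1) * kk (Nat.card G) p (F p).2 ≤ Nat.card (topSet G ps p) := by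
    intro p hp
    obtain ⟨h1, h2, h3⟩ := hpsmem p hp
    have : Fact p.Prime := ⟨h1⟩
    simp only [F, dif_pos h1]
    exact count_top hd (eprimes_facts p h2).2 h3 _ ps hpsmem
  have hnd : ps.Nodup := List.Nodup.filter _ (by decide)
  have hps19 : 19 ∈ ps := List.mem_filter.mpr ⟨by decide, by simpa using Nat.mod_eq_zero_of_dvd h19⟩
  by_cases h760 : Nat.card G = 760 ∨ Nat.card G = 2280
  swap
  · simp only [not_or] at h760
    refine search_sound (Nat.card G) F ps [] hopt ?_ (by simpa using hnd) ?_
      (search_all _ (mem_dvs hd) (Nat.mod_eq_zero_of_dvd h19) hne hneN h760.1 h760.2)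
    · intro p hp q hq hpq
      rw [List.append_nil] at hp hq
      obtain ⟨hp1, hp2, hp3⟩ := hpsmem p hp
      obtain ⟨hq1, hq2, hq3⟩ := hpsmem q hq
      have : Fact p.Prime := ⟨hp1⟩
      have : Fact q.Prime := ⟨hq1⟩
      simp only [F, dif_pos hp1, dif_pos hq1]
      exact simple_compat hd (eprimes_facts p hp2).2 (eprimes_facts q hq2).2 hp3 hpq _ _
    · rw [List.append_nil, List.map_reverse, List.sum_reverse]
      refine le_trans ?_ (topSet_sum_lt ps (fun q hq => (hpsmem q hq).1) hnd ∅ (by simp))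
      have := List.sum_le_sum (l := ps) hcnt
      simp only [Nat.card_eq_fintype_card, Fintype.card_ofIsEmpty, add_zero] at *
      omega
  -- the two exceptional orders
  have h5 : 5 ∣ Nat.card G := by rcases h760 with e | e <;> rw [e] <;> norm_num
  have hps5 : 5 ∈ ps := List.mem_filter.mpr ⟨by decide, by simpa using Nat.mod_eq_zero_of_dvd h5⟩
  have hF19 : F 19 = (20, 19) := by
    have h := hopt 19 hps19
    rcases h760 with e | e <;> rw [e] at h
    · rw [opts_760.1] at h; simpa using h
    · rw [opts_2280.1] at h; simpa using h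
  have hn : Nat.card (Sylow 19 G) = 20 := by
    simpa [F, show Nat.Prime 19 by norm_num] using congrArg Prod.fst hF19
  have hc : ∀ S : Sylow 19 G, Nat.card (Subgroup.centralizer (S : Set G)) = 19 := fun S => by
    rw [card_centralizer_sylow (Classical.arbitrary _) S]
    simpa [F, show Nat.Prime 19 by norm_num] using congrArg Prod.snd hF19
  obtain ⟨P⟩ : Nonempty (Sylow 19 G) := inferInstance
  have hN : 20 * Nat.card (Subgroup.normalizer (P : Set G)) = Nat.card G := by
    rw [← hn, P.card_eq_index_normalizer, mul_comm, Subgroup.card_mul_index]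
  have hcP := sylow_card hd (by norm_num) h19 P
  rcases h760 with e | e
  · -- order 760: too many elements
    have : Fact (Nat.Prime 2) := ⟨Nat.prime_two⟩
    have hN38 : Nat.card (Subgroup.normalizer (P : Set G)) = 38 := by omega
    obtain ⟨⟨t, htN⟩, ht⟩ := exists_prime_orderOf_dvd_card' (G := Subgroup.normalizer (P : Set G)) 2
      (by rw [hN38]; norm_num)
    rw [← Subgroup.orderOf_coe] at ht
    change orderOf t = 2 at ht
    have ht1 : t ≠ 1 := fun h => by rw [h, orderOf_one] at ht; norm_num at ht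
    have htP : t • P = P := Sylow.smul_eq_iff_mem_normalizer.mpr htN
    -- a second fixed point
    obtain ⟨R, hR, hRP⟩ : ∃ R : Sylow 19 G, t • R = R ∧ R ≠ P := by
      by_contra hno
      simp only [not_exists, not_and, not_not] at hno
      have hT : IsPGroup 2 (Subgroup.zpowers t) := IsPGroup.of_card (n := 1) (by rw [Nat.card_zpowers, ht, pow_one])
      have hmod := hT.card_modEq_card_fixedPoints (Sylow 19 G)
      have hfix : MulAction.fixedPoints (Subgroup.zpowers t) (Sylow 19 G) = {P} := by
        ext S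
        constructor
        · exact fun h => hno S (h ⟨t, Subgroup.mem_zpowers t⟩)
        · rintro rfl ⟨u, hu⟩
          exact (Subgroup.zpowers_le.mpr (MulAction.mem_stabilizer_iff.mpr htP) hu : u ∈ MulAction.stabilizer G S)
      rw [hn, hfix, Nat.card_eq_fintype_card] at hmod
      simp [Nat.ModEq] at hmod
    set C := Subgroup.centralizer ({t} : Set G)
    set H := Subgroup.normalizer (P : Set G) ⊓ Subgroup.normalizer (R : Set G) with hH
    have hHcard : Nat.card H ≤ 2 := by
      have hinj : Function.Injective fun w : H × (P : Subgroup G) =>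
          (⟨(w.1 : G) * (w.2 : G), mul_mem w.1.2.1 (Subgroup.le_normalizer w.2.2)⟩ :
            Subgroup.normalizer (P : Set G)) := by
        rintro ⟨⟨a, ha⟩, ⟨x, hx⟩⟩ ⟨⟨b, hb⟩, ⟨y, hy⟩⟩ h
        have h' : a * x = b * y := congrArg Subtype.val h
        have hxy : x * y⁻¹ = a⁻¹ * b := by
          calc x * y⁻¹ = a⁻¹ * (a * x) * y⁻¹ := by group
            _ = _ := by rw [h']; group
        have hfixR : (x * y⁻¹) • R = R := by
          rw [hxy]
          exact Sylow.smul_eq_iff_mem_normalizer.mpr (mul_mem (inv_mem ha.2) hb.2)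
        have hone : x * y⁻¹ = 1 := by
          by_contra h1
          have hm : x * y⁻¹ ∈ (P : Subgroup G) := mul_mem hx (inv_mem hy)
          have ho : orderOf (x * y⁻¹) = 19 := by
            have h := Subgroup.orderOf_mk _ hm ▸ orderOf_dvd_natCard (⟨_, hm⟩ : (P : Subgroup G))
            rw [hcP] at h
            exact ((Nat.Prime.eq_one_or_self_of_dvd (by norm_num) _ h)).resolve_left
              fun e => h1 (orderOf_eq_one_iff.mp e)
          have hmR := mem_of_order R ho (Sylow.smul_eq_iff_mem_normalizer.mp hfixR)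
          have e1 : Subgroup.zpowers (x * y⁻¹) = (P : Subgroup G) :=
            Subgroup.eq_of_le_of_card_ge (Subgroup.zpowers_le.mpr hm) (by rw [hcP, Nat.card_zpowers, ho])
          have e2 : Subgroup.zpowers (x * y⁻¹) = (R : Subgroup G) :=
            Subgroup.eq_of_le_of_card_ge (Subgroup.zpowers_le.mpr hmR)
              (by rw [sylow_card hd (by norm_num) h19 R, Nat.card_zpowers, ho])
          exact hRP (Sylow.ext (e2.symm.trans e1))
        have exy : x = y := mul_inv_eq_one.mp hone
        subst exy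
        simp [mul_right_cancel h']
      have hle := Nat.card_le_card_of_injective _ hinj
      rw [Nat.card_prod, hcP, hN38] at hle
      omega
    have htwo : ∀ S : Sylow 19 G, t • S = S → S = P ∨ S = R := by
      intro S hS
      by_contra h
      simp only [not_or] at h
      exact fix_le_two hd h19 hn hc ht1 htP hR hS hRP.symm (Ne.symm h.1) (Ne.symm h.2)
    have hfixed : ∀ g ∈ C, ∀ S : Sylow 19 G, t • S = S → t • (g • S) = g • S := by
      intro g hg S hS
      rw [← mul_smul, ← Subgroup.mem_centralizer_singleton_iff.mp hg, mul_smul, hS]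
    have horb : (MulAction.orbit C P).ncard ≤ 2 := by
      refine le_trans (Set.ncard_le_ncard (t := {P, R}) ?_ (Set.toFinite _)) (by
        rw [Set.ncard_pair hRP.symm])
      rintro _ ⟨⟨g, hg⟩, rfl⟩
      exact htwo _ (hfixed g hg P htP)
    have hstab : Nat.card (MulAction.stabilizer C P) ≤ 2 := by
      refine le_trans (Nat.card_le_card_of_injective (fun w : MulAction.stabilizer C P =>
        (⟨((w : C) : G), ?_⟩ : H)) ?_) hHcard
      · have hw : ((w : C) : G) • P = P := w.2
        refine ⟨Sylow.smul_eq_iff_mem_normalizer.mp hw, Sylow.smul_eq_iff_mem_normalizer.mp ?_⟩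
        exact (htwo _ (hfixed _ (w : C).2 R hR)).resolve_left fun h =>
          hRP (MulAction.injective ((w : C) : G) (h.trans hw.symm))
      · intro a b h
        exact Subtype.ext (Subtype.ext (congrArg (fun w : H => (w : G)) h))
    have hCcard : Nat.card C ≤ 4 := by
      rw [← Subgroup.card_mul_index (MulAction.stabilizer C P), MulAction.index_stabilizer]
      exact Nat.mul_le_mul hstab horb
    let X : Set G := Set.range fun g : G => g * t * g⁻¹
    have hX : 190 ≤ Nat.card X := by
      have hinj : Function.Injective (Quotient.lift (s := QuotientGroup.leftRel C)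
          (fun g : G => (⟨g * t * g⁻¹, g, rfl⟩ : X)) fun a b hab => by
            have h := Subgroup.mem_centralizer_singleton_iff.mp (QuotientGroup.leftRel_apply.mp hab)
            refine Subtype.ext ?_
            show a * t * a⁻¹ = b * t * b⁻¹
            calc a * t * a⁻¹ = a * (t * (a⁻¹ * b)) * b⁻¹ := by group
              _ = a * (a⁻¹ * b * t) * b⁻¹ := by rw [h]
              _ = _ := by group) := by
        intro u v
        induction u using Quotient.inductionOn with
        | h a =>
          induction v using Quotient.inductionOn with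
          | h b =>
            intro h
            have h' : a * t * a⁻¹ = b * t * b⁻¹ := congrArg Subtype.val h
            refine Quotient.sound ?_
            show QuotientGroup.leftRel C a b
            rw [QuotientGroup.leftRel_apply, Subgroup.mem_centralizer_singleton_iff]
            calc a⁻¹ * b * t = a⁻¹ * (b * t * b⁻¹) * b := by group
              _ = a⁻¹ * (a * t * a⁻¹) * b := by rw [h']
              _ = _ := by group
      have hle := Nat.card_le_card_of_injective _ hinj
      change C.index ≤ _ at hle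
      have hmul := Subgroup.card_mul_index C
      rw [e] at hmul
      nlinarith
    have hbound := topSet_sum_lt ps (fun q hq => (hpsmem q hq).1) hnd X (by
      rintro _ ⟨g, rfl⟩
      refine ⟨fun h => ht1 (conj_eq_one_iff.mp h), fun q hq h => ?_⟩
      have ho : orderOf (g * t * g⁻¹) = 2 := by
        rw [show g * t * g⁻¹ = MulAut.conj g t from rfl, MulEquiv.orderOf_eq, ht]
      rw [ho] at h
      obtain ⟨hq1, hq2, -⟩ := hpsmem q hq
      rw [Nat.prime_dvd_prime_iff_eq hq1 Nat.prime_two] at h
      subst h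
      revert hq2; decide)
    have hps_eq : ps = [19, 5] := by rw [hps, e]; decide
    have h1 := hcnt 19 hps19
    have h2 := hcnt 5 hps5
    have hF5 : F 5 = (76, 5) := by
      have h := hopt 5 hps5
      rw [e, opts_760.2] at h
      simpa using h
    rw [hF19, e] at h1
    rw [hF5, e] at h2
    rw [show kk 760 19 19 = 1 by decide +kernel] at h1
    rw [show kk 760 5 5 = 1 by decide +kernel] at h2
    rw [hps_eq] at hbound h1 h2
    simp only [List.map_cons, List.map_nil, List.sum_cons, List.sum_nil] at hbound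
    omega
  · -- order 2280
    have : Fact (Nat.Prime 3) := ⟨Nat.prime_three⟩
    have : Fact (Nat.Prime 5) := ⟨Nat.prime_five⟩
    set Q : Sylow 5 G := Classical.arbitrary (Sylow 5 G) with hQdef
    have hC15 : Nat.card (Subgroup.centralizer (Q : Set G)) = 15 := by
      have h := hopt 5 hps5
      rw [e, opts_2280.2] at h
      simp only [F, dif_pos Nat.prime_five, List.mem_singleton, Prod.mk.injEq] at h
      exact h.2
    obtain ⟨⟨y, hyC⟩, hy⟩ := exists_prime_orderOf_dvd_card' (G := Subgroup.centralizer (Q : Set G)) 3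
      (by rw [hC15]; norm_num)
    rw [← Subgroup.orderOf_coe] at hy
    change orderOf y = 3 at hy
    have hcQ := sylow_card hd (p := 5) (by norm_num) h5 Q
    obtain ⟨⟨x, hxQ⟩, hx⟩ := exists_prime_orderOf_dvd_card' (G := (Q : Subgroup G)) 5 (by rw [hcQ])
    rw [← Subgroup.orderOf_coe] at hx
    change orderOf x = 5 at hx
    have hxy : x * y = y * x := Subgroup.mem_centralizer_iff.mp hyC x hxQ
    have hN114 : Nat.card (Subgroup.normalizer (P : Set G)) = 114 := by omega
    -- y fixes a point
    obtain ⟨⟨z, hzN⟩, hz⟩ := exists_prime_orderOf_dvd_card' (G := Subgroup.normalizer (P : Set G)) 3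
      (by rw [hN114]; norm_num)
    rw [← Subgroup.orderOf_coe] at hz
    change orderOf z = 3 at hz
    have h3 : 3 ∣ Nat.card G := by rw [e]; norm_num
    have hsyl : ∀ w : G, orderOf w = 3 → ∃ T : Sylow 3 G, (T : Subgroup G) = Subgroup.zpowers w := by
      intro w hw
      obtain ⟨T, hT⟩ := (IsPGroup.of_card (n := 1) (by rw [Nat.card_zpowers, hw, pow_one]) :
        IsPGroup 3 (Subgroup.zpowers w)).exists_le_sylow
      exact ⟨T, (Subgroup.eq_of_le_of_card_ge hT
        (by rw [sylow_card hd (by norm_num) h3 T, Nat.card_zpowers, hw])).symm⟩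
    obtain ⟨Ty, hTy⟩ := hsyl y hy
    obtain ⟨Tz, hTz⟩ := hsyl z hz
    obtain ⟨g, hg⟩ := MulAction.exists_smul_eq G Tz Ty
    have hyfix : y • (g • P) = g • P := by
      have hyT : y ∈ ((g • Tz : Sylow 3 G) : Subgroup G) := by
        rw [hg, hTy]; exact Subgroup.mem_zpowers y
      obtain ⟨w, hw, hwy⟩ := hyT
      change w ∈ (Tz : Subgroup G) at hw
      rw [hTz] at hw
      have hwfix : w • P = P := Sylow.smul_eq_iff_mem_normalizer.mpr (Subgroup.zpowers_le.mpr hzN hw)
      rw [← hwy]
      show (g * w * g⁻¹) • g • P = g • P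
      rw [mul_smul, mul_smul, inv_smul_smul, hwfix]
    set S := g • P
    have hy1 : y ≠ 1 := fun h => by rw [h, orderOf_one] at hy; norm_num at hy
    have hall : ∀ k : ℕ, y • (x ^ k • S) = x ^ k • S := by
      intro k
      rw [← mul_smul, ← ((show Commute x y from hxy).pow_left k).eq, mul_smul, hyfix]
    have hxmove : ∀ k : ℕ, 0 < k → k < 5 → x ^ k • S ≠ S := by
      intro k hk0 hk5 hfix
      have hxN : x ^ k ∈ Subgroup.normalizer (S : Set G) := Sylow.smul_eq_iff_mem_normalizer.mp hfix
      have hok : orderOf (x ^ k) = 5 := by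
        rw [orderOf_pow, hx, Nat.Coprime.gcd_eq_one ((Nat.prime_five.coprime_iff_not_dvd).mpr
          (fun h => by have := Nat.le_of_dvd hk0 h; omega)), Nat.div_one]
      have h' : 5 ∣ Nat.card (Subgroup.normalizer (S : Set G)) := by
        rw [← hok, ← Subgroup.orderOf_mk _ hxN]; exact orderOf_dvd_natCard _
      have hNS : 20 * Nat.card (Subgroup.normalizer (S : Set G)) = Nat.card G := by
        rw [← hn, S.card_eq_index_normalizer, mul_comm, Subgroup.card_mul_index]
      omega
    refine fix_le_two hd h19 hn hc hy1 (hall 0) (hall 1) (hall 2) ?_ ?_ ?_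
    · simpa [eq_comm] using hxmove 1 (by norm_num) (by norm_num)
    · simpa [eq_comm] using hxmove 2 (by norm_num) (by norm_num)
    · intro h
      have h' : x • S = x • (x • S) := by simpa [pow_two, mul_smul] using h
      have := MulAction.injective x h'
      exact hxmove 1 (by norm_num) (by norm_num) (by rw [pow_one]; exact this.symm)

end SimpleOrders

section Reduction

universe u

theorem prime_part_le {a : ℕ} {q k : ℕ} (hq : q.Prime) (ha : a = q ^ k) (had : a ∣ 175560) :
    a = 19 ∨ a ≤ 11 := by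
  refine small_prime_powers a (mem_dvs had) fun r hr s hs h1 h2 => ?_
  have hpr : ∀ r ∈ [2, 3, 5, 7, 11, 19], Nat.Prime r := by intro r hr; fin_cases hr <;> norm_num
  have key : ∀ r ∈ [2, 3, 5, 7, 11, 19], a % r = 0 → r = q := fun r hr h =>
    (Nat.prime_dvd_prime_iff_eq (hpr r hr) hq).mp
      ((hpr r hr).dvd_of_dvd_pow (ha ▸ Nat.dvd_of_mod_eq_zero h))
  rw [key r hr h1, key s hs h2]

/-- A Sylow 19-subgroup centralises a normal subgroup of order prime to 19. -/
theorem centralizes {G : Type u} [Group G] [Finite G] [Fact (Nat.Prime 19)]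
    (hd : Nat.card G ∣ 175560) (h19 : 19 ∣ Nat.card G) (M : Subgroup G) [M.Normal]
    (hM : ¬ 19 ∣ Nat.card M) (P : Sylow 19 G) : M ≤ Subgroup.centralizer (P : Set G) := by
  set D := M ⊓ Subgroup.centralizer (P : Set G) with hD
  suffices h : Nat.card M ∣ Nat.card D by
    exact (Subgroup.eq_of_le_of_card_ge inf_le_left (Nat.le_of_dvd Nat.card_pos h) : D = M) ▸ inf_le_right
  rw [Nat.dvd_iff_prime_pow_dvd_dvd]
  intro q k hq hqk
  have : Fact q.Prime := ⟨hq⟩
  obtain ⟨R⟩ : Nonempty (Sylow q M) := inferInstance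
  refine dvd_trans (R.pow_dvd_card_of_pow_dvd_card hqk) ?_
  set R' := (R : Subgroup M).map M.subtype with hR'
  have hcR : Nat.card R' = Nat.card (R : Subgroup M) :=
    Subgroup.card_map_of_injective M.subtype_injective
  have hR'M : R' ≤ M := Subgroup.map_subtype_le _
  obtain ⟨j, hj⟩ := IsPGroup.iff_card.mp R.2
  have hsmall : Nat.card R' ≤ 11 := by
    rcases prime_part_le hq (hcR.trans hj) ((Subgroup.card_subgroup_dvd_card R').trans hd) with h | h
    · exact absurd (h ▸ Subgroup.card_dvd_of_le hR'M) hM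
    · exact h
  -- an element of order 19 normalising R'
  have hfr : Subgroup.normalizer (R' : Set G) ⊔ M = ⊤ := Sylow.normalizer_sup_eq_top R
  have h19N : 19 ∣ Nat.card (Subgroup.normalizer (R' : Set G)) := by
    have h := Subgroup.card_map_dvd (QuotientGroup.mk' M) (H := Subgroup.normalizer (R' : Set G))
    have e : (Subgroup.normalizer (R' : Set G)).map (QuotientGroup.mk' M) = ⊤ := by
      rw [← Subgroup.map_top_of_surjective _ (QuotientGroup.mk'_surjective M), ← hfr, Subgroup.map_sup,
        (Subgroup.map_eq_bot_iff M).mpr (QuotientGroup.ker_mk' M).ge, sup_bot_eq]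
    rw [e, Subgroup.card_top] at h
    rw [Subgroup.card_eq_card_quotient_mul_card_subgroup M] at h19
    exact (((Nat.Prime.dvd_mul (by norm_num)).mp h19).resolve_right hM).trans h
  obtain ⟨⟨x, hxN⟩, hx⟩ := exists_prime_orderOf_dvd_card' 19 h19N
  rw [← Subgroup.orderOf_coe] at hx
  change orderOf x = 19 at hx
  have hxR : ∀ r ∈ R', x * r = r * x := by
    let σ : Equiv.Perm R' := ((R'.normalizerMonoidHom ⟨x, hxN⟩ : MulAut R') : R' ≃* R').toEquiv
    have hσ : σ = 1 := by
      rw [← orderOf_eq_one_iff]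
      have h1 : σ ^ 19 = 1 := by
        have h2 : (MulAction.toPermHom (MulAut R') R') ((R'.normalizerMonoidHom ⟨x, hxN⟩) ^ 19) = 1 := by
          rw [← map_pow R'.normalizerMonoidHom, show (⟨x, hxN⟩ : Subgroup.normalizer (R' : Set G)) ^ 19 = 1 from
            Subtype.ext (by show x ^ 19 = 1; exact hx ▸ pow_orderOf_eq_one x), map_one, map_one]
        rw [map_pow] at h2
        exact h2
      have h3 : orderOf σ ∣ (Nat.card R').factorial := by
        rw [← Nat.card_perm]; exact orderOf_dvd_natCard σ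
      rcases (Nat.Prime.eq_one_or_self_of_dvd (by norm_num) _ (orderOf_dvd_of_pow_eq_one h1)) with h | h
      · exact h
      · rw [h] at h3
        exact absurd ((Nat.Prime.dvd_factorial (by norm_num)).mp h3) (by omega)
    intro r hr
    have h := congrArg (fun τ : Equiv.Perm R' => ((τ ⟨r, hr⟩ : R') : G)) hσ
    change x * r * x⁻¹ = r at h
    exact mul_inv_eq_iff_eq_mul.mp h
  have hP' : IsPGroup 19 (Subgroup.zpowers x) := IsPGroup.of_card (n := 1) (by rw [Nat.card_zpowers, hx, pow_one])
  obtain ⟨P', hP'le⟩ := hP'.exists_le_sylow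
  have hP'eq : Subgroup.zpowers x = (P' : Subgroup G) :=
    Subgroup.eq_of_le_of_card_ge hP'le (by rw [sylow_card hd (by norm_num) h19 P', Nat.card_zpowers, hx])
  obtain ⟨g, hg⟩ := MulAction.exists_smul_eq G P' P
  rw [← hcR, ← Subgroup.card_map_of_injective (f := (MulAut.conj g).toMonoidHom) (MulAut.conj g).injective]
  refine Subgroup.card_dvd_of_le ?_
  rintro _ ⟨r, hr, rfl⟩
  refine ⟨Subgroup.Normal.conj_mem inferInstance r (hR'M hr) g, ?_⟩
  refine Subgroup.mem_centralizer_iff.mpr fun h hh => ?_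
  rw [← hg] at hh
  obtain ⟨w, hw, rfl⟩ := hh
  change w ∈ (P' : Subgroup G) at hw
  rw [← hP'eq] at hw
  obtain ⟨i, rfl⟩ := Subgroup.mem_zpowers_iff.mp hw
  show (MulAut.conj g) (x ^ i) * (MulAut.conj g) r = (MulAut.conj g) r * (MulAut.conj g) (x ^ i)
  rw [← map_mul, ← map_mul, ((show Commute x r from hxR r hr).zpow_left i).eq]

theorem step {G : Type u} [Group G] [Finite G] [Fact (Nat.Prime 19)]
    (hd : Nat.card G ∣ 175560) (h19 : 19 ∣ Nat.card G) (hns : ¬ IsSimpleGroup G)
    (IH : ∀ (H : Type u) [Group H] [Finite H], Nat.card H < Nat.card G → Nat.card H ∣ 175560 →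
      19 ∣ Nat.card H → ∀ P : Sylow 19 H, (P : Subgroup H).Normal)
    (P : Sylow 19 G) : (P : Subgroup G).Normal := by
  have hnt : Nontrivial G := Finite.one_lt_card_iff_nontrivial.mp
    (lt_of_lt_of_le (by norm_num) (Nat.le_of_dvd Nat.card_pos h19))
  obtain ⟨M, hMn, hMb, hMt⟩ : ∃ M : Subgroup G, M.Normal ∧ M ≠ ⊥ ∧ M ≠ ⊤ := by
    by_contra hno
    simp only [not_exists, not_and, not_not] at hno
    exact hns { eq_bot_or_eq_top_of_normal := fun H hH => or_iff_not_imp_left.mpr (hno H hH) }
  have hcard : 1 < Nat.card M := Subgroup.one_lt_card_iff_ne_bot M |>.mpr hMb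
  have hMlt : Nat.card M < Nat.card G :=
    lt_of_le_of_ne (Nat.le_of_dvd Nat.card_pos (Subgroup.card_subgroup_dvd_card M))
      fun h => hMt (Subgroup.eq_top_of_card_eq M h)
  have hcP := sylow_card hd (by norm_num) h19 P
  by_cases hM : 19 ∣ Nat.card M
  · obtain ⟨P₀⟩ : Nonempty (Sylow 19 M) := inferInstance
    have hMd := (Subgroup.card_subgroup_dvd_card M).trans hd
    have hn := IH M hMlt hMd hM P₀
    have hchar : (P₀ : Subgroup M).Characteristic := Sylow.characteristic_of_normal P₀ hn
    have hnormal : ((P₀ : Subgroup M).map M.subtype).Normal := inferInstance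
    have hR : IsPGroup 19 ((P₀ : Subgroup M).map M.subtype) := P₀.2.map _
    have hle : (P₀ : Subgroup M).map M.subtype ≤ P := by
      obtain ⟨Q, hQ⟩ := hR.exists_le_sylow
      obtain ⟨g, rfl⟩ := MulAction.exists_smul_eq G Q P
      rintro y hy
      refine ⟨g⁻¹ * y * g, hQ ?_, by simp [mul_assoc]⟩
      simpa using hnormal.conj_mem y hy g⁻¹
    have heq : (P₀ : Subgroup M).map M.subtype = (P : Subgroup G) :=
      Subgroup.eq_of_le_of_card_ge hle (by
        rw [hcP, Subgroup.card_map_of_injective M.subtype_injective, sylow_card hMd (by norm_num) hM P₀])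
    exact heq ▸ hnormal
  · have hC := centralizes hd h19 M hM P
    have hMN : M ≤ Subgroup.normalizer (P : Set G) := hC.trans (Subgroup.centralizer_le_normalizer _)
    have hmul := Subgroup.card_eq_card_quotient_mul_card_subgroup M
    have hq19 : 19 ∣ Nat.card (G ⧸ M) :=
      ((Nat.Prime.dvd_mul (by norm_num)).mp (hmul ▸ h19)).resolve_right hM
    have hqd : Nat.card (G ⧸ M) ∣ 175560 := (Dvd.intro _ hmul.symm).trans hd
    have hqlt : Nat.card (G ⧸ M) < Nat.card G := by
      rw [hmul]; exact lt_mul_of_one_lt_right Nat.card_pos hcard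
    obtain ⟨P₁⟩ : Nonempty (Sylow 19 (G ⧸ M)) := inferInstance
    have hn1 := IH (G ⧸ M) hqlt hqd hq19 P₁
    have hsub : ∀ g : G, g • P = P := by
      intro g
      have hmap : ∀ T : Sylow 19 G, (T : Subgroup G).map (QuotientGroup.mk' M) ≤ P₁ := by
        intro T
        have hT : IsPGroup 19 ((T : Subgroup G).map (QuotientGroup.mk' M)) := T.2.map _
        obtain ⟨Q, hQ⟩ := hT.exists_le_sylow
        have : Subsingleton (Sylow 19 (G ⧸ M)) := Sylow.unique_of_normal P₁ hn1 |>.instSubsingleton
        rwa [Subsingleton.elim Q P₁] at hQ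
      have heqP1 : (P : Subgroup G).map (QuotientGroup.mk' M) = P₁ := by
        refine Subgroup.eq_of_le_of_card_ge (hmap P) ?_
        rw [sylow_card hqd (by norm_num) hq19 P₁]
        have h := Subgroup.card_map_dvd (QuotientGroup.mk' M) (H := (P : Subgroup G))
        rw [hcP] at h
        rcases (Nat.Prime.eq_one_or_self_of_dvd (by norm_num) _ h) with h1 | h1
        · exfalso
          have hle := (Subgroup.map_eq_bot_iff _).mp (Subgroup.card_eq_one.mp h1)
          rw [QuotientGroup.ker_mk'] at hle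
          exact hM (hcP ▸ Subgroup.card_dvd_of_le hle)
        · exact h1.ge
      have hle : ((g • P : Sylow 19 G) : Subgroup G) ≤ Subgroup.normalizer (P : Set G) := by
        intro y hy
        have : QuotientGroup.mk' M y ∈ (P : Subgroup G).map (QuotientGroup.mk' M) :=
          heqP1 ▸ hmap _ (Subgroup.mem_map_of_mem _ hy)
        obtain ⟨z, hz, hzy⟩ := this
        have hzM : z⁻¹ * y ∈ M := QuotientGroup.eq.mp hzy
        rw [← mul_inv_cancel_left z y]
        exact mul_mem (Subgroup.le_normalizer hz) (hMN hzM)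
      have h := (g • P).2.inf_normalizer_sylow P
      rw [inf_eq_left.mpr hle] at h
      exact Sylow.ext ((g • P).3 P.2 (inf_eq_left.mp h.symm)).symm
    exact ⟨fun y hy g => (Subgroup.mem_normalizer_iff.mp (Sylow.smul_eq_iff_mem_normalizer.mp (hsub g)) y).mp hy⟩

theorem sylow_normal_aux : ∀ (n : ℕ) (G : Type u) [Group G] [Finite G] [Fact (Nat.Prime 19)],
    Nat.card G = n → n ∣ 175560 → n ≠ 175560 → 19 ∣ n → ∀ P : Sylow 19 G, (P : Subgroup G).Normal := by
  intro n
  induction n using Nat.strong_induction_on with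
  | _ n ih =>
    intro G _ _ _ hn hd hne h19 P
    subst hn
    by_cases hs : IsSimpleGroup G
    · by_cases h : Nat.card G = 19
      · have htop : (P : Subgroup G) = ⊤ :=
          Subgroup.eq_top_of_card_eq _ ((sylow_card hd (by norm_num) h19 P).trans h.symm)
        rw [htop]; infer_instance
      · exact (no_simple hd h19 h hne).elim
    · exact step hd h19 hs (fun H _ _ hlt hHd hH19 => ih _ hlt H rfl hHd
        (fun e => absurd (Nat.le_of_dvd (by norm_num) hd) (by omega)) hH19) P

end Reduction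

/-- A finite group of order 175560 = 2³·3·5·7·11·19 is either simple or has a normal Sylow 19-subgroup. -/
theorem result {G : Type*} [Group G] [Finite G] (hG : Nat.card G = 175560) : IsSimpleGroup G ∨ ∀ P : Sylow 19 G, (P : Subgroup G).Normal := by
  have : Fact (Nat.Prime 19) := ⟨by norm_num⟩
  have hd : Nat.card G ∣ 175560 := hG ▸ dvd_rfl
  have h19 : 19 ∣ Nat.card G := by rw [hG]; norm_num
  by_cases hs : IsSimpleGroup G
  · exact Or.inl hs
  · exact Or.inr fun P => step hd h19 hs
      (fun H _ _ hlt hHd hH19 => sylow_normal_aux _ H rfl hHd (by omega) hH19) P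

end Cfsg.Agent.S4274
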