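import Cfsg.Statements.S4276
import Mathlib
import Cfsg.Agent.Lib.TwoTransAut.Basic

set_option autoImplicit false
open Cfsg

namespace Cfsg.Agent.S4276

/-- Let G be a doubly transitive group of permutations of a finite set Ω of size n, let o ∈ Ω, and let α be an automorphism of G of odd order. Suppose that the image under α of the stabilizer of o has an orbit on Ω whose length k is coprime to n. Then α is induced by conjugation by a permutation of Ω normalizing G, and k = 1 or k = n − 1. -/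
theorem result {Ω : Type*} [Fintype Ω] (G : Subgroup (Equiv.Perm Ω)) (h2 : MulAction.IsMultiplyPretransitive G Ω 2) (o : Ω) (α : MulAut G) (hα : Odd (orderOf α)) (ω : Ω) (hk : (Nat.card (MulAction.orbit ((MulAction.stabilizer G o).map α.toMonoidHom) ω)).Coprime (Fintype.card Ω)) : (∃ σ : Equiv.Perm Ω, σ ∈ Subgroup.normalizer (G : Set (Equiv.Perm Ω)) ∧ ∀ g : G, ((α g : G) : Equiv.Perm Ω) = σ * (g : Equiv.Perm Ω) * σ⁻¹) ∧ (Nat.card (MulAction.orbit ((MulAction.stabilizer G o).map α.toMonoidHom) ω) = 1 ∨ Nat.card (MulAction.orbit ((MulAction.stabilizer G o).map α.toMonoidHom) ω) = Fintype.card Ω - 1) := by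
  have hset : ({y | ∃ g : G, g • o = o ∧ α g • ω = y} : Set Ω) =
      MulAction.orbit ((MulAction.stabilizer G o).map α.toMonoidHom) ω := by
    ext y
    constructor
    · rintro ⟨g, hg, rfl⟩
      exact ⟨⟨α g, Subgroup.mem_map_of_mem α.toMonoidHom (MulAction.mem_stabilizer_iff.mpr hg)⟩, rfl⟩
    · rintro ⟨⟨_, g, hg, rfl⟩, rfl⟩
      exact ⟨g, MulAction.mem_stabilizer_iff.mp hg, rfl⟩
  have hn : Nat.card (MulAction.orbit ((MulAction.stabilizer G o).map α.toMonoidHom) ω) =
      ({y | ∃ g : G, g • o = o ∧ α g • ω = y} : Set Ω).ncard := by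
    rw [hset, Nat.card_coe_set_eq]
  rw [hn] at hk ⊢
  exact ⟨Cfsg.Agent.Lib.TwoTransAut.exists_conj_of_coprime h2 o α hα ω hk,
    Cfsg.Agent.Lib.TwoTransAut.orbit_length h2 o α hα ω hk⟩

end Cfsg.Agent.S4276
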