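import Cfsg.Statements.S4277
import Mathlib
import Cfsg.Agent.Lib.Perm.PrimeDegree
import Cfsg.Agent.Lib.TwoTransAut.Basic
import Cfsg.Agent.Lib.Transfer.PResidual

/-!
The Schreier conjecture for simple groups with a subgroup of prime index: odd-order automorphisms
are induced by the normaliser in the symmetric group, whose quotient by the group is affine.
-/

set_option autoImplicit false
open Cfsg

namespace Cfsg.Agent.S4277

open Subgroup MulAction

universe u

/-- Automorphisms of a cyclic group commute. -/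
theorem mulAut_comm {C : Type*} [Group C] [hC : IsCyclic C] (a b : MulAut C) : a * b = b * a := by
  obtain ⟨g, hg⟩ := IsCyclic.exists_generator (α := C)
  obtain ⟨i, hi⟩ := mem_zpowers_iff.mp (hg (a g))
  obtain ⟨j, hj⟩ := mem_zpowers_iff.mp (hg (b g))
  refine MulEquiv.ext fun x => ?_
  obtain ⟨n, rfl⟩ := mem_zpowers_iff.mp (hg x)
  change a (b (g ^ n)) = b (a (g ^ n))
  rw [map_zpow, map_zpow, map_zpow, map_zpow, ← hi, ← hj, map_zpow, map_zpow, ← hi, ← hj,
    ← zpow_mul, ← zpow_mul, ← zpow_mul, ← zpow_mul]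
  congr 1
  ring

/-- The normaliser of a full cycle of prime length is solvable. -/
theorem solvable_normalizer_cycle {Ω : Type*} {p : ℕ} [Fact p.Prime] (τ : Equiv.Perm Ω)
    (e : Ω ≃ ZMod p) (he : ∀ x, e (τ x) = e x + 1) :
    Group.IsSolvable (normalizer (zpowers τ : Set (Equiv.Perm Ω))) := by
  have hn : ∀ (n : ℕ) (x : Ω), e ((τ ^ n) x) = e x + n := by
    intro n
    induction n with
    | zero => simp
    | succ n ih =>
      intro x
      rw [pow_succ', Equiv.Perm.mul_apply, he, ih, Nat.cast_succ, add_assoc]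
  have hcent : ∀ c ∈ centralizer (zpowers τ : Set (Equiv.Perm Ω)), c ∈ zpowers τ := by
    intro c hc
    have hct : ∀ n : ℕ, τ ^ n * c = c * τ ^ n := fun n =>
      mem_centralizer_iff.mp hc _ (pow_mem (mem_zpowers τ) n)
    refine mem_zpowers_iff.mpr ⟨((e (c (e.symm 0))).val : ℤ), Equiv.ext fun x => e.injective ?_⟩
    rw [zpow_natCast, hn, ZMod.natCast_zmod_val]
    have hx : x = (τ ^ (e x).val) (e.symm 0) := e.injective (by
      rw [hn, Equiv.apply_symm_apply, zero_add, ZMod.natCast_zmod_val])
    conv_rhs => rw [hx]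
    rw [← Equiv.Perm.mul_apply c, ← hct, Equiv.Perm.mul_apply, hn, ZMod.natCast_zmod_val]
    ring
  let ψ := (zpowers τ).normalizerMonoidHom
  haveI : Group.IsSolvable (MulAut (zpowers τ)) := isSolvable_of_comm fun a b => mulAut_comm a b
  haveI : Group.IsSolvable ψ.ker := isSolvable_of_comm fun a b => by
    have hmem : ∀ c : ψ.ker,
        ((c : normalizer (zpowers τ : Set (Equiv.Perm Ω))) : Equiv.Perm Ω) ∈ zpowers τ := by
      intro c
      refine hcent _ ?_
      exact mem_subgroupOf.mp ((SetLike.ext_iff.mp (zpowers τ).normalizerMonoidHom_ker (c : normalizer (zpowers τ : Set (Equiv.Perm Ω)))).mp c.2)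
    obtain ⟨i, hi⟩ := mem_zpowers_iff.mp (hmem a)
    obtain ⟨j, hj⟩ := mem_zpowers_iff.mp (hmem b)
    apply Subtype.ext
    apply Subtype.ext
    simp only [Subgroup.coe_mul]
    rw [← hi, ← hj, ← zpow_add, ← zpow_add, add_comm]
  exact solvable_of_ker_le_range ψ.ker.subtype ψ (by simp)

/-- The main case: a nonabelian simple group of prime degree. -/
theorem out_solvable {G : Type u} [Group G] [Finite G] [IsSimpleGroup G] {Ω : Type u} [Fintype Ω]
    [MulAction G Ω] [FaithfulSMul G Ω] [IsPretransitive G Ω] {p : ℕ} [Fact p.Prime]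
    (hΩ : Nat.card Ω = p) (hG : ¬ Group.IsSolvable G) : Group.IsSolvable (Cfsg.Out G) := by
  classical
  have hp : p.Prime := Fact.out
  obtain ⟨h2, -⟩ := Lib.PrimeDegree.burnside (G := G) hΩ hG
  set φ : G →* Equiv.Perm Ω := MulAction.toPermHom G Ω with hφ
  have hinj : Function.Injective φ := MulAction.toPerm_injective
  set G' : Subgroup (Equiv.Perm Ω) := φ.range with hG'
  let ε : G ≃* G' := MonoidHom.ofInjective hinj
  have hε : ∀ (g : G) (x : Ω), (ε g) • x = g • x := fun g x => rfl
  have h2' : IsMultiplyPretransitive G' Ω 2 := by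
    rw [is_two_pretransitive_iff] at h2 ⊢
    intro a b c d hab hcd
    obtain ⟨g, h1, h3⟩ := h2 hab hcd
    exact ⟨ε g, h1, h3⟩
  -- outer automorphisms induced by the normaliser
  set N : Subgroup (Equiv.Perm Ω) := normalizer (G' : Set (Equiv.Perm Ω)) with hN
  let Φ : N →* MulAut G := (MulAut.congr ε.symm).toMonoidHom.comp G'.normalizerMonoidHom
  let π : MulAut G →* Cfsg.Out G := QuotientGroup.mk' (Cfsg.Inn G)
  let Ψ : N →* Cfsg.Out G := π.comp Φ
  have hinner : ∀ σ : N, (σ : Equiv.Perm Ω) ∈ G' → Ψ σ = 1 := by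
    intro σ hσ
    refine (QuotientGroup.eq_one_iff _).mpr ⟨ε.symm ⟨σ, hσ⟩, ?_⟩
    refine MulEquiv.ext fun g => ε.injective ?_
    change ε (MulAut.conj (ε.symm ⟨σ, hσ⟩) g) = ε (ε.symm (G'.normalizerMonoidHom σ (ε g)))
    rw [MulAut.conj_apply, map_mul, map_mul, map_inv, ε.apply_symm_apply, ε.apply_symm_apply]
    rfl
  -- the range of `Ψ` comes from the normaliser of a full cycle
  obtain ⟨τ, e, hτp, he⟩ := Lib.PrimeDegree.exists_coord (G := G) hΩ
  set t : Equiv.Perm Ω := φ τ with ht
  have htG : t ∈ G' := ⟨τ, rfl⟩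
  have he' : ∀ x, e (t x) = e x + 1 := he
  have ht1 : t ≠ 1 := by
    intro h
    have := he' (e.symm 0)
    rw [h] at this
    simp at this
  have htp : t ^ p = 1 := by rw [ht, ← map_pow, hτp, map_one]
  have hord : orderOf t = p := orderOf_eq_prime htp ht1
  have hfac : p.factorial = p * (p - 1).factorial := (Nat.mul_factorial_pred hp.ne_zero).symm
  have hndvd : ¬ p ∣ (p - 1).factorial := fun h => by
    have := hp.dvd_factorial.mp h
    have := hp.pos
    omega
  have hperm : Nat.card (Equiv.Perm Ω) = p.factorial := by rw [Nat.card_perm, hΩ]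
  let t' : N := ⟨t, le_normalizer htG⟩
  have ht' : orderOf t' = p := by rw [← orderOf_coe]; exact hord
  have hTp : IsPGroup p (zpowers t') :=
    IsPGroup.of_card (n := 1) (by rw [Nat.card_zpowers, ht', pow_one])
  have hidx : ¬ p ∣ (zpowers t').index := by
    intro hd
    refine hndvd ((Nat.mul_dvd_mul_iff_left hp.pos).mp ?_)
    rw [← hfac, ← hperm]
    refine Dvd.dvd.trans ?_ N.card_subgroup_dvd_card
    rw [← (zpowers t').card_mul_index, Nat.card_zpowers, ht']
    exact Nat.mul_dvd_mul_left p hd
  set P : Sylow p N := hTp.toSylow hidx with hP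
  haveI hn : (G'.subgroupOf N).Normal := normal_in_normalizer
  have hsup := Sylow.normalizer_sup_eq_top' P (N := G'.subgroupOf N)
    (zpowers_le.mpr (mem_subgroupOf.mpr htG))
  set M : Subgroup N := normalizer ((P : Subgroup N) : Set N) with hM
  haveI hMsol : Group.IsSolvable M := by
    let ι : M →* normalizer (zpowers t : Set (Equiv.Perm Ω)) :=
      (N.subtype.comp M.subtype).codRestrict _ fun m => by
        have h1 : N.subtype (m : N) ∈ (normalizer ((zpowers t' : Subgroup N) : Set N)).map N.subtype :=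
          mem_map_of_mem _ m.2
        have h2 := le_normalizer_map N.subtype h1
        rw [MonoidHom.map_zpowers] at h2
        exact h2
    haveI := solvable_normalizer_cycle t e he'
    exact solvable_of_solvable_injective (f := ι) fun a b h =>
      Subtype.ext (Subtype.ext (congrArg Subtype.val h :))
  set R : Subgroup (Cfsg.Out G) := M.map Ψ with hR
  haveI hRsol : Group.IsSolvable R := solvable_of_surjective (Ψ.subgroupMap_surjective M)
  have hrange : ∀ σ : N, Ψ σ ∈ R := by
    intro σ
    have hσ : σ ∈ ((M ⊔ G'.subgroupOf N : Subgroup N) : Set N) := by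
      rw [show M ⊔ G'.subgroupOf N = ⊤ from hsup]
      trivial
    rw [Subgroup.mul_normal] at hσ
    obtain ⟨m, hm, g, hg, rfl⟩ := hσ
    change Ψ (m * g) ∈ R
    rw [map_mul, hinner g (mem_subgroupOf.mp hg), mul_one]
    exact mem_map_of_mem Ψ hm
  -- odd-order automorphisms
  obtain ⟨o⟩ : Nonempty Ω := (Nat.card_pos_iff.mp (hΩ ▸ hp.pos)).1
  have hodd : ∀ α : MulAut G, Odd (orderOf α) → π α ∈ R := by
    intro α hα
    let α' : MulAut G' := MulAut.congr ε α
    have hα' : Odd (orderOf α') := by rwa [MulEquiv.orderOf_eq]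
    haveI := h2'
    haveI htr : IsPretransitive G' Ω := isPretransitive_of_is_two_pretransitive
    have hS : (Nat.card (stabilizer G' o)).Coprime p := by
      refine (hp.coprime_iff_not_dvd.mpr fun hd => hndvd ((Nat.mul_dvd_mul_iff_left hp.pos).mp ?_)).symm
      rw [← hfac, ← hperm]
      refine Dvd.dvd.trans ?_ G'.card_subgroup_dvd_card
      rw [← (stabilizer G' o).index_mul_card, index_stabilizer_of_transitive, hΩ]
      exact Nat.mul_dvd_mul_left p hd
    set K : Subgroup G' := (stabilizer G' o).map α'.toMonoidHom with hK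
    have hO : ({y | ∃ g : G', g • o = o ∧ α' g • o = y} : Set Ω) = orbit K o := by
      ext y
      constructor
      · rintro ⟨g, hg, rfl⟩
        exact ⟨⟨α' g, g, hg, rfl⟩, rfl⟩
      · rintro ⟨⟨_, g, hg, rfl⟩, rfl⟩
        exact ⟨g, hg, rfl⟩
    obtain ⟨σ, hσ, hσc⟩ := Lib.TwoTransAut.exists_conj_of_coprime h2' o α' hα' o (by
      rw [hO, ← index_stabilizer, ← Nat.card_eq_fintype_card, hΩ]
      refine Nat.Coprime.coprime_dvd_left (Subgroup.index_dvd_card _) ?_
      rw [hK, card_map_of_injective (by exact α'.injective)]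
      exact hS)
    have hΦ : Φ ⟨σ, hσ⟩ = α := by
      refine MulEquiv.ext fun g => ε.injective ?_
      change ε (ε.symm (G'.normalizerMonoidHom ⟨σ, hσ⟩ (ε g))) = _
      rw [ε.apply_symm_apply]
      refine Subtype.ext ?_
      have h := hσc (ε g)
      have hα'' : α' (ε g) = ε (α g) := by
        change ε (α (ε.symm (ε g))) = ε (α g)
        rw [ε.symm_apply_apply]
      rw [hα''] at h
      exact h.symm
    rw [← hΦ]
    exact hrange ⟨σ, hσ⟩
  set D : Subgroup (MulAut G) := Cfsg.pResidual 2 (MulAut G) with hD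
  haveI : Finite (MulAut G) :=
    Finite.of_injective (fun a : MulAut G => (⇑a : G → G)) DFunLike.coe_injective
  have hDR : D.map π ≤ R := by
    rw [map_le_iff_le_comap, hD, Cfsg.pResidual, closure_le]
    intro α hα
    exact hodd α (Nat.coprime_two_right.mp hα)
  haveI : Fact (Nat.Prime 2) := ⟨Nat.prime_two⟩
  haveI hDn : D.Normal := Lib.Transfer.pResidual_normal
  haveI : (D.map π).Normal := hDn.map π (QuotientGroup.mk'_surjective _)
  haveI : Group.IsSolvable (D.map π) := solvable_of_solvable_injective (inclusion_injective hDR)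
  have hq : IsPGroup 2 (Cfsg.Out G ⧸ D.map π) := by
    intro z
    obtain ⟨w, rfl⟩ := QuotientGroup.mk'_surjective (D.map π) z
    obtain ⟨a, rfl⟩ := QuotientGroup.mk'_surjective (Cfsg.Inn G) w
    obtain ⟨k, hk⟩ := Lib.Transfer.isPGroup_quotient_pResidual (G := MulAut G) (p := 2)
      (QuotientGroup.mk a)
    refine ⟨k, ?_⟩
    rw [← map_pow, ← map_pow, QuotientGroup.mk'_apply, QuotientGroup.eq_one_iff]
    rw [← QuotientGroup.mk_pow, QuotientGroup.eq_one_iff] at hk
    exact mem_map_of_mem π hk
  haveI : Group.IsNilpotent (Cfsg.Out G ⧸ D.map π) := hq.isNilpotent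
  exact solvable_of_ker_le_range (D.map π).subtype (QuotientGroup.mk' (D.map π)) (by simp)

/-- A case of the Schreier conjecture: if a finite simple group G has a subgroup of prime index, then the outer automorphism group of G is solvable. -/
theorem result {G : Type*} [Group G] [Finite G] [IsSimpleGroup G] (H : Subgroup G) (hH : H.index.Prime) : Group.IsSolvable (Cfsg.Out G) := by
  haveI := Fact.mk hH
  by_cases hG : Group.IsSolvable G
  · have hcomm := IsSimpleGroup.comm_iff_isSolvable.mpr hG
    letI : CommGroup G := { (inferInstance : Group G) with mul_comm := hcomm }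
    haveI : IsCyclic G := inferInstance
    haveI : Group.IsSolvable (MulAut G) := isSolvable_of_comm fun a b => mulAut_comm a b
    exact solvable_of_surjective (QuotientGroup.mk'_surjective (Cfsg.Inn G))
  · letI := Fintype.ofFinite (G ⧸ H)
    haveI : FaithfulSMul G (G ⧸ H) := by
      refine ⟨fun {g₁ g₂} h => ?_⟩
      have hker : H.normalCore = ⊥ := (IsSimpleGroup.eq_bot_or_eq_top_of_normal H.normalCore
        inferInstance).resolve_right fun htop => by
          have : H = ⊤ := top_le_iff.mp (htop.ge.trans H.normalCore_le)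
          rw [this, index_top] at hH
          exact Nat.not_prime_one hH
      have hinj : Function.Injective (MulAction.toPermHom G (G ⧸ H)) := by
        rw [← MonoidHom.ker_eq_bot_iff, ← normalCore_eq_ker, hker]
      exact hinj (Equiv.ext h)
    exact out_solvable (G := G) (Ω := G ⧸ H) (by rw [← Subgroup.index_eq_card]) hG

end Cfsg.Agent.S4277
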