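import Cfsg.Statements.S4282
import Cfsg.Agent.Lib.HallHigmanB.Main

set_option autoImplicit false
open Cfsg

namespace Cfsg.Agent.S4282

/-- A critical case behind the Hall–Higman theorem. Let p ≠ q be primes and G a finite group generated by a normal q-subgroup Q and a cyclic p-subgroup generated by x, such that the centralizer of every non-identity element of that cyclic subgroup is its product with the centre of G. Let K be an algebraically closed field of characteristic p and ρ a faithful representation of G on a nonzero finite-dimensional K-space whose restriction to Q is irreducible. If s is the least exponent with (ρ(x) − 1)^s = 0, then |⟨x⟩| − 1 ≤ s ≤ |⟨x⟩|; and if s = |⟨x⟩| − 1 then |⟨x⟩| − 1 is a power of q and Q is non-abelian. -/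
theorem result {G : Type*} [Group G] [Finite G] (p q : ℕ) [Fact p.Prime] [Fact q.Prime] (hpq : p ≠ q) (Q : Subgroup G) [Q.Normal] (hQ : IsPGroup q Q) (x : G) (hx : IsPGroup p (Subgroup.zpowers x)) (hgen : Q ⊔ Subgroup.zpowers x = ⊤) (hC : ∀ y ∈ Subgroup.zpowers x, y ≠ 1 → Subgroup.centralizer ({y} : Set G) = Subgroup.zpowers x ⊔ Subgroup.center G) {K : Type*} [Field K] [IsAlgClosed K] [CharP K p] {V : Type*} [AddCommGroup V] [Module K V] [FiniteDimensional K V] [Nontrivial V] (ρ : Representation K G V) (hfaith : Function.Injective ρ) (hirr : ∀ W : Submodule K V, (∀ g ∈ Q, Submodule.map (ρ g) W ≤ W) → W = ⊥ ∨ W = ⊤) (s : ℕ) (hs : (ρ x - 1) ^ s = 0) (hmin : ∀ k < s, (ρ x - 1) ^ k ≠ 0) : Nat.card (Subgroup.zpowers x) - 1 ≤ s ∧ s ≤ Nat.card (Subgroup.zpowers x) ∧ (s = Nat.card (Subgroup.zpowers x) - 1 → (∃ b : ℕ, Nat.card (Subgroup.zpowers x) - 1 = q ^ b) ∧ ¬ IsMulCommutative Q) := by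
  classical
  have hp : p.Prime := Fact.out
  obtain ⟨m, hm⟩ := hx.exists_card_eq
  rw [hm]
  have hxN : x ^ p ^ m = 1 := by
    rw [← hm, Nat.card_zpowers]
    exact pow_orderOf_eq_one x
  have hup : (ρ x - 1) ^ p ^ m = 0 := by
    rw [Cfsg.Agent.Lib.HallHigmanB.sub_one_pow_pPow, ← map_pow, hxN, map_one, sub_self]
  have hle : s ≤ p ^ m := by
    by_contra h
    exact hmin _ (not_le.1 h) hup
  by_cases hx1 : x = 1
  · have hm0 : p ^ m = 1 := by rw [← hm, hx1, Nat.card_zpowers, orderOf_one]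
    have hs0 : s ≠ 0 := fun h => one_ne_zero (α := Module.End K V) (by rw [h, pow_zero] at hs; exact hs)
    refine ⟨by omega, hle, fun h => ?_⟩
    omega
  have hqK : (Nat.card Q : K) ≠ 0 := by
    obtain ⟨k, hk⟩ := hQ.exists_card_eq
    rw [hk, Nat.cast_pow]
    exact pow_ne_zero _ fun h => hpq ((Nat.prime_dvd_prime_iff_eq hp Fact.out).1
      ((CharP.cast_eq_zero_iff K p q).1 h))
  let σ : Q →* Module.End K V := ρ.comp Q.subtype
  have hσ : Cfsg.Agent.Lib.HallHigmanB.IsIrred σ := fun W hW =>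
    hirr W fun g hg => Submodule.map_le_iff_le_comap.2 fun w hw => hW ⟨g, hg⟩ w hw
  -- the kernel of scalar action
  have hscal : ∀ g : G, (∀ h ∈ Q, h * g = g * h) → ∃ c : K, ρ g = c • 1 := fun g hg =>
    hσ.exists_scalar _ fun h => by
      show ρ g * ρ h = ρ h * ρ g
      rw [← map_mul, ← map_mul, hg h h.2]
  -- every central element has `q`-power order
  have hcentre : ∀ z ∈ Subgroup.center G, ∃ k, z ^ q ^ k = 1 := by
    intro z hz
    have hzN : z ^ p ^ m ∈ Q := by
      have htop : ⊤ ≤ (Subgroup.zpowers x).map (QuotientGroup.mk' Q) := by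
        rw [← Subgroup.map_top_of_surjective _ (QuotientGroup.mk'_surjective Q), ← hgen,
          Subgroup.map_sup, QuotientGroup.map_mk'_self, bot_sup_eq]
      obtain ⟨w, hw, hwz⟩ := htop (Subgroup.mem_top (z : G ⧸ Q))
      obtain ⟨i, rfl⟩ := Subgroup.mem_zpowers_iff.1 hw
      rw [← QuotientGroup.eq_one_iff, QuotientGroup.mk_pow]
      erw [← hwz]
      rw [← map_pow, ← zpow_natCast, ← zpow_mul, mul_comm, zpow_mul, zpow_natCast, hxN, one_zpow,
        map_one]
    obtain ⟨k, hk⟩ := hQ ⟨_, hzN⟩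
    have hk' : (z ^ p ^ m) ^ q ^ k = 1 := congrArg Subtype.val hk
    refine ⟨k, hfaith ?_⟩
    obtain ⟨c, hc⟩ := hscal z fun h _ => Subgroup.mem_center_iff.1 hz h
    have h1 : ρ ((z ^ p ^ m) ^ q ^ k) = 1 := by rw [hk', map_one]
    rw [map_pow, map_pow, ← pow_mul, mul_comm, pow_mul, hc, smul_pow, one_pow, smul_pow,
      one_pow] at h1
    have h2 : (c ^ q ^ k) ^ p ^ m = 1 := by
      have h3 : ((c ^ q ^ k) ^ p ^ m - 1) • (1 : Module.End K V) = 0 := by
        rw [sub_smul, one_smul, h1, sub_self]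
      exact sub_eq_zero.1 ((smul_eq_zero.1 h3).resolve_right one_ne_zero)
    have h4 : c ^ q ^ k = 1 := by
      have h5 : (c ^ q ^ k - 1) ^ p ^ m = 0 := by rw [sub_pow_char_pow, h2, one_pow, sub_self]
      exact sub_eq_zero.1 (pow_eq_zero_iff (pow_ne_zero _ hp.ne_zero) |>.1 h5)
    rw [map_pow, hc, smul_pow, one_pow, h4, one_smul, map_one]
  let θ : MulAut Q := MulAut.conjNormal x
  have hθ : ∀ (k : ℕ) (g : Q), ((θ ^ k) g : G) = x ^ k * g * (x ^ k)⁻¹ := fun k g => by
    rw [show θ ^ k = MulAut.conjNormal (x ^ k) from (map_pow MulAut.conjNormal x k).symm,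
      MulAut.conjNormal_apply]
  have hA : ∀ g, ρ x * σ g = σ (θ g) * ρ x := fun g => by
    show ρ x * ρ g = ρ (θ g : G) * ρ x
    rw [← map_mul, ← map_mul]
    congr 1
    rw [MulAut.conjNormal_apply, inv_mul_cancel_right]
  have hAN : ρ x ^ p ^ m = 1 := by rw [← map_pow, hxN, map_one]
  have hθN : θ ^ p ^ m = 1 := by
    ext g
    rw [hθ, hxN]
    simp
  have hA1 : ρ x ≠ 1 := fun h => hx1 (hfaith (by rw [h, map_one]))
  have hord : orderOf x = p ^ m := by rw [← Nat.card_zpowers, hm]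
  have hfree : ∀ g, (∀ c : K, σ g ≠ c • 1) → ∀ k, 0 < k → k < p ^ m → (θ ^ k) g ≠ g := by
    intro g hg k hk hkm hfix
    have hne : x ^ k ≠ 1 := pow_ne_one_of_lt_orderOf hk.ne' (hord ▸ hkm)
    have hc : (g : G) ∈ Subgroup.centralizer ({x ^ k} : Set G) := by
      rw [Subgroup.mem_centralizer_singleton_iff]
      have h := congrArg Subtype.val hfix
      rw [hθ, mul_inv_eq_iff_eq_mul] at h
      exact h.symm
    rw [hC _ (Subgroup.npow_mem_zpowers x k) hne] at hc
    obtain ⟨w, hw, z, hz, hwz⟩ := Subgroup.mem_sup_of_normal_right.1 hc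
    obtain ⟨kz, hkz⟩ := hcentre z hz
    obtain ⟨kg, hkg⟩ := hQ g
    have hkg' : (g : G) ^ q ^ kg = 1 := congrArg Subtype.val hkg
    -- `w` is a `p`-element and a `q`-element
    have hwp : w ^ p ^ m = 1 := by
      obtain ⟨i, rfl⟩ := Subgroup.mem_zpowers_iff.1 hw
      rw [← zpow_natCast, ← zpow_mul, mul_comm, zpow_mul, zpow_natCast, hxN, one_zpow]
    have hwq : w ^ q ^ (kg + kz) = 1 := by
      have hw' : w = g * z⁻¹ := eq_mul_inv_of_mul_eq hwz
      rw [hw', Commute.mul_pow (Subgroup.mem_center_iff.1 (inv_mem hz) g : Commute (g : G) z⁻¹), inv_pow,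
        pow_add, pow_mul, hkg', one_pow, one_mul, mul_comm (q ^ kg), pow_mul, hkz, one_pow, inv_one]
    have hw1 : w = 1 := by
      rw [← orderOf_eq_one_iff]
      exact Nat.eq_one_of_dvd_coprimes (Nat.Coprime.pow m (kg + kz)
        ((Nat.coprime_primes hp Fact.out).2 hpq)) (orderOf_dvd_of_pow_eq_one hwp)
        (orderOf_dvd_of_pow_eq_one hwq)
    rw [hw1, one_mul] at hwz
    obtain ⟨c, hc'⟩ := hscal (g : G) fun h _ => by
      rw [← hwz]; exact Subgroup.mem_center_iff.1 hz h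
    exact hg c hc'
  obtain ⟨hlo, hdim⟩ := Cfsg.Agent.Lib.HallHigmanB.critical hσ hqK hA hAN hθN hA1 hfree
  refine ⟨hlo s hs, hle, fun h => ?_⟩
  have hd := hdim (h ▸ hs)
  obtain ⟨kQ, hkQ⟩ := hQ.exists_card_eq
  obtain ⟨b, hb⟩ := Cfsg.Agent.Lib.HallHigmanB.exists_finrank_eq_pow (K := K) kQ hkQ σ hσ
  refine ⟨⟨b, hd ▸ hb⟩, fun hcomm => ?_⟩
  -- an abelian `Q` acts by scalars, and then `x` does too
  have hsc : ∀ g : Q, ∃ c : K, σ g = c • 1 := fun g => hσ.exists_scalar _ fun h => by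
    rw [← map_mul, ← map_mul, hcomm.is_comm.comm]
  obtain ⟨c, hc⟩ := hσ.exists_scalar (ρ x) fun g => by
    obtain ⟨a, ha⟩ := hsc g
    rw [ha, mul_smul_comm, smul_mul_assoc, mul_one, one_mul]
  apply hA1
  rw [hc, smul_pow, one_pow] at hAN
  have h2 : c ^ p ^ m = 1 := by
    have h3 : (c ^ p ^ m - 1) • (1 : Module.End K V) = 0 := by
      rw [sub_smul, one_smul, hAN, sub_self]
    exact sub_eq_zero.1 ((smul_eq_zero.1 h3).resolve_right one_ne_zero)
  have h5 : (c - 1) ^ p ^ m = 0 := by rw [sub_pow_char_pow, h2, one_pow, sub_self]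
  rw [hc, sub_eq_zero.1 (pow_eq_zero_iff (pow_ne_zero _ hp.ne_zero) |>.1 h5), one_smul]

end Cfsg.Agent.S4282
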