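import Cfsg.Statements.S4283
import Mathlib
import Cfsg.Agent.Lib.Frobenius.Basic

set_option autoImplicit false
open Cfsg

namespace Cfsg.Agent.S4283

open Cfsg.Agent.Lib.Frobenius in
theorem centralizer_le_kernel {G : Type*} [Group G] {H K : Subgroup G} (hF : Cfsg.IsFrobeniusComplement H)
    (hK : Cfsg.frobeniusKernel H = (K : Set G)) {x : G} (hx : x ∈ K) (hx1 : x ≠ 1) :
    Subgroup.centralizer ({x} : Set G) ≤ K := by
  intro y hy
  rw [← SetLike.mem_coe, ← hK, mem_frobeniusKernel_iff]
  by_contra hy'
  push Not at hy'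
  obtain ⟨hy1, g, hg⟩ := hy'
  have h1 : g⁻¹ * y * g ≠ 1 := fun e => hy1 (by
    calc y = g * (g⁻¹ * y * g) * g⁻¹ := by group
      _ = 1 := by rw [e]; simp)
  have h2 : g⁻¹ * x * g ∈ H := centralizer_le hF hg h1 (by
    rw [Subgroup.mem_centralizer_singleton_iff] at hy ⊢
    calc g⁻¹ * x * g * (g⁻¹ * y * g) = g⁻¹ * (x * y) * g := by group
      _ = g⁻¹ * y * g * (g⁻¹ * x * g) := by rw [← hy]; group)
  have h3 : g⁻¹ * x * g ∈ Cfsg.frobeniusKernel H := by
    have := conj_mem_frobeniusKernel (H := H) g⁻¹ (show x ∈ Cfsg.frobeniusKernel H from hK ▸ hx)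
    simpa using this
  exact hx1 (by
    calc x = g * (g⁻¹ * x * g) * g⁻¹ := by group
      _ = 1 := by rw [eq_one_of_mem_frobeniusKernel h3 h2]; simp)

/-- Let G be a finite group with centre Z and let K, H be abelian subgroups of G containing Z such that G/Z is a Frobenius group with complement H/Z and kernel K/Z. Then the conjugacy class sizes of G are exactly 1, [G : K] and [G : H], and these two indices are coprime. (This is the converse half of the characterization of finite groups whose conjugacy class sizes are exactly 1, m and n with m and n coprime.) -/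
theorem result {G : Type*} [Group G] [Finite G] (K H : Subgroup G) (hZK : Subgroup.center G ≤ K) (hZH : Subgroup.center G ≤ H) (hK : IsMulCommutative K) (hH : IsMulCommutative H) (hFrob : Cfsg.IsFrobeniusComplement (H.map (QuotientGroup.mk' (Subgroup.center G)))) (hker : Cfsg.frobeniusKernel (H.map (QuotientGroup.mk' (Subgroup.center G))) = (K.map (QuotientGroup.mk' (Subgroup.center G)) : Set (G ⧸ Subgroup.center G))) : Set.range (fun x : G => (Subgroup.centralizer ({x} : Set G)).index) = ({1, K.index, H.index} : Set ℕ) ∧ K.index.Coprime H.index := by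
  classical
  set f := QuotientGroup.mk' (Subgroup.center G) with hf
  have hfs : Function.Surjective f := QuotientGroup.mk'_surjective _
  have hkf : f.ker = Subgroup.center G := QuotientGroup.ker_mk' _
  have hcK : (K.map f).comap f = K := Subgroup.comap_map_eq_self (hkf.trans_le hZK)
  have hcH : (H.map f).comap f = H := Subgroup.comap_map_eq_self (hkf.trans_le hZH)
  have hC : ∀ x w : G, w ∈ Subgroup.centralizer ({x} : Set G) →
      f w ∈ Subgroup.centralizer ({f x} : Set (G ⧸ Subgroup.center G)) := fun x w hw => by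
    rw [Subgroup.mem_centralizer_singleton_iff] at hw ⊢
    rw [← map_mul, hw, map_mul]
  have hf1 : ∀ x : G, f x = 1 ↔ x ∈ Subgroup.center G := fun x => QuotientGroup.eq_one_iff x
  have hone : ∀ x : G, x ∈ Subgroup.center G → (Subgroup.centralizer ({x} : Set G)).index = 1 := by
    intro x hx
    rw [Subgroup.index_eq_one, eq_top_iff]
    intro w _
    rw [Subgroup.mem_centralizer_singleton_iff]
    exact Subgroup.mem_center_iff.mp hx w
  have hcardK : Nat.card (K.map f) = (H.map f).index :=
    (congrArg (fun s : Set (G ⧸ Subgroup.center G) => Nat.card s) hker).symm.trans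
      (Cfsg.Agent.Lib.Frobenius.card_frobeniusKernel hFrob)
  have hKcase : ∀ x ∈ K, x ∉ Subgroup.center G → (Subgroup.centralizer ({x} : Set G)).index = K.index := by
    intro x hx hxz
    have heq : Subgroup.centralizer ({x} : Set G) = K := by
      refine le_antisymm (fun w hw => ?_) fun w hw =>
        Subgroup.mem_centralizer_singleton_iff.mpr (congrArg Subtype.val (mul_comm' (⟨w, hw⟩ : K) ⟨x, hx⟩))
      rw [← hcK]
      exact centralizer_le_kernel hFrob hker (Subgroup.mem_map_of_mem f hx) (fun e => hxz ((hf1 x).mp e)) (hC x w hw)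
    rw [heq]
  have hHcase : ∀ x ∈ H, x ∉ Subgroup.center G → (Subgroup.centralizer ({x} : Set G)).index = H.index := by
    intro x hx hxz
    have heq : Subgroup.centralizer ({x} : Set G) = H := by
      refine le_antisymm (fun w hw => ?_) fun w hw =>
        Subgroup.mem_centralizer_singleton_iff.mpr (congrArg Subtype.val (mul_comm' (⟨w, hw⟩ : H) ⟨x, hx⟩))
      rw [← hcH]
      exact Cfsg.Agent.Lib.Frobenius.centralizer_le hFrob (Subgroup.mem_map_of_mem f hx)
        (fun e => hxz ((hf1 x).mp e)) (hC x w hw)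
    rw [heq]
  have hinv : ∀ g x : G, (Subgroup.centralizer ({g⁻¹ * x * g} : Set G)).index =
      (Subgroup.centralizer ({x} : Set G)).index := by
    intro g x
    have : Subgroup.centralizer ({g⁻¹ * x * g} : Set G) =
        (Subgroup.centralizer ({x} : Set G)).map (MulAut.conj g⁻¹).toMonoidHom := by
      ext w
      rw [Subgroup.mem_centralizer_singleton_iff, Subgroup.mem_map]
      refine ⟨fun hw => ⟨g * w * g⁻¹, ?_, by simp [mul_assoc]⟩, ?_⟩
      · rw [Subgroup.mem_centralizer_singleton_iff]
        calc g * w * g⁻¹ * x = g * (w * (g⁻¹ * x * g)) * g⁻¹ := by group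
          _ = x * (g * w * g⁻¹) := by rw [hw]; group
      · rintro ⟨v, hv, rfl⟩
        rw [Subgroup.mem_centralizer_singleton_iff] at hv
        simp only [MulEquiv.coe_toMonoidHom, MulAut.conj_apply, inv_inv]
        calc g⁻¹ * v * g * (g⁻¹ * x * g) = g⁻¹ * (v * x) * g := by group
          _ = g⁻¹ * x * g * (g⁻¹ * v * g) := by rw [hv]; group
    rw [this]
    exact Subgroup.index_map_equiv _ (MulAut.conj g⁻¹)
  refine ⟨Set.Subset.antisymm ?_ ?_, ?_⟩
  · rintro _ ⟨x, rfl⟩
    by_cases hxz : x ∈ Subgroup.center G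
    · exact Or.inl (hone x hxz)
    right
    by_cases hxK : x ∈ K
    · exact Or.inl (hKcase x hxK hxz)
    right
    have h1 : f x ∉ Cfsg.frobeniusKernel (H.map f) := by
      rw [hker]
      exact fun h => hxK (hcK.le h)
    rw [Cfsg.Agent.Lib.Frobenius.mem_frobeniusKernel_iff] at h1
    push Not at h1
    obtain ⟨-, q, hq⟩ := h1
    obtain ⟨g, rfl⟩ := hfs q
    have h2 : g⁻¹ * x * g ∈ H := by
      rw [← hcH, Subgroup.mem_comap, map_mul, map_mul, map_inv]
      exact hq
    have h3 : g⁻¹ * x * g ∉ Subgroup.center G := fun h => hxz (by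
      have := (Subgroup.Normal.conj_mem inferInstance _ h g : g * (g⁻¹ * x * g) * g⁻¹ ∈ Subgroup.center G)
      simpa [mul_assoc] using this)
    exact (hinv g x).symm.trans (hHcase _ h2 h3)
  · rintro m (rfl | rfl | rfl)
    · exact ⟨1, hone 1 (one_mem _)⟩
    · obtain ⟨q, hq, hq1⟩ : ∃ q ∈ K.map f, q ≠ 1 := by
        by_contra h
        push Not at h
        have := Cfsg.Agent.Lib.Frobenius.one_lt_index hFrob
        rw [← hcardK, (Subgroup.eq_bot_iff_forall _).mpr h, Subgroup.card_bot] at this
        omega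
      obtain ⟨x, hx, rfl⟩ := hq
      exact ⟨x, hKcase x hx fun h => hq1 ((hf1 x).mpr h)⟩
    · obtain ⟨q, hq, hq1⟩ := Cfsg.Agent.Lib.Frobenius.exists_ne_one hFrob
      obtain ⟨x, hx, rfl⟩ := hq
      exact ⟨x, hHcase x hx fun h => hq1 ((hf1 x).mpr h)⟩
  · have hKi : (K.map f).index = Nat.card (H.map f) := by
      have e1 := Subgroup.card_mul_index (K.map f)
      have e2 := Subgroup.card_mul_index (H.map f)
      rw [hcardK] at e1
      exact mul_left_cancel₀ (Subgroup.index_ne_zero_of_finite) (e1.trans (e2.symm.trans (mul_comm _ _)))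
    rw [← K.index_map_eq hfs (hkf.trans_le hZK), ← H.index_map_eq hfs (hkf.trans_le hZH), hKi]
    exact Cfsg.Agent.Lib.Frobenius.coprime_card_index hFrob

end Cfsg.Agent.S4283
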