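import Cfsg.Statements.S4290
import Mathlib
import Cfsg.Agent.Lib.TwoTransAut.Basic

set_option autoImplicit false
open Cfsg

namespace Cfsg.Agent.S4290

/-- Let G be a doubly transitive group of permutations of a finite set Ω in which a point stabilizer is a Hall subgroup of G (its order is coprime to its index). Then every automorphism of G of odd order is induced by conjugation by a permutation of Ω normalizing G. -/
theorem result {Ω : Type*} [Fintype Ω] (G : Subgroup (Equiv.Perm Ω)) (h2 : MulAction.IsMultiplyPretransitive G Ω 2) (o : Ω) (hHall : (Nat.card (MulAction.stabilizer G o)).Coprime (MulAction.stabilizer G o).index) (α : MulAut G) (hα : Odd (orderOf α)) : ∃ σ : Equiv.Perm Ω, σ ∈ Subgroup.normalizer (G : Set (Equiv.Perm Ω)) ∧ ∀ g : G, ((α g : G) : Equiv.Perm Ω) = σ * (g : Equiv.Perm Ω) * σ⁻¹ := by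
  haveI : MulAction.IsPretransitive G Ω :=
    @MulAction.isPretransitive_of_is_two_pretransitive _ _ _ _ h2
  refine Cfsg.Agent.Lib.TwoTransAut.exists_conj_of_coprime h2 o α hα o ?_
  have hset : ({y | ∃ g : G, g • o = o ∧ α g • o = y} : Set Ω) =
      MulAction.orbit ((MulAction.stabilizer G o).map α.toMonoidHom) o := by
    ext y
    constructor
    · rintro ⟨g, hg, rfl⟩
      exact ⟨⟨α g, Subgroup.mem_map_of_mem α.toMonoidHom (MulAction.mem_stabilizer_iff.mpr hg)⟩, rfl⟩
    · rintro ⟨⟨_, g, hg, rfl⟩, rfl⟩
      exact ⟨g, MulAction.mem_stabilizer_iff.mp hg, rfl⟩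
  have hidx : (MulAction.stabilizer G o).index = Fintype.card Ω := by
    rw [MulAction.index_stabilizer_of_transitive, Nat.card_eq_fintype_card]
  rw [hset, ← MulAction.index_stabilizer, ← hidx]
  refine Nat.Coprime.coprime_dvd_left (Subgroup.index_dvd_card _) ?_
  rwa [Subgroup.card_map_of_injective α.injective]

end Cfsg.Agent.S4290
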