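import Cfsg.Statements.S4292
import Mathlib
import Cfsg.Agent.Lib.FrobRep.Constructions
import Cfsg.Agent.Lib.Frobenius.FPF

set_option autoImplicit false
open Cfsg

namespace Cfsg.Agent.S4292

open Cfsg.Agent.Lib.FrobRep in
theorem exists_complement_hasFreeModule {H : Type*} [Group H] [Finite H]
    (h : ∃ (L : Type) (_ : Group L) (_ : Finite L) (C : Subgroup L),
      Cfsg.IsFrobeniusComplement C ∧ Nonempty (H ≃* C)) :
    ∃ q : ℕ, q.Prime ∧ ¬ q ∣ Nat.card H ∧ HasFreeModule q H := by
  obtain ⟨L, _, _, C, hC, ⟨e⟩⟩ := h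
  obtain ⟨q, hq, hqC, hM⟩ := hasFreeModule_of_isFrobeniusComplement hC
  exact ⟨q, hq, by rwa [Nat.card_congr e.toEquiv], hM.comap e.toMonoidHom e.injective⟩

/-- Let A and B be nontrivial finite groups. Then the direct product A × B occurs as a Frobenius complement if and only if A and B both occur as Frobenius complements and the orders of A and B are coprime. -/
theorem result {A B : Type*} [Group A] [Finite A] [Nontrivial A] [Group B] [Finite B] [Nontrivial B] :
    (∃ (L : Type) (_ : Group L) (_ : Finite L) (H : Subgroup L), Cfsg.IsFrobeniusComplement H ∧ Nonempty ((A × B) ≃* H)) ↔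
    ((∃ (L : Type) (_ : Group L) (_ : Finite L) (H : Subgroup L), Cfsg.IsFrobeniusComplement H ∧ Nonempty (A ≃* H)) ∧
     (∃ (L : Type) (_ : Group L) (_ : Finite L) (H : Subgroup L), Cfsg.IsFrobeniusComplement H ∧ Nonempty (B ≃* H)) ∧
     (Nat.card A).Coprime (Nat.card B)) := by
  constructor
  · intro h
    obtain ⟨q, hq, hqd, hM⟩ := exists_complement_hasFreeModule h
    refine ⟨(hM.comap (MonoidHom.inl A B) (fun a b h => (Prod.mk.inj h).1)).exists_complement,
      (hM.comap (MonoidHom.inr A B) (fun a b h => (Prod.mk.inj h).2)).exists_complement, ?_⟩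
    by_contra hco
    obtain ⟨p, hp, hpa, hpb⟩ := Nat.Prime.not_coprime_iff_dvd.mp hco
    haveI : Fact p.Prime := ⟨hp⟩
    obtain ⟨a, ha⟩ := exists_prime_orderOf_dvd_card' p hpa
    obtain ⟨b, hb⟩ := exists_prime_orderOf_dvd_card' p hpb
    obtain ⟨V, _, _, _, ρ, -, hρ⟩ := hM
    let φ : A × B →* MulAut (Multiplicative V) :=
      { toFun := fun x =>
          { toFun := fun v => Multiplicative.ofAdd (ρ x v.toAdd)
            invFun := fun v => Multiplicative.ofAdd (ρ x⁻¹ v.toAdd)
            left_inv := fun v => by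
              show Multiplicative.ofAdd ((ρ x⁻¹ * ρ x) v.toAdd) = v
              rw [← map_mul, inv_mul_cancel, map_one]; rfl
            right_inv := fun v => by
              show Multiplicative.ofAdd ((ρ x * ρ x⁻¹) v.toAdd) = v
              rw [← map_mul, mul_inv_cancel, map_one]; rfl
            map_mul' := fun v w => by
              show Multiplicative.ofAdd (ρ x (v.toAdd + w.toAdd)) = _
              rw [map_add]; rfl }
        map_one' := MulEquiv.ext fun v => by
          show Multiplicative.ofAdd (ρ 1 v.toAdd) = v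
          rw [map_one]; rfl
        map_mul' := fun x y => MulEquiv.ext fun v => by
          show Multiplicative.ofAdd (ρ (x * y) v.toAdd) = Multiplicative.ofAdd (ρ x (ρ y v.toAdd))
          rw [map_mul]; rfl }
    letI : MulDistribMulAction (A × B) (Multiplicative V) := MulDistribMulAction.compHom _ φ
    have hf : Cfsg.Agent.Lib.Frobenius.FPF.IsFPF (A × B) (Multiplicative V) :=
      fun x hx v hv => hρ x hx v.toAdd (congrArg Multiplicative.toAdd hv)
    have hp1 : a ≠ 1 := fun e => by rw [e, orderOf_one] at ha; exact hp.one_lt.ne ha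
    have hp2 : b ≠ 1 := fun e => by rw [e, orderOf_one] at hb; exact hp.one_lt.ne hb
    obtain ⟨k, hk⟩ := Subgroup.mem_zpowers_iff.mp
      (Cfsg.Agent.Lib.Frobenius.FPF.mem_zpowers_of_commute hf hp (x := ((a, 1) : A × B)) (y := ((1, b) : A × B))
        (Prod.ext (orderOf_dvd_iff_pow_eq_one.mp ha.dvd) (one_pow p))
        (Prod.ext (one_pow p) (orderOf_dvd_iff_pow_eq_one.mp hb.dvd))
        (fun e => hp2 (congrArg Prod.snd e))
        (Prod.ext (by simp) (by simp)))
    exact hp1 (by simpa using (congrArg Prod.fst hk).symm)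
  · rintro ⟨hA, hB, hco⟩
    obtain ⟨q, hq, hqd, hMA⟩ := exists_complement_hasFreeModule hA
    obtain ⟨r, hr, hrd, hMB⟩ := exists_complement_hasFreeModule hB
    obtain ⟨s, hs1, hs⟩ := Nat.exists_infinite_primes (Nat.card A + Nat.card B + 1)
    haveI : Fact s.Prime := ⟨hs⟩
    have hA0 : 0 < Nat.card A := Nat.card_pos
    have hB0 : 0 < Nat.card B := Nat.card_pos
    exact (Cfsg.Agent.Lib.FrobRep.HasFreeModule.prod hco
      (hMA.change_prime hq hqd hs (fun hd => absurd (Nat.le_of_dvd hA0 hd) (by omega)))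
      (hMB.change_prime hr hrd hs (fun hd => absurd (Nat.le_of_dvd hB0 hd) (by omega)))).exists_complement

end Cfsg.Agent.S4292
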