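import Cfsg.Statements.S4295
import Cfsg.Agent.Lib.Frobenius.Quaternion
-- import your own Cfsg.Agent.* helpers here

set_option autoImplicit false
open Cfsg

namespace Cfsg.Agent.S4295

/-- For a natural number m the following are equivalent: (a) some finite group has a Frobenius complement isomorphic to the quaternion group of order 8 whose Frobenius kernel (the identity together with the elements lying in no conjugate of the complement) has exactly m elements; (b) m is an odd perfect square greater than 1. -/
theorem result (m : ℕ) :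
    (∃ (L : Type) (_ : Group L) (_ : Finite L) (H : Subgroup L), Cfsg.IsFrobeniusComplement H ∧
        Nonempty (H ≃* QuaternionGroup 2) ∧ Nat.card (Cfsg.frobeniusKernel H) = m) ↔
    (Odd m ∧ IsSquare m ∧ 1 < m) := by
  constructor
  · rintro ⟨L, _, _, H, hH, ⟨e⟩, rfl⟩
    have hcard : Nat.card H = 2 ^ 3 := by
      rw [Nat.card_congr e.toEquiv, Nat.card_eq_fintype_card, QuaternionGroup.card]
      norm_num
    obtain ⟨P, hP⟩ := ((IsPGroup.of_card hcard).to_subgroup (⊤ : Subgroup H)).exists_le_sylow
    have hne : ¬ IsCyclic P := by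
      intro h
      have h1 : IsCyclic (⊤ : Subgroup H) :=
        isCyclic_of_injective (Subgroup.inclusion hP) (Subgroup.inclusion_injective hP)
      have h2 : IsCyclic (QuaternionGroup 2) :=
        (Subgroup.topEquiv.trans e).isCyclic.mp h1
      obtain ⟨g, hg⟩ := h2.exists_generator
      have hall : ∀ g : QuaternionGroup 2, g ^ 4 = 1 := by decide
      have h4 := Nat.le_of_dvd (by norm_num) (orderOf_dvd_of_pow_eq_one (hall g))
      rw [orderOf_eq_card_of_forall_mem_zpowers hg, Nat.card_eq_fintype_card,
        QuaternionGroup.card] at h4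
      norm_num at h4
    haveI : Fact (Nat.Prime 2) := ⟨Nat.prime_two⟩
    obtain ⟨h1, h2⟩ := Lib.Frobenius.card_kernel_of_not_isCyclic hH P hne
    refine ⟨h1, h2, ?_⟩
    rw [Lib.Frobenius.card_frobeniusKernel hH]
    exact Lib.Frobenius.one_lt_index hH
  · rintro ⟨hodd, ⟨k, rfl⟩, hm⟩
    refine Lib.Frobenius.exists_quaternion_complement (Nat.odd_mul.mp hodd).1 ?_
    by_contra h
    have : k * k ≤ 1 * 1 := Nat.mul_le_mul (by omega) (by omega)
    omega

end Cfsg.Agent.S4295
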