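import Cfsg.Statements.S4297
import Mathlib
import Cfsg.Agent.Lib.FrobRep.Constructions

set_option autoImplicit false
open Cfsg

namespace Cfsg.Agent.S4297

theorem exists_field_root (n : ℕ) (hn : 0 < n) :
    ∃ (F : Type) (_ : Field F) (_ : Finite F) (ζ : F), IsPrimitiveRoot ζ n ∧ ((2 * n : ℕ) : F) ≠ 0 := by
  obtain ⟨q, hq1, hq⟩ := Nat.exists_infinite_primes (2 * n + 2)
  haveI : Fact q.Prime := ⟨hq⟩
  have hco : q.Coprime n := hq.coprime_iff_not_dvd.mpr fun hd => absurd (Nat.le_of_dvd hn hd) (by omega)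
  set k := Nat.totient n
  have hk : k ≠ 0 := (Nat.totient_pos.mpr hn).ne'
  let F := GaloisField q k
  haveI : Fintype F := Fintype.ofFinite F
  obtain ⟨g, hg⟩ := IsCyclic.exists_ofOrder_eq_natCard (α := Fˣ)
  have hdvd : n ∣ Nat.card Fˣ := by
    rw [Nat.card_units, GaloisField.card q k hk]
    exact (Nat.modEq_iff_dvd' (Nat.one_le_pow _ _ hq.pos)).mp (Nat.ModEq.pow_totient hco).symm
  obtain ⟨d, hd⟩ := hdvd
  have hζ : orderOf ((g ^ d : Fˣ) : F) = n := by
    have hd0 : d ≠ 0 := fun e => Nat.card_pos.ne' (by rw [hd, e, mul_zero] : Nat.card Fˣ = 0)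
    rw [orderOf_units, orderOf_pow_of_dvd hd0 (by rw [hg, hd]; exact dvd_mul_left d n), hg, hd,
      Nat.mul_div_cancel _ (Nat.pos_of_ne_zero hd0)]
  refine ⟨F, inferInstance, inferInstance, _, hζ ▸ IsPrimitiveRoot.orderOf _, fun h0 => ?_⟩
  have := Nat.le_of_dvd (by omega) ((CharP.cast_eq_zero_iff F q _).mp h0)
  omega

variable {F : Type} [Field F] {n : ℕ} [NeZero n]

/-- `diag(χ i, χ (-i))`. -/
def diagSL (χ : AddChar (ZMod (2 * n)) F) (i : ZMod (2 * n)) : Matrix.SpecialLinearGroup (Fin 2) F :=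
  ⟨!![χ i, 0; 0, χ (-i)], by
    rw [Matrix.det_fin_two]
    show χ i * χ (-i) - 0 * 0 = 1
    rw [← AddChar.map_add_eq_mul, add_neg_cancel, AddChar.map_zero_eq_one, mul_zero, sub_zero]⟩

/-- The antidiagonal element. -/
def wSL : Matrix.SpecialLinearGroup (Fin 2) F :=
  ⟨!![0, 1; -1, 0], by rw [Matrix.det_fin_two]; simp⟩

/-- The representation of the dicyclic group. -/
def quatFun (χ : AddChar (ZMod (2 * n)) F) : QuaternionGroup n → Matrix.SpecialLinearGroup (Fin 2) F
  | .a i => diagSL χ i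
  | .xa i => wSL * diagSL χ i

theorem coe_diagSL (χ : AddChar (ZMod (2 * n)) F) (i : ZMod (2 * n)) :
    (diagSL χ i : Matrix (Fin 2) (Fin 2) F) = !![χ i, 0; 0, χ (-i)] := rfl

theorem coe_wSL : ((wSL : Matrix.SpecialLinearGroup (Fin 2) F) : Matrix (Fin 2) (Fin 2) F) =
    !![0, 1; -1, 0] := rfl

theorem coe_wSL_mul (χ : AddChar (ZMod (2 * n)) F) (i : ZMod (2 * n)) :
    ((wSL * diagSL χ i : Matrix.SpecialLinearGroup (Fin 2) F) : Matrix (Fin 2) (Fin 2) F) =
      !![0, χ (-i); -χ i, 0] := by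
  rw [Matrix.SpecialLinearGroup.coe_mul, coe_diagSL]
  show !![(0 : F), 1; -1, 0] * _ = _
  rw [Matrix.mul_fin_two]
  simp

theorem quatFun_mul (χ : AddChar (ZMod (2 * n)) F) (hχ : χ (n : ZMod (2 * n)) = -1)
    (g h : QuaternionGroup n) : quatFun χ (g * h) = quatFun χ g * quatFun χ h := by
  have hadd : ∀ a b, χ (a + b) = χ a * χ b := AddChar.map_add_eq_mul χ
  have hneg : χ (-(n : ZMod (2 * n))) = -1 := by
    have : -(n : ZMod (2 * n)) = (n : ZMod (2 * n)) := by
      rw [neg_eq_iff_add_eq_zero, ← Nat.cast_add, ← two_mul, ZMod.natCast_self]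
    rw [this, hχ]
  cases g with
  | a i => cases h with
    | a j =>
      rw [QuaternionGroup.a_mul_a]
      apply Subtype.ext
      rw [Matrix.SpecialLinearGroup.coe_mul]
      ext r c
      fin_cases r <;> fin_cases c <;>
        simp [quatFun, coe_diagSL, Matrix.mul_apply, Fin.sum_univ_two, neg_add, hadd, mul_comm]
    | xa j =>
      rw [QuaternionGroup.a_mul_xa]
      apply Subtype.ext
      rw [Matrix.SpecialLinearGroup.coe_mul]
      ext r c
      fin_cases r <;> fin_cases c <;>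
        simp [quatFun, coe_diagSL, coe_wSL, coe_wSL_mul, Matrix.mul_apply, Fin.sum_univ_two, neg_add, sub_eq_add_neg, hadd, mul_comm]
  | xa i => cases h with
    | a j =>
      rw [QuaternionGroup.xa_mul_a]
      apply Subtype.ext
      rw [Matrix.SpecialLinearGroup.coe_mul]
      ext r c
      fin_cases r <;> fin_cases c <;>
        simp [quatFun, coe_diagSL, coe_wSL, coe_wSL_mul, Matrix.mul_apply, Fin.sum_univ_two, neg_add, hadd, mul_comm]
    | xa j =>
      rw [QuaternionGroup.xa_mul_xa]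
      apply Subtype.ext
      rw [Matrix.SpecialLinearGroup.coe_mul]
      ext r c
      fin_cases r <;> fin_cases c <;>
        simp [quatFun, coe_diagSL, coe_wSL, coe_wSL_mul, Matrix.mul_apply, Fin.sum_univ_two, neg_add, sub_eq_add_neg, hadd, hχ, hneg, mul_comm]

/-- For every n ≥ 2 the dicyclic group of order 4n (generated by an element a of order 2n and an element x with x² = aⁿ and x a x⁻¹ = a⁻¹) occurs as a Frobenius complement of some finite Frobenius group. -/
theorem result (n : ℕ) (hn : 2 ≤ n) :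
    ∃ (L : Type) (_ : Group L) (_ : Finite L) (H : Subgroup L), Cfsg.IsFrobeniusComplement H ∧ Nonempty (H ≃* QuaternionGroup n) := by
  haveI : NeZero n := ⟨by omega⟩
  obtain ⟨F, _, _, ζ, hζ, hc⟩ := exists_field_root (2 * n) (by omega)
  set χ := AddChar.zmodChar (2 * n) hζ.pow_eq_one with hχdef
  have hval : ∀ i : ZMod (2 * n), χ i = ζ ^ i.val := fun i => AddChar.zmodChar_apply _ i
  have hχ : χ (n : ZMod (2 * n)) = -1 := by
    rw [hval, ZMod.val_natCast_of_lt (by omega)]
    exact IsPrimitiveRoot.eq_neg_one_of_two_right (hζ.pow (by omega) (mul_comm 2 n))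
  have hcard : Nat.card (QuaternionGroup n) = 4 * n := by
    rw [Nat.card_eq_fintype_card, QuaternionGroup.card]
  haveI : Nontrivial (QuaternionGroup n) :=
    Finite.one_lt_card_iff_nontrivial.mp (by rw [hcard]; omega)
  let f : QuaternionGroup n →* Matrix.SpecialLinearGroup (Fin 2) F :=
    MonoidHom.mk' (quatFun χ) (quatFun_mul χ hχ)
  have hf : Function.Injective f := by
    rw [injective_iff_map_eq_one]
    intro g hg
    have h00 := congrArg (fun A : Matrix.SpecialLinearGroup (Fin 2) F => A.1 0 0) hg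
    cases g with
    | a i =>
      have h1 : χ i = 1 := by simpa [f, quatFun, diagSL] using h00
      rw [hval] at h1
      have : i.val = 0 := Nat.eq_zero_of_dvd_of_lt ((hζ.pow_eq_one_iff_dvd _).mp h1) (ZMod.val_lt i)
      rw [(ZMod.val_eq_zero i).mp this]; rfl
    | xa i =>
      exfalso
      simp [f, quatFun, coe_diagSL, coe_wSL, Matrix.mul_apply, Fin.sum_univ_two] at h00
  obtain ⟨L, i1, i2, C, hC, ⟨e⟩⟩ := Cfsg.Agent.Lib.FrobRep.exists_complement_of_SL2 f hf (by
    rw [hcard, show 4 * n = 2 * (2 * n) by ring]; exact hc)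
  exact ⟨L, i1, i2, C, hC, ⟨e.symm⟩⟩

end Cfsg.Agent.S4297
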