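import Cfsg.Statements.S4298
import Mathlib
import Cfsg.Agent.Lib.FrobRep.Constructions

set_option autoImplicit false
open Cfsg

namespace Cfsg.Agent.S4298

/-- Images in `SL(2,5)` of the elements of `SL(2,3)`. -/
def table : List ((ZMod 3 × ZMod 3 × ZMod 3 × ZMod 3) × (ZMod 5 × ZMod 5 × ZMod 5 × ZMod 5)) :=
  [((0, 1, 2, 0), (0, 4, 1, 0)), ((0, 1, 2, 1), (2, 4, 3, 4)), ((0, 1, 2, 2), (3, 2, 1, 1)), ((0, 2, 1, 0), (0, 1, 4, 0)), ((0, 2, 1, 1), (2, 3, 4, 4)), ((0, 2, 1, 2), (3, 1, 2, 1)), ((1, 0, 0, 1), (1, 0, 0, 1)), ((1, 0, 1, 1), (1, 2, 1, 3)), ((1, 0, 2, 1), (3, 3, 4, 1)), ((1, 1, 0, 1), (1, 1, 2, 3)), ((1, 1, 1, 2), (0, 2, 2, 0)), ((1, 1, 2, 0), (4, 2, 1, 2)), ((1, 2, 0, 1), (3, 4, 3, 1)), ((1, 2, 1, 0), (4, 1, 2, 2)), ((1, 2, 2, 2), (3, 0, 0, 2)), ((2, 0, 0, 2), (4, 0, 0, 4)), ((2, 0, 1, 2), (2, 2, 1, 4)), ((2, 0, 2, 2), (4, 3, 4, 2)), ((2, 1, 0, 2), (2, 1, 2, 4)), ((2, 1, 1, 1), (2, 0, 0, 3)), ((2, 1, 2, 0), (1, 4, 3, 3)), ((2,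 2, 0, 2), (4, 4, 3, 2)), ((2, 2, 1, 0), (1, 3, 4, 3)), ((2, 2, 2, 1), (0, 3, 3, 0))]

/-- The image of a quadruple. -/
def img (x : ZMod 3 × ZMod 3 × ZMod 3 × ZMod 3) : ZMod 5 × ZMod 5 × ZMod 5 × ZMod 5 :=
  (table.lookup x).getD (1, 0, 0, 1)

/-- Product of quadruples read as 2×2 matrices. -/
def qmul {R : Type} [CommRing R] (x y : R × R × R × R) : R × R × R × R :=
  (x.1 * y.1 + x.2.1 * y.2.2.1, x.1 * y.2.1 + x.2.1 * y.2.2.2,
    x.2.2.1 * y.1 + x.2.2.2 * y.2.2.1, x.2.2.1 * y.2.1 + x.2.2.2 * y.2.2.2)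

/-- Determinant of a quadruple. -/
def qdet {R : Type} [CommRing R] (x : R × R × R × R) : R := x.1 * x.2.2.2 - x.2.1 * x.2.2.1

set_option synthInstance.maxSize 2000 in
theorem img_det : ∀ x, qdet x = 1 → qdet (img x) = 1 := by decide +kernel

set_option synthInstance.maxSize 2000 in
theorem img_mul : ∀ x, qdet x = 1 → ∀ y, qdet y = 1 → img (qmul x y) = qmul (img x) (img y) := by
  decide +kernel

set_option synthInstance.maxSize 2000 in
theorem img_ker : ∀ x, qdet x = 1 → img x = (1, 0, 0, 1) → x = (1, 0, 0, 1) := by decide +kernel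

/-- Entries of a matrix. -/
def quad {R : Type} [CommRing R] (A : Matrix.SpecialLinearGroup (Fin 2) R) : R × R × R × R :=
  (A.1 0 0, A.1 0 1, A.1 1 0, A.1 1 1)

theorem quad_det {R : Type} [CommRing R] (A : Matrix.SpecialLinearGroup (Fin 2) R) :
    qdet (quad A) = 1 := by
  have := A.2
  rw [Matrix.det_fin_two] at this
  exact this

theorem quad_mul {R : Type} [CommRing R] (A B : Matrix.SpecialLinearGroup (Fin 2) R) :
    quad (A * B) = qmul (quad A) (quad B) := by
  simp [quad, qmul, Matrix.SpecialLinearGroup.coe_mul, Matrix.mul_apply, Fin.sum_univ_two]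

theorem quad_one {R : Type} [CommRing R] :
    quad (1 : Matrix.SpecialLinearGroup (Fin 2) R) = (1, 0, 0, 1) := by
  simp [quad]

theorem quad_injective {R : Type} [CommRing R] : Function.Injective (quad (R := R)) := by
  intro A B h
  simp only [quad, Prod.mk.injEq] at h
  refine Subtype.ext (Matrix.ext fun i j => ?_)
  fin_cases i <;> fin_cases j <;> simp [h]

/-- A matrix from a quadruple of determinant one. -/
def ofQuad {R : Type} [CommRing R] (x : R × R × R × R) (hx : qdet x = 1) :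
    Matrix.SpecialLinearGroup (Fin 2) R :=
  ⟨!![x.1, x.2.1; x.2.2.1, x.2.2.2], by rw [Matrix.det_fin_two]; exact hx⟩

theorem quad_ofQuad {R : Type} [CommRing R] (x : R × R × R × R) (hx : qdet x = 1) :
    quad (ofQuad x hx) = x := rfl

/-- An embedding of `SL(2,3)` in `SL(2,5)`. -/
def emb : Matrix.SpecialLinearGroup (Fin 2) (ZMod 3) →* Matrix.SpecialLinearGroup (Fin 2) (ZMod 5) :=
  MonoidHom.mk' (fun A => ofQuad (img (quad A)) (img_det _ (quad_det A))) fun A B =>
    quad_injective (by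
      show img (quad (A * B)) = _
      refine (congrArg img (quad_mul A B)).trans ((img_mul _ (quad_det A) _ (quad_det B)).trans ?_)
      exact (quad_mul (ofQuad (img (quad A)) (img_det _ (quad_det A)))
        (ofQuad (img (quad B)) (img_det _ (quad_det B)))).symm)

theorem card_SL2_three : Nat.card (Matrix.SpecialLinearGroup (Fin 2) (ZMod 3)) = 24 := by
  let e : Matrix.SpecialLinearGroup (Fin 2) (ZMod 3) ≃ {x : ZMod 3 × ZMod 3 × ZMod 3 × ZMod 3 // qdet x = 1} :=
    { toFun := fun A => ⟨quad A, quad_det A⟩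
      invFun := fun x => ofQuad x.1 x.2
      left_inv := fun A => quad_injective (quad_ofQuad _ _)
      right_inv := fun x => Subtype.ext (quad_ofQuad _ _) }
  rw [Nat.card_congr e, Nat.card_eq_fintype_card]
  decide +kernel

/-- The group SL(2,3) of order 24 (the binary tetrahedral group) occurs as a Frobenius complement of some finite Frobenius group. -/
theorem result :
    ∃ (L : Type) (_ : Group L) (_ : Finite L) (H : Subgroup L), Cfsg.IsFrobeniusComplement H ∧ Nonempty (H ≃* Matrix.SpecialLinearGroup (Fin 2) (ZMod 3)) := by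
  haveI : Fact (Nat.Prime 5) := ⟨Nat.prime_five⟩
  haveI : Nontrivial (Matrix.SpecialLinearGroup (Fin 2) (ZMod 3)) :=
    Finite.one_lt_card_iff_nontrivial.mp (by rw [card_SL2_three]; norm_num)
  obtain ⟨L, i1, i2, C, hC, ⟨e⟩⟩ := Cfsg.Agent.Lib.FrobRep.exists_complement_of_SL2 emb
    ((injective_iff_map_eq_one emb).mpr fun A hA => quad_injective (by
      rw [quad_one]
      refine img_ker _ (quad_det A) ?_
      rw [← quad_ofQuad (img (quad A)) (img_det _ (quad_det A))]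
      exact (congrArg quad hA).trans quad_one))
    (by rw [card_SL2_three]; exact show ((24 : ℕ) : ZMod 5) ≠ 0 by decide +revert)
  exact ⟨L, i1, i2, C, hC, ⟨e.symm⟩⟩

end Cfsg.Agent.S4298
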