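import Cfsg.Statements.S4299
import Mathlib
import Cfsg.Agent.Lib.FrobRep.Constructions

set_option autoImplicit false
open Cfsg

namespace Cfsg.Agent.S4299

/-- Every nontrivial finite cyclic group occurs as a Frobenius complement of some finite Frobenius group. -/
theorem result {C : Type*} [Group C] [Finite C] [IsCyclic C] [Nontrivial C] :
    ∃ (L : Type) (_ : Group L) (_ : Finite L) (H : Subgroup L), Cfsg.IsFrobeniusComplement H ∧ Nonempty (C ≃* H) := by
  obtain ⟨q, hq1, hq⟩ := Nat.exists_infinite_primes (Nat.card C + 2)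
  haveI : Fact q.Prime := ⟨hq⟩
  set n := Nat.card C with hn
  have hn0 : 0 < n := Nat.card_pos
  have hco : q.Coprime n := hq.coprime_iff_not_dvd.mpr fun hd => absurd (Nat.le_of_dvd hn0 hd) (by omega)
  set k := Nat.totient n
  have hk : k ≠ 0 := (Nat.totient_pos.mpr hn0).ne'
  let F := GaloisField q k
  haveI : Fintype F := Fintype.ofFinite F
  obtain ⟨g, hg⟩ := IsCyclic.exists_ofOrder_eq_natCard (α := Fˣ)
  have hdvd : n ∣ Nat.card Fˣ := by
    rw [Nat.card_units, GaloisField.card q k hk]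
    exact (Nat.modEq_iff_dvd' (Nat.one_le_pow _ _ hq.pos)).mp (Nat.ModEq.pow_totient hco).symm
  obtain ⟨d, hd⟩ := hdvd
  set ζ := g ^ d
  have hζ : orderOf ζ = n := by
    have hd0 : d ≠ 0 := fun e => Nat.card_pos.ne' (by rw [hd, e, mul_zero] : Nat.card Fˣ = 0)
    show orderOf (g ^ d) = n
    rw [orderOf_pow_of_dvd hd0 (by rw [hg, hd]; exact dvd_mul_left d n), hg, hd,
      Nat.mul_div_cancel _ (Nat.pos_of_ne_zero hd0)]
  obtain ⟨c, hc⟩ := IsCyclic.exists_generator (α := C)
  have hco' : orderOf c = n := orderOf_eq_card_of_forall_mem_zpowers hc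
  let f : C →* Fˣ := monoidHomOfForallMemZpowers hc (g' := ζ) (hζ.trans hco'.symm).dvd
  have hf : Function.Injective f := by
    rw [injective_iff_map_eq_one]
    intro x hx
    obtain ⟨i, rfl⟩ := Subgroup.mem_zpowers_iff.mp (hc x)
    rw [map_zpow, monoidHomOfForallMemZpowers_apply_gen, ← orderOf_dvd_iff_zpow_eq_one, hζ] at hx
    rwa [← orderOf_dvd_iff_zpow_eq_one, hco']
  exact Cfsg.Agent.Lib.FrobRep.exists_complement_of_units f hf

end Cfsg.Agent.S4299
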