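import Cfsg.Statements.S4300
import Mathlib

set_option autoImplicit false
open Cfsg

namespace Cfsg.Agent.S4300

/-- Let G act faithfully and primitively on a set X, and suppose the stabilizer of some point is a simple group. Then either G is simple, or G has a normal subgroup, neither trivial nor the whole group, that acts regularly on X (transitively with trivial point stabilizers). -/
theorem result {G : Type*} [Group G] {X : Type*} [MulAction G X] [FaithfulSMul G X]
    (hprim : MulAction.IsPreprimitive G X) (x : X) (hsimple : IsSimpleGroup (MulAction.stabilizer G x)) :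
    IsSimpleGroup G ∨ ∃ N : Subgroup G, N.Normal ∧ N ≠ ⊥ ∧ N ≠ ⊤ ∧
      MulAction.IsPretransitive N X ∧ ∀ y : X, MulAction.stabilizer N y = ⊥ := by
  classical
  have hco : IsCoatom (MulAction.stabilizer G x) ∨ Subsingleton X := by
    by_cases hs : Subsingleton X
    · exact Or.inr hs
    · haveI : Nontrivial X := not_subsingleton_iff_nontrivial.mp hs
      haveI := hprim
      exact Or.inl (MulAction.IsPreprimitive.isCoatom_stabilizer_of_isPreprimitive G x)
  haveI := hprim
  rcases hco with hco | hs
  swap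
  · haveI := hsimple
    obtain ⟨a, ha⟩ := exists_ne (1 : MulAction.stabilizer G x)
    exact absurd (Subtype.ext (FaithfulSMul.eq_of_smul_eq_smul (α := X) fun z => Subsingleton.elim _ _)) ha
  by_cases hN : ∀ N : Subgroup G, N.Normal → N = ⊥ ∨ N = ⊤
  · left
    haveI : Nontrivial G := by
      haveI := hsimple
      obtain ⟨a, ha⟩ := exists_ne (1 : MulAction.stabilizer G x)
      exact ⟨⟨a, 1, fun h => ha (Subtype.ext h)⟩⟩
    exact ⟨hN⟩
  push Not at hN
  obtain ⟨N, hNn, hb, ht⟩ := hN
  right
  haveI := hNn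
  have hnfix : MulAction.fixedPoints N X ≠ ⊤ := by
    intro h
    apply hb
    rw [eq_bot_iff]
    intro n hn
    refine Subgroup.mem_bot.mpr (FaithfulSMul.eq_of_smul_eq_smul (α := X) fun z => ?_)
    have : z ∈ MulAction.fixedPoints N X := by rw [h]; trivial
    simpa using this ⟨n, hn⟩
  have hNtr : MulAction.IsPretransitive N X :=
    MulAction.IsQuasiPreprimitive.isPretransitive_of_normal (G := G) hnfix
  refine ⟨N, hNn, hb, ht, hNtr, ?_⟩
  have hgo : ∀ z : X, ∃ n ∈ N, n • x = z := fun z => by
    obtain ⟨⟨n, hn⟩, h⟩ := hNtr.exists_smul_eq x z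
    exact ⟨n, hn, h⟩
  haveI := hsimple
  have hint : (N.subgroupOf (MulAction.stabilizer G x)) = ⊥ := by
    rcases IsSimpleGroup.eq_bot_or_eq_top_of_normal (N.subgroupOf (MulAction.stabilizer G x)) inferInstance with h | h
    · exact h
    · exfalso
      rw [Subgroup.subgroupOf_eq_top] at h
      apply ht
      rw [eq_top_iff]
      intro g _
      obtain ⟨n, hn, hnx⟩ := hgo (g • x)
      have h1 : n⁻¹ * g ∈ MulAction.stabilizer G x := by
        rw [MulAction.mem_stabilizer_iff, mul_smul, ← hnx, inv_smul_smul]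
      simpa using N.mul_mem hn (h h1)
  intro y
  rw [eq_bot_iff]
  rintro ⟨n, hn⟩ hny
  rw [MulAction.mem_stabilizer_iff] at hny
  replace hny : n • y = y := hny
  obtain ⟨m, hm, rfl⟩ := hgo y
  have hk : m⁻¹ * n * m ∈ MulAction.stabilizer G x := by
    rw [MulAction.mem_stabilizer_iff, mul_smul, mul_smul, hny, inv_smul_smul]
  have : (⟨m⁻¹ * n * m, hk⟩ : MulAction.stabilizer G x) ∈ N.subgroupOf (MulAction.stabilizer G x) :=
    Subgroup.mem_subgroupOf.mpr (N.mul_mem (N.mul_mem (N.inv_mem hm) hn) hm)
  rw [hint, Subgroup.mem_bot] at this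
  have h2 : m⁻¹ * n * m = 1 := congrArg Subtype.val this
  refine Subgroup.mem_bot.mpr (Subtype.ext ?_)
  calc n = m * (m⁻¹ * n * m) * m⁻¹ := by group
    _ = 1 := by rw [h2]; simp

end Cfsg.Agent.S4300
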