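import Cfsg.Statements.S4301
import Mathlib
import Cfsg.Agent.Lib.Frobenius.Basic

set_option autoImplicit false
open Cfsg

namespace Cfsg.Agent.S4301

/-- One-point extension of a multiply transitive group. Let X be a set and G a group of permutations of Option X (the set X with one extra point ∗ = none) all of whose elements fix ∗, such that G is k-transitive on the points of X for some k ≥ 2, X having at least k points. Suppose a permutation h of Option X and an element g of G satisfy: h interchanges ∗ with a point x of X and fixes a point y of X; g interchanges x and y; (g h)³ and h² lie in G; and for every f in G fixing x, the product h f h lies in G and fixes x. Then an element of the group generated by G and h fixes ∗ exactly when it lies in G, and that group acts (k+1)-transitively on Option X. -/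
theorem result {X : Type*} (G : Subgroup (Equiv.Perm (Option X))) (hfix : ∀ f ∈ G, f none = none)
    (k : ℕ) (hk : 2 ≤ k) (hkX : Nonempty (Fin k ↪ X))
    (htrans : ∀ a b : Fin k ↪ X, ∃ f ∈ G, ∀ i, f (some (a i)) = some (b i))
    (h g : Equiv.Perm (Option X)) (hg : g ∈ G) (x y : X)
    (h1 : h none = some x) (h2 : h (some x) = none) (h3 : h (some y) = some y)
    (h4 : g (some x) = some y) (h5 : g (some y) = some x)
    (h6 : (g * h) ^ 3 ∈ G) (h7 : h ^ 2 ∈ G)
    (h8 : ∀ f ∈ G, f (some x) = some x → h * f * h ∈ G ∧ (h * f * h) (some x) = some x) :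
    (∀ f ∈ Subgroup.closure ((G : Set (Equiv.Perm (Option X))) ∪ {h}), f none = none ↔ f ∈ G) ∧
      MulAction.IsMultiplyPretransitive (Subgroup.closure ((G : Set (Equiv.Perm (Option X))) ∪ {h})) (Option X) (k + 1) := by
  classical
  have hxy : x ≠ y := fun e => by
    rw [e, h3] at h2
    exact Option.some_ne_none _ h2
  obtain ⟨e₀⟩ := hkX
  have h0k : 0 < k := by omega
  have h1k : 1 < k := by omega
  have hemb : ∀ a b : X, a ≠ b → ∃ e : Fin k ↪ X, e ⟨0, h0k⟩ = a ∧ e ⟨1, h1k⟩ = b := by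
    intro a b hab
    let e₁ : Fin k ↪ X := e₀.trans (Equiv.swap (e₀ ⟨0, h0k⟩) a).toEmbedding
    have he₁ : e₁ ⟨0, h0k⟩ = a := by simp [e₁]
    refine ⟨e₁.trans (Equiv.swap (e₁ ⟨1, h1k⟩) b).toEmbedding, ?_, by simp⟩
    show Equiv.swap (e₁ ⟨1, h1k⟩) b (e₁ ⟨0, h0k⟩) = a
    rw [he₁, Equiv.swap_apply_of_ne_of_ne (fun e => absurd (congrArg Fin.val (e₁.injective (he₁.trans e))) (by simp)) hab]
  have htwo : ∀ z, z ≠ x → ∃ f ∈ G, f (some x) = some x ∧ f (some y) = some z := by
    intro z hz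
    obtain ⟨e, he, he'⟩ := hemb x y hxy
    obtain ⟨d, hd, hd'⟩ := hemb x z hz.symm
    obtain ⟨f, hf, hfe⟩ := htrans e d
    exact ⟨f, hf, by rw [← he, hfe, hd, he], by rw [← he', hfe, hd']⟩
  have hone : ∀ z, ∃ f ∈ G, f (some x) = some z := by
    intro z
    by_cases hz : z = x
    · exact ⟨1, G.one_mem, by simp [hz]⟩
    obtain ⟨f, hf, -, hfy⟩ := htwo z hz
    exact ⟨f * g, G.mul_mem hf hg, by rw [Equiv.Perm.mul_apply, h4, hfy]⟩
  -- the extended group is `G ∪ G h G`
  let S : Set (Equiv.Perm (Option X)) := {f | f ∈ G ∨ ∃ a ∈ G, ∃ b ∈ G, f = a * h * b}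
  have hmulG : ∀ a ∈ G, ∀ s ∈ S, ∀ b ∈ G, a * s * b ∈ S := by
    rintro a ha s (hs | ⟨c, hc, d, hd, rfl⟩) b hb
    · exact Or.inl (G.mul_mem (G.mul_mem ha hs) hb)
    · exact Or.inr ⟨a * c, G.mul_mem ha hc, d * b, G.mul_mem hd hb, by simp only [mul_assoc]⟩
  have hinvh : h⁻¹ = (h ^ 2)⁻¹ * h * 1 := by
    rw [sq, mul_inv_rev, mul_one, inv_mul_cancel_right]
  have hhh : ∀ f ∈ G, h * f * h ∈ S := by
    intro f hf
    by_cases hfx : f (some x) = some x
    · exact Or.inl (h8 f hf hfx).1
    obtain ⟨z, hz⟩ : ∃ z, f (some x) = some z := by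
      cases hfz : f (some x) with
      | none =>
        have := f.injective (hfz.trans (hfix f hf).symm)
        exact absurd this (Option.some_ne_none _)
      | some z => exact ⟨z, rfl⟩
    obtain ⟨a, ha, hax, hay⟩ := htwo z (fun e => hfx (e ▸ hz))
    set b := (a * g)⁻¹ * f with hb
    have hbG : b ∈ G := G.mul_mem (G.inv_mem (G.mul_mem ha hg)) hf
    have hbx : b (some x) = some x := by
      have : (a * g) (some x) = f (some x) := by rw [Equiv.Perm.mul_apply, h4, hay, hz]
      rw [hb, Equiv.Perm.mul_apply, ← this]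
      exact (a * g).symm_apply_apply _
    have e : h * f * h = (h * a * h) * (h ^ 2)⁻¹ * g⁻¹ * ((g * h) ^ 3) * h⁻¹ * g⁻¹ * (h ^ 2)⁻¹ * (h * b * h) := by
      rw [hb, pow_two, pow_three]
      group
    rw [e, hinvh, mul_one]
    have hA : h * a * h * (h ^ 2)⁻¹ * g⁻¹ * (g * h) ^ 3 * (h ^ 2)⁻¹ ∈ G :=
      G.mul_mem (G.mul_mem (G.mul_mem (G.mul_mem (h8 a ha hax).1 (G.inv_mem h7)) (G.inv_mem hg)) h6) (G.inv_mem h7)
    have hB : g⁻¹ * (h ^ 2)⁻¹ * (h * b * h) ∈ G :=
      G.mul_mem (G.mul_mem (G.inv_mem hg) (G.inv_mem h7)) (h8 b hbG hbx).1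
    exact Or.inr ⟨_, hA, _, hB, by simp only [mul_assoc]⟩
  let K : Subgroup (Equiv.Perm (Option X)) :=
    { carrier := S
      one_mem' := Or.inl G.one_mem
      mul_mem' := by
        rintro s t (hs | ⟨a, ha, b, hb, rfl⟩) ht
        · simpa using hmulG s hs t ht 1 G.one_mem
        · rcases ht with ht | ⟨c, hc, d, hd, rfl⟩
          · exact Or.inr ⟨a, ha, b * t, G.mul_mem hb ht, by simp only [mul_assoc]⟩
          · have := hmulG a ha _ (hhh (b * c) (G.mul_mem hb hc)) d hd
            simpa only [mul_assoc] using this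
      inv_mem' := by
        rintro s (hs | ⟨a, ha, b, hb, rfl⟩)
        · exact Or.inl (G.inv_mem hs)
        · refine Or.inr ⟨b⁻¹ * (h ^ 2)⁻¹, G.mul_mem (G.inv_mem hb) (G.inv_mem h7), a⁻¹, G.inv_mem ha, ?_⟩
          rw [mul_inv_rev, mul_inv_rev, hinvh]
          simp only [mul_assoc, one_mul] }
  have hle : Subgroup.closure ((G : Set (Equiv.Perm (Option X))) ∪ {h}) ≤ K := by
    rw [Subgroup.closure_le]
    rintro f (hf | rfl)
    · exact Or.inl hf
    · exact Or.inr ⟨1, G.one_mem, 1, G.one_mem, by simp⟩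
  have hGle : ∀ f ∈ G, f ∈ Subgroup.closure ((G : Set (Equiv.Perm (Option X))) ∪ {h}) := fun f hf =>
    Subgroup.subset_closure (Or.inl hf)
  refine ⟨fun f hf => ⟨fun hfn => ?_, hfix f⟩, ?_⟩
  · rcases hle hf with hfG | ⟨a, ha, b, hb, rfl⟩
    · exact hfG
    · rw [Equiv.Perm.mul_apply, Equiv.Perm.mul_apply, hfix b hb, h1] at hfn
      exact absurd (a.injective (hfn.trans (hfix a ha).symm)) (Option.some_ne_none _)
  · -- transitivity
    set L := Subgroup.closure ((G : Set (Equiv.Perm (Option X))) ∪ {h})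
    have hto : ∀ o : Option X, ∃ f ∈ L, f o = none := by
      intro o
      cases o with
      | none => exact ⟨1, L.one_mem, rfl⟩
      | some z =>
        obtain ⟨f, hf, hfz⟩ := hone z
        refine ⟨h * f⁻¹, L.mul_mem (Subgroup.subset_closure (Or.inr rfl)) (L.inv_mem (hGle f hf)), ?_⟩
        rw [Equiv.Perm.mul_apply, ← hfz]
        show h (f.symm (f (some x))) = none
        rw [f.symm_apply_apply, h2]
    have hnorm : ∀ a : Fin (k + 1) ↪ Option X, ∃ f ∈ L, f (a 0) = none ∧
        ∃ b : Fin k ↪ X, ∀ i : Fin k, f (a i.succ) = some (b i) := by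
      intro a
      obtain ⟨f, hf, hfa⟩ := hto (a 0)
      refine ⟨f, hf, hfa, ?_⟩
      have hne : ∀ i : Fin k, ∃ b, f (a i.succ) = some b := fun i => by
        refine Option.ne_none_iff_exists'.mp fun e => ?_
        exact Fin.succ_ne_zero i (a.injective (f.injective (e.trans hfa.symm)))
      choose b hb using hne
      exact ⟨⟨b, fun i j e => Fin.succ_injective _ (a.injective (f.injective (by rw [hb, hb, e])))⟩, hb⟩
    constructor
    intro a b
    obtain ⟨fa, hfa, hfa0, a', ha'⟩ := hnorm a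
    obtain ⟨fb, hfb, hfb0, b', hb'⟩ := hnorm b
    obtain ⟨f, hf, hfab⟩ := htrans a' b'
    refine ⟨⟨fb⁻¹ * f * fa, L.mul_mem (L.mul_mem (L.inv_mem hfb) (hGle f hf)) hfa⟩, Function.Embedding.ext fun i => ?_⟩
    show fb.symm (f (fa (a i))) = b i
    rw [Equiv.symm_apply_eq]
    induction i using Fin.cases with
    | zero => rw [hfa0, hfb0, hfix f hf]
    | succ i => rw [ha', hb', hfab]

end Cfsg.Agent.S4301
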