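import Cfsg.Statements.S4302
import Mathlib
import Cfsg.Agent.Lib.Offenders.AbelianTwo
import Cfsg.Agent.Lib.Offenders.Failure
import Cfsg.Agent.Lib.Offenders.CoreCommutator
import Cfsg.Agent.Lib.Core.Fitting
import Cfsg.Agent.Lib.PGroup.SylowNormal
import Cfsg.Agent.Lib.ThompsonA.Thompson
import Cfsg.Agent.Lib.PSolvable.PSolv

set_option autoImplicit false
open Cfsg

namespace Cfsg.Agent.S4302

open Subgroup
open Cfsg.Agent.Lib
open Cfsg.Agent.Lib.Offenders

/-- A permutation of three letters as a matrix over `GF(2)`, on the basis `v₀, v₁` of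
`v₀ = (1,0), v₁ = (0,1), v₂ = (1,1)`. -/
def permMat (σ : Equiv.Perm (Fin 3)) : Matrix (Fin 2) (Fin 2) (ZMod 2) :=
  fun i j => (![![1, 0], ![0, 1], ![1, 1]] : Fin 3 → Fin 2 → ZMod 2) (σ j.castSucc) i

theorem det_permMat : ∀ σ, (permMat σ).det = 1 := by decide

theorem permMat_mul : ∀ σ τ, permMat (σ * τ) = permMat σ * permMat τ := by decide

theorem permMat_inj : ∀ σ τ, permMat σ = permMat τ → σ = τ := by decide

theorem nonempty_sl_two :
    Nonempty (Matrix.SpecialLinearGroup (Fin 2) (ZMod 2) ≃* Equiv.Perm (Fin 3)) := by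
  let f : Equiv.Perm (Fin 3) →* Matrix.SpecialLinearGroup (Fin 2) (ZMod 2) :=
    MonoidHom.mk' (fun σ => ⟨permMat σ, det_permMat σ⟩) fun σ τ => Subtype.ext (permMat_mul σ τ)
  have hinj : Function.Injective f := fun σ τ e => permMat_inj σ τ (congrArg Subtype.val e)
  refine ⟨(MulEquiv.ofBijective f ((Nat.bijective_iff_injective_and_card f).2 ⟨hinj, ?_⟩)).symm⟩
  rw [Nat.card_perm, Nat.card_fin, Offenders.card_sl_two]
  rfl

/-- A group generated by best offenders for `p = 2` is a product of copies of `S₃`. -/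
theorem exists_pi_equiv {G : Type*} [Group G] [Finite G] {V H : Subgroup G} (h : Setup 2 V H)
    (hgen : IsGenerated 2 V H) (hne : H ≠ ⊥) :
    ∃ n : ℕ, 1 ≤ n ∧ Nonempty (↥H ≃* (Fin n → Equiv.Perm (Fin 3))) := by
  classical
  have := Fintype.ofFinite (Setup.Factor 2 V H)
  have hcomm : Pairwise fun i j : Setup.Factor 2 V H =>
      ∀ x y : G, x ∈ (i : Subgroup G) → y ∈ (j : Subgroup G) → Commute x y := by
    rintro ⟨E, A, hA, rfl⟩ ⟨E', A', hA', rfl⟩ hij x y hx hy
    rcases h.dichotomy hA hA' with e | ⟨-, -, hc⟩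
    · exact absurd (Subtype.ext e) hij
    · exact (mem_centralizer_iff.1 (hc hx) y hy).symm
  let φ := Subgroup.noncommPiCoprod (H := fun E : Setup.Factor 2 V H => (E : Subgroup G)) hcomm
  have hinj : Function.Injective φ :=
    Subgroup.injective_noncommPiCoprod_of_iSupIndep h.iSupIndep_factor
  have hrange : φ.range = H := by rw [Subgroup.noncommPiCoprod_range, h.iSup_factor hgen]
  obtain ⟨e0⟩ := nonempty_sl_two
  have hE : ∀ E : Setup.Factor 2 V H, Nonempty (↥(E : Subgroup G) ≃* Equiv.Perm (Fin 3)) := by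
    rintro ⟨E, A, hA, rfl⟩
    obtain ⟨e⟩ := h.nonempty_mulEquiv hA
    exact ⟨e.trans e0⟩
  let eE := fun E => (hE E).some
  let k := Fintype.equivFin (Setup.Factor 2 V H)
  let e₁ : ↥H ≃* ((E : Setup.Factor 2 V H) → ↥(E : Subgroup G)) :=
    ((MonoidHom.ofInjective hinj).trans (MulEquiv.subgroupCongr hrange)).symm
  let e₂ : ((E : Setup.Factor 2 V H) → ↥(E : Subgroup G)) ≃* (Setup.Factor 2 V H → Equiv.Perm (Fin 3)) :=
    MulEquiv.piCongrRight eE
  let e₃ : (Setup.Factor 2 V H → Equiv.Perm (Fin 3)) ≃*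
      (Fin (Fintype.card (Setup.Factor 2 V H)) → Equiv.Perm (Fin 3)) :=
    { Equiv.arrowCongr k (Equiv.refl _) with map_mul' := fun _ _ => rfl }
  refine ⟨_, Fintype.card_pos_iff.2 ?_, ⟨e₁.trans (e₂.trans e₃)⟩⟩
  by_contra hemp
  rw [not_nonempty_iff] at hemp
  refine hne ?_
  rw [← h.iSup_factor hgen, iSup_of_empty]

section

variable {X : Type*} [Group X] [Finite X]

theorem commute_odd_part {V W : Subgroup X} (hW : IsPGroup 2 W)
    (hc : ∀ x ∈ W, ∀ y ∈ W, x * y = y * x) (hWn : W.Normal) (hV : omegaOne 2 W ≤ V) {a : X}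
    (ha : (orderOf a).Coprime 2) (haV : a ∈ centralizer (V : Set X)) :
    a ∈ centralizer (W : Set X) :=
  mem_centralizer_iff.2 fun x hx => (ThompsonA.commute_of_commute_omega ha hW hc
    (fun y hy => hWn.conj_mem y hy a) (fun y hy hy2 =>
      (mem_centralizer_iff.1 haV y (hV (Omega.mem_of_pow_eq_one hy hy2))).symm) x hx).symm

/-- An abelian subgroup of `S` of largest order is an offender on a normal abelian `V ≤ S`. -/
theorem offender_ineq {V S A : Subgroup X} (hV : IsMulCommutative V) (hVS : V ≤ S)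
    (hA : A ∈ ThompsonA.maxAbIn S) [V.Normal] :
    Nat.card V ≤ Nat.card (A.map (Model.nu V)) * Nat.card ↥(V ⊓ centralizer (A : Set X)) := by
  set Ac := A ⊓ centralizer (V : Set X) with hAc
  have hAcA : IsMulCommutative Ac := ThompsonA.isMulCommutative_of_le hA.1 inf_le_left
  have hB : IsMulCommutative (Ac ⊔ V : Subgroup X) := ThompsonA.isMulCommutative_sup hAcA hV
    fun a ha b hb => (mem_centralizer_iff.1 (mem_inf.1 ha).2 b hb).symm
  have h1 : Nat.card ↥(Ac ⊔ V) ≤ Nat.card A :=
    hA.2.2 _ hB (sup_le (inf_le_left.trans hA.2.1) hVS)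
  have h2 : Nat.card ↥(Ac ⊔ V) * Nat.card ↥(Ac ⊓ V) = Nat.card Ac * Nat.card V := by
    rw [← PSolvable.card_mul_relIndex (le_sup_right : V ≤ Ac ⊔ V), relIndex_sup_right,
      ← inf_relIndex_right, inf_comm V Ac, mul_assoc, mul_comm _ (Nat.card ↥(Ac ⊓ V)),
      PSolvable.card_mul_relIndex (inf_le_left : Ac ⊓ V ≤ Ac), mul_comm]
  have h3 : Nat.card ↥(Ac ⊓ V) ≤ Nat.card ↥(V ⊓ centralizer (A : Set X)) :=
    card_le_of_le (le_inf inf_le_right (inf_le_left.trans (inf_le_left.trans
      (le_centralizer_iff_isMulCommutative.2 hA.1))))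
  have h4 := Model.card_map_nu (V := V) A
  rw [← hAc] at h4
  have h5 : Nat.card Ac * Nat.card V ≤
      Nat.card Ac * (Nat.card (A.map (Model.nu V)) * Nat.card ↥(V ⊓ centralizer (A : Set X))) :=
    calc Nat.card Ac * Nat.card V = Nat.card ↥(Ac ⊔ V) * Nat.card ↥(Ac ⊓ V) := h2.symm
      _ ≤ Nat.card A * Nat.card ↥(V ⊓ centralizer (A : Set X)) := Nat.mul_le_mul h1 h3
      _ = _ := by rw [← h4]; ring
  exact Nat.le_of_mul_le_mul_left h5 Nat.card_pos

end

/-- Let `X` be a finite solvable group whose Fitting subgroup is a 2-group (equivalently `F(X) = O₂(X)`), `T` a Sylow 2-subgroup of `X`, `J(T)` the subgroup generated by the abelian subgroups of `T` of largest order, `C` the largest normal subgroup of `X` centralizing the centre `Z(T)`, and `Y` the normal closure of `J(T)` in `X`. Then `X = C · Y · N_X(J(T))`, and either `Y ≤ C`, or `CY/C` is isomorphic to a direct product of at least one copy of the symmetric group of degree 3. -/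
theorem result {X : Type*} [Group X] [Finite X]
    [Group.IsSolvable X] (hF : Cfsg.fittingSubgroup X = Cfsg.pCore 2 X) (T : Sylow 2 X) :
    ((Subgroup.centralizer (((T : Subgroup X) ⊓ Subgroup.centralizer ((T : Subgroup X) : Set X) : Subgroup X) : Set X)).normalCore
        ⊔ Subgroup.normalClosure (Cfsg.thompsonSubgroupAOf (T : Subgroup X) : Set X)
        ⊔ Subgroup.normalizer (Cfsg.thompsonSubgroupAOf (T : Subgroup X) : Set X) = ⊤) ∧
    (Subgroup.normalClosure (Cfsg.thompsonSubgroupAOf (T : Subgroup X) : Set X)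
        ≤ (Subgroup.centralizer (((T : Subgroup X) ⊓ Subgroup.centralizer ((T : Subgroup X) : Set X) : Subgroup X) : Set X)).normalCore
      ∨ ∃ n : ℕ, 1 ≤ n ∧
        Nonempty (↥(Subgroup.normalClosure (Cfsg.thompsonSubgroupAOf (T : Subgroup X) : Set X)) ⧸
            ((Subgroup.centralizer (((T : Subgroup X) ⊓ Subgroup.centralizer ((T : Subgroup X) : Set X) : Subgroup X) : Set X)).normalCore).subgroupOf
              (Subgroup.normalClosure (Cfsg.thompsonSubgroupAOf (T : Subgroup X) : Set X))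
          ≃* (Fin n → Equiv.Perm (Fin 3)))) := by
  have : Fact (Nat.Prime 2) := ⟨Nat.prime_two⟩
  set Z : Subgroup X := (T : Subgroup X) ⊓ centralizer ((T : Subgroup X) : Set X) with hZ
  set J := thompsonSubgroupAOf (T : Subgroup X) with hJ
  set W := normalClosure (Z : Set X) with hW
  -- `W` is a central subgroup of `O₂(X)`
  set O := pCore 2 X with hO
  have hOn : O.Normal := hF ▸ Fitting.fittingSubgroup_normal
  have hcO : centralizer (O : Set X) ≤ O := by
    rw [← hF]; exact Fitting.centralizer_fittingSubgroup_le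
  have hZO : Z ≤ O ⊓ centralizer (O : Set X) := by
    have h1 : Z ≤ centralizer (O : Set X) :=
      inf_le_right.trans (centralizer_le (SetLike.coe_subset_coe.2 (PSolvable.pCore_le_sylow T)))
    exact le_inf (h1.trans hcO) h1
  have hWO : W ≤ O ⊓ centralizer (O : Set X) := normalClosure_le_normal hZO
  have hWc : ∀ x ∈ W, ∀ y ∈ W, x * y = y * x := fun x hx y hy =>
    mem_centralizer_iff.1 (mem_inf.1 (hWO hy)).2 x (mem_inf.1 (hWO hx)).1
  have hWcomm : IsMulCommutative W := ⟨⟨fun a b => Subtype.ext (hWc _ a.2 _ b.2)⟩⟩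
  have hW2 : IsPGroup 2 W := PSolvable.pCore_isPGroup.to_le (hWO.trans inf_le_left)
  -- the normal core is the centraliser of `W`
  set C := (centralizer (Z : Set X)).normalCore with hC
  have hCW : C = centralizer (W : Set X) := by
    refine le_antisymm ?_ (normal_le_normalCore.2 (centralizer_le (subset_normalClosure)))
    rw [le_centralizer_iff]
    exact normalClosure_le_normal (le_centralizer_iff.1 (normalCore_le _))
  have hOC : pCore 2 (X ⧸ centralizer (W : Set X)) = ⊥ := by
    refine SylowCentre.pCore_quotient_eq_bot (V := W) ?_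
    rw [hW, normalClosure, closure_le]
    intro y hy
    obtain ⟨z, hz, hzy⟩ := Group.mem_conjugatesOfSet_iff.1 hy
    obtain ⟨g, rfl⟩ := isConj_iff.1 hzy
    refine mem_iSup_of_mem (g • T) ⟨?_, mem_centralizer_iff.2 fun s hs => ?_⟩
    · exact (normalClosure_normal (s := (Z : Set X))).conj_mem z (subset_normalClosure hz) g
    · rw [SetLike.mem_coe, Sylow.coe_subgroup_smul, Subgroup.pointwise_smul_def] at hs
      obtain ⟨t, ht, rfl⟩ := hs
      have e := mem_centralizer_iff.1 (mem_inf.1 hz).2 t ht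
      show g * t * g⁻¹ * (g * z * g⁻¹) = g * z * g⁻¹ * (g * t * g⁻¹)
      calc g * t * g⁻¹ * (g * z * g⁻¹) = g * (t * z) * g⁻¹ := by group
        _ = g * z * g⁻¹ * (g * t * g⁻¹) := by rw [e]; group
  -- pass to the elements of order two
  set V := omegaOne 2 W with hV
  have hVn : V.Normal := by
    have h1 := Omega.normalizer_le 2 W
    rw [normalizer_eq_top (H := W)] at h1
    exact normalizer_eq_top_iff.1 (top_le_iff.1 h1)
  have hVel : IsElementaryAbelian 2 V := Omega.isElementaryAbelian
  have hVW : V ≤ W := Omega.le_self 2 W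
  have hCV : centralizer (V : Set X) = C := by
    rw [hCW]
    have hle : centralizer (W : Set X) ≤ centralizer (V : Set X) :=
      centralizer_le (SetLike.coe_subset_coe.2 hVW)
    set Cw := centralizer (W : Set X) with hCw
    set D := centralizer (V : Set X) with hD
    refine le_antisymm (fun x hx => ?_) hle
    have hP : IsPGroup 2 (D.map (QuotientGroup.mk' Cw)) := by
      rintro ⟨_, y, hy, rfl⟩
      refine ⟨(orderOf y).factorization 2, Subtype.ext ?_⟩
      show QuotientGroup.mk' Cw y ^ 2 ^ (orderOf y).factorization 2 = 1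
      rw [← map_pow, QuotientGroup.mk'_apply, QuotientGroup.eq_one_iff]
      refine commute_odd_part hW2 hWc inferInstance le_rfl ?_ (pow_mem hy _)
      rw [orderOf_pow' _ (by positivity), Nat.gcd_eq_right (Nat.ordProj_dvd _ 2)]
      exact (Nat.coprime_ordCompl Nat.prime_two (orderOf_pos y).ne').symm
    have : (D.map (QuotientGroup.mk' Cw)).Normal :=
      Subgroup.Normal.map inferInstance _ (QuotientGroup.mk'_surjective Cw)
    have hx' : QuotientGroup.mk' Cw x ∈ pCore 2 (X ⧸ Cw) :=
      PSolvable.le_pCore hP (mem_map_of_mem _ hx)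
    rwa [hOC, mem_bot, QuotientGroup.mk'_apply, QuotientGroup.eq_one_iff] at hx'
  have hOV : pCore 2 (X ⧸ centralizer (V : Set X)) = ⊥ := by
    have e := QuotientGroup.quotientMulEquivOfEq (hCW.symm.trans hCV.symm)
    rw [← PSolvable.map_pCore_equiv e, hOC, Subgroup.map_bot]
  -- the Thompson subgroups
  set Y := normalClosure (J : Set X) with hY
  have hVS : ∀ S : Sylow 2 X, V ≤ (S : Subgroup X) := fun S =>
    (hVW.trans (hWO.trans inf_le_left)).trans (PSolvable.pCore_le_sylow S)
  have hsep : IsPSolvable 2 ↥Y := PSolvable.isPSolvable_of_isSolvable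
  have hsetup : Setup 2 (Model.base V) (Y.map (Model.nu V)) := by
    refine Model.setup hVel hsep
      (Model.pCore_eq_bot_of_le (map_mono le_top) ?_ (Model.pCore_range_eq_bot hOV))
    rintro _ ⟨g, -, rfl⟩
    exact le_normalizer_map _ (mem_map_of_mem _
      ((normalizer_eq_top (H := Y)).ge (mem_top g)))
  have hJS : ∀ S : Sylow 2 X, thompsonSubgroupAOf (S : Subgroup X) ≤ Y := by
    intro S
    obtain ⟨g, rfl⟩ := MulAction.exists_smul_eq X T S
    rw [Sylow.coe_subgroup_smul, Subgroup.pointwise_smul_def,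
      ThompsonA.thompsonSubgroupAOf_map (f := (MulDistribMulAction.toMonoidEnd (MulAut X) X)
        (MulAut.conj g)) (MulAut.conj g).injective]
    rintro _ ⟨y, hy, rfl⟩
    exact (normalClosure_normal (s := (J : Set X))).conj_mem y (subset_normalClosure hy) g
  have hoff : ∀ (S : Sylow 2 X), ∀ A ∈ ThompsonA.maxAbIn (S : Subgroup X),
      IsBestOffenderOn 2 (Model.base V) (A.map (Model.nu V)) ∧
        A.map (Model.nu V) ≤ Y.map (Model.nu V) := by
    intro S A hA
    have hle : A.map (Model.nu V) ≤ Y.map (Model.nu V) :=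
      map_mono ((ThompsonA.le_thompsonSubgroupAOf hA).trans (hJS S))
    have hc : IsMulCommutative (A.map (Model.nu V)) := by
      have := hA.1
      infer_instance
    obtain ⟨hb, heq⟩ := AbelianTwo.offender_bound hsetup hle hc
      ((S.isPGroup'.to_le hA.2.1).map _)
    have hineq := offender_ineq hVel.1 (hVS S) hA
    rw [← Model.card_base_inf_centralizer (V := V) A, ← Model.card_base (V := V)] at hineq
    have he := le_antisymm hb hineq
    exact ⟨(hsetup.isBestOffenderOn_iff hle).2 ⟨heq he, he⟩, hle⟩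
  have hgen : IsGenerated 2 (Model.base V) (Y.map (Model.nu V)) := by
    refine le_antisymm ?_ (iSup_le fun B => B.2.1)
    rw [map_le_iff_le_comap, hY, normalClosure, closure_le]
    intro y hy
    obtain ⟨z, hz, hzy⟩ := Group.mem_conjugatesOfSet_iff.1 hy
    obtain ⟨g, rfl⟩ := isConj_iff.1 hzy
    have hmem : g * z * g⁻¹ ∈ thompsonSubgroupAOf ((g • T : Sylow 2 X) : Subgroup X) := by
      rw [Sylow.coe_subgroup_smul, Subgroup.pointwise_smul_def,
        ThompsonA.thompsonSubgroupAOf_map (f := (MulDistribMulAction.toMonoidEnd (MulAut X) X)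
          (MulAut.conj g)) (MulAut.conj g).injective]
      exact mem_map_of_mem _ hz
    rw [ThompsonA.thompsonSubgroupAOf_eq_sSup] at hmem
    refine SetLike.le_def.1 (?_ : sSup (ThompsonA.maxAbIn _) ≤ _) hmem
    exact sSup_le fun A hA => map_le_iff_le_comap.1
      (le_iSup_of_le ⟨A.map (Model.nu V), (hoff _ A hA).2, (hoff _ A hA).1⟩ le_rfl)
  refine ⟨?_, ?_⟩
  · -- the Frattini argument
    have hYT : J ≤ (T : Subgroup X) ⊓ Y :=
      le_inf (ThompsonA.thompsonSubgroupAOf_le _) subset_normalClosure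
    have hN : normalizer ((T : Subgroup X) ⊓ Y : Set X) ≤ normalizer (J : Set X) := by
      have h1 := ThompsonA.normalizer_le ((T : Subgroup X) ⊓ Y)
      rwa [ThompsonA.thompsonSubgroupAOf_eq_of_le hYT inf_le_left] at h1
    rw [eq_top_iff, ← SylowNormal.normalizer_inf_sup T Y]
    exact sup_le (hN.trans le_sup_right) (le_sup_right.trans le_sup_left)
  · rw [or_iff_not_imp_left]
    intro hYC
    have hne : Y.map (Model.nu V) ≠ ⊥ := by
      rw [Ne, Subgroup.map_eq_bot_iff, Model.ker_nu, hCV]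
      exact hYC
    obtain ⟨n, hn, ⟨e⟩⟩ := exists_pi_equiv hsetup hgen hne
    have : (C.subgroupOf Y).Normal := inferInstance
    obtain ⟨e'⟩ := Failure.quotient_equiv (Model.nu V) Y C (fun d _ => by
      rw [Model.nu_eq_one_iff, hCV])
    exact ⟨n, hn, ⟨e'.trans e⟩⟩

end Cfsg.Agent.S4302
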