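import Cfsg.Statements.S4303
import Cfsg.Agent.Lib.SylowNumber.Factor

set_option autoImplicit false
universe u
open Cfsg

namespace Cfsg.Agent.S4303

/-- For a finite group `G` and a prime `p`, the number of Sylow `p`-subgroups of `G` is a product of natural numbers each of which is either a prime power congruent to 1 modulo `p` or the number of Sylow `p`-subgroups of some finite simple group. -/
theorem result {G : Type u} [Group G] [Finite G]
    (p : ℕ) [Fact p.Prime] :
    ∃ l : List ℕ, l.prod = Nat.card (Sylow p G) ∧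
      ∀ m ∈ l, (IsPrimePow m ∧ m % p = 1) ∨
        ∃ (S : Type u) (_ : Group S) (_ : Finite S), IsSimpleGroup S ∧ m = Nat.card (Sylow p S) := by
  refine Lib.SylowNumber.sylowNumber_induction (p := p)
    (fun n => ∃ l : List ℕ, l.prod = n ∧
      ∀ m ∈ l, (IsPrimePow m ∧ m % p = 1) ∨
        ∃ (S : Type u) (_ : Group S) (_ : Finite S), IsSimpleGroup S ∧ m = Nat.card (Sylow p S))
    ⟨[], rfl, fun m hm => absurd hm List.not_mem_nil⟩ ?_ ?_ ?_
  · rintro a b ⟨l₁, rfl, h₁⟩ ⟨l₂, rfl, h₂⟩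
    exact ⟨l₁ ++ l₂, List.prod_append, fun m hm => (List.mem_append.1 hm).elim (h₁ m) (h₂ m)⟩
  · intro ℓ k hl hk hk0
    refine ⟨[ℓ ^ k], by simp, fun m hm => Or.inl ?_⟩
    rw [List.mem_singleton.1 hm]
    exact ⟨hl.isPrimePow.pow hk0.ne', Nat.mod_eq_of_lt (Fact.out : p.Prime).one_lt ▸ hk⟩
  · intro S _ _ hS _ _
    refine ⟨[Nat.card (Sylow p S)], by simp, fun m hm => Or.inr ⟨S, ‹_›, ‹_›, hS, ?_⟩⟩
    exact List.mem_singleton.1 hm

end Cfsg.Agent.S4303
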