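import Cfsg.Statements.S4304
import Cfsg.Agent.Lib.SylowNumber.Small

set_option autoImplicit false
open Cfsg

namespace Cfsg.Agent.S4304

open Subgroup

theorem sign_involution_free {α : Type*} [Fintype α] [DecidableEq α] (σ : Equiv.Perm α) (h2 : orderOf σ = 2)
    (hodd : ∃ m, Odd m ∧ σ.support.card = 2 * m) : Equiv.Perm.sign σ = -1 := by
  obtain ⟨m, hm, hsupp⟩ := hodd
  haveI : Fact (Nat.Prime 2) := ⟨Nat.prime_two⟩
  obtain ⟨n, hn⟩ := Equiv.Perm.cycleType_prime_order (h2 ▸ Nat.prime_two)
  rw [h2] at hn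
  have hs := Equiv.Perm.sum_cycleType σ
  rw [hn, Multiset.sum_replicate, hsupp, smul_eq_mul] at hs
  rw [Equiv.Perm.sign_of_cycleType, hn, Multiset.sum_replicate, Multiset.card_replicate, smul_eq_mul,
    show n + 1 = m by omega]
  exact Odd.neg_one_pow (by
    obtain ⟨j, rfl⟩ := hm
    exact ⟨3 * j + 1, by ring⟩)

theorem card_mod_four_ne_two {S : Type*} [Group S] [Finite S] [IsSimpleGroup S]
    (hS : ¬ IsMulCommutative S) : Nat.card S % 4 ≠ 2 := by
  classical
  intro h
  haveI := Fintype.ofFinite S
  haveI : Fact (Nat.Prime 2) := ⟨Nat.prime_two⟩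
  obtain ⟨t, ht⟩ := exists_prime_orderOf_dvd_card' (G := S) 2 (by omega)
  have h1 := Lib.SmallGroups.sign_toPerm hS S t
  have hinj : Function.Injective (MulAction.toPermHom S S) := MulAction.toPerm_injective
  rw [sign_involution_free _ (by rw [orderOf_injective _ hinj, ht])] at h1
  · exact absurd h1 (by decide)
  · refine ⟨Nat.card S / 2, Nat.odd_iff.2 (by omega), ?_⟩
    rw [show (MulAction.toPermHom S S t).support = Finset.univ from ?_, Finset.card_univ,
      ← Nat.card_eq_fintype_card]
    · omega
    · ext a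
      simp only [Equiv.Perm.mem_support, Finset.mem_univ, iff_true]
      intro e
      have e' : t * a = a := e
      rw [mul_eq_right] at e'
      rw [e', orderOf_one] at ht
      omega

theorem normalizer_le_centralizer_of_coprime {S : Type*} [Group S] [Finite S] {p : ℕ} [Fact p.Prime]
    (P : Subgroup S) (hP : Nat.card P = p)
    (h : (Nat.card (normalizer (P : Set S))).Coprime (p - 1)) :
    normalizer (P : Set S) ≤ centralizer (P : Set S) := by
  haveI : IsCyclic P := isCyclic_of_prime_card hP
  have h1 : (P.normalizerMonoidHom).ker.index ∣ p - 1 := by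
    rw [Subgroup.index_ker]
    refine (Subgroup.card_subgroup_dvd_card _).trans ?_
    rw [IsCyclic.card_mulAut, hP, Nat.totient_prime Fact.out]
  have h2 := Nat.eq_one_of_dvd_coprimes h ((P.normalizerMonoidHom).ker.index_dvd_card) h1
  rw [Subgroup.normalizerMonoidHom_ker, index_eq_one, subgroupOf_eq_top] at h2
  exact h2

theorem no_simple {S : Type*} [Group S] [Finite S] [IsSimpleGroup S] (hS : ¬ IsMulCommutative S)
    (hn : Nat.card (Sylow 7 S) = 15) : False := by
  classical
  haveI : Fact (Nat.Prime 7) := ⟨by norm_num⟩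
  haveI := Fintype.ofFinite (Sylow 7 S)
  have h7 : 7 ∣ Nat.card S := by
    by_contra h
    have P : Sylow 7 S := default
    have hb : (P : Subgroup S) = ⊥ := by
      obtain ⟨k, hk⟩ := P.2.exists_card_eq
      rcases Nat.eq_zero_or_pos k with rfl | hk0
      · exact eq_bot_of_card_eq _ (by rw [hk, pow_zero])
      · exact absurd ((dvd_pow_self 7 hk0.ne').trans (hk ▸ card_subgroup_dvd_card _)) h
    rw [Lib.SylowNumber.card_sylow_eq_index P, hb,
      normalizer_eq_top_iff.2 (inferInstance : (⊥ : Subgroup S).Normal), index_top] at hn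
    omega
  have P : Sylow 7 S := default
  have hP := Lib.SylowNumber.card_sylow_eq_prime_of_lt_sq hS h7 (by omega) P
  haveI : IsCyclic (P : Subgroup S) := isCyclic_of_prime_card hP
  set N := normalizer ((P : Subgroup S) : Set S) with hN
  set C := centralizer ((P : Subgroup S) : Set S) with hC
  have hsplit : Nat.card N * 15 = Nat.card S :=
    hn ▸ Lib.SmallGroups.card_normalizer_sylow_mul P
  have hPi : ¬ 7 ∣ (P : Subgroup S).index := P.not_dvd_index
  -- the centralizer is `P`
  have hCN : C ≤ N := by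
    intro c hc
    rw [hN, mem_normalizer_iff]
    intro y
    constructor
    · intro hy
      have := mem_centralizer_iff.1 hc y hy
      rwa [← this, mul_inv_cancel_right]
    · intro hy
      have := mem_centralizer_iff.1 hc _ hy
      have e : c * y * c⁻¹ = y := by
        have e2 := congrArg (fun t => c⁻¹ * t) this
        simpa [mul_assoc] using e2.symm
      rwa [e] at hy
  have hPC : (P : Subgroup S) ≤ C := Subgroup.le_centralizer _
  have hCr : ∀ r : ℕ, r.Prime → r ∣ Nat.card C → r = 7 := by
    intro r hr hrd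
    by_contra hr7
    haveI : Fact r.Prime := ⟨hr⟩
    obtain ⟨⟨c, hc⟩, hc'⟩ := exists_prime_orderOf_dvd_card' r hrd
    rw [Subgroup.orderOf_mk] at hc'
    let π := MulAction.toPermHom S (Sylow 7 S)
    have hπ : ∀ g : S, π g = 1 → g = 1 := by
      intro g hg
      rcases (MonoidHom.normal_ker π).eq_bot_or_eq_top with h | h
      · rw [← MonoidHom.mem_ker, h, mem_bot] at hg; exact hg
      · exfalso
        refine Lib.SmallGroups.normalizer_sylow_ne_top hS h7 P ((eq_top_iff' _).2 fun a => ?_)
        have ha : a ∈ π.ker := h ▸ mem_top a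
        exact Sylow.smul_eq_iff_mem_normalizer.1 (Equiv.ext_iff.1 ha P)
    have hne : π c ≠ 1 := fun h => by
      rw [hπ c h, orderOf_one] at hc'; exact hr.one_lt.ne hc'
    have hord : orderOf (π c) = r := (hr.eq_one_or_self_of_dvd _ (hc' ▸ orderOf_map_dvd π c)).resolve_left
      (fun h => hne (orderOf_eq_one_iff.1 h))
    set A := (π c).support with hA
    have hAinv : ∀ (a : (P : Subgroup S)) (Q : Sylow 7 S), Q ∈ A → (a : S) • Q ∈ A := by
      intro a Q hQ
      rw [hA, Equiv.Perm.mem_support] at hQ ⊢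
      show c • ((a : S) • Q) ≠ (a : S) • Q
      rw [← mul_smul, ← mem_centralizer_iff.1 hc a a.2, mul_smul]
      exact fun h => hQ ((MulAction.injective (a : S)) h)
    letI : MulAction (P : Subgroup S) {Q : Sylow 7 S // Q ∈ A} :=
      { smul := fun a Q => ⟨(a : S) • Q.1, hAinv a _ Q.2⟩
        one_smul := fun Q => Subtype.ext (one_smul S Q.1)
        mul_smul := fun a b Q => Subtype.ext (mul_smul (a : S) (b : S) Q.1) }
    have hfix := P.2.card_modEq_card_fixedPoints {Q : Sylow 7 S // Q ∈ A}
    haveI : IsEmpty (MulAction.fixedPoints (P : Subgroup S) {Q : Sylow 7 S // Q ∈ A}) := by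
      refine ⟨fun ⟨Q, hQ⟩ => ?_⟩
      have hQP : Q.1 = P := by
        apply Sylow.ext
        refine (eq_of_le_of_card_ge (H := (P : Subgroup S)) (fun a ha => ?_) ?_).symm
        · have h1 : a ∈ normalizer ((Q.1 : Subgroup S) : Set S) :=
            Sylow.smul_eq_iff_mem_normalizer.1 (congrArg Subtype.val (hQ ⟨a, ha⟩))
          exact (le_of_eq (P.2.inf_normalizer_sylow Q.1) ⟨ha, h1⟩).2
        · rw [P.card_eq_multiplicity, Q.1.card_eq_multiplicity]
      have := Q.2
      rw [hQP, hA, Equiv.Perm.mem_support] at this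
      exact this (Sylow.smul_eq_iff_mem_normalizer.2 (hCN hc))
    rw [Nat.card_of_isEmpty (α := MulAction.fixedPoints (P : Subgroup S) {Q : Sylow 7 S // Q ∈ A}),
      Nat.card_eq_fintype_card, Fintype.card_coe, Nat.modEq_zero_iff_dvd] at hfix
    have hle : A.card ≤ 15 := hn ▸ Nat.card_eq_fintype_card (α := Sylow 7 S) ▸ Finset.card_le_univ A
    have hpos : 0 < A.card := Finset.card_pos.2 (Finset.nonempty_iff_ne_empty.2
      (fun h => hne (Equiv.Perm.support_eq_empty_iff.1 h)))
    obtain ⟨n, hn'⟩ := Equiv.Perm.cycleType_prime_order (hord ▸ hr)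
    have hs := Equiv.Perm.sum_cycleType (π c)
    rw [hn', Multiset.sum_replicate, smul_eq_mul, hord, ← hA] at hs
    obtain ⟨j, hj⟩ := hfix
    have hj2 : j = 1 ∨ j = 2 := by omega
    have hr2 : r = 2 ∧ A.card = 14 := by
      rcases hj2 with rfl | rfl
      · exfalso
        exact hr7 ((Nat.prime_dvd_prime_iff_eq hr (by norm_num)).1 (Dvd.intro_left _ (hs.trans hj)))
      · have hd : r ∣ 2 * 7 := Dvd.intro_left _ (hs.trans (hj.trans (by norm_num)))
        rcases hr.dvd_mul.1 hd with h | h
        · exact ⟨(Nat.prime_dvd_prime_iff_eq hr Nat.prime_two).1 h, by omega⟩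
        · exact absurd ((Nat.prime_dvd_prime_iff_eq hr (by norm_num)).1 h) hr7
    have h1 := Lib.SmallGroups.sign_toPerm hS (Sylow 7 S) c
    rw [sign_involution_free _ (hord.trans hr2.1) ⟨7, by decide, hr2.2⟩] at h1
    exact absurd h1 (by decide)
  have hCcard : Nat.card C = 7 := by
    have hC1 : 7 ∣ Nat.card C := hP ▸ card_dvd_of_le hPC
    have hC2 : ¬ 7 ^ 2 ∣ Nat.card C := fun h => by
      have h49 := (h.trans (card_subgroup_dvd_card C))
      rw [← card_mul_index (P : Subgroup S), hP, pow_two] at h49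
      exact hPi (Nat.dvd_of_mul_dvd_mul_left (by norm_num) h49)
    have he := Nat.eq_prime_pow_of_unique_prime_dvd (p := 7) Nat.card_pos.ne'
      (fun {d} hd hdd => hCr d hd hdd)
    rw [he]
    generalize (Nat.card C).primeFactorsList.length = k at he
    rcases k with _ | _ | k
    · rw [he] at hC1; norm_num at hC1
    · rfl
    · exact absurd (he ▸ pow_dvd_pow 7 (show 2 ≤ k + 1 + 1 by omega)) hC2
  have hNdvd : Nat.card N ∣ 42 := by
    set φ := (P : Subgroup S).normalizerMonoidHom
    have h1 : φ.ker.index ∣ 6 := by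
      rw [Subgroup.index_ker]
      refine (Subgroup.card_subgroup_dvd_card _).trans ?_
      rw [IsCyclic.card_mulAut, hP, Nat.totient_prime (by norm_num)]
    have h2 : Nat.card φ.ker = 7 := by
      rw [Subgroup.normalizerMonoidHom_ker]
      exact (Nat.card_congr (subgroupOfEquivOfLe hCN).toEquiv).trans hCcard
    have h3 := φ.ker.card_mul_index
    rw [h2] at h3
    show Nat.card N ∣ 42
    rw [← h3]
    exact Nat.mul_dvd_mul_left 7 h1
  have hN7 : Nat.card N ≠ 7 := fun h => by
    refine Lib.SmallGroups.not_normalizer_le_centralizer hS h7 P ?_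
    exact (eq_of_le_of_card_ge hCN (by rw [h, hCcard])).ge
  have h7N : 7 ∣ Nat.card N := hCcard ▸ card_dvd_of_le hCN
  have hm := card_mod_four_ne_two hS
  have hN21 : Nat.card N = 21 := by
    have hle := Nat.le_of_dvd (by norm_num) hNdvd
    obtain ⟨e, he⟩ := h7N
    have : e ≤ 6 := by omega
    interval_cases e <;> simp [he] at * <;> omega
  have hcard : Nat.card S = 5 ^ 1 * 63 := by omega
  haveI : Fact (Nat.Prime 5) := ⟨by norm_num⟩
  have h5 := Lib.SmallGroups.card_sylow_mem hS hcard (by norm_num) one_ne_zero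
  have hn5 : Nat.card (Sylow 5 S) = 21 := by
    rw [show (Nat.divisors 63).filter (fun d => d % 5 = 1 ∧ d ≠ 1) = {21} by decide,
      Finset.mem_singleton] at h5
    exact h5
  have P5 : Sylow 5 S := default
  have h5dvd : 5 ∣ Nat.card S := ⟨63, by omega⟩
  refine Lib.SmallGroups.not_normalizer_le_centralizer hS h5dvd P5
    (normalizer_le_centralizer_of_coprime _ (Lib.SmallGroups.card_sylow_eq P5 hcard (by norm_num)) ?_)
  have := Lib.SmallGroups.card_normalizer_sylow_mul P5
  rw [hn5] at this
  rw [show Nat.card (normalizer ((P5 : Subgroup S) : Set S)) = 15 by omega]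
  norm_num


/-- No finite group has exactly 15 Sylow 7-subgroups. -/
theorem result {G : Type*} [Group G] [Finite G] : Nat.card (Sylow 7 G) ≠ 15 := by
  intro h
  haveI : Fact (Nat.Prime 7) := ⟨by norm_num⟩
  have hnp : ¬ IsPrimePow 15 := fun hpp => by
    have h3 := hpp
    rw [isPrimePow_iff_unique_prime_dvd] at h3
    exact absurd (h3.unique ⟨(by norm_num : Nat.Prime 3), by norm_num⟩
      ⟨(by norm_num : Nat.Prime 5), by norm_num⟩) (by norm_num)
  obtain ⟨S, _, _, hs, hna, hn⟩ := Lib.SylowNumber.exists_simple_of_atomic (by norm_num) hnp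
    (fun m hm hm1 => by
      have := Nat.le_of_dvd (by norm_num) hm
      interval_cases m <;> simp_all) h
  exact no_simple hna hn

end Cfsg.Agent.S4304
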