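import Cfsg.Statements.S4306
import Cfsg.Agent.Lib.FpfPq.Main

set_option autoImplicit false
open Cfsg
open scoped commutatorElement

namespace Cfsg.Agent.S4306

/-- Let `A` be a non-abelian group of order `pq` with `p, q` distinct primes, acting by automorphisms on a finite solvable group `G` of order prime to `pq`, so that only the identity of `G` is fixed by all of `A`. Then `G` has Fitting height at most 2: there is a normal nilpotent subgroup `F` of `G` with `G/F` nilpotent. -/
theorem result {G A : Type*} [Group G] [Finite G]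
    [Group.IsSolvable G] [Group A] [Finite A] [MulDistribMulAction A G] (p q : ℕ) (hp : p.Prime) (hq : q.Prime) (hpq : p ≠ q)
    (hA : Nat.card A = p * q) (hAna : ¬ IsMulCommutative A) (hcop : (Nat.card G).Coprime (p * q))
    (hfpf : ∀ g : G, (∀ a : A, a • g = g) → g = 1) :
    ∃ F : Subgroup G, ∃ hF : F.Normal, Group.IsNilpotent ↥F ∧ Group.IsNilpotent (G ⧸ F) := by
  classical
  haveI := Fintype.ofFinite A
  have hnc : ¬ ∀ a b : A, a * b = b * a := fun h => hAna ⟨⟨h⟩⟩
  haveI : IsZGroup A := IsZGroup.of_squarefree (by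
    rw [hA]
    exact (Nat.squarefree_mul ((Nat.coprime_primes hp hq).mpr hpq)).mpr
      ⟨hp.squarefree, hq.squarefree⟩)
  haveI : Nontrivial A := Finite.one_lt_card_iff_nontrivial.mp (by
    rw [hA]; exact lt_of_lt_of_le hp.one_lt (Nat.le_mul_of_pos_right p hq.pos))
  have hbot : commutator A ≠ ⊥ := fun h => hnc fun a b => by
    have hm : ⁅a, b⁆ ∈ commutator A :=
      Subgroup.commutator_mem_commutator (Subgroup.mem_top a) (Subgroup.mem_top b)
    rw [h, Subgroup.mem_bot] at hm
    exact commutatorElement_eq_one_iff_mul_comm.mp hm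
  have htop : commutator A ≠ ⊤ := (Group.IsSolvable.commutator_lt_top_of_nontrivial A).ne
  have hgrp : Cfsg.Agent.Lib.FpfPq.IsPqGroup A (commutator A) :=
    { normal := inferInstance
      ne_bot := hbot
      ne_top := htop
      not_comm := hnc
      prime_card := fun H h1 h2 => by
        have hd : Nat.card H ∣ p * q := hA ▸ H.card_subgroup_dvd_card
        have hn1 : Nat.card H ≠ 1 := fun h => h1 (Subgroup.eq_bot_of_card_eq H h)
        have hn2 : Nat.card H ≠ p * q := fun h => h2 (Subgroup.eq_top_of_card_eq H (h.trans hA.symm))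
        obtain ⟨a, b, ha, hb, hab⟩ := (Nat.dvd_mul).mp hd
        rcases hp.eq_one_or_self_of_dvd _ ha with rfl | rfl <;>
          rcases hq.eq_one_or_self_of_dvd _ hb with rfl | rfl
        · exact absurd (by rw [← hab]) hn1
        · rw [← hab, one_mul]; exact hq
        · rw [← hab, mul_one]; exact hp
        · exact absurd hab.symm hn2 }
  obtain ⟨F, hF, h1, h2⟩ := Cfsg.Agent.Lib.FpfPq.exists_fitting_height_two hgrp
    (MulDistribMulAction.toMulAut A G) (by rw [hA]; exact hcop.symm) fun x hx => hfpf x hx
  exact ⟨F, hF, h1, h2⟩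

end Cfsg.Agent.S4306
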