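import Cfsg.Statements.S4309

set_option autoImplicit false
open Cfsg

namespace Cfsg.Agent.S4309

/-- Let `π` be a set of primes, `G` a finite group with a Hall `π`-subgroup `H` (every prime divisor of the order of `H` lies in `π` and no prime of `π` divides its index), and `A` a normal subgroup of `G`. Then `H ∩ A` is a Hall `π`-subgroup of `A` and the image of `H` in `G/A` is a Hall `π`-subgroup of `G/A`. -/
theorem result {G : Type*} [Group G] [Finite G] (π : Set ℕ)
    (H A : Subgroup G) [A.Normal] (hH : Cfsg.IsPiHall π H) :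
    Cfsg.IsPiHall π ((H ⊓ A).subgroupOf A) ∧ Cfsg.IsPiHall π (H.map (QuotientGroup.mk' A)) := by
  haveI : A.Normal := inferInstance
  have hidx : ∀ q : ℕ, q.Prime → q ∈ π → ¬ q ∣ (H ⊔ A).index := fun q hq hqπ h =>
    hH.2 q hq hqπ (h.trans (Subgroup.index_dvd_of_le le_sup_left))
  refine ⟨⟨fun q hq hd => hH.1 q hq (hd.trans ?_), fun q hq hqπ hd => ?_⟩,
    ⟨fun q hq hd => hH.1 q hq (hd.trans ?_), fun q hq hqπ hd => ?_⟩⟩
  · rw [Nat.card_congr (Subgroup.subgroupOfEquivOfLe inf_le_right).toEquiv]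
    exact Subgroup.card_dvd_of_le inf_le_left
  · apply hH.2 q hq hqπ
    refine hd.trans ?_
    show (H ⊓ A).relIndex A ∣ H.index
    have t1 := Subgroup.relIndex_mul_relIndex (H ⊓ A) H (H ⊔ A) inf_le_left le_sup_left
    have t2 := Subgroup.relIndex_mul_relIndex (H ⊓ A) A (H ⊔ A) inf_le_right le_sup_right
    rw [Subgroup.inf_relIndex_left] at t1
    rw [Subgroup.relIndex_sup_right] at t2
    have hpos : A.relIndex H ≠ 0 := Subgroup.index_ne_zero_of_finite
    have h3 : H.relIndex (H ⊔ A) = (H ⊓ A).relIndex A :=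
      Nat.eq_of_mul_eq_mul_left (Nat.pos_of_ne_zero hpos) (by rw [t1, ← t2, mul_comm])
    rw [← h3, ← Subgroup.relIndex_mul_index (le_sup_left : H ≤ H ⊔ A)]
    exact dvd_mul_right _ _
  · exact Subgroup.card_map_dvd H (QuotientGroup.mk' A)
  · apply hH.2 q hq hqπ
    refine hd.trans ?_
    exact Subgroup.index_map_dvd H (QuotientGroup.mk'_surjective A)

end Cfsg.Agent.S4309
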