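import Cfsg.Statements.S4320

set_option autoImplicit false
open Cfsg

namespace Cfsg.Agent.S4320

open Finset
open scoped Classical

variable {G : Type*} [Group G]


/-- `G'/G''`, written additively. -/
abbrev B (G : Type*) [Group G] : Type _ := Additive (Abelianization (commutator G))

/-- A commutator subgroup element, as an element of `G'/G''`. -/
def br (a : commutator G) : B G := Additive.ofMul (Abelianization.of a)

theorem br_mul (a b : commutator G) : br (a * b) = br a + br b := by simp [br]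

theorem br_one : br (1 : commutator G) = 0 := by simp [br]

theorem quot_comm (x y : (G ⧸ commutator G)) : x * y = y * x := by
  induction x using QuotientGroup.induction_on with
  | _ x => induction y using QuotientGroup.induction_on with
    | _ y =>
      refine QuotientGroup.eq.2 ?_
      have e : (x * y)⁻¹ * (y * x) = y⁻¹ * x⁻¹ * y⁻¹⁻¹ * x⁻¹⁻¹ := by group
      rw [e, ← commutatorElement_def, commutator_def]
      exact Subgroup.commutator_mem_commutator (Subgroup.mem_top _) (Subgroup.mem_top _)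

noncomputable instance quotCommGroup : CommGroup (G ⧸ commutator G) :=
  { (inferInstance : Group (G ⧸ commutator G)) with mul_comm := quot_comm }

/-- Conjugation on `G'/G''`. -/
def cj (g : G) : B G →+ B G :=
  MonoidHom.toAdditive (Abelianization.map (MulAut.conjNormal g : MulAut (commutator G)).toMonoidHom)

theorem cj_br (g : G) (a : commutator G) :
    cj g (br a) = br ⟨g * a * g⁻¹, Subgroup.Normal.conj_mem inferInstance _ a.2 g⟩ := by
  simp only [cj, br, MonoidHom.toAdditive_apply_apply, toMul_ofMul, Abelianization.map_of]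
  congr 2

theorem br_surj (b : B G) : ∃ a, br a = b := by
  obtain ⟨a, ha⟩ := QuotientGroup.mk_surjective (Additive.toMul b)
  exact ⟨a, by rw [br]; exact congrArg Additive.ofMul ha⟩

/-- A section. -/
noncomputable def sec (q : (G ⧸ commutator G)) : G := by classical exact if q = 1 then 1 else q.out

theorem sec_mk (q : (G ⧸ commutator G)) : ((sec q : G) : (G ⧸ commutator G)) = q := by
  unfold sec
  split_ifs with h
  · rw [h]; rfl
  · exact Quotient.out_eq q

theorem sec_one : sec (1 : (G ⧸ commutator G)) = 1 := if_pos rfl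

/-- The cocycle. -/
noncomputable def coc (g : G) (q : (G ⧸ commutator G)) : B G :=
  br ⟨g * sec q * (sec ((g : (G ⧸ commutator G)) * q))⁻¹, by
    rw [← QuotientGroup.eq_one_iff, QuotientGroup.mk_mul, QuotientGroup.mk_mul, QuotientGroup.mk_inv,
      sec_mk, sec_mk, mul_inv_cancel]⟩

theorem coc_mul (g h : G) (q : (G ⧸ commutator G)) : coc (g * h) q = cj g (coc h q) + coc g ((h : (G ⧸ commutator G)) * q) := by
  unfold coc
  rw [cj_br, ← br_mul]
  congr 1
  apply Subtype.ext
  have e : ((g * h : G) : (G ⧸ commutator G)) * q = (g : (G ⧸ commutator G)) * ((h : (G ⧸ commutator G)) * q) := by rw [QuotientGroup.mk_mul, mul_assoc]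
  simp only [Subgroup.coe_mul, e]
  group

variable [Fintype (G ⧸ commutator G)]

/-- The action on `G'/G'' × ℤ[G/G']`. -/
noncomputable def act (g : G) : B G × ((G ⧸ commutator G) → ℤ) →+ B G × ((G ⧸ commutator G) → ℤ) where
  toFun x := (cj g x.1 + ∑ q, x.2 q • coc g q, fun z => x.2 ((g : (G ⧸ commutator G))⁻¹ * z))
  map_zero' := by ext <;> simp
  map_add' x y := by
    refine Prod.ext ?_ rfl
    simp only [Prod.fst_add, Prod.snd_add, Pi.add_apply, add_smul, Finset.sum_add_distrib, map_add]
    abel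

theorem act_mul (g h : G) (x : B G × ((G ⧸ commutator G) → ℤ)) : act (g * h) x = act g (act h x) := by
  refine Prod.ext ?_ (funext fun z => ?_)
  · show cj (g * h) x.1 + ∑ q, x.2 q • coc (g * h) q =
      cj g (cj h x.1 + ∑ q, x.2 q • coc h q) + ∑ z, x.2 ((h : (G ⧸ commutator G))⁻¹ * z) • coc g z
    have e1 : cj (g * h) x.1 = cj g (cj h x.1) := by
      obtain ⟨a, ha⟩ := br_surj x.1
      rw [← ha, cj_br, cj_br, cj_br]
      congr 1
      apply Subtype.ext
      simp only
      group
    rw [e1, map_add, map_sum, add_assoc, ← Equiv.sum_comp (Equiv.mulLeft (h : (G ⧸ commutator G)))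
      (fun z => x.2 ((h : (G ⧸ commutator G))⁻¹ * z) • coc g z), ← Finset.sum_add_distrib]
    congr 1
    refine Finset.sum_congr rfl fun q _ => ?_
    simp only [Equiv.coe_mulLeft, inv_mul_cancel_left, map_zsmul, coc_mul, smul_add]
  · show x.2 (((g * h : G) : (G ⧸ commutator G))⁻¹ * z) = x.2 ((h : (G ⧸ commutator G))⁻¹ * ((g : (G ⧸ commutator G))⁻¹ * z))
    rw [QuotientGroup.mk_mul, mul_inv_rev, mul_assoc]

theorem act_of_mem (a : G) (ha : a ∈ commutator G) (x : B G × ((G ⧸ commutator G) → ℤ)) (hx : ∑ q, x.2 q = 0) :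
    act a x = x := by
  have hq : (a : (G ⧸ commutator G)) = 1 := (QuotientGroup.eq_one_iff a).2 ha
  refine Prod.ext ?_ (funext fun z => ?_)
  · show cj a x.1 + ∑ q, x.2 q • coc a q = x.1
    have e1 : cj a x.1 = x.1 := by
      obtain ⟨b, hb⟩ := br_surj x.1
      rw [← hb, cj_br]
      have e : (⟨a * b * a⁻¹, Subgroup.Normal.conj_mem inferInstance _ b.2 a⟩ : commutator G) =
          ⟨a, ha⟩ * b * ⟨a, ha⟩⁻¹ := rfl
      rw [e]
      exact congrArg Additive.ofMul (by rw [map_mul, map_mul, map_inv, mul_inv_cancel_comm])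
    have e2 : ∀ q, coc a q = br ⟨a, ha⟩ := fun q => by
      unfold coc
      congr 1
      apply Subtype.ext
      show a * sec q * (sec ((a : (G ⧸ commutator G)) * q))⁻¹ = a
      rw [hq, one_mul, mul_inv_cancel_right]
    rw [e1, Finset.sum_congr rfl (fun q _ => by rw [e2 q]), ← Finset.sum_smul, hx, zero_smul, add_zero]
  · show x.2 ((a : (G ⧸ commutator G))⁻¹ * z) = x.2 z
    rw [hq, inv_one, one_mul]

/-- The module. -/
noncomputable def M (G : Type*) [Group G] [Fintype (G ⧸ commutator G)] :
    AddSubgroup (B G × ((G ⧸ commutator G) → ℤ)) where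
  carrier := {x | ∑ q, x.2 q = 0}
  zero_mem' := by simp
  add_mem' {x y} hx hy := by
    simp only [Set.mem_ofPred_eq, Prod.snd_add, Pi.add_apply, Finset.sum_add_distrib] at *
    rw [hx, hy, add_zero]
  neg_mem' {x} hx := by
    simp only [Set.mem_ofPred_eq, Prod.snd_neg, Pi.neg_apply, Finset.sum_neg_distrib] at *
    rw [hx, neg_zero]

theorem act_mem (g : G) {x : B G × ((G ⧸ commutator G) → ℤ)} (hx : x ∈ M G) : act g x ∈ M G := by
  show ∑ z, x.2 ((g : (G ⧸ commutator G))⁻¹ * z) = 0
  exact (Equiv.sum_comp (Equiv.mulLeft (g : (G ⧸ commutator G))⁻¹) x.2).trans hx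

/-- The action of `G/G'` on the module. -/
noncomputable def qact : (G ⧸ commutator G) →* AddMonoid.End (M G) where
  toFun q := AddMonoidHom.mk' (fun x => ⟨act (sec q) x, act_mem _ x.2⟩)
    (fun x y => Subtype.ext (map_add (act (sec q)) _ _))
  map_one' := by
    ext x : 1
    apply Subtype.ext
    show act (sec 1) (x : B G × ((G ⧸ commutator G) → ℤ)) = x
    rw [sec_one]
    exact act_of_mem 1 (one_mem _) _ x.2
  map_mul' q r := by
    ext x : 1
    apply Subtype.ext
    show act (sec (q * r)) (x : B G × ((G ⧸ commutator G) → ℤ)) = act (sec q) (act (sec r) x)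
    have hm : sec q * sec r * (sec (q * r))⁻¹ ∈ commutator G := by
      rw [← QuotientGroup.eq_one_iff, QuotientGroup.mk_mul, QuotientGroup.mk_mul, QuotientGroup.mk_inv,
        sec_mk, sec_mk, sec_mk, mul_inv_cancel]
    have e : sec q * sec r = (sec q * sec r * (sec (q * r))⁻¹) * sec (q * r) := by group
    rw [← act_mul, e, act_mul, act_of_mem _ hm _ (act_mem _ x.2)]

/-- The group ring action. -/
noncomputable def ract : MonoidAlgebra ℤ (G ⧸ commutator G) →ₐ[ℤ] AddMonoid.End (M G) :=
  MonoidAlgebra.lift ℤ (AddMonoid.End (M G)) (G ⧸ commutator G) qact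

/-- The augmentation. -/
noncomputable def aug : MonoidAlgebra ℤ (G ⧸ commutator G) →ₐ[ℤ] ℤ := MonoidAlgebra.lift ℤ ℤ (G ⧸ commutator G) 1

/-- The derivation. -/
noncomputable def der (g : G) : M G :=
  ⟨act g (0, Pi.single 1 1) - (0, Pi.single 1 1), by
    show ∑ q, ((act g (0, Pi.single (1 : (G ⧸ commutator G)) 1)).2 q - (Pi.single (1 : (G ⧸ commutator G)) (1 : ℤ) : (G ⧸ commutator G) → ℤ) q) = 0
    rw [Finset.sum_sub_distrib]
    show (∑ z, (Pi.single (1 : (G ⧸ commutator G)) (1 : ℤ) : (G ⧸ commutator G) → ℤ) ((g : (G ⧸ commutator G))⁻¹ * z)) - _ = 0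
    exact sub_eq_zero.2 (Equiv.sum_comp (Equiv.mulLeft (g : (G ⧸ commutator G))⁻¹) _)⟩

theorem der_mul (g h : G) : der (g * h) = qact (g : (G ⧸ commutator G)) (der h) + der g := by
  apply Subtype.ext
  show act (g * h) (0, Pi.single 1 1) - (0, Pi.single 1 1) =
    act (sec (g : (G ⧸ commutator G))) (der h : B G × ((G ⧸ commutator G) → ℤ)) + (act g (0, Pi.single 1 1) - (0, Pi.single 1 1))
  have hm : g * (sec (g : (G ⧸ commutator G)))⁻¹ ∈ commutator G := by
    rw [← QuotientGroup.eq_one_iff, QuotientGroup.mk_mul, QuotientGroup.mk_inv, sec_mk, mul_inv_cancel]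
  have h1 : act g (der h : B G × ((G ⧸ commutator G) → ℤ)) = act (sec (g : (G ⧸ commutator G))) (der h : B G × ((G ⧸ commutator G) → ℤ)) := by
    conv_lhs => rw [show g = (g * (sec (g : (G ⧸ commutator G)))⁻¹) * sec (g : (G ⧸ commutator G)) by group]
    rw [act_mul, act_of_mem _ hm _ (act_mem _ (der h).2)]
  rw [← h1, act_mul]
  show _ = act g (act h (0, Pi.single 1 1) - (0, Pi.single 1 1)) + _
  rw [map_sub]
  abel

theorem der_one : der (1 : G) = 0 := by
  have h := der_mul (1 : G) 1
  rw [mul_one] at h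
  have e : qact ((1 : G) : (G ⧸ commutator G)) (der (1 : G)) = der (1 : G) := by
    rw [QuotientGroup.mk_one, map_one]; rfl
  rw [e] at h
  exact left_eq_add.1 h

/-- The sum of the scaled derivation values. -/
noncomputable def lin (r : G → MonoidAlgebra ℤ (G ⧸ commutator G)) [Fintype G] : M G := ∑ j, ract (r j) (der j)

variable [Fintype G]

/-- `g` is expressed by a group ring vector with augmentation `v`. -/
def Expr (g : G) (v : G → ℤ) : Prop :=
  ∃ r : G → MonoidAlgebra ℤ (G ⧸ commutator G), der g = lin r ∧ ∀ j, aug (r j) = v j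

theorem expr_self (g : G) : Expr g (Pi.single g 1) := by
  refine ⟨Pi.single g 1, ?_, fun j => ?_⟩
  · rw [lin, Finset.sum_eq_single g (fun j _ hj => by rw [Pi.single_eq_of_ne hj, map_zero]; rfl)
      (fun h => absurd (Finset.mem_univ g) h), Pi.single_eq_same, map_one]
    rfl
  · rcases eq_or_ne j g with rfl | hj
    · rw [Pi.single_eq_same, Pi.single_eq_same, map_one]
    · rw [Pi.single_eq_of_ne hj, Pi.single_eq_of_ne hj, map_zero]

theorem expr_mul {g h : G} {v w : G → ℤ} (hg : Expr g v) (hh : Expr h w) : Expr (g * h) (v + w) := by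
  obtain ⟨r, hr, hv⟩ := hg
  obtain ⟨s, hs, hw⟩ := hh
  refine ⟨fun j => MonoidAlgebra.of ℤ (G ⧸ commutator G) (g : (G ⧸ commutator G)) * s j + r j, ?_, fun j => ?_⟩
  · rw [der_mul, hs, hr, lin, lin, lin, map_sum, ← Finset.sum_add_distrib]
    refine Finset.sum_congr rfl fun j _ => ?_
    rw [map_add, map_mul]
    show _ = ract (MonoidAlgebra.of ℤ (G ⧸ commutator G) (g : (G ⧸ commutator G))) (ract (s j) (der j)) + ract (r j) (der j)
    rw [ract, MonoidAlgebra.lift_of]
  · rw [map_add, map_mul, hw, hv, aug, MonoidAlgebra.lift_of, MonoidHom.one_apply, one_mul, add_comm]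
    rfl

theorem expr_one : Expr (1 : G) 0 :=
  ⟨0, by simp [lin, der_one], fun j => by simp⟩

theorem expr_inv {g : G} {v : G → ℤ} (hg : Expr g v) : Expr g⁻¹ (-v) := by
  obtain ⟨r, hr, hv⟩ := hg
  refine ⟨fun j => -(MonoidAlgebra.of ℤ (G ⧸ commutator G) (g⁻¹ : (G ⧸ commutator G))) * r j, ?_, fun j => ?_⟩
  · have h := der_mul g⁻¹ g
    rw [inv_mul_cancel, der_one, QuotientGroup.mk_inv] at h
    rw [eq_neg_of_add_eq_zero_right h.symm, hr, lin, lin, map_sum, ← Finset.sum_neg_distrib]
    refine Finset.sum_congr rfl fun j _ => ?_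
    rw [neg_mul, map_neg, map_mul]
    show _ = -(ract (MonoidAlgebra.of ℤ (G ⧸ commutator G) (g⁻¹ : (G ⧸ commutator G))) (ract (r j) (der j)))
    rw [ract, MonoidAlgebra.lift_of]
  · rw [map_mul, map_neg, hv, aug, MonoidAlgebra.lift_of, MonoidHom.one_apply, neg_one_mul, Pi.neg_apply]

theorem expr_commutator (a : G) (ha : a ∈ commutator G) : Expr a 0 := by
  rw [commutator_eq_closure] at ha
  induction ha using Subgroup.closure_induction with
  | mem x hx =>
    obtain ⟨u, v, rfl⟩ := hx
    have := expr_mul (expr_mul (expr_mul (expr_self u) (expr_self v)) (expr_inv (expr_self u)))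
      (expr_inv (expr_self v))
    rw [commutatorElement_def]
    convert this using 1
    abel
  | one => exact expr_one
  | mul x y _ _ hx hy => simpa using expr_mul hx hy
  | inv x _ hx => simpa using expr_inv hx

/-- The relation lattice map. -/
noncomputable def psi : (G → ℤ) →+ Additive (G ⧸ commutator G) where
  toFun v := ∑ g, v g • Additive.ofMul (g : (G ⧸ commutator G))
  map_zero' := by simp
  map_add' v w := by simp [add_smul, Finset.sum_add_distrib]

theorem psi_single (g : G) : psi (Pi.single g 1) = Additive.ofMul (g : (G ⧸ commutator G)) := by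
  show ∑ j, (Pi.single g 1 : G → ℤ) j • Additive.ofMul (j : (G ⧸ commutator G)) = _
  rw [Finset.sum_eq_single g (fun j _ hj => by rw [Pi.single_eq_of_ne hj, zero_smul])
    (fun h => absurd (Finset.mem_univ g) h), Pi.single_eq_same, one_smul]

theorem exists_expr (v : G → ℤ) : ∃ g : G, Expr g v ∧ Additive.ofMul (g : (G ⧸ commutator G)) = psi v := by
  let S : AddSubgroup (G → ℤ) :=
    { carrier := {v | ∃ g : G, Expr g v ∧ Additive.ofMul (g : (G ⧸ commutator G)) = psi v}
      zero_mem' := ⟨1, expr_one, by simp⟩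
      add_mem' := fun {v w} ⟨g, hg, hg'⟩ ⟨h, hh, hh'⟩ =>
        ⟨g * h, expr_mul hg hh, by rw [map_add, ← hg', ← hh', QuotientGroup.mk_mul, ofMul_mul]⟩
      neg_mem' := fun {v} ⟨g, hg, hg'⟩ =>
        ⟨g⁻¹, expr_inv hg, by rw [map_neg, ← hg', QuotientGroup.mk_inv, ofMul_inv]⟩ }
  have key : ∀ g, Pi.single g (1 : ℤ) ∈ S := fun g => ⟨g, expr_self g, (psi_single g).symm⟩
  have hv : v = ∑ g, v g • Pi.single g (1 : ℤ) := by
    funext j
    simp [Finset.sum_apply, Pi.single_apply]
  show v ∈ S
  rw [hv]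
  exact S.sum_mem fun g _ => S.zsmul_mem (key g) _

theorem exists_syzygy {v : G → ℤ} (hv : psi v = 0) :
    ∃ r : G → MonoidAlgebra ℤ (G ⧸ commutator G), lin r = 0 ∧ ∀ j, aug (r j) = v j := by
  obtain ⟨g, ⟨r, hr, hrv⟩, hg⟩ := exists_expr v
  rw [hv] at hg
  have hgA : g ∈ commutator G := (QuotientGroup.eq_one_iff g).1 hg
  obtain ⟨s, hs, hsv⟩ := expr_commutator g hgA
  refine ⟨r - s, ?_, fun j => by rw [Pi.sub_apply, map_sub, hrv, hsv, Pi.zero_apply, sub_zero]⟩
  have : lin (r - s) = lin r - lin s := by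
    rw [lin, lin, lin, ← Finset.sum_sub_distrib]
    exact Finset.sum_congr rfl fun j _ => by rw [Pi.sub_apply, map_sub]; rfl
  rw [this, ← hr, ← hs, sub_self]

theorem exists_det : ∃ Δ : MonoidAlgebra ℤ (G ⧸ commutator G),
    (∀ g : G, ract Δ (der g) = 0) ∧ (aug Δ).natAbs = Fintype.card (G ⧸ commutator G) := by
  have hsurj : Function.Surjective (psi : (G → ℤ) → Additive (G ⧸ commutator G)) := fun x => by
    obtain ⟨g, hg⟩ := QuotientGroup.mk_surjective (Additive.toMul x)
    exact ⟨Pi.single g 1, by rw [psi_single, hg, ofMul_toMul]⟩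
  set L := (psi : (G → ℤ) →+ Additive (G ⧸ commutator G)).ker
  have hidx : L.index = Fintype.card (G ⧸ commutator G) := by
    rw [AddSubgroup.index_ker, AddMonoidHom.range_eq_top.2 hsurj,
      Nat.card_congr AddSubgroup.topEquiv.toEquiv, Nat.card_congr Additive.toMul, Nat.card_eq_fintype_card]
  let b := Pi.basisFun ℤ G
  haveI : Finite ((G → ℤ) ⧸ L) := Nat.finite_of_card_ne_zero (by
    show L.index ≠ 0
    rw [hidx]; exact Fintype.card_ne_zero)
  obtain ⟨bL⟩ : Nonempty (Module.Basis G ℤ L) := by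
    obtain ⟨n, bn⟩ := Submodule.basisOfPid b L.toIntSubmodule
    have hn : n = Fintype.card G := by
      have h1 : Module.finrank ℤ L.toIntSubmodule = n := by
        rw [Module.finrank_eq_card_basis bn, Fintype.card_fin]
      have h2 : Module.finrank ℤ ((G → ℤ) ⧸ L.toIntSubmodule) +
          Module.finrank ℤ L.toIntSubmodule = Fintype.card G := by
        rw [Submodule.finrank_quotient_add_finrank, Module.finrank_pi]
      have h3 : Module.finrank ℤ ((G → ℤ) ⧸ L.toIntSubmodule) = 0 := by
        haveI : Finite ((G → ℤ) ⧸ L.toIntSubmodule) := ‹Finite ((G → ℤ) ⧸ L)›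
        exact Module.finrank_eq_zero_iff.2 fun x =>
          ⟨(Nat.card ((G → ℤ) ⧸ L.toIntSubmodule) : ℤ), Int.natCast_ne_zero.2 Nat.card_pos.ne', by
            rw [natCast_zsmul]; exact card_nsmul_eq_zero'⟩
      omega
    exact ⟨bn.reindex (Fintype.equivFinOfCardEq hn.symm).symm⟩
  have hdet := AddSubgroup.index_eq_natAbs_det b L bL
  choose r hr hra using fun i : G => exists_syzygy (v := (bL i : G → ℤ)) (bL i).2
  let m : Matrix G G (MonoidAlgebra ℤ (G ⧸ commutator G)) := Matrix.of fun i j => r i j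
  refine ⟨m.det, fun g => ?_, ?_⟩
  · have h1 := congrArg (fun A : Matrix G G (MonoidAlgebra ℤ (G ⧸ commutator G)) => lin (A g)) (Matrix.adjugate_mul m)
    have h2 : lin ((m.adjugate * m) g) = 0 := by
      have : lin ((m.adjugate * m) g) = ∑ k, ract (m.adjugate g k) (lin (r k)) := by
        simp only [lin, Matrix.mul_apply, map_sum]
        rw [Finset.sum_comm]
        refine Finset.sum_congr rfl fun j _ => ?_
        show (∑ k, ract (m.adjugate g k * m k j)) (der j) = _
        refine (AddMonoidHom.finsetSum_apply _ _ _).trans (Finset.sum_congr rfl fun k _ => ?_)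
        rw [map_mul]
        rfl
      rw [this]
      simp [hr]
    have h3 : lin ((m.det • (1 : Matrix G G (MonoidAlgebra ℤ (G ⧸ commutator G)))) g) = ract m.det (der g) := by
      rw [lin, Finset.sum_eq_single g (fun j _ hj => by
        rw [Matrix.smul_apply, Matrix.one_apply_ne (Ne.symm hj), smul_zero, map_zero]; rfl)
        (fun h => absurd (Finset.mem_univ g) h), Matrix.smul_apply, Matrix.one_apply_eq, smul_eq_mul, mul_one]
    rw [← h3]
    exact h1.symm.trans h2
  · rw [← hidx, hdet, AlgHom.map_det, Module.Basis.det_apply]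
    have : (aug : MonoidAlgebra ℤ (G ⧸ commutator G) →ₐ[ℤ] ℤ).mapMatrix m = (b.toMatrix fun i => (bL i : G → ℤ)).transpose := by
      ext i j
      simp [m, b, Module.Basis.toMatrix_apply, hra]
    rw [this, Matrix.det_transpose]

omit [Fintype G] in
theorem ract_apply (f : MonoidAlgebra ℤ (G ⧸ commutator G)) (x : M G) :
    (ract f x : B G × ((G ⧸ commutator G) → ℤ)) = ∑ q, f.coeff q • act (sec q) (x : B G × ((G ⧸ commutator G) → ℤ)) := by
  rw [ract, MonoidAlgebra.lift_apply, Finsupp.sum_fintype _ _ (fun q => by simp)]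
  refine (congrArg Subtype.val (AddMonoidHom.finsetSum_apply _ _ _)).trans ?_
  rw [AddSubgroup.val_finsetSum]
  exact Finset.sum_congr rfl fun q _ => rfl


/-- The Principal Ideal Theorem of class field theory in its group-theoretic form: for every finite group `G`, the transfer homomorphism from `G` into the abelianization `G'/G''` of its derived subgroup `G'` is the trivial homomorphism. -/
theorem result {G : Type*} [Group G] [Finite G] :
    MonoidHom.transfer (Abelianization.of : ↥(commutator G) →* Abelianization ↥(commutator G)) =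
      (1 : G →* Abelianization ↥(commutator G)) := by
  classical
  haveI := Fintype.ofFinite G
  letI := (commutator G).fintypeQuotientOfFiniteIndex
  obtain ⟨Δ, hΔ, haug⟩ := exists_det (G := G)
  have hsnd : ∀ (f : MonoidAlgebra ℤ (G ⧸ commutator G)) (g : G) (z : G ⧸ commutator G),
      (ract f (der g) : B G × ((G ⧸ commutator G) → ℤ)).2 z =
        f.coeff ((g : G ⧸ commutator G)⁻¹ * z) - f.coeff z := by
    intro f g z
    rw [ract_apply, Prod.snd_sum, Finset.sum_apply]
    have e : ∀ q, (f.coeff q • act (sec q) (der g : B G × ((G ⧸ commutator G) → ℤ))).2 z =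
        (if q = (g : G ⧸ commutator G)⁻¹ * z then f.coeff q else 0) - (if q = z then f.coeff q else 0) := by
      intro q
      show f.coeff q • ((Pi.single 1 1 : (G ⧸ commutator G) → ℤ) ((g : G ⧸ commutator G)⁻¹ * (((sec q : G) : G ⧸ commutator G)⁻¹ * z))
        - (Pi.single 1 1 : (G ⧸ commutator G) → ℤ) (((sec q : G) : G ⧸ commutator G)⁻¹ * z)) = _
      have e1 : (g : G ⧸ commutator G)⁻¹ * (q⁻¹ * z) = 1 ↔ q = (g : G ⧸ commutator G)⁻¹ * z := by
        rw [mul_left_comm, inv_mul_eq_one]
      have e2 : q⁻¹ * z = 1 ↔ q = z := inv_mul_eq_one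
      rw [sec_mk, Pi.single_apply, Pi.single_apply, if_congr e1 rfl rfl, if_congr e2 rfl rfl, smul_sub]
      simp
    rw [Finset.sum_congr rfl (fun q _ => e q), Finset.sum_sub_distrib, Finset.sum_ite_eq',
      Finset.sum_ite_eq', if_pos (Finset.mem_univ _), if_pos (Finset.mem_univ _)]
  have hconst : ∀ z, Δ.coeff z = Δ.coeff 1 := by
    intro z
    obtain ⟨g, rfl⟩ := QuotientGroup.mk_surjective z
    have h := hsnd Δ g g
    rw [hΔ g, inv_mul_cancel] at h
    exact (sub_eq_zero.1 h.symm).symm
  have hc : Δ.coeff 1 = 1 ∨ Δ.coeff 1 = -1 := by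
    have e : aug Δ = (Fintype.card (G ⧸ commutator G) : ℤ) * Δ.coeff 1 := by
      rw [aug, MonoidAlgebra.lift_apply, Finsupp.sum_fintype _ _ (fun q => by simp)]
      simp [hconst]
    rw [e, Int.natAbs_mul, Int.natAbs_natCast] at haug
    have := Nat.eq_of_mul_eq_mul_left Fintype.card_pos (haug.trans (mul_one _).symm)
    rcases Int.natAbs_eq (Δ.coeff 1) with h | h <;> rw [h, this] <;> simp
  refine MonoidHom.ext fun g => ?_
  have hN : ∑ q, act (sec q) (der g : B G × ((G ⧸ commutator G) → ℤ)) = 0 := by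
    have h := congrArg Subtype.val (hΔ g)
    rw [ract_apply, Finset.sum_congr rfl (fun q _ => by rw [hconst q]), ← Finset.smul_sum] at h
    rcases hc with hc | hc <;> rw [hc] at h
    · simpa using h
    · simpa using h
  have h1 : ∑ q : G ⧸ commutator G, br (⟨sec q * g * (sec (q * (g : G ⧸ commutator G)))⁻¹, by
      rw [← QuotientGroup.eq_one_iff, QuotientGroup.mk_mul, QuotientGroup.mk_mul, QuotientGroup.mk_inv,
        sec_mk, sec_mk, mul_inv_cancel]⟩ : commutator G) = 0 := by
    have h := congrArg Prod.fst hN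
    rw [Prod.fst_sum] at h
    refine Eq.trans (Finset.sum_congr rfl fun q _ => ?_) h
    have e : act (sec q) (der g : B G × ((G ⧸ commutator G) → ℤ)) =
        act (sec q * g) (0, Pi.single 1 1) - act (sec q) (0, Pi.single 1 1) := by
      rw [act_mul]; exact map_sub (act (sec q)) _ _
    have ev : ∀ h : G, (act h (0, Pi.single (1 : G ⧸ commutator G) 1)).1 = coc h 1 := by
      intro h
      show cj h 0 + ∑ x, (Pi.single (1 : G ⧸ commutator G) (1 : ℤ) : _ → ℤ) x • coc h x = coc h 1
      rw [map_zero, zero_add, Finset.sum_eq_single (1 : G ⧸ commutator G)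
        (fun j _ hj => by rw [Pi.single_eq_of_ne hj, zero_smul])
        (fun h => absurd (Finset.mem_univ _) h), Pi.single_eq_same, one_smul]
    rw [e, Prod.fst_sub, ev, ev]
    have z : coc (sec q) 1 = 0 := by
      rw [coc, ← br_one]
      congr 1
      apply Subtype.ext
      show sec q * sec 1 * (sec (((sec q : G) : G ⧸ commutator G) * 1))⁻¹ = 1
      rw [sec_one, mul_one, mul_one, sec_mk, mul_inv_cancel]
    rw [z, sub_zero, coc]
    congr 1
    apply Subtype.ext
    show sec q * g * (sec (q * (g : G ⧸ commutator G)))⁻¹ =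
      sec q * g * sec 1 * (sec (((sec q * g : G) : G ⧸ commutator G) * 1))⁻¹
    rw [sec_one, mul_one, mul_one, QuotientGroup.mk_mul, sec_mk]
  let f : G ⧸ commutator G → G := fun q => (sec q⁻¹)⁻¹
  have hf : ∀ q, (f q : G ⧸ commutator G) = q := fun q => by
    show (((sec q⁻¹)⁻¹ : G) : G ⧸ commutator G) = q
    rw [QuotientGroup.mk_inv, sec_mk, inv_inv]
  let T : (commutator G).LeftTransversal := ⟨Set.range f, Subgroup.isComplement_range_left hf⟩
  have hT : ∀ q, (T.2.leftQuotientEquiv q : G) = f q := fun q => Subgroup.IsComplement.leftQuotientEquiv_apply hf q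
  have h2 := congrArg Additive.toMul h1
  rw [toMul_sum, toMul_zero] at h2
  rw [MonoidHom.transfer_def (T := T), MonoidHom.one_apply]
  refine Eq.trans ?_ h2
  unfold Subgroup.leftTransversals.diff
  refine Finset.prod_bij' (fun q _ => q⁻¹) (fun q _ => q⁻¹) (fun _ _ => Finset.mem_univ _)
    (fun _ _ => Finset.mem_univ _) (fun q _ => inv_inv q) (fun q _ => inv_inv q) fun q _ => ?_
  simp only [br, toMul_ofMul]
  congr 1
  apply Subtype.ext
  have e : (g⁻¹ • q : G ⧸ commutator G)⁻¹ = q⁻¹ * (g : G ⧸ commutator G) := by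
    induction q using QuotientGroup.induction_on with
    | _ x => rw [MulAction.Quotient.smul_mk, smul_eq_mul, QuotientGroup.mk_mul, QuotientGroup.mk_inv,
        mul_inv_rev, inv_inv]
  have e2 : ((g • T).2.leftQuotientEquiv q : G) = g * (f (g⁻¹ • q)) := by
    rw [Subgroup.smul_apply_eq_smul_apply_inv_smul, smul_eq_mul, hT]
  simp only [hT, e2, f, inv_inv, e, mul_assoc]

end Cfsg.Agent.S4320
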