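import Cfsg.Statements.S4321
import Cfsg.Agent.Lib.SingularGraph.Main

set_option autoImplicit false
open Cfsg

namespace Cfsg.Agent.S4321

/-- Let `G` be a finite group and `p` a prime not dividing the order of the centre of `G`. Consider the primes dividing the size of some conjugacy class of a `p`-singular element (an element of order divisible by `p`), two of them adjacent when their product divides such a class size. Then any two distinct such primes are joined by a path with at most 3 edges (the graph is connected of diameter at most 3). -/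
theorem result {G : Type*} [Group G] [Finite G] (p : ℕ) [Fact p.Prime]
    (hZ : ¬ p ∣ Nat.card ↥(Subgroup.center G)) (r s : ℕ) (hr : (r.Prime ∧ ∃ x : G, p ∣ orderOf x ∧ r ∣ (Subgroup.centralizer ({x} : Set G)).index)) (hs : (s.Prime ∧ ∃ x : G, p ∣ orderOf x ∧ s ∣ (Subgroup.centralizer ({x} : Set G)).index)) (hrs : r ≠ s) :
    (∃ x : G, p ∣ orderOf x ∧ r * s ∣ (Subgroup.centralizer ({x} : Set G)).index) ∨ (∃ t : ℕ, (t.Prime ∧ ∃ x : G, p ∣ orderOf x ∧ t ∣ (Subgroup.centralizer ({x} : Set G)).index) ∧ t ≠ r ∧ t ≠ s ∧ (∃ x : G, p ∣ orderOf x ∧ r * t ∣ (Subgroup.centralizer ({x} : Set G)).index) ∧ (∃ x : G, p ∣ orderOf x ∧ t * s ∣ (Subgroup.centralizer ({x} : Set G)).index)) ∨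
      (∃ t u : ℕ, (t.Prime ∧ ∃ x : G, p ∣ orderOf x ∧ t ∣ (Subgroup.centralizer ({x} : Set G)).index) ∧ (u.Prime ∧ ∃ x : G, p ∣ orderOf x ∧ u ∣ (Subgroup.centralizer ({x} : Set G)).index) ∧ t ≠ r ∧ u ≠ s ∧ t ≠ u ∧ (∃ x : G, p ∣ orderOf x ∧ r * t ∣ (Subgroup.centralizer ({x} : Set G)).index) ∧ (∃ x : G, p ∣ orderOf x ∧ t * u ∣ (Subgroup.centralizer ({x} : Set G)).index) ∧ (∃ x : G, p ∣ orderOf x ∧ u * s ∣ (Subgroup.centralizer ({x} : Set G)).index)) := by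
  obtain ⟨hrp, x, hx, hrx⟩ := hr
  obtain ⟨hsp, y, hy, hsy⟩ := hs
  have hp : p.Prime := Fact.out
  have hpow : ∀ g : G, p ∣ orderOf g → ∃ u : G, orderOf u = p ∧
      Cfsg.Agent.Lib.SingularGraph.csz u ≠ 1 ∧
      Cfsg.Agent.Lib.SingularGraph.csz u ∣ (Subgroup.centralizer ({g} : Set G)).index := by
    intro g hg
    obtain ⟨c, hc⟩ := hg
    have hc0 : c ≠ 0 := fun h => by
      have := orderOf_pos g
      rw [h, mul_zero] at hc
      omega
    have hu : orderOf (g ^ c) = p := by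
      rw [orderOf_pow_of_dvd hc0 ⟨p, by rw [hc, mul_comm]⟩, hc,
        Nat.mul_div_cancel _ (Nat.pos_of_ne_zero hc0)]
    refine ⟨g ^ c, hu, fun h => hZ ?_, Cfsg.Agent.Lib.SingularGraph.csz_pow_dvd g c⟩
    rw [Cfsg.Agent.Lib.SingularGraph.csz, Subgroup.index_eq_one] at h
    have hmem : g ^ c ∈ Subgroup.center G := Subgroup.mem_center_iff.2 fun a =>
      Subgroup.mem_centralizer_singleton_iff.1 (h.symm ▸ Subgroup.mem_top a)
    have := orderOf_dvd_natCard (⟨g ^ c, hmem⟩ : Subgroup.center G)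
    rwa [Subgroup.orderOf_mk, hu] at this
  obtain ⟨u, hu, hu1, hux⟩ := hpow x hx
  obtain ⟨v, hv, hv1, hvy⟩ := hpow y hy
  have hmul : ∀ {m a b : ℕ}, a.Prime → b.Prime → a ≠ b → a ∣ m → b ∣ m → a * b ∣ m :=
    fun ha hb hab h1 h2 => ((Nat.coprime_primes ha hb).2 hab).mul_dvd_of_dvd_of_dvd h1 h2
  by_cases hcop : (Cfsg.Agent.Lib.SingularGraph.csz u).Coprime (Cfsg.Agent.Lib.SingularGraph.csz v)
  swap
  · obtain ⟨t, ht, htu, htv⟩ := Nat.Prime.not_coprime_iff_dvd.1 hcop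
    by_cases htr : t = r
    · exact Or.inl ⟨y, hy, hmul hrp hsp hrs (htr ▸ htv.trans hvy) hsy⟩
    by_cases hts : t = s
    · exact Or.inl ⟨x, hx, hmul hrp hsp hrs hrx (hts ▸ htu.trans hux)⟩
    exact Or.inr (Or.inl ⟨t, ⟨ht, x, hx, htu.trans hux⟩, htr, hts,
      ⟨x, hx, hmul hrp ht (Ne.symm htr) hrx (htu.trans hux)⟩,
      ⟨y, hy, hmul ht hsp hts (htv.trans hvy) hsy⟩⟩)
  · obtain ⟨w, hw, hwu, hwv⟩ : ∃ w : G, p ∣ orderOf w ∧
        ¬ (Cfsg.Agent.Lib.SingularGraph.csz w).Coprime (Cfsg.Agent.Lib.SingularGraph.csz u) ∧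
        ¬ (Cfsg.Agent.Lib.SingularGraph.csz w).Coprime (Cfsg.Agent.Lib.SingularGraph.csz v) := by
      by_cases hpv : p ∣ Cfsg.Agent.Lib.SingularGraph.csz v
      · obtain ⟨w, hw, h1, h2⟩ := Cfsg.Agent.Lib.SingularGraph.exists_singular_meeting hv hu hv1 hu1
          hcop.symm fun h => hp.not_dvd_one (hcop.gcd_eq_one ▸ Nat.dvd_gcd h hpv)
        exact ⟨w, hw, h2, h1⟩
      · exact Cfsg.Agent.Lib.SingularGraph.exists_singular_meeting hu hv hu1 hv1 hcop hpv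
    obtain ⟨t, ht, htw, htu⟩ := Nat.Prime.not_coprime_iff_dvd.1 hwu
    obtain ⟨t', ht', ht'w, ht'v⟩ := Nat.Prime.not_coprime_iff_dvd.1 hwv
    have htt' : t ≠ t' := fun h =>
      ht.not_dvd_one (hcop.gcd_eq_one ▸ Nat.dvd_gcd htu (h ▸ ht'v))
    by_cases hts : t = s
    · exact Or.inl ⟨x, hx, hmul hrp hsp hrs hrx (hts ▸ htu.trans hux)⟩
    by_cases ht'r : t' = r
    · exact Or.inl ⟨y, hy, hmul hrp hsp hrs (ht'r ▸ ht'v.trans hvy) hsy⟩
    by_cases htr : t = r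
    · subst htr
      by_cases ht's : t' = s
      · exact Or.inl ⟨w, hw, ht's ▸ hmul ht ht' htt' htw ht'w⟩
      exact Or.inr (Or.inl ⟨t', ⟨ht', y, hy, ht'v.trans hvy⟩, ht'r, ht's,
        ⟨w, hw, hmul ht ht' htt' htw ht'w⟩, ⟨y, hy, hmul ht' hsp ht's (ht'v.trans hvy) hsy⟩⟩)
    by_cases ht's : t' = s
    · exact Or.inr (Or.inl ⟨t, ⟨ht, x, hx, htu.trans hux⟩, htr, hts,
        ⟨x, hx, hmul hrp ht (Ne.symm htr) hrx (htu.trans hux)⟩,
        ⟨w, hw, hmul ht hsp hts htw (ht's ▸ ht'w)⟩⟩)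
    exact Or.inr (Or.inr ⟨t, t', ⟨ht, x, hx, htu.trans hux⟩, ⟨ht', y, hy, ht'v.trans hvy⟩, htr, ht's,
      htt', ⟨x, hx, hmul hrp ht (Ne.symm htr) hrx (htu.trans hux)⟩,
      ⟨w, hw, hmul ht ht' htt' htw ht'w⟩, ⟨y, hy, hmul ht' hsp ht's (ht'v.trans hvy) hsy⟩⟩)

end Cfsg.Agent.S4321
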