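import Cfsg.Statements.S4330
import Cfsg.Agent.Lib.Core.PiCore
import Cfsg.Agent.Lib.PSolvable.Core
import Cfsg.Agent.Lib.ClassFixed58.Basic

set_option autoImplicit false
open Pointwise
open Cfsg

namespace Cfsg.Agent.S4330

universe w

/-- In a solvable group, for odd `p`: an element that generates a `p`-subgroup together with some
conjugate of it by a member of every class lies in `O_p(G)`. -/
theorem mem_pCore_of_forall_class (p : ℕ) [hp : Fact p.Prime] (hp2 : p ≠ 2) :
    ∀ (n : ℕ) (G : Type w) [Group G] [Finite G], Nat.card G ≤ n → Group.IsSolvable G → ∀ t : G,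
      (∀ c : G, ∃ g : G, IsConj c g ∧ IsPGroup p (Subgroup.closure ({t, g * t * g⁻¹} : Set G))) →
      t ∈ pCore p G := by
  intro n
  induction n with
  | zero => intro G _ _ h; exact absurd h (Nat.not_le.mpr Nat.card_pos)
  | succ n ih =>
    intro G _ _ hn hG t ht
    have hquot : ∀ (N : Subgroup G) [N.Normal], N ≠ ⊥ → (t : G ⧸ N) ∈ pCore p (G ⧸ N) := by
      intro N _ hN
      have hlt : Nat.card (G ⧸ N) ≤ n := by
        have h1 : 1 < Nat.card N := Subgroup.one_lt_card_iff_ne_bot N |>.mpr hN
        have h2 := N.card_eq_card_quotient_mul_card_subgroup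
        have h3 : Nat.card (G ⧸ N) * 2 ≤ Nat.card (G ⧸ N) * Nat.card N :=
          Nat.mul_le_mul_left _ h1
        have h4 : 0 < Nat.card (G ⧸ N) := Nat.card_pos
        omega
      refine ih (G ⧸ N) hlt inferInstance _ fun c => ?_
      induction c using QuotientGroup.induction_on with
      | H c =>
        obtain ⟨g, hcg, hg⟩ := ht c
        refine ⟨(g : G ⧸ N), (QuotientGroup.mk' N).map_isConj hcg, ?_⟩
        have h1 := hg.map (QuotientGroup.mk' N)
        rwa [MonoidHom.map_closure, Set.image_pair] at h1
    by_cases hcore : pCore p G = ⊥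
    swap
    · have h1 := hquot _ hcore
      rw [Lib.PSolvable.pCore_quotient_eq_bot, Subgroup.mem_bot, QuotientGroup.eq_one_iff] at h1
      exact h1
    rcases subsingleton_or_nontrivial G with hs | hnt
    · rw [Subsingleton.elim t 1]; exact one_mem _
    -- a nontrivial abelian normal subgroup
    obtain ⟨m, hm⟩ := hG.solvable
    classical
    have hex : ∃ m, derivedSeries G m = ⊥ := ⟨m, hm⟩
    obtain ⟨j, hj⟩ : ∃ j, Nat.find hex = j + 1 := by
      refine ⟨Nat.find hex - 1, ?_⟩
      rcases Nat.eq_zero_or_pos (Nat.find hex) with h | h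
      · have h0 := Nat.find_spec hex
        rw [h, derivedSeries_zero] at h0
        exact absurd h0 top_ne_bot
      · omega
    set N := derivedSeries G j with hN
    have hNne : N ≠ ⊥ := fun h => absurd (Nat.find_min' hex h) (by omega)
    have hNcomm : ∀ a ∈ N, ∀ b ∈ N, a * b = b * a := by
      intro a ha b hb
      have h0 := Nat.find_spec hex
      rw [hj, derivedSeries_succ, Subgroup.commutator_eq_bot_iff_le_centralizer] at h0
      exact (Subgroup.mem_centralizer_iff.mp (h0 ha) b hb).symm
    haveI : N.Normal := derivedSeries_normal G j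
    -- it has order prime to `p`
    have hNp : ∀ x ∈ N, x ^ p = 1 → x = 1 := by
      let T : Subgroup G :=
        { carrier := {x | x ∈ N ∧ x ^ p = 1}
          one_mem' := ⟨one_mem _, one_pow p⟩
          mul_mem' := fun {a b} ha hb => ⟨mul_mem ha.1 hb.1, by
            rw [(show Commute a b from hNcomm a ha.1 b hb.1).mul_pow, ha.2, hb.2, one_mul]⟩
          inv_mem' := fun {a} ha => ⟨inv_mem ha.1, by rw [inv_pow, ha.2, inv_one]⟩ }
      have hTn : T.Normal := ⟨fun x hx g => ⟨Subgroup.Normal.conj_mem inferInstance x hx.1 g, by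
        rw [conj_pow, hx.2, mul_one, mul_inv_cancel]⟩⟩
      have hTp : IsPGroup p T := fun x => ⟨1, Subtype.ext (by simpa using x.2.2)⟩
      intro x hxN hxp
      exact Subgroup.mem_bot.mp (hcore ▸ Lib.PSolvable.le_pCore (hN := hTn) hTp ⟨hxN, hxp⟩)
    have hNdvd : ¬ p ∣ Nat.card N := by
      intro h
      obtain ⟨x, hx⟩ := exists_prime_orderOf_dvd_card' (G := N) p h
      have h1 : (x : G) ^ p = 1 := by
        rw [← SubgroupClass.coe_pow, ← hx, pow_orderOf_eq_one, OneMemClass.coe_one]
      rw [show x = 1 from Subtype.ext (hNp x x.2 h1), orderOf_one] at hx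
      exact hp.out.one_lt.ne hx
    -- the action on `N`
    letI : CommGroup N :=
      { (inferInstance : Group N) with mul_comm := fun a b => Subtype.ext (hNcomm a a.2 b b.2) }
    let ρ : G →* AddMonoid.End (Additive N) :=
      { toFun := fun g => MonoidHom.toAdditive (MulAut.conjNormal (H := N) g).toMonoidHom
        map_one' := AddMonoidHom.ext fun x => by
          refine Additive.toMul.injective (Subtype.ext ?_)
          show (1 : G) * _ * (1 : G)⁻¹ = _
          rw [inv_one, mul_one, one_mul]
          rfl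
        map_mul' := fun a b => AddMonoidHom.ext fun x => by
          refine Additive.toMul.injective (Subtype.ext ?_)
          show a * b * ((Additive.toMul x : N) : G) * (a * b)⁻¹ =
            a * (b * ((Additive.toMul x : N) : G) * b⁻¹) * a⁻¹
          group }
    set K := (pCore p (G ⧸ N)).comap (QuotientGroup.mk' N) with hK
    have htK : t ∈ K := hquot N hNne
    have hNcent : ∀ g, ρ g = 1 ↔ ∀ x ∈ N, g * x = x * g := by
      intro g
      constructor
      · intro h x hx
        have h1 := DFunLike.congr_fun h (Additive.ofMul (⟨x, hx⟩ : N))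
        have h2 : g * x * g⁻¹ = x := congrArg (fun a : Additive N => ((Additive.toMul a : N) : G)) h1
        exact mul_inv_eq_iff_eq_mul.mp h2
      · intro h
        refine AddMonoidHom.ext fun a => Additive.toMul.injective (Subtype.ext ?_)
        show g * ((Additive.toMul a : N) : G) * g⁻¹ = ((Additive.toMul a : N) : G)
        rw [h _ (Additive.toMul a : N).2, mul_inv_cancel_right]
    have hpt : IsPGroup p (Subgroup.zpowers t) := by
      obtain ⟨g, -, hg⟩ := ht 1
      exact hg.to_le (Subgroup.zpowers_le.mpr (Subgroup.subset_closure (Set.mem_insert _ _)))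
    by_cases hρ : ρ t = 1
    · -- `t` centralizes `N`
      let K₀ : Subgroup G := K ⊓ Subgroup.centralizer (N : Set G)
      have htK₀ : t ∈ K₀ := Subgroup.mem_inf.mpr ⟨htK,
        Subgroup.mem_centralizer_iff.mpr fun x hx => ((hNcent t).mp hρ x hx).symm⟩
      let f : K₀ →* pCore p (G ⧸ N) :=
        ((QuotientGroup.mk' N).comp K₀.subtype).codRestrict _ fun x => (Subgroup.mem_inf.mp x.2).1
      have hf : f.ker ≤ Subgroup.center K₀ := by
        intro x hx
        have hxN : (x : G) ∈ N := (QuotientGroup.eq_one_iff _).mp (congrArg Subtype.val hx)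
        exact Subgroup.mem_center_iff.mpr fun y => Subtype.ext
          (Subgroup.mem_centralizer_iff.mp (Subgroup.mem_inf.mp y.2).2 _ hxN).symm
      haveI := (Lib.PSolvable.pCore_isPGroup (G := G ⧸ N) (p := p)).isNilpotent
      haveI : Group.IsNilpotent K₀ := isNilpotent_of_ker_le_center f hf
      have hpt' : IsPGroup p (Subgroup.zpowers (⟨t, htK₀⟩ : K₀)) := by
        rintro ⟨x, hx⟩
        obtain ⟨i, rfl⟩ := Subgroup.mem_zpowers_iff.mp hx
        obtain ⟨k, hk⟩ := hpt ⟨_, Subgroup.zpow_mem_zpowers t i⟩
        exact ⟨k, Subtype.ext (Subtype.ext (by simpa using congrArg Subtype.val hk))⟩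
      obtain ⟨S, hS⟩ := hpt'.exists_le_sylow
      haveI : (S : Subgroup K₀).Normal :=
        S.normal_of_normalizerCondition Group.normalizerCondition_of_isNilpotent
      haveI := Lib.PSolvable.map_subtype_pCore_normal (p := p) K₀
      exact Lib.PSolvable.le_pCore (Lib.PSolvable.pCore_isPGroup.map K₀.subtype)
        ⟨⟨t, htK₀⟩, Lib.PSolvable.le_pCore S.isPGroup' (hS (Subgroup.mem_zpowers _)), rfl⟩
    · exfalso
      -- some vector is moved by every conjugate
      have hNle : N ≤ ρ.ker := fun x hx => (hNcent x).mpr fun y hy => hNcomm x hx y hy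
      haveI : ((pCore p (G ⧸ N)).map (QuotientGroup.map N ρ.ker (MonoidHom.id G) hNle)).Normal :=
        Subgroup.Normal.map inferInstance _ (fun x => by
          induction x using QuotientGroup.induction_on with
          | H a => exact ⟨(a : G ⧸ N), rfl⟩)
      obtain ⟨v, hv⟩ := Lib.ClassFixed58.exists_moved_by_all_conjugates (p := p) hp2
        (V := Additive N) hNdvd (QuotientGroup.lift ρ.ker ρ (le_refl ρ.ker))
        ((pCore p (G ⧸ N)).map (QuotientGroup.map N ρ.ker (MonoidHom.id G) hNle))
        (hP := Lib.PSolvable.pCore_isPGroup.map _) (t := (t : G ⧸ ρ.ker))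
        (by exact ⟨(t : G ⧸ N), htK, rfl⟩) (by exact hρ)
      set x : G := ((Additive.toMul v : N) : G) with hx
      have hxN : x ∈ N := (Additive.toMul v : N).2
      obtain ⟨g, hcg, hg⟩ := ht x
      obtain ⟨h, rfl⟩ := isConj_iff.mp hcg
      have hgN : h * x * h⁻¹ ∈ N := Subgroup.Normal.conj_mem inferInstance x hxN h
      set e := h * x * h⁻¹ with he
      have hcomm : t * e = e * t := by
        have huN : t * e * t⁻¹ * e⁻¹ ∈ N :=
          mul_mem (Subgroup.Normal.conj_mem inferInstance e hgN t) (inv_mem hgN)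
        have huK : t * e * t⁻¹ * e⁻¹ ∈ Subgroup.closure ({t, e * t * e⁻¹} : Set G) := by
          rw [show t * e * t⁻¹ * e⁻¹ = t * (e * t * e⁻¹)⁻¹ by group]
          exact mul_mem (Subgroup.subset_closure (Set.mem_insert _ _))
            (inv_mem (Subgroup.subset_closure (Set.mem_insert_of_mem _ rfl)))
        obtain ⟨k, hk⟩ := hg ⟨_, huK⟩
        have hk' : (t * e * t⁻¹ * e⁻¹) ^ p ^ k = 1 := congrArg Subtype.val hk
        have h1 : ∀ k : ℕ, ∀ y ∈ N, y ^ p ^ k = 1 → y = 1 := by
          intro k
          induction k with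
          | zero => intro y _ hy; simpa using hy
          | succ k ihk =>
            intro y hy hyk
            refine hNp y hy (ihk _ (pow_mem hy p) ?_)
            rwa [← pow_mul, ← pow_succ']
        have h2 := h1 k _ huN hk'
        exact mul_inv_eq_iff_eq_mul.mp (mul_inv_eq_one.mp h2)
      refine hv (h⁻¹ : G ⧸ ρ.ker) ?_
      rw [inv_inv, ← QuotientGroup.mk_inv, ← QuotientGroup.mk_mul, ← QuotientGroup.mk_mul]
      show ρ (h⁻¹ * t * h) v = v
      refine Additive.toMul.injective (Subtype.ext ?_)
      show h⁻¹ * t * h * x * (h⁻¹ * t * h)⁻¹ = x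
      calc h⁻¹ * t * h * x * (h⁻¹ * t * h)⁻¹ = h⁻¹ * (t * e) * t⁻¹ * h := by rw [he]; group
        _ = x := by rw [hcomm, he]; group

/-- Let G be a finite solvable group, p an odd prime and A a p-subgroup of G such that every conjugacy class of G contains an element g for which A is subnormal in the subgroup generated by A and its conjugate by g. Then A is contained in O_p(G). (The hypothesis that p is odd is needed.) -/
theorem result {G : Type*} [Group G] [Finite G]
    (hG : Group.IsSolvable G) (p : ℕ) [Fact p.Prime] (hp : p ≠ 2) (A : Subgroup G) (hA : IsPGroup p A)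
    (h : ∀ c : G, ∃ g : G, IsConj c g ∧ (A.subgroupOf (A ⊔ MulAut.conj g • A)).IsSubnormal) :
    A ≤ Cfsg.pCore p G := by
  intro t htA
  refine mem_pCore_of_forall_class p hp (Nat.card G) G le_rfl hG t fun c => ?_
  obtain ⟨g, hcg, hsub⟩ := h c
  refine ⟨g, hcg, ?_⟩
  set B : Subgroup G := MulAut.conj g • A with hB
  set K : Subgroup G := A ⊔ B with hK
  have hA' : A.subgroupOf K ≤ pCore p K :=
    Lib.PiCore.le_piCore_of_isSubnormal_of_pCore hsub hA.comap_subtype
  have hBp : IsPGroup p B := hA.map _
  have htop : B.subgroupOf K ⊔ pCore p K = ⊤ := by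
    rw [eq_top_iff]
    refine le_trans ?_ (sup_le_sup_left hA' _)
    rw [← Subgroup.subgroupOf_sup le_sup_right le_sup_left, sup_comm B A]
    exact (Subgroup.subgroupOf_self K).ge
  have hKp : IsPGroup p K := by
    have h1 := IsPGroup.to_sup_of_normal_right (hBp.comap_subtype (K := K))
      (Lib.PSolvable.pCore_isPGroup (G := K) (p := p))
    rw [show B.comap K.subtype ⊔ pCore p K = ⊤ from htop] at h1
    exact h1.of_equiv Subgroup.topEquiv
  refine hKp.to_le ((Subgroup.closure_le K).mpr ?_)
  rintro x (rfl | rfl)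
  · exact Subgroup.mem_sup_left htA
  · exact Subgroup.mem_sup_right (Subgroup.smul_mem_pointwise_smul t (MulAut.conj g) A htA)

end Cfsg.Agent.S4330
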