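import Cfsg.Statements.S4331
import Cfsg.Agent.Lib.LocalChar.Core

set_option autoImplicit false
open Cfsg

namespace Cfsg.Agent.S4331

open scoped commutatorElement

/-- The field of nine elements as pairs. -/
abbrev V : Type := Multiplicative (ZMod 3 × ZMod 3)

/-- multiplication by a generator of the multiplicative group -/
def zm (v : ZMod 3 × ZMod 3) : ZMod 3 × ZMod 3 := (v.1 - v.2, v.1 + v.2)

/-- the Frobenius map -/
def fr (v : ZMod 3 × ZMod 3) : ZMod 3 × ZMod 3 := (v.1, -v.2)

/-- scaling by the `n`-th power of the generator -/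
def zp : ℕ → ZMod 3 × ZMod 3 → ZMod 3 × ZMod 3
  | 0, v => v
  | n + 1, v => zm (zp n v)

def twist : Multiplicative (ZMod 2) →* MulAut (Multiplicative (ZMod 8)) where
  toFun j := if j = 1 then 1 else
    { toFun := fun i => i ^ 3
      invFun := fun i => i ^ 3
      left_inv := by decide
      right_inv := by decide
      map_mul' := fun a b => mul_pow a b 3 }
  map_one' := rfl
  map_mul' := by decide

/-- The semidihedral group of order 16. -/
abbrev P : Type := Multiplicative (ZMod 8) ⋊[twist] Multiplicative (ZMod 2)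

instance fintypeP : Fintype P := Fintype.ofEquiv _ SemidirectProduct.equivProd.symm

/-- action of an element of `P` -/
def actP (g : P) (v : ZMod 3 × ZMod 3) : ZMod 3 × ZMod 3 :=
  zp (Multiplicative.toAdd g.left).val (if g.right = 1 then v else fr v)

/-- action as a homomorphism -/
def rho : P →* MulAut V where
  toFun g :=
    { toFun := fun v => Multiplicative.ofAdd (actP g (Multiplicative.toAdd v))
      invFun := fun v => Multiplicative.ofAdd (actP g⁻¹ (Multiplicative.toAdd v))
      left_inv := by revert g; decide +kernel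
      right_inv := by revert g; decide +kernel
      map_mul' := by revert g; decide +kernel }
  map_one' := by ext v : 1; revert v; decide +kernel
  map_mul' g h := by ext v : 1; revert g h v; decide +kernel

/-- The affine semilinear group of degree 1 over the field of nine elements. -/
abbrev Gp : Type := V ⋊[rho] P

instance fintypeGp : Fintype Gp := Fintype.ofEquiv _ SemidirectProduct.equivProd.symm

/-- a field automorphism -/
def a0 : Gp := ⟨1, ⟨1, Multiplicative.ofAdd 1⟩⟩

theorem key : ∀ c : Gp, ∃ h : Gp, (h * c * h⁻¹).left = 1 ∨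
    (h * c * h⁻¹) * a0 = a0 * (h * c * h⁻¹) := by decide +kernel

theorem comm_order : ∃ v : Gp, a0 * v * a0⁻¹ * v⁻¹ ≠ 1 ∧ (a0 * v * a0⁻¹ * v⁻¹) ^ 3 = 1 := by
  decide +kernel

theorem a0_sq : a0 ^ 2 = 1 ∧ a0 ≠ 1 := by decide +kernel

theorem solvable_Gp : Group.IsSolvable Gp := by
  haveI : Group.IsSolvable P :=
    Group.isSolvable_of_ker_le_range (G' := Multiplicative (ZMod 8))
      SemidirectProduct.inl SemidirectProduct.rightHom
      SemidirectProduct.range_inl_eq_ker_rightHom.ge
  exact Group.isSolvable_of_ker_le_range (G' := V)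
    SemidirectProduct.inl SemidirectProduct.rightHom
    SemidirectProduct.range_inl_eq_ker_rightHom.ge


/-- There is a finite solvable group G with a subgroup A of order 2 such that every conjugacy class of G contains an element g for which A is subnormal in the subgroup generated by A and g, and yet A is not contained in O_2(G). (So the corresponding criteria for odd primes fail at the prime 2, even for solvable groups.) -/
theorem result :
    ∃ (G : Type) (_ : Group G) (_ : Finite G) (A : Subgroup G), Group.IsSolvable G ∧ Nat.card A = 2 ∧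
      (∀ c : G, ∃ g : G, IsConj c g ∧ (A.subgroupOf (A ⊔ Subgroup.zpowers g)).IsSubnormal) ∧
      ¬ A ≤ Cfsg.pCore 2 G := by
  haveI : Fact (Nat.Prime 2) := ⟨Nat.prime_two⟩
  refine ⟨Gp, inferInstance, inferInstance, Subgroup.zpowers a0, solvable_Gp, ?_, ?_, ?_⟩
  · rw [Nat.card_zpowers]
    exact orderOf_eq_prime a0_sq.1 a0_sq.2
  · intro c
    obtain ⟨h, hh⟩ := key c
    refine ⟨h * c * h⁻¹, isConj_iff.2 ⟨h, rfl⟩, ?_⟩
    rcases hh with hh | hh
    · -- inside the stabiliser of zero, a 2-group
      have hP : IsPGroup 2 (SemidirectProduct.inr : P →* Gp).range := by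
        refine IsPGroup.of_card (n := 4) ?_
        rw [Nat.card_congr (MonoidHom.ofInjective SemidirectProduct.inr_injective).toEquiv.symm,
          Nat.card_eq_fintype_card]
        rfl
      have hle : Subgroup.zpowers a0 ⊔ Subgroup.zpowers (h * c * h⁻¹) ≤
          (SemidirectProduct.inr : P →* Gp).range := by
        rw [sup_le_iff, Subgroup.zpowers_le, Subgroup.zpowers_le]
        refine ⟨⟨a0.right, ?_⟩, ⟨(h * c * h⁻¹).right, ?_⟩⟩
        · ext <;> rfl
        · ext <;> simp [hh]
      haveI := (hP.to_le hle).isNilpotent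
      exact Lib.LocalChar.isSubnormal_of_isNilpotent _
    · refine Subgroup.Normal.isSubnormal ?_
      rw [Subgroup.normal_subgroupOf_iff_le_normalizer le_sup_left]
      refine sup_le Subgroup.le_normalizer (le_trans ?_ (Subgroup.centralizer_le_normalizer _))
      rw [Subgroup.zpowers_le, Subgroup.mem_centralizer_iff]
      intro z hz
      obtain ⟨j, rfl⟩ := Subgroup.mem_zpowers_iff.1 hz
      exact ((show Commute (h * c * h⁻¹) a0 from hh).zpow_right j).eq.symm
  · intro hle
    obtain ⟨v, hv1, hv3⟩ := comm_order
    haveI : (Cfsg.pCore 2 Gp).Normal := Subgroup.sSup_normal _ fun _ h => h.1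
    have hp : IsPGroup 2 (Cfsg.pCore 2 Gp) :=
      Sylow.sSup_of_normal _ (fun H hH => hH.2) (fun H hH => hH.1)
    have ha : a0 ∈ Cfsg.pCore 2 Gp := hle (Subgroup.mem_zpowers a0)
    have hm : a0 * v * a0⁻¹ * v⁻¹ ∈ Cfsg.pCore 2 Gp := by
      have := mul_mem ha (Subgroup.Normal.conj_mem inferInstance _ (inv_mem ha) v)
      simpa [mul_assoc] using this
    obtain ⟨k, hk⟩ := IsPGroup.iff_orderOf.1 hp ⟨_, hm⟩
    rw [Subgroup.orderOf_mk, orderOf_eq_prime hv3 hv1] at hk
    rcases k with _ | k
    · simp at hk
    · omega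

end Cfsg.Agent.S4331
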