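import Cfsg.Statements.S4332
import Mathlib

set_option autoImplicit false
open Pointwise
open Cfsg

namespace Cfsg.Agent.S4332

open Equiv

theorem exists_triple (c : Perm (Fin 8)) :
    ∃ T : Finset (Fin 8), T.card = 3 ∧ (T.image c = T ∨ Disjoint (T.image c) T) := by
  by_cases hF : 3 ≤ (Finset.univ.filter fun x => c x = x).card
  · obtain ⟨T, hT, hc⟩ := Finset.exists_subset_card_eq hF
    refine ⟨T, hc, Or.inl ?_⟩
    rw [Finset.image_congr (g := id) (fun x hx => (Finset.mem_filter.1 (hT hx)).2), Finset.image_id]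
  by_cases h3 : ∃ x, c x ≠ x ∧ c (c (c x)) = x
  · obtain ⟨x, hx, hx3⟩ := h3
    have h12 : c x ≠ c (c x) := fun e => hx (c.injective e).symm
    have h02 : x ≠ c (c x) := fun e => by
      rw [← e] at hx3; exact hx hx3
    refine ⟨{x, c x, c (c x)}, Finset.card_eq_three.2 ⟨x, c x, c (c x), Ne.symm hx, h02, h12, rfl⟩,
      Or.inl ?_⟩
    simp only [Finset.image_insert, Finset.image_singleton, hx3]
    ext y
    simp only [Finset.mem_insert, Finset.mem_singleton]
    tauto
  push Not at h3
  set M := Finset.univ.filter fun x => c x ≠ x with hM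
  have hMc : 6 ≤ M.card := by
    have := Finset.card_filter_add_card_filter_not (s := Finset.univ) (fun x : Fin 8 => c x = x)
    rw [Finset.card_univ, Fintype.card_fin] at this
    simp only [hM, ne_eq] at *; omega
  have hmem : ∀ x ∈ M, c x ≠ x := fun x hx => (Finset.mem_filter.1 hx).2
  have hMne : M.Nonempty := Finset.card_pos.1 (by omega)
  -- pick `x`, `y` with few neighbours
  obtain ⟨x, y, hx, hy, hxy, hyx, hxy', hsmall⟩ : ∃ x y, x ∈ M ∧ y ∈ M ∧ y ≠ x ∧ y ≠ c x ∧ c y ≠ x ∧
      ({x, c x, c.symm x, y, c y, c.symm y} : Finset (Fin 8)).card ≤ 5 := by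
    by_cases h2 : ∃ x ∈ M, c (c x) ≠ x
    · obtain ⟨x, hx, h2x⟩ := h2
      refine ⟨x, c (c x), hx, Finset.mem_filter.2 ⟨Finset.mem_univ _, fun e => hmem x hx
        (c.injective (c.injective e))⟩, h2x, fun e => hmem x hx (c.injective e), h3 x (hmem x hx), ?_⟩
      rw [symm_apply_apply]
      have : ({x, c x, c.symm x, c (c x), c (c (c x)), c x} : Finset (Fin 8)) =
          {x, c.symm x, c (c x), c (c (c x)), c x} := by
        ext z; simp only [Finset.mem_insert, Finset.mem_singleton]; tauto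
      rw [this]
      exact Finset.card_le_five
    · push Not at h2
      obtain ⟨x, hx⟩ := hMne
      obtain ⟨y, hy, hy'⟩ := Finset.exists_mem_notMem_of_card_lt_card (s := ({x, c x} : Finset (Fin 8)))
        (t := M) (lt_of_le_of_lt Finset.card_le_two (by omega))
      simp only [Finset.mem_insert, Finset.mem_singleton, not_or] at hy'
      refine ⟨x, y, hx, hy, hy'.1, hy'.2, fun e => hy'.2 (by rw [← e, h2 y hy]), ?_⟩
      have e1 : c.symm x = c x := by rw [symm_apply_eq, h2 x hx]
      have e2 : c.symm y = c y := by rw [symm_apply_eq, h2 y hy]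
      rw [e1, e2]
      have : ({x, c x, c x, y, c y, c y} : Finset (Fin 8)) = {x, c x, y, c y} := by
        ext z; simp only [Finset.mem_insert, Finset.mem_singleton]; tauto
      rw [this]
      exact Finset.card_le_four.trans (by norm_num)
  obtain ⟨z, hz, hz'⟩ := Finset.exists_mem_notMem_of_card_lt_card
    (s := ({x, c x, c.symm x, y, c y, c.symm y} : Finset (Fin 8))) (t := M) (by omega)
  simp only [Finset.mem_insert, Finset.mem_singleton, not_or] at hz'
  obtain ⟨z1, z2, z3, z4, z5, z6⟩ := hz'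
  rw [← ne_eq, ne_eq, eq_symm_apply, ← ne_eq] at z3 z6
  refine ⟨{x, y, z}, Finset.card_eq_three.2 ⟨x, y, z, Ne.symm hxy, Ne.symm z1, Ne.symm z4, rfl⟩,
    Or.inr ?_⟩
  rw [Finset.disjoint_left]
  intro w hw
  simp only [Finset.image_insert, Finset.image_singleton, Finset.mem_insert, Finset.mem_singleton] at hw ⊢
  rcases hw with rfl | rfl | rfl <;> push Not
  · exact ⟨hmem x hx, Ne.symm hyx, Ne.symm z2⟩
  · exact ⟨hxy', hmem y hy, Ne.symm z5⟩
  · exact ⟨z3, z6, hmem z hz⟩

theorem commute_of_support_eq {σ τ : Perm (Fin 8)} {T : Finset (Fin 8)} (hT : T.card = 3)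
    (hσ : σ.IsThreeCycle) (hτ : τ.IsThreeCycle) (hs : σ.support = T) (ht : τ.support = T) :
    Commute σ τ := by
  classical
  have key : ∀ ρ : Perm (Fin 8), ρ.IsThreeCycle → ρ.support = T →
      ∃ ρ' : alternatingGroup {x // x ∈ T}, Perm.ofSubtype (ρ' : Perm {x // x ∈ T}) = ρ := by
    intro ρ hρ hρs
    have hmem : ∀ x, ρ x ∈ T ↔ x ∈ T := fun x => by rw [← hρs]; exact Perm.apply_mem_support
    have e : Perm.ofSubtype (ρ.subtypePerm hmem) = ρ :=
      Perm.ofSubtype_subtypePerm hmem fun x hx => hρs ▸ Perm.mem_support.2 hx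
    refine ⟨⟨ρ.subtypePerm hmem, ?_⟩, e⟩
    rw [Perm.mem_alternatingGroup, ← Perm.sign_ofSubtype, e]
    exact hρ.sign
  obtain ⟨a, rfl⟩ := key σ hσ hs
  obtain ⟨b, rfl⟩ := key τ hτ ht
  refine Commute.map ?_ _
  haveI : Fact (Nat.Prime 3) := ⟨Nat.prime_three⟩
  haveI : IsCyclic (alternatingGroup {x // x ∈ T}) := isCyclic_of_prime_card (p := 3) (by
    haveI : Nontrivial {x // x ∈ T} := Fintype.one_lt_card_iff_nontrivial.1 (by
      rw [Fintype.card_coe]; omega)
    have h2 := two_mul_nat_card_alternatingGroup (α := {x // x ∈ T})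
    rw [Nat.card_perm, Nat.card_eq_fintype_card (α := {x // x ∈ T}), Fintype.card_coe, hT] at h2
    simp only [Nat.factorial] at h2
    omega)
  letI := IsCyclic.commGroup (α := alternatingGroup {x // x ∈ T})
  exact congrArg Subtype.val (mul_comm a b)

theorem eq_bot_of_normal_coprime {α : Type*} [Finite α] {N : Subgroup (Perm α)} [N.Normal]
    (h : (Nat.card N).Coprime (Nat.card α)) : N = ⊥ := by
  rw [Subgroup.eq_bot_iff_forall]
  intro g hg
  ext a
  have hB := MulAction.IsBlock.orbit_of_normal (G := Perm α) (N := N) a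
  have h1 : (MulAction.orbit N a).ncard ∣ Nat.card α := hB.ncard_dvd_card ⟨a, MulAction.mem_orbit_self a⟩
  have h2 : (MulAction.orbit N a).ncard ∣ Nat.card N := by
    rw [← MulAction.index_stabilizer]; exact Subgroup.index_dvd_card _
  obtain ⟨z, hz⟩ := Set.ncard_eq_one.1 (Nat.eq_one_of_dvd_coprimes h h2 h1)
  have e1 : a ∈ MulAction.orbit N a := MulAction.mem_orbit_self a
  have e2 : g a ∈ MulAction.orbit N a := ⟨⟨g, hg⟩, rfl⟩
  rw [hz, Set.mem_singleton_iff] at e1 e2
  rw [Perm.one_apply, e2, e1]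


/-- In the symmetric group of degree 8, let A be the subgroup generated by a 3-cycle. Then every conjugacy class contains an element g for which A is subnormal in the subgroup generated by A and its conjugate by g, although O_3 of the symmetric group of degree 8 is trivial. -/
theorem result
    (σ : Equiv.Perm (Fin 8)) (hσ : σ.IsThreeCycle) :
    (∀ c : Equiv.Perm (Fin 8), ∃ g : Equiv.Perm (Fin 8), IsConj c g ∧
      ((Subgroup.zpowers σ).subgroupOf (Subgroup.zpowers σ ⊔ MulAut.conj g • Subgroup.zpowers σ)).IsSubnormal) ∧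
    Cfsg.pCore 3 (Equiv.Perm (Fin 8)) = ⊥ := by
  classical
  refine ⟨fun c => ?_, ?_⟩
  · obtain ⟨T, hT, hTc⟩ := exists_triple c
    have hS : σ.support.card = 3 := hσ.card_support
    obtain ⟨h, hh⟩ : ∃ h : Equiv.Perm (Fin 8), T.image h = σ.support := by
      let e : {x // x ∈ T} ≃ {x // x ∈ σ.support} :=
        Fintype.equivOfCardEq (by rw [Fintype.card_coe, Fintype.card_coe, hT, hS])
      refine ⟨e.extendSubtype, Finset.eq_of_subset_of_card_le ?_ ?_⟩
      · intro y hy
        obtain ⟨x, hx, rfl⟩ := Finset.mem_image.1 hy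
        exact e.extendSubtype_mem x hx
      · rw [Finset.card_image_of_injective _ (Equiv.injective _), hT, hS]
    set g := h * c * h⁻¹ with hg
    refine ⟨g, isConj_iff.2 ⟨h, hg.symm⟩, ?_⟩
    set τ := g * σ * g⁻¹ with hτdef
    have hτ : τ.IsThreeCycle := by
      rw [Equiv.Perm.IsThreeCycle, hτdef, Equiv.Perm.cycleType_conj]; exact hσ
    have hts : τ.support = (T.image c).image h := by
      rw [hτdef, Equiv.Perm.support_conj, Finset.map_eq_image, ← hh, Finset.image_image, Finset.image_image]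
      refine Finset.image_congr fun x _ => ?_
      simp [hg]
    have hcomm : Commute σ τ := by
      rcases hTc with e | e
      · rw [e, hh] at hts
        exact commute_of_support_eq hS hσ hτ rfl hts
      · refine (Equiv.Perm.disjoint_iff_disjoint_support.2 ?_).commute
        rw [hts, ← hh]
        exact ((Finset.disjoint_image h.injective).2 e).symm
    refine Subgroup.Normal.isSubnormal ?_
    rw [Subgroup.normal_subgroupOf_iff_le_normalizer le_sup_left]
    refine sup_le Subgroup.le_normalizer (le_trans ?_ (Subgroup.centralizer_le_normalizer _))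
    rintro y ⟨x, hx, rfl⟩
    obtain ⟨k, rfl⟩ := Subgroup.mem_zpowers_iff.1 hx
    rw [Subgroup.mem_centralizer_iff]
    intro z hz
    obtain ⟨j, rfl⟩ := Subgroup.mem_zpowers_iff.1 hz
    show σ ^ j * (g * σ ^ k * g⁻¹) = (g * σ ^ k * g⁻¹) * σ ^ j
    rw [← conj_zpow]
    exact (hcomm.zpow_zpow j k).eq
  · haveI : Fact (Nat.Prime 3) := ⟨Nat.prime_three⟩
    haveI : (Cfsg.pCore 3 (Equiv.Perm (Fin 8))).Normal := Subgroup.sSup_normal _ fun _ h => h.1
    refine eq_bot_of_normal_coprime ?_
    have hp : IsPGroup 3 (Cfsg.pCore 3 (Equiv.Perm (Fin 8))) :=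
      Sylow.sSup_of_normal _ (fun H hH => hH.2) (fun H hH => hH.1)
    obtain ⟨k, hk⟩ := hp.exists_card_eq
    rw [hk, Nat.card_eq_fintype_card (α := Fin 8), Fintype.card_fin]
    exact Nat.Coprime.pow_left k (by norm_num)

end Cfsg.Agent.S4332
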