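import Cfsg.Statements.S4333
import Cfsg.Agent.Lib.Zipper

set_option autoImplicit false
open Pointwise
open Cfsg

namespace Cfsg.Agent.S4333

universe u

open Pointwise in
theorem aux (n : ℕ) : ∀ (G : Type u) [Group G] [Finite G], Nat.card G = n → ∀ A : Subgroup G,
    (∀ a ∈ A, ∀ g : G, (A.subgroupOf (A ⊔ MulAut.conj (g⁻¹ * a * g) • A)).IsSubnormal) →
    A.IsSubnormal := by
  induction n using Nat.strong_induction_on with
  | _ n ih =>
    intro G _ _ hn A h
    by_contra hA
    have hY : ∀ Y : Subgroup G, Y ≠ ⊤ → A ≤ Y → (A.subgroupOf Y).IsSubnormal := by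
      intro Y hYtop hAY
      refine ih (Nat.card Y) ?_ Y rfl _ fun a ha g => ?_
      · rw [← hn]
        exact lt_of_le_of_ne Y.card_le_card_group fun e => hYtop (Y.eq_top_of_card_eq e)
      · set x : Y := g⁻¹ * a * g with hx
        set J : Subgroup G := A ⊔ MulAut.conj (x : G) • A
        set J' : Subgroup Y := A.subgroupOf Y ⊔ MulAut.conj x • A.subgroupOf Y
        have hJ : J' ≤ J.subgroupOf Y := by
          refine sup_le (fun y hy => Subgroup.mem_sup_left hy) (fun y hy => ?_)
          refine Subgroup.mem_sup_right ?_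
          rw [Subgroup.mem_pointwise_smul_iff_inv_smul_mem] at hy ⊢
          simpa [MulAut.smul_def, Subgroup.mem_subgroupOf, mul_assoc] using hy
        let f : J' →* J := (Y.subtype.comp J'.subtype).codRestrict J fun y => hJ y.2
        exact (h (a : G) ha (g : G)).comap f
    obtain ⟨M, hM, hAM, huniq⟩ := Lib.Zipper.zipper A hY hA
    have hin : ∀ a ∈ A, ∀ g : G, g⁻¹ * a * g ∈ M := by
      intro a ha g
      set x := g⁻¹ * a * g with hx
      have hAx : MulAut.conj x • A ≤ M := by
        rcases eq_top_or_exists_le_coatom (A ⊔ MulAut.conj x • A) with e | ⟨X, hX, hle⟩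
        · exact absurd (Subgroup.IsSubnormal.trans le_sup_left (h a ha g)
            (by rw [e]; exact Subgroup.IsSubnormal.top)) hA
        · exact le_sup_right.trans (hle.trans (huniq X hX (le_sup_left.trans hle)).le)
      by_contra hxM
      -- `M` is normalised by `x`
      have h1 : A ≤ MulAut.conj x⁻¹ • M := fun y hy => by
        have := hAx (Subgroup.smul_mem_pointwise_smul y (MulAut.conj x) A hy)
        rw [Subgroup.mem_pointwise_smul_iff_inv_smul_mem]
        simpa [MulAut.smul_def] using this
      have h2 : MulAut.conj x⁻¹ • M ≠ ⊤ := fun e => hM.1 (by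
        rw [eq_top_iff]
        intro z _
        have hz : MulAut.conj x⁻¹ z ∈ MulAut.conj x⁻¹ • M := by rw [e]; trivial
        rwa [← MulAut.smul_def, Subgroup.smul_mem_pointwise_smul_iff] at hz)
      obtain ⟨X, hX, hle⟩ := (eq_top_or_exists_le_coatom _).resolve_left h2
      have h3 : MulAut.conj x⁻¹ • M ≤ M := hle.trans (huniq X hX (h1.trans hle)).le
      have h4 : MulAut.conj x⁻¹ • M = M := Subgroup.eq_of_le_of_card_ge h3
        (Nat.card_congr (Subgroup.equivSMul _ M).toEquiv).le
      have h5 : x⁻¹ ∈ Subgroup.normalizer (M : Set G) := by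
        rw [Subgroup.mem_normalizer_iff]
        intro y
        conv_rhs => rw [← h4]
        exact (Subgroup.smul_mem_pointwise_smul_iff (a := MulAut.conj x⁻¹)).symm
      rcases hM.le_iff.1 (Subgroup.le_normalizer (H := M)) with e | e
      · exact hA (Subgroup.IsSubnormal.trans hAM (hY M hM.1 hAM)
          (Subgroup.normalizer_eq_top_iff.1 e).isSubnormal)
      · rw [e] at h5
        exact hxM (inv_mem_iff.1 h5)
    have hcl : Subgroup.normalClosure (A : Set G) ≤ M := by
      refine (Subgroup.closure_le _).mpr fun z hz => ?_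
      obtain ⟨a, ha, hc⟩ := Group.mem_conjugatesOfSet_iff.mp hz
      obtain ⟨g, rfl⟩ := isConj_iff.mp hc
      simpa using hin a ha g⁻¹
    exact hA (Subgroup.IsSubnormal.trans Subgroup.le_normalClosure
      (hY _ (fun e => hM.1 (top_le_iff.mp (e ▸ hcl))) Subgroup.le_normalClosure)
      Subgroup.normalClosure_normal.isSubnormal)


/-- Let A be a subgroup of a finite group G. If A is subnormal in the subgroup generated by A and its conjugate by g⁻¹ a g, for every a ∈ A and every g ∈ G, then A is subnormal in G. (A sharpening of Wielandt's subnormality criterion: only conjugates of A by conjugates of elements of A are needed.) -/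
theorem result {G : Type*} [Group G] [Finite G]
    (A : Subgroup G)
    (h : ∀ a ∈ A, ∀ g : G, (A.subgroupOf (A ⊔ MulAut.conj (g⁻¹ * a * g) • A)).IsSubnormal) :
    A.IsSubnormal := by
  exact aux _ G rfl A h

end Cfsg.Agent.S4333
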