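import Cfsg.Statements.S4334
import Cfsg.Agent.Lib.Hall.Nilpotent

set_option autoImplicit false
open Cfsg

namespace Cfsg.Agent.S4334

open Lib.Hall in
theorem isPiHall_factor {G : Type*} [Group G] [Finite G] (σ τ : Set ℕ) (hd : Disjoint σ τ)
    (H Hs Ht : Subgroup G) (hH : Cfsg.IsPiHall (σ ∪ τ) H) (hs : Cfsg.IsPiSubgroup σ Hs)
    (ht : Cfsg.IsPiSubgroup τ Ht) (hjoin : Hs ⊔ Ht = H)
    (hcomm : ∀ a ∈ Hs, ∀ b ∈ Ht, a * b = b * a) : Cfsg.IsPiHall τ Ht := by
  refine ⟨ht, fun q hq hqτ h => ?_⟩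
  have hle : Ht ≤ H := hjoin ▸ le_sup_right
  rw [← Subgroup.relIndex_mul_index hle] at h
  refine (hq.dvd_mul.1 h).elim (fun h1 => ?_) (hH.2 q hq (Or.inr hqτ))
  have h2 : Nat.card Ht * Ht.relIndex H ∣ Nat.card Ht * Nat.card Hs := by
    rw [Cfsg.Agent.Lib.PSolvable.card_mul_relIndex hle, ← hjoin, mul_comm]
    exact card_sup_dvd_of_le_normalizer (le_normalizer_of_commute hcomm)
  have h3 := (Nat.mul_dvd_mul_iff_left (Nat.card_pos (α := Ht))).1 h2
  exact Set.disjoint_left.1 hd (hs q hq (h1.trans h3)) hqτ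


/-- Let σ and τ be disjoint sets of primes with union π. Suppose a finite group G has a Hall π-subgroup H which is the direct product of a nilpotent σ-subgroup and a τ-subgroup (two elementwise-commuting subgroups generating H), and that the maximal τ-subgroups of G are pairwise conjugate. Then the maximal π-subgroups of G are pairwise conjugate. -/
theorem result {G : Type*} [Group G] [Finite G]
    (σ τ π : Set ℕ) (hπ : π = σ ∪ τ) (hd : Disjoint σ τ) (H Hs Ht : Subgroup G) (hH : Cfsg.IsPiHall π H)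
    (hs : Cfsg.IsPiSubgroup σ Hs) (ht : Cfsg.IsPiSubgroup τ Ht) (hsn : Group.IsNilpotent Hs)
    (hjoin : Hs ⊔ Ht = H) (hcomm : ∀ a ∈ Hs, ∀ b ∈ Ht, a * b = b * a) (hD : Cfsg.IsDPiGroup τ G) :
    Cfsg.IsDPiGroup π G := by
  subst hπ
  have htH := isPiHall_factor σ τ hd H Hs Ht hH hs ht hjoin hcomm
  have hdom := Lib.Hall.dominates_of_nilpotent_prod (τ := τ) Hs Ht hsn
    (fun q hq hqd hqτ => Set.disjoint_left.1 hd (hs q hq hqd) hqτ) ht hcomm
    (fun q hq hdiv hq' => ?_) (Lib.Hall.dominates_of_isDPiGroup hD htH)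
  · rw [hjoin] at hdom
    refine Lib.Hall.Dominates.isDPiGroup (fun U hU => hdom U fun q hq hqU => ?_) hH
    rcases hU q hq hqU with hqs | hqt
    · refine Or.inr ?_
      have hqG : q ∣ Nat.card H * H.index := by
        rw [H.card_mul_index]; exact hqU.trans (Subgroup.card_subgroup_dvd_card U)
      have hqH : q ∣ Nat.card H := (hq.dvd_mul.1 hqG).resolve_right (hH.2 q hq (Or.inl hqs))
      rw [← hjoin] at hqH
      exact (hq.dvd_mul.1 (hqH.trans (Lib.Hall.card_sup_dvd_of_le_normalizer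
        (Lib.Hall.le_normalizer_of_commute hcomm)))).resolve_right
        (fun h => Set.disjoint_left.1 hd hqs (ht q hq h))
    · exact Or.inl hqt
  · rw [hjoin] at hdiv
    exact hH.2 q hq (hq'.elim Or.inr (fun h => Or.inl (hs q hq h))) hdiv

end Cfsg.Agent.S4334
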