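import Cfsg.Statements.S4337
import Cfsg.Agent.Lib.Burnside.Paqb

set_option autoImplicit false
open Cfsg

namespace Cfsg.Agent.S4337

open Equiv

theorem isSolvable_small {n : ℕ} (T : Finset (Fin n)) (hT : T.card ≤ 4) (S : Set (Perm (Fin n)))
    (hS : ∀ s ∈ S, ∀ x, x ∉ T → s x = x) : Group.IsSolvable (Subgroup.closure S) := by
  have hsol : Group.IsSolvable (Perm {x // x ∈ T}) := by
    have hc : Nat.card (Perm {x // x ∈ T}) = T.card.factorial := by
      rw [Nat.card_perm, Nat.card_eq_fintype_card, Fintype.card_coe]
    have h5 : T.card < 5 := by omega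
    obtain ⟨a, b, hab⟩ : ∃ a b, T.card.factorial = 2 ^ a * 3 ^ b := by
      interval_cases T.card
      · exact ⟨0, 0, rfl⟩
      · exact ⟨0, 0, rfl⟩
      · exact ⟨1, 0, rfl⟩
      · exact ⟨1, 1, rfl⟩
      · exact ⟨3, 1, rfl⟩
    exact Lib.Burnside.isSolvable_of_card_eq_prime_pow_mul Nat.prime_two Nat.prime_three (hc.trans hab)
  let f : Perm {x // x ∈ T} →* Perm (Fin n) := Perm.ofSubtype
  have hle : Subgroup.closure S ≤ f.range := by
    rw [Subgroup.closure_le]
    intro s hs
    have hmem : ∀ x, x ∈ T ↔ s x ∈ T := fun x => ⟨fun hx => by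
      by_contra h
      have e := hS s hs _ h
      rw [s.injective e] at h
      exact h hx, fun hx => by
      by_contra h
      rw [hS s hs _ h] at hx
      exact h hx⟩
    exact ⟨s.subtypePerm (fun x => (hmem x).symm),
      Perm.ofSubtype_subtypePerm (fun x => (hmem x).symm) (fun x hx => by_contra fun h => hx (hS s hs x h))⟩
  haveI := hsol
  haveI : Group.IsSolvable f.range := Group.isSolvable_of_surjective f.rangeRestrict_surjective
  exact Group.isSolvable_of_isSolvable_injective (f := Subgroup.inclusion hle) (Subgroup.inclusion_injective hle)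

theorem isSolvable_pair {n : ℕ} {b c : Perm (Fin n)} (hb : b.IsSwap) (hc : c.IsSwap) :
    Group.IsSolvable (Subgroup.closure ({b, c} : Set (Perm (Fin n)))) := by
  refine isSolvable_small (b.support ∪ c.support) ?_ _ ?_
  · have := Finset.card_union_le b.support c.support
    rw [Perm.card_support_eq_two.2 hb, Perm.card_support_eq_two.2 hc] at this
    exact this
  · rintro s (rfl | rfl) x hx <;> rw [Finset.mem_union, not_or] at hx
    exacts [Perm.notMem_support.1 hx.1, Perm.notMem_support.1 hx.2]

theorem isSolvable_split {n : ℕ} {a b c : Perm (Fin n)} (hb : b.IsSwap) (hc : c.IsSwap)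
    (hab : a.Disjoint b) (hac : a.Disjoint c) (S : Set (Perm (Fin n))) (hS : S ⊆ {a, b, c}) :
    Group.IsSolvable (Subgroup.closure S) := by
  haveI := isSolvable_pair hb hc
  set K := Subgroup.closure ({b, c} : Set (Perm (Fin n)))
  haveI : Group.IsSolvable (Subgroup.zpowers a) := Group.isSolvable_of_comm fun x y => (IsMulCommutative.is_comm.comm x y)
  have hcen : K ≤ Subgroup.centralizer ({a} : Set (Perm (Fin n))) := by
    rw [Subgroup.closure_le]
    rintro s (rfl | rfl)
    exacts [Subgroup.mem_centralizer_singleton_iff.2 hab.commute.eq.symm,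
      Subgroup.mem_centralizer_singleton_iff.2 hac.commute.eq.symm]
  have hcomm : ∀ (x : Subgroup.zpowers a) (y : K),
      Commute ((Subgroup.zpowers a).subtype x) (K.subtype y) := fun x y => by
    obtain ⟨k, hk⟩ := Subgroup.mem_zpowers_iff.1 x.2
    have h1 : Commute a (y : Perm (Fin n)) :=
      (Subgroup.mem_centralizer_singleton_iff.1 (hcen y.2)).symm
    simpa [← hk] using h1.zpow_left k
  let f := MonoidHom.noncommCoprod (Subgroup.zpowers a).subtype K.subtype hcomm
  have hle : Subgroup.closure S ≤ f.range := by
    rw [Subgroup.closure_le]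
    intro s hs
    rcases hS hs with rfl | rfl | rfl
    · exact ⟨(⟨s, Subgroup.mem_zpowers s⟩, 1), by simp [f]⟩
    · exact ⟨(1, ⟨s, Subgroup.subset_closure (by simp)⟩), by simp [f]⟩
    · exact ⟨(1, ⟨s, Subgroup.subset_closure (by simp)⟩), by simp [f]⟩
  haveI : Group.IsSolvable f.range := Group.isSolvable_of_surjective f.rangeRestrict_surjective
  exact Group.isSolvable_of_isSolvable_injective (f := Subgroup.inclusion hle) (Subgroup.inclusion_injective hle)


/-- In a finite symmetric group, any three transpositions generate a solvable subgroup. -/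
theorem result (n : ℕ) (a b c : Equiv.Perm (Fin n))
    (ha : a.IsSwap) (hb : b.IsSwap) (hc : c.IsSwap) :
    Group.IsSolvable (Subgroup.closure ({a, b, c} : Set (Equiv.Perm (Fin n)))) := by
  classical
  have hd : ∀ x y : Equiv.Perm (Fin n), ¬ x.Disjoint y → 1 ≤ (x.support ∩ y.support).card := by
    intro x y h
    rw [Finset.one_le_card]
    by_contra he
    exact h (Equiv.Perm.disjoint_iff_disjoint_support.2
      (Finset.disjoint_iff_inter_eq_empty.2 (Finset.not_nonempty_iff_eq_empty.1 he)))
  by_cases h1 : a.Disjoint b ∧ a.Disjoint c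
  · exact isSolvable_split hb hc h1.1 h1.2 _ subset_rfl
  by_cases h2 : b.Disjoint a ∧ b.Disjoint c
  · exact isSolvable_split ha hc h2.1 h2.2 _ (by simp [Set.insert_subset_iff])
  by_cases h3 : c.Disjoint a ∧ c.Disjoint b
  · exact isSolvable_split ha hb h3.1 h3.2 _ (by simp [Set.insert_subset_iff])
  refine isSolvable_small (a.support ∪ b.support ∪ c.support) ?_ _ ?_
  · have ca := Equiv.Perm.card_support_eq_two.2 ha
    have cb := Equiv.Perm.card_support_eq_two.2 hb
    have cc := Equiv.Perm.card_support_eq_two.2 hc
    have e1 := Finset.card_union_add_card_inter (a.support ∪ b.support) c.support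
    have e2 := Finset.card_union_add_card_inter a.support b.support
    rw [Finset.union_inter_distrib_right] at e1
    have m1 := Finset.card_le_card (Finset.subset_union_left (s₁ := a.support ∩ c.support)
      (s₂ := b.support ∩ c.support))
    have m2 := Finset.card_le_card (Finset.subset_union_right (s₁ := a.support ∩ c.support)
      (s₂ := b.support ∩ c.support))
    rw [Equiv.Perm.disjoint_comm (f := b) (g := a)] at h2
    rw [Equiv.Perm.disjoint_comm (f := c) (g := a), Equiv.Perm.disjoint_comm (f := c) (g := b)] at h3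
    have q1 := hd a b
    have q2 := hd a c
    have q3 := hd b c
    by_cases d1 : a.Disjoint b
    · have d2 : ¬ a.Disjoint c := fun d => h1 ⟨d1, d⟩
      have d3 : ¬ b.Disjoint c := fun d => h2 ⟨d1, d⟩
      have := q2 d2
      have := q3 d3
      have := Finset.card_union_of_disjoint (s := a.support ∩ c.support) (t := b.support ∩ c.support)
        ((Equiv.Perm.disjoint_iff_disjoint_support.1 d1).mono Finset.inter_subset_left
          Finset.inter_subset_left)
      omega
    · have := q1 d1
      by_cases d2 : a.Disjoint c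
      · have d3 : ¬ b.Disjoint c := fun d => h3 ⟨d2, d⟩
        have := q3 d3; omega
      · have := q2 d2; omega
  · rintro s (rfl | rfl | rfl) x hx <;>
      simp only [Finset.mem_union, not_or] at hx
    exacts [Equiv.Perm.notMem_support.1 hx.1.1, Equiv.Perm.notMem_support.1 hx.1.2,
      Equiv.Perm.notMem_support.1 hx.2]

end Cfsg.Agent.S4337
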