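import Cfsg.Statements.S4339
import Cfsg.Agent.Lib.BrauerReynolds.Main
import Cfsg.Agent.Lib.SylowNumber.Small
import Cfsg.Agent.Lib.PSolvable.PSolv

set_option autoImplicit false
set_option linter.style.haveILetI false
open Cfsg

namespace Cfsg.Agent.S4339

open Subgroup
open Cfsg.Agent.Lib
open scoped commutatorElement

universe u

theorem dvd_primePow_split {q k m : ℕ} (hq : q.Prime) (h : m ∣ q ^ k) : ∃ j, m = q ^ j := by
  obtain ⟨j, -, hj⟩ := (Nat.dvd_prime_pow hq).1 h
  exact ⟨j, hj⟩

theorem fRep_not_primePow {p n q k : ℕ} (hp : 1 < p) (hq : q.Prime) (hn : n < p)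
    (hF : BrauerReynolds.FRep p n) : 1 + n * p ≠ q ^ k := by
  intro hqk
  obtain ⟨h, u, hh, hu, he⟩ := hF
  have h1 : h = 1 := by
    by_contra hne
    have e1 : 2 * u * p ≤ h * u * p :=
      Nat.mul_le_mul_right p (Nat.mul_le_mul_right u (by omega : 2 ≤ h))
    have e2 : n * (u + 1) < p * (u + 1) := Nat.mul_lt_mul_of_pos_right hn (by omega)
    have e3 : p ≤ u * p := Nat.le_mul_of_pos_left p hu
    nlinarith
  subst h1
  have hdvd : u + 1 ∣ p - 1 := by
    have e1 : u + 1 ∣ u * p + 1 := by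
      have e2 : n * (u + 1) = (u * p + 1) + u * (u + 1) := by rw [he]; ring
      exact (Nat.dvd_add_left (dvd_mul_left _ _)).1 (e2 ▸ dvd_mul_left (u + 1) n)
    have e3 : (u + 1) * p = (u * p + 1) + (p - 1) := by
      rw [Nat.add_mul, one_mul]; omega
    exact (Nat.dvd_add_right e1).1 (e3 ▸ dvd_mul_right (u + 1) p)
  obtain ⟨t, ht⟩ := hdvd
  have hpt : p = (u + 1) * t + 1 := by omega
  have hkey : (u + 1) * (1 + n * p) = (u + 1) * ((u * t + 1) * ((u + 1) * t + u + 2)) := by
    calc (u + 1) * (1 + n * p) = (u + 1) + n * (u + 1) * p := by ring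
      _ = (u + 1) + (1 * u * p + u ^ 2 + u + 1) * p := by rw [he]
      _ = (u * p + 1) * (p + (u + 1)) := by ring
      _ = _ := by rw [hpt]; ring
  have hfac : q ^ k = (u * t + 1) * ((u + 1) * t + u + 2) :=
    hqk ▸ Nat.eq_of_mul_eq_mul_left (by omega) hkey
  have ht1 : 0 < t := by
    rcases Nat.eq_zero_or_pos t with rfl | h
    · simp at hpt; omega
    · exact h
  have hut : u < t := by
    by_contra hle
    have e1 : (u + 1) * t ≤ (u + 1) * u := Nat.mul_le_mul_left _ (by omega)
    have e2 : n * (u + 1) < p * (u + 1) := Nat.mul_lt_mul_of_pos_right hn (by omega)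
    nlinarith
  obtain ⟨a, ha⟩ := dvd_primePow_split hq (hfac ▸ dvd_mul_right (u * t + 1) _)
  obtain ⟨b, hb⟩ := dvd_primePow_split hq (hfac ▸ dvd_mul_left ((u + 1) * t + u + 2) _)
  have hA : 1 < q ^ a := by rw [← ha]; nlinarith
  have hlt : q ^ a < q ^ b := by rw [← ha, ← hb]; nlinarith
  have hab : a < b := (Nat.pow_lt_pow_iff_right hq.one_lt).1 hlt
  have h2 : 2 * (u * t + 1) ≤ (u + 1) * t + u + 2 := by
    rw [ha, hb]
    calc 2 * q ^ a ≤ q * q ^ a := Nat.mul_le_mul_right _ hq.two_le
      _ = q ^ (a + 1) := by ring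
      _ ≤ q ^ b := Nat.pow_le_pow_right hq.pos hab
  have hu1 : u = 1 := by
    by_contra hne
    have : 2 * t ≤ u * t := Nat.mul_le_mul_right t (by omega)
    nlinarith
  subst hu1
  have ha0 : a ≠ 0 := by
    rintro rfl
    simp at hA
  have q1 : q ∣ t + 1 := by
    have : q ∣ 1 * t + 1 := ha ▸ dvd_pow_self q ha0
    rwa [one_mul] at this
  have q2 : q ∣ 2 * (t + 1) + 1 := by
    have h' : q ∣ (1 + 1) * t + 1 + 2 := hb ▸ dvd_pow_self q (by omega)
    convert h' using 1
    ring
  exact hq.not_dvd_one ((Nat.dvd_add_right (q1.mul_left 2)).1 q2)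

theorem succ_le_of_mod {p x : ℕ} (hx : 1 < x) (h : x ≡ 1 [MOD p]) : p + 1 ≤ x := by
  have := Nat.le_of_dvd (by omega) ((Nat.modEq_iff_dvd' hx.le).1 h.symm)
  omega

theorem simple_not_primePow {G : Type*} [Group G] [Finite G] [IsSimpleGroup G]
    (hG : ¬ IsMulCommutative G) {p : ℕ} [Fact p.Prime]
    (hp : ¬ (3 < p ∧ ∃ k : ℕ, p + 1 = 2 ^ k)) (hdvd : p ∣ Nat.card G)
    (hn : Nat.card (Sylow p G) < p ^ 2) {q k : ℕ} (hq : q.Prime) :
    Nat.card (Sylow p G) ≠ q ^ k := by
  intro hqk
  have hpr : p.Prime := Fact.out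
  let P : Sylow p G := default
  have hP : Nat.card (P : Subgroup G) = p :=
    SylowNumber.card_sylow_eq_prime_of_lt_sq hG hdvd hn P
  have hperf : commutator G = ⊤ := by
    rcases (inferInstance : (commutator G).Normal).eq_bot_or_eq_top with h | h
    · exfalso
      refine hG ⟨⟨fun a b => ?_⟩⟩
      have h1 : ⁅a, b⁆ ∈ commutator G := Subgroup.commutator_mem_commutator (mem_top a) (mem_top b)
      rw [h, mem_bot, commutatorElement_eq_one_iff_mul_comm] at h1
      exact h1
    · exact h
  haveI := PSolvable.pPrimeCore_characteristic (p := p) (G := G)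
  haveI : (Cfsg.pPrimeCore p G).Normal := inferInstance
  have hcore : Cfsg.pPrimeCore p G = ⊥ := by
    rcases (inferInstance : (Cfsg.pPrimeCore p G).Normal).eq_bot_or_eq_top with h | h
    · exact h
    · exfalso
      have := PSolvable.pPrimeCore_not_dvd (p := p) (G := G)
      rw [h, Subgroup.card_top] at this
      exact this hdvd
  have hcard : Nat.card (G ⧸ Cfsg.pPrimeCore p G) = Nat.card G :=
    Nat.card_congr ((QuotientGroup.quotientMulEquivOfEq hcore).trans
      QuotientGroup.quotientBot).toEquiv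
  set s := Nat.card (Sylow p G) with hs
  have hmod : s ≡ 1 [MOD p] := card_sylow_modEq_one p G
  have hs1 : 1 < s := by
    by_contra hle
    have h0 : 0 < s := Nat.card_pos
    refine SmallGroups.normalizer_sylow_ne_top hG hdvd P ?_
    rw [← index_eq_one, ← SylowNumber.card_sylow_eq_index P]
    omega
  have hsp : p + 1 ≤ s := succ_le_of_mod hs1 hmod
  obtain ⟨n, hn'⟩ : ∃ n, s = 1 + n * p := ⟨s / p, by
    have h1 := Nat.div_add_mod s p
    rw [hmod, Nat.mod_eq_of_lt hpr.one_lt, mul_comm] at h1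
    omega⟩
  have hnp : n < p := by
    by_contra h
    have : p * p ≤ n * p := Nat.mul_le_mul_right p (by omega)
    have : p ^ 2 = p * p := pow_two p
    omega
  -- the normalizer has order `p * c`
  obtain ⟨c, hc⟩ : p ∣ Nat.card (normalizer ((P : Subgroup G) : Set G)) :=
    (dvd_of_eq hP.symm).trans (Subgroup.card_dvd_of_le le_normalizer)
  have hGc : Nat.card G = p * (c * s) := by
    rw [← card_mul_index (normalizer ((P : Subgroup G) : Set G)), hc,
      ← SylowNumber.card_sylow_eq_index P, mul_assoc]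
  have hmc : c * s % p = c % p := by
    rw [hn', show c * (1 + n * p) = c + p * (c * n) by ring, Nat.add_mul_mod_self_left]
  rcases BrauerReynolds.main hperf P hP hn' with hF | ⟨F, _, _, -, h3, h2, -⟩ |
    ⟨m, F, _, _, -, hm, h3, h4, -⟩
  · exact fRep_not_primePow hpr.one_lt hq hnp hF (hn' ▸ hqk)
  · rw [hcard, hGc] at h2
    have h5 : 2 * (c * s) = (p + 1) * (p - 1) := by
      refine Nat.eq_of_mul_eq_mul_left hpr.pos ?_
      calc p * (2 * (c * s)) = 2 * (p * (c * s)) := by ring
        _ = _ := by rw [h2]; ring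
    have h6 : 2 * (c * s) + 1 = p * p := by
      rw [h5]
      obtain ⟨r, rfl⟩ := Nat.exists_eq_succ_of_ne_zero hpr.ne_zero
      simp only [Nat.succ_eq_add_one, Nat.add_sub_cancel]
      ring
    have h7 : p ∣ 2 * c + 1 := by
      have e : p * p = (2 * c + 1) + p * (2 * (c * n)) := by
        rw [← h6, hn']; ring
      exact (Nat.dvd_add_left (dvd_mul_right _ _)).1 (e ▸ dvd_mul_right p p)
    obtain ⟨j, hj⟩ := h7
    have hj1 : j = 1 := by
      by_contra hne
      have hj0 : j ≠ 0 := fun h => by simp [h] at hj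
      have e1 : p * 2 ≤ p * j := Nat.mul_le_mul_left p (by omega)
      have e2 : 2 * c * (p + 1) ≤ 2 * c * s := Nat.mul_le_mul_left _ hsp
      nlinarith
    subst hj1
    have hse : s = p + 1 := by
      have e : 2 * c * s = 2 * c * (p + 1) := by
        rw [mul_one] at hj
        have e1 : (2 * c + 1) * (2 * c + 1) = 2 * c * (2 * c + 1 + 1) + 1 := by ring
        rw [hj] at e1
        rw [show 2 * c * s = 2 * (c * s) by ring]
        omega
      exact Nat.eq_of_mul_eq_mul_left (by omega) e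
    have hodd : p % 2 = 1 := (hpr.eq_two_or_odd).resolve_left (by omega)
    have hk0 : k ≠ 0 := by rintro rfl; simp [hse] at hqk; omega
    have hq2 : q = 2 := by
      have : 2 ∣ q ^ k := hqk ▸ (by omega : 2 ∣ s)
      exact ((Nat.prime_dvd_prime_iff_eq Nat.prime_two hq).1 (Nat.prime_two.dvd_of_dvd_pow this)).symm
    exact hp ⟨h3, k, by rw [← hse, hqk, hq2]⟩
  · rw [hcard, hGc] at h4
    have h5 : c * s = (p - 1) * (p - 2) := Nat.eq_of_mul_eq_mul_left hpr.pos h4
    have h6 : c * s + 3 * p = p * p + 2 := by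
      rw [h5]
      obtain ⟨r, rfl⟩ := Nat.exists_eq_add_of_le (hpr.two_le)
      rw [show 2 + r - 1 = r + 1 by omega, show 2 + r - 2 = r by omega]
      ring
    have hcp : c < p := by
      by_contra h
      have : p * (p + 1) ≤ c * s := Nat.mul_le_mul (by omega) hsp
      nlinarith
    have hc2 : c = 2 := by
      have e := congrArg (· % p) h6
      simp only [Nat.add_mul_mod_self_right, Nat.mul_add_mod_self_left, hmc] at e
      rw [Nat.mod_eq_of_lt hcp, Nat.mod_eq_of_lt (by omega : 2 < p)] at e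
      exact e
    have hm2 : 2 ≤ m := by
      by_contra h
      interval_cases m <;> omega
    have hse : s = 2 ^ (m - 1) * (2 ^ m - 1) := by
      have e : 2 ^ m = 2 * 2 ^ (m - 1) := by
        rw [← pow_succ']; congr 1; omega
      rw [hc2, hm, show 2 ^ m + 1 - 1 = 2 ^ m by omega, show 2 ^ m + 1 - 2 = 2 ^ m - 1 by omega] at h5
      nth_rewrite 1 [e] at h5
      rw [mul_assoc] at h5
      exact Nat.eq_of_mul_eq_mul_left two_pos h5
    have hq2 : q = 2 := by
      have : 2 ∣ q ^ k := by
        rw [← hqk, hse]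
        exact dvd_mul_of_dvd_left (dvd_pow_self 2 (by omega)) _
      exact ((Nat.prime_dvd_prime_iff_eq Nat.prime_two hq).1 (Nat.prime_two.dvd_of_dvd_pow this)).symm
    obtain ⟨j, hj⟩ := dvd_primePow_split Nat.prime_two (hq2 ▸ hqk ▸ hse ▸ dvd_mul_left (2 ^ m - 1) _)
    have e : 2 ^ m = 2 * 2 ^ (m - 1) := by
      rw [← pow_succ']; congr 1; omega
    have e' : 2 ≤ 2 ^ (m - 1) := Nat.le_self_pow (by omega) 2
    rcases j with _ | j
    · simp at hj; omega
    · rw [pow_succ'] at hj; omega

theorem isPSolvable_of_primePow {p : ℕ} [Fact p.Prime]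
    (hp : ¬ (3 < p ∧ ∃ k : ℕ, p + 1 = 2 ^ k)) {G : Type u} [Group G] [Finite G]
    (hn : Nat.card (Sylow p G) < p ^ 2) {q k : ℕ} (hq : q.Prime)
    (hqk : Nat.card (Sylow p G) = q ^ k) : IsPSolvable p G := by
  induction hN : Nat.card G using Nat.strong_induction_on generalizing G k with
  | _ N ih =>
    subst hN
    rcases subsingleton_or_nontrivial G with hG | hG
    · exact PSolvable.isPSolvable_of_coprime (by rw [Nat.card_unique]; exact Nat.coprime_one_left p)
    by_cases hs : IsSimpleGroup G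
    · by_cases hc : IsMulCommutative G
      · exact PSolvable.isPSolvable_of_isMulCommutative
      by_cases hdvd : p ∣ Nat.card G
      · exact absurd hqk (simple_not_primePow hc hp hdvd hn hq)
      · exact PSolvable.isPSolvable_of_coprime
          (Nat.Coprime.symm ((Fact.out : p.Prime).coprime_iff_not_dvd.2 hdvd))
    obtain ⟨K, hK, hKb, hKt⟩ : ∃ K : Subgroup G, K.Normal ∧ K ≠ ⊥ ∧ K ≠ ⊤ := by
      by_contra h
      push Not at h
      exact hs ⟨fun K hK => or_iff_not_imp_left.2 (h K hK)⟩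
    let P : Sylow p G := default
    set N := ((P : Subgroup G) ⊔ K) ⊓ normalizer (((P : Subgroup G) ⊓ K : Subgroup G) : Set G) with hN
    haveI : (((P : Subgroup G) ⊓ K).subgroupOf N).Normal :=
      Subgroup.normal_subgroupOf_of_le_normalizer inf_le_right
    have hf := SylowNumber.card_sylow_product_formula K P N rfl
    have hpos : 0 < Nat.card (Sylow p G) := Nat.card_pos
    have hdvdK : Nat.card (Sylow p K) ∣ Nat.card (Sylow p G) :=
      hf ▸ dvd_mul_of_dvd_left (dvd_mul_left _ _) _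
    have hdvdQ : Nat.card (Sylow p (G ⧸ K)) ∣ Nat.card (Sylow p G) :=
      hf ▸ dvd_mul_of_dvd_left (dvd_mul_right _ _) _
    obtain ⟨a, ha⟩ := dvd_primePow_split hq (hqk ▸ hdvdK)
    obtain ⟨b, hb⟩ := dvd_primePow_split hq (hqk ▸ hdvdQ)
    have hKlt : Nat.card K < Nat.card G :=
      lt_of_le_of_ne (card_le_card_group K) fun h => hKt (eq_top_of_card_eq K h)
    have hQlt : Nat.card (G ⧸ K) < Nat.card G := by
      rw [← index_eq_card, ← card_mul_index K]
      exact lt_mul_of_one_lt_left (Nat.pos_of_ne_zero index_ne_zero_of_finite)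
        ((one_lt_card_iff_ne_bot K).2 hKb)
    exact PSolvable.isPSolvable_of_normal K
      (ih _ hKlt ((Nat.le_of_dvd hpos hdvdK).trans_lt hn) ha rfl)
      (ih _ hQlt ((Nat.le_of_dvd hpos hdvdQ).trans_lt hn) hb rfl)

theorem primePow_of_parts {p n : ℕ} (hn0 : n ≠ 0) (hn : n < p ^ 2)
    (h : ∀ l : ℕ, l ^ n.factorization l ≡ 1 [MOD p]) :
    (n = 1 ∨ p + 1 ≤ n) ∧ ∃ q k : ℕ, q.Prime ∧ n = q ^ k := by
  rcases eq_or_ne n 1 with rfl | h1
  · exact ⟨Or.inl rfl, 2, 0, Nat.prime_two, rfl⟩
  have big : ∀ l, l.Prime → l ∣ n → p + 1 ≤ l ^ n.factorization l := fun l hl hd =>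
    succ_le_of_mod (one_lt_pow₀ hl.one_lt (hl.factorization_pos_of_dvd hn0 hd).ne') (h l)
  set q := n.minFac with hq
  have hqp : q.Prime := Nat.minFac_prime h1
  have hbig := big q hqp n.minFac_dvd
  refine ⟨Or.inr (hbig.trans (Nat.le_of_dvd (Nat.pos_of_ne_zero hn0) (Nat.ordProj_dvd n q))),
    q, n.factorization q, hqp, ?_⟩
  suffices hrem : n / q ^ n.factorization q = 1 by
    conv_lhs => rw [← Nat.ordProj_mul_ordCompl_eq_self n q, hrem, mul_one]
  by_contra hne
  set r := n / q ^ n.factorization q with hr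
  have hr1 : r ≠ 1 := hne
  set l := r.minFac with hl
  have hlp : l.Prime := Nat.minFac_prime hr1
  have hln : l ∣ n := (r.minFac_dvd).trans (Nat.ordCompl_dvd n q)
  have hlq : l ≠ q := by
    intro e
    have h' : l ∣ r := r.minFac_dvd
    rw [e, hr] at h'
    exact Nat.not_dvd_ordCompl hqp hn0 h'
  have hcop : (q ^ n.factorization q).Coprime (l ^ n.factorization l) :=
    Nat.Coprime.pow _ _ ((Nat.coprime_primes hqp hlp).2 hlq.symm)
  have hmul : q ^ n.factorization q * l ^ n.factorization l ≤ n :=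
    Nat.le_of_dvd (Nat.pos_of_ne_zero hn0)
      (hcop.mul_dvd_of_dvd_of_dvd (Nat.ordProj_dvd n q) (Nat.ordProj_dvd n l))
  have : (p + 1) * (p + 1) ≤ n := (Nat.mul_le_mul hbig (big l hlp hln)).trans hmul
  nlinarith

theorem primePow_of_isPSolvable {p : ℕ} [Fact p.Prime] {G : Type u} [Group G] [Finite G]
    (hG : IsPSolvable p G) (hn : Nat.card (Sylow p G) < p ^ 2) :
    ∃ q k : ℕ, q.Prime ∧ Nat.card (Sylow p G) = q ^ k := by
  induction hN : Nat.card G using Nat.strong_induction_on generalizing G with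
  | _ N ih =>
    subst hN
    rcases subsingleton_or_nontrivial G with hs | hs
    · haveI : Subsingleton (Sylow p G) := ⟨fun A B => Sylow.ext (Subsingleton.elim _ _)⟩
      exact ⟨2, 0, Nat.prime_two, Nat.card_unique⟩
    obtain ⟨M, hM, hMb, hMgood⟩ : ∃ M : Subgroup G, M.Normal ∧ M ≠ ⊥ ∧
        (IsPGroup p M ∨ (Nat.card M).Coprime p) := by
      rcases PSolvable.pCore_ne_bot_or_pPrimeCore_ne_bot hG with h | h
      · exact ⟨_, inferInstance, h, Or.inl PSolvable.pCore_isPGroup⟩
      · haveI := PSolvable.pPrimeCore_characteristic (p := p) (G := G)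
        exact ⟨_, inferInstance, h, Or.inr PSolvable.pPrimeCore_coprime⟩
    let P : Sylow p G := default
    have hf := SylowNumber.card_sylow_eq_quotient_mul_relIndex M P
    set a := Nat.card (Sylow p (G ⧸ M))
    set b := (normalizer ((P : Subgroup G) : Set G)).relIndex M with hb
    have ha0 : 0 < a := Nat.card_pos
    have hb0 : b ≠ 0 := index_ne_zero_of_finite
    have hale : a ≤ Nat.card (Sylow p G) := hf ▸ Nat.le_mul_of_pos_right a (Nat.pos_of_ne_zero hb0)
    have hQlt : Nat.card (G ⧸ M) < Nat.card G := by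
      rw [← index_eq_card, ← card_mul_index M]
      exact lt_mul_of_one_lt_left (Nat.pos_of_ne_zero index_ne_zero_of_finite)
        ((one_lt_card_iff_ne_bot M).2 hMb)
    obtain ⟨q, k, hq, (hak : a = q ^ k)⟩ := ih _ hQlt (PSolvable.isPSolvable_quotient hG M) (hale.trans_lt hn) rfl
    rcases hMgood with hMp | hMc
    · have : b = 1 := relIndex_eq_one.2 ((hMp.le_sylow_of_normal P).trans le_normalizer)
      exact ⟨q, k, hq, by rw [hf, this, mul_one, hak]⟩
    have hparts := SylowNumber.ordProj_relIndex_modEq_one M P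
      ((Fact.out : p.Prime).coprime_iff_not_dvd.1 hMc.symm)
    obtain ⟨hb1, hbpp⟩ := primePow_of_parts hb0
      ((hf ▸ Nat.le_mul_of_pos_left b ha0 : b ≤ Nat.card (Sylow p G)).trans_lt hn) hparts
    rcases hb1 with hb1 | hb1
    · exact ⟨q, k, hq, by rw [hf, hb1, mul_one, hak]⟩
    rcases eq_or_ne a 1 with ha1 | ha1
    · rw [hf, ha1, one_mul]; exact hbpp
    have := succ_le_of_mod (show 1 < a by omega) (card_sylow_modEq_one p (G ⧸ M))
    have := Nat.mul_le_mul this hb1
    rw [← hf] at this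
    nlinarith

/-- Let G be a finite group and p a prime such that it is not the case that p > 3 with p + 1 a power of 2. If the number of Sylow p-subgroups of G is less than p², then G is p-solvable if and only if that number is a power of a prime (possibly 1). -/
theorem result {G : Type*} [Group G] [Finite G]
    (p : ℕ) [Fact p.Prime] (hp : ¬ (3 < p ∧ ∃ k : ℕ, p + 1 = 2 ^ k)) (hn : Nat.card (Sylow p G) < p ^ 2) :
    Cfsg.IsPSolvable p G ↔ ∃ q k : ℕ, q.Prime ∧ Nat.card (Sylow p G) = q ^ k := by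
  constructor
  · exact fun hG => primePow_of_isPSolvable hG hn
  · rintro ⟨q, k, hq, hqk⟩
    exact isPSolvable_of_primePow hp hn hq hqk

end Cfsg.Agent.S4339
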