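import Cfsg.Statements.S4344
import Cfsg.Agent.Lib.SylowNumber.Basic

set_option autoImplicit false
open Cfsg

namespace Cfsg.Agent.S4344

/-- Let S be a finite non-abelian simple group, M a maximal subgroup of S and C a cyclic normal subgroup of M. If a Sylow p-subgroup P of S (for a prime p dividing the order of S) is contained in C, then the number of Sylow p-subgroups of S equals the index of M. -/
theorem result {S : Type*} [Group S] [Finite S]
    [IsSimpleGroup S] (hS : ¬ IsMulCommutative S) (p : ℕ) [Fact p.Prime] (hp : p ∣ Nat.card S)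
    (M : Subgroup S) (hM : IsCoatom M) (C : Subgroup S) (hCM : C ≤ M) (hCn : (C.subgroupOf M).Normal)
    (hC : IsCyclic C) (P : Sylow p S) (hP : (P : Subgroup S) ≤ C) :
    Nat.card (Sylow p S) = M.index := by
  rw [Lib.SylowNumber.card_sylow_eq_index P]
  congr 1
  have hPM : (P : Subgroup S) ≤ M := hP.trans hCM
  have hMN : M ≤ Subgroup.normalizer ((P : Subgroup S) : Set S) := by
    intro m hm
    rw [Subgroup.mem_normalizer_iff]
    intro y
    have key : ∀ m ∈ M, ∀ z ∈ (P : Subgroup S), m * z * m⁻¹ ∈ (P : Subgroup S) := by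
      intro m hm z hz
      haveI := hC
      -- `P` is the unique Sylow `p`-subgroup of the commutative group `C`
      have hmemC : ∀ w ∈ (P : Subgroup S), m * w * m⁻¹ ∈ C := fun w hw =>
        hCn.conj_mem ⟨w, hCM (hP hw)⟩ (hP hw) ⟨m, hm⟩
      have hcomm : ∀ a b : C, a * b = b * a := fun a b => IsMulCommutative.is_comm.comm a b
      haveI hPn : ((P : Subgroup S).subgroupOf C).Normal := ⟨fun a ha g => by
        rwa [hcomm g a, mul_inv_cancel_right]⟩
      let T : Sylow p C := P.subtype hP
      haveI hTn : (T : Subgroup C).Normal := hPn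
      haveI : Subsingleton (Sylow p C) := by
        rw [← Finite.card_le_one_iff_subsingleton, Lib.SylowNumber.card_sylow_eq_index T,
          Subgroup.normalizer_eq_top, Subgroup.index_top]
      have hz' : IsPGroup p ((((P : Subgroup S).map (MulAut.conj m).toMonoidHom)).subgroupOf C) :=
        (P.2.map _).comap_subtype
      obtain ⟨U, hU⟩ := hz'.exists_le_sylow
      rw [Subsingleton.elim U T] at hU
      exact hU (x := ⟨m * z * m⁻¹, hmemC z hz⟩)
        (Subgroup.mem_map_of_mem (MulAut.conj m).toMonoidHom hz)
    refine ⟨key m hm y, fun h => ?_⟩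
    have := key _ (inv_mem hm) _ h
    simpa [mul_assoc] using this
  refine (hM.le_iff.1 hMN).resolve_left fun htop => ?_
  have hn : (P : Subgroup S).Normal := Subgroup.normalizer_eq_top_iff.1 htop
  rcases hn.eq_bot_or_eq_top with h | h
  · exact P.ne_bot_of_dvd_card hp h
  · exact hM.1 (top_le_iff.1 (h ▸ hPM))

end Cfsg.Agent.S4344
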