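import Cfsg.Statements.S4345
import Cfsg.Agent.Lib.SylowNumber.Factor

set_option autoImplicit false
open Cfsg

namespace Cfsg.Agent.S4345

/-- Let G be a finite solvable group and p, ℓ primes. Then the largest power of ℓ dividing the number of Sylow p-subgroups of G is congruent to 1 modulo p. -/
theorem result {G : Type*} [Group G] [Finite G]
    (hG : Group.IsSolvable G) (p ℓ : ℕ) [Fact p.Prime] (hℓ : ℓ.Prime) :
    ℓ ^ (Nat.card (Sylow p G)).factorization ℓ ≡ 1 [MOD p] := by
  refine (Lib.SylowNumber.sylowNumber_induction (p := p)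
    (fun n => n ≠ 0 ∧ ℓ ^ n.factorization ℓ ≡ 1 [MOD p]) ⟨one_ne_zero, by simp [Nat.ModEq]⟩
    ?_ ?_ (G := G) ?_).2
  · rintro a b ⟨ha, ha'⟩ ⟨hb, hb'⟩
    refine ⟨mul_ne_zero ha hb, ?_⟩
    rw [Nat.factorization_mul ha hb, Finsupp.add_apply, pow_add]
    exact (ha'.mul hb').trans (by simp [Nat.ModEq])
  · intro r k hr hk hk0
    refine ⟨pow_ne_zero k hr.ne_zero, ?_⟩
    by_cases h : r = ℓ
    · subst h; rwa [hr.factorization_pow, Finsupp.single_eq_same]
    · rw [hr.factorization_pow, Finsupp.single_eq_of_ne (Ne.symm h), pow_zero]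
  · intro S _ _ hS hsol _
    haveI := hsol hG
    haveI := hS
    have hcomm : ∀ a b : S, a * b = b * a := IsSimpleGroup.comm_iff_isSolvable.2 inferInstance
    have P : Sylow p S := default
    have : (P : Subgroup S).Normal := ⟨fun a ha g => by
      rwa [hcomm g a, mul_inv_cancel_right]⟩
    rw [Lib.SylowNumber.card_sylow_eq_index P, Subgroup.normalizer_eq_top, Subgroup.index_top]
    exact ⟨one_ne_zero, by simp [Nat.ModEq]⟩

end Cfsg.Agent.S4345
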