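import Cfsg.Statements.S4346
import Cfsg.Agent.Lib.SylowNumber.TwentyTwo.CaseA
import Cfsg.Agent.Lib.SylowNumber.TwentyTwo.CaseB
import Cfsg.Agent.Lib.SylowNumber.Factor

set_option autoImplicit false
open Cfsg

namespace Cfsg.Agent.S4346

/-- No finite group has exactly 22 Sylow 3-subgroups. -/
theorem result {G : Type*} [Group G] [Finite G] : Nat.card (Sylow 3 G) ≠ 22 := by
  intro hG
  haveI : Fact (Nat.Prime 3) := ⟨by norm_num⟩
  haveI : Fact (Nat.Prime 11) := ⟨by norm_num⟩
  obtain ⟨S, _, _, hS, hna, hn⟩ := Lib.SylowNumber.exists_simple_of_atomic (p := 3) (n := 22)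
    (by norm_num)
    (by
      intro h
      obtain ⟨p, k, hp, -, hpk⟩ := (isPrimePow_nat_iff 22).1 h
      have h2 := (Nat.prime_dvd_prime_iff_eq Nat.prime_two hp).1
        (Nat.prime_two.dvd_of_dvd_pow (hpk.symm ▸ (by norm_num : 2 ∣ 22)))
      have h11 := (Nat.prime_dvd_prime_iff_eq (by norm_num : Nat.Prime 11) hp).1
        ((by norm_num : Nat.Prime 11).dvd_of_dvd_pow (hpk.symm ▸ (by norm_num : 11 ∣ 22)))
      omega)
    (fun m hm h1 => by
      have := Nat.le_of_dvd (by norm_num) hm
      interval_cases m <;> omega) hG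
  haveI := hS
  obtain ⟨P⟩ := (inferInstance : Nonempty (Sylow 3 S))
  rcases Lib.SylowNumber.TwentyTwo.card_three_or_lines hna hn P with h3 | h4
  · exact Lib.SylowNumber.TwentyTwo.not_case_three hna hn fun Q =>
      (Lib.SylowNumber.TwentyTwo.card_eq_card Q P).trans h3
  · refine Lib.SylowNumber.TwentyTwo.FourLines.contradiction
      (S := S) ⟨hna, hn, fun Q => ?_, fun Q => ?_, fun Q => ?_⟩
    all_goals
      rcases Lib.SylowNumber.TwentyTwo.card_three_or_lines hna hn Q with h | h
      · exact (Lib.SylowNumber.TwentyTwo.not_case_three hna hn fun R =>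
          (Lib.SylowNumber.TwentyTwo.card_eq_card R Q).trans h).elim
      · first
          | exact h.1
          | exact h.2.1
          | exact h.2.2

end Cfsg.Agent.S4346
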