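import Cfsg.Statements.S4347
import Cfsg.Agent.Lib.SylowNumber.Basic

set_option autoImplicit false
open Cfsg

namespace Cfsg.Agent.S4347

/-- Let G be a finite group and p a prime. Say a Sylow p-subgroup Q is redundant when every element of p-power order lies in some Sylow p-subgroup other than Q. Then G has no redundant Sylow p-subgroup if and only if some element of p-power order lies in exactly one Sylow p-subgroup. -/
theorem result {G : Type*} [Group G] [Finite G]
    (p : ℕ) [Fact p.Prime] :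
    (¬ ∃ Q : Sylow p G, ∀ x : G, (∃ k : ℕ, orderOf x = p ^ k) → ∃ P : Sylow p G, P ≠ Q ∧ x ∈ P) ↔
      ∃ x : G, (∃ k : ℕ, orderOf x = p ^ k) ∧ ∃! P : Sylow p G, x ∈ P := by
  constructor
  · intro h
    by_contra hne
    push Not at hne
    refine h ⟨default, fun x hx => ?_⟩
    obtain ⟨P, hP⟩ : ∃ P : Sylow p G, x ∈ P := by
      obtain ⟨k, hk⟩ := hx
      obtain ⟨P, hP⟩ := (IsPGroup.of_card (n := k)
        ((Nat.card_zpowers x).trans hk) : IsPGroup p (Subgroup.zpowers x)).exists_le_sylow
      exact ⟨P, hP (Subgroup.mem_zpowers x)⟩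
    by_contra hcon
    push Not at hcon
    refine hne x hx ⟨P, hP, fun R hR => ?_⟩
    have e1 : R = default := by by_contra h'; exact hcon R h' hR
    have e2 : P = default := by by_contra h'; exact hcon P h' hP
    rw [e1, e2]
  · rintro ⟨x, ⟨k, hk⟩, P, hP, huniq⟩ ⟨Q, hQ⟩
    obtain ⟨g, hg⟩ := MulAction.exists_smul_eq G P Q
    have hord : orderOf (g * x * g⁻¹) = p ^ k := by
      rw [← hk]; exact orderOf_injective (MulAut.conj g).toMonoidHom (MulEquiv.injective _) x
    obtain ⟨R, hR, hxR⟩ := hQ (g * x * g⁻¹) ⟨k, hord⟩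
    have hx' : x ∈ g⁻¹ • R := by
      show x ∈ ((g⁻¹ • R : Sylow p G) : Subgroup G)
      rw [Sylow.coe_subgroup_smul]
      exact ⟨g * x * g⁻¹, hxR, by simp [mul_assoc]⟩
    apply hR
    rw [← hg, ← huniq _ hx', smul_inv_smul]

end Cfsg.Agent.S4347
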