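import Cfsg.Statements.S4348
import Cfsg.Agent.Lib.SylowNumber.Basic

set_option autoImplicit false
open Cfsg

namespace Cfsg.Agent.S4348

/-- Let G be a finite group, p a prime and P a Sylow p-subgroup of G, and let O_p(G) be the largest normal p-subgroup of G. If P/O_p(G) is cyclic, then some element of p-power order of G lies in exactly one Sylow p-subgroup. -/
theorem result {G : Type*} [Group G] [Finite G]
    (p : ℕ) [Fact p.Prime] (P : Sylow p G)
    [hn : ((Cfsg.pCore p G).subgroupOf (P : Subgroup G)).Normal]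
    (hc : IsCyclic ((P : Subgroup G) ⧸ (Cfsg.pCore p G).subgroupOf (P : Subgroup G))) :
    ∃ x : G, (∃ k : ℕ, orderOf x = p ^ k) ∧ ∃! Q : Sylow p G, x ∈ Q := by
  set O := Cfsg.pCore p G with hO
  haveI hOn : O.Normal := Subgroup.sSup_normal _ fun _ h => h.1
  have hOp : IsPGroup p O := Sylow.sSup_of_normal _ (fun H hH => hH.2)
    (fun H hH => hH.1)
  obtain ⟨g, hg⟩ := hc.exists_generator
  obtain ⟨x, rfl⟩ := QuotientGroup.mk'_surjective _ g
  obtain ⟨k, hk⟩ := IsPGroup.iff_orderOf.1 P.2 x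
  refine ⟨x, ⟨k, by rwa [Subgroup.orderOf_coe]⟩, P, x.2, fun Q hQ => ?_⟩
  apply Sylow.ext
  refine (Subgroup.eq_of_le_of_card_ge (H := (P : Subgroup G)) (K := (Q : Subgroup G)) ?_ ?_).symm
  · intro y hy
    obtain ⟨n, hn⟩ := Subgroup.mem_zpowers_iff.1 (hg (QuotientGroup.mk' _ (⟨y, hy⟩ : P)))
    rw [← map_zpow] at hn
    have hm := QuotientGroup.eq.1 hn
    rw [Subgroup.mem_subgroupOf] at hm
    have h1 : ((x : G) ^ n)⁻¹ * y ∈ (Q : Subgroup G) :=
      hOp.le_sylow_of_normal Q (by simpa using hm)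
    simpa using mul_mem (zpow_mem (show (x : G) ∈ (Q : Subgroup G) from hQ) n) h1
  · rw [Q.card_eq_multiplicity, P.card_eq_multiplicity]

end Cfsg.Agent.S4348
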