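import Cfsg.Statements.S4349
import Cfsg.Agent.Lib.UniqueSylowPerm.Suff

set_option autoImplicit false
open Cfsg

namespace Cfsg.Agent.S4349

open Cfsg.Agent.Lib.UniqueSylowPerm Equiv in
private lemma good_iff_cycleType {n : ℕ} (x : Perm (Fin n)) :
    Good x ↔ (n ≤ x.support.card + 2 ∧ x.cycleType.Nodup) := by
  have hfix : (∀ a b c, x a = a → x b = b → x c = c → a = b ∨ a = c ∨ b = c) ↔
      n ≤ x.support.card + 2 := by
    have hc : x.supportᶜ.card + x.support.card = n := by
      rw [Finset.card_compl_add_card, Fintype.card_fin]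
    have h2 : x.supportᶜ.card ≤ 2 ↔
        ∀ a b c, x a = a → x b = b → x c = c → a = b ∨ a = c ∨ b = c := by
      constructor
      · intro h a b c ha hb hcc
        by_contra hh
        push Not at hh
        have := (Finset.two_lt_card_iff (s := x.supportᶜ)).2 ⟨a, b, c, by simpa using ha, by simpa using hb,
          by simpa using hcc, hh⟩
        exact absurd (this : 2 < x.supportᶜ.card) (by omega)
      · intro h
        by_contra hh
        obtain ⟨a, b, c, ha, hb, hcc, h1, h2', h3⟩ := Finset.two_lt_card_iff.1 (not_le.1 hh)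
        rcases h a b c (by simpa using ha) (by simpa using hb) (by simpa using hcc) with e | e | e
        exacts [h1 e, h2' e, h3 e]
    rw [← h2]
    omega
  have hper : ∀ a, x a ≠ a → MulAction.period x a = (x.cycleOf a).support.card := by
    intro a ha
    have hcyc := Equiv.Perm.isCycle_cycleOf x ha
    have key : ∀ k : ℤ, (MulAction.period x a : ℤ) ∣ k ↔
        ((x.cycleOf a).support.card : ℤ) ∣ k := by
      intro k
      rw [← zpow_apply_eq_iff, ← hcyc.orderOf, orderOf_dvd_iff_zpow_eq_one,
        ← Equiv.Perm.cycleOf_zpow_apply_self]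
      refine ⟨fun h => ?_, fun h => by rw [h]; rfl⟩
      obtain ⟨i, hi⟩ : ∃ i : ℕ, x.cycleOf a ^ k = x.cycleOf a ^ i := by
        obtain ⟨i, hi⟩ := (IsOfFinOrder.mem_powers_iff_mem_zpowers
          (isOfFinOrder_of_finite (x.cycleOf a))).2 ⟨k, rfl⟩
        exact ⟨i, hi.symm⟩
      rw [hi] at h ⊢
      exact (hcyc.pow_eq_one_iff' (by rwa [Equiv.Perm.cycleOf_apply_self])).2 h
    exact Nat.dvd_antisymm (Int.natCast_dvd_natCast.1 ((key _).2 dvd_rfl))
      (Int.natCast_dvd_natCast.1 ((key _).1 dvd_rfl))
  have hcyc : (∀ a b, x a ≠ a → x b ≠ b → MulAction.period x a = MulAction.period x b →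
      x.SameCycle a b) ↔ x.cycleType.Nodup := by
    rw [Equiv.Perm.cycleType_def, Multiset.nodup_map_iff_inj_on x.cycleFactorsFinset.nodup]
    constructor
    · intro h c hc d hd e
      rw [Finset.mem_val] at hc hd
      obtain ⟨a, ha⟩ := Finset.card_pos.1 (show 0 < c.support.card from
        lt_of_lt_of_le two_pos (Equiv.Perm.mem_cycleFactorsFinset_iff.1 hc).1.two_le_card_support)
      obtain ⟨b, hb⟩ := Finset.card_pos.1 (show 0 < d.support.card from
        lt_of_lt_of_le two_pos (Equiv.Perm.mem_cycleFactorsFinset_iff.1 hd).1.two_le_card_support)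
      have hca := Equiv.Perm.cycle_is_cycleOf ha hc
      have hdb := Equiv.Perm.cycle_is_cycleOf hb hd
      have hxa : x a ≠ a := Equiv.Perm.mem_support.1
        (Equiv.Perm.mem_cycleFactorsFinset_support_le hc ha)
      have hxb : x b ≠ b := Equiv.Perm.mem_support.1
        (Equiv.Perm.mem_cycleFactorsFinset_support_le hd hb)
      rw [hca, hdb]
      refine (h a b hxa hxb ?_).cycleOf_eq
      rw [hper a hxa, hper b hxb, ← hca, ← hdb]
      exact e
    · intro h a b ha hb e
      rw [hper a ha, hper b hb] at e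
      have hmem : ∀ c, x c ≠ c → x.cycleOf c ∈ x.cycleFactorsFinset := fun c hc =>
        Equiv.Perm.cycleOf_mem_cycleFactorsFinset_iff.2 (Equiv.Perm.mem_support.2 hc)
      have := h _ (hmem a ha) _ (hmem b hb) e
      have hb' : b ∈ (x.cycleOf b).support :=
        Equiv.Perm.mem_support_cycleOf_iff.2
          ⟨Equiv.Perm.SameCycle.refl x b, Equiv.Perm.mem_support.2 hb⟩
      rw [← this] at hb'
      exact (Equiv.Perm.mem_support_cycleOf_iff.1 hb').1
  exact and_congr hfix hcyc

/-- Let n ≥ 2 and let x be an element of 2-power order of the symmetric group of degree n. Then x lies in exactly one Sylow 2-subgroup if and only if x has at most two fixed points and the nontrivial cycles of x have pairwise different lengths. -/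
theorem result (n : ℕ) (hn : 2 ≤ n)
    (x : Equiv.Perm (Fin n)) (hx : ∃ k : ℕ, orderOf x = 2 ^ k) :
    (∃! P : Sylow 2 (Equiv.Perm (Fin n)), x ∈ P) ↔ (n ≤ x.support.card + 2 ∧ x.cycleType.Nodup) := by
  rw [← good_iff_cycleType]
  constructor
  · rintro ⟨P, -, hu⟩
    exact Cfsg.Agent.Lib.UniqueSylowPerm.good_of_unique hx
      fun R S hR hS => (hu R hR).trans (hu S hS).symm
  · intro hg
    obtain ⟨k, hk⟩ := hx
    obtain ⟨P, hP⟩ := (IsPGroup.of_card (n := k) (by rw [Nat.card_zpowers, hk]) :
      IsPGroup 2 (Subgroup.zpowers x)).exists_le_sylow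
    exact ⟨P, hP (Subgroup.mem_zpowers x), fun Q hQ =>
      Cfsg.Agent.Lib.UniqueSylowPerm.unique_of_good n x hg Q P hQ (hP (Subgroup.mem_zpowers x))⟩

end Cfsg.Agent.S4349
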