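import Cfsg.Statements.S4354
import Mathlib
import Cfsg.Agent.Lib.ClassSize.Counting
import Cfsg.Agent.Lib.CharP.SubnormalSylow

set_option autoImplicit false
open Cfsg

namespace Cfsg.Agent.S4354

open Subgroup

theorem conj_mem_normal {G : Type*} [Group G] {N : Subgroup G} [N.Normal] {g x : G}
    (h : g * x * g⁻¹ ∈ N) : x ∈ N := by
  have := (inferInstance : N.Normal).conj_mem _ h g⁻¹
  simpa [mul_assoc] using this

/-- Every `p`-element is conjugate into the centre of any given Sylow subgroup. -/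
theorem exists_conj_central {G : Type*} [Group G] [Finite G] {p : ℕ} [Fact p.Prime]
    (hcl : ∀ x : G, (∃ k : ℕ, orderOf x = p ^ k) →
      ¬ p ∣ (centralizer ({x} : Set G)).index) (R : Sylow p G) {x : G}
    (hx : ∃ k : ℕ, orderOf x = p ^ k) :
    ∃ g : G, g * x * g⁻¹ ∈ (R : Subgroup G) ∧
      g * x * g⁻¹ ∈ centralizer ((R : Subgroup G) : Set G) := by
  obtain ⟨Q, hQ⟩ := Cfsg.Agent.Lib.ClassSize.exists_sylow_le_centralizer (hcl x hx)
  have hxc : x ∈ centralizer ((Q : Subgroup G) : Set G) := mem_centralizer_iff.mpr fun u hu =>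
    mem_centralizer_singleton_iff.mp (hQ hu)
  have hxQ : x ∈ (Q : Subgroup G) := by
    obtain ⟨k, hk⟩ := hx
    have hpg : IsPGroup p (zpowers x) := IsPGroup.of_card (n := k) (by rw [Nat.card_zpowers, hk])
    have hle : zpowers x ≤ normalizer ((Q : Subgroup G) : Set G) :=
      zpowers_le.mpr (centralizer_le_normalizer _ hxc)
    have h2 : x ∈ zpowers x ⊓ normalizer ((Q : Subgroup G) : Set G) :=
      ⟨mem_zpowers x, hle (mem_zpowers x)⟩
    exact ((hpg.inf_normalizer_sylow Q).le h2).2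
  obtain ⟨g, hg⟩ := MulAction.exists_smul_eq G Q R
  refine ⟨g, ?_, mem_centralizer_iff.mpr fun v hv => ?_⟩
  · rw [← hg, Sylow.coe_subgroup_smul]
    exact smul_mem_pointwise_smul _ _ _ hxQ
  · rw [← hg, Sylow.coe_subgroup_smul] at hv
    obtain ⟨u, hu, rfl⟩ := (mem_smul_pointwise_iff_exists _ _ _).mp hv
    change g * u * g⁻¹ * (g * x * g⁻¹) = g * x * g⁻¹ * (g * u * g⁻¹)
    have hc := mem_centralizer_iff.mp hxc u hu
    calc g * u * g⁻¹ * (g * x * g⁻¹) = g * (u * x) * g⁻¹ := by group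
      _ = g * (x * u) * g⁻¹ := by rw [hc]
      _ = g * x * g⁻¹ * (g * u * g⁻¹) := by group

theorem classes_normal {G : Type*} [Group G] [Finite G] {p : ℕ} [Fact p.Prime]
    (hcl : ∀ x : G, (∃ k : ℕ, orderOf x = p ^ k) →
      ¬ p ∣ (centralizer ({x} : Set G)).index) (N : Subgroup G) [N.Normal] (x : N)
    (hx : ∃ k : ℕ, orderOf x = p ^ k) : ¬ p ∣ (centralizer ({x} : Set N)).index := by
  intro h
  refine hcl (x : G) (by simpa [orderOf_coe] using hx) (h.trans ?_)
  have he : (centralizer ({x} : Set N)) = (centralizer ({(x : G)} : Set G)).subgroupOf N := by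
    ext y
    simp [mem_subgroupOf, mem_centralizer_singleton_iff, Subtype.ext_iff]
  rw [he]
  exact Cfsg.Agent.Lib.CharP.relIndex_dvd_index_of_normal_right _ _

theorem classes_quotient {G : Type*} [Group G] [Finite G] {p : ℕ} [Fact p.Prime]
    (hcl : ∀ x : G, (∃ k : ℕ, orderOf x = p ^ k) →
      ¬ p ∣ (centralizer ({x} : Set G)).index) (N : Subgroup G) [N.Normal] (x : G ⧸ N)
    (hx : ∃ k : ℕ, orderOf x = p ^ k) : ¬ p ∣ (centralizer ({x} : Set (G ⧸ N))).index := by
  obtain ⟨k, hk⟩ := hx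
  obtain ⟨Q, hQ⟩ := (IsPGroup.of_card (n := k)
    (show Nat.card (zpowers x) = p ^ k by rw [Nat.card_zpowers, hk])).exists_le_sylow
  obtain ⟨P, rfl⟩ := Sylow.mapSurjective_surjective (QuotientGroup.mk'_surjective N) p Q
  obtain ⟨u, hu, hux⟩ := hQ (mem_zpowers x)
  subst hux
  obtain ⟨j, hj⟩ := IsPGroup.iff_orderOf.mp P.2 ⟨u, hu⟩
  obtain ⟨R, hR⟩ := Cfsg.Agent.Lib.ClassSize.exists_sylow_le_centralizer
    (hcl u ⟨j, by rw [← hj, orderOf_mk]⟩)
  refine Cfsg.Agent.Lib.ClassSize.not_dvd_index_iff.mpr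
    ⟨R.mapSurjective (QuotientGroup.mk'_surjective N), ?_⟩
  rintro _ ⟨v, hv, rfl⟩
  rw [mem_centralizer_singleton_iff, ← map_mul, ← map_mul,
    mem_centralizer_singleton_iff.mp (hR hv)]

theorem isMulCommutative_of_sylow {G : Type*} [Group G] [Finite G] {p : ℕ} [Fact p.Prime]
    (P Q : Sylow p G) (h : IsMulCommutative (P : Subgroup G)) :
    IsMulCommutative (Q : Subgroup G) :=
  ⟨⟨fun a b => (P.equiv Q).symm.injective (by rw [map_mul, map_mul]; exact h.is_comm.comm _ _)⟩⟩

theorem no_normal {G : Type*} [Group G] [Finite G] {p : ℕ} [Fact p.Prime]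
    (P : Sylow p G) (hP : ¬ IsMulCommutative (P : Subgroup G))
    (hcl : ∀ x : G, (∃ k : ℕ, orderOf x = p ^ k) →
      ¬ p ∣ (centralizer ({x} : Set G)).index)
    (hab : ∀ (M : Subgroup G) [M.Normal], M ≠ ⊥ → M ≠ ⊤ →
      (∀ Q : Sylow p M, IsMulCommutative (Q : Subgroup M)) ∧
      ∀ Q : Sylow p (G ⧸ M), IsMulCommutative (Q : Subgroup (G ⧸ M)))
    (N : Subgroup G) [N.Normal] : N = ⊥ ∨ N = ⊤ := by
  by_contra hcon
  push_neg at hcon
  obtain ⟨hN1, hN2⟩ := hcon
  set P0 := (P : Subgroup G) ⊓ N with hP0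
  have hidx : ¬ p ∣ ((P : Subgroup G).subgroupOf N).index := fun h =>
    P.not_dvd_index (h.trans (Cfsg.Agent.Lib.CharP.relIndex_dvd_index_of_normal_right _ _))
  let T : Sylow p N := IsPGroup.toSylow (P := (P : Subgroup G).subgroupOf N) P.2.comap_subtype hidx
  have hTmap : (T : Subgroup N).map N.subtype = P0 := subgroupOf_map_subtype _ _
  have hP0c : P0 ≤ centralizer (P0 : Set G) := by
    intro u hu
    rw [mem_centralizer_iff]
    intro v hv
    have hu' : (⟨u, hu.2⟩ : N) ∈ (T : Subgroup N) := hu.1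
    have hv' : (⟨v, hv.2⟩ : N) ∈ (T : Subgroup N) := hv.1
    haveI := (hab N hN1 hN2).1 T
    exact congrArg Subtype.val (setLike_mul_comm hv' hu')
  have hfr := T.normalizer_sup_eq_top
  rw [hTmap] at hfr
  set C := centralizer (P0 : Set G) with hC
  -- `N C(P0)` is normal and contains all `p`-elements
  set M := N ⊔ C with hM
  have hMnorm : normalizer (P0 : Set G) ≤ normalizer (M : Set G) := by
    intro g hg
    have key : ∀ t ∈ normalizer (P0 : Set G), ∀ y ∈ M, t * y * t⁻¹ ∈ M := by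
      intro t ht y hy
      have hle : M ≤ M.comap (MulAut.conj t).toMonoidHom := by
        refine sup_le (fun x hx => ?_) fun x hx => ?_
        · exact mem_sup_left ((inferInstance : N.Normal).conj_mem x hx t)
        · refine mem_sup_right (?_ : t * x * t⁻¹ ∈ C)
          rw [hC, mem_centralizer_iff]
          intro v hv
          have hv' : t⁻¹ * v * t ∈ P0 := (mem_normalizer_iff''.mp ht v).mp hv
          have hc := mem_centralizer_iff.mp hx _ hv'
          calc v * (t * x * t⁻¹) = t * ((t⁻¹ * v * t) * x) * t⁻¹ := by group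
            _ = t * (x * (t⁻¹ * v * t)) * t⁻¹ := by rw [hc]
            _ = t * x * t⁻¹ * v := by group
      exact hle hy
    rw [mem_normalizer_iff]
    intro y
    refine ⟨key g hg y, fun h => ?_⟩
    simpa [mul_assoc] using key g⁻¹ (inv_mem hg) _ h
  haveI hMn : M.Normal := normalizer_eq_top_iff.mp <| top_le_iff.mp <|
    hfr.ge.trans (sup_le hMnorm ((le_sup_left : N ≤ M).trans le_normalizer))
  have hPM : (P : Subgroup G) ≤ M := by
    intro x hx
    obtain ⟨k, hk⟩ := IsPGroup.iff_orderOf.mp P.2 ⟨x, hx⟩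
    obtain ⟨g, hgP, hgc⟩ := exists_conj_central hcl P ⟨k, by rw [← hk, orderOf_mk]⟩
    exact conj_mem_normal (N := M) (mem_sup_right (centralizer_le inf_le_left hgc))
  have hMtop : M = ⊤ := by
    by_contra h
    have hM1 : M ≠ ⊥ := fun h' => hN1 (le_bot_iff.mp (h' ▸ le_sup_left))
    haveI := (hab M hM1 h).1 (P.subtype hPM)
    refine hP ⟨⟨fun a b => Subtype.ext ?_⟩⟩
    have h3 := setLike_mul_comm (s := ((P.subtype hPM : Sylow p M) : Subgroup M))
      (a := ⟨a, hPM a.2⟩) (b := ⟨b, hPM b.2⟩) a.2 b.2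
    exact congrArg (fun t : M => (t : G)) h3
  -- `C(P0)` contains a Sylow subgroup
  have hCidx : ¬ p ∣ C.index := by
    have h1 : N.relIndex C = N.index := by
      rw [← relIndex_sup_right, sup_comm, ← hM, hMtop, relIndex_top_right]
    have h2 : C.relIndex N * N.index = N.index * C.index := by
      conv_rhs => rw [← h1]
      rw [← inf_relIndex_right, ← inf_relIndex_right N C, inf_comm C N,
        relIndex_mul_index inf_le_right, relIndex_mul_index inf_le_left]
    have h3 : C.relIndex N = C.index :=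
      Nat.eq_of_mul_eq_mul_right (Nat.pos_of_ne_zero FiniteIndex.index_ne_zero)
        (h2.trans (mul_comm _ _))
    rw [← h3]
    intro h
    refine hidx (h.trans ?_)
    change C.relIndex N ∣ (P : Subgroup G).relIndex N
    rw [← inf_relIndex_right (P : Subgroup G) N]
    exact relIndex_dvd_of_le_left _ hP0c
  obtain ⟨S⟩ : Nonempty (Sylow p C) := inferInstance
  set R0 := (S : Subgroup C).map C.subtype with hR0
  have hR0i : ¬ p ∣ R0.index := by
    rw [hR0, index_map_subtype]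
    intro h
    rcases (Fact.out : p.Prime).dvd_mul.mp h with h | h
    · exact S.not_dvd_index h
    · exact hCidx h
  let R : Sylow p G := IsPGroup.toSylow (P := R0) (S.2.map _) hR0i
  have hRC : (R : Subgroup G) ≤ C := map_subtype_le _
  have hP0R : P0 ≤ (R : Subgroup G) := by
    intro u hu
    have hcu : u ∈ normalizer ((R : Subgroup G) : Set G) :=
      centralizer_le_normalizer _ (mem_centralizer_iff.mpr fun v hv =>
        (mem_centralizer_iff.mp (hRC hv) u hu).symm)
    have h2 : u ∈ P0 ⊓ normalizer ((R : Subgroup G) : Set G) := ⟨hu, hcu⟩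
    exact (((P.2.to_le inf_le_left : IsPGroup p P0).inf_normalizer_sylow R).le h2).2
  have hRN : ∀ e ∈ (R : Subgroup G), e ∈ N → e ∈ P0 := by
    have hle : (T : Subgroup N) ≤ (R : Subgroup G).subgroupOf N := fun x hx => hP0R ⟨hx, x.2⟩
    intro e he heN
    have h3 := T.3 (IsPGroup.comap_subtype R.2) hle
    have h4 : (⟨e, heN⟩ : N) ∈ (T : Subgroup N) := h3 ▸ (show (⟨e, heN⟩ : N) ∈ _ from he)
    exact ⟨h4, heN⟩
  -- every element of `R` is central in `R`
  have hQab : ∀ Q : Sylow p (G ⧸ N), IsMulCommutative (Q : Subgroup (G ⧸ N)) := (hab N hN1 hN2).2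
  set f := QuotientGroup.mk' N with hf
  let Rb := R.mapSurjective (QuotientGroup.mk'_surjective N)
  haveI hRbc : IsMulCommutative ↥((R : Subgroup G).map f) := hQab Rb
  suffices hcen : ∀ x ∈ (R : Subgroup G), x ∈ centralizer ((R : Subgroup G) : Set G) from
    hP (isMulCommutative_of_sylow R P ⟨⟨fun a b =>
      Subtype.ext (mem_centralizer_iff.mp (hcen b b.2) a a.2)⟩⟩)
  intro x hx
  obtain ⟨k, hk⟩ := IsPGroup.iff_orderOf.mp R.2 ⟨x, hx⟩
  obtain ⟨g, hgR, hgc⟩ := exists_conj_central hcl R ⟨k, by rw [← hk, orderOf_mk]⟩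
  set y := g * x * g⁻¹ with hy
  obtain ⟨nb, hnb, hnb'⟩ := Rb.conj_eq_normalizer_conj_of_mem (f x) (f g)⁻¹
    (mem_map_of_mem f hx) (by
      rw [inv_inv, ← map_inv, ← map_mul, ← map_mul]
      exact mem_map_of_mem f hgR)
  rw [inv_inv, ← map_inv, ← map_mul, ← map_mul] at hnb'
  -- lift `nb` into the normaliser of `R`
  obtain ⟨n0, rfl⟩ : ∃ n0, f n0 = nb := QuotientGroup.mk'_surjective N nb
  set L := ((R : Subgroup G).map f).comap f with hL
  have hRL : (R : Subgroup G) ≤ L := le_comap_map f _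
  let RL : Sylow p L := R.subtype hRL
  have hn0 : ∀ u ∈ L, n0 * u * n0⁻¹ ∈ L := by
    intro u hu
    change f (n0 * u * n0⁻¹) ∈ (R : Subgroup G).map f
    rw [map_mul, map_mul, map_inv]
    exact (mem_normalizer_iff.mp hnb (f u)).mp hu
  have hR2 : ((n0 • R : Sylow p G) : Subgroup G) ≤ L := by
    rw [Sylow.coe_subgroup_smul]
    intro v hv
    obtain ⟨u, hu, rfl⟩ := (mem_smul_pointwise_iff_exists _ _ _).mp hv
    exact hn0 u (hRL hu)
  obtain ⟨l, hl⟩ := MulAction.exists_smul_eq L ((n0 • R).subtype hR2) RL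
  rw [Sylow.smul_subtype] at hl
  have hl' := Sylow.subtype_injective hl
  rw [Subgroup.smul_def, ← mul_smul] at hl'
  set n := (l : G) * n0 with hn
  have hnR : n ∈ normalizer ((R : Subgroup G) : Set G) :=
    Sylow.smul_eq_iff_mem_normalizer.mp hl'
  obtain ⟨r, hr, hrl⟩ : ∃ r ∈ (R : Subgroup G), f r = f l := l.2
  have hfy : f (n⁻¹ * x * n) = f y := by
    have hxR : f n0 * f y * (f n0)⁻¹ = f x := by rw [hnb']; group
    have hcm : f r * f x = f x * f r :=
      setLike_mul_comm (mem_map_of_mem f hr) (mem_map_of_mem f hx)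
    rw [hnb', hn, map_mul, map_mul, map_inv, map_mul, ← hrl]
    calc (f r * f n0)⁻¹ * f x * (f r * f n0)
        = (f n0)⁻¹ * ((f r)⁻¹ * (f x * f r)) * f n0 := by group
      _ = (f n0)⁻¹ * ((f r)⁻¹ * (f r * f x)) * f n0 := by rw [hcm]
      _ = (f n0)⁻¹ * f x * f n0 := by group
  set w := n⁻¹ * x * n with hw
  have hwR : w ∈ (R : Subgroup G) := (mem_normalizer_iff''.mp hnR x).mp hx
  have heN : w⁻¹ * y ∈ N := QuotientGroup.eq.mp hfy
  have heP : w⁻¹ * y ∈ P0 := hRN _ (mul_mem (inv_mem hwR) hgR) heN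
  have hP0cR : w⁻¹ * y ∈ centralizer ((R : Subgroup G) : Set G) :=
    mem_centralizer_iff.mpr fun v hv => (mem_centralizer_iff.mp (hRC hv) _ heP).symm
  have hwc : w ∈ centralizer ((R : Subgroup G) : Set G) := by
    have : w = y * (w⁻¹ * y)⁻¹ := by group
    rw [this]
    exact mul_mem hgc (inv_mem hP0cR)
  rw [mem_centralizer_iff]
  intro v hv
  have h' := mem_centralizer_iff.mp hwc (n⁻¹ * v * n) ((mem_normalizer_iff''.mp hnR v).mp hv)
  calc v * x = n * ((n⁻¹ * v * n) * w) * n⁻¹ := by rw [hw]; group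
    _ = n * (w * (n⁻¹ * v * n)) * n⁻¹ := by rw [h']
    _ = x * v := by rw [hw]; group


/-- Let G be a finite group and p a prime such that the Sylow p-subgroups of G are non-abelian while every element of p-power order has conjugacy class size prime to p, and suppose no nontrivial proper normal subgroup N of G has this property and no quotient G/N by such an N has it. Then G is simple. -/
theorem result {G : Type*} [Group G] [Finite G]
    (p : ℕ) [Fact p.Prime] (h : ((∃ P : Sylow p G, ¬ IsMulCommutative P) ∧ ∀ x : G, (∃ k : ℕ, orderOf x = p ^ k) → ¬ p ∣ (Subgroup.centralizer ({x} : Set G)).index))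
    (hmin : ∀ (N : Subgroup G) [N.Normal], N ≠ ⊥ → N ≠ ⊤ →
      ¬ ((∃ P : Sylow p N, ¬ IsMulCommutative P) ∧ ∀ x : N, (∃ k : ℕ, orderOf x = p ^ k) → ¬ p ∣ (Subgroup.centralizer ({x} : Set N)).index) ∧
      ¬ ((∃ P : Sylow p (G ⧸ N), ¬ IsMulCommutative P) ∧ ∀ x : (G ⧸ N), (∃ k : ℕ, orderOf x = p ^ k) → ¬ p ∣ (Subgroup.centralizer ({x} : Set (G ⧸ N))).index)) :
    IsSimpleGroup G := by
  obtain ⟨⟨P, hP⟩, hcl⟩ := h
  haveI : Nontrivial G := by
    by_contra hc
    rw [not_nontrivial_iff_subsingleton] at hc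
    exact hP ⟨⟨fun a b => Subtype.ext (Subsingleton.elim _ _)⟩⟩
  refine ⟨fun N hN => ?_⟩
  haveI := hN
  refine no_normal P hP hcl (fun M _ hM1 hM2 => ⟨fun Q => ?_, fun Q => ?_⟩) N
  · by_contra hQ
    exact (hmin M hM1 hM2).1 ⟨⟨Q, hQ⟩, classes_normal hcl M⟩
  · by_contra hQ
    exact (hmin M hM1 hM2).2 ⟨⟨Q, hQ⟩, classes_quotient hcl M⟩

end Cfsg.Agent.S4354
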