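import Cfsg.Statements.S4359
import Cfsg.Agent.Lib.GlaubSims.Setup
import Cfsg.Agent.Lib.GlaubSims.Bound

set_option autoImplicit false
open Pointwise
open Cfsg

namespace Cfsg.Agent.S4359

/-- Let P be a subgroup of a finite group G and g an element such that P ∩ g⁻¹Pg is a normal subgroup of prime index p in g⁻¹Pg. Let n ≥ 1 and let K be the subgroup generated by P and its conjugates g⁻ⁱPgⁱ for i ≤ n. Suppose that g normalizes no non-identity normal subgroup of P and that P meets the center of K trivially. Then the order of P is pᵗ for some t with 1 ≤ t ≤ 3n and t ≠ 3n - 1. -/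
theorem result {G : Type*} [Group G] [Finite G]
    (P : Subgroup G) (g : G) (p : ℕ) (hp : p.Prime)
    (hN : ((P ⊓ MulAut.conj g⁻¹ • P).subgroupOf (MulAut.conj g⁻¹ • P)).Normal)
    (hidx : (P ⊓ MulAut.conj g⁻¹ • P).relIndex (MulAut.conj g⁻¹ • P) = p)
    (n : ℕ) (hn : 1 ≤ n) (K : Subgroup G) (hK : K = ⨆ i ∈ Finset.range (n + 1), MulAut.conj (g ^ i)⁻¹ • P)
    (h1 : ∀ Q : Subgroup G, Q ≤ P → (Q.subgroupOf P).Normal → MulAut.conj g • Q = Q → Q = ⊥)
    (h2 : P ⊓ (Subgroup.center K).map K.subtype = ⊥) :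
    ∃ t : ℕ, Nat.card P = p ^ t ∧ 1 ≤ t ∧ t ≤ 3 * n ∧ t ≠ 3 * n - 1 := by
  classical
  haveI : Fact p.Prime := ⟨hp⟩
  set φ : MulAut G := MulAut.conj g⁻¹ with hφ
  have hsmul : ∀ (f : MulAut G) (S : Subgroup G), f • S = S.map (f : G ≃* G).toMonoidHom :=
    fun f S => rfl
  have hone : MulAut.conj g⁻¹ • P = Lib.Trivalent.trans φ P 1 := by
    rw [hsmul, Lib.Trivalent.trans, zpow_one]
  rw [hone] at hN hidx
  have hn' := (Subgroup.normal_subgroupOf_iff_le_normalizer inf_le_right).mp hN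
  obtain ⟨t, c, hc⟩ := Lib.GlaubSims.exists_chain φ P hn' hidx fun Q hQ hPQ hmap => by
    refine h1 Q hQ ((Subgroup.normal_subgroupOf_iff_le_normalizer hQ).mpr hPQ) ?_
    have e : φ⁻¹ • Q = Q := by
      rw [inv_smul_eq_iff]
      exact hmap.symm
    have e2 : MulAut.conj g = φ⁻¹ := by rw [hφ, ← map_inv, inv_inv]
    rw [e2, e]
  have hP0 : Lib.GlaubSims.win c.x 0 t = P := by rw [hc, Lib.Trivalent.trans_zero]
  refine ⟨t, by rw [← hP0, c.card_win 0 t le_rfl], c.pos, c.bound hn fun y hy hy' => ?_⟩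
  have hKle : ∀ i ∈ Finset.range (n + 1), MulAut.conj (g ^ i)⁻¹ • P ≤
      Subgroup.centralizer ({y} : Set G) := by
    intro i hi
    rw [Finset.mem_range] at hi
    have e : MulAut.conj (g ^ i)⁻¹ • P = Lib.GlaubSims.win c.x (i : ℤ) t := by
      rw [hc, hsmul, Lib.Trivalent.trans, hφ, zpow_natCast, ← map_pow, inv_pow]
    rw [e]
    exact Lib.GlaubSims.win_le fun j h1 h2 => Subgroup.mem_centralizer_singleton_iff.mpr
      (hy' j (by omega) (by omega)).eq
  have hKc : K ≤ Subgroup.centralizer ({y} : Set G) := by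
    rw [hK]; exact iSup₂_le hKle
  have hyP : y ∈ P := hP0 ▸ hy
  have hPK : P ≤ K := by
    rw [hK]
    refine le_trans (le_of_eq ?_) (le_iSup₂ (f := fun i (_ : i ∈ Finset.range (n + 1)) =>
      MulAut.conj (g ^ i)⁻¹ • P) 0 (by simp))
    simp
  have hmem : y ∈ P ⊓ (Subgroup.center K).map K.subtype :=
    ⟨hyP, ⟨y, hPK hyP⟩, Subgroup.mem_center_iff.mpr fun z => Subtype.ext
      (Subgroup.mem_centralizer_singleton_iff.mp (hKc z.2)), rfl⟩
  rw [h2] at hmem
  exact Subgroup.mem_bot.mp hmem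

end Cfsg.Agent.S4359
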