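import Cfsg.Statements.S4364
import Cfsg.Agent.Lib.PrimePowerClass.PElement
import Cfsg.Agent.Lib.Core.Fitting

set_option autoImplicit false
open Cfsg

namespace Cfsg.Agent.S4364

universe u

/-- With `O_p = 1`, an element with class of `p`-power size is central in the Fitting subgroup. -/
theorem central_fitting {G : Type u} [Group G] [Finite G] {p : ℕ} [hp : Fact p.Prime]
    (hpc : pCore p G = ⊥) : ∀ n : ℕ, ∀ y : G, orderOf y = n →
    (∃ a, (Subgroup.centralizer ({y} : Set G)).index = p ^ a) →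
    y ∈ fittingSubgroup G ∧ fittingSubgroup G ≤ Subgroup.centralizer ({y} : Set G) := by
  have hF : ∀ y : G, (∃ a, (Subgroup.centralizer ({y} : Set G)).index = p ^ a) →
      fittingSubgroup G ≤ Subgroup.centralizer ({y} : Set G) := by
    rintro y ⟨a, ha⟩
    rw [Lib.Fitting.fittingSubgroup_eq_iSup_pCore]
    refine iSup_le fun r => ?_
    rcases eq_or_ne (r : ℕ) p with h | h
    · rw [h, hpc]; exact bot_le
    haveI := Fact.mk r.2
    obtain ⟨k, hk⟩ := (Lib.PSolvable.pCore_isPGroup (p := (r : ℕ)) (G := G)).exists_card_eq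
    have h1 : (Subgroup.centralizer ({y} : Set G)).relIndex (pCore r G) ∣ p ^ a :=
      ha ▸ Lib.PrimePowerClass.relIndex_dvd_index_of_normal' _ _
    have h2 : (Subgroup.centralizer ({y} : Set G)).relIndex (pCore r G) ∣ (r : ℕ) ^ k :=
      hk ▸ Subgroup.relIndex_dvd_card _ _
    exact Subgroup.relIndex_eq_one.1 (Nat.eq_one_of_dvd_coprimes
      (((Nat.coprime_primes hp.out r.2).2 (Ne.symm h)).pow a k) h1 h2)
  intro n
  induction n using Nat.recOnPosPrimePosCoprime with
  | zero => intro y hy; exact absurd hy (orderOf_pos y).ne'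
  | one => intro y hy h; exact ⟨by rw [orderOf_eq_one_iff.1 hy]; exact one_mem _, hF y h⟩
  | prime_pow q b hq hb =>
    intro y hy h
    haveI := Fact.mk hq
    obtain ⟨a, ha⟩ := h
    exact ⟨Lib.Fitting.pCore_le_fittingSubgroup q
      (Lib.PrimePowerClass.mem_pCore_of_class_prime_pow (Nat.card G) G le_rfl hpc y a b hy ha),
      hF y ⟨a, ha⟩⟩
  | coprime a b ha hb hab iha ihb =>
    intro y hy h
    obtain ⟨c, hc⟩ := h
    have hpow : ∀ m, ∃ d, (Subgroup.centralizer ({y ^ m} : Set G)).index = p ^ d := fun m => by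
      obtain ⟨d, -, hd⟩ := (Nat.dvd_prime_pow hp.out).1 (hc ▸ Subgroup.index_dvd_of_le
        (show Subgroup.centralizer ({y} : Set G) ≤ Subgroup.centralizer ({y ^ m} : Set G) from
          fun z hz => Subgroup.mem_centralizer_singleton_iff.2
            ((show Commute z y from Subgroup.mem_centralizer_singleton_iff.1 hz).pow_right m).eq))
      exact ⟨d, hd⟩
    refine ⟨?_, hF y ⟨c, hc⟩⟩
    have h1 := (iha (y ^ b) (by rw [orderOf_pow' y (by omega), hy, Nat.gcd_eq_right (dvd_mul_left b a),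
      Nat.mul_div_cancel _ (by omega)]) (hpow b)).1
    have h2 := (ihb (y ^ a) (by rw [orderOf_pow' y (by omega), hy, Nat.gcd_eq_right (dvd_mul_right a b),
      Nat.mul_div_cancel_left _ (by omega)]) (hpow a)).1
    have h3 : y ^ ((a : ℤ) * Nat.gcdA a b + (b : ℤ) * Nat.gcdB a b) ∈ fittingSubgroup G := by
      rw [zpow_add, zpow_mul, zpow_mul, zpow_natCast, zpow_natCast]
      exact mul_mem (zpow_mem h2 _) (zpow_mem h1 _)
    rwa [← Nat.gcd_eq_gcd_ab, hab.gcd_eq_one, Nat.cast_one, zpow_one] at h3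


/-- Let G be a finite group, p a prime and x an element whose conjugacy class has p-power size. Then for any two conjugates y and z of x, the commutator y z y⁻¹ z⁻¹ lies in O_p(G), the largest normal p-subgroup of G. -/
theorem result {G : Type*} [Group G] [Finite G] (p : ℕ) [Fact p.Prime]
    (x : G) (hx : ∃ a : ℕ, (Subgroup.centralizer ({x} : Set G)).index = p ^ a) (g h : G) :
    (g * x * g⁻¹) * (h * x * h⁻¹) * (g * x * g⁻¹)⁻¹ * (h * x * h⁻¹)⁻¹ ∈ Cfsg.pCore p G := by
  obtain ⟨a, ha⟩ := hx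
  set π := QuotientGroup.mk' (pCore p G) with hπ
  have hpc : pCore p (G ⧸ pCore p G) = ⊥ := by
    refine Lib.PSolvable.eq_bot_of_comap_mk'_le _ (Lib.PSolvable.le_pCore ?_)
    obtain ⟨i, hi⟩ := (Lib.PSolvable.pCore_isPGroup (p := p) (G := G)).exists_card_eq
    obtain ⟨j, hj⟩ := (Lib.PSolvable.pCore_isPGroup (p := p) (G := G ⧸ pCore p G)).exists_card_eq
    exact IsPGroup.of_card (n := i + j) (by rw [Lib.PSolvable.card_comap_mk', hi, hj, pow_add])
  obtain ⟨a', -, ha'⟩ := (Nat.dvd_prime_pow (Fact.out : p.Prime)).1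
    (ha ▸ Lib.PrimePowerClass.index_centralizer_map_dvd (QuotientGroup.mk'_surjective (pCore p G)) x)
  obtain ⟨hxF, hFx⟩ := central_fitting hpc _ (π x) rfl ⟨a', ha'⟩
  haveI := Lib.Fitting.fittingSubgroup_normal (G := G ⧸ pCore p G)
  have key : ∀ k : G, π k * π x * (π k)⁻¹ * π x = π x * (π k * π x * (π k)⁻¹) := fun k =>
    Subgroup.mem_centralizer_singleton_iff.1 (hFx (Subgroup.Normal.conj_mem inferInstance _ hxF _))
  rw [← QuotientGroup.eq_one_iff]
  show π _ = 1
  simp only [map_mul, map_inv]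
  set u := π g
  set v := π h
  have h1 := key (g⁻¹ * h)
  rw [map_mul, map_inv] at h1
  have h3 : Commute (u * π x * u⁻¹) (v * π x * v⁻¹) := by
    have h4 : Commute ((u⁻¹ * v) * π x * (u⁻¹ * v)⁻¹) (π x) := h1
    have h5 := h4.map (MulAut.conj u)
    simp only [MulAut.conj_apply] at h5
    have e : u * (u⁻¹ * v * π x * (u⁻¹ * v)⁻¹) * u⁻¹ = v * π x * v⁻¹ := by group
    rw [e] at h5
    exact h5.symm
  rw [h3.eq]
  group

end Cfsg.Agent.S4364
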