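import Cfsg.Statements.S4365
import Cfsg.Agent.Lib.MinClass41.Basic
-- import your own Cfsg.Agent.* helpers here

set_option autoImplicit false
open Cfsg

namespace Cfsg.Agent.S4365

open Subgroup in
private theorem step {P : Type*} [Group P] {p : ℕ} (x g c : P) (hc : c ∈ center P)
    (h : g * x * g⁻¹ = c * x) (hg : g ^ p * x = x * g ^ p) : g * x ^ p = x ^ p * g := by
  have hcc := mem_center_iff.1 hc
  have hn : ∀ k : ℕ, g ^ k * x * (g ^ k)⁻¹ = c ^ k * x := by
    intro k
    induction k with
    | zero => simp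
    | succ k ih =>
      calc g ^ (k + 1) * x * (g ^ (k + 1))⁻¹ = g * (g ^ k * x * (g ^ k)⁻¹) * g⁻¹ := by
            rw [pow_succ']; group
        _ = g * (c ^ k * x) * g⁻¹ := by rw [ih]
        _ = c ^ k * (g * x * g⁻¹) := by
            rw [← mul_assoc g, mem_center_iff.1 (pow_mem hc k) g]; group
        _ = c ^ (k + 1) * x := by rw [h, pow_succ]; group
  have hcp : c ^ p = 1 := by
    have := hn p
    rw [hg, mul_inv_cancel_right] at this
    exact mul_eq_right.1 this.symm
  have hcomm : Commute c x := (hcc x).symm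
  have : (g * x * g⁻¹) ^ p = x ^ p := by rw [h, hcomm.mul_pow, hcp, one_mul]
  rw [conj_pow] at this
  exact mul_inv_eq_iff_eq_mul.1 this

open Subgroup in
private theorem exists_pow_step {P : Type*} [Group P] {p : ℕ} (hP : IsPGroup p P) (S T : Subgroup P)
    (w : P) (hS : w ∈ S) (hT : w ∉ T) : ∃ z ∈ S, z ∉ T ∧ z ^ p ∈ T := by
  obtain ⟨k, hk⟩ := hP w
  have hex : ∃ k, w ^ p ^ k ∈ T := ⟨k, by rw [hk]; exact one_mem T⟩
  classical
  have h0 : Nat.find hex ≠ 0 := fun h => hT (by simpa [h] using Nat.find_spec hex)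
  obtain ⟨j, hj⟩ := Nat.exists_eq_succ_of_ne_zero h0
  refine ⟨w ^ p ^ j, pow_mem hS _, Nat.find_min hex (by omega), ?_⟩
  rw [← pow_mul, ← pow_succ]
  have := Nat.find_spec hex
  rwa [hj] at this

/-- Let P be a finite p-group whose conjugacy class sizes are exactly 1 and pᵃ for some a ≥ 1. Then every element of P has its p-th power in the center of P (P/Z(P) has exponent p). -/
theorem result {P : Type*} [Group P] [Finite P] (p : ℕ) [Fact p.Prime]
    (hP : IsPGroup p P) (a : ℕ) (ha : 1 ≤ a)
    (hcs : {k : ℕ | ∃ x : P, (Subgroup.centralizer ({x} : Set P)).index = k} = {1, p ^ a}) (x : P) :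
    x ^ p ∈ Subgroup.center P := by
  classical
  by_contra hxp
  let C : P → Subgroup P := fun y => Subgroup.centralizer ({y} : Set P)
  have hsz : ∀ y : P, (C y).index = 1 ∨ (C y).index = p ^ a := fun y => by
    have : (C y).index ∈ ({1, p ^ a} : Set ℕ) := hcs ▸ ⟨y, rfl⟩
    simpa using this
  have hnc : ∀ y : P, y ∉ Subgroup.center P → (C y).index = p ^ a := fun y hy =>
    (hsz y).resolve_left (fun h => hy (MinClass41.index_eq_one_iff_central.1 h))
  have heq : ∀ y z : P, y ∉ Subgroup.center P → z ∉ Subgroup.center P → C y ≤ C z → C y = C z := by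
    intro y z hy hz hle
    have h1 := Subgroup.relIndex_mul_index hle
    rw [hnc y hy, hnc z hz] at h1
    have h2 : (C y).relIndex (C z) = 1 :=
      Nat.eq_of_mul_eq_mul_right (pow_pos (Fact.out : p.Prime).pos a) (by rw [h1, one_mul])
    exact le_antisymm hle (Subgroup.relIndex_eq_one.1 h2)
  have mC : ∀ y z : P, z ∈ C y ↔ z * y = y * z := fun y z =>
    Subgroup.mem_centralizer_singleton_iff
  have hx : x ∉ Subgroup.center P := fun h => hxp (pow_mem h p)
  have hCx : C x = C (x ^ p) := heq _ _ hx hxp (fun z hz => by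
    rw [mC] at hz ⊢; exact (Commute.pow_right hz p).eq)
  haveI : Group.IsNilpotent P := hP.isNilpotent
  obtain ⟨w, hw2, hw1⟩ : ∃ w, w ∈ Subgroup.upperCentralSeries P 2 ∧ w ∉ Subgroup.center P := by
    by_contra! hcon
    have h21 : Subgroup.upperCentralSeries P 2 = Subgroup.upperCentralSeries P 1 :=
      le_antisymm (by rw [Subgroup.upperCentralSeries_one]; exact hcon)
        (Subgroup.upperCentralSeries_mono P (by norm_num))
    have hall : ∀ n, Subgroup.upperCentralSeries P (n + 1) = Subgroup.upperCentralSeries P 1 := by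
      intro n
      induction n with
      | zero => rfl
      | succ n ih =>
        rw [← h21]
        ext y
        rw [Subgroup.mem_upperCentralSeries_succ_iff, Subgroup.mem_upperCentralSeries_succ_iff]
        simp_rw [ih]
    obtain ⟨n, hn⟩ := Group.IsNilpotent.nilpotent P
    apply hx
    rw [← Subgroup.upperCentralSeries_one, ← hall n]
    exact Subgroup.upperCentralSeries_mono P (Nat.le_succ n) (hn ▸ Subgroup.mem_top x)
  obtain ⟨z, hz2, hz1, hzp⟩ := exists_pow_step hP _ _ w hw2 hw1
  have hzc : ∀ g : P, z * g * z⁻¹ * g⁻¹ ∈ Subgroup.center P := fun g => by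
    rw [← Subgroup.upperCentralSeries_one]
    simpa [commutatorElement_def] using Subgroup.mem_upperCentralSeries_succ_iff.1 hz2 g
  have hzx : z * x = x * z := by
    have h1 := step x z (z * x * z⁻¹ * x⁻¹) (hzc x) (by group)
      ((Subgroup.mem_center_iff.1 hzp x).symm)
    exact (mC x z).1 (hCx ▸ (mC (x ^ p) z).2 h1)
  have hCz : C x = C z := by
    have hp' : (x * z) ^ p = x ^ p * z ^ p := (Commute.mul_pow hzx.symm p)
    have hxz : x * z ∉ Subgroup.center P := fun h => hxp (by
      have := mul_mem (hp' ▸ pow_mem h p) (inv_mem hzp)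
      simpa using this)
    have hpn : x ^ p * z ^ p ∉ Subgroup.center P := fun h => hxp (by
      have := mul_mem h (inv_mem hzp)
      simpa using this)
    have h1 : C (x * z) = C (x ^ p * z ^ p) := heq _ _ hxz hpn (fun t ht => by
      rw [mC] at ht ⊢; rw [← hp']; exact (Commute.pow_right ht p).eq)
    have h2 : C (x ^ p) ≤ C (x * z) := by
      rw [h1]
      intro t ht
      rw [mC] at ht ⊢
      exact (Commute.mul_right ht (Subgroup.mem_center_iff.1 hzp t)).eq
    refine heq _ _ hx hz1 (fun t ht => ?_)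
    have h3 := (mC _ t).1 (h2 (hCx ▸ ht))
    rw [mC] at ht ⊢
    have h4 : Commute t x⁻¹ := (show Commute t x from ht).inv_right
    have := (h4.mul_right (show Commute t (x * z) from h3)).eq
    simpa [mul_assoc] using this
  have hnorm : (C x).Normal := by
    rw [hCz]
    constructor
    intro n hn g
    rw [mC] at hn ⊢
    have hc := Subgroup.mem_center_iff.1 (hzc g⁻¹)
    have e : g⁻¹ * z * g = (z * g⁻¹ * z⁻¹ * g⁻¹⁻¹)⁻¹ * z := by group
    have hn2 : Commute n (g⁻¹ * z * g) := by
      rw [e]; exact Commute.mul_right ((show Commute n (z * g⁻¹ * z⁻¹ * g⁻¹⁻¹) from hc n).inv_right) hn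
    calc g * n * g⁻¹ * z = g * (n * (g⁻¹ * z * g)) * g⁻¹ := by group
      _ = g * ((g⁻¹ * z * g) * n) * g⁻¹ := by rw [hn2.eq]
      _ = _ := by group
  haveI := hnorm
  let B : Subgroup P := C x ⊓ Subgroup.centralizer (C x : Set P)
  have hxB : x ∈ B := Subgroup.mem_inf.2 ⟨(mC x x).2 rfl,
    Subgroup.mem_centralizer_iff.2 fun t ht => (mC x t).1 ht⟩
  haveI : B.Normal := Subgroup.normal_inf_normal _ _
  have hB : ∀ u ∈ B, ∀ v ∈ B, u * v = v * u := fun u hu v hv =>
    Subgroup.mem_centralizer_iff.1 (Subgroup.mem_inf.1 hv).2 u (Subgroup.mem_inf.1 hu).1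
  have hcomm : ∀ g : P, x * g * x⁻¹ * g⁻¹ ∈ Subgroup.center P := fun g =>
    MinClass41.comm_mem_center B hB g (fun y hy => by
      show (C g).index ≤ (C y).index
      change 1 < (C y).index at hy
      have hpa : 0 < p ^ a := pow_pos (Fact.out : p.Prime).pos a
      rcases hsz y with h1 | h1 <;> rcases hsz g with h2 | h2 <;> omega) x hxB
  obtain ⟨g0, hg0⟩ : ∃ g, g ∉ C x := by
    by_contra! h
    exact hx (MinClass41.index_eq_one_iff_central.1
      (Subgroup.index_eq_one.2 ((Subgroup.eq_top_iff' _).2 h)))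
  obtain ⟨g, -, hg1, hgp⟩ := exists_pow_step hP ⊤ (C x) g0 trivial hg0
  have h1 := step x g (x * g * x⁻¹ * g⁻¹)⁻¹ (inv_mem (hcomm g)) (by group) ((mC _ _).1 hgp)
  exact hg1 (hCx ▸ (mC (x ^ p) g).2 h1)

end Cfsg.Agent.S4365
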