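import Cfsg.Statements.S4370
import Mathlib
import Cfsg.Agent.Lib.NilpotentPerm.Basic
import Cfsg.Agent.Lib.PUnique.Basic
import Cfsg.Agent.Lib.OddLocal.ComplIn

set_option autoImplicit false
open Cfsg

namespace Cfsg.Agent.S4370

open scoped commutatorElement

theorem two_mul_eq_zero {n : ℕ} (hn : n ≠ 0) (j : ZMod (2 * n)) (h : j + j = 0) :
    j = 0 ∨ j = (n : ZMod (2 * n)) := by
  haveI : NeZero (2 * n) := ⟨by omega⟩
  have hj : ((j.val + j.val : ℕ) : ZMod (2 * n)) = 0 := by
    push_cast; rw [ZMod.natCast_zmod_val]; exact h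
  rw [ZMod.natCast_eq_zero_iff] at hj
  obtain ⟨c, hc⟩ := hj
  have hlt := ZMod.val_lt j
  have : j.val = 0 ∨ j.val = n := by
    rcases c with _ | _ | c
    · left; omega
    · right; omega
    · nlinarith
  rcases this with e | e
  · left; rw [← ZMod.natCast_zmod_val j, e, Nat.cast_zero]
  · right; rw [← ZMod.natCast_zmod_val j, e]

theorem quaternion_centralizer {n : ℕ} (hn : 2 ≤ n) (u : QuaternionGroup n)
    (hu : u ∉ Subgroup.center (QuaternionGroup n)) :
    IsCyclic (Subgroup.centralizer ({u} : Set (QuaternionGroup n))) := by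
  haveI : NeZero n := ⟨by omega⟩
  have key : ∃ g, Subgroup.centralizer ({u} : Set (QuaternionGroup n)) = Subgroup.zpowers g := by
    cases u with
    | a i =>
      have hi : i + i ≠ 0 := by
        intro h0
        apply hu
        rw [Subgroup.mem_center_iff]
        rintro (j | j)
        · simp [add_comm]
        · simp only [QuaternionGroup.a_mul_xa, QuaternionGroup.xa_mul_a]
          congr 1
          linear_combination h0
      refine ⟨QuaternionGroup.a 1, le_antisymm ?_ ?_⟩
      · rintro (j | j) hg
        · rw [← ZMod.natCast_zmod_val j, ← QuaternionGroup.a_one_pow]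
          exact Subgroup.pow_mem _ (Subgroup.mem_zpowers _) _
        · exfalso
          rw [Subgroup.mem_centralizer_singleton_iff] at hg
          simp only [QuaternionGroup.a_mul_xa, QuaternionGroup.xa_mul_a,
            QuaternionGroup.xa.injEq] at hg
          exact hi (by linear_combination hg)
      · rw [Subgroup.zpowers_le, Subgroup.mem_centralizer_singleton_iff]
        simp [add_comm]
    | xa i =>
      refine ⟨QuaternionGroup.xa i, le_antisymm ?_ ?_⟩
      · rintro (j | j) hg
        · rw [Subgroup.mem_centralizer_singleton_iff] at hg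
          simp only [QuaternionGroup.a_mul_xa, QuaternionGroup.xa_mul_a,
            QuaternionGroup.xa.injEq] at hg
          rcases two_mul_eq_zero (by omega) j (by linear_combination -hg) with rfl | rfl
          · exact QuaternionGroup.one_def ▸ Subgroup.one_mem _
          · have e : QuaternionGroup.a ((n : ℕ) : ZMod (2 * n)) =
                QuaternionGroup.xa i * QuaternionGroup.xa i := by
              simp [QuaternionGroup.xa_mul_xa]
            rw [e]
            exact mul_mem (Subgroup.mem_zpowers _) (Subgroup.mem_zpowers _)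
        · rw [Subgroup.mem_centralizer_singleton_iff] at hg
          simp only [QuaternionGroup.xa_mul_xa, QuaternionGroup.a.injEq] at hg
          rcases two_mul_eq_zero (by omega) (j - i) (by linear_combination -hg) with h | h
          · rw [sub_eq_zero.1 h]; exact Subgroup.mem_zpowers _
          · have e : QuaternionGroup.xa j = QuaternionGroup.xa i *
                (QuaternionGroup.xa i * QuaternionGroup.xa i) := by
              simp only [QuaternionGroup.xa_mul_xa, QuaternionGroup.xa_mul_a]
              congr 1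
              linear_combination h
            rw [e]
            exact mul_mem (Subgroup.mem_zpowers _)
              (mul_mem (Subgroup.mem_zpowers _) (Subgroup.mem_zpowers _))
      · rw [Subgroup.zpowers_le, Subgroup.mem_centralizer_singleton_iff]
  obtain ⟨g, hg⟩ := key
  rw [hg]
  exact Subgroup.isCyclic_zpowers g

theorem centralizer_map {G H : Type*} [Group G] [Group H] (e : G ≃* H) (x : G) :
    Nonempty (Subgroup.centralizer ({x} : Set G) ≃* Subgroup.centralizer ({e x} : Set H)) := by
  refine ⟨(e.subgroupMap _).trans (MulEquiv.subgroupCongr ?_)⟩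
  ext y
  simp only [Subgroup.mem_centralizer_singleton_iff, Subgroup.mem_map]
  constructor
  · rintro ⟨w, hw, rfl⟩
    change e w * e x = e x * e w
    rw [← map_mul, ← map_mul, hw]
  · intro h
    exact ⟨e.symm y, e.injective (by simpa using h), e.apply_symm_apply y⟩

theorem backward {G : Type*} [Group G] (k m : ℕ) (hk : 1 ≤ k) (hm : Odd m)
    (e : G ≃* QuaternionGroup (2 ^ k) × Multiplicative (ZMod m)) (x : G)
    (hx : x ∉ Subgroup.center G) : IsCyclic (Subgroup.centralizer ({x} : Set G)) := by
  haveI : NeZero m := ⟨fun h => by rw [h] at hm; exact absurd hm (by decide)⟩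
  haveI : IsCyclic (Multiplicative (ZMod m)) := inferInstance
  obtain ⟨f⟩ := centralizer_map e x
  rw [f.isCyclic]
  rcases hpair : e x with ⟨u, v⟩
  have h2n : 2 ≤ 2 ^ k := le_trans (le_of_eq (pow_one 2).symm) (Nat.pow_le_pow_right (by norm_num) hk)
  have hu : u ∉ Subgroup.center (QuaternionGroup (2 ^ k)) := by
    intro hu
    apply hx
    rw [Subgroup.mem_center_iff]
    intro g
    apply e.injective
    rw [map_mul, map_mul, hpair]
    exact Prod.ext (Subgroup.mem_center_iff.1 hu _) (mul_comm _ _)
  have hC : Subgroup.centralizer ({(u, v)} : Set (QuaternionGroup (2 ^ k) × Multiplicative (ZMod m))) =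
      (Subgroup.centralizer ({u} : Set (QuaternionGroup (2 ^ k)))).prod ⊤ := by
    ext ⟨a, b⟩
    simp [Subgroup.mem_prod, Subgroup.mem_centralizer_singleton_iff, Prod.ext_iff, mul_comm b v]
  rw [hC, (Subgroup.prodEquiv _ _).isCyclic, Group.isCyclic_prod_iff]
  refine ⟨quaternion_centralizer h2n u hu, Subgroup.topEquiv.isCyclic.2 inferInstance, ?_⟩
  haveI : NeZero (2 ^ k) := ⟨by positivity⟩
  have hd : Nat.card (Subgroup.centralizer ({u} : Set (QuaternionGroup (2 ^ k)))) ∣ 2 ^ (k + 2) := by
    refine (Subgroup.card_subgroup_dvd_card _).trans (dvd_of_eq ?_)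
    rw [Nat.card_eq_fintype_card, QuaternionGroup.card, pow_add]; ring
  refine Nat.Coprime.coprime_dvd_left hd ?_
  rw [Subgroup.card_top, Nat.card_eq_fintype_card, Fintype.card_multiplicative, ZMod.card]
  exact Nat.Coprime.pow_left _ (Nat.coprime_two_left.2 hm)

theorem forward {G : Type*} [Group G] [Finite G] (hG : Group.IsNilpotent G)
    (hna : ¬ IsMulCommutative G)
    (hC : ∀ x : G, x ∉ Subgroup.center G → IsCyclic (Subgroup.centralizer ({x} : Set G))) :
    ∃ (k m : ℕ), 1 ≤ k ∧ Odd m ∧ Nonempty (G ≃* QuaternionGroup (2 ^ k) × Multiplicative (ZMod m)) := by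
  classical
  have nonc : ∃ x : G, x ∉ Subgroup.center G := by
    by_contra hc
    push Not at hc
    exact hna ⟨⟨fun a b => Subgroup.mem_center_iff.1 (hc b) a⟩⟩
  -- a noncentral element of prime power order
  obtain ⟨p, hp, x, i, hxo, hx⟩ : ∃ p, p.Prime ∧ ∃ (x : G) (i : ℕ), orderOf x = p ^ i ∧ x ∉ Subgroup.center G := by
    by_contra hc
    push Not at hc
    obtain ⟨x0, hx0⟩ := nonc
    apply hx0
    have h1 : (Subgroup.center G).index = 1 := by
      by_contra hne
      obtain ⟨p, hp, hd⟩ := Nat.exists_prime_and_dvd hne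
      haveI := Fact.mk hp
      let P : Sylow p G := default
      apply P.not_dvd_index
      refine hd.trans (Subgroup.index_dvd_of_le fun y hy => ?_)
      obtain ⟨j, hj⟩ := IsPGroup.iff_orderOf.1 P.isPGroup' ⟨y, hy⟩
      exact hc p hp y j (by rw [← Subgroup.orderOf_coe] at hj; exact hj)
    rw [Subgroup.index_eq_one.1 h1]; exact Subgroup.mem_top _
  haveI := Fact.mk hp
  obtain ⟨A, B, hA, hBp, hcard, hgen, hcomm, hcop⟩ :=
    Lib.NilpotentPerm.exists_pPart_complement hG p
  -- x lies in A
  have hxA : x ∈ A := by
    obtain ⟨a, ha, b, hb, rfl⟩ := hgen x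
    obtain ⟨j, hj⟩ := IsPGroup.iff_orderOf.1 hA ⟨a, ha⟩
    rw [← Subgroup.orderOf_coe] at hj
    simp only at hj
    have hbo : (orderOf b).Coprime p :=
      Nat.Coprime.coprime_dvd_left (Subgroup.orderOf_dvd_natCard B hb) hBp
    have hab : (orderOf a).Coprime (orderOf b) := by
      rw [hj]; exact Nat.Coprime.pow_left _ hbo.symm
    have := (Commute.orderOf_mul_eq_mul_orderOf_of_coprime (hcomm a ha b hb) hab)
    rw [hxo] at this
    have hb1 : orderOf b = 1 :=
      Nat.Coprime.eq_one_of_dvd (hbo.pow_right i) (this ▸ dvd_mul_left _ _)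
    rw [orderOf_eq_one_iff] at hb1
    rw [hb1, mul_one]; exact ha
  have hBC : B ≤ Subgroup.centralizer ({x} : Set G) := fun b hb =>
    Subgroup.mem_centralizer_singleton_iff.2 (hcomm x hxA b hb).symm
  haveI := hC x hx
  haveI hBcyc : IsCyclic B :=
    isCyclic_of_injective (Subgroup.inclusion hBC) (Subgroup.inclusion_injective hBC)
  have hxa : (⟨x, hxA⟩ : A) ∉ Subgroup.center A := by
    intro h
    apply hx
    rw [Subgroup.mem_center_iff]
    intro g
    obtain ⟨a, ha, b, hb, rfl⟩ := hgen g
    have e : a * x = x * a := congrArg Subtype.val (Subgroup.mem_center_iff.1 h ⟨a, ha⟩)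
    calc a * b * x = a * (x * b) := by rw [mul_assoc, hcomm x hxA b hb]
      _ = x * a * b := by rw [← mul_assoc, e]
      _ = x * (a * b) := mul_assoc _ _ _
  -- central element of order p
  haveI : Nontrivial A := ⟨⟨⟨x, hxA⟩, 1, fun h => hxa (by rw [h]; exact one_mem _)⟩⟩
  haveI : Nontrivial (Subgroup.center A) := hA.center_nontrivial
  obtain ⟨z, hz⟩ : ∃ z : Subgroup.center A, orderOf z = p := by
    apply exists_prime_orderOf_dvd_card' p
    obtain ⟨n, hn, hn'⟩ := (hA.to_subgroup (Subgroup.center A)).exists_card_eq.elim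
      (fun n hn => (⟨n, hn, trivial⟩ : ∃ n, Nat.card (Subgroup.center A) = p ^ n ∧ True))
    have h1 : 1 < Nat.card (Subgroup.center A) := Finite.one_lt_card
    rcases n with _ | n
    · rw [hn, pow_zero] at h1; omega
    · rw [hn]; exact dvd_pow_self p n.succ_ne_zero
  have huniq : ∀ H K : Subgroup A, Nat.card H = p → Nat.card K = p → H = K := by
    have hzc : Nat.card (Subgroup.zpowers (z : A)) = p := by
      rw [Nat.card_zpowers, Subgroup.orderOf_coe, hz]
    suffices ∀ H : Subgroup A, Nat.card H = p → H = Subgroup.zpowers (z : A) from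
      fun H K hH hK => (this H hH).trans (this K hK).symm
    intro H hH
    -- every element commuting with all of H and with z in a cyclic group
    have inC : ∀ (y : G), y ∉ Subgroup.center G →
        (∀ h ∈ H, (h : G) ∈ Subgroup.centralizer ({y} : Set G)) →
        (z : A).1 ∈ Subgroup.centralizer ({y} : Set G) → H = Subgroup.zpowers (z : A) := by
      intro y hy hH' hz'
      haveI := hC y hy
      let C := Subgroup.centralizer ({y} : Set G)
      have e : (H.map A.subtype).subgroupOf C = ((Subgroup.zpowers (z : A)).map A.subtype).subgroupOf C := by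
        apply Lib.OddLocal.subgroup_eq_of_card_eq_of_isCyclic
        have l1 : H.map A.subtype ≤ C := by rintro _ ⟨h, hh, rfl⟩; exact hH' h hh
        have l2 : (Subgroup.zpowers (z : A)).map A.subtype ≤ C := by
          rw [MonoidHom.map_zpowers, Subgroup.zpowers_le]; exact hz'
        rw [Nat.card_congr (Subgroup.subgroupOfEquivOfLe l1).toEquiv,
          Nat.card_congr (Subgroup.subgroupOfEquivOfLe l2).toEquiv,
          Subgroup.card_subtype, Subgroup.card_subtype, hH, hzc]
      rw [Subgroup.subgroupOf_inj] at e
      have l1 : H.map A.subtype ≤ C := by rintro _ ⟨h, hh, rfl⟩; exact hH' h hh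
      have l2 : (Subgroup.zpowers (z : A)).map A.subtype ≤ C := by
        rw [MonoidHom.map_zpowers, Subgroup.zpowers_le]; exact hz'
      rw [inf_eq_left.2 l1, inf_eq_left.2 l2] at e
      exact Subgroup.map_injective A.subtype_injective e
    have zc : ∀ a ∈ A, (z : A).1 ∈ Subgroup.centralizer ({a} : Set G) := fun a ha =>
      Subgroup.mem_centralizer_singleton_iff.2
        (congrArg Subtype.val (Subgroup.mem_center_iff.1 z.2 ⟨a, ha⟩)).symm
    by_cases hall : ∀ h ∈ H, (h : G) ∈ Subgroup.center G
    · refine inC x hx (fun h hh => ?_) (zc x hxA)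
      exact Subgroup.mem_centralizer_singleton_iff.2 (Subgroup.mem_center_iff.1 (hall h hh) x).symm
    · push Not at hall
      obtain ⟨h, hh, hhc⟩ := hall
      refine inC h hhc (fun k hk => ?_) (zc h h.2)
      haveI : IsCyclic H := isCyclic_of_prime_card hH
      letI := IsCyclic.commGroup (α := H)
      exact Subgroup.mem_centralizer_singleton_iff.2
        (congrArg (fun t : H => ((t : A) : G)) (mul_comm (⟨k, hk⟩ : H) ⟨h, hh⟩))
  rcases Lib.PUnique.isCyclic_or_quaternion hA huniq with hc | ⟨hp2, n, ⟨q⟩⟩
  · exfalso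
    apply hxa
    letI := IsCyclic.commGroup (α := A)
    rw [Subgroup.mem_center_iff]
    exact fun g => mul_comm g _
  · subst hp2
    refine ⟨n, Nat.card B, ?_, Nat.coprime_two_right.1 hBp, ?_⟩
    · by_contra hn
      obtain rfl : n = 0 := by omega
      apply hxa
      haveI : IsCyclic A := by
        rw [q.isCyclic, pow_zero]
        refine isCyclic_of_orderOf_eq_card (QuaternionGroup.xa 0) ?_
        rw [QuaternionGroup.orderOf_xa, Nat.card_eq_fintype_card, QuaternionGroup.card, mul_one]
      letI := IsCyclic.commGroup (α := A)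
      rw [Subgroup.mem_center_iff]
      exact fun g => mul_comm g _
    · let f : A × B →* G := MonoidHom.noncommCoprod A.subtype B.subtype (fun a b => hcomm a a.2 b b.2)
      have hf : Function.Bijective f := by
        rw [Nat.bijective_iff_surjective_and_card]
        refine ⟨fun g => ?_, by rw [Nat.card_prod, hcard]⟩
        obtain ⟨a, ha, b, hb, e⟩ := hgen g
        exact ⟨(⟨a, ha⟩, ⟨b, hb⟩), e⟩
      exact ⟨(MulEquiv.ofBijective f hf).symm.trans
        (q.prodCongr (zmodCyclicMulEquiv hBcyc).symm)⟩

/-- Let G be a finite non-abelian nilpotent group. Then the centralizer of every non-central element of G is cyclic if and only if G is isomorphic to the direct product of a generalized quaternion group and a cyclic group of odd order. -/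
theorem result {G : Type*} [Group G] [Finite G] (hG : Group.IsNilpotent G)
    (hna : ¬ IsMulCommutative G) :
    (∀ x : G, x ∉ Subgroup.center G → IsCyclic (Subgroup.centralizer ({x} : Set G))) ↔
      ∃ (k m : ℕ), 1 ≤ k ∧ Odd m ∧ Nonempty (G ≃* QuaternionGroup (2 ^ k) × Multiplicative (ZMod m)) := by
  exact ⟨forward hG hna, fun ⟨k, m, hk, hm, ⟨e⟩⟩ x hx => backward k m hk hm e x hx⟩

end Cfsg.Agent.S4370
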