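import Cfsg.Statements.S4374
import Cfsg.Agent.Lib.BaseThree.Induction

set_option autoImplicit false
open Cfsg

namespace Cfsg.Agent.S4374

/-- Let the finite solvable group A act faithfully on the finite additive group V by group automorphisms, completely reducibly (every A-invariant subgroup has an A-invariant complement). Then there are v₁, v₂, v₃ ∈ V such that only the identity of A fixes all three. -/
theorem result {A V : Type*} [Group A] [Finite A]
    [AddCommGroup V] [Finite V] [DistribMulAction A V] [FaithfulSMul A V] (hA : Group.IsSolvable A)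
    (hcr : (∀ U : AddSubgroup V, (∀ a : A, ∀ v ∈ U, a • v ∈ U) → ∃ W : AddSubgroup V, (∀ a : A, ∀ w ∈ W, a • w ∈ W) ∧ U ⊓ W = ⊥ ∧ U ⊔ W = ⊤)) :
    ∃ v₁ v₂ v₃ : V, ∀ a : A, a • v₁ = v₁ → a • v₂ = v₂ → a • v₃ = v₃ → a = 1 := by
  classical
  haveI := hA
  let e : Shrink.{0} V ≃+ V := Shrink.addEquiv
  letI : DistribMulAction A (Shrink.{0} V) :=
    { smul := fun a x => e.symm (a • e x)
      one_smul := fun x => by
        show e.symm ((1 : A) • e x) = x
        rw [one_smul, e.symm_apply_apply]
      mul_smul := fun a b x => by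
        show e.symm ((a * b) • e x) = e.symm (a • e (e.symm (b • e x)))
        rw [mul_smul, e.apply_symm_apply]
      smul_zero := fun a => by
        show e.symm (a • e 0) = 0
        rw [map_zero, smul_zero, map_zero]
      smul_add := fun a x y => by
        show e.symm (a • e (x + y)) = e.symm (a • e x) + e.symm (a • e y)
        rw [map_add, smul_add, map_add] }
  have hsm : ∀ (a : A) (x : Shrink.{0} V), e (a • x) = a • e x := fun a x => e.apply_symm_apply _
  let ρ : A →* (AddMonoid.End (Shrink.{0} V))ˣ :=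
    MonoidHom.toHomUnits (DistribMulAction.toAddMonoidEnd A (Shrink.{0} V))
  obtain ⟨t, ht⟩ := Lib.BaseThree.hasTriple_of_completelyReducible ρ.range
    (Group.isSolvable_of_surjective ρ.rangeRestrict_surjective) (fun U hU => by
      obtain ⟨W, hW, hUW, hUW'⟩ := hcr (U.map e.toAddMonoidHom) (by
        rintro a _ ⟨u, hu, rfl⟩
        exact ⟨a • u, hU _ ⟨a, rfl⟩ u hu, hsm a u⟩)
      refine ⟨W.comap e.toAddMonoidHom, ?_, ?_, ?_⟩
      · rintro _ ⟨a, rfl⟩ w hw
        show e (a • w) ∈ W
        rw [hsm]
        exact hW a _ hw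
      · refine (AddSubgroup.eq_bot_iff_forall _).2 fun x hx => ?_
        have : e x ∈ U.map e.toAddMonoidHom ⊓ W := ⟨⟨x, hx.1, rfl⟩, hx.2⟩
        rw [hUW, AddSubgroup.mem_bot] at this
        exact e.map_eq_zero_iff.1 this
      · refine (AddSubgroup.eq_top_iff' _).2 fun x => ?_
        have : e x ∈ U.map e.toAddMonoidHom ⊔ W := hUW'.symm ▸ AddSubgroup.mem_top _
        obtain ⟨_, ⟨u, hu, rfl⟩, w, hw, hx⟩ := AddSubgroup.mem_sup.1 this
        refine AddSubgroup.mem_sup.2 ⟨u, hu, e.symm w, ?_, ?_⟩
        · show e (e.symm w) ∈ W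
          rwa [e.apply_symm_apply]
        · apply e.injective
          rw [map_add, e.apply_symm_apply]
          exact hx)
  refine ⟨e (t 0), e (t 1), e (t 2), fun a h0 h1 h2 => ?_⟩
  have hfix : ∀ i, ρ a • t i = t i := fun i => by
    apply e.injective
    show e (a • t i) = e (t i)
    rw [hsm]
    fin_cases i
    exacts [h0, h1, h2]
  refine eq_of_smul_eq_smul (α := V) fun v => ?_
  have h := ht ⟨ρ a, ⟨a, rfl⟩⟩ hfix (e.symm v)
  have h' : e (a • e.symm v) = e (e.symm v) := congrArg e h
  rw [hsm, e.apply_symm_apply] at h'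
  rw [one_smul]
  exact h'

end Cfsg.Agent.S4374
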