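import Cfsg.Statements.S4375
import Cfsg.Agent.Lib.OddPair71.Main

set_option autoImplicit false
open Cfsg

namespace Cfsg.Agent.S4375

/-- Let the finite group A of odd order act faithfully on the finite additive group V by group automorphisms, completely reducibly (every A-invariant subgroup has an A-invariant complement). Then there are v, w ∈ V such that only the identity of A fixes both. -/
theorem result {A V : Type*} [Group A] [Finite A]
    [AddCommGroup V] [Finite V] [DistribMulAction A V] [FaithfulSMul A V] (hA : Odd (Nat.card A))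
    (hcr : (∀ U : AddSubgroup V, (∀ a : A, ∀ v ∈ U, a • v ∈ U) → ∃ W : AddSubgroup V, (∀ a : A, ∀ w ∈ W, a • w ∈ W) ∧ U ⊓ W = ⊥ ∧ U ⊔ W = ⊤)) :
    ∃ v w : V, ∀ a : A, a • v = v → a • w = w → a = 1 := by
  let eA : Shrink.{0} A ≃* A := Shrink.mulEquiv
  let eV : Shrink.{0} V ≃+ V := Shrink.addEquiv
  haveI : Finite (Shrink.{0} A) := Finite.of_equiv A eA.toEquiv.symm
  haveI : Finite (Shrink.{0} V) := Finite.of_equiv V eV.toEquiv.symm
  letI : DistribMulAction (Shrink.{0} A) (Shrink.{0} V) :=
    { smul := fun a v => eV.symm (eA a • eV v)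
      one_smul := fun v => show eV.symm (eA 1 • eV v) = v by simp
      mul_smul := fun a b v => show eV.symm (eA (a * b) • eV v) =
          eV.symm (eA a • eV (eV.symm (eA b • eV v))) by simp [mul_smul]
      smul_zero := fun a => show eV.symm (eA a • eV 0) = 0 by simp
      smul_add := fun a v w => show eV.symm (eA a • eV (v + w)) =
          eV.symm (eA a • eV v) + eV.symm (eA a • eV w) by simp }
  have hsm : ∀ (a : Shrink.{0} A) (v : Shrink.{0} V), eV (a • v) = eA a • eV v := fun a v =>
    eV.apply_symm_apply _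
  have hodd : Odd (Nat.card (Shrink.{0} A)) := by rwa [Nat.card_congr eA.toEquiv]
  have hcr' : OP71.CR (Shrink.{0} A) (Shrink.{0} V) := by
    intro U hU
    obtain ⟨W, hW, hdis, hsup⟩ := hcr (U.comap eV.symm.toAddMonoidHom) (fun a v hv => by
      have := hU (eA.symm a) (eV.symm v) hv
      show eV.symm (a • v) ∈ U
      have h2 : eV.symm (a • v) = eA.symm a • eV.symm v := by
        apply eV.injective
        rw [hsm]; simp
      rw [h2]; exact this)
    refine ⟨W.comap eV.toAddMonoidHom, fun a w hw => ?_, ?_, ?_⟩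
    · show eV (a • w) ∈ W
      rw [hsm]; exact hW _ _ hw
    · rw [eq_bot_iff]
      rintro x ⟨hxU, hxW⟩
      have : eV x ∈ U.comap eV.symm.toAddMonoidHom ⊓ W :=
        ⟨show eV.symm (eV x) ∈ U by rwa [eV.symm_apply_apply], hxW⟩
      rw [hdis, AddSubgroup.mem_bot] at this
      rw [AddSubgroup.mem_bot]
      exact eV.injective (by rw [this, map_zero])
    · rw [eq_top_iff]
      intro x _
      have hx : eV x ∈ U.comap eV.symm.toAddMonoidHom ⊔ W := hsup ▸ AddSubgroup.mem_top _
      obtain ⟨u, hu, w, hw, huw⟩ := AddSubgroup.mem_sup.1 hx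
      refine AddSubgroup.mem_sup.2 ⟨eV.symm u, hu, eV.symm w, ?_, ?_⟩
      · show eV (eV.symm w) ∈ W
        rwa [eV.apply_symm_apply]
      · rw [← map_add, huw, eV.symm_apply_apply]
  obtain ⟨v, w, hvw⟩ := OP71.main _ (Shrink.{0} A) (Shrink.{0} V) hodd hcr' le_rfl
  refine ⟨eV v, eV w, fun a h1 h2 => ?_⟩
  refine FaithfulSMul.eq_of_smul_eq_smul fun x : V => ?_
  have h := hvw (eA.symm a) (eV.injective (by rw [hsm]; simpa using h1))
    (eV.injective (by rw [hsm]; simpa using h2)) (eV.symm x)
  have h3 := congrArg eV h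
  rw [hsm, eA.apply_symm_apply, eV.apply_symm_apply] at h3
  rw [h3, one_smul]

end Cfsg.Agent.S4375
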