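import Cfsg.Statements.S4377

set_option autoImplicit false
open Cfsg

namespace Cfsg.Agent.S4377

theorem pow_eq_one_card {G : Type*} [Group G] [Finite G] (n : ℕ) (hn : 0 < n) :
    Nat.card {g : G // g ^ n = 1} = ∑ d ∈ n.divisors, Nat.card {g : G // orderOf g = d} := by
  classical
  haveI := Fintype.ofFinite G
  simp only [Nat.card_eq_fintype_card, Fintype.card_subtype]
  exact (sum_card_orderOf_eq_card_pow_eq_one hn.ne').symm


/-- Two finite groups have the same number of elements of each order if and only if, for every n, they have the same number of elements g with gⁿ = 1. -/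
theorem result {G H : Type*} [Group G] [Finite G] [Group H] [Finite H] :
    (∀ n : ℕ, Nat.card {g : G // orderOf g = n} = Nat.card {h : H // orderOf h = n}) ↔
      ∀ n : ℕ, Nat.card {g : G // g ^ n = 1} = Nat.card {h : H // h ^ n = 1} := by
  constructor
  · intro h n
    rcases Nat.eq_zero_or_pos n with rfl | hn
    ·
      set M := Monoid.exponent G * Monoid.exponent H with hM
      have hM0 : 0 < M := Nat.pos_of_ne_zero
        (mul_ne_zero Monoid.exponent_ne_zero_of_finite Monoid.exponent_ne_zero_of_finite)
      have eG : Nat.card {g : G // g ^ 0 = 1} = Nat.card {g : G // g ^ M = 1} :=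
        Nat.card_congr (Equiv.subtypeEquivRight fun g => by
          simp [hM, pow_mul, Monoid.pow_exponent_eq_one])
      have eH : Nat.card {g : H // g ^ 0 = 1} = Nat.card {g : H // g ^ M = 1} :=
        Nat.card_congr (Equiv.subtypeEquivRight fun g => by
          simp [hM, mul_comm (Monoid.exponent G), pow_mul, Monoid.pow_exponent_eq_one])
      rw [eG, eH, pow_eq_one_card M hM0, pow_eq_one_card M hM0]
      exact Finset.sum_congr rfl fun d _ => h d
    · rw [pow_eq_one_card n hn, pow_eq_one_card n hn]
      exact Finset.sum_congr rfl fun d _ => h d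
  · intro h n
    induction n using Nat.strong_induction_on with
    | _ n ih =>
      rcases Nat.eq_zero_or_pos n with rfl | hn
      · have z : ∀ (K : Type _) [Group K] [Finite K],
            Nat.card {g : K // orderOf g = 0} = 0 := fun K _ _ => by
          haveI : IsEmpty {g : K // orderOf g = 0} := ⟨fun g => (orderOf_pos g.1).ne' g.2⟩
          exact Nat.card_of_isEmpty
        rw [z G]
        haveI : IsEmpty {g : H // orderOf g = 0} := ⟨fun g => (orderOf_pos g.1).ne' g.2⟩
        exact Nat.card_of_isEmpty.symm
      · have h' := h n
        rw [pow_eq_one_card n hn, pow_eq_one_card n hn,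
          ← Nat.cons_self_properDivisors hn.ne', Finset.sum_cons, Finset.sum_cons,
          Finset.sum_congr rfl (fun d hd => ih d (Nat.mem_properDivisors.1 hd).2)] at h'
        exact Nat.add_right_cancel h'

end Cfsg.Agent.S4377
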