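import Cfsg.Statements.S4376
import Cfsg.Agent.Lib.OrderType.Piwek
import Cfsg.Agent.S4377

set_option autoImplicit false
open Cfsg

namespace Cfsg.Agent.S4376

open Lib.OrderType

abbrev L := Matrix.SpecialLinearGroup (Fin 3) (ZMod 2)

theorem lex : ∀ g : L, g = 1 ∨ g ^ 2 = 1 ∨ g ^ 3 = 1 ∨ g ^ 4 = 1 ∨ g ^ 7 = 1 := by decide +kernel

/-- Cheap test for `g ^ n = 1` in `GL(3,2)`. -/
def pn (n : ℕ) (g : L) : Bool :=
  decide (g = 1 ∨ (2 ∣ n ∧ g ^ 2 = 1) ∨ (3 ∣ n ∧ g ^ 3 = 1) ∨ (4 ∣ n ∧ g ^ 4 = 1) ∨ (7 ∣ n ∧ g ^ 7 = 1))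

theorem lcount : ∀ n ∈ Nat.divisors 84,
    (Finset.univ.filter fun g : L => pn n g = true).card = Piwek.lval n := by decide +kernel

theorem pn_iff (n : ℕ) (g : L) : pn n g = true ↔ g ^ n = 1 := by
  have up : ∀ k, k ∣ n → g ^ k = 1 → g ^ n = 1 := fun k ⟨m, hm⟩ h => by rw [hm, pow_mul, h, one_pow]
  rw [pn, decide_eq_true_iff]
  constructor
  · rintro (rfl | ⟨h, h'⟩ | ⟨h, h'⟩ | ⟨h, h'⟩ | ⟨h, h'⟩)
    · exact one_pow n
    all_goals exact up _ h h'
  · intro hn
    by_cases h1 : g = 1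
    · exact Or.inl h1
    right
    have hd : orderOf g ∣ n := orderOf_dvd_of_pow_eq_one hn
    have key : ∀ p, p.Prime → g ^ p = 1 → p ∣ n := fun p hp h =>
      ((hp.eq_one_or_self_of_dvd _ (orderOf_dvd_of_pow_eq_one h)).resolve_left
        (fun e => h1 (orderOf_eq_one_iff.1 e))) ▸ hd
    rcases lex g with h | h | h | h | h
    · exact absurd h h1
    · exact Or.inl ⟨key 2 Nat.prime_two h, h⟩
    · exact Or.inr (Or.inl ⟨key 3 Nat.prime_three h, h⟩)
    · obtain ⟨i, hi, hi'⟩ := (Nat.dvd_prime_pow Nat.prime_two).1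
        (show orderOf g ∣ 2 ^ 2 from orderOf_dvd_of_pow_eq_one h)
      rcases Nat.lt_or_ge i 2 with hi2 | hi2
      · have h2 : g ^ 2 = 1 := orderOf_dvd_iff_pow_eq_one.1 (hi' ▸ (pow_dvd_pow 2 (show i ≤ 1 by omega)))
        exact Or.inl ⟨key 2 Nat.prime_two h2, h2⟩
      · refine Or.inr (Or.inr (Or.inl ⟨?_, h⟩))
        rw [hi', show i = 2 by omega] at hd
        exact hd
    · exact Or.inr (Or.inr (Or.inr ⟨key 7 (by norm_num) h, h⟩))

theorem card_pow_L (n : ℕ) (hn : n ∣ 84) : Nat.card {g : L // g ^ n = 1} = Piwek.lval n := by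
  rw [← lcount n (Nat.mem_divisors.2 ⟨hn, by norm_num⟩), Nat.card_eq_fintype_card, Fintype.card_subtype]
  exact congrArg Finset.card (Finset.filter_congr fun g _ => (pn_iff n g).symm)

theorem exp_L (g : L) : g ^ 84 = 1 := by
  rcases lex g with h | h | h | h | h
  · rw [h, one_pow]
  · rw [show 84 = 2 * 42 from rfl, pow_mul, h, one_pow]
  · rw [show 84 = 3 * 28 from rfl, pow_mul, h, one_pow]
  · rw [show 84 = 4 * 21 from rfl, pow_mul, h, one_pow]
  · rw [show 84 = 7 * 12 from rfl, pow_mul, h, one_pow]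

/-- Transvection matrices. -/
def tv (a b c d e f : ZMod 2) : Matrix (Fin 3) (Fin 3) (ZMod 2) := !![1, a, b; c, 1, d; e, f, 1]

def T : List (ZMod 2 × ZMod 2 × ZMod 2 × ZMod 2 × ZMod 2 × ZMod 2) :=
  [(1,0,0,0,0,0),(0,1,0,0,0,0),(0,0,1,0,0,0),(0,0,0,1,0,0),(0,0,0,0,1,0),(0,0,0,0,0,1)]

def isT (g : L) : Bool :=
  T.any fun x => decide (g.1 = tv x.1 x.2.1 x.2.2.1 x.2.2.2.1 x.2.2.2.2.1 x.2.2.2.2.2)

open scoped commutatorElement in
theorem isT_comm : ∀ g : L, isT g = true → ∃ a b : L, isT a = true ∧ isT b = true ∧ ⁅a, b⁆ = g := by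
  simp only [commutatorElement_def]
  decide +kernel

theorem isT_ex : ∃ g : L, isT g = true ∧ g ≠ 1 := by decide +kernel

theorem not_solvable_L : ¬ Group.IsSolvable L := by
  intro h
  have key : ∀ n, ∀ g : L, isT g = true → g ∈ derivedSeries L n := by
    intro n
    induction n with
    | zero => exact fun g _ => Subgroup.mem_top g
    | succ n ih =>
      intro g hg
      obtain ⟨a, b, ha, hb, rfl⟩ := isT_comm g hg
      exact Subgroup.commutator_mem_commutator (ih a ha) (ih b hb)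
  obtain ⟨n, hn⟩ := (Group.isSolvable_def L).1 h
  obtain ⟨g, hg, hg1⟩ := isT_ex
  have := key n g hg
  rw [hn, Subgroup.mem_bot] at this
  exact hg1 this

theorem count_eq_of_pow {G H : Type} [Group G] [Finite G] [Group H] [Finite H]
    (h : ∀ n : ℕ, Nat.card {g : G // g ^ n = 1} = Nat.card {h : H // h ^ n = 1}) :
    ∀ n : ℕ, Nat.card {g : G // orderOf g = n} = Nat.card {h : H // orderOf h = n} :=
  Cfsg.Agent.S4377.result.2 h


/-- There are finite groups G and H having the same number of elements of each order (the same order type) with G solvable and H not solvable. -/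
theorem result :
    ∃ (G : Type) (_ : Group G) (_ : Finite G) (H : Type) (_ : Group H) (_ : Finite H),
      Group.IsSolvable G ∧ ¬ Group.IsSolvable H ∧ ∀ n : ℕ, Nat.card {g : G // orderOf g = n} = Nat.card {h : H // orderOf h = n} := by
  obtain ⟨G, iG, fG, hGs, hGe, hGc⟩ := Piwek.pos_real
  obtain ⟨N, iN, fN, hNs, hNe, hNc⟩ := Piwek.neg_real
  refine ⟨G, iG, fG, L × N, inferInstance, inferInstance, hGs, fun h => ?_, count_eq_of_pow fun n => ?_⟩
  · haveI := h
    exact not_solvable_L (Group.isSolvable_of_surjective (f := MonoidHom.fst L N) Prod.fst_surjective)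
  · have he : ∀ x : L × N, x ^ 84 = 1 := fun x => Prod.ext (exp_L x.1) (hNe x.2)
    rw [card_pow_gcd hGe n, card_pow_gcd he n, hGc _ (Nat.gcd_dvd_right n 84), card_pow_eq_one_prod,
      card_pow_L _ (Nat.gcd_dvd_right n 84), hNc _ (Nat.gcd_dvd_right n 84),
      Piwek.balance _ (Nat.mem_divisors.2 ⟨Nat.gcd_dvd_right n 84, by norm_num⟩)]

end Cfsg.Agent.S4376
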