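import Cfsg.Statements.S4381
import Cfsg.Agent.Lib.Coprime.Aut
import Cfsg.Agent.Lib.Core.Nilpotent
-- import your own Cfsg.Agent.* helpers here

set_option autoImplicit false
open Pointwise
open scoped commutatorElement
open Cfsg

namespace Cfsg.Agent.S4381

/-- Let the finite group A act by automorphisms on the finite group G with the orders of A and G coprime, and assume that A or G is solvable. Call a proper A-invariant subgroup of G maximal A-invariant when no A-invariant subgroup lies strictly between it and G. Then all maximal A-invariant subgroups of G are conjugate under elements of the fixed-point subgroup C_G(A) if and only if G is a p-group for some prime p and A leaves invariant no subgroup strictly between the Frattini subgroup of G and G. In that case, if G is nontrivial, the Frattini subgroup is the only maximal A-invariant subgroup (a trivial G has none). -/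
theorem result {A G : Type*} [Group A] [Finite A]
    [Group G] [Finite G] [MulDistribMulAction A G] (hcop : (Nat.card A).Coprime (Nat.card G)) (hsol : Group.IsSolvable A ∨ Group.IsSolvable G) :
    ((∀ M N : Subgroup G, (M ≠ ⊤ ∧ (∀ a : A, ∀ x ∈ M, a • x ∈ M) ∧ ∀ L : Subgroup G, M < L → (∀ a : A, ∀ x ∈ L, a • x ∈ L) → L = ⊤) → (N ≠ ⊤ ∧ (∀ a : A, ∀ x ∈ N, a • x ∈ N) ∧ ∀ L : Subgroup G, N < L → (∀ a : A, ∀ x ∈ L, a • x ∈ L) → L = ⊤) →
        ∃ c : G, (∀ a : A, a • c = c) ∧ N = MulAut.conj c • M) ↔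
      ((∃ p : ℕ, p.Prime ∧ IsPGroup p G) ∧ ∀ L : Subgroup G, frattini G < L → (∀ a : A, ∀ x ∈ L, a • x ∈ L) → L = ⊤)) ∧
    (((∃ p : ℕ, p.Prime ∧ IsPGroup p G) ∧ ∀ L : Subgroup G, frattini G < L → (∀ a : A, ∀ x ∈ L, a • x ∈ L) → L = ⊤) →
      ∀ M : Subgroup G, (M ≠ ⊤ ∧ (∀ a : A, ∀ x ∈ M, a • x ∈ M) ∧ ∀ L : Subgroup G, M < L → (∀ a : A, ∀ x ∈ L, a • x ∈ L) → L = ⊤) ↔ (M = frattini G ∧ M ≠ ⊤)) := by
  classical
  set Inv : Subgroup G → Prop := fun L => ∀ a : A, ∀ x ∈ L, a • x ∈ L with hInvdef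
  set MI : Subgroup G → Prop := fun M => M ≠ ⊤ ∧ Inv M ∧ ∀ L : Subgroup G, M < L → Inv L → L = ⊤
    with hMIdef
  have hexi : ∀ L : Subgroup G, L ≠ ⊤ → Inv L → ∃ M, MI M ∧ L ≤ M := by
    intro L hL hLi
    obtain ⟨M, hLM, hM⟩ := Finite.exists_le_maximal (p := fun K : Subgroup G => K ≠ ⊤ ∧ Inv K) ⟨hL, hLi⟩
    refine ⟨M, ⟨hM.prop.1, hM.prop.2, fun K hK hKi => ?_⟩, hLM⟩
    by_contra hne
    exact hK.not_ge (hM.le_of_ge ⟨hne, hKi⟩ hK.le)
  have hfix : ∀ (a : A) (K : Subgroup G) [K.Characteristic],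
      K.map (MulDistribMulAction.toMulAut A G a).toMonoidHom = K := fun a K _ =>
    Subgroup.characteristic_iff_map_eq.mp inferInstance _
  have hΦ : Inv (frattini G) := by
    intro a x hx
    rw [← hfix a (frattini G)]
    exact ⟨x, hx, rfl⟩
  have hbotI : Inv (⊥ : Subgroup G) := fun a x hx => by
    rw [Subgroup.mem_bot] at hx ⊢; rw [hx, smul_one]
  have hsupI : ∀ K L : Subgroup G, Inv K → Inv L → Inv (K ⊔ L) := by
    intro K L hK hL a x hx
    have : K ⊔ L ≤ (K ⊔ L).comap (MulDistribMulAction.toMulAut A G a).toMonoidHom :=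
      sup_le (fun y hy => Subgroup.mem_sup_left (hK a y hy))
        (fun y hy => Subgroup.mem_sup_right (hL a y hy))
    exact this hx
  have hge : ∀ M, MI M → frattini G ≤ M := by
    intro M hM
    by_contra hle
    have hlt : M < M ⊔ frattini G := lt_of_le_of_ne le_sup_left fun e => hle (e ▸ le_sup_right)
    exact hM.1 (frattini_nongenerating (hM.2.2 _ hlt (hsupI _ _ hM.2.1 hΦ)))
  have huniq : ∀ M, (∀ L : Subgroup G, frattini G < L → Inv L → L = ⊤) → MI M → M = frattini G := by
    intro M hirr hM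
    by_contra hne
    exact hM.1 (hirr M (lt_of_le_of_ne (hge M hM) (Ne.symm hne)) hM.2.1)
  refine ⟨⟨fun hconj => ?_, ?_⟩, ?_⟩
  · have hp : ∃ p : ℕ, p.Prime ∧ IsPGroup p G := by
      by_contra hno
      push Not at hno
      have hbot : (⊥ : Subgroup G) ≠ ⊤ := fun h => hno 2 Nat.prime_two
        (fun g => ⟨0, by
          have : g ∈ (⊥ : Subgroup G) := h ▸ Subgroup.mem_top g
          rw [Subgroup.mem_bot] at this; simp [this]⟩)
      obtain ⟨M, hM, -⟩ := hexi ⊥ hbot hbotI
      apply hM.1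
      refine Subgroup.eq_top_of_card_eq M (Nat.dvd_antisymm M.card_subgroup_dvd_card ?_)
      rw [Nat.dvd_iff_prime_pow_dvd_dvd]
      intro p k hp hpk
      haveI := Fact.mk hp
      obtain ⟨P, hP⟩ := Cfsg.Agent.Lib.Coprime.exists_smul_invariant_sylow hcop hsol p
      have hPtop : (P : Subgroup G) ≠ ⊤ := fun h => hno p hp (fun g => by
        obtain ⟨j, hj⟩ := P.isPGroup' ⟨g, h ▸ Subgroup.mem_top g⟩
        exact ⟨j, congrArg Subtype.val hj⟩)
      obtain ⟨N, hN, hPN⟩ := hexi _ hPtop hP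
      obtain ⟨c, -, hc⟩ := hconj M N hM hN
      have h1 : p ^ k ∣ Nat.card (P : Subgroup G) := by
        rw [P.card_eq_multiplicity]
        exact pow_dvd_pow p ((hp.pow_dvd_iff_le_factorization Nat.card_pos.ne').mp hpk)
      have h2 := h1.trans (Subgroup.card_dvd_of_le hPN)
      rwa [hc, ← Nat.card_congr (Subgroup.equivSMul (MulAut.conj c) M).toEquiv] at h2
    refine ⟨hp, fun L hL hLi => ?_⟩
    obtain ⟨p, hpp, hG⟩ := hp
    haveI := Fact.mk hpp
    by_contra hLtop
    obtain ⟨hc, hpow⟩ := Cfsg.Agent.Lib.Nilp.commutator_le_and_pow_mem_frattini hG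
    have hnorm : ∀ M, MI M → M.Normal := fun M hM => ⟨fun y hy g => by
      have h1 : ⁅g, y⁆ ∈ M := hge M hM (hc (Subgroup.commutator_mem_commutator
        (Subgroup.mem_top g) (Subgroup.mem_top y)))
      simpa [commutatorElement_def] using M.mul_mem h1 hy⟩
    let φ : A →* MulAut (G ⧸ frattini G) :=
      { toFun := fun a => QuotientGroup.congr _ _ (MulDistribMulAction.toMulAut A G a) (hfix a _)
        map_one' := by
          refine MulEquiv.ext fun z => ?_
          obtain ⟨g, rfl⟩ := QuotientGroup.mk_surjective z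
          simp
        map_mul' := fun a b => by
          refine MulEquiv.ext fun z => ?_
          obtain ⟨g, rfl⟩ := QuotientGroup.mk_surjective z
          simp [mul_smul] }
    have hcomm : ∀ x y : G ⧸ frattini G, x * y = y * x := by
      intro x y
      obtain ⟨g, rfl⟩ := QuotientGroup.mk_surjective x
      obtain ⟨h, rfl⟩ := QuotientGroup.mk_surjective y
      rw [← QuotientGroup.mk_mul, ← QuotientGroup.mk_mul, QuotientGroup.eq]
      refine hc ?_
      rw [show (g * h)⁻¹ * (h * g) = ⁅h⁻¹, g⁻¹⁆ by rw [commutatorElement_def]; group]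
      exact Subgroup.commutator_mem_commutator (Subgroup.mem_top _) (Subgroup.mem_top _)
    obtain ⟨W, hW, hWinf, hWsup⟩ := Cfsg.Agent.Lib.Coprime.exists_invariant_complement φ hpp hcomm
      (fun x => by
        obtain ⟨g, rfl⟩ := QuotientGroup.mk_surjective x
        rw [← QuotientGroup.mk_pow, QuotientGroup.eq_one_iff]
        exact hpow g)
      (hcop.coprime_dvd_right (Subgroup.card_quotient_dvd_card _))
      (L.map (QuotientGroup.mk' (frattini G)))
      (by
        rintro a _ ⟨x, hx, rfl⟩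
        exact ⟨a • x, hLi a x hx, rfl⟩)
    set K := W.comap (QuotientGroup.mk' (frattini G)) with hK
    have hKi : Inv K := fun a x hx => hW a _ hx
    have hmapK : K.map (QuotientGroup.mk' (frattini G)) = W :=
      Subgroup.map_comap_eq_self_of_surjective (QuotientGroup.mk'_surjective _) W
    have hKtop : K ≠ ⊤ := by
      intro h
      rw [h, Subgroup.map_top_of_surjective _ (QuotientGroup.mk'_surjective _)] at hmapK
      rw [← hmapK, inf_top_eq, Subgroup.map_eq_bot_iff, QuotientGroup.ker_mk'] at hWinf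
      exact hL.not_ge hWinf
    obtain ⟨N, hN, hKN⟩ := hexi K hKtop hKi
    obtain ⟨M, hM, hLM⟩ := hexi L hLtop hLi
    obtain ⟨c, -, hc'⟩ := hconj M N hM hN
    haveI := hnorm M hM
    have hNM : N = M := by rw [hc']; exact Subgroup.Normal.conj_smul_eq_self c M
    apply hM.1
    refine eq_top_iff.mpr fun g _ => ?_
    have hsup : L.map (QuotientGroup.mk' (frattini G)) ⊔ W ≤ M.map (QuotientGroup.mk' (frattini G)) := by
      rw [← hmapK]
      exact sup_le (Subgroup.map_mono hLM) (Subgroup.map_mono (hNM ▸ hKN))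
    rw [hWsup] at hsup
    obtain ⟨m, hm, hme⟩ := hsup (Subgroup.mem_top (QuotientGroup.mk' (frattini G) g))
    have h1 := hge M hM (QuotientGroup.eq.mp hme)
    simpa using M.mul_mem hm h1
  · rintro ⟨-, hirr⟩ M N hM hN
    refine ⟨1, fun a => smul_one a, ?_⟩
    rw [huniq M hirr hM, huniq N hirr hN, map_one, one_smul]
  · rintro ⟨-, hirr⟩ M
    refine ⟨fun hM => ⟨huniq M hirr hM, hM.1⟩, ?_⟩
    rintro ⟨rfl, hne⟩
    exact ⟨hne, hΦ, hirr⟩

end Cfsg.Agent.S4381
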