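import Cfsg.Statements.S4385
import Cfsg.Agent.Lib.DihedralCore.Split
import Cfsg.Agent.Lib.DihedralCore.ChainShape
import Cfsg.Agent.Lib.GlaubSims.Setup

set_option autoImplicit false
open Pointwise
open Cfsg

namespace Cfsg.Agent.S4385

theorem two_element_image {K : Type*} [Group K] {n : ℕ} (hn : Odd n) (π : K →* DihedralGroup n)
    {h : K} {k : ℕ} (hh : h ^ 2 ^ k = 1) : π h = 1 ∨ ∃ j, π h = DihedralGroup.sr j := by
  have h0 : π h ^ 2 ^ k = 1 := by rw [← map_pow, hh, map_one]
  generalize π h = x at h0 ⊢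
  cases x with
  | r i =>
    left
    rw [← orderOf_eq_one_iff]
    refine Nat.eq_one_of_dvd_coprimes ((Nat.coprime_two_left.2 hn).pow_left k)
      (orderOf_dvd_of_pow_eq_one h0) (orderOf_dvd_of_pow_eq_one ?_)
    rw [DihedralGroup.r_pow, ZMod.natCast_self, mul_zero, DihedralGroup.r_zero]
  | sr i => exact Or.inr ⟨i, rfl⟩

theorem odd_of_core {K : Type*} [Group K] {n : ℕ} (hn : 2 ≤ n)
    (π : K →* DihedralGroup n) (hπ : Function.Surjective π) (hker : π.ker = Cfsg.pCore 2 K) :
    Odd n := by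
  by_contra hh
  obtain ⟨m, rfl⟩ : Even n := Nat.not_odd_iff_even.1 hh
  set z : DihedralGroup (m + m) := DihedralGroup.r ((m : ℕ) : ZMod (m + m)) with hz
  have hmm : ((m : ℕ) : ZMod (m + m)) + (m : ℕ) = 0 := by
    rw [← Nat.cast_add, ZMod.natCast_self]
  have hzc : ∀ w : DihedralGroup (m + m), Commute z w := by
    intro w
    cases w with
    | r i =>
      show z * _ = _ * z
      rw [hz, DihedralGroup.r_mul_r, DihedralGroup.r_mul_r, add_comm ((m : ℕ) : ZMod (m + m)) i]
    | sr i =>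
      show z * _ = _ * z
      rw [hz, DihedralGroup.r_mul_sr, DihedralGroup.sr_mul_r, sub_eq_add_neg,
        neg_eq_of_add_eq_zero_left hmm]
  haveI : (Subgroup.zpowers z).Normal := ⟨fun x hx w => by
    obtain ⟨k, rfl⟩ := Subgroup.mem_zpowers_iff.1 hx
    rw [← ((hzc w).zpow_left k).eq, mul_inv_cancel_right]
    exact zpow_mem (Subgroup.mem_zpowers z) k⟩
  have hz2 : IsPGroup 2 (Subgroup.zpowers z) := by
    intro x
    obtain ⟨k, hk⟩ := Subgroup.mem_zpowers_iff.1 x.2
    refine ⟨1, Subtype.ext ?_⟩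
    have e : z * z = 1 := by rw [hz, DihedralGroup.r_mul_r, hmm, DihedralGroup.r_zero]
    rw [pow_one, Subgroup.coe_pow, ← hk, pow_two, ← (Commute.refl z).mul_zpow, e, one_zpow,
      Subgroup.coe_one]
  have hN : IsPGroup 2 ((Subgroup.zpowers z).comap π) :=
    hz2.comap_of_ker_isPGroup π (hker ▸ Lib.PSolvable.pCore_isPGroup)
  have hle : (Subgroup.zpowers z).comap π ≤ Cfsg.pCore 2 K :=
    Lib.PSolvable.le_pCore (hN := inferInstance) hN
  obtain ⟨x, hx⟩ := hπ z
  have h1 : x ∈ π.ker := hker.symm ▸ hle (show π x ∈ _ by rw [hx]; exact Subgroup.mem_zpowers z)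
  rw [MonoidHom.mem_ker, hx, hz, DihedralGroup.one_def, DihedralGroup.r.injEq] at h1
  have h2 := (ZMod.natCast_eq_zero_iff m (m + m)).1 h1
  have := Nat.le_of_dvd (by omega) h2
  omega

open Lib.GlaubSims in
open Lib.Trivalent (map_trans trans_zero) in
/-- Let H be a subgroup of a finite group G whose largest normal 2-subgroup O_2(H) is nontrivial and such that H/O_2(H) is a dihedral group of order at least 4. Let P be a Sylow 2-subgroup of H and S a Sylow 2-subgroup of G containing P. Suppose y ∈ S lies outside P, normalizes P, has y² in the product of P with the centralizer of P in G, and normalizes no non-identity normal subgroup of H contained in P. Then P has order 4, 8 or 16, and H modulo its largest normal subgroup of odd order is isomorphic to the four-group, to the symmetric group of degree 4, or to the direct product of the symmetric group of degree 4 with a group of order 2. -/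
theorem result {G : Type*} [Group G] [Finite G]
    (H : Subgroup G) (hO : Cfsg.pCore 2 ↥H ≠ ⊥) (n : ℕ) (hn : 2 ≤ n) (hdih : Nonempty (↥H ⧸ Cfsg.pCore 2 ↥H ≃* DihedralGroup n))
    (P : Subgroup G) (hPH : P ≤ H) (hP : IsPGroup 2 P) (hPsyl : ¬ 2 ∣ P.relIndex H)
    (S : Sylow 2 G) (hPS : P ≤ (S : Subgroup G)) (y : G) (hyS : y ∈ (S : Subgroup G)) (hyP : y ∉ P)
    (hy2 : y ^ 2 ∈ P ⊔ Subgroup.centralizer (P : Set G)) (hyN : MulAut.conj y • P = P)
    (hyQ : ∀ Q : Subgroup G, Q ≤ P → (Q.subgroupOf H).Normal → MulAut.conj y • Q = Q → Q = ⊥) :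
    (Nat.card P = 4 ∨ Nat.card P = 8 ∨ Nat.card P = 16) ∧
    (Nonempty (↥H ⧸ Cfsg.oddCore ↥H ≃* Multiplicative (ZMod 2) × Multiplicative (ZMod 2)) ∨
     Nonempty (↥H ⧸ Cfsg.oddCore ↥H ≃* Equiv.Perm (Fin 4)) ∨
     Nonempty (↥H ⧸ Cfsg.oddCore ↥H ≃* Equiv.Perm (Fin 4) × Multiplicative (ZMod 2))) := by
  classical
  haveI : Fact (Nat.Prime 2) := ⟨Nat.prime_two⟩
  haveI : NeZero n := ⟨by omega⟩
  set Qc := Cfsg.pCore 2 ↥H with hQcdef
  haveI hQn : Qc.Normal := @Subgroup.normal_of_characteristic _ _ _ Lib.PSolvable.pCore_characteristic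
  obtain ⟨e⟩ := hdih
  set π : ↥H →* DihedralGroup n := e.toMonoidHom.comp (QuotientGroup.mk' Qc) with hπdef
  have hπs : Function.Surjective π := e.surjective.comp (QuotientGroup.mk'_surjective Qc)
  have hπk : π.ker = Qc := by
    ext x
    rw [MonoidHom.mem_ker, hπdef, MonoidHom.comp_apply, MulEquiv.coe_toMonoidHom,
      MulEquiv.map_eq_one_iff, QuotientGroup.mk'_apply, QuotientGroup.eq_one_iff]
  have hodd : Odd n := odd_of_core hn π hπs hπk
  have hn3 : 3 ≤ n := by obtain ⟨k, hk⟩ := hodd; omega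
  -- the orders
  set P' := P.subgroupOf H with hP'def
  have hP' : IsPGroup 2 P' := hP.comap_subtype
  have hQP' : Qc ≤ P' := Lib.PSolvable.pCore_le_sylow (hP'.toSylow hPsyl)
  have hQidx : Qc.index = 2 * n := by
    rw [Subgroup.index_eq_card, Nat.card_congr e.toEquiv, DihedralGroup.nat_card]
  have hrel : Qc.relIndex P' = 2 := by
    have hprod := Subgroup.relIndex_mul_index hQP'
    rw [hQidx] at hprod
    obtain ⟨a, ha⟩ := hP'.index (Qc.subgroupOf P')
    rw [show Qc.relIndex P' = 2 ^ a from ha] at hprod ⊢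
    obtain ⟨k, hk⟩ := hodd
    have hm : ¬ 2 ∣ P'.index := hPsyl
    rcases a with _ | _ | a
    · rw [pow_zero, one_mul] at hprod
      exact absurd ⟨n, hprod⟩ hm
    · rfl
    · exfalso
      have h4 : 4 ∣ 2 * n := ⟨2 ^ a * P'.index, by rw [← hprod]; ring⟩
      omega
  set Q : Subgroup G := Qc.map H.subtype with hQdef
  have hQH : Q ≤ H := Subgroup.map_subtype_le _
  have hQP : Q ≤ P := by
    rintro _ ⟨x, hx, rfl⟩; exact Subgroup.mem_subgroupOf.1 (hQP' hx)
  have hQcard : Nat.card Q = Nat.card Qc :=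
    Subgroup.card_map_of_injective H.subtype_injective
  have hPcard : Nat.card P = Nat.card Q * 2 := by
    rw [hQcard, ← hrel, ← Nat.card_congr (Subgroup.subgroupOfEquivOfLe hPH).toEquiv,
      Lib.PSolvable.card_mul_relIndex hQP']
  have hHQ : H ≤ Subgroup.normalizer (Q : Set G) := by
    intro h hh
    have key : ∀ k : ↥H, ∀ x ∈ Q, (k : G) * x * (k : G)⁻¹ ∈ Q := by
      rintro k _ ⟨x, hx, rfl⟩
      exact ⟨k * x * k⁻¹, hQn.conj_mem x hx k, by simp⟩
    rw [Subgroup.mem_normalizer_iff]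
    refine fun x => ⟨key ⟨h, hh⟩ x, fun hx => ?_⟩
    simpa [mul_assoc] using key (⟨h, hh⟩ : ↥H)⁻¹ _ hx
  -- a rotation and the two reflections
  obtain ⟨d, hd⟩ := hπs (DihedralGroup.r 1)
  obtain ⟨p₀, hp₀P, hp₀Q⟩ : ∃ p ∈ P', p ∉ Qc := SetLike.not_le_iff_exists.1 fun h => by
    rw [Subgroup.relIndex_eq_one.2 h] at hrel
    omega
  obtain ⟨j, hj⟩ : ∃ j, π p₀ = DihedralGroup.sr j := by
    obtain ⟨k, hk⟩ := hP' ⟨p₀, hp₀P⟩
    refine (two_element_image hodd π (k := k) (congrArg Subtype.val hk)).resolve_left fun h1 => ?_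
    exact hp₀Q (hπk ▸ h1)
  set B' := P'.map (MulAut.conj d).toMonoidHom with hB'
  have htop : P' ⊔ B' = ⊤ := by
    rw [eq_top_iff]
    set M := (P' ⊔ B').map π with hM
    have hs : DihedralGroup.sr j ∈ M := ⟨p₀, Subgroup.mem_sup_left hp₀P, hj⟩
    have hs2 : DihedralGroup.sr (j - 2) ∈ M := by
      refine ⟨MulAut.conj d p₀, Subgroup.mem_sup_right ⟨p₀, hp₀P, rfl⟩, ?_⟩
      rw [MulAut.conj_apply, map_mul, map_mul, map_inv, hj, hd, DihedralGroup.inv_r,
        DihedralGroup.r_mul_sr, DihedralGroup.sr_mul_r]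
      congr 1; ring
    have hr2 : DihedralGroup.r (-2 : ZMod n) ∈ M := by
      have := mul_mem hs hs2
      rwa [DihedralGroup.sr_mul_sr, show j - 2 - j = (-2 : ZMod n) by ring] at this
    have hr1 : DihedralGroup.r (1 : ZMod n) ∈ M := by
      obtain ⟨m, hm⟩ := hodd
      have := pow_mem hr2 m
      rw [DihedralGroup.r_pow] at this
      convert this using 2
      have h0 : ((n : ℕ) : ZMod n) = 0 := ZMod.natCast_self n
      have h1 : ((n : ℕ) : ZMod n) = 2 * (m : ZMod n) + 1 := by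
        have := congrArg (fun k : ℕ => (k : ZMod n)) hm
        simpa using this
      linear_combination -(1 : ZMod n) * (h0.symm.trans h1)
    have hr : ∀ i, DihedralGroup.r i ∈ M := fun i => by
      have := pow_mem hr1 i.val
      rwa [DihedralGroup.r_one_pow, ZMod.natCast_zmod_val] at this
    intro x _
    have hx : π x ∈ M := by
      cases π x with
      | r i => exact hr i
      | sr i =>
        have := mul_mem hs (hr (i - j))
        rwa [DihedralGroup.sr_mul_r, add_sub_cancel] at this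
    obtain ⟨w, hw, hwx⟩ := hx
    have : w⁻¹ * x ∈ P' ⊔ B' := Subgroup.mem_sup_left (hQP' (by
      rw [← hπk, MonoidHom.mem_ker, map_mul, map_inv, hwx, inv_mul_cancel]))
    have := mul_mem hw this
    rwa [mul_inv_cancel_left] at this
  set B₁ := P.map (MulAut.conj (d : G)).toMonoidHom with hB1
  have hB1H : B₁ ≤ H := by
    rintro _ ⟨x, hx, rfl⟩
    exact mul_mem (mul_mem d.2 (hPH hx)) (inv_mem d.2)
  have hgen : P ⊔ B₁ = H := by
    refine le_antisymm (sup_le hPH hB1H) fun x hx => ?_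
    have h1 : (⟨x, hx⟩ : ↥H) ∈ P' ⊔ B' := htop ▸ Subgroup.mem_top _
    have h2 : (P' ⊔ B').map H.subtype ≤ P ⊔ B₁ := by
      rw [Subgroup.map_sup]
      refine sup_le_sup ?_ ?_
      · rintro _ ⟨p, hp, rfl⟩; exact hp
      · rintro _ ⟨_, ⟨p, hp, rfl⟩, rfl⟩; exact ⟨(p : G), hp, rfl⟩
    exact h2 ⟨_, h1, rfl⟩
  have hB1card : Nat.card B₁ = Nat.card P :=
    Subgroup.card_map_of_injective (MulAut.conj (d : G)).injective
  have hQB1 : Q ≤ B₁ := fun x hx => by
    refine ⟨(d : G)⁻¹ * x * d, hQP ?_, by simp [mul_assoc]⟩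
    simpa using (Subgroup.mem_normalizer_iff.1 (hHQ (inv_mem d.2)) x).1 hx
  have hne : P ≠ B₁ := fun e1 => by
    have hH : H = P := by rw [← hgen, ← e1, sup_idem]
    have hQ1 := Subgroup.card_mul_index Qc
    rw [hQidx] at hQ1
    have : Nat.card ↥H = Nat.card P := by rw [hH]
    rw [hPcard, hQcard, ← hQ1] at this
    have := Nat.eq_of_mul_eq_mul_left (Nat.card_pos (α := Qc)) this
    omega
  have hPB : P ⊓ B₁ = Q := by
    refine (Subgroup.eq_of_le_of_card_ge (le_inf hQP hQB1) ?_).symm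
    obtain ⟨k, hk⟩ := Subgroup.card_dvd_of_le (inf_le_left : P ⊓ B₁ ≤ P)
    have hk2 : 2 ≤ k := by
      by_contra hh
      refine hne (Subgroup.eq_of_le_of_card_ge ?_ (by rw [hB1card]))
      have hpos := Nat.card_pos (α := ↥P)
      have hk1 : k = 1 := by
        rcases k with _ | _ | k
        · omega
        · rfl
        · omega
      rw [hk1, mul_one] at hk
      exact inf_eq_left.1 (Subgroup.eq_of_le_of_card_ge inf_le_left hk.le)
    have := Nat.mul_le_mul_left (Nat.card ↥(P ⊓ B₁)) hk2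
    rw [← hk, hPcard] at this
    omega
  -- the automorphism
  set g : G := (d : G) * y with hg
  set φ : MulAut G := MulAut.conj g with hφ
  have hyP' : P.map (MulAut.conj y).toMonoidHom = P := hyN
  have hP1 : Lib.Trivalent.trans φ P 1 = B₁ := by
    rw [Lib.Trivalent.trans, zpow_one, hB1]
    conv_rhs => rw [← hyP', Subgroup.map_map]
    congr 1
    ext x
    simp [hφ, hg, mul_assoc]
  have hy2Q : y ^ 2 ∈ Subgroup.normalizer (Q : Set G) :=
    (sup_le (hPH.trans hHQ) ((Subgroup.centralizer_le hQP).trans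
      (Subgroup.centralizer_le_normalizer _))) hy2
  have hrel1 : (P ⊓ Lib.Trivalent.trans φ P 1).relIndex (Lib.Trivalent.trans φ P 1) = 2 := by
    rw [hP1, hPB]
    have := Lib.PSolvable.card_mul_relIndex hQB1
    rw [hB1card, hPcard] at this
    exact Nat.eq_of_mul_eq_mul_left Nat.card_pos this
  have hnorm : Lib.Trivalent.trans φ P 1 ≤ Subgroup.normalizer ((P ⊓ Lib.Trivalent.trans φ P 1 : Subgroup G) : Set G) := by
    rw [hP1, hPB]; exact hB1H.trans hHQ
  obtain ⟨t, c₀, hwin⟩ := exists_chain φ P hnorm hrel1 fun X hXP hPX hXφ => by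
    have hHX : H ≤ Subgroup.normalizer (X : Set G) := by
      rw [← hgen]
      refine sup_le hPX ?_
      rw [← hP1, Lib.Trivalent.trans, zpow_one]
      exact (Subgroup.map_mono hPX).trans ((Subgroup.le_normalizer_map _).trans (by rw [hXφ]))
    refine hyQ X hXP ((Subgroup.normal_subgroupOf_iff_le_normalizer (hXP.trans hPH)).2 hHX) ?_
    show X.map (MulAut.conj y).toMonoidHom = X
    refine Subgroup.eq_of_le_of_card_ge ?_
      (Subgroup.card_map_of_injective (MulAut.conj y).injective).ge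
    rintro _ ⟨x, hx, rfl⟩
    have h1 : g * x * g⁻¹ ∈ X := hXφ.le ⟨x, hx, rfl⟩
    have h2 := (Subgroup.mem_normalizer_iff.1 (hHX (inv_mem d.2)) _).1 h1
    simpa [hg, mul_assoc] using h2
  let c : Lib.Trivalent.Chain G t := ⟨c₀.x, c₀.φ, c₀.shift, c₀.card_win, c₀.ne, c₀.pos⟩
  have hw : ∀ i, Lib.Trivalent.win c.x i t = Lib.Trivalent.trans φ P i := hwin
  have hPt : Nat.card P = 2 ^ t := by
    rw [← trans_zero φ P, ← hw 0, c.card_win 0 t le_rfl]
  have ht : 2 ≤ t := by
    have h1 : 1 < Nat.card Q := hQcard.symm ▸ (Subgroup.one_lt_card_iff_ne_bot _).2 hO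
    by_contra hh
    have : 2 ^ t ≤ 2 ^ 1 := Nat.pow_le_pow_right two_pos (by omega)
    rw [← hPt, hPcard] at this
    omega
  have hP0 : Lib.Trivalent.win c.x 0 t = P := by rw [hw, trans_zero]
  have hP1' : Lib.Trivalent.win c.x 1 t = B₁ := by rw [hw, hP1]
  have hH0 : Lib.Trivalent.win c.x 0 (t + 1) = H := by
    rw [← Lib.Trivalent.win_sup c.pos, zero_add, hP0, hP1', hgen]
  have hQw : Lib.Trivalent.win c.x 1 (t - 1) = Q := by
    refine Subgroup.eq_of_le_of_card_ge ?_ ?_
    · rw [← hPB]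
      refine le_inf ?_ ?_
      · rw [← hP0]; exact Lib.Trivalent.win_mono (by omega) (by omega)
      · rw [← hP1']; exact Lib.Trivalent.win_mono (by omega) (by omega)
    · rw [c.card_win 1 (t - 1) (by omega)]
      have : 2 ^ t = 2 ^ (t - 1) * 2 := by rw [← pow_succ]; congr 1; omega
      rw [← hPt, hPcard] at this
      omega
  -- no central elements in two neighbouring top windows
  have hcen : ∀ z ∈ Lib.Trivalent.win c.x 0 t,
      (∀ i : ℤ, 0 ≤ i → i ≤ t + 1 → Commute (c.x i) z) → z = 1 := by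
    intro z hz hzc
    rw [hP0] at hz
    have hzH : z ∈ Subgroup.centralizer (H : Set G) := Subgroup.mem_centralizer_iff.2 fun h hh => by
      rw [SetLike.mem_coe, ← hH0] at hh
      exact (Lib.Trivalent.Chain.commute_of_mem_win hh fun i h1 h2 => hzc i h1 (by omega)).eq
    set X := P ⊓ Subgroup.centralizer (H : Set G) ⊓
      (Subgroup.centralizer (H : Set G)).map (MulAut.conj y).toMonoidHom with hX
    have hzX : z ∈ X := by
      refine ⟨⟨hz, hzH⟩, ⟨y⁻¹ * z * y, ?_, by simp [mul_assoc]⟩⟩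
      refine Subgroup.mem_centralizer_iff.2 fun h hh => ?_
      have h1 : φ h ∈ Lib.Trivalent.win c.x 1 (t + 1) := by
        rw [← Lib.Trivalent.win_sup c.pos, hw, hw]
        have : h ∈ Lib.Trivalent.trans φ P 0 ⊔ Lib.Trivalent.trans φ P (0 + 1) := by
          rw [trans_zero, zero_add, hP1, hgen]; exact hh
        have h2 := Subgroup.mem_map_of_mem (φ : G ≃* G).toMonoidHom this
        rw [Subgroup.map_sup, map_trans, map_trans] at h2
        simpa using h2
      have h3 : Commute (φ h) z :=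
        Lib.Trivalent.Chain.commute_of_mem_win h1 fun i h1 h2 => hzc i (by omega) (by omega)
      have hdz : (d : G) * z = z * d := Subgroup.mem_centralizer_iff.1 hzH d d.2
      have e2 : y⁻¹ * z * y = g⁻¹ * z * g := by
        calc y⁻¹ * z * y = y⁻¹ * (d : G)⁻¹ * ((d : G) * z) * y := by group
          _ = y⁻¹ * (d : G)⁻¹ * (z * d) * y := by rw [hdz]
          _ = g⁻¹ * z * g := by rw [hg]; group
      rw [e2]
      calc h * (g⁻¹ * z * g) = g⁻¹ * (φ h * z) * g := by
            rw [hφ, MulAut.conj_apply]; group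
        _ = g⁻¹ * (z * φ h) * g := by rw [h3.eq]
        _ = g⁻¹ * z * g * h := by rw [hφ, MulAut.conj_apply]; group
    have hXb : X = ⊥ := by
      refine hyQ X (inf_le_left.trans inf_le_left) ?_ ?_
      · refine (Subgroup.normal_subgroupOf_iff_le_normalizer
          ((inf_le_left.trans inf_le_left).trans hPH)).2 fun h hh => Subgroup.mem_normalizer_iff.2 fun x => ?_
        constructor
        · intro hx
          have : h * x = x * h := Subgroup.mem_centralizer_iff.1 hx.1.2 h hh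
          rwa [this, mul_inv_cancel_right]
        · intro hx
          have h2 : h * (h * x * h⁻¹) = h * x * h⁻¹ * h :=
            Subgroup.mem_centralizer_iff.1 hx.1.2 h hh
          rw [inv_mul_cancel_right] at h2
          rwa [mul_left_cancel h2] at hx
      show X.map (MulAut.conj y).toMonoidHom = X
      refine Subgroup.eq_of_le_of_card_ge ?_
        (Subgroup.card_map_of_injective (MulAut.conj y).injective).ge
      rintro _ ⟨x, ⟨⟨hxP, hxH⟩, ⟨v, hv, hvx⟩⟩, rfl⟩
      refine ⟨⟨hyP'.le ⟨x, hxP, rfl⟩, ?_⟩, ⟨x, hxH, rfl⟩⟩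
      have hvP : v ∈ P := by
        rw [← hyP'] at hxP
        obtain ⟨p, hp, hpx⟩ := hxP
        rwa [(MulAut.conj y).injective (hvx.trans hpx.symm)]
      have hyv : y ^ 2 ∈ Subgroup.centralizer ({v} : Set G) := by
        have hle : P ⊔ Subgroup.centralizer (P : Set G) ≤ Subgroup.centralizer ({v} : Set G) :=
          sup_le (fun p hp => Subgroup.mem_centralizer_singleton_iff.2
            (Subgroup.mem_centralizer_iff.1 hv p (hPH hp))) fun p hp =>
            Subgroup.mem_centralizer_singleton_iff.2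
              (Subgroup.mem_centralizer_iff.1 hp v hvP).symm
        exact hle hy2
      have e2 : (MulAut.conj y).toMonoidHom x = v := by
        rw [← hvx]
        show y * (y * v * y⁻¹) * y⁻¹ = v
        calc y * (y * v * y⁻¹) * y⁻¹ = y ^ 2 * v * (y ^ 2)⁻¹ := by rw [pow_two]; group
          _ = v := by
              rw [Subgroup.mem_centralizer_singleton_iff.1 hyv, mul_inv_cancel_right]
      rw [e2]; exact hv
    rw [hXb] at hzX
    exact Subgroup.mem_bot.1 hzX
  obtain ⟨δ, hδ, hcases⟩ := Lib.DihedralCore.chain_cases c ht hcen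
  -- the length 6
  have h6 : t ≠ 6 := by
    rintro rfl
    obtain rfl : δ = 4 := by omega
    set R := Lib.Trivalent.win c.x 0 5 with hR
    set E := Lib.Trivalent.win c.x 1 4 with hE
    have hRQ : R.map (φ : G ≃* G).toMonoidHom = Q := by
      refine Subgroup.eq_of_le_of_card_ge ?_ ?_
      · have h1 : R ≤ Lib.Trivalent.trans φ P (-1) ⊓ Lib.Trivalent.trans φ P 0 := by
          rw [← hw, ← hw]
          exact le_inf (Lib.Trivalent.win_mono (by omega) (by omega))
            (Lib.Trivalent.win_mono (by omega) (by omega))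
        refine (Subgroup.map_mono h1).trans ?_
        rw [Subgroup.map_inf _ _ _ φ.injective, map_trans, map_trans, ← hPB, ← hP1]
        norm_num [trans_zero]
      · rw [Subgroup.card_map_of_injective (f := (φ : G ≃* G).toMonoidHom) φ.injective, ← hQw,
          c.card_win 1 _ (by omega),
          c.card_win 0 5 (by omega)]
    have hRyQ : ∀ r ∈ R, y * r * y⁻¹ ∈ Q := by
      intro r hr
      have h1 : g * r * g⁻¹ ∈ Q := hRQ.le ⟨r, hr, rfl⟩
      have h2 := (Subgroup.mem_normalizer_iff.1 (hHQ (inv_mem d.2)) _).1 h1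
      simpa [hg, mul_assoc] using h2
    have hQyR : ∀ q ∈ Q, y * q * y⁻¹ ∈ R := by
      intro q hq
      have h1 := (Subgroup.mem_normalizer_iff.1 hy2Q q).1 hq
      have h2 := (Subgroup.mem_normalizer_iff.1 (hHQ d.2) _).1 h1
      rw [← hRQ] at h2
      obtain ⟨r, hr, hr'⟩ := h2
      have e2 : r = y * q * y⁻¹ := by
        have h3 : g * r * g⁻¹ = (d : G) * (y ^ 2 * q * (y ^ 2)⁻¹) * (d : G)⁻¹ := hr'
        calc r = g⁻¹ * (g * r * g⁻¹) * g := by group
          _ = y * q * y⁻¹ := by rw [h3, hg, pow_two]; group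
      exact e2 ▸ hr
    have hER : E ≤ R := Lib.Trivalent.win_mono (by omega) (by omega)
    have hEQ : E ≤ Q := by rw [← hQw]; exact Lib.Trivalent.win_mono le_rfl (by omega)
    have hEb : E = ⊥ := by
      refine hyQ E (hEQ.trans hQP) ((Subgroup.normal_subgroupOf_iff_le_normalizer (hEQ.trans hQH)).2
        (hH0.ge.trans (Lib.DihedralCore.six_normal hδ))) ?_
      show E.map (MulAut.conj y).toMonoidHom = E
      refine Subgroup.eq_of_le_of_card_ge ?_
        (Subgroup.card_map_of_injective (MulAut.conj y).injective).ge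
      rintro _ ⟨x, hx, rfl⟩
      have h1 : y * x * y⁻¹ ∈ R := hQyR x (hEQ hx)
      have h2 : y * x * y⁻¹ ∈ Lib.Trivalent.win c.x 1 5 := by
        rw [show (5 : ℕ) = 6 - 1 from rfl, hQw]; exact hRyQ x (hER hx)
      simpa using c.mem_win_succ (a := 0) (n := 4) (N := 5) (by omega) (by omega) h1
        (by simpa using h2)
    have := c.card_win 1 4 (by omega)
    rw [← hE, hEb, Subgroup.card_bot] at this
    omega
  refine ⟨?_, ?_⟩
  · rcases hcases with h | h | h | h
    · exact Or.inl (by rw [hPt, h.1]; rfl)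
    · exact Or.inr (Or.inl (by rw [hPt, h.1]; rfl))
    · exact Or.inr (Or.inr (by rw [hPt, h.1]; rfl))
    · exact absurd h.1 h6
  -- the complement
  have hδt : t - 1 ≤ δ := by omega
  have hxH : ∀ i : ℤ, 0 ≤ i → i ≤ t → c.x i ∈ H := fun i h1 h2 =>
    hH0 ▸ Lib.Trivalent.mem_win h1 (by omega)
  have hQmem : ∀ {z : ↥H}, z ∈ Qc ↔ (z : G) ∈ Q := by
    intro z
    exact (Subgroup.mem_map_iff_mem H.subtype_injective).symm
  have hmid : ∀ i : ℤ, 1 ≤ i → i < t → c.x i ∈ Q := fun i h1 h2 =>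
    hQw ▸ Lib.Trivalent.mem_win h1 (by omega)
  have hx0P : c.x 0 ∈ P := hP0 ▸ Lib.Trivalent.mem_win le_rfl (by omega)
  have hxtB : c.x t ∈ B₁ := hP1' ▸ Lib.Trivalent.mem_win (by omega) (by omega)
  have hx0Q : c.x 0 ∉ Q := fun h => by
    have hle : P ≤ Q := hP0 ▸ Lib.Trivalent.win_le fun i h1 h2 => by
      rcases eq_or_lt_of_le h1 with rfl | h1'
      · exact h
      · exact hmid i (by omega) (by omega)
    have := Subgroup.card_le_of_le hle
    rw [hPcard] at this
    have := Nat.card_pos (α := Q)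
    omega
  have hxtQ : c.x t ∉ Q := fun h => by
    have hle : B₁ ≤ Q := hP1' ▸ Lib.Trivalent.win_le fun i h1 h2 => by
      rcases eq_or_lt_of_le (show i ≤ (t : ℤ) by omega) with rfl | h1'
      · exact h
      · exact hmid i h1 (by omega)
    have := Subgroup.card_le_of_le hle
    rw [hB1card, hPcard] at this
    have := Nat.card_pos (α := Q)
    omega
  set a : ↥H := ⟨c.x 0, hxH 0 le_rfl (by omega)⟩ with hadef
  set b : ↥H := ⟨c.x t, hxH t (by omega) le_rfl⟩ with hbdef
  have ha2 : a * a = 1 := Subtype.ext (c.x_mul_self 0)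
  have hb2 : b * b = 1 := Subtype.ext (c.x_mul_self t)
  have hrefl : ∀ {z : ↥H}, z * z = 1 → (z : G) ∉ Q → ∃ k, π z = DihedralGroup.sr k := by
    intro z hz hzQ
    refine (two_element_image hodd π (h := z) (k := 1) ?_).resolve_left fun h1 => hzQ ?_
    · rw [pow_one, pow_two, hz]
    · exact hQmem.1 (hπk ▸ h1)
  obtain ⟨ja, hja⟩ := hrefl ha2 hx0Q
  obtain ⟨jb, hjb⟩ := hrefl hb2 hxtQ
  set u : ↥H := a * b with hudef
  have hun : u ^ n ∈ Qc := by
    rw [← hπk, MonoidHom.mem_ker, map_pow, hudef, map_mul, hja, hjb, DihedralGroup.sr_mul_sr,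
      DihedralGroup.r_pow, ZMod.natCast_self, mul_zero, DihedralGroup.r_zero]
  have hQsq : ∀ q ∈ Qc, q * q = 1 := fun q hq =>
    Subtype.ext (Lib.DihedralCore.sq_of_mem_win hδ hδt (hQw ▸ hQmem.1 hq))
  have hQcomm : ∀ q ∈ Qc, ∀ r ∈ Qc, Commute q r := fun q hq r hr =>
    Subtype.ext (Lib.DihedralCore.commute_win hδ hδt (hQw ▸ hQmem.1 hq) (hQw ▸ hQmem.1 hr)).eq
  have huinv : a * u * a⁻¹ = u⁻¹ := by
    rw [hudef, mul_inv_rev, inv_eq_of_mul_eq_one_right ha2, inv_eq_of_mul_eq_one_right hb2,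
      ← mul_assoc, ha2, one_mul]
  have hcn : (u ^ 2) ^ n = 1 := by
    rw [← pow_mul, mul_comm, pow_mul, pow_two, hQsq _ hun]
  have hspl : Lib.DihedralCore.Split Qc a (u ^ 2) n := by
    refine ⟨hQn, hQsq, hQcomm, ha2, hodd, hcn, ?_, ?_, ?_⟩
    · rw [← conj_pow, huinv, inv_pow]
    · set M := Qc ⊔ (Subgroup.zpowers (u ^ 2) ⊔ Subgroup.zpowers a) with hMdef
      have hQM : Qc ≤ M := le_sup_left
      have haM : a ∈ M := Subgroup.mem_sup_right (Subgroup.mem_sup_right (Subgroup.mem_zpowers a))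
      have hcM : u ^ 2 ∈ M :=
        Subgroup.mem_sup_right (Subgroup.mem_sup_left (Subgroup.mem_zpowers _))
      have huM : u ∈ M := by
        obtain ⟨k, hk⟩ := hodd
        have e2 : u = (u ^ 2) ^ (k + 1) * (u ^ n)⁻¹ := by
          rw [eq_mul_inv_iff_mul_eq, ← pow_succ', ← pow_mul]
          congr 1; omega
        rw [e2]
        exact mul_mem (pow_mem hcM _) (inv_mem (hQM hun))
      have hbM : b ∈ M := by
        have := mul_mem haM huM
        rwa [hudef, ← mul_assoc, ha2, one_mul] at this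
      rw [eq_top_iff]
      intro z _
      have hle : H ≤ M.map H.subtype := by
        refine hH0.ge.trans (Lib.Trivalent.win_le fun i h1 h2 => ?_)
        rcases (show i = 0 ∨ (1 ≤ i ∧ i < t) ∨ i = t by omega) with rfl | h | rfl
        · exact ⟨a, haM, rfl⟩
        · exact Subgroup.map_mono hQM (hmid i h.1 h.2)
        · exact ⟨b, hbM, rfl⟩
      exact (Subgroup.mem_map_iff_mem H.subtype_injective).1 (hle z.2)
    · rw [← hQidx, Subgroup.card_mul_index]
  have huq : ∀ q ∈ Qc, Commute (u ^ 2) q → Commute u q := fun q hq h =>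
    Lib.DihedralCore.commute_of_pow h (hQcomm _ hun q hq) (Nat.coprime_two_left.2 hodd)
  have hQc' : Nat.card Qc = 2 ^ (t - 1) := by rw [← hQcard, ← hQw, c.card_win _ _ (by omega)]
  have hcube : u ^ 3 ∈ Subgroup.centralizer (Qc : Set ↥H) →
      (u ^ 2) ^ 3 ∈ Subgroup.centralizer (Qc : Set ↥H) := fun h => by
    rw [← pow_mul, mul_comm, pow_mul]; exact pow_mem h 2
  have hcent : ∀ w : ↥H, (w : G) ∈ Subgroup.centralizer (Q : Set G) →
      w ∈ Subgroup.centralizer (Qc : Set ↥H) := fun w hw' =>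
    Subgroup.mem_centralizer_iff.2 fun q hq =>
      Subtype.ext (Subgroup.mem_centralizer_iff.1 hw' q (hQmem.1 hq))
  rcases hcases with ⟨rfl, rfl⟩ | ⟨rfl, rfl⟩ | ⟨rfl, rfl⟩ | ⟨h, -⟩
  · refine Or.inl (hspl.iso_two (by rw [hQc']; rfl) (pow_mem (hcent u ?_) 2))
    rw [← hQw]
    exact Lib.DihedralCore.two_action hδ
  · obtain ⟨h1, h3⟩ := Lib.DihedralCore.three_action hδ
    refine Or.inr (Or.inl (hspl.iso_four (by rw [hQc']; rfl) ?_ (hcube (hcent _ ?_))))
    · refine ⟨⟨c.x 1, hxH 1 (by omega) (by omega)⟩, hQmem.2 (hmid 1 le_rfl (by omega)),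
        fun h => h1 ?_⟩
      exact congrArg Subtype.val (huq _ (hQmem.2 (hmid 1 le_rfl (by omega))) h).eq
    · rw [← hQw]; exact h3
  · obtain ⟨h1, h3, hfix⟩ := Lib.DihedralCore.four_action hδ hodd
      (by rw [show (3 : ℕ) = 4 - 1 from rfl, hQw]; exact hQmem.1 hun)
    refine Or.inr (Or.inr (hspl.iso_eight (by rw [hQc']; rfl)
      (z := ⟨c.x 2, hxH 2 (by omega) (by omega)⟩) (hQmem.2 (hmid 2 (by omega) (by omega)))
      (fun h => c.x_ne_one 2 (congrArg Subtype.val h))
      (Subtype.ext (hδ.commute (i := 0) (j := 2) (by omega) (by omega)).eq)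
      (Commute.pow_left (Subtype.ext h1.eq) 2) ?_ (hcube (hcent _ ?_))))
    · intro q hq hcq
      rcases hfix q (hQw ▸ hQmem.1 hq) (congrArg Subtype.val (huq q hq hcq).eq) with h | h
      · exact Or.inl (Subtype.ext h)
      · exact Or.inr (Subtype.ext h)
    · rw [← hQw]; exact h3
  · exact absurd h h6

end Cfsg.Agent.S4385
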