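import Cfsg.Statements.S4387
import Mathlib
-- import your own Cfsg.Agent.* helpers here

set_option autoImplicit false
open Pointwise
open Cfsg

namespace Cfsg.Agent.S4387

/-- A finite group is not the union of the conjugates of a proper subgroup. -/
theorem eq_top_of_conj_cover {G : Type*} [Group G] [Finite G] (M : Subgroup G)
    (h : ∀ g : G, ∃ c : G, g ∈ MulAut.conj c • M) : M = ⊤ := by
  classical
  cases nonempty_fintype G
  by_contra hM
  -- every element fixes a point of the transitive action on the cosets of `M`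
  have hfix : ∀ g : G, ∃ x : G ⧸ M, g • x = x := by
    intro g
    obtain ⟨c, hc⟩ := h g
    refine ⟨(c : G ⧸ M), ?_⟩
    rw [MulAction.Quotient.smul_coe, QuotientGroup.eq]
    have := (Subgroup.mem_pointwise_smul_iff_inv_smul_mem.mp hc)
    simp only [← map_inv, MulAut.smul_def, MulAut.conj_apply, inv_inv] at this
    have := M.inv_mem this
    simpa [mul_assoc] using this
  haveI : Fintype (MulAction.orbitRel.Quotient G (G ⧸ M)) := Fintype.ofFinite _
  haveI : ∀ g : G, Fintype (MulAction.fixedBy (G ⧸ M) g) := fun g => Fintype.ofFinite _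
  have hsum := MulAction.sum_card_fixedBy_eq_card_orbits_mul_card_group G (G ⧸ M)
  haveI : Subsingleton (MulAction.orbitRel.Quotient G (G ⧸ M)) :=
    (MulAction.pretransitive_iff_subsingleton_quotient G (G ⧸ M)).mp inferInstance
  have horb : Fintype.card (MulAction.orbitRel.Quotient G (G ⧸ M)) = 1 :=
    le_antisymm (Fintype.card_le_one_iff_subsingleton.mpr ‹_›)
      (Fintype.card_pos_iff.mpr ⟨Quotient.mk'' ((1 : G) : G ⧸ M)⟩)
  rw [horb, one_mul] at hsum
  have hlt : (∑ _g : G, 1) < ∑ g : G, Fintype.card (MulAction.fixedBy (G ⧸ M) g) := by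
    refine Finset.sum_lt_sum (fun g _ => Fintype.card_pos_iff.mpr ?_) ⟨1, Finset.mem_univ _, ?_⟩
    · obtain ⟨x, hx⟩ := hfix g; exact ⟨⟨x, hx⟩⟩
    · rw [Fintype.one_lt_card_iff_nontrivial]
      obtain ⟨x, y, hxy⟩ : ∃ x y : G ⧸ M, x ≠ y := by
        by_contra hne
        push Not at hne
        refine hM (eq_top_iff.mpr fun a _ => ?_)
        have := QuotientGroup.eq.mp (hne ((1 : G) : G ⧸ M) (a : G ⧸ M))
        simpa using this
      exact ⟨⟨⟨x, by simp⟩, ⟨y, by simp⟩, fun e => hxy (congrArg Subtype.val e)⟩⟩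
  rw [hsum] at hlt
  simp at hlt

/-- Let G be a non-trivial finite group in which any two maximal subgroups are conjugate. Then G is cyclic of prime-power order. -/
theorem result {G : Type*} [Group G] [Finite G] [Nontrivial G]
    (h : ∀ M N : Subgroup G, IsCoatom M → IsCoatom N → ∃ g : G, N = MulAut.conj g • M) :
    IsCyclic G ∧ IsPrimePow (Nat.card G) := by
  classical
  have hcoat : ∀ H : Subgroup G, H = ⊤ ∨ ∃ M : Subgroup G, IsCoatom M ∧ H ≤ M := fun H =>
    IsCoatomic.eq_top_or_exists_le_coatom H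
  obtain h0 | ⟨M, hM, -⟩ := hcoat ⊥
  · exact absurd h0 bot_ne_top
  have hcyc : IsCyclic G := by
    obtain ⟨g, hg⟩ : ∃ g : G, ∀ c : G, g ∉ MulAut.conj c • M := by
      by_contra hne
      push Not at hne
      exact hM.1 (Cfsg.Agent.S4387.eq_top_of_conj_cover M hne)
    refine ⟨g, ?_⟩
    obtain htop | ⟨N, hN, hle⟩ := hcoat (Subgroup.zpowers g)
    · intro x; rw [← Subgroup.mem_zpowers_iff, htop]; trivial
    · obtain ⟨c, rfl⟩ := h M N hM hN
      exact absurd (hle (Subgroup.mem_zpowers g)) (hg c)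
  refine ⟨hcyc, ?_⟩
  have huniq : ∀ N : Subgroup G, IsCoatom N → N = M := by
    intro N hN
    obtain ⟨c, rfl⟩ := h M N hM hN
    letI := hcyc.commGroup
    ext x
    simp [Subgroup.mem_pointwise_smul_iff_inv_smul_mem, MulAut.smul_def, mul_comm c⁻¹ x]
  have hpos : 1 < Nat.card G := Finite.one_lt_card
  obtain ⟨p, hp, hpd⟩ := Nat.exists_prime_and_dvd (n := Nat.card G) (by omega)
  rw [isPrimePow_iff_unique_prime_dvd]
  refine ⟨p, ⟨hp, hpd⟩, fun q ⟨hq, hqd⟩ => ?_⟩
  by_contra hne
  haveI := Fact.mk hp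
  haveI := Fact.mk hq
  obtain ⟨P⟩ := (inferInstance : Nonempty (Sylow p G))
  obtain ⟨Q⟩ := (inferInstance : Nonempty (Sylow q G))
  have key : ∀ (r : ℕ) [Fact r.Prime] (R : Sylow r G) (s : ℕ), s.Prime → s ∣ Nat.card G → s ≠ r →
      (R : Subgroup G) ≤ M := by
    intro r _ R s hs hsd hsr
    obtain htop | ⟨N, hN, hle⟩ := hcoat (R : Subgroup G)
    · obtain ⟨k, hk⟩ := IsPGroup.iff_card.mp R.isPGroup'
      rw [htop, Subgroup.card_top] at hk
      rw [hk] at hsd
      exact absurd ((Nat.prime_dvd_prime_iff_eq hs Fact.out).mp (hs.dvd_of_dvd_pow hsd)) hsr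
    · exact huniq N hN ▸ hle
  apply hM.1
  have hall : ∀ r : ℕ, r.Prime → (Nat.card G).factorization r ≤ (Nat.card M).factorization r := by
    intro r hr
    haveI := Fact.mk hr
    obtain ⟨R⟩ := (inferInstance : Nonempty (Sylow r G))
    have hR : (R : Subgroup G) ≤ M := by
      rcases eq_or_ne p r with rfl | hpr
      · exact key p R q hq hqd hne
      · exact key r R p hp hpd hpr
    have h1 := R.card_eq_multiplicity
    have h2 := Subgroup.card_dvd_of_le hR
    rw [h1] at h2
    exact (hr.pow_dvd_iff_le_factorization Nat.card_pos.ne').mp h2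
  refine Subgroup.eq_top_of_card_eq M ?_
  refine Nat.dvd_antisymm (Subgroup.card_subgroup_dvd_card M) ?_
  rw [← Nat.factorization_le_iff_dvd Nat.card_pos.ne' Nat.card_pos.ne']
  intro r
  by_cases hr : r.Prime
  · exact hall r hr
  · simp [Nat.factorization_eq_zero_of_not_prime _ hr]

end Cfsg.Agent.S4387
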