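import Cfsg.Statements.S4394
import Cfsg.Agent.Lib.MinNNSylow.Main

set_option autoImplicit false
open Cfsg

namespace Cfsg.Agent.S4394

/-- Let X be a finite minimal non-nilpotent group (not nilpotent, every proper subgroup nilpotent) with a nontrivial normal Sylow p-subgroup P. If G is a finite p-solvable group whose Sylow p-subgroups are isomorphic to P, then G has p-length at most 1. -/
theorem result {G X : Type*} [Group G] [Finite G] [Group X] [Finite X] (p : ℕ) [Fact p.Prime]
    (hX : Cfsg.IsMinimalNonNilpotent X) (P : Sylow p X) (hPn : (P : Subgroup X).Normal) (hP1 : (P : Subgroup X) ≠ ⊥)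
    (hG : Cfsg.IsPSolvable p G) (Q : Sylow p G) (hQ : Nonempty (↥(Q : Subgroup G) ≃* ↥(P : Subgroup X))) : Cfsg.PLengthLE p 1 G := by
  obtain ⟨e⟩ := hQ
  exact Cfsg.Agent.Lib.MinNNSylow.pLengthLE_one_of_hasSchmidtAut hG Q
    ((Cfsg.Agent.Lib.MinNNSylow.hasSchmidtAut_of_minimalNonNilpotent hX P hPn hP1).of_equiv e.symm)

end Cfsg.Agent.S4394
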