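import Cfsg.Statements.S4395
import Cfsg.Agent.Lib.SchmidtUniv.Universal
-- import your own Cfsg.Agent.* helpers here

set_option autoImplicit false
universe u
open Cfsg

namespace Cfsg.Agent.S4395

/-- Let p ≠ q be primes, r ≥ 1, a the multiplicative order of p modulo q, and a₀ = a when a is odd, a₀ = 3a/2 when a is even. Call a finite group minimal non-p-nilpotent when it has no normal p-complement but every proper subgroup has one. Then there is a minimal non-p-nilpotent group G₀ of order p^a₀ · q^r such that every minimal non-p-nilpotent group of order p^t · q^r (any t) is a quotient of G₀ by a central subgroup. -/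
theorem result (p q r : ℕ) [Fact p.Prime] [Fact q.Prime] (hpq : p ≠ q) (hr : 1 ≤ r) (a a₀ : ℕ)
    (ha : a = orderOf (p : ZMod q)) (ha₀ : a₀ = if a % 2 = 1 then a else 3 * a / 2) :
    ∃ (G₀ : Type u) (_ : Group G₀) (_ : Finite G₀),
      (¬ Cfsg.HasNormalPComplement p G₀ ∧ ∀ K : Subgroup G₀, K ≠ ⊤ → Cfsg.HasNormalPComplement p ↥K) ∧ Nat.card G₀ = p ^ a₀ * q ^ r ∧
      ∀ (X : Type u) [Group X] [Finite X], (¬ Cfsg.HasNormalPComplement p X ∧ ∀ K : Subgroup X, K ≠ ⊤ → Cfsg.HasNormalPComplement p ↥K) →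
        (∃ t : ℕ, Nat.card X = p ^ t * q ^ r) → ∃ φ : G₀ →* X, Function.Surjective φ ∧ φ.ker ≤ Subgroup.center G₀ := by
  classical
  have hp : p.Prime := Fact.out
  have hq : q.Prime := Fact.out
  have hunit : ¬ q ∣ p := fun h => hpq ((Nat.prime_dvd_prime_iff_eq hq hp).1 h).symm
  have hne : (p : ZMod q) ≠ 0 := fun h => hunit ((ZMod.natCast_eq_zero_iff p q).1 h)
  have ha0 : a ≠ 0 := by
    rw [ha]
    exact (orderOf_pos_iff.2 (isOfFinOrder_iff_pow_eq_one.2
      ⟨q - 1, by have := hq.two_le; omega, ZMod.pow_card_sub_one_eq_one hne⟩)).ne'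
  have hFcard : Nat.card (GaloisField p a) = p ^ a := GaloisField.card p a ha0
  have hdvd : q ∣ Nat.card (GaloisField p a)ˣ := by
    rw [Nat.card_units, hFcard, ← ZMod.natCast_eq_zero_iff,
      Nat.cast_sub (Nat.one_le_pow _ _ hp.pos), Nat.cast_pow, ha, pow_orderOf_eq_one, Nat.cast_one,
      sub_self]
  obtain ⟨w, hw⟩ := exists_prime_orderOf_dvd_card' q hdvd
  have D : Lib.SchmidtUniv.FieldData p q a (GaloisField p a) (w : GaloisField p a) :=
    ⟨orderOf_units.trans hw, hFcard, ha⟩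
  have hw' : w ^ q ^ r = 1 := D.unit_pow hr
  obtain ⟨X₀, _, _, π₀, hπ₀, hc₀, hk₀, hm₀, hcard₀⟩ := D.exists_cover hr hw'
  have hmnp : Lib.SchmidtUniv.IsMNP p X₀ := D.isMNP_of_cover hr hw' π₀ hπ₀ hc₀ hm₀
  refine ⟨ULift.{u} X₀, inferInstance, inferInstance, hmnp.of_equiv MulEquiv.ulift.symm, ?_, ?_⟩
  · rw [Nat.card_congr Equiv.ulift, hcard₀, ha₀]
  · intro X _ _ hX hcardX
    obtain ⟨t, ht⟩ := hcardX
    obtain ⟨φ, hφ, hker⟩ := D.exists_universal_hom hr hpq hw' π₀ hπ₀ hc₀ hk₀ hm₀ hcard₀ hX ht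
    let e₁ : ULift.{u} X₀ ≃* X₀ := MulEquiv.ulift
    refine ⟨φ.comp e₁.toMonoidHom, hφ.comp e₁.surjective, fun x hx => ?_⟩
    rw [Subgroup.mem_center_iff]
    intro y
    exact e₁.injective (by
      rw [map_mul, map_mul]
      exact Subgroup.mem_center_iff.1 (hker (MonoidHom.mem_ker.2 (MonoidHom.mem_ker.1 hx))) _)

end Cfsg.Agent.S4395
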