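import Cfsg.Statements.S4398
import Cfsg.Agent.Lib.TwoClass.Classify
import Cfsg.Agent.Lib.SectRank.CentreTwo
-- import your own Cfsg.Agent.* helpers here

set_option autoImplicit false
open Cfsg

namespace Cfsg.Agent.S4398

section

variable {S : Type*} [Group S] [Finite S]

theorem card_center_eight {D : Type*} [Group D] [Finite D] (h8 : Nat.card D = 2 ^ 3)
    (hna : ¬ IsMulCommutative D) : Nat.card (Subgroup.center D) = 2 := by
  haveI := Fact.mk Nat.prime_two
  have hp : IsPGroup 2 D := IsPGroup.of_card h8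
  haveI : Nontrivial D := Finite.one_lt_card_iff_nontrivial.mp (by rw [h8]; norm_num)
  haveI := hp.center_nontrivial
  have h1 : Nat.card (Subgroup.center D) ∣ 2 ^ 3 := h8 ▸ Subgroup.card_subgroup_dvd_card _
  obtain ⟨k, hk, hc⟩ := (Nat.dvd_prime_pow Nat.prime_two).mp h1
  have h2 : 1 < Nat.card (Subgroup.center D) := Finite.one_lt_card
  have h3 := (Subgroup.center D).card_mul_index
  rw [h8, hc] at h3
  interval_cases k
  · simp [hc] at h2
  · simpa using hc
  · exact absurd (show (Subgroup.center D).index = 2 by omega)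
      (Cfsg.Agent.Lib.PLemmas.index_center_ne_prime (p := 2))
  · refine absurd ?_ hna
    have htop : Subgroup.center D = ⊤ := Subgroup.eq_top_of_card_eq _ (by rw [hc, h8])
    exact ⟨⟨fun a b => (Subgroup.mem_center_iff.mp (htop ▸ Subgroup.mem_top b) a)⟩⟩

/-- A 2-group of sectional rank at most two containing a nonabelian subgroup of order eight has
commutator subgroup of index four. -/
theorem index_commutator_eq_four (h2 : IsPGroup 2 S) (hr : Cfsg.SectionalPRankLE 2 2 S)
    {D : Subgroup S} (h8 : Nat.card D = 2 ^ 3) (hna : ¬ IsMulCommutative D) {n : ℕ}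
    (hn : Nat.card S = 2 ^ n) : 3 ≤ n ∧ (commutator S).index = 4 := by
  haveI := Fact.mk Nat.prime_two
  obtain ⟨z, hz, -⟩ := Lib.SectRank.CentreIs.exists_of_card_center hna (card_center_eight h8 hna)
  have hn3 : 3 ≤ n := by
    have := Subgroup.card_subgroup_dvd_card D
    rw [h8, hn] at this
    exact (Nat.pow_dvd_pow_iff_le_right (by norm_num)).mp this
  refine ⟨hn3, ?_⟩
  -- the centralizer of `D` lies in `D`
  have hcent : Subgroup.centralizer (D : Set S) ≤ D := by
    intro c hc
    by_contra hcn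
    obtain ⟨k, hk⟩ := h2 c
    obtain ⟨c, hc, hcn, hc2⟩ : ∃ d ∈ Subgroup.centralizer (D : Set S), d ∉ D ∧ d ^ 2 ∈ D := by
      induction k generalizing c with
      | zero => simp at hk; exact absurd (hk ▸ D.one_mem) hcn
      | succ k ih =>
        by_cases h : c ^ 2 ∈ D
        · exact ⟨c, hc, hcn, h⟩
        · exact ih (Subgroup.pow_mem _ hc 2) h (by rw [← pow_mul, ← pow_succ']; exact hk)
    have hsD := Lib.SectRank.frattini_elemSection (p := 2) (h2.to_subgroup D)
    have hcD : ∀ a ∈ D, ∀ b ∈ Subgroup.zpowers c, a * b = b * a := by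
      intro a ha b hb
      obtain ⟨m, rfl⟩ := Subgroup.mem_zpowers_iff.mp hb
      exact ((show Commute a c from Subgroup.mem_centralizer_iff.mp hc a ha).zpow_right m).eq
    have hsC : Lib.SectRank.IsElemSection 2 (Subgroup.zpowers (c ^ 2)) (Subgroup.zpowers c) := by
      refine ⟨Subgroup.zpowers_le.mpr (Subgroup.pow_mem _ (Subgroup.mem_zpowers c) 2),
        fun a ha b hb => ?_, fun a ha => ?_⟩
      · obtain ⟨i, rfl⟩ := Subgroup.mem_zpowers_iff.mp ha
        obtain ⟨j, rfl⟩ := Subgroup.mem_zpowers_iff.mp hb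
        rw [(Commute.zpow_zpow_self c i j).eq, mul_inv_cancel_right, mul_inv_cancel]
        exact Subgroup.one_mem _
      · obtain ⟨i, rfl⟩ := Subgroup.mem_zpowers_iff.mp ha
        refine Subgroup.mem_zpowers_iff.mpr ⟨i, ?_⟩
        rw [← zpow_natCast, ← zpow_natCast, ← zpow_mul, ← zpow_mul, mul_comm]
    have h1 := (hsD.sup hsC hcD).relIndex_le hr
    have hle : Subgroup.zpowers (c ^ 2) ≤ (frattini D).map D.subtype := by
      rw [Subgroup.zpowers_le]
      rcases (hz.central (c ^ 2)).mp ⟨hc2, fun a ha =>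
        (Commute.pow_right (Subgroup.mem_centralizer_iff.mp hc a ha : Commute a c) 2).eq⟩ with h | h
      · rw [h]; exact Subgroup.one_mem _
      · rw [h]; exact hz.mem_frattini h2
    rw [sup_eq_left.mpr hle, ← Subgroup.relIndex_mul_relIndex _ D _ hsD.le le_sup_left] at h1
    have h3 := Lib.SectRank.two_pow_two_le_relIndex_frattini h2 hz
    have h4 : 2 ≤ D.relIndex (D ⊔ Subgroup.zpowers c) := by
      have hne : D.relIndex (D ⊔ Subgroup.zpowers c) ≠ 1 := fun e =>
        hcn ((Subgroup.relIndex_eq_one.mp e) (Subgroup.mem_sup_right (Subgroup.mem_zpowers c)))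
      have hne0 : D.relIndex (D ⊔ Subgroup.zpowers c) ≠ 0 := Subgroup.FiniteIndex.index_ne_zero
      omega
    have := Nat.mul_le_mul h3 h4
    omega
  -- the centre
  set Z := Subgroup.center S
  haveI : Nontrivial S := Finite.one_lt_card_iff_nontrivial.mp
    (by rw [hn]; exact Nat.one_lt_two_pow (by omega))
  have hZsub : ∀ y ∈ Z, y = 1 ∨ y = z := fun y hy =>
    (hz.central y).mp ⟨hcent (Subgroup.mem_centralizer_iff.mpr fun a _ => Subgroup.mem_center_iff.mp hy a),
      fun a _ => Subgroup.mem_center_iff.mp hy a⟩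
  have hzZ : z ∈ Z := by
    haveI := h2.center_nontrivial
    obtain ⟨y, hy⟩ := exists_ne (1 : Z)
    rcases hZsub y y.2 with h | h
    · exact absurd (Subtype.ext h) hy
    · exact h ▸ y.2
  obtain ⟨a, ha, b, hb, hab⟩ := hz.nonab
  have hz2 : z * z = 1 := by
    rcases hZsub (z * z) (Z.mul_mem hzZ hzZ) with h | h
    · exact h
    · exact absurd (mul_eq_left.mp h) hz.ne_one
  -- commutators inside `D` lie in `Z`
  have hcomm : ∀ u ∈ D, ∀ v ∈ D, u * v * u⁻¹ * v⁻¹ = 1 ∨ u * v * u⁻¹ * v⁻¹ = z := by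
    intro u hu v hv
    have hsD := Lib.SectRank.frattini_elemSection (p := 2) (h2.to_subgroup D)
    set Φ := (frattini D).map D.subtype
    have hcard : Nat.card Φ ≤ 2 := by
      have h3 := Lib.SectRank.two_pow_two_le_relIndex_frattini h2 hz
      have h4 := Lib.SectRank.card_mul_relIndex_of_le Φ D hsD.le
      rw [h8, show (2 : ℕ) ^ 3 = 8 from rfl] at h4
      by_contra hlt
      have h5 := Nat.mul_le_mul (show 3 ≤ Nat.card Φ by omega) h3
      exact absurd (h5.trans_eq h4) (by norm_num)
    by_contra hcon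
    push Not at hcon
    have hmem := hsD.comm u hu v hv
    have h3 : 3 ≤ Nat.card Φ := by
      classical
      rw [← SetLike.coe_sort_coe, Nat.card_coe_set_eq, Set.ncard_eq_toFinset_card _]
      refine le_trans (le_of_eq ?_) (Finset.card_le_card
        (show ({1, z, u * v * u⁻¹ * v⁻¹} : Finset S) ⊆ _ from ?_))
      · simp [hz.ne_one.symm, hcon.1.symm, hcon.2.symm]
      · intro y hy
        simp only [Finset.mem_insert, Finset.mem_singleton] at hy
        rw [Set.Finite.mem_toFinset]
        rcases hy with rfl | rfl | rfl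
        exacts [Φ.one_mem, hz.mem_frattini h2, hmem]
    omega
  have hflip : ∀ u ∈ D, ∀ v ∈ D, u * v * u⁻¹ = v ∨ u * v * u⁻¹ = z * v := fun u hu v hv =>
    (hcomm u hu v hv).imp mul_inv_eq_one.mp mul_inv_eq_iff_eq_mul.mp
  have habz : a * b * a⁻¹ = z * b := (hflip a ha b hb).resolve_left fun h =>
    hab (mul_inv_eq_iff_eq_mul.mp h)
  have hbaz : b * a * b⁻¹ = z * a := (hflip b hb a ha).resolve_left fun h =>
    hab (mul_inv_eq_iff_eq_mul.mp h).symm
  have hzzc : ∀ v, z * (z * v) = v := fun v => by rw [← mul_assoc, hz2, one_mul]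
  have hzcom : ∀ v, v * z = z * v := Subgroup.mem_center_iff.mp hzZ
  have hDgen : D = Subgroup.closure {a, b} := by
    refine (Subgroup.eq_of_le_of_card_ge ((Subgroup.closure_le D).mpr (by rintro x (rfl | rfl) <;> assumption)) ?_).symm
    set K := Subgroup.closure ({a, b} : Set S)
    have hK : Nat.card K ∣ 2 ^ 3 := h8 ▸ Subgroup.card_dvd_of_le
      ((Subgroup.closure_le D).mpr (by rintro x (rfl | rfl) <;> assumption))
    obtain ⟨k, hk, hkc⟩ := (Nat.dvd_prime_pow Nat.prime_two).mp hK
    have hk3 : ¬ k < 3 := by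
      intro hlt
      have hcK : ∀ x y : K, x * y = y * x := by
        interval_cases k
        · intro x y
          haveI : Subsingleton K := (Nat.card_eq_one_iff_unique.mp (by simpa using hkc)).1
          exact congrArg₂ (· * ·) (Subsingleton.elim x y) (Subsingleton.elim y x)
        · haveI : IsCyclic K := isCyclic_of_prime_card (p := 2) (by simpa using hkc)
          letI := IsCyclic.commGroup (α := K)
          exact mul_comm
        · letI := IsPGroup.commGroupOfCardEqPrimeSq (p := 2) hkc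
          exact mul_comm
      exact hab (congrArg Subtype.val
        (hcK ⟨a, Subgroup.subset_closure (by simp)⟩ ⟨b, Subgroup.subset_closure (by simp)⟩))
    rw [h8, hkc, show k = 3 by omega]
  -- `D / Z` is self-centralising in `S / Z`
  let π := QuotientGroup.mk' Z
  have hπD : ∀ x : S, (∀ d ∈ D, x * d * x⁻¹ * d⁻¹ ∈ Z) → x ∈ D := by
    intro x hx
    have hA : x * a * x⁻¹ = a ∨ x * a * x⁻¹ = z * a :=
      (hZsub _ (hx a ha)).imp mul_inv_eq_one.mp mul_inv_eq_iff_eq_mul.mp
    have hB : x * b * x⁻¹ = b ∨ x * b * x⁻¹ = z * b :=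
      (hZsub _ (hx b hb)).imp mul_inv_eq_one.mp mul_inv_eq_iff_eq_mul.mp
    suffices ∃ d ∈ D, d * a * d⁻¹ = x * a * x⁻¹ ∧ d * b * d⁻¹ = x * b * x⁻¹ by
      obtain ⟨d, hd, h1, h2'⟩ := this
      have hc : d⁻¹ * x ∈ Subgroup.centralizer (D : Set S) := by
        rw [Subgroup.mem_centralizer_iff]
        have hle : D ≤ Subgroup.centralizer ({d⁻¹ * x} : Set S) := by
          rw [hDgen, Subgroup.closure_le]
          intro y hy
          rcases hy with hy | hy <;> (try rw [Set.mem_singleton_iff] at hy) <;>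
            rw [SetLike.mem_coe, Subgroup.mem_centralizer_singleton_iff, hy]
          · calc a * (d⁻¹ * x) = d⁻¹ * (d * a * d⁻¹) * x := by group
              _ = d⁻¹ * x * a := by rw [h1]; group
          · calc b * (d⁻¹ * x) = d⁻¹ * (d * b * d⁻¹) * x := by group
              _ = d⁻¹ * x * b := by rw [h2']; group
        exact fun y hy => Subgroup.mem_centralizer_singleton_iff.mp (hle hy)
      have := D.mul_mem hd (hcent hc)
      rwa [mul_inv_cancel_left] at this
    rcases hA with hA | hA <;> rcases hB with hB | hB <;> rw [hA, hB]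
    · exact ⟨1, D.one_mem, by simp, by simp⟩
    · exact ⟨a, ha, by simp, habz⟩
    · exact ⟨b, hb, hbaz, by simp⟩
    · refine ⟨a * b, D.mul_mem ha hb, ?_, ?_⟩
      · calc a * b * a * (a * b)⁻¹ = a * (b * a * b⁻¹) * a⁻¹ := by group
          _ = z * a := by rw [hbaz, ← mul_assoc, hzcom, mul_inv_cancel_right]
      · calc a * b * b * (a * b)⁻¹ = a * b * a⁻¹ := by group
          _ = z * b := habz
  set Db := D.map π
  have hker : π.ker = Z := QuotientGroup.ker_mk' Z
  have hZD : Z ≤ D := fun y hy => by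
    rcases hZsub y hy with rfl | rfl
    exacts [D.one_mem, hz.mem]
  have hcZ : Nat.card Z = 2 := by
    have hset : (Z : Set S) = {1, z} := by
      ext y
      exact ⟨fun hy => hZsub y hy, fun hy => by rcases hy with rfl | rfl; exacts [Z.one_mem, hzZ]⟩
    rw [← SetLike.coe_sort_coe, Nat.card_coe_set_eq, hset, Set.ncard_pair (Ne.symm hz.ne_one)]
  have hcardDb : Nat.card Db = 2 ^ 2 := by
    have h1 := Subgroup.relIndex_ker π (K := D)
    rw [hker] at h1
    have h3 := Lib.SectRank.card_mul_relIndex_of_le Z D hZD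
    rw [hcZ, h8, h1] at h3
    exact Nat.eq_of_mul_eq_mul_left two_pos (h3.trans (by norm_num))
  have hself : Subgroup.centralizer (Db : Set (S ⧸ Z)) = Db := by
    apply le_antisymm
    · intro x hx
      obtain ⟨x, rfl⟩ := QuotientGroup.mk_surjective x
      refine ⟨x, hπD x fun d hd => ?_, rfl⟩
      have h1 := Subgroup.mem_centralizer_iff.mp hx _ ⟨d, hd, rfl⟩
      rw [← QuotientGroup.eq_one_iff]
      simp only [π, QuotientGroup.mk'_apply] at h1
      simp only [QuotientGroup.mk_mul, QuotientGroup.mk_inv]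
      rw [← h1, mul_inv_cancel_right, mul_inv_cancel]
    · rintro _ ⟨u, hu, rfl⟩
      rw [Subgroup.mem_centralizer_iff]
      rintro _ ⟨v, hv, rfl⟩
      rw [← map_mul, ← map_mul]
      apply QuotientGroup.eq.mpr
      rcases hflip u hu v hv with h | h
      · rw [mul_inv_eq_iff_eq_mul] at h
        rw [h, inv_mul_cancel]; exact Z.one_mem
      · rw [mul_inv_eq_iff_eq_mul] at h
        rw [h, mul_assoc z v u, ← hzcom, inv_mul_cancel_left]
        exact hzZ
  have hcQ : Nat.card (S ⧸ Z) = 2 ^ (n - 1) := by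
    have := Z.card_mul_index
    rw [hcZ, hn, Subgroup.index_eq_card, ← pow_sub_one_mul (show n ≠ 0 by omega) 2] at this
    omega
  have hzcomm : z ∈ commutator S := by
    rw [show z = a * b * a⁻¹ * b⁻¹ by rw [habz, mul_inv_cancel_right]]
    exact Subgroup.commutator_mem_commutator (Subgroup.mem_top a) (Subgroup.mem_top b)
  have hZle : Z ≤ commutator S := fun y hy => by
    rcases hZsub y hy with rfl | rfl
    exacts [Subgroup.one_mem _, hzcomm]
  have hmapc : (commutator S).map π = commutator (S ⧸ Z) := by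
    rw [commutator_def, commutator_def, Subgroup.map_commutator,
      Subgroup.map_top_of_surjective π (QuotientGroup.mk'_surjective Z)]
  have hidx : (commutator (S ⧸ Z)).index = (commutator S).index := by
    rw [← hmapc]
    exact Subgroup.index_map_eq _ (QuotientGroup.mk'_surjective Z) (by rw [hker]; exact hZle)
  rcases eq_or_lt_of_le hn3 with h | h
  · -- `S = D`
    subst h
    have hQ4 : Nat.card (S ⧸ Z) = 2 ^ 2 := hcQ
    letI := IsPGroup.commGroupOfCardEqPrimeSq (p := 2) hQ4
    rw [← hidx, (commutator_eq_bot_iff (S ⧸ Z)).mpr ⟨⟨mul_comm⟩⟩, Subgroup.index_bot, hQ4]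
    norm_num
  · rw [← hidx, ← Cfsg.Agent.Lib.PLemmas.nilpotencyClass_eq_iff_index_four (n := n - 1) (by omega) hcQ]
    exact Cfsg.Agent.Lib.PLemmas.nilpotencyClass_of_self_centralizing hcQ Db hcardDb hself

end

/-- Let S be a finite 2-group of sectional 2-rank at most 2 that contains a subgroup isomorphic to the dihedral group of order 8 or to the quaternion group of order 8. Then S is dihedral of order at least 8, semidihedral of order at least 16 (order 2^(k+4) with an element a of order 2^(k+3) and an involution b with b a b⁻¹ = a^(2^(k+2)−1)), or generalized quaternion of order at least 8. -/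
theorem result {S : Type*} [Group S] [Finite S] (h2 : IsPGroup 2 S) (hr : Cfsg.SectionalPRankLE 2 2 S)
    (hsub : ∃ H : Subgroup S, Nonempty (↥H ≃* DihedralGroup 4) ∨ Nonempty (↥H ≃* QuaternionGroup 2)) :
    ((∃ k : ℕ, Nonempty (S ≃* DihedralGroup (2 ^ (k + 2)))) ∨
      (∃ k : ℕ, Nat.card S = 2 ^ (k + 4) ∧ ∃ a b : S, orderOf a = 2 ^ (k + 3) ∧ orderOf b = 2 ∧ b * a * b⁻¹ = a ^ (2 ^ (k + 2) - 1)) ∨
      (∃ k : ℕ, Nonempty (S ≃* QuaternionGroup (2 ^ (k + 1))))) := by
  haveI := Fact.mk Nat.prime_two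
  obtain ⟨H, hH⟩ := hsub
  obtain ⟨n, hn⟩ := IsPGroup.iff_card.mp h2
  have h8 : Nat.card H = 2 ^ 3 ∧ ¬ IsMulCommutative H := by
    have hD : Nat.card (DihedralGroup 4) = 2 ^ 3 := by rw [DihedralGroup.nat_card]; norm_num
    have hQ : Nat.card (QuaternionGroup 2) = 2 ^ 3 := by
      rw [Nat.card_eq_fintype_card, QuaternionGroup.card]; norm_num
    rcases hH with ⟨⟨e⟩⟩ | ⟨⟨e⟩⟩
    · refine ⟨(Nat.card_congr e.toEquiv).trans hD, fun h => ?_⟩
      have h1 := congrArg e (h.is_comm.comm (e.symm (DihedralGroup.r 1)) (e.symm (DihedralGroup.sr 0)))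
      rw [map_mul, map_mul, e.apply_symm_apply, e.apply_symm_apply] at h1
      exact absurd h1 (by decide)
    · refine ⟨(Nat.card_congr e.toEquiv).trans hQ, fun h => ?_⟩
      have h1 := congrArg e (h.is_comm.comm (e.symm (QuaternionGroup.a 1)) (e.symm (QuaternionGroup.xa 0)))
      rw [map_mul, map_mul, e.apply_symm_apply, e.apply_symm_apply] at h1
      exact absurd h1 (by decide)
  obtain ⟨hn3, hidx⟩ := index_commutator_eq_four h2 hr h8.1 h8.2 hn
  exact Lib.TwoClass.classify hn3 hn hidx

end Cfsg.Agent.S4398
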