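import Cfsg.Statements.S4400
import Cfsg.Agent.Lib.SectRank.CentreTwo
-- import your own Cfsg.Agent.* helpers here

set_option autoImplicit false
open Cfsg

namespace Cfsg.Agent.S4400

/-- Let S be a finite 2-group of sectional 2-rank at most 4, and let P and Q be normal non-abelian subgroups of S whose centres have order 2 and are different. Then P and Q commute elementwise and intersect trivially, and PQ contains its own centralizer in S. -/
theorem result {S : Type*} [Group S] [Finite S] (h2 : IsPGroup 2 S) (hr : Cfsg.SectionalPRankLE 2 4 S)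
    (P Q : Subgroup S) [P.Normal] [Q.Normal] (hP : ¬ IsMulCommutative ↥P) (hQ : ¬ IsMulCommutative ↥Q)
    (hZP : Nat.card ↥(Subgroup.center ↥P) = 2) (hZQ : Nat.card ↥(Subgroup.center ↥Q) = 2)
    (hne : (Subgroup.center ↥P).map P.subtype ≠ (Subgroup.center ↥Q).map Q.subtype) :
    ⁅P, Q⁆ = ⊥ ∧ P ⊓ Q = ⊥ ∧ Subgroup.centralizer ((P ⊔ Q : Subgroup S) : Set S) ≤ P ⊔ Q := by
  obtain ⟨zP, hzP, hmP⟩ := Lib.SectRank.CentreIs.exists_of_card_center hP hZP
  obtain ⟨zQ, hzQ, hmQ⟩ := Lib.SectRank.CentreIs.exists_of_card_center hQ hZQ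
  have hne' : zP ≠ zQ := fun h => hne (by rw [hmP, hmQ, h])
  have hPn : ∀ h ∈ (⊤ : Subgroup S), ∀ n ∈ P, h * n * h⁻¹ ∈ P :=
    fun h _ n hn => Subgroup.Normal.conj_mem inferInstance n hn h
  have hQn : ∀ h ∈ (⊤ : Subgroup S), ∀ n ∈ Q, h * n * h⁻¹ ∈ Q :=
    fun h _ n hn => Subgroup.Normal.conj_mem inferInstance n hn h
  have hd := Lib.SectRank.inf_eq_bot_of_centres h2 hzP hzQ hne' le_top le_top hPn hQn
  have hc := Lib.SectRank.commute_of_disjoint hd le_top le_top hPn hQn
  refine ⟨?_, hd, Lib.SectRank.centralizer_le_sup h2 hr hzP hzQ hd hc⟩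
  rw [eq_bot_iff, Subgroup.commutator_le]
  intro a ha b hb
  rw [Subgroup.mem_bot, commutatorElement_def, hc a ha b hb, mul_inv_cancel_right, mul_inv_cancel]

end Cfsg.Agent.S4400
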