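import Cfsg.Statements.S4401
import Cfsg.Agent.Lib.SectRank.CentreTwo
-- import your own Cfsg.Agent.* helpers here

set_option autoImplicit false
open Cfsg

namespace Cfsg.Agent.S4401

/-- Let S be a finite 2-group of sectional 2-rank at most 4 and P a proper non-abelian subgroup whose centre has order 2. Let S₀ be the centralizer in S of Z(P) and suppose P is normal in S₀. Then either S₀ = S, or P has sectional 2-rank at most 2 and S₀ has index 2 in S. -/
theorem result {S : Type*} [Group S] [Finite S] (h2 : IsPGroup 2 S) (hr : Cfsg.SectionalPRankLE 2 4 S)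
    (P : Subgroup S) (hPlt : P ≠ ⊤) (hP : ¬ IsMulCommutative ↥P) (hZP : Nat.card ↥(Subgroup.center ↥P) = 2)
    (S₀ : Subgroup S) (hS₀ : S₀ = Subgroup.centralizer (((Subgroup.center ↥P).map P.subtype : Subgroup S) : Set S))
    (hPn : ∀ s ∈ S₀, ∀ x ∈ P, s * x * s⁻¹ ∈ P) :
    S₀ = ⊤ ∨ (Cfsg.SectionalPRankLE 2 2 ↥P ∧ S₀.index = 2) := by
  classical
  haveI := Fact.mk Nat.prime_two
  haveI := h2.isNilpotent
  obtain ⟨z, hz, hmap⟩ := Lib.SectRank.CentreIs.exists_of_card_center hP hZP
  have hS0 : ∀ x : S, x ∈ S₀ ↔ x * z = z * x := by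
    intro x
    rw [hS₀, hmap, Subgroup.mem_centralizer_iff]
    constructor
    · intro h; exact (h z (Subgroup.mem_zpowers z)).symm
    · intro h y hy
      obtain ⟨n, rfl⟩ := Subgroup.mem_zpowers_iff.mp hy
      exact ((show Commute x z from h).zpow_right n).eq.symm
  have hPS0 : P ≤ S₀ := fun a ha => (hS0 a).mpr (hz.comm ha)
  by_cases htop : S₀ = ⊤
  · exact Or.inl htop
  right
  set N1 := Subgroup.normalizer (S₀ : Set S) with hN1
  have hlt : S₀ < N1 :=
    Group.normalizerCondition_of_isNilpotent S₀ (lt_top_iff_ne_top.mpr htop)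
  have hconj : ∀ x ∈ N1, ∀ h ∈ S₀, x⁻¹ * h * x ∈ S₀ := by
    intro x hx h hh
    have := (Subgroup.mem_normalizer_iff.mp (N1.inv_mem hx) h).mp hh
    simpa using this
  have hconj' : ∀ x ∈ N1, ∀ h ∈ S₀, x * h * x⁻¹ ∈ S₀ :=
    fun x hx h hh => (Subgroup.mem_normalizer_iff.mp hx h).mp hh
  let cQ : S → Subgroup S := fun x => P.map (MulAut.conj x).toMonoidHom
  have hmemQ : ∀ (x : S) (y : S), y ∈ cQ x ↔ x⁻¹ * y * x ∈ P := by
    intro x y
    simp only [cQ, Subgroup.mem_map_equiv, MulAut.conj_symm_apply]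
  have hQS0 : ∀ x ∈ N1, cQ x ≤ S₀ := by
    intro x hx y hy
    have := hconj' x hx _ (hPS0 ((hmemQ x y).mp hy))
    simpa [mul_assoc] using this
  have hQn : ∀ x ∈ N1, ∀ h ∈ S₀, ∀ n ∈ cQ x, h * n * h⁻¹ ∈ cQ x := by
    intro x hx h hh n hn
    rw [hmemQ] at hn ⊢
    have := hPn _ (hconj x hx h hh) _ hn
    simpa [mul_assoc] using this
  have hpair : ∀ x ∈ N1, ∀ y ∈ N1, x * z * x⁻¹ ≠ y * z * y⁻¹ →
      cQ x ⊓ cQ y = ⊥ ∧ ∀ a ∈ cQ x, ∀ b ∈ cQ y, a * b = b * a := fun x hx y hy hne =>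
    have hd := Lib.SectRank.inf_eq_bot_of_centres h2 (hz.conj x) (hz.conj y) hne (hQS0 x hx)
      (hQS0 y hy) (hQn x hx) (hQn y hy)
    ⟨hd, Lib.SectRank.commute_of_disjoint hd (hQS0 x hx) (hQS0 y hy) (hQn x hx) (hQn y hy)⟩
  have hc1 : cQ 1 = P := by
    ext y; rw [hmemQ]; simp
  have hfix : ∀ x ∈ N1, x * z * x⁻¹ = z → x ∈ S₀ := fun x _ h =>
    (hS0 x).mpr (mul_inv_eq_iff_eq_mul.mp h)
  obtain ⟨s, hs, hsn⟩ := SetLike.exists_of_lt hlt
  have hsz : s * z * s⁻¹ ≠ z := fun h => hsn (hfix s hs h)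
  obtain ⟨hd, hcomm⟩ := hpair 1 N1.one_mem s hs (by simpa using Ne.symm hsz)
  rw [hc1] at hd hcomm
  have hcent := Lib.SectRank.centralizer_le_sup h2 hr hz (hz.conj s) hd hcomm
  refine ⟨Lib.SectRank.sectional_le_two h2 hr (hz.conj s) hd hcomm, ?_⟩
  -- the orbit of `z` under `N1` has only two points
  have horb : ∀ x ∈ N1, x ∉ S₀ → x * z * x⁻¹ = s * z * s⁻¹ := by
    intro x hx hxn
    by_contra hne
    have hxz : x * z * x⁻¹ ≠ z := fun h => hxn (hfix x hx h)
    obtain ⟨-, h1⟩ := hpair x hx 1 N1.one_mem (by simpa using hxz)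
    obtain ⟨-, h2'⟩ := hpair x hx s hs hne
    rw [hc1] at h1
    have hle : cQ x ≤ Subgroup.centralizer ((P ⊔ cQ s : Subgroup S) : Set S) := by
      intro a ha
      have hsub : P ⊔ cQ s ≤ Subgroup.centralizer ({a} : Set S) := sup_le
        (fun b hb => Subgroup.mem_centralizer_singleton_iff.mpr (h1 a ha b hb).symm)
        (fun b hb => Subgroup.mem_centralizer_singleton_iff.mpr (h2' a ha b hb).symm)
      rw [Subgroup.mem_centralizer_iff]
      intro b hb
      exact Subgroup.mem_centralizer_singleton_iff.mp (hsub hb)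
    obtain ⟨a, ha, b, hb, hab⟩ := (hz.conj x).nonab
    exact hab (Subgroup.mem_centralizer_iff.mp (hle hb) a (hcent (hle ha)))
  have hswap : ∀ x ∈ N1, x ∉ S₀ → ∀ y ∈ N1, y ∉ S₀ → y⁻¹ * x ∈ S₀ := by
    intro x hx hxn y hy hyn
    rw [hS0]
    have h := (horb x hx hxn).trans (horb y hy hyn).symm
    calc y⁻¹ * x * z = y⁻¹ * (x * z * x⁻¹) * x := by simp [mul_assoc]
      _ = z * (y⁻¹ * x) := by rw [h]; simp [mul_assoc]
  have hrel : S₀.relIndex N1 = 2 := by
    rw [Subgroup.relIndex, Subgroup.index_eq_two_iff]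
    refine ⟨⟨s, hs⟩⁻¹, fun b => ?_⟩
    simp only [Subgroup.mem_subgroupOf, Subgroup.coe_mul, Subgroup.coe_inv]
    by_cases hb : (b : S) ∈ S₀
    · refine Or.inr ⟨hb, fun h => hsn ?_⟩
      have := S₀.inv_mem ((S₀.mul_mem_cancel_left hb).mp h)
      simpa using this
    · refine Or.inl ⟨?_, hb⟩
      have := hswap s hs hsn _ b.2 hb
      simpa [mul_assoc] using S₀.inv_mem (hconj' _ b.2 _ this)
  -- the normalizer of `S₀` is everything
  suffices hN : N1 = ⊤ by rwa [hN, Subgroup.relIndex_top_right] at hrel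
  by_contra hNtop
  obtain ⟨t, ht, htn⟩ := SetLike.exists_of_lt
    (Group.normalizerCondition_of_isNilpotent N1 (lt_top_iff_ne_top.mpr hNtop))
  have htconj : ∀ y ∈ N1, t * y * t⁻¹ ∈ N1 :=
    fun y hy => (Subgroup.mem_normalizer_iff.mp ht y).mp hy
  set T := S₀.map (MulAut.conj t).toMonoidHom with hT
  have hTN : T ≤ N1 := by
    rintro _ ⟨y, hy, rfl⟩; exact htconj y (hlt.le hy)
  set u := t * z * t⁻¹ with hu
  have huN : u ∈ N1 := htconj z (hlt.le (hPS0 hz.mem))
  have hTu : ∀ y : S, y ∈ T ↔ y * u = u * y := by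
    intro y
    rw [hT, Subgroup.mem_map_equiv, MulAut.conj_symm_apply, hS0, hu]
    constructor
    · intro h
      calc y * (t * z * t⁻¹) = t * (t⁻¹ * y * t * z) * t⁻¹ := by simp [mul_assoc]
        _ = t * z * t⁻¹ * y := by rw [h]; simp [mul_assoc]
    · intro h
      calc t⁻¹ * y * t * z = t⁻¹ * (y * (t * z * t⁻¹)) * t := by simp [mul_assoc]
        _ = z * (t⁻¹ * y * t) := by rw [h]; simp [mul_assoc]
  have hTcard : Nat.card T = Nat.card S₀ := Subgroup.card_map_of_injective (MulEquiv.injective _)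
  have hTne : T ≠ S₀ := by
    intro h
    refine htn (Subgroup.mem_normalizer_iff.mpr fun y => ?_)
    constructor
    · intro hy
      rw [← h]; exact ⟨y, hy, rfl⟩
    · intro hy
      rw [← h, hT, Subgroup.mem_map_equiv, MulAut.conj_symm_apply] at hy
      simpa [mul_assoc] using hy
  have hTrel : T.relIndex N1 = 2 := by
    have h1 := Lib.SectRank.card_mul_relIndex_of_le T N1 hTN
    have h3 := Lib.SectRank.card_mul_relIndex_of_le S₀ N1 hlt.le
    rw [hrel] at h3
    rw [hTcard, ← h3] at h1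
    exact Nat.eq_of_mul_eq_mul_left Nat.card_pos h1
  obtain ⟨x, hxT, hxn⟩ : ∃ x ∈ T, x ∉ S₀ := by
    by_contra h
    push Not at h
    exact hTne (Subgroup.eq_of_le_of_card_ge h hTcard.ge)
  have hxN := hTN hxT
  have hxP : ∀ p ∈ P, x * p * x⁻¹ ∈ cQ s := by
    intro p hp
    rw [hmemQ]
    have := hPn _ (hswap x hxN hxn s hs hsn) p hp
    simpa [mul_assoc] using this
  have hmul : ∀ a ∈ N1, ∀ b ∈ N1, a ∉ T → b ∉ T → a * b ∈ T := by
    intro a ha b hb hna hnb
    have h := (Subgroup.mul_mem_iff_of_index_two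
      (a := (⟨a, ha⟩ : N1)) (b := (⟨b, hb⟩ : N1)) hTrel)
    simp only [Subgroup.mem_subgroupOf, Subgroup.coe_mul] at h
    exact h.mpr (iff_of_false hna hnb)
  by_cases hu0 : u ∈ S₀
  · -- `u` centralises `x` and a subgroup of index two
    by_cases hall : ∀ p ∈ P, p * u = u * p
    · have hx2 : ∀ q ∈ cQ s, q * u = u * q := by
        intro q hq
        rw [hmemQ] at hq
        have hmem : x⁻¹ * q * x ∈ P := by
          have := hPn _ (hswap s hs hsn x hxN hxn) _ hq
          simpa [mul_assoc] using this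
        have hxu : Commute x u := (hTu x).mp hxT
        have h1 : Commute (x * (x⁻¹ * q * x) * x⁻¹) u :=
          (hxu.mul_left (hall _ hmem)).mul_left hxu.inv_left
        simpa [mul_assoc] using h1.eq
      have huC : u ∈ Subgroup.centralizer ((P ⊔ cQ s : Subgroup S) : Set S) := by
        have hsub : P ⊔ cQ s ≤ Subgroup.centralizer ({u} : Set S) := sup_le
          (fun b hb => Subgroup.mem_centralizer_singleton_iff.mpr (hall b hb))
          (fun b hb => Subgroup.mem_centralizer_singleton_iff.mpr (hx2 b hb))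
        rw [Subgroup.mem_centralizer_iff]
        intro b hb
        exact Subgroup.mem_centralizer_singleton_iff.mp (hsub hb)
      have huPQ := hcent huC
      -- then `u` is central in `S₀`
      have hle : S₀ ≤ T := by
        intro h hh
        rw [hTu]
        rw [← SetLike.mem_coe, Subgroup.coe_mul_of_right_le_normalizer_left P (cQ s)
          (fun b hb => Subgroup.mem_normalizer_iff.mpr fun a => ⟨fun ha => hPn b (hQS0 s hs hb) a ha,
            fun ha => by
              have := hPn _ (S₀.inv_mem (hQS0 s hs hb)) _ ha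
              simpa [mul_assoc] using this⟩)] at huPQ
        obtain ⟨a, ha, b, hb, hab⟩ := huPQ
        simp only at hab
        have haz : a = 1 ∨ a = z := (hz.central a).mp ⟨ha, fun p hp => by
          have h1 := hall p hp
          rw [← hab, ← mul_assoc, mul_assoc a b p, ← hcomm p hp b hb, ← mul_assoc] at h1
          exact mul_right_cancel h1⟩
        have hbz : b = 1 ∨ b = s * z * s⁻¹ := ((hz.conj s).central b).mp ⟨hb, fun q hq => by
          have h1 := hx2 q hq
          rw [← hab, ← mul_assoc, ← hcomm a ha q hq, mul_assoc, mul_assoc] at h1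
          exact mul_left_cancel h1⟩
        have hza : h * a = a * h := by
          rcases haz with rfl | rfl
          · simp
          · exact (hS0 h).mp hh
        have hzb : h * b = b * h := by
          rcases hbz with rfl | rfl
          · simp
          · have h1 := (hS0 _).mp (hconj s hs h hh)
            calc h * (s * z * s⁻¹) = s * (s⁻¹ * h * s * z) * s⁻¹ := by simp [mul_assoc]
              _ = s * z * s⁻¹ * h := by rw [h1]; simp [mul_assoc]
        rw [← hab]
        exact (Commute.mul_right (show Commute h a from hza) (show Commute h b from hzb)).eq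
      exact hTne (Subgroup.eq_of_le_of_card_ge hle hTcard.le).symm
    · push Not at hall
      obtain ⟨p, hp, hpu⟩ := hall
      have hxu : Commute x u := (hTu x).mp hxT
      have hpT : p ∉ T := fun h => hpu ((hTu p).mp h)
      have hqT : x * p * x⁻¹ ∉ T := fun h => hpT (by
        have := T.mul_mem (T.mul_mem (T.inv_mem hxT) h) hxT
        simpa [mul_assoc] using this)
      have hpq := (hTu _).mp (hmul _ (hlt.le (hPS0 hp)) _
        (hlt.le (hQS0 s hs (hxP p hp))) hpT hqT)
      set q := x * p * x⁻¹ with hq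
      have ha : p⁻¹ * (u * p * u⁻¹) ∈ P := P.mul_mem (P.inv_mem hp) (hPn u hu0 p hp)
      have hb : q * (u * q⁻¹ * u⁻¹) ∈ cQ s :=
        (cQ s).mul_mem (hxP p hp) (hQn s hs u hu0 _ ((cQ s).inv_mem (hxP p hp)))
      have heq : p⁻¹ * (u * p * u⁻¹) = q * (u * q⁻¹ * u⁻¹) := by
        calc p⁻¹ * (u * p * u⁻¹) = p⁻¹ * (u * (p * q)) * (q⁻¹ * u⁻¹) := by simp [mul_assoc]
          _ = q * (u * q⁻¹ * u⁻¹) := by rw [← hpq]; simp [mul_assoc]
      have h1 : p⁻¹ * (u * p * u⁻¹) ∈ P ⊓ cQ s := ⟨ha, heq ▸ hb⟩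
      rw [hd, Subgroup.mem_bot, inv_mul_eq_one, eq_mul_inv_iff_mul_eq] at h1
      exact hpu h1
  · -- `u` swaps `P` and `cQ s` and centralises a subgroup of index at most two of `P`
    have hPT : ∀ p ∈ P, p ∈ T → p = 1 := by
      intro p hp hpT
      have h1 : u * p * u⁻¹ ∈ cQ s := by
        rw [hmemQ]
        have := hPn _ (hswap u huN hu0 s hs hsn) p hp
        simpa [mul_assoc] using this
      rw [← (hTu p).mp hpT, mul_inv_cancel_right] at h1
      have h2 : p ∈ P ⊓ cQ s := ⟨hp, h1⟩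
      rwa [hd, Subgroup.mem_bot] at h2
    obtain ⟨a, ha, b, hb, hab⟩ := hz.nonab
    have hprod : ∀ v ∈ P, ∀ w ∈ P, v ≠ 1 → w ≠ 1 → v * w = 1 := fun v hv w hw hv1 hw1 =>
      hPT _ (P.mul_mem hv hw) (hmul v (hlt.le (hPS0 hv)) w (hlt.le (hPS0 hw))
        (fun h => hv1 (hPT v hv h)) (fun h => hw1 (hPT w hw h)))
    have ha1 : a ≠ 1 := fun h => hab (by simp [h])
    have hb1 : b ≠ 1 := fun h => hab (by simp [h])
    exact hab ((hprod a ha b hb ha1 hb1).trans (hprod b hb a ha hb1 ha1).symm)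

end Cfsg.Agent.S4401
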