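import Cfsg.Statements.S4402
import Cfsg.Agent.Lib.D8Wreath.Final

set_option autoImplicit false
open Cfsg

namespace Cfsg.Agent.S4402

/-- Let S be a finite 2-group of sectional 2-rank at most 4 and P a proper subgroup isomorphic to the wreath product of the dihedral group of order 8 by a group of order 2 (equivalently, to a Sylow 2-subgroup of the symmetric group of degree 8; order 128). Then Z(S) = Z(P) has order 2, P has index 2 in its normalizer N_S(P), N_S(P)/Z(S) is again isomorphic to that wreath product, and every elementary abelian subgroup V of order 16 that is normal in P satisfies N_S(V) = P. -/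
theorem result {S : Type*} [Group S] [Finite S] (h2 : IsPGroup 2 S) (hr : Cfsg.SectionalPRankLE 2 4 S)
    (P : Subgroup S) (hPlt : P ≠ ⊤) (hP : ∃ T : Sylow 2 (Equiv.Perm (Fin 8)), Nonempty (↥P ≃* ↥(T : Subgroup (Equiv.Perm (Fin 8))))) :
    Subgroup.center S = (Subgroup.center ↥P).map P.subtype ∧ Nat.card ↥(Subgroup.center S) = 2 ∧
    P.relIndex (Subgroup.normalizer (P : Set S)) = 2 ∧
    (∃ (_ : ((Subgroup.center S).subgroupOf (Subgroup.normalizer (P : Set S))).Normal) (T : Sylow 2 (Equiv.Perm (Fin 8))),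
      Nonempty (↥(Subgroup.normalizer (P : Set S)) ⧸ (Subgroup.center S).subgroupOf (Subgroup.normalizer (P : Set S)) ≃*
        ↥(T : Subgroup (Equiv.Perm (Fin 8))))) ∧
    ∀ V : Subgroup S, V ≤ P → (∀ g ∈ P, ∀ v ∈ V, g * v * g⁻¹ ∈ V) → Cfsg.IsElementaryAbelian 2 V → Nat.card ↥V = 16 →
      Subgroup.normalizer (V : Set S) = P := by
  obtain ⟨T, ⟨e⟩⟩ := hP
  obtain ⟨d⟩ := Cfsg.Agent.Lib.D8Wreath.nonempty_equiv_sylow T
  let ι : Cfsg.Agent.Lib.D8Wreath.W →* S := P.subtype.comp (d.trans e.symm).toMonoidHom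
  have hι : Function.Injective ι := P.subtype_injective.comp (d.trans e.symm).injective
  have hran : ι.range = P := by
    rw [MonoidHom.range_comp, MonoidHom.range_eq_top.2 (d.trans e.symm).surjective, ← MonoidHom.range_eq_map,
      Subgroup.range_subtype]
  obtain ⟨hc1, hc2, hc3⟩ := Cfsg.Agent.Lib.D8Wreath.center_eq h2 hι hr
  have hnorm : ((Subgroup.center S).subgroupOf (Subgroup.normalizer (P : Set S))).Normal := inferInstance
  have hne : ι.range ≠ ⊤ := hran ▸ hPlt
  refine ⟨?_, hc3, hran ▸ (Cfsg.Agent.Lib.D8Wreath.normalizer_range h2 hι hr hne).1, ⟨hnorm, T, ?_⟩, fun V hVP hn hV h16 => ?_⟩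
  · rw [hc1, ← Subgroup.map_map]
    congr 1
    ext p
    simp only [Subgroup.mem_map, Subgroup.mem_center_iff]
    constructor
    · rintro ⟨w, hw, rfl⟩ q
      obtain ⟨v, rfl⟩ := (d.trans e.symm).surjective q
      exact ((map_mul _ _ _).symm.trans (congrArg _ (hw v))).trans (map_mul _ _ _)
    · intro hp
      obtain ⟨w, rfl⟩ := (d.trans e.symm).surjective p
      refine ⟨w, fun v => (d.trans e.symm).injective ?_, rfl⟩
      rw [map_mul, map_mul]
      exact hp _
  · have key : ∀ (P' : Subgroup S), P' = ι.range →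
        ∀ [((Subgroup.center S).subgroupOf (Subgroup.normalizer (P' : Set S))).Normal],
        Nonempty (Cfsg.Agent.Lib.D8Wreath.W ≃* ↥(Subgroup.normalizer (P' : Set S)) ⧸
          (Subgroup.center S).subgroupOf (Subgroup.normalizer (P' : Set S))) := by
      rintro _ rfl _
      exact Cfsg.Agent.Lib.D8Wreath.quotient_equiv h2 hι hr hne
    obtain ⟨q⟩ := key P hran.symm
    exact ⟨q.symm.trans d⟩
  · rw [← hran] at hVP hn ⊢
    exact Cfsg.Agent.Lib.D8Wreath.normalizer_V_eq h2 hι hr hVP hn hV h16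

end Cfsg.Agent.S4402
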