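import Cfsg.Statements.S4403
import Mathlib
import Cfsg.Agent.Lib.Coprime.Basic
import Cfsg.Agent.Lib.Transfer.Criteria
import Cfsg.Agent.Lib.PSolvable.Core
import Cfsg.Agent.Lib.Components.GenFitting
-- import your own Cfsg.Agent.* helpers here

set_option autoImplicit false
open Cfsg

namespace Cfsg.Agent.S4403

section helpers

variable {K : Type*} [Group K] [Finite K] {p : ℕ} [Fact p.Prime]

/-- In a cyclic `p`-group two subgroups with trivial intersection are not both nontrivial. -/
theorem cyclic_inf {P : Subgroup K} (hP : IsPGroup p P) (hc : IsCyclic P) {A B : Subgroup K}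
    (hA : A ≤ P) (hB : B ≤ P) (h : A ⊓ B = ⊥) : A = ⊥ ∨ B = ⊥ := by
  by_contra hne
  push Not at hne
  have key : ∀ C : Subgroup K, C ≤ P → C ≠ ⊥ → ∃ D : Subgroup K, D ≤ C ∧ Nat.card D = p := by
    intro C hC hC0
    haveI : Nontrivial C := C.nontrivial_iff_ne_bot.mpr hC0
    obtain ⟨n, hn, hn'⟩ := (hP.to_le hC).nontrivial_iff_card.mp inferInstance
    obtain ⟨x, hx⟩ := exists_prime_orderOf_dvd_card' (G := C) p (hn' ▸ dvd_pow_self p hn.ne')
    exact ⟨Subgroup.zpowers (x : K), Subgroup.zpowers_le.mpr x.2, by
      rw [Nat.card_zpowers, Subgroup.orderOf_coe, hx]⟩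
  obtain ⟨D, hDA, hD⟩ := key A hA hne.1
  obtain ⟨E, hEB, hE⟩ := key B hB hne.2
  have hDP := hDA.trans hA
  have hEP := hEB.trans hB
  classical
  haveI : Fintype P := Fintype.ofFinite P
  haveI := hc
  have hpp : p.Prime := Fact.out
  have heq : D.subgroupOf P = E.subgroupOf P := by
    have hset : ∀ F : Subgroup K, F ≤ P → Nat.card F = p → ∀ x : P,
        x ∈ F.subgroupOf P → x ^ p = 1 := by
      intro F hF hFc x hx
      have : (⟨x, hx⟩ : F.subgroupOf P) ^ p = 1 := by
        rw [← hFc, ← Nat.card_congr (Subgroup.subgroupOfEquivOfLe hF).toEquiv]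
        exact pow_card_eq_one'
      exact congrArg Subtype.val this
    have hle : (Finset.univ.filter fun x : P => x ^ p = 1).card ≤ p :=
      IsCyclic.card_pow_eq_one_le hpp.pos
    have hfill : ∀ F : Subgroup K, F ≤ P → Nat.card F = p →
        (Finset.univ.filter fun x : P => x ∈ F.subgroupOf P) =
          Finset.univ.filter fun x : P => x ^ p = 1 := by
      intro F hF hFc
      refine Finset.eq_of_subset_of_card_le (fun x hx => ?_) ?_
      · simp only [Finset.mem_filter, Finset.mem_univ, true_and] at hx ⊢
        exact hset F hF hFc x hx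
      · refine hle.trans (le_of_eq ?_)
        rw [← hFc, ← Nat.card_congr (Subgroup.subgroupOfEquivOfLe hF).toEquiv,
          Nat.card_eq_fintype_card]
        exact Fintype.card_subtype _
    ext x
    have h1 := Finset.ext_iff.mp ((hfill D hDP hD).trans (hfill E hEP hE).symm) x
    simpa using h1
  rw [Subgroup.subgroupOf_inj, inf_eq_left.mpr hDP, inf_eq_left.mpr hEP] at heq
  subst heq
  have : D = ⊥ := le_bot_iff.mp ((le_inf hDA hEB).trans h.le)
  rw [this, Subgroup.card_bot] at hD
  exact hpp.ne_one hD.symm

/-- A `p'`-element normalising a cyclic `p`-group centralises it or has no fixed points on it. -/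
theorem cyclic_coprime {P : Subgroup K} (hP : IsPGroup p P) (hc : IsCyclic P) {x : K}
    (hx : x ∈ Subgroup.normalizer (P : Set K)) (ho : (orderOf x).Coprime p) :
    x ∈ Subgroup.centralizer (P : Set K) ∨
      (P ⊓ Subgroup.centralizer ({x} : Set K) = ⊥ ∧
        P ≤ ⁅P, Subgroup.zpowers x⁆) := by
  haveI := hc
  letI := IsCyclic.commGroup (α := P)
  haveI : IsMulCommutative P := ⟨⟨fun a b => mul_comm a b⟩⟩
  have hA : Subgroup.zpowers x ≤ Subgroup.normalizer (P : Set K) := Subgroup.zpowers_le.mpr hx
  have hcop : (Nat.card (Subgroup.zpowers x)).Coprime (Nat.card P) := by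
    obtain ⟨n, hn⟩ := IsPGroup.iff_card.mp hP
    rw [hn, Nat.card_zpowers]
    exact ho.pow_right n
  have h1 := Lib.Coprime.inf_centralizer_inf_commutator_eq_bot hA hcop
  have h2 := Lib.Coprime.inf_centralizer_sup_commutator_eq hA hcop
  rcases cyclic_inf hP hc inf_le_left
    (Lib.Coprime.commutator_le_of_le_normalizer hA) h1 with h | h
  · refine Or.inr ⟨le_bot_iff.mp (le_trans ?_ h.le), ?_⟩
    · refine le_inf inf_le_left fun y hy => ?_
      rw [Subgroup.mem_centralizer_iff]
      intro z hz
      obtain ⟨n, rfl⟩ := Subgroup.mem_zpowers_iff.mp hz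
      exact ((show Commute y x from Subgroup.mem_centralizer_singleton_iff.mp hy.2).zpow_right n).eq.symm
    · rw [h, bot_sup_eq] at h2
      exact h2.ge
  · left
    rw [h, sup_bot_eq] at h2
    rw [Subgroup.mem_centralizer_iff]
    intro y hy
    exact (Subgroup.mem_centralizer_iff.mp (h2.ge hy).2 x (Subgroup.mem_zpowers x)).symm

/-- The `p'`-part of an element of the normalizer of a cyclic Sylow subgroup detects its action. -/
theorem exists_coprime_noncentral (P : Sylow p K) (hc : IsCyclic P) {n : K}
    (hn : n ∈ Subgroup.normalizer ((P : Subgroup K) : Set K))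
    (hnc : n ∉ Subgroup.centralizer ((P : Subgroup K) : Set K)) :
    ∃ k : ℕ, (orderOf (n ^ k)).Coprime p ∧
      n ^ k ∉ Subgroup.centralizer ((P : Subgroup K) : Set K) := by
  have hpp : p.Prime := Fact.out
  obtain ⟨k, m, hm, he⟩ := Nat.exists_eq_pow_mul_and_not_dvd (orderOf_pos n).ne' p hpp.ne_one
  refine ⟨p ^ k, ?_, fun hcen => hnc ?_⟩
  · rw [orderOf_pow_of_dvd (pow_ne_zero _ hpp.ne_zero) (he ▸ dvd_mul_right _ _), he,
      Nat.mul_div_cancel_left _ (pow_pos hpp.pos _)]
    exact ((Nat.Prime.coprime_iff_not_dvd hpp).mpr hm).symm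
  · -- the `p`-part lies in `P`
    have hmP : n ^ m ∈ (P : Subgroup K) := by
      have hzp : IsPGroup p (Subgroup.zpowers (n ^ m)) := by
        refine IsPGroup.of_card (n := k) ?_
        have hm0 : m ≠ 0 := fun e => hm (e ▸ dvd_zero p)
        rw [Nat.card_zpowers, orderOf_pow_of_dvd hm0 (he ▸ dvd_mul_left _ _), he,
          Nat.mul_div_cancel _ (Nat.pos_of_ne_zero hm0)]
      have hsup : IsPGroup p ↥((P : Subgroup K) ⊔ Subgroup.zpowers (n ^ m)) :=
        P.2.to_sup_of_normal_left' hzp
          (Subgroup.zpowers_le.mpr (Subgroup.pow_mem _ hn m))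
      exact (P.3 hsup le_sup_left).le (Subgroup.mem_sup_right (Subgroup.mem_zpowers _))
    have hmC : n ^ m ∈ Subgroup.centralizer ((P : Subgroup K) : Set K) := by
      haveI := hc
      letI := IsCyclic.commGroup (α := P)
      rw [Subgroup.mem_centralizer_iff]
      intro y hy
      exact congrArg Subtype.val (mul_comm (⟨y, hy⟩ : P) ⟨_, hmP⟩)
    have hcop : IsCoprime ((p ^ k : ℕ) : ℤ) (m : ℤ) :=
      Int.isCoprime_iff_nat_coprime.mpr (by simpa using ((Nat.Prime.coprime_iff_not_dvd hpp).mpr hm).pow_left k)
    obtain ⟨u, v, huv⟩ := hcop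
    have : n = (n ^ (p ^ k)) ^ u * (n ^ m) ^ v := by
      rw [← zpow_natCast, ← zpow_natCast, ← zpow_mul, ← zpow_mul, ← zpow_add,
        mul_comm _ u, mul_comm _ v, huv, zpow_one]
    rw [this]
    exact mul_mem (zpow_mem hcen u) (zpow_mem hmC v)

end helpers

/-- Let K be a finite group, p a prime dividing its order with O_{p'}(K) = 1 (no nontrivial normal subgroup of order prime to p), and P a cyclic Sylow p-subgroup of K. Then either P is normal and self-centralizing in K with K/P cyclic of order dividing p − 1 (so K is the semidirect product of P by a group of automorphisms of P of order dividing p − 1), or the generalized Fitting subgroup F*(K) is a non-abelian simple group and p does not divide the index of F*(K) in K. -/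
theorem result {K : Type*} [Group K] [Finite K] (p : ℕ) [Fact p.Prime] (hp : p ∣ Nat.card K) (hO : Cfsg.pPrimeCore p K = ⊥)
    (P : Sylow p K) (hP : IsCyclic ↥(P : Subgroup K)) :
    ((P : Subgroup K).Normal ∧ Subgroup.centralizer ((P : Subgroup K) : Set K) = (P : Subgroup K) ∧
      (∀ (_ : (P : Subgroup K).Normal), IsCyclic (K ⧸ (P : Subgroup K))) ∧ (P : Subgroup K).index ∣ p - 1) ∨
    (IsSimpleGroup ↥(Cfsg.generalizedFittingSubgroup K) ∧ ¬ IsMulCommutative ↥(Cfsg.generalizedFittingSubgroup K) ∧
      ¬ p ∣ (Cfsg.generalizedFittingSubgroup K).index) := by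
  have hpp : p.Prime := Fact.out
  set Q : Subgroup K := (P : Subgroup K) with hQ
  haveI hOn : (Cfsg.pCore p K).Normal := by
    haveI := Lib.PSolvable.pCore_characteristic (p := p) (G := K); infer_instance
  have hQc : Q ≤ Subgroup.centralizer (Q : Set K) := by
    haveI := hP
    letI := IsCyclic.commGroup (α := Q)
    intro a ha
    rw [Subgroup.mem_centralizer_iff]
    intro y hy
    exact congrArg Subtype.val (mul_comm (⟨y, hy⟩ : Q) ⟨a, ha⟩)
  by_cases hcore : Cfsg.pCore p K = ⊥
  swap
  · left
    have hle : Cfsg.pCore p K ≤ Q := Lib.PSolvable.pCore_le_sylow P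
    set Z := Cfsg.pCore p K with hZdef
    set C := Subgroup.centralizer (Z : Set K) with hC
    have hPC : Q ≤ C := hQc.trans (Subgroup.centralizer_le hle)
    haveI hCn : C.Normal := inferInstance
    let PC : Sylow p C := P.subtype hPC
    have hbur : Cfsg.HasNormalPComplement p C := by
      refine Lib.Transfer.hasNormalPComplement_of_normalizer_le_centralizer PC ?_
      intro c hc
      by_contra hcn
      have hcN : (c : K) ∈ Subgroup.normalizer (Q : Set K) := by
        rw [Subgroup.mem_normalizer_iff]
        intro y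
        constructor
        · intro hy
          exact (Subgroup.mem_normalizer_iff.mp hc ⟨y, hPC hy⟩).mp hy
        · intro hy
          have hyC : y ∈ C := by
            have := C.mul_mem (C.mul_mem (C.inv_mem c.2) (hPC hy)) c.2
            simpa [mul_assoc] using this
          exact (Subgroup.mem_normalizer_iff.mp hc ⟨y, hyC⟩).mpr hy
      have hcnc : (c : K) ∉ Subgroup.centralizer (Q : Set K) := by
        intro h
        apply hcn
        rw [Subgroup.mem_centralizer_iff]
        intro y hy
        exact Subtype.ext (Subgroup.mem_centralizer_iff.mp h y hy)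
      obtain ⟨k, hk, hkn⟩ := exists_coprime_noncentral P hP hcN hcnc
      rcases cyclic_coprime P.2 hP (Subgroup.pow_mem _ hcN k) hk with h | ⟨h, -⟩
      · exact hkn h
      · refine hcore (le_bot_iff.mp (le_trans (le_inf hle fun z hz => ?_) h.le))
        rw [Subgroup.mem_centralizer_singleton_iff]
        exact Subgroup.mem_centralizer_iff.mp (Subgroup.pow_mem _ c.2 k) z hz
    have hres : Cfsg.pResidual p C = ⊥ := by
      have h1 := Lib.Transfer.hasNormalPComplement_iff.mp hbur
      haveI := Lib.Transfer.pResidual_characteristic (G := C) (p := p)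
      haveI : ((Cfsg.pResidual p C).map C.subtype).Normal :=
        ConjAct.normal_of_characteristic_of_normal
      have h2 : (Cfsg.pResidual p C).map C.subtype ≤ Cfsg.pPrimeCore p K :=
        Lib.PSolvable.le_pPrimeCore (by
          rw [Subgroup.card_map_of_injective C.subtype_injective]
          exact Nat.Coprime.symm (hpp.coprime_iff_not_dvd.mpr h1))
      rw [hO, le_bot_iff, Subgroup.map_eq_bot_iff_of_injective _ C.subtype_injective] at h2
      exact h2
    have hCp : IsPGroup p C := by
      intro c
      obtain ⟨k, hk⟩ := Lib.Transfer.exists_pow_mem_pResidual (p := p) c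
      rw [hres, Subgroup.mem_bot] at hk
      exact ⟨k, hk⟩
    have hCQ : C = Q := P.3 hCp hPC
    have hnormal : Q.Normal := hCQ ▸ hCn
    refine ⟨hnormal, le_antisymm ((Subgroup.centralizer_le hle).trans hCQ.le) hQc, ?_⟩
    haveI := hP
    haveI : IsCyclic Z := isCyclic_of_injective (Subgroup.inclusion hle) (Subgroup.inclusion_injective hle)
    -- a subgroup of order `p` of the core
    haveI : Nontrivial Z := Z.nontrivial_iff_ne_bot.mpr hcore
    obtain ⟨n, hn, hn'⟩ := (Lib.PSolvable.pCore_isPGroup (p := p) (G := K)).nontrivial_iff_card.mp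
      inferInstance
    obtain ⟨z, hz⟩ := exists_prime_orderOf_dvd_card' (G := Z) p (hn' ▸ dvd_pow_self p hn.ne')
    set Z1 := (Subgroup.zpowers z).map Z.subtype with hZ1
    haveI : (Subgroup.zpowers z).Characteristic := by
      rw [Subgroup.characteristic_iff_map_le]
      intro e
      obtain ⟨m, hm⟩ := MonoidHom.map_cyclic e.toMonoidHom
      rw [MonoidHom.map_zpowers, Subgroup.zpowers_le, hm]
      exact Subgroup.zpow_mem _ (Subgroup.mem_zpowers z) m
    haveI hZ1n : Z1.Normal := ConjAct.normal_of_characteristic_of_normal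
    have hZ1c : Nat.card Z1 = p := by
      rw [hZ1, Subgroup.card_map_of_injective Z.subtype_injective, Nat.card_zpowers, hz]
    have hZ1le : Z1 ≤ Z := Subgroup.map_subtype_le _
    have hCZ1 : Subgroup.centralizer (Z1 : Set K) = Q := by
      apply le_antisymm ?_ (hQc.trans (Subgroup.centralizer_le (hZ1le.trans hle)))
      intro c hc
      by_contra hcQ
      have hcN : c ∈ Subgroup.normalizer (Q : Set K) := by
        rw [Subgroup.normalizer_eq_top_iff.mpr hnormal]; trivial
      have hcnc : c ∉ Subgroup.centralizer (Q : Set K) := fun h =>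
        hcQ (hCQ.le (Subgroup.centralizer_le hle h))
      obtain ⟨k, hk, hkn⟩ := exists_coprime_noncentral P hP hcN hcnc
      rcases cyclic_coprime P.2 hP (Subgroup.pow_mem _ hcN k) hk with h | ⟨h, -⟩
      · exact hkn h
      · have : Z1 = ⊥ := le_bot_iff.mp (le_trans (le_inf (hZ1le.trans hle) fun z hz => by
          rw [Subgroup.mem_centralizer_singleton_iff]
          exact Subgroup.mem_centralizer_iff.mp (Subgroup.pow_mem _ hc k) z hz) h.le)
        rw [this, Subgroup.card_bot] at hZ1c
        exact hpp.ne_one hZ1c.symm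
    haveI : IsCyclic Z1 := isCyclic_of_prime_card hZ1c
    haveI : Fact (Nat.card Z1).Prime := ⟨hZ1c.symm ▸ hpp⟩
    have e1 : MulAut Z1 ≃* (ZMod (Nat.card Z1))ˣ := (IsCyclic.mulAutMulEquiv Z1)
    haveI : IsCyclic (MulAut Z1) := isCyclic_of_injective e1.toMonoidHom e1.injective
    let φ : K →* MulAut Z1 := MulAut.conjNormal
    have hker : φ.ker = Q := by
      rw [← hCZ1]
      ext c
      rw [MonoidHom.mem_ker, Subgroup.mem_centralizer_iff]
      constructor
      · intro h y hy
        have h1 := congrArg Subtype.val (congrArg (fun e : MulAut Z1 => e ⟨y, hy⟩) h)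
        simp only [φ, MulAut.conjNormal_apply, MulAut.one_apply] at h1
        rw [mul_inv_eq_iff_eq_mul] at h1
        exact h1.symm
      · intro h
        refine MulEquiv.ext fun y => Subtype.ext ?_
        simp only [φ, MulAut.conjNormal_apply, MulAut.one_apply]
        rw [← h y y.2, mul_inv_cancel_right]
    refine ⟨fun inst => ?_, ?_⟩
    · let e : K ⧸ Q ≃* φ.range :=
        (QuotientGroup.quotientMulEquivOfEq hker.symm).trans (QuotientGroup.quotientKerEquivRange φ)
      exact isCyclic_of_injective e.toMonoidHom e.injective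
    · rw [← hker, Subgroup.index_ker]
      refine (Subgroup.card_subgroup_dvd_card _).trans ?_
      rw [Nat.card_congr e1.toEquiv, Nat.card_eq_fintype_card, ZMod.card_units, hZ1c]
  · right
    -- every nontrivial normal subgroup has order divisible by `p`
    have hdiv : ∀ N : Subgroup K, N.Normal → N ≠ ⊥ → p ∣ Nat.card N := fun N hN hne => by
      by_contra h
      exact hne (le_bot_iff.mp (hO ▸ Lib.PSolvable.le_pPrimeCore
        (Nat.Coprime.symm (hpp.coprime_iff_not_dvd.mpr h))))
    -- two subgroups with trivial intersection commuting elementwise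
    have hpair : ∀ A B : Subgroup K, p ∣ Nat.card A → p ∣ Nat.card B → A ⊓ B = ⊥ →
        (∀ a ∈ A, ∀ b ∈ B, a * b = b * a) → False := by
      intro A B hA hB hAB hcomm
      obtain ⟨a, ha⟩ := exists_prime_orderOf_dvd_card' (G := A) p hA
      obtain ⟨b, hb⟩ := exists_prime_orderOf_dvd_card' (G := B) p hB
      have hpa : IsPGroup p (Subgroup.zpowers (a : K)) :=
        IsPGroup.of_card (n := 1) (by rw [Nat.card_zpowers, Subgroup.orderOf_coe, ha, pow_one])
      have hpb : IsPGroup p (Subgroup.zpowers (b : K)) :=
        IsPGroup.of_card (n := 1) (by rw [Nat.card_zpowers, Subgroup.orderOf_coe, hb, pow_one])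
      have hnor : Subgroup.zpowers (b : K) ≤
          Subgroup.normalizer (Subgroup.zpowers (a : K) : Set K) := by
        rw [Subgroup.zpowers_le]
        refine Subgroup.centralizer_le_normalizer _ ?_
        rw [Subgroup.mem_centralizer_iff]
        intro y hy
        obtain ⟨m, rfl⟩ := Subgroup.mem_zpowers_iff.mp hy
        exact hcomm _ (A.zpow_mem a.2 m) _ b.2
      obtain ⟨R, hR⟩ := (hpa.to_sup_of_normal_left' hpb hnor).exists_le_sylow
      obtain ⟨g, hg⟩ := MulAction.exists_smul_eq K R P
      have hRc : IsCyclic R := isCyclic_of_injective (Sylow.equiv R P).toMonoidHom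
        (Sylow.equiv R P).injective
      rcases cyclic_inf R.2 hRc (le_sup_left.trans hR) (le_sup_right.trans hR)
        (le_bot_iff.mp ((inf_le_inf (Subgroup.zpowers_le.mpr a.2)
          (Subgroup.zpowers_le.mpr b.2)).trans hAB.le)) with h | h
      all_goals rw [Subgroup.zpowers_eq_bot] at h
      · rw [OneMemClass.coe_eq_one] at h; rw [h, orderOf_one] at ha; exact hpp.ne_one ha.symm
      · rw [OneMemClass.coe_eq_one] at h; rw [h, orderOf_one] at hb; exact hpp.ne_one hb.symm
    have hmeet : ∀ A B : Subgroup K, A.Normal → B.Normal → A ≠ ⊥ → B ≠ ⊥ → A ⊓ B ≠ ⊥ := by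
      intro A B hA hB hA0 hB0 h
      exact hpair A B (hdiv A hA hA0) (hdiv B hB hB0) h
        fun a ha b hb => Subgroup.commute_of_normal_of_disjoint A B hA hB (disjoint_iff.mpr h) a b ha hb
    have hKne : (⊤ : Subgroup K) ≠ ⊥ := by
      intro h
      rw [← Subgroup.card_top, h, Subgroup.card_bot] at hp
      exact hpp.not_dvd_one hp
    obtain ⟨N, hN⟩ := (Set.toFinite {H : Subgroup K | H.Normal ∧ H ≠ ⊥}).exists_minimal
      ⟨⊤, inferInstance, hKne⟩
    obtain ⟨⟨hNn, hN0⟩, hNmin⟩ := hN
    haveI := hNn
    have hNonly : ∀ A : Subgroup K, A.Normal → A ≠ ⊥ → N ≤ A := fun A hA hA0 =>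
      (hNmin ⟨inferInstanceAs (N ⊓ A).Normal, hmeet N A hNn hA hN0 hA0⟩ inf_le_left).trans
        inf_le_right
    have hsubdiv : ∀ M : Subgroup N, M.Normal → M ≠ ⊥ → p ∣ Nat.card M := by
      intro M hM hM0
      by_contra h
      haveI := Lib.PSolvable.pPrimeCore_characteristic (p := p) (G := N)
      haveI : ((Cfsg.pPrimeCore p N).map N.subtype).Normal :=
        ConjAct.normal_of_characteristic_of_normal
      have h1 : (Cfsg.pPrimeCore p N).map N.subtype ≤ Cfsg.pPrimeCore p K :=
        Lib.PSolvable.le_pPrimeCore (by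
          rw [Subgroup.card_map_of_injective N.subtype_injective]
          exact Lib.PSolvable.pPrimeCore_coprime)
      rw [hO, le_bot_iff, Subgroup.map_eq_bot_iff_of_injective _ N.subtype_injective] at h1
      exact hM0 (le_bot_iff.mp (h1 ▸ Lib.PSolvable.le_pPrimeCore
        (Nat.Coprime.symm (hpp.coprime_iff_not_dvd.mpr h))))
    have hsimple : IsSimpleGroup N := by
      haveI : Nontrivial N := N.nontrivial_iff_ne_bot.mpr hN0
      obtain ⟨M, hM⟩ := (Set.toFinite {H : Subgroup N | H.Normal ∧ H ≠ ⊥}).exists_minimal
        ⟨⊤, inferInstance, top_ne_bot⟩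
      obtain ⟨⟨hMn, hM0⟩, hMmin⟩ := hM
      have hMonly : ∀ A : Subgroup N, A.Normal → A ≠ ⊥ → M ≤ A := by
        intro A hA hA0
        haveI := hMn
        haveI := hA
        by_cases h : M ⊓ A = ⊥
        · refine (hpair (M.map N.subtype) (A.map N.subtype)
            (by rw [Subgroup.card_map_of_injective N.subtype_injective]; exact hsubdiv M hMn hM0)
            (by rw [Subgroup.card_map_of_injective N.subtype_injective]; exact hsubdiv A hA hA0)
            (by rw [← Subgroup.map_inf _ _ _ N.subtype_injective, h, Subgroup.map_bot]) ?_).elim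
          rintro _ ⟨a, ha, rfl⟩ _ ⟨b, hb, rfl⟩
          rw [← map_mul, ← map_mul,
            (Subgroup.commute_of_normal_of_disjoint M A hMn hA (disjoint_iff.mpr h) a b ha hb).eq]
        · exact (hMmin ⟨inferInstanceAs (M ⊓ A).Normal, h⟩ inf_le_left).trans inf_le_right
      haveI : M.Characteristic := by
        rw [Subgroup.characteristic_iff_le_map]
        intro e
        exact hMonly _ (hMn.map e.toMonoidHom e.surjective)
          (by rwa [Ne, Subgroup.map_eq_bot_iff_of_injective _ e.injective])
      have hMtop : M = ⊤ := by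
        haveI : (M.map N.subtype).Normal := ConjAct.normal_of_characteristic_of_normal
        have h1 := hNonly _ (inferInstance : (M.map N.subtype).Normal)
          (by rwa [Ne, Subgroup.map_eq_bot_iff_of_injective _ N.subtype_injective])
        rw [eq_top_iff]
        intro x _
        obtain ⟨y, hy, hxy⟩ := h1 x.2
        exact N.subtype_injective hxy ▸ hy
      exact ⟨fun A hA => (eq_or_ne A ⊥).imp id fun hA0 => top_le_iff.mp (hMtop ▸ hMonly A hA hA0)⟩
    have hNnc : ¬ IsMulCommutative N := by
      intro h
      haveI := hsimple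
      letI : CommGroup N := { (inferInstance : Group N) with mul_comm := h.is_comm.comm }
      have hprime := IsSimpleGroup.prime_card (α := N)
      have h1 := hdiv N hNn hN0
      have hNp : IsPGroup p N := IsPGroup.of_card (n := 1) (by
        rw [pow_one]; exact ((Nat.prime_dvd_prime_iff_eq hpp hprime).mp h1).symm)
      exact hN0 (le_bot_iff.mp (hcore ▸ Lib.PSolvable.le_pCore hNp))
    have hCN : Subgroup.centralizer (N : Set K) = ⊥ := by
      by_contra h
      have hle := hNonly _ inferInstance h
      exact hNnc ⟨⟨fun a b => Subtype.ext (Subgroup.mem_centralizer_iff.mp (hle b.2) a a.2)⟩⟩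
    have hfit : Cfsg.fittingSubgroup K = ⊥ := by
      rw [Lib.Components.fittingSubgroup_eq_iSup_pCore]
      simp only [iSup_eq_bot]
      intro q
      by_contra hq
      have hqp : (q : ℕ) ≠ p := fun e => hq (by simp only [e]; exact hcore)
      haveI := Fact.mk (Nat.prime_of_mem_primeFactors q.2)
      haveI : (Cfsg.pCore (q : ℕ) K).Normal := by
        haveI := Lib.PSolvable.pCore_characteristic (p := (q : ℕ)) (G := K); infer_instance
      obtain ⟨j, hj⟩ := IsPGroup.iff_card.mp (Lib.PSolvable.pCore_isPGroup (p := (q : ℕ)) (G := K))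
      have h1 := hdiv _ inferInstance hq
      rw [hj] at h1
      exact hqp ((Nat.prime_dvd_prime_iff_eq hpp (Nat.prime_of_mem_primeFactors q.2)).mp (hpp.dvd_of_dvd_pow h1)).symm
    have hqs : Cfsg.IsQuasisimple N := by
      haveI := hsimple
      have hperf : ⁅(⊤ : Subgroup N), (⊤ : Subgroup N)⁆ = (⊤ : Subgroup N) := by
        rcases IsSimpleGroup.eq_bot_or_eq_top_of_normal (commutator N) inferInstance with h | h
        · exact absurd ((commutator_eq_bot_iff N).mp h) hNnc
        · rwa [commutator_def] at h
      refine Lib.Components.quasisimple_of_forall_normal ⟨by rw [commutator_def]; exact hperf⟩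
        fun M hM hMt => ?_
      rcases hM.eq_bot_or_eq_top with h | h
      · rw [h]; exact bot_le
      · exact absurd h hMt
    have hlayer : Cfsg.generalizedFittingSubgroup K = N := by
      rw [Cfsg.generalizedFittingSubgroup, hfit, sup_bot_eq]
      refine le_antisymm (Lib.Components.layer_le_iff.mpr fun L hL => ?_)
        (Lib.Components.isComponent_le_layer ⟨hNn.isSubnormal, hqs⟩)
      by_contra hLN
      have := Lib.Components.isComponent_le_centralizer_of_not_le hL hNn.isSubnormal hLN
      rw [hCN, le_bot_iff] at this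
      exact Lib.Components.isComponent_ne_bot hL this
    have hPN : Q ≤ N := by
      set H := N ⊔ Q
      by_contra hPN
      by_cases hall : ∀ n ∈ N ⊓ Subgroup.normalizer (Q : Set K), n ∈ Subgroup.centralizer (Q : Set K)
      · have hbur : Cfsg.HasNormalPComplement p H := by
          refine Lib.Transfer.hasNormalPComplement_of_normalizer_le_centralizer
            (P.subtype le_sup_right) ?_
          intro c hc
          have hcH := c.2
          rw [← SetLike.mem_coe, Subgroup.normal_mul] at hcH
          obtain ⟨n, hn, q, hq, hnq⟩ := hcH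
          simp only at hnq
          have hcN : (c : K) ∈ Subgroup.normalizer (Q : Set K) := by
            rw [Subgroup.mem_normalizer_iff]
            intro y
            constructor
            · intro hy
              exact (Subgroup.mem_normalizer_iff.mp hc ⟨y, Subgroup.mem_sup_right hy⟩).mp hy
            · intro hy
              have hyH : y ∈ H := by
                have := H.mul_mem (H.mul_mem (H.inv_mem c.2) (Subgroup.mem_sup_right hy)) c.2
                simpa [mul_assoc] using this
              exact (Subgroup.mem_normalizer_iff.mp hc ⟨y, hyH⟩).mpr hy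
          have hnN : n ∈ Subgroup.normalizer (Q : Set K) := by
            have : n = c * q⁻¹ := by rw [← hnq, mul_inv_cancel_right]
            rw [this]
            exact mul_mem hcN (inv_mem (Subgroup.le_normalizer hq))
          have hcC : (c : K) ∈ Subgroup.centralizer (Q : Set K) := by
            rw [← hnq]
            exact mul_mem (hall n ⟨hn, hnN⟩) (hQc hq)
          rw [Subgroup.mem_centralizer_iff]
          intro y hy
          exact Subtype.ext (Subgroup.mem_centralizer_iff.mp hcC y hy)
        have hN' : Cfsg.HasNormalPComplement p N :=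
          Lib.Transfer.hasNormalPComplement_of_injective (Subgroup.inclusion le_sup_left)
            (Subgroup.inclusion_injective _) hbur
        have h1 := Lib.Transfer.hasNormalPComplement_iff.mp hN'
        have hres : Cfsg.pResidual p N = ⊥ := by
          by_contra hne
          exact h1 (hsubdiv _ Lib.Transfer.pResidual_normal hne)
        have hNp : IsPGroup p N := by
          intro c
          obtain ⟨k, hk⟩ := Lib.Transfer.exists_pow_mem_pResidual (p := p) c
          rw [hres, Subgroup.mem_bot] at hk
          exact ⟨k, hk⟩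
        exact hN0 (le_bot_iff.mp (hcore ▸ Lib.PSolvable.le_pCore hNp))
      · push Not at hall
        obtain ⟨n, ⟨hn, hnN⟩, hnc⟩ := hall
        obtain ⟨k, hk, hkn⟩ := exists_coprime_noncentral P hP hnN hnc
        rcases cyclic_coprime P.2 hP (Subgroup.pow_mem _ hnN k) hk with h | ⟨-, h⟩
        · exact hkn h
        · refine hPN (h.trans ((Subgroup.commutator_mono le_rfl
            (Subgroup.zpowers_le.mpr (N.pow_mem hn k))).trans ?_))
          exact Subgroup.commutator_le_right Q N
    rw [hlayer]
    exact ⟨hsimple, hNnc, fun h => P.not_dvd_index (h.trans (Subgroup.index_dvd_of_le hPN))⟩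

end Cfsg.Agent.S4403
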