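import Cfsg.Statements.S4404
import Cfsg.Agent.Lib.ThreeRankTwo.Basic
import Cfsg.Agent.Lib.NoncyclicEight.Structure
import Cfsg.Agent.Lib.SCN3.Basic
import Cfsg.Agent.Lib.Hall.Solvable

set_option autoImplicit false
open Cfsg

namespace Cfsg.Agent.S4404

open Subgroup Cfsg.Agent.Lib
open scoped commutatorElement Pointwise

variable {G : Type*} [Group G]

/-- The subgroup moved by `s`. -/
abbrev moved (M : Subgroup G) (s : G) : Subgroup G := ⁅zpowers s, M⁆

theorem conj_of_mk {M : Subgroup G} [M.Normal] {s t : G}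
    (h : (QuotientGroup.mk s : G ⧸ centralizer (M : Set G)) = QuotientGroup.mk t) {m : G}
    (hm : m ∈ M) : s * m * s⁻¹ = t * m * t⁻¹ := by
  have hk : t⁻¹ * s ∈ centralizer (M : Set G) := QuotientGroup.eq.1 h.symm
  have h2 := mem_centralizer_iff.1 hk m hm
  calc s * m * s⁻¹ = t * (t⁻¹ * s * m) * (t⁻¹ * s)⁻¹ * t⁻¹ := by group
    _ = t * m * t⁻¹ := by rw [← h2]; group

theorem moved_congr {M : Subgroup G} [M.Normal] {s t : G}
    (h : (QuotientGroup.mk s : G ⧸ centralizer (M : Set G)) = QuotientGroup.mk t) :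
    moved M s = moved M t := by
  suffices ∀ s t : G, (QuotientGroup.mk s : G ⧸ centralizer (M : Set G)) = QuotientGroup.mk t →
      moved M s ≤ moved M t from le_antisymm (this s t h) (this t s h.symm)
  intro s t h
  refine commutator_le.2 fun a ha m hm => ?_
  obtain ⟨i, rfl⟩ := mem_zpowers_iff.1 ha
  have h2 : (QuotientGroup.mk (s ^ i) : G ⧸ centralizer (M : Set G)) = QuotientGroup.mk (t ^ i) := by
    rw [QuotientGroup.mk_zpow, QuotientGroup.mk_zpow, h]
  rw [show ⁅s ^ i, m⁆ = s ^ i * m * (s ^ i)⁻¹ * m⁻¹ from commutatorElement_def _ _,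
    conj_of_mk h2 hm, ← commutatorElement_def]
  exact commutator_mem_commutator ⟨i, rfl⟩ hm

theorem map_conj_moved (M : Subgroup G) [M.Normal] (f s : G) :
    (moved M s).map (MulAut.conj f).toMonoidHom = moved M (f * s * f⁻¹) := by
  rw [moved, map_commutator, MonoidHom.map_zpowers]
  congr 1
  refine le_antisymm ?_ fun m hm => ⟨f⁻¹ * m * f, by simpa using Normal.conj_mem ‹_› m hm f⁻¹,
    by simp [mul_assoc]⟩
  rintro _ ⟨m, hm, rfl⟩
  exact Normal.conj_mem ‹_› m hm f

theorem mem_normalizer_of_map_le [Finite G] {U : Subgroup G} {f : G}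
    (h : U.map (MulAut.conj f).toMonoidHom ≤ U) : f ∈ normalizer (U : Set G) := by
  have he : U.map (MulAut.conj f).toMonoidHom = U :=
    eq_of_le_of_card_ge h (card_map_of_injective (MulAut.conj f).injective).ge
  refine mem_normalizer_iff.2 fun u => ⟨fun hu => he.le ⟨u, hu, rfl⟩, fun hu => ?_⟩
  obtain ⟨v, hv, hvu⟩ := he.ge hu
  have : v = u := mul_left_cancel (mul_right_cancel hvu)
  exact this ▸ hv

/-- `G` acts on the four-group `U` with `x` as a fixed-point-free element of order three. -/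
structure Setup (M U : Subgroup G) (x : G) : Prop where
  le : U ≤ M
  eq : U = moved M x
  card : Nat.card U = 4
  norm : x ∈ normalizer (U : Set G)
  fpf : ∀ u ∈ U, x * u * x⁻¹ = u → u = 1
  split : ∀ m ∈ M, ∃ u ∈ U, ∃ c ∈ M, x * c * x⁻¹ = c ∧ m = u * c
  cube : x ^ 3 ∈ centralizer (M : Set G)
  comm : ∀ a ∈ M, ∀ b ∈ M, a * b = b * a
  sq : ∀ a ∈ M, a * a = 1

section
variable [Finite G] {M U : Subgroup G} [M.Normal] {x : G} (S : Setup M U x)
include S

omit [M.Normal] in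
theorem Setup.four {u : G} (hu : u ∈ U) (hu1 : u ≠ 1) :
    x * u * x⁻¹ ∈ U ∧ x * u * x⁻¹ ≠ 1 ∧ x * u * x⁻¹ ≠ u ∧
      ∀ v ∈ U, v = 1 ∨ v = u ∨ v = x * u * x⁻¹ ∨ v = u * (x * u * x⁻¹) := by
  have hU' : x * u * x⁻¹ ∈ U := (mem_normalizer_iff.1 S.norm u).1 hu
  have h1 : x * u * x⁻¹ ≠ 1 := fun e => hu1 (conj_eq_one_iff.1 e)
  have h2 : x * u * x⁻¹ ≠ u := fun e => hu1 (S.fpf u hu e)
  refine ⟨hU', h1, h2, fun v hv => ?_⟩
  obtain ⟨h4, -⟩ := NoncyclicEight.four_closure (S.sq u (S.le hu)) (S.sq _ (S.le hU')) hu1 h1 h2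
    (S.comm u (S.le hu) _ (S.le hU'))
  have he : zpowers u ⊔ zpowers (x * u * x⁻¹) = U :=
    eq_of_le_of_card_ge (sup_le (zpowers_le.2 hu) (zpowers_le.2 hU')) (by rw [h4, S.card])
  rw [← he, ← SetLike.mem_coe, coe_mul_of_right_le_normalizer_left _ _ ?_] at hv
  swap
  · refine (le_centralizer_iff.1 ?_).trans (centralizer_le_normalizer _)
    exact zpowers_le.2 (mem_centralizer_iff.2 fun w hw => by
      obtain ⟨i, rfl⟩ := mem_zpowers_iff.1 hw
      exact ((show Commute (x * u * x⁻¹) u from S.comm _ (S.le hU') u (S.le hu)).zpow_left i).eq)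
  obtain ⟨a, ha, b, hb, rfl⟩ := hv
  have key : ∀ {z w : G}, z * z = 1 → w ∈ zpowers z → w = 1 ∨ w = z := by
    intro z w hz hw
    obtain ⟨i, rfl⟩ := mem_zpowers_iff.1 hw
    rcases Int.even_or_odd i with ⟨k, rfl⟩ | ⟨k, rfl⟩
    · left; rw [← two_mul, zpow_mul, zpow_ofNat, pow_two, hz, one_zpow]
    · right; rw [zpow_add_one, zpow_mul, zpow_ofNat, pow_two, hz, one_zpow, one_mul]
  rcases key (S.sq u (S.le hu)) ha with rfl | rfl <;>
    rcases key (S.sq _ (S.le hU')) hb with rfl | rfl <;> simp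

omit [M.Normal] in
theorem Setup.orbit {u : G} (hu : u ∈ U) (hu1 : u ≠ 1) :
    x ^ 2 * u * (x ^ 2)⁻¹ = u * (x * u * x⁻¹) := by
  obtain ⟨hv, hv1, hvu, -⟩ := S.four hu hu1
  have h3 : x ^ 3 * u * (x ^ 3)⁻¹ = u := by
    rw [← mem_centralizer_iff.1 S.cube u (S.le hu)]; group
  have he : x ^ 2 * u * (x ^ 2)⁻¹ = x * (x * u * x⁻¹) * x⁻¹ := by rw [pow_two]; group
  obtain ⟨-, hw1, hwv, -⟩ := S.four hv hv1
  have hmem : x * (x * u * x⁻¹) * x⁻¹ ∈ U := (mem_normalizer_iff.1 S.norm _).1 hv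
  rw [he]
  rcases (S.four hu hu1).2.2.2 _ hmem with h | h | h | h
  · exact absurd h hw1
  · refine absurd ?_ hvu
    calc x * u * x⁻¹ = x * (x * (x * u * x⁻¹) * x⁻¹) * x⁻¹ := by rw [h]
      _ = x ^ 3 * u * (x ^ 3)⁻¹ := by rw [pow_succ, pow_two]; group
      _ = u := h3
  · exact absurd h hwv
  · exact h

omit [M.Normal] in
/-- An element of odd prime power action normalising `U` acts as a power of `x`. -/
theorem Setup.act {g : G} (hg : g ∈ normalizer (U : Set G))
    (hg3 : ∀ u ∈ U, g * (g * (g * u * g⁻¹) * g⁻¹) * g⁻¹ = u) :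
    ∃ e : ℕ, e < 3 ∧ ∀ u ∈ U, g * u * g⁻¹ = x ^ e * u * (x ^ e)⁻¹ := by
  obtain ⟨u, hu, hu1⟩ : ∃ u ∈ U, u ≠ 1 := U.bot_or_exists_ne_one.resolve_left fun h => by
    have := S.card; rw [h, card_bot] at this; norm_num at this
  obtain ⟨hv, hv1, hvu, hall⟩ := S.four hu hu1
  set v := x * u * x⁻¹ with hvd
  have hw := S.orbit hu hu1
  have himg : ∀ a ∈ U, a ≠ 1 → g * a * g⁻¹ ∈ U ∧ g * a * g⁻¹ ≠ 1 := fun a ha ha1 =>
    ⟨(mem_normalizer_iff.1 hg a).1 ha, fun e => ha1 (conj_eq_one_iff.1 e)⟩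
  have hinj : ∀ a b : G, g * a * g⁻¹ = g * b * g⁻¹ → a = b := fun a b h =>
    mul_left_cancel (mul_right_cancel h)
  have key : ∀ e : ℕ, g * u * g⁻¹ = x ^ e * u * (x ^ e)⁻¹ → g * v * g⁻¹ = x ^ e * v * (x ^ e)⁻¹ →
      ∀ a ∈ U, g * a * g⁻¹ = x ^ e * a * (x ^ e)⁻¹ := by
    intro e h1 h2 a ha
    rcases hall a ha with rfl | rfl | rfl | rfl
    · group
    · exact h1
    · exact h2
    · calc g * (u * v) * g⁻¹ = g * u * g⁻¹ * (g * v * g⁻¹) := by group
        _ = x ^ e * (u * v) * (x ^ e)⁻¹ := by rw [h1, h2]; group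
  have huv1 : u * v ≠ 1 := fun h => hvu (by
    have := eq_inv_of_mul_eq_one_right h
    rw [this]; exact inv_eq_of_mul_eq_one_right (S.sq u (S.le hu)))
  have huu : u * (u * v) = v := by rw [← mul_assoc, S.sq u (S.le hu), one_mul]
  have hvv : v * (u * v) = u := by
    rw [S.comm u (S.le hu) v (S.le hv), ← mul_assoc, S.sq v (S.le hv), one_mul]
  have hgw : g * (u * v) * g⁻¹ = g * u * g⁻¹ * (g * v * g⁻¹) := by group
  have g3 : ∀ {a b c : G}, a ∈ U → g * a * g⁻¹ = b → g * b * g⁻¹ = c → g * c * g⁻¹ = a := by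
    intro a b c ha h1 h2
    rw [← h2, ← h1]
    exact hg3 a ha
  obtain ⟨hgu, hgu1⟩ := himg u hu hu1
  obtain ⟨hgv, hgv1⟩ := himg v hv hv1
  rcases (hall _ hgu).resolve_left hgu1 with h | h | h <;>
    rcases (hall _ hgv).resolve_left hgv1 with h' | h' | h'
  · exact absurd (hinj _ _ (h'.trans h.symm)) hvu
  · exact ⟨0, by norm_num, key 0 (by simpa using h) (by simpa using h')⟩
  · exfalso
    have h3 : g * (u * v) * g⁻¹ = v := by rw [hgw, h, h', huu]
    have h4 := g3 hv h' h3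
    rw [h'] at h4
    exact hu1 (mul_eq_right.1 h4)
  · exfalso
    have h4 := g3 hu h h'
    rw [h] at h4
    exact hvu h4
  · exact absurd (hinj _ _ (h'.trans h.symm)) hvu
  · refine ⟨1, by norm_num, key 1 (by rw [pow_one]; exact h) ?_⟩
    rw [h', pow_one, ← hw, hvd, pow_two]; group
  · refine ⟨2, by norm_num, key 2 (by rw [h, hw]) ?_⟩
    rw [h', hvd, show x ^ 2 * (x * u * x⁻¹) * (x ^ 2)⁻¹ = x ^ 3 * u * (x ^ 3)⁻¹ by group,
      ← mem_centralizer_iff.1 S.cube u (S.le hu)]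
    group
  · exfalso
    have h3 : g * (u * v) * g⁻¹ = u := by
      rw [hgw, h, h', mul_assoc, S.sq v (S.le hv), mul_one]
    have h4 := g3 hu h h3
    rw [h] at h4
    exact hv1 (mul_eq_left.1 h4)
  · exact absurd (hinj _ _ (h'.trans h.symm)) hvu

omit [M.Normal] in
theorem Setup.pow_fpf {e : ℕ} (he : e % 3 ≠ 0) {u : G} (hu : u ∈ U)
    (h : x ^ e * u * (x ^ e)⁻¹ = u) : u = 1 := by
  by_contra hu1
  have h3 : ∀ n : ℕ, x ^ (3 * n) * u * (x ^ (3 * n))⁻¹ = u := fun n => by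
    have hc : (x ^ 3) ^ n ∈ centralizer (M : Set G) := pow_mem S.cube n
    rw [pow_mul, ← mem_centralizer_iff.1 hc u (S.le hu)]; group
  rw [← Nat.mod_add_div e 3] at h
  rw [pow_add, show x ^ (e % 3) * x ^ (3 * (e / 3)) * u * (x ^ (e % 3) * x ^ (3 * (e / 3)))⁻¹ =
    x ^ (e % 3) * (x ^ (3 * (e / 3)) * u * (x ^ (3 * (e / 3)))⁻¹) * (x ^ (e % 3))⁻¹ by group,
    h3] at h
  obtain ⟨hv, hv1, hvu, -⟩ := S.four hu hu1
  rcases (show e % 3 = 1 ∨ e % 3 = 2 by omega) with h1 | h1 <;> rw [h1] at h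
  · rw [pow_one] at h; exact hvu h
  · rw [S.orbit hu hu1] at h
    exact hv1 (mul_eq_left.1 h)

/-- An element acting nontrivially on `U` as a power of `x` moves all of `U`. -/
theorem Setup.le_moved {s : G} {e : ℕ} (he : e % 3 ≠ 0)
    (hs : ∀ u ∈ U, s * u * s⁻¹ = x ^ e * u * (x ^ e)⁻¹) : U ≤ moved M s := by
  let f : U → ↥(U ⊓ moved M s) := fun u => ⟨⁅s, (u : G)⁆, by
    refine mem_inf.2 ⟨?_, commutator_mem_commutator (mem_zpowers s) (S.le u.2)⟩
    rw [commutatorElement_def, hs u u.2]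
    exact mul_mem ((mem_normalizer_iff.1 (pow_mem S.norm e) u).1 u.2) (inv_mem u.2)⟩
  have hf : Function.Injective f := by
    intro a b h
    have h' : ⁅s, (a : G)⁆ = ⁅s, (b : G)⁆ := congrArg Subtype.val h
    rw [commutatorElement_def, commutatorElement_def, hs a a.2, hs b b.2] at h'
    refine Subtype.ext (mul_inv_eq_one.1 (S.pow_fpf he (mul_mem a.2 (inv_mem b.2)) ?_))
    have hxa : x ^ e * (a : G) * (x ^ e)⁻¹ ∈ U := (mem_normalizer_iff.1 (pow_mem S.norm e) _).1 a.2
    have hxb : x ^ e * (b : G) * (x ^ e)⁻¹ ∈ U := (mem_normalizer_iff.1 (pow_mem S.norm e) _).1 b.2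
    calc x ^ e * ((a : G) * (b : G)⁻¹) * (x ^ e)⁻¹
        = (x ^ e * a * (x ^ e)⁻¹) * (x ^ e * b * (x ^ e)⁻¹)⁻¹ := by group
      _ = (x ^ e * a * (x ^ e)⁻¹ * (a : G)⁻¹) * ((a : G) * (x ^ e * b * (x ^ e)⁻¹)⁻¹) := by group
      _ = (x ^ e * b * (x ^ e)⁻¹ * (b : G)⁻¹) * ((x ^ e * b * (x ^ e)⁻¹)⁻¹ * (a : G)) := by
          rw [h', S.comm (a : G) (S.le a.2) _ (M.inv_mem (S.le hxb))]
      _ = (b : G)⁻¹ * (a : G) := by
          rw [← mul_assoc, S.comm (x ^ e * b * (x ^ e)⁻¹) (S.le hxb) _ (M.inv_mem (S.le b.2))]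
          group
      _ = (a : G) * (b : G)⁻¹ := S.comm _ (M.inv_mem (S.le b.2)) _ (S.le a.2)
  have hle : Nat.card U ≤ Nat.card ↥(U ⊓ moved M s) := Nat.card_le_card_of_injective f hf
  exact (inf_eq_left.1 (eq_of_le_of_card_ge inf_le_left hle))

/-- If the conjugate element acts nontrivially on `U`, then `U` is normalised. -/
theorem Setup.mem_normalizer {f : G} {e : ℕ} (he : e % 3 ≠ 0)
    (hs : ∀ u ∈ U, f * x * f⁻¹ * u * (f * x * f⁻¹)⁻¹ = x ^ e * u * (x ^ e)⁻¹) :
    f ∈ normalizer (U : Set G) := by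
  refine mem_normalizer_of_map_le ?_
  have h : U.map (MulAut.conj f).toMonoidHom = moved M (f * x * f⁻¹) := by
    rw [S.eq, map_conj_moved]
  have hle := S.le_moved he hs
  rw [← h] at hle
  exact (eq_of_le_of_card_ge hle (card_map_of_injective (MulAut.conj f).injective).le).ge

/-- The key step for `p = 3`. -/
theorem Setup.step {f : G} (hf : f ^ 3 = 1) (hk3 : ⁅f, x⁆ ^ 3 = 1) (hfk : Commute f ⁅f, x⁆)
    (hkx : ⁅⁅f, x⁆, x⁆ ∈ centralizer (M : Set G)) : ⁅f, x⁆ ∈ centralizer (M : Set G) := by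
  set k := ⁅f, x⁆ with hk
  have hkxq : (QuotientGroup.mk (k * x * k⁻¹) : G ⧸ centralizer (M : Set G)) = QuotientGroup.mk x := by
    rw [show k * x * k⁻¹ = ⁅k, x⁆ * x by group, QuotientGroup.mk_mul,
      (QuotientGroup.eq_one_iff _).2 hkx, one_mul]
  have hN : ∀ g : G, (QuotientGroup.mk (g * x * g⁻¹) : G ⧸ centralizer (M : Set G)) =
      QuotientGroup.mk x → g ∈ normalizer (U : Set G) := fun g hg => by
    refine mem_normalizer_of_map_le (le_of_eq ?_)
    rw [S.eq, map_conj_moved, moved_congr hg]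
  have hcube : ∀ g : G, g ^ 3 = 1 → ∀ u ∈ U, g * (g * (g * u * g⁻¹) * g⁻¹) * g⁻¹ = u := by
    intro g hg u _
    calc g * (g * (g * u * g⁻¹) * g⁻¹) * g⁻¹ = g ^ 3 * u * (g ^ 3)⁻¹ := by
          rw [pow_succ, pow_two]; group
      _ = u := by rw [hg]; group
  obtain ⟨e, he, hke⟩ := S.act (hN k hkxq) (hcube k hk3)
  have hy : f * x * f⁻¹ = k * x := by rw [hk]; group
  -- first `f` normalises `U`
  have hfN : f ∈ normalizer (U : Set G) := by
    rcases (show e = 0 ∨ e = 1 ∨ e = 2 by omega) with rfl | rfl | rfl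
    · refine S.mem_normalizer (e := 1) (by norm_num) fun u hu => ?_
      rw [hy, show k * x * u * (k * x)⁻¹ = k * (x * u * x⁻¹) * k⁻¹ by group,
        hke _ ((mem_normalizer_iff.1 S.norm u).1 hu)]
      group
    · refine S.mem_normalizer (e := 2) (by norm_num) fun u hu => ?_
      rw [hy, show k * x * u * (k * x)⁻¹ = k * (x * u * x⁻¹) * k⁻¹ by group,
        hke _ ((mem_normalizer_iff.1 S.norm u).1 hu)]
      group
    · have hff : f ^ 2 ∈ normalizer (U : Set G) := by
        refine S.mem_normalizer (e := 2 + (2 + 1)) (by norm_num) fun u hu => ?_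
        have h2 : f ^ 2 * x * (f ^ 2)⁻¹ = k * (k * x) := by
          calc f ^ 2 * x * (f ^ 2)⁻¹ = f * (f * x * f⁻¹) * f⁻¹ := by rw [pow_two]; group
            _ = f * (k * x) * f⁻¹ := by rw [hy]
            _ = f * k * f⁻¹ * (f * x * f⁻¹) := by group
            _ = k * (k * x) := by rw [hfk.eq, mul_inv_cancel_right, hy]
        rw [h2, show k * (k * x) * u * (k * (k * x))⁻¹ = k * (k * (x * u * x⁻¹) * k⁻¹) * k⁻¹ by group]
        have hxu := (mem_normalizer_iff.1 S.norm u).1 hu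
        rw [hke _ hxu, hke _ ((mem_normalizer_iff.1 (pow_mem S.norm 2) _).1 hxu)]
        group
      have : f = (f ^ 2) ^ 2 := by
        rw [← pow_mul, show 2 * 2 = 3 + 1 from rfl, pow_add, hf, one_mul, pow_one]
      rw [this]
      exact pow_mem hff 2
  -- hence `k` is trivial on `U`
  obtain ⟨i, -, hfi⟩ := S.act hfN (hcube f hf)
  have hfi' : ∀ u ∈ U, f⁻¹ * u * f = (x ^ i)⁻¹ * u * x ^ i := by
    intro u hu
    have hw : (x ^ i)⁻¹ * u * x ^ i ∈ U := by
      simpa using (mem_normalizer_iff.1 (inv_mem (pow_mem S.norm i)) u).1 hu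
    have h := hfi _ hw
    calc f⁻¹ * u * f = f⁻¹ * (x ^ i * ((x ^ i)⁻¹ * u * x ^ i) * (x ^ i)⁻¹) * f := by group
      _ = (x ^ i)⁻¹ * u * x ^ i := by rw [← h]; group
  have hkU : ∀ u ∈ U, k * u * k⁻¹ = u := by
    intro u hu
    have h1 : x⁻¹ * u * x ∈ U := by
      simpa using (mem_normalizer_iff.1 (inv_mem S.norm) u).1 hu
    have h2 : (x ^ i)⁻¹ * (x⁻¹ * u * x) * x ^ i ∈ U := by
      simpa using (mem_normalizer_iff.1 (inv_mem (pow_mem S.norm i)) _).1 h1
    have h3 : x * ((x ^ i)⁻¹ * (x⁻¹ * u * x) * x ^ i) * x⁻¹ ∈ U :=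
      (mem_normalizer_iff.1 S.norm _).1 h2
    calc k * u * k⁻¹ = f * (x * (f⁻¹ * (x⁻¹ * u * x) * f) * x⁻¹) * f⁻¹ := by rw [hk]; group
      _ = x ^ i * (x * ((x ^ i)⁻¹ * (x⁻¹ * u * x) * x ^ i) * x⁻¹) * (x ^ i)⁻¹ := by
          rw [hfi' _ h1, hfi _ h3]
      _ = u := by group
  -- and on the fixed points of `x`
  refine mem_centralizer_iff.2 fun m hm => ?_
  obtain ⟨u, hu, c, hc, hxc, rfl⟩ := S.split m hm
  have hkc : k * c * k⁻¹ = c := by
    have hmem : ⁅k * x, c⁆ ∈ U := by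
      have h := (map_conj_moved M f x)
      rw [← S.eq, hy] at h
      have h' : ⁅k * x, c⁆ ∈ moved M (k * x) := commutator_mem_commutator (mem_zpowers _) hc
      rw [← h] at h'
      obtain ⟨w, hw, hwe⟩ := h'
      rw [← hwe]
      exact (mem_normalizer_iff.1 hfN w).1 hw
    have hd : ⁅k * x, c⁆ = k * c * k⁻¹ * c⁻¹ := by
      rw [show ⁅k * x, c⁆ = k * (x * c * x⁻¹) * k⁻¹ * c⁻¹ by group, hxc]
    rw [hd] at hmem
    have hfix : x * (k * c * k⁻¹ * c⁻¹) * x⁻¹ = k * c * k⁻¹ * c⁻¹ := by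
      have hq : (QuotientGroup.mk (x * k) : G ⧸ centralizer (M : Set G)) = QuotientGroup.mk (k * x) := by
        have := hkxq
        rw [QuotientGroup.mk_mul, QuotientGroup.mk_mul, QuotientGroup.mk_inv,
          mul_inv_eq_iff_eq_mul] at this
        rw [QuotientGroup.mk_mul, QuotientGroup.mk_mul, this]
      calc x * (k * c * k⁻¹ * c⁻¹) * x⁻¹ = x * k * c * (x * k)⁻¹ * (x * c * x⁻¹)⁻¹ := by group
        _ = k * x * c * (k * x)⁻¹ * c⁻¹ := by rw [conj_of_mk hq hc, hxc]
        _ = k * (x * c * x⁻¹) * k⁻¹ * c⁻¹ := by group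
        _ = k * c * k⁻¹ * c⁻¹ := by rw [hxc]
    exact mul_inv_eq_one.1 (S.fpf _ hmem hfix)
  symm
  rw [← mul_inv_eq_iff_eq_mul]
  calc k * (u * c) * k⁻¹ = (k * u * k⁻¹) * (k * c * k⁻¹) := by group
    _ = u * c := by rw [hkU u hu, hkc]

/-- The conclusion for `p = 3`. -/
theorem Setup.three {T A : Subgroup G} (hT : IsPGroup 3 T) (hxT : x ∈ T) (hAT : A ≤ T)
    (hA : Cfsg.IsElementaryAbelian 3 A) (hTA : T ≤ normalizer (A : Set G)) :
    A ≤ normalizer (U : Set G) ∧ (centralizer (U : Set G)).relIndex A ≤ 3 := by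
  have : Fact (Nat.Prime 3) := ⟨Nat.prime_three⟩
  have hA3 : ∀ a ∈ A, a ^ 3 = 1 := hA.2
  have hAstep : ∀ f ∈ A, ⁅f, x⁆ ∈ A := fun f hf => by
    rw [show ⁅f, x⁆ = f * (x * f⁻¹ * x⁻¹) by group]
    exact mul_mem hf ((mem_normalizer_iff.1 (hTA hxT) _).1 (inv_mem hf))
  let c : G → G := fun g => ⁅g, x⁆
  have hiter : ∀ n, ∀ f ∈ A, c^[n + 1] f ∈ centralizer (M : Set G) →
      c f ∈ centralizer (M : Set G) := by
    intro n
    induction n with
    | zero => intro f _ h; exact h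
    | succ n ih =>
      intro f hf h
      refine S.step (hA3 f hf) (hA3 _ (hAstep f hf))
        (ElemAbelian.comm hA hf (hAstep f hf)) ?_
      exact ih (c f) (hAstep f hf) h
  have hker : ∀ f ∈ A, c f ∈ centralizer (M : Set G) := by
    intro f hf
    obtain ⟨n, hn⟩ := Subgroup.nilpotent_iff_lowerCentralSeries.1 hT.isNilpotent
    refine hiter n f hf ?_
    have key : ∀ j, c^[j] f ∈ ((⊤ : Subgroup T).lowerCentralSeries j).map T.subtype := by
      intro j
      induction j with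
      | zero => exact ⟨⟨f, hAT hf⟩, mem_top _, rfl⟩
      | succ j ih =>
        rw [Function.iterate_succ_apply']
        obtain ⟨w, hw, hwe⟩ := ih
        rw [← hwe]
        exact ⟨⁅w, (⟨x, hxT⟩ : T)⁆, commutator_mem_commutator hw (mem_top _), rfl⟩
    have h := key n
    rw [hn, Subgroup.map_bot, mem_bot] at h
    rw [Function.iterate_succ_apply', h]
    show ⁅(1 : G), x⁆ ∈ _
    rw [commutatorElement_one_left]
    exact one_mem _
  have hAN : A ≤ normalizer (U : Set G) := fun f hf => by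
    refine mem_normalizer_of_map_le (le_of_eq ?_)
    rw [S.eq, map_conj_moved, moved_congr (t := x)]
    rw [show f * x * f⁻¹ = ⁅f, x⁆ * x by group, QuotientGroup.mk_mul,
      (QuotientGroup.eq_one_iff _).2 (hker f hf), one_mul]
  refine ⟨hAN, ?_⟩
  have hex : ∀ g : A, ∃ e : Fin 3, ∀ u ∈ U, (g : G) * u * (g : G)⁻¹ = x ^ (e : ℕ) * u * (x ^ (e : ℕ))⁻¹ := by
    intro g
    obtain ⟨e, he, h⟩ := S.act (hAN g.2) fun u _ => by
      calc (g : G) * ((g : G) * ((g : G) * u * (g : G)⁻¹) * (g : G)⁻¹) * (g : G)⁻¹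
          = (g : G) ^ 3 * u * ((g : G) ^ 3)⁻¹ := by rw [pow_succ, pow_two]; group
        _ = u := by rw [hA3 g g.2]; group
    exact ⟨⟨e, he⟩, h⟩
  choose e he using hex
  rw [relIndex, index_eq_card, ← Nat.card_fin 3]
  refine Nat.card_le_card_of_injective (fun q => e q.out) fun q r h => ?_
  rw [← q.out_eq', ← r.out_eq', QuotientGroup.eq, mem_subgroupOf, coe_mul, coe_inv]
  refine mem_centralizer_iff.2 fun u hu => ?_
  have h2 : (r.out : G) * u * (r.out : G)⁻¹ = (q.out : G) * u * (q.out : G)⁻¹ := by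
    rw [he q.out u hu, he r.out u hu]
    exact congrArg (fun i : Fin 3 => x ^ (i : ℕ) * u * (x ^ (i : ℕ))⁻¹) h.symm
  symm
  calc (q.out : G)⁻¹ * r.out * u = (q.out : G)⁻¹ * (r.out * u * (r.out : G)⁻¹) * r.out := by group
    _ = u * ((q.out : G)⁻¹ * r.out) := by rw [h2]; group

end

section
variable [Finite G] {p : ℕ}

omit [Finite G] in
/-- The elements moving `M` only inside `V`. -/
def moveStab (M V : Subgroup G) : Subgroup G where
  carrier := {s | s ∈ normalizer (V : Set G) ∧ ∀ m ∈ M, ⁅s, m⁆ ∈ V}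
  one_mem' := ⟨one_mem _, fun m _ => by rw [commutatorElement_one_left]; exact one_mem _⟩
  mul_mem' := fun {s t} hs ht => ⟨mul_mem hs.1 ht.1, fun m hm => by
    rw [show ⁅s * t, m⁆ = s * ⁅t, m⁆ * s⁻¹ * ⁅s, m⁆ by group]
    exact mul_mem ((mem_normalizer_iff.1 hs.1 _).1 (ht.2 m hm)) (hs.2 m hm)⟩
  inv_mem' := fun {s} hs => ⟨inv_mem hs.1, fun m hm => by
    rw [show ⁅s⁻¹, m⁆ = s⁻¹ * ⁅s, m⁆⁻¹ * s⁻¹⁻¹ by group]
    exact (mem_normalizer_iff.1 (inv_mem hs.1) _).1 (inv_mem (hs.2 m hm))⟩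

theorem mem_moveStab {M V : Subgroup G} (hVM : V ≤ M) {s : G} (h : ∀ m ∈ M, ⁅s, m⁆ ∈ V) :
    s ∈ moveStab M V := by
  refine ⟨mem_normalizer_of_map_le ?_, h⟩
  rintro _ ⟨v, hv, rfl⟩
  show s * v * s⁻¹ ∈ V
  rw [show s * v * s⁻¹ = ⁅s, v⁆ * v by group]
  exact mul_mem (h v (hVM hv)) hv

omit [Finite G] in
theorem commutator_le_of_moveStab {M V B : Subgroup G} (h : B ≤ moveStab M V) : ⁅M, B⁆ ≤ V := by
  rw [commutator_comm]; exact commutator_le.2 fun s hs m hm => (h hs).2 m hm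

theorem le_moveStab {M V B : Subgroup G} (hVM : V ≤ M) (h : ⁅M, B⁆ ≤ V) : B ≤ moveStab M V :=
  fun b hb => mem_moveStab hVM fun m hm => h (by
    rw [commutator_comm]; exact commutator_mem_commutator hb hm)

/-- Fixed points of a `p`-group. -/
theorem card_modEq [Fact p.Prime] {B W : Subgroup G} (hB : IsPGroup p B)
    (hBW : B ≤ normalizer (W : Set G)) :
    Nat.card W ≡ Nat.card ↥(W ⊓ centralizer (B : Set G)) [MOD p] := by
  let act : MulAction B W := {
    smul := fun b w => ⟨b * w * (b : G)⁻¹, (mem_normalizer_iff.1 (hBW b.2) w).1 w.2⟩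
    one_smul := fun w => Subtype.ext (show ((1 : B) : G) * w * ((1 : B) : G)⁻¹ = w by simp)
    mul_smul := fun b c w => Subtype.ext (show ((b * c : B) : G) * w * ((b * c : B) : G)⁻¹ =
      b * ((c : G) * w * (c : G)⁻¹) * (b : G)⁻¹ by simp [mul_assoc]) }
  have h := hB.card_modEq_card_fixedPoints (α := W)
  have e : MulAction.fixedPoints B W ≃ ↥(W ⊓ centralizer (B : Set G)) := {
    toFun := fun w => ⟨w.1.1, w.1.2, mem_centralizer_iff.2 fun b hb =>
      mul_inv_eq_iff_eq_mul.1 (congrArg Subtype.val (w.2 ⟨b, hb⟩))⟩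
    invFun := fun w => ⟨⟨w.1, (mem_inf.1 w.2).1⟩, fun b => Subtype.ext
      (mul_inv_eq_iff_eq_mul.2 (mem_centralizer_iff.1 (mem_inf.1 w.2).2 b b.2))⟩
    left_inv := fun _ => rfl
    right_inv := fun _ => rfl }
  rwa [Nat.card_congr e] at h

/-- The orbit of `w`. -/
theorem index_stab_le {B W : Subgroup G} (hBW : B ≤ normalizer (W : Set G)) {w : G} (hw : w ∈ W)
    (hw1 : w ≠ 1) :
    ((B ⊓ centralizer ({w} : Set G)).subgroupOf B).index + 1 ≤ Nat.card W := by
  have hne : ∀ b : B, (b : G) * w * (b : G)⁻¹ ∈ (W : Set G) \ {1} := fun b =>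
    ⟨(mem_normalizer_iff.1 (hBW b.2) w).1 hw, fun h => hw1 (conj_eq_one_iff.1 h)⟩
  have h : ((B ⊓ centralizer ({w} : Set G)).subgroupOf B).index ≤
      Nat.card ↥((W : Set G) \ {1}) := by
    rw [index_eq_card]
    refine Nat.card_le_card_of_injective (fun q => ⟨_, hne q.out⟩) fun q r h => ?_
    have h' : (q.out : G) * w * (q.out : G)⁻¹ = (r.out : G) * w * (r.out : G)⁻¹ :=
      congrArg Subtype.val h
    rw [← q.out_eq', ← r.out_eq', QuotientGroup.eq, mem_subgroupOf, coe_mul, coe_inv]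
    refine mem_inf.2 ⟨mul_mem (inv_mem q.out.2) r.out.2, mem_centralizer_singleton_iff.2 ?_⟩
    calc (q.out : G)⁻¹ * r.out * w = (q.out : G)⁻¹ * (r.out * w * (r.out : G)⁻¹) * r.out := by group
      _ = w * ((q.out : G)⁻¹ * r.out) := by rw [← h']; group
  rw [Nat.card_coe_set_eq, Set.ncard_diff_singleton_of_mem (one_mem W), ← Nat.card_coe_set_eq] at h
  change _ ≤ Nat.card W - 1 at h
  have := Nat.card_pos (α := W)
  omega

variable {M U : Subgroup G} [M.Normal] {x : G} (S : Setup M U x)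
include S

omit [M.Normal] in
theorem Setup.isPGroup_of_le {W : Subgroup G} (hWM : W ≤ M) : IsPGroup 2 W := fun w => ⟨1,
  Subtype.ext (by rw [pow_one, coe_pow, pow_two]; exact S.sq w (hWM w.2))⟩

omit [M.Normal] in
theorem Setup.coprime [hpF : Fact p.Prime] (hp5 : 5 ≤ p) {B W : Subgroup G} (hB : IsPGroup p B)
    (hWM : W ≤ M) : (Nat.card B).Coprime (Nat.card W) := by
  have : Fact (Nat.Prime 2) := ⟨Nat.prime_two⟩
  obtain ⟨a, ha⟩ := IsPGroup.iff_card.1 hB
  obtain ⟨b, hb⟩ := IsPGroup.iff_card.1 (S.isPGroup_of_le hWM)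
  rw [ha, hb]
  exact Nat.Coprime.pow a b ((Nat.coprime_primes hpF.out Nat.prime_two).2 (by omega))

/-- A `p`-group stabilising `W ≤ M` of order at most `16` is small modulo the centraliser. -/
theorem Setup.card_map_le [hpF : Fact p.Prime] (hp5 : 5 ≤ p) {B W : Subgroup G} (hB : IsPGroup p B)
    (hWM : W ≤ M) (hBS : B ≤ moveStab M W) (hW : Nat.card W ≤ 16) :
    Nat.card ↥(B.map (QuotientGroup.mk' (centralizer (M : Set G)))) ≤ p := by
  have : Fact (Nat.Prime 2) := ⟨Nat.prime_two⟩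
  have hBW : B ≤ normalizer (W : Set G) := fun b hb => (hBS hb).1
  have hcent : ∀ {B' : Subgroup G}, B' ≤ B → B' ≤ centralizer (W : Set G) →
      B' ≤ centralizer (M : Set G) := fun hB' h =>
    Coprime.le_centralizer_of_stabilizes (commutator_le_of_moveStab (hB'.trans hBS)) h
      (S.coprime hp5 (hB.to_le hB') hWM)
  rw [← relIndex_ker, QuotientGroup.ker_mk']
  by_cases hBc : B ≤ centralizer (W : Set G)
  · rw [relIndex_eq_one.2 (hcent le_rfl hBc)]; omega
  obtain ⟨b₀, hb₀, hb₀W⟩ := SetLike.not_le_iff_exists.1 hBc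
  obtain ⟨w, hw, hwb⟩ : ∃ w ∈ W, b₀ * w * b₀⁻¹ ≠ w := by
    by_contra h
    push Not at h
    exact hb₀W (mem_centralizer_iff.2 fun w hw => (mul_inv_eq_iff_eq_mul.1 (h w hw)).symm)
  have hw1 : w ≠ 1 := fun h => hwb (by rw [h]; group)
  set B₁ := (B ⊓ centralizer ({w} : Set G)).subgroupOf B with hB₁
  have hinj : B₁.index + 1 ≤ Nat.card W := index_stab_le hBW hw hw1
  obtain ⟨k, hk⟩ := hB.index B₁
  have hk1 : k = 1 := by
    rcases (show k = 0 ∨ k = 1 ∨ 2 ≤ k by omega) with h | h | h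
    · subst h
      rw [pow_zero, index_eq_one, hB₁, subgroupOf_eq_top] at hk
      exact absurd (mul_inv_eq_iff_eq_mul.2 (mem_centralizer_singleton_iff.1 (hk hb₀).2)) hwb
    · exact h
    · exfalso
      have h25 : 5 * 5 ≤ B₁.index := by
        rw [hk]
        exact le_trans (Nat.mul_le_mul hp5 hp5) (by
          rw [← pow_two]; exact Nat.pow_le_pow_right hpF.out.pos h)
      omega
  rw [hk1, pow_one] at hk
  have hB₁n : B₁.Normal := by
    refine normal_of_index_eq_minFac_card ?_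
    obtain ⟨n, hn⟩ := IsPGroup.iff_card.1 hB
    have hn0 : n ≠ 0 := by
      rintro rfl
      have h := B₁.index_dvd_card
      rw [hk, hn, pow_zero, Nat.dvd_one] at h
      omega
    rw [hk, hn, Nat.Prime.pow_minFac hpF.out hn0]
  set B' := B ⊓ centralizer ({w} : Set G) with hB'
  have hBB' : B ≤ normalizer (B' : Set G) :=
    (normal_subgroupOf_iff_le_normalizer inf_le_left).1 hB₁n
  set V := W ⊓ centralizer (B' : Set G) with hV
  have hVn : B ≤ normalizer (V : Set G) := Coprime.le_normalizer_inf_centralizer hBW hBB'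
  have hwV : w ∈ V := ⟨hw, mem_centralizer_iff.2 fun b hb => mem_centralizer_singleton_iff.1 hb.2⟩
  have hV8 : p < Nat.card V := by
    have := index_stab_le hVn hwV hw1
    rw [← hB', ← hB₁, hk] at this
    omega
  have hB'W : B' ≤ centralizer (W : Set G) := by
    have hB'V : B' ≤ centralizer (V : Set G) := le_centralizer_iff.1 inf_le_right
    by_cases hVW : V = W
    · exact hVW ▸ hB'V
    have hlt : V < W := lt_of_le_of_ne inf_le_left hVW
    obtain ⟨a, ha⟩ := IsPGroup.iff_card.1 (S.isPGroup_of_le hWM)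
    obtain ⟨b, hb⟩ := IsPGroup.iff_card.1 (S.isPGroup_of_le ((inf_le_left : V ≤ W).trans hWM))
    have ha4 : a ≤ 4 := (Nat.pow_le_pow_iff_right (a := 2) (by norm_num)).1 (by rw [← ha]; exact hW)
    have hba : b < a := by
      have : Nat.card V < Nat.card W := Set.ncard_lt_ncard hlt (Set.toFinite _)
      rw [ha, hV, hb] at this
      exact (Nat.pow_lt_pow_iff_right (by norm_num)).1 this
    rw [hV, hb] at hV8
    have hb3 : 3 ≤ b := by
      by_contra h
      have : 2 ^ b ≤ 2 ^ 2 := Nat.pow_le_pow_right (by norm_num) (by omega)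
      omega
    have hidx : Nat.card W = 2 * Nat.card V := by
      rw [ha, hV, hb, show a = b + 1 by omega, pow_succ']
    exact Coprime.le_centralizer_of_stabilizes
      (NoncyclicEight.commutator_le_of_index_two inf_le_left hidx (inf_le_left.trans hVn)
        (inf_le_left.trans hBW)) hB'V (S.coprime hp5 (hB.to_le inf_le_left) (inf_le_left.trans hWM))
  calc (centralizer (M : Set G)).relIndex B ≤ B'.relIndex B :=
        relIndex_le_of_le_left (hcent inf_le_left hB'W) index_ne_zero_of_finite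
    _ = p := hk

omit [M.Normal] in
theorem Setup.le_of_mem {L : Subgroup G} (hL : x ∈ normalizer (L : Set G)) {u : G} (hu : u ∈ U)
    (huL : u ∈ L) (hu1 : u ≠ 1) : U ≤ L := by
  intro v hv
  have hxu : x * u * x⁻¹ ∈ L := (mem_normalizer_iff.1 hL u).1 huL
  rcases (S.four hu hu1).2.2.2 v hv with rfl | rfl | rfl | rfl
  · exact one_mem _
  · exact huL
  · exact hxu
  · exact mul_mem huL hxu

/-- The subgroup generated by `[f, x]` and its data. -/
theorem Setup.block [hpF : Fact p.Prime] (hp5 : 5 ≤ p) {P : Subgroup G} (hP : IsPGroup p P)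
    (hxP : x ∈ normalizer (P : Set G)) {f : G} (hf : f ∈ P)
    (hg : ⁅f, x⁆ ∉ centralizer (M : Set G)) :
    ∃ B W : Subgroup G, B ≤ P ∧ ⁅f, x⁆ ∈ B ∧ B ≤ moveStab M W ∧ U ≤ W ∧ W ≤ M ∧ Nat.card W = 8 ∧
      Nat.card ↥(B.map (QuotientGroup.mk' (centralizer (M : Set G)))) = p := by
  set π := QuotientGroup.mk' (centralizer (M : Set G)) with hπ
  set y := f * x * f⁻¹ with hy
  set U' := U.map (MulAut.conj f).toMonoidHom with hU'
  have hU'y : U' = moved M y := by rw [hU', S.eq, map_conj_moved]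
  set W₀ := U ⊔ U' with hW₀
  have hU'M : U' ≤ M := by
    rintro _ ⟨u, hu, rfl⟩
    exact Normal.conj_mem ‹_› u (S.le hu) f
  have hW₀M : W₀ ≤ M := sup_le S.le hU'M
  have hU'c : U' ≤ centralizer (U : Set G) := fun v hv =>
    mem_centralizer_iff.2 fun u hu => S.comm u (S.le hu) v (hU'M hv)
  have hW₀16 : Nat.card W₀ ≤ 16 := by
    have h := coe_mul_of_right_le_normalizer_left U U' (hU'c.trans (centralizer_le_normalizer _))
    calc Nat.card W₀ = Nat.card ((U : Set G) * (U' : Set G) : Set G) := by rw [← h]; rfl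
      _ ≤ Nat.card U * Nat.card U' := Set.natCard_mul_le
      _ = 16 := by rw [hU', card_map_of_injective (MulAut.conj f).injective, S.card]
  set X' := zpowers x ⊔ zpowers y with hX'
  have hX'S : X' ≤ moveStab M W₀ := sup_le
    (zpowers_le.2 (mem_moveStab hW₀M fun m hm =>
      mem_sup_left (S.eq.ge (commutator_mem_commutator (mem_zpowers _) hm))))
    (zpowers_le.2 (mem_moveStab hW₀M fun m hm =>
      mem_sup_right (hU'y.ge (commutator_mem_commutator (mem_zpowers _) hm))))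
  set g := ⁅f, x⁆ with hgd
  set B := X' ⊓ P with hB
  have hgB : g ∈ B := by
    refine mem_inf.2 ⟨?_, ?_⟩
    · rw [show g = y * x⁻¹ by rw [hgd, hy]; group]
      exact mul_mem (mem_sup_right (mem_zpowers y)) (inv_mem (mem_sup_left (mem_zpowers x)))
    · rw [show g = f * (x * f⁻¹ * x⁻¹) by rw [hgd]; group]
      exact mul_mem hf ((mem_normalizer_iff.1 hxP _).1 (inv_mem hf))
  have hBP : IsPGroup p B := hP.to_le inf_le_right
  have hxB : x ∈ normalizer (B : Set G) := mem_normalizer_iff.2 fun b => by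
    have hx' : x ∈ normalizer (X' : Set G) := le_normalizer (mem_sup_left (mem_zpowers x))
    exact and_congr (mem_normalizer_iff.1 hx' b) (mem_normalizer_iff.1 hxP b)
  have hBS : B ≤ moveStab M W₀ := inf_le_left.trans hX'S
  have hgne : π g ≠ 1 := fun h => hg ((QuotientGroup.eq_one_iff g).1 h)
  have hcardp : Nat.card ↥(B.map π) = p := by
    obtain ⟨n, hn⟩ := IsPGroup.iff_card.1 (hBP.map π)
    have hn1 : n ≠ 0 := by
      rintro rfl
      exact hgne (mem_bot.1 (card_eq_one.1 (hn.trans (pow_zero p)) ▸ mem_map_of_mem π hgB))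
    refine le_antisymm (S.card_map_le hp5 hBP hW₀M hBS hW₀16) ?_
    rw [hn]
    exact Nat.le_self_pow hn1 p
  have hg3 : π g ^ p = 1 := by
    rw [← hcardp]
    have : (⟨π g, mem_map_of_mem π hgB⟩ : B.map π) ^ Nat.card ↥(B.map π) = 1 := pow_card_eq_one'
    exact congrArg Subtype.val this
  have hgo : orderOf (π g) = p := orderOf_eq_prime hg3 hgne
  have hgen : zpowers (π g) = B.map π :=
    eq_of_le_of_card_ge (zpowers_le.2 (mem_map_of_mem π hgB))
      (by rw [Nat.card_zpowers, hgo, hcardp])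
  have hx3 : π x ^ 3 = 1 := by rw [← map_pow]; exact (QuotientGroup.eq_one_iff _).2 S.cube
  -- `x` does not centralise `g` modulo the kernel
  have hncomm : π x * π g * (π x)⁻¹ ≠ π g := by
    intro h
    have hc : Commute (π g) (π x) := (mul_inv_eq_iff_eq_mul.1 h).symm
    have hyq : π f * π x * (π f)⁻¹ = π g * π x := by
      rw [← map_inv, ← map_mul, ← map_mul, ← map_mul, hgd]; group
    have h3 : π g ^ 3 = 1 := by
      have h1 : (π g * π x) ^ 3 = 1 := by rw [← hyq, conj_pow, hx3]; group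
      rw [hc.mul_pow, hx3, mul_one] at h1
      exact h1
    refine hgne ?_
    have hcop : (3 : ℕ).gcd p = 1 := (Nat.coprime_primes Nat.prime_three hpF.out).2 (by omega)
    have := pow_gcd_eq_one.2 ⟨h3, hg3⟩
    rwa [hcop, pow_one] at this
  set W := ⁅M, B⁆ with hW
  have hBM : B ≤ normalizer (M : Set G) := by rw [normalizer_eq_top]; exact le_top
  have hWW₀ : W ≤ W₀ := commutator_le_of_moveStab hBS
  have hWM : W ≤ M := hWW₀.trans hW₀M
  have hBW : B ≤ moveStab M W := le_moveStab hWM le_rfl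
  have hMc : IsMulCommutative M := ⟨⟨fun a b => Subtype.ext (S.comm a a.2 b b.2)⟩⟩
  have hcopM := S.coprime hp5 hBP (le_refl M)
  have hfix0 := Coprime.inf_centralizer_inf_commutator_eq_bot hBM hcopM
  have hdec := Coprime.inf_centralizer_sup_commutator_eq hBM hcopM
  have hxW : x ∈ normalizer (W : Set G) := by
    have h : zpowers x ≤ normalizer (W : Set G) :=
      Coprime.le_normalizer_commutator (by rw [normalizer_eq_top]; exact le_top) (zpowers_le.2 hxB)
    exact h (mem_zpowers x)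
  have hxgB : x * g * x⁻¹ ∈ B := (mem_normalizer_iff.1 hxB g).1 hgB
  have hUW : U ≤ W := by
    obtain ⟨w, hw, hwx⟩ : ∃ w ∈ W, ⁅x, w⁆ ≠ 1 := by
      by_contra hall
      push Not at hall
      refine hncomm ?_
      rw [← map_inv, ← map_mul, ← map_mul, ← mul_inv_eq_one, ← map_inv, ← map_mul]
      refine (QuotientGroup.eq_one_iff _).2 (mem_centralizer_iff.2 fun m hm => ?_)
      obtain ⟨c, hc, d, hd, rfl⟩ : m ∈ ((M ⊓ centralizer (B : Set G) : Subgroup G) : Set G) *
          ((⁅M, B⁆ : Subgroup G) : Set G) := by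
        rw [← coe_mul_of_right_le_normalizer_left, hdec]
        · exact hm
        · intro d hd
          exact centralizer_le_normalizer _ (mem_centralizer_iff.2 fun c hc =>
            S.comm c hc.1 d (hWM hd))
      have hxd : ∀ d ∈ W, x * d * x⁻¹ = d := fun d hd =>
        mul_inv_eq_one.1 ((commutatorElement_def x d).symm.trans (hall d hd))
      have hxid : ∀ d ∈ W, x⁻¹ * d * x = d := fun d hd => by
        nth_rewrite 1 [← hxd d hd]; group
      have hgc : ∀ b ∈ B, b * c * b⁻¹ = c := fun b hb =>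
        mul_inv_eq_iff_eq_mul.2 (mem_centralizer_iff.1 hc.2 b hb)
      have h1 : x * g * x⁻¹ * g⁻¹ * c * (x * g * x⁻¹ * g⁻¹)⁻¹ = c :=
        hgc _ (mul_mem hxgB (inv_mem hgB))
      have hgd' : g⁻¹ * d * g ∈ W := by
        simpa using (mem_normalizer_iff.1 (hBW (inv_mem hgB)).1 d).1 hd
      have h2 : x * g * x⁻¹ * g⁻¹ * d * (x * g * x⁻¹ * g⁻¹)⁻¹ = d := by
        calc x * g * x⁻¹ * g⁻¹ * d * (x * g * x⁻¹ * g⁻¹)⁻¹
            = x * (g * (x⁻¹ * (g⁻¹ * d * g) * x) * g⁻¹) * x⁻¹ := by group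
          _ = d := by
            rw [hxid _ hgd', show g * (g⁻¹ * d * g) * g⁻¹ = d by group, hxd d hd]
      symm
      rw [← mul_inv_eq_iff_eq_mul]
      calc _ = (x * g * x⁻¹ * g⁻¹ * c * (x * g * x⁻¹ * g⁻¹)⁻¹) *
            (x * g * x⁻¹ * g⁻¹ * d * (x * g * x⁻¹ * g⁻¹)⁻¹) := by group
        _ = c * d := by rw [h1, h2]
    refine S.le_of_mem hxW (S.eq.ge (commutator_mem_commutator (mem_zpowers x) (hWM hw))) ?_ hwx
    rw [commutatorElement_def]
    exact mul_mem ((mem_normalizer_iff.1 hxW w).1 hw) (inv_mem hw)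
  refine ⟨B, W, inf_le_right, hgB, hBW, hUW, hWM, ?_, hcardp⟩
  -- the order of `W`
  have hmod := card_modEq hBP (fun b hb => (hBW hb).1)
  have hbot : W ⊓ centralizer (B : Set G) = ⊥ := by
    rw [_root_.eq_bot_iff, ← hfix0]
    exact le_inf (le_inf (inf_le_left.trans hWM) inf_le_right) inf_le_left
  rw [hbot, card_bot] at hmod
  have : Fact (Nat.Prime 2) := ⟨Nat.prime_two⟩
  obtain ⟨a, ha⟩ := IsPGroup.iff_card.1 (S.isPGroup_of_le hWM)
  have ha4 : a ≤ 4 := (Nat.pow_le_pow_iff_right (a := 2) (by norm_num)).1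
    (by rw [← ha]; exact (card_le_of_le hWW₀).trans hW₀16)
  have ha2 : 2 ≤ a := (Nat.pow_le_pow_iff_right (a := 2) (by norm_num)).1
    (by rw [← ha]; have := card_le_of_le hUW; rw [S.card] at this; simpa using this)
  have hdvd : p ∣ 2 ^ a - 1 := by
    rw [← ha]; exact (Nat.modEq_iff_dvd' Nat.card_pos).1 hmod.symm
  rw [ha]
  interval_cases a
  · exfalso; have := Nat.le_of_dvd (by norm_num) hdvd; omega
  · norm_num
  · -- the prime `5` would be centralised
    exfalso
    have hp5' : p = 5 := by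
      rcases (hpF.out.dvd_mul (m := 3) (n := 5)).1 hdvd with h | h
      · have := Nat.le_of_dvd (by norm_num) h; omega
      · exact (Nat.prime_dvd_prime_iff_eq hpF.out Nat.prime_five).1 h
    subst hp5'
    refine hncomm ?_
    have hmem : π x * π g * (π x)⁻¹ ∈ zpowers (π g) := by
      rw [hgen, ← map_inv, ← map_mul, ← map_mul]; exact mem_map_of_mem π hxgB
    obtain ⟨n, hn⟩ := mem_zpowers_iff.1 hmem
    have hc : ∀ i : ℤ, π x * π g ^ i * (π x)⁻¹ = π g ^ (n * i) := fun i => by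
      rw [← conj_zpow, ← hn, ← zpow_mul]
    have h1 : π g ^ (n * (n * n)) = π g := by
      calc π g ^ (n * (n * n)) = π x * (π x * (π x * π g * (π x)⁻¹) * (π x)⁻¹) * (π x)⁻¹ := by
            rw [← hn, hc, hc]
        _ = π x ^ 3 * π g * (π x ^ 3)⁻¹ := by rw [pow_succ, pow_two]; group
        _ = π g := by rw [hx3]; group
    rw [← hn]
    nth_rewrite 2 [← zpow_one (π g)]
    rw [zpow_eq_zpow_iff_modEq, hgo]
    nth_rewrite 2 [← zpow_one (π g)] at h1
    rw [zpow_eq_zpow_iff_modEq, hgo] at h1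
    show n % 5 = 1 % 5
    change n * (n * n) % 5 = 1 % 5 at h1
    rw [Int.mul_emod, Int.mul_emod n n] at h1
    rcases (show n % 5 = 0 ∨ n % 5 = 1 ∨ n % 5 = 2 ∨ n % 5 = 3 ∨ n % 5 = 4 by omega) with
      h | h | h | h | h <;> simp [h] at h1 ⊢

/-- The conclusion for `p ≥ 5`. -/
theorem Setup.five [hpF : Fact p.Prime] (hp5 : 5 ≤ p) {P : Subgroup G} (hP : IsPGroup p P)
    (hxP : x ∈ normalizer (P : Set G)) : (centralizer (U : Set G)).relIndex P ≤ p := by
  set π := QuotientGroup.mk' (centralizer (M : Set G)) with hπ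
  obtain ⟨L, hLp, hL⟩ : ∃ L : Subgroup (G ⧸ centralizer (M : Set G)),
      Nat.card L ≤ p ∧ ∀ f ∈ P, π ⁅f, x⁆ ∈ L := by
    by_cases hall : ∀ f ∈ P, ⁅f, x⁆ ∈ centralizer (M : Set G)
    · refine ⟨⊥, by rw [card_bot]; omega, fun f hf => ?_⟩
      exact mem_bot.2 ((QuotientGroup.eq_one_iff _).2 (hall f hf))
    push Not at hall
    obtain ⟨f₀, hf₀, hg₀⟩ := hall
    obtain ⟨B₀, W₀, hB₀P, -, hB₀S, hU₀, hW₀M, hW₀8, hB₀p⟩ := S.block hp5 hP hxP hf₀ hg₀
    refine ⟨B₀.map π, hB₀p.le, fun f hf => ?_⟩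
    by_cases hg : ⁅f, x⁆ ∈ centralizer (M : Set G)
    · rw [show π ⁅f, x⁆ = 1 from (QuotientGroup.eq_one_iff _).2 hg]; exact one_mem _
    obtain ⟨B, W, hBP, hgB, hBS, hU, hWM, hW8, -⟩ := S.block hp5 hP hxP hf hg
    set V := W₀ ⊔ W with hV
    have hV16 : Nat.card V ≤ 16 := by
      obtain ⟨a, haW, haU⟩ : ∃ a ∈ W, a ∉ U := by
        refine SetLike.not_le_iff_exists.1 fun h => ?_
        have := card_le_of_le h
        rw [hW8, S.card] at this
        omega
      have hsq : a ^ 2 = 1 := by rw [pow_two]; exact S.sq a (hWM haW)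
      have hUn : ∀ K : Subgroup G, K ≤ M → a ∈ normalizer (K : Set G) := fun K hK =>
        centralizer_le_normalizer _ (mem_centralizer_iff.2 fun k hk => S.comm k (hK hk) a (hWM haW))
      have hWeq : U ⊔ zpowers a = W := by
        refine eq_of_le_of_card_ge (sup_le hU (zpowers_le.2 haW)) ?_
        rw [NoncyclicEight.card_sup_zpowers haU (hsq ▸ one_mem _) (hUn U S.le), S.card, hW8]
      have hVle : V ≤ W₀ ⊔ zpowers a := sup_le le_sup_left (by
        rw [← hWeq]; exact sup_le (hU₀.trans le_sup_left) le_sup_right)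
      refine (card_le_of_le hVle).trans ?_
      by_cases haW₀ : a ∈ W₀
      · rw [sup_eq_left.2 (zpowers_le.2 haW₀), hW₀8]; norm_num
      · rw [NoncyclicEight.card_sup_zpowers haW₀ (hsq ▸ one_mem _) (hUn W₀ hW₀M), hW₀8]
    have hVM : V ≤ M := sup_le hW₀M hWM
    have hDS : B₀ ⊔ B ≤ moveStab M V := sup_le
      (le_moveStab hVM ((commutator_le_of_moveStab hB₀S).trans le_sup_left))
      (le_moveStab hVM ((commutator_le_of_moveStab hBS).trans le_sup_right))
    have hle := S.card_map_le hp5 (hP.to_le (sup_le hB₀P hBP)) hVM hDS hV16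
    have heq : B₀.map π = (B₀ ⊔ B).map π :=
      eq_of_le_of_card_ge (map_mono le_sup_left) (by rw [hB₀p]; exact hle)
    rw [heq]
    exact mem_map_of_mem π (mem_sup_right hgB)
  -- the orbit of `U`
  set N := normalizer (U : Set G) with hN
  have hrel : N.relIndex P ≤ p := by
    refine le_trans ?_ hLp
    rw [relIndex, index_eq_card]
    refine Nat.card_le_card_of_injective (fun q => (⟨π ⁅(q.out : G), x⁆, hL _ q.out.2⟩ : L))
      fun q r h => ?_
    have h1 : π ⁅(q.out : G), x⁆ = π ⁅(r.out : G), x⁆ := congrArg Subtype.val h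
    rw [← q.out_eq', ← r.out_eq', QuotientGroup.eq, mem_subgroupOf, coe_mul, coe_inv]
    set a := (q.out : G)
    set b := (r.out : G)
    refine mem_normalizer_of_map_le (le_of_eq ?_)
    rw [S.eq, map_conj_moved]
    refine moved_congr ?_
    have h2 : π (a * x * a⁻¹) = π (b * x * b⁻¹) := by
      rw [show a * x * a⁻¹ = ⁅a, x⁆ * x by group, show b * x * b⁻¹ = ⁅b, x⁆ * x by group,
        map_mul, map_mul, h1]
    show π (a⁻¹ * b * x * (a⁻¹ * b)⁻¹) = π x
    rw [show a⁻¹ * b * x * (a⁻¹ * b)⁻¹ = a⁻¹ * (b * x * b⁻¹) * a by group, map_mul, map_mul, ← h2,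
      ← map_mul, ← map_mul]
    group
  -- the normaliser centralises
  have hNC : P ⊓ N ≤ centralizer (U : Set G) := by
    have hmod := card_modEq (hP.to_le (inf_le_left : P ⊓ N ≤ P)) (W := U) inf_le_right
    set F := U ⊓ centralizer ((P ⊓ N : Subgroup G) : Set G) with hF
    have hdvd : Nat.card F ∣ 4 := S.card ▸ card_dvd_of_le inf_le_left
    rw [S.card] at hmod
    have hF4 : Nat.card F = 4 := by
      have hle := Nat.le_of_dvd (by norm_num) hdvd
      have hpos := Nat.card_pos (α := F)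
      rcases (show Nat.card F = 1 ∨ Nat.card F = 2 ∨ Nat.card F = 3 ∨ Nat.card F = 4 by omega) with
        h | h | h | h
      · rw [h] at hmod
        have := Nat.le_of_dvd (by norm_num) ((Nat.modEq_iff_dvd' (by norm_num)).1 hmod.symm)
        omega
      · rw [h] at hmod
        have := Nat.le_of_dvd (by norm_num) ((Nat.modEq_iff_dvd' (by norm_num)).1 hmod.symm)
        omega
      · rw [h] at hdvd; norm_num at hdvd
      · exact h
    have hFU : F = U := eq_of_le_of_card_ge inf_le_left (by rw [hF4, S.card])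
    exact le_centralizer_iff.1 (hFU.ge.trans inf_le_right)
  calc (centralizer (U : Set G)).relIndex P ≤ (P ⊓ N).relIndex P :=
        relIndex_le_of_le_left hNC index_ne_zero_of_finite
    _ = N.relIndex P := inf_relIndex_left P N
    _ ≤ p := hrel

end


/-- A smaller elementary subgroup. -/
theorem conclusion {S : Type*} [Group S] [Finite S] {U F : Subgroup S} {r : ℕ} (hr : r.Prime)
    (hr2 : r ≠ 2) (hF : Cfsg.IsElementaryAbelian r F) (hF3 : r ^ 3 ≤ Nat.card F)
    (hrel : (Subgroup.centralizer (U : Set S)).relIndex F ≤ r) :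
    ∃ (r : ℕ) (F : Subgroup S), r.Prime ∧ r ≠ 2 ∧ Cfsg.IsElementaryAbelian r F ∧ Nat.card ↥F = r ^ 3 ∧
      ¬ IsCyclic ↥(F ⊓ Subgroup.centralizer (U : Set S)) := by
  have : Fact r.Prime := ⟨hr⟩
  obtain ⟨n, hn⟩ := ElemAbelian.exists_card_eq_pow hF
  have h3n : 3 ≤ n := (Nat.pow_le_pow_iff_right hr.one_lt).1 (hn ▸ hF3)
  obtain ⟨B, hB⟩ := Sylow.exists_subgroup_card_pow_prime r (G := F) (n := 3)
    (hn ▸ pow_dvd_pow r h3n)
  set F' := B.map F.subtype with hF'
  have hF'F : F' ≤ F := map_subtype_le _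
  have hF'e : Cfsg.IsElementaryAbelian r F' := ElemAbelian.mono hF hF'F
  have hF'c : Nat.card F' = r ^ 3 := by rw [hF', card_map_of_injective F.subtype_injective, hB]
  refine ⟨r, F', hr, hr2, hF'e, hF'c, ?_⟩
  refine OddUniq.not_isCyclic_of_card (ElemAbelian.mono hF'e inf_le_left) ?_
  have h1 : (Subgroup.centralizer (U : Set S)).relIndex F' ≤ r :=
    (relIndex_le_of_le_right hF'F index_ne_zero_of_finite).trans hrel
  have h2 := relIndex_mul_relIndex ⊥ (F' ⊓ Subgroup.centralizer (U : Set S)) F' bot_le inf_le_left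
  rw [relIndex_bot_left, relIndex_bot_left, inf_relIndex_left, hF'c] at h2
  by_contra hle
  push Not at hle
  have h4 : r ^ 3 ≤ r * r := h2 ▸ Nat.mul_le_mul hle h1
  have : r ^ 2 < r ^ 3 := Nat.pow_lt_pow_right hr.one_lt (by norm_num)
  rw [pow_two] at this
  omega

/-- Let S be a finite solvable group and M a normal elementary abelian 2-subgroup of S. Suppose S contains an elementary abelian subgroup of order p³ for some odd prime p, and a cyclic 3-subgroup Q such that the cubes of the elements of Q centralize M and the commutator subgroup [Q, M] has order 4 (a four-group inside M). Then S contains an elementary abelian subgroup F of order r³, for some odd prime r, whose centralizer of [Q, M] in F — the subgroup C_F([Q, M]) — is not cyclic. -/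
theorem result {S : Type*} [Group S] [Finite S]
    [Group.IsSolvable S] (M : Subgroup S) [M.Normal] (hM : Cfsg.IsElementaryAbelian 2 M)
    (p : ℕ) (hp : p.Prime) (hp2 : p ≠ 2) (E : Subgroup S) (hE : Cfsg.IsElementaryAbelian p E) (hE3 : Nat.card ↥E = p ^ 3)
    (Q : Subgroup S) (hQc : IsCyclic ↥Q) (hQ3 : IsPGroup 3 ↥Q)
    (hQ1 : ∀ x ∈ Q, x ^ 3 ∈ Subgroup.centralizer (M : Set S)) (hQM : Nat.card ↥⁅Q, M⁆ = 4) :
    ∃ (r : ℕ) (F : Subgroup S), r.Prime ∧ r ≠ 2 ∧ Cfsg.IsElementaryAbelian r F ∧ Nat.card ↥F = r ^ 3 ∧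
      ¬ IsCyclic ↥(F ⊓ Subgroup.centralizer ((⁅Q, M⁆ : Subgroup S) : Set S)) := by
  obtain ⟨⟨x, hxQ⟩, hgen⟩ := hQc.exists_generator
  have hQ : Q = zpowers x := le_antisymm
    (fun y hy => by
      obtain ⟨i, hi⟩ := mem_zpowers_iff.1 (hgen ⟨y, hy⟩)
      exact ⟨i, congrArg Subtype.val hi⟩)
    (zpowers_le.2 hxQ)
  have : Fact (Nat.Prime 2) := ⟨Nat.prime_two⟩
  have h3F : Fact (Nat.Prime 3) := ⟨Nat.prime_three⟩
  have hpF : Fact p.Prime := ⟨hp⟩
  set U := ⁅Q, M⁆ with hU
  have hUM : U ≤ M := commutator_le_right Q M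
  have hsq : ∀ a ∈ M, a * a = 1 := fun a ha => by rw [← pow_two]; exact hM.2 a ha
  have hQM : Q ≤ normalizer (M : Set S) := by rw [normalizer_eq_top]; exact le_top
  have hcop : (Nat.card Q).Coprime (Nat.card M) := by
    obtain ⟨a, ha⟩ := IsPGroup.iff_card.1 hQ3
    obtain ⟨b, hb⟩ := IsPGroup.iff_card.1 (ElemAbelian.isPGroup hM)
    rw [ha, hb]
    exact Nat.Coprime.pow a b (by norm_num)
  have hMc : IsMulCommutative M := hM.1
  have hfix := Coprime.inf_centralizer_inf_commutator_eq_bot hQM hcop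
  have hdec := Coprime.inf_centralizer_sup_commutator_eq hQM hcop
  rw [commutator_comm M Q, ← hU] at hfix hdec
  have hcx : ∀ v : S, x * v * x⁻¹ = v → v ∈ centralizer (Q : Set S) := fun v hv => by
    rw [hQ]
    refine mem_centralizer_iff.2 fun b hb => ?_
    obtain ⟨i, rfl⟩ := mem_zpowers_iff.1 hb
    exact ((show Commute x v from mul_inv_eq_iff_eq_mul.1 hv).zpow_left i).eq
  have SS : Setup M U x :=
    { le := hUM
      eq := by rw [hU, hQ]
      card := ‹Nat.card ↥U = 4›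
      norm := normalizer_commutator_ge_left Q M hxQ
      fpf := fun u hu hux => mem_bot.1 (hfix ▸ mem_inf.2 ⟨mem_inf.2 ⟨hUM hu, hcx u hux⟩, hu⟩)
      split := fun m hm => by
        have hm' : m ∈ ((U : Set S) * ((M ⊓ centralizer (Q : Set S) : Subgroup S) : Set S)) := by
          rw [← coe_mul_of_right_le_normalizer_left]
          · rw [sup_comm, hdec]; exact hm
          · intro c hc
            exact centralizer_le_normalizer _ (mem_centralizer_iff.2 fun u hu =>
              ElemAbelian.comm hM (hUM hu) hc.1)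
        obtain ⟨u, hu, c, hc, rfl⟩ := hm'
        exact ⟨u, hu, c, hc.1, mul_inv_eq_iff_eq_mul.2 (mem_centralizer_iff.1 hc.2 x hxQ), rfl⟩
      cube := hQ1 x hxQ
      comm := fun a ha b hb => ElemAbelian.comm hM ha hb
      sq := hsq }
  by_cases hrk : Cfsg.PRankLE 3 2 S
  swap
  · obtain ⟨T, hQT⟩ := hQ3.exists_le_sylow
    have hrT : ¬ Cfsg.PRankLE 3 2 (T : Subgroup S) := fun h => hrk (OddUniq.pRankLE_of_sylow T h)
    obtain ⟨A, hAn, hAe, hA3⟩ := SCN3.exists_normal_large (by norm_num) T.isPGroup' hrT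
    set F := A.map (T : Subgroup S).subtype with hF
    have hFT : F ≤ (T : Subgroup S) := map_subtype_le _
    have hTF : (T : Subgroup S) ≤ normalizer (F : Set S) := by
      refine le_trans (le_of_eq ?_) (Subgroup.le_normalizer_map (T : Subgroup S).subtype)
      rw [Subgroup.normalizer_eq_top, ← MonoidHom.range_eq_map, range_subtype]
    have hFe : Cfsg.IsElementaryAbelian 3 F := ElemAbelian.map hAe _
    refine conclusion Nat.prime_three (by norm_num) hFe ?_
      (SS.three T.isPGroup' (hQT hxQ) hFT hFe hTF).2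
    rw [hF, card_map_of_injective (T : Subgroup S).subtype_injective]
    obtain ⟨n, hn⟩ := ElemAbelian.exists_card_eq_pow hAe
    rw [hn] at hA3 ⊢
    exact Nat.pow_le_pow_right (by norm_num) ((Nat.pow_lt_pow_iff_right (by norm_num)).1 hA3)
  have hp3 : p ≠ 3 := by
    rintro rfl
    have := hrk E hE.1 hE.2
    rw [hE3] at this
    norm_num at this
  have hp5 : 5 ≤ p := by
    by_contra h
    have := hp.two_le
    interval_cases p <;> first | exact hp2 rfl | exact hp3 rfl | norm_num at hp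
  -- a Hall `{3, p}`-subgroup
  set π : Set ℕ := {q | q = 3 ∨ q = p} with hπ
  have hQπ : Hall.IsPiNumber π (Nat.card Q) := by
    obtain ⟨a, ha⟩ := IsPGroup.iff_card.1 hQ3
    rw [ha]
    exact Hall.isPiNumber_pow_prime Nat.prime_three (.inl rfl) a
  obtain ⟨H, hH, hQH⟩ := Hall.exists_isPiHall_ge hQπ
  have hπH : ∀ q, q.Prime → q ∣ Nat.card H → q = 3 ∨ q = p := hH.1
  have hidx := ThreeRankTwo.not_dvd_index_pCore (H := H) hp5 hπH
    (OddUniq.pRankLE_of_injective (f := H.subtype) H.subtype_injective hrk)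
  set P := (Cfsg.pCore p H).map H.subtype with hP
  have hPp : IsPGroup p P := (PSolvable.pCore_isPGroup).map _
  have hPi : ¬ p ∣ P.index := by
    rw [hP, index_map_subtype]
    exact hp.not_dvd_mul hidx (hH.2 p hp (.inr rfl))
  have hxP : x ∈ normalizer (P : Set S) := by
    haveI : (Cfsg.pCore p H).Normal := Subgroup.sSup_normal _ (fun _ h => h.1)
    have h : H ≤ normalizer (P : Set S) := by
      refine le_trans (le_of_eq ?_) (Subgroup.le_normalizer_map H.subtype)
      rw [Subgroup.normalizer_eq_top, ← MonoidHom.range_eq_map, range_subtype]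
    exact h (hQH hxQ)
  obtain ⟨P₁, hEP⟩ := (ElemAbelian.isPGroup hE).exists_le_sylow
  obtain ⟨g, hg⟩ := MulAction.exists_smul_eq S P₁ (hPp.toSylow hPi)
  set F := E.map (MulAut.conj g).toMonoidHom with hF
  have hFP : F ≤ P := by
    rintro _ ⟨e, he, rfl⟩
    have h : (MulAut.conj g) e ∈ ((g • P₁ : Sylow p S) : Subgroup S) := by
      rw [Sylow.coe_subgroup_smul, Subgroup.mem_smul_pointwise_iff_exists]
      exact ⟨e, hEP he, rfl⟩
    rw [hg] at h
    exact h
  have hrel := SS.five hp5 hPp hxP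
  refine conclusion hp hp2 (ElemAbelian.map hE _) ?_
    ((relIndex_le_of_le_right hFP index_ne_zero_of_finite).trans hrel)
  rw [card_map_of_injective (MulAut.conj g).injective, hE3]

end Cfsg.Agent.S4404
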