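import Cfsg.Statements.S4405
import Mathlib
import Cfsg.Agent.Lib.PSolvable.Core
import Cfsg.Agent.Lib.Core.Fitting
import Cfsg.Agent.Lib.PGroup.Extraspecial

set_option maxHeartbeats 400000
open scoped commutatorElement
-- import your own Cfsg.Agent.* helpers here

set_option autoImplicit false
open Cfsg

namespace Cfsg.Agent.S4405

/-- Let G be a finite group of order 320 = 64·5 whose largest normal 2-subgroup H = O₂(G) equals the Fitting subgroup F(G) and is extraspecial of order 32 containing no elementary abelian subgroup of order 8 (so H is the central product of a quaternion group and a dihedral group of order 8). If T is an involution of G outside H whose centralizer in H contains an elementary abelian subgroup of order 4, then C_H(T) itself is elementary abelian of order 4. -/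
theorem result {G : Type*} [Group G] [Finite G]
    (hG : Nat.card G = 320) (hHF : Cfsg.pCore 2 G = Cfsg.fittingSubgroup G)
    (hex : Cfsg.IsExtraspecial 2 ↥(Cfsg.pCore 2 G)) (h32 : Nat.card ↥(Cfsg.pCore 2 G) = 32)
    (hminus : ∀ A : Subgroup G, A ≤ Cfsg.pCore 2 G → Cfsg.IsElementaryAbelian 2 A → Nat.card ↥A ≤ 4)
    (T : G) (hT : orderOf T = 2) (hTH : T ∉ Cfsg.pCore 2 G)
    (V : Subgroup G) (hV : V ≤ Cfsg.pCore 2 G ⊓ Subgroup.centralizer ({T} : Set G)) (hV4 : Nat.card ↥V = 4) (hVe : Cfsg.IsElementaryAbelian 2 V) :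
    Nat.card ↥(Cfsg.pCore 2 G ⊓ Subgroup.centralizer ({T} : Set G)) = 4 ∧
      Cfsg.IsElementaryAbelian 2 (Cfsg.pCore 2 G ⊓ Subgroup.centralizer ({T} : Set G)) := by
  classical
  haveI : Fact (Nat.Prime 2) := ⟨Nat.prime_two⟩
  haveI : Fact (Nat.Prime 5) := ⟨by norm_num⟩
  set H : Subgroup G := Cfsg.pCore 2 G with hH
  haveI hHn : H.Normal := by
    refine ⟨fun x hx g => ?_⟩
    have hle : H ≤ H.comap (MulAut.conj g).toMonoidHom := by
      rw [hH]
      refine sSup_le fun N hN => ?_
      intro y hy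
      rw [Subgroup.mem_comap]
      exact Subgroup.mem_sSup_of_mem hN (hN.1.conj_mem y hy g)
    exact hle hx
  have hH2 : IsPGroup 2 H := Cfsg.Agent.Lib.PSolvable.pCore_isPGroup
  set Z : Subgroup G := (Subgroup.center H).map H.subtype with hZ
  haveI hZn : Z.Normal := by rw [hZ]; infer_instance
  have hZcard : Nat.card Z = 2 := by
    rw [hZ, Subgroup.card_map_of_injective H.subtype_injective]; exact hex.2
  have hZH : Z ≤ H := Subgroup.map_subtype_le _
  obtain ⟨z, hz, hz1⟩ := Z.bot_or_exists_ne_one.resolve_left (fun h => by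
    rw [h, Subgroup.card_bot] at hZcard; omega)
  have hzmem : ∀ w ∈ Z, w = 1 ∨ w = z := by
    intro w hw
    obtain ⟨p, q, -, hpq⟩ := Nat.card_eq_two_iff.mp hZcard
    have hall : ∀ a : Z, a = p ∨ a = q := fun a => by simpa using hpq.ge (Set.mem_univ a)
    rcases hall ⟨z, hz⟩ with a | a <;> rcases hall ⟨1, Z.one_mem⟩ with b | b <;>
      rcases hall ⟨w, hw⟩ with c | c
    all_goals first
      | exact Or.inl (congrArg Subtype.val (c.trans b.symm))
      | exact Or.inr (congrArg Subtype.val (c.trans a.symm))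
      | exact absurd (congrArg Subtype.val (a.trans b.symm)) hz1
  have hz2 : z * z = 1 := by
    rcases hzmem _ (Z.mul_mem hz hz) with h | h
    · exact h
    · exact absurd (mul_eq_left.mp h) hz1
  have hzc : ∀ x : G, x * z = z * x := by
    intro x
    rcases hzmem _ (hZn.conj_mem z hz x) with h | h
    · exact absurd (conj_eq_one_iff.mp h) hz1
    · exact mul_inv_eq_iff_eq_mul.mp h
  have hZc : ∀ w ∈ Z, ∀ x : G, x * w = w * x := by
    intro w hw x
    rcases hzmem w hw with rfl | rfl
    · simp
    · exact hzc x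
  set q := QuotientGroup.mk' Z
  have hqZ : ∀ w, q w = 1 ↔ w ∈ Z := fun w => QuotientGroup.eq_one_iff w
  have hqcomm : ∀ a ∈ H, ∀ b ∈ H, Commute (q a) (q b) := by
    intro a ha b hb
    rw [← commutatorElement_eq_one_iff_commute, ← map_commutatorElement, hqZ]
    exact ⟨⁅(⟨a, ha⟩ : H), ⟨b, hb⟩⁆, Cfsg.Agent.Lib.Extraspecial.commutator_mem_center hex _ _, rfl⟩
  have hqsq : ∀ a ∈ H, q a * q a = 1 := by
    intro a ha
    rw [← map_mul, hqZ]
    exact ⟨(⟨a, ha⟩ : H) ^ 2, Cfsg.Agent.Lib.Extraspecial.pow_mem_center hex _, by simp [sq]⟩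
  -- the element of order five
  obtain ⟨g, hg5⟩ := exists_prime_orderOf_dvd_card' (G := G) 5 (by rw [hG]; norm_num)
  have hgH : ∀ k : ℕ, g ^ k ∈ H → g ^ k = 1 := by
    intro k hk
    have h1 : orderOf (g ^ k) ∣ 32 := h32 ▸ Subgroup.orderOf_dvd_natCard H hk
    have h2 : orderOf (g ^ k) ∣ 5 := hg5 ▸ orderOf_pow_dvd k
    exact orderOf_eq_one_iff.mp (Nat.dvd_one.mp (Nat.dvd_gcd h1 h2))
  set K := H ⊔ Subgroup.zpowers g with hK
  have hKcard : Nat.card K = 160 := by
    have h1 : Nat.card H ∣ Nat.card K := Subgroup.card_dvd_of_le le_sup_left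
    have h2 : 5 ∣ Nat.card K := by
      have := Subgroup.card_dvd_of_le (le_sup_right : Subgroup.zpowers g ≤ K)
      rwa [Nat.card_zpowers, hg5] at this
    rw [h32] at h1
    have h3 : Nat.card K ∣ 320 := hG ▸ K.card_subgroup_dvd_card
    have h4 : Nat.card K ≤ 160 := by
      have h5 : Nat.card H * H.relIndex K = Nat.card K :=
        Cfsg.Agent.Lib.PSolvable.card_mul_relIndex le_sup_left
      rw [hK, Subgroup.relIndex_sup_left] at h5
      have h6 : H.relIndex (Subgroup.zpowers g) ≤ 5 := by
        rw [← hg5, ← Nat.card_zpowers]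
        exact Nat.le_of_dvd Nat.card_pos (Subgroup.relIndex_dvd_card ..)
      rw [h32] at h5
      rw [hK, ← h5]
      omega
    have h5 : 160 ∣ Nat.card K := Nat.Coprime.mul_dvd_of_dvd_of_dvd (by norm_num : Nat.Coprime 32 5) h1 h2
    have := Nat.le_of_dvd Nat.card_pos h5
    omega
  haveI hKn : K.Normal := Subgroup.normal_of_index_eq_two (by
    have h := K.card_mul_index
    rw [hKcard, hG] at h
    omega)
  have hKdec : ∀ x ∈ K, ∃ h ∈ H, ∃ k : ℕ, x = h * g ^ k := by
    intro x hx
    rw [hK, ← SetLike.mem_coe, Subgroup.normal_mul H (Subgroup.zpowers g)] at hx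
    obtain ⟨a, ha, b, hb, rfl⟩ := hx
    obtain ⟨k, rfl⟩ := mem_powers_iff_mem_zpowers.mpr hb
    exact ⟨a, ha, k, rfl⟩
  have hT2 : T * T = 1 := by rw [← sq, ← hT, pow_orderOf_eq_one]
  have hTi : T⁻¹ = T := inv_eq_of_mul_eq_one_right hT2
  have hTK : T ∉ K := by
    intro hTK
    obtain ⟨h, hh, k, hk⟩ := hKdec T hTK
    have h1 : g ^ k * g ^ k ∈ H := by
      have : (h * g ^ k) * (h * g ^ k) = 1 := by rw [← hk, hT2]
      have h2 : g ^ k * g ^ k = (g ^ k * h * (g ^ k)⁻¹)⁻¹ * (h⁻¹ * 1) := by
        rw [← this]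
        calc g ^ k * g ^ k = g ^ k * g ^ k := rfl
          _ = _ := by group
      rw [h2]
      exact H.mul_mem (H.inv_mem (hHn.conj_mem h hh _)) (H.mul_mem (H.inv_mem hh) H.one_mem)
    rw [← pow_add] at h1
    have h2 := hgH _ h1
    rw [← orderOf_dvd_iff_pow_eq_one, hg5] at h2
    have h3 : g ^ k = 1 := orderOf_dvd_iff_pow_eq_one.mp (hg5.symm ▸ (by omega : 5 ∣ k))
    rw [h3, mul_one] at hk
    exact hTH (hk ▸ hh)
  set u := T * (g * T * g⁻¹) with hu
  have huK : u ∈ K := by
    have h1 : u = T * g * T⁻¹ * g⁻¹ := by rw [hu, hTi]; group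
    rw [h1]
    exact K.mul_mem (hKn.conj_mem g (Subgroup.mem_sup_right (Subgroup.mem_zpowers g)) T)
      (K.inv_mem (Subgroup.mem_sup_right (Subgroup.mem_zpowers g)))
  -- `u` is not in `H`
  have huH : u ∉ H := by
    intro huH
    set L := H ⊔ Subgroup.zpowers T with hL
    have hTL : T ∈ L := Subgroup.mem_sup_right (Subgroup.mem_zpowers T)
    have hgL : g * T * g⁻¹ ∈ L := by
      have : g * T * g⁻¹ = T * u := by rw [hu, ← mul_assoc T T, hT2, one_mul]
      rw [this]
      exact L.mul_mem hTL (Subgroup.mem_sup_left huH)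
    have htop : ∀ x : G, x ∈ H ⊔ Subgroup.zpowers g ⊔ Subgroup.zpowers T := by
      intro x
      have hKT : K < K ⊔ Subgroup.zpowers T := lt_of_le_of_ne le_sup_left fun h =>
        hTK (h ▸ Subgroup.mem_sup_right (Subgroup.mem_zpowers T))
      have hcard := Subgroup.card_dvd_of_le hKT.le
      have hdvd := (K ⊔ Subgroup.zpowers T).card_subgroup_dvd_card
      rw [hKcard] at hcard
      rw [hG] at hdvd
      have hne : Nat.card ↥(K ⊔ Subgroup.zpowers T) ≠ 160 := fun h =>
        hKT.ne (Subgroup.eq_of_le_of_card_ge hKT.le (by rw [hKcard, h]))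
      have : Nat.card ↥(K ⊔ Subgroup.zpowers T) = 320 := by
        obtain ⟨m, hm⟩ := hcard
        rw [hm] at hdvd hne ⊢
        have := Nat.le_of_dvd (by norm_num) hdvd
        rcases (show m = 0 ∨ m = 1 ∨ m = 2 by omega) with rfl | rfl | rfl <;> simp_all
      rw [Subgroup.eq_top_of_card_eq (K ⊔ Subgroup.zpowers T) (by rw [this, hG])]
      trivial
    haveI hLn : L.Normal := by
      rw [← Subgroup.normalizer_eq_top_iff, eq_top_iff]
      intro x _
      refine (?_ : H ⊔ Subgroup.zpowers g ⊔ Subgroup.zpowers T ≤ _) (htop x)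
      refine sup_le (sup_le (le_sup_left.trans Subgroup.le_normalizer) ?_) (le_sup_right.trans Subgroup.le_normalizer)
      rw [Subgroup.zpowers_le, Subgroup.mem_normalizer_iff_conj_image_eq]
      have hmap : L.map (MulAut.conj g).toMonoidHom ≤ L := by
        rw [Subgroup.map_le_iff_le_comap, hL]
        refine sup_le (fun y hy => Subgroup.mem_sup_left (hHn.conj_mem y hy g)) ?_
        rw [Subgroup.zpowers_le]
        exact hgL
      have heq := Subgroup.eq_of_le_of_card_ge hmap (le_of_eq
        (Subgroup.card_map_of_injective (MulAut.conj g).injective).symm)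
      have := congrArg (fun K : Subgroup G => (K : Set G)) heq
      rw [Subgroup.coe_map] at this
      exact this
    have hL2 : IsPGroup 2 L := hH2.to_sup_of_normal_left (IsPGroup.of_card (n := 1) (by
      rw [Nat.card_zpowers, hT, pow_one]))
    exact hTH (Cfsg.Agent.Lib.PSolvable.le_pCore hL2 hTL)
  let C : G → Subgroup G := fun x => H ⊓ (Subgroup.centralizer ({q x} : Set (G ⧸ Z))).comap q
  have hC : ∀ x h, h ∈ C x ↔ h ∈ H ∧ Commute (q h) (q x) := fun x h => by
    simp only [C, Subgroup.mem_inf, Subgroup.mem_comap, Subgroup.mem_centralizer_singleton_iff]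
    rfl
  -- `g` fixes only `Z` modulo `Z`
  have hCg : ∀ h ∈ C g, h ∈ Z := by
    have hfix : ∀ h ∈ C g, g * h * g⁻¹ = h := by
      intro h hh
      obtain ⟨hhH, hhc⟩ := (hC g h).mp hh
      have h1 : h⁻¹ * (g * h * g⁻¹) ∈ Z := by
        rw [← hqZ, map_mul, map_mul, map_mul, map_inv, map_inv, hhc.symm.eq]
        group
      rcases hzmem _ h1 with e | e
      · exact (inv_mul_eq_one.mp e).symm
      · exfalso
        have e' : g * h * g⁻¹ = h * z := by rw [← e, mul_inv_cancel_left]
        have hpow : ∀ i : ℕ, g ^ i * h * (g ^ i)⁻¹ = h * z ^ i := by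
          intro i
          induction i with
          | zero => simp
          | succ i ih =>
            calc g ^ (i + 1) * h * (g ^ (i + 1))⁻¹ = g * (g ^ i * h * (g ^ i)⁻¹) * g⁻¹ := by
                  rw [pow_succ']; group
              _ = g * h * g⁻¹ * (g * z ^ i * g⁻¹) := by rw [ih]; group
              _ = _ := by
                  rw [e', hZc _ (Z.pow_mem hz i) g, mul_inv_cancel_right, mul_assoc, ← pow_succ']
        have h5 := hpow 5
        rw [← hg5, pow_orderOf_eq_one, one_mul, inv_one, mul_one, left_eq_mul, hg5,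
          show z ^ 5 = z * z * (z * z) * z by simp [pow_succ, mul_assoc], hz2, one_mul, one_mul] at h5
        exact hz1 h5
    set P := Subgroup.zpowers g
    letI : MulAction P H := MulAction.compHom H ((MulAut.conjNormal (H := H)).comp P.subtype)
    have hP : IsPGroup 5 P := IsPGroup.of_card (n := 1) (by rw [Nat.card_zpowers, hg5, pow_one])
    have hmod := hP.card_modEq_card_fixedPoints H
    have hfixeq : ∀ h : H, h ∈ MulAction.fixedPoints P H ↔ (h : G) ∈ C g := by
      intro h
      constructor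
      · intro hh
        have := congrArg Subtype.val (hh ⟨g, Subgroup.mem_zpowers g⟩)
        change g * (h : G) * g⁻¹ = h at this
        refine (hC g h).mpr ⟨h.2, ?_⟩
        exact ((mul_inv_eq_iff_eq_mul.mp this).symm ▸ rfl : (h : G) * g = g * h) |> fun e => by
          show q h * q g = q g * q h
          rw [← map_mul, ← map_mul, e]
      · intro hh x
        have hle : P ≤ Subgroup.centralizer ({(h : G)} : Set G) := by
          rw [Subgroup.zpowers_le, Subgroup.mem_centralizer_singleton_iff]
          exact mul_inv_eq_iff_eq_mul.mp (hfix _ hh)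
        apply Subtype.ext
        show (x : G) * h * (x : G)⁻¹ = h
        rw [Subgroup.mem_centralizer_singleton_iff.mp (hle x.2), mul_inv_cancel_right]
    rw [Nat.card_congr (Equiv.subtypeEquivRight hfixeq), h32] at hmod
    have hsub : Nat.card {h : H // (h : G) ∈ C g} = Nat.card (C g) :=
      Nat.card_congr
        { toFun := fun h => ⟨h.1.1, h.2⟩
          invFun := fun h => ⟨⟨h.1, h.2.1⟩, h.2⟩
          left_inv := fun h => rfl
          right_inv := fun h => rfl }
    rw [hsub] at hmod
    have hZC : Z ≤ C g := fun w hw => (hC g w).mpr ⟨hZH hw, by rw [(hqZ w).mpr hw]; exact Commute.one_left _⟩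
    have hd1 := Subgroup.card_dvd_of_le hZC
    have hd2 := Subgroup.card_dvd_of_le (inf_le_left : C g ≤ H)
    rw [hZcard] at hd1
    rw [h32] at hd2
    obtain ⟨j, hj, hjc⟩ := (Nat.dvd_prime_pow Nat.prime_two).mp (show Nat.card (C g) ∣ 2 ^ 5 from hd2)
    rw [hjc] at hmod hd1
    interval_cases j
    · omega
    · intro h hh
      rw [Subgroup.eq_of_le_of_card_ge hZC (by rw [hZcard, hjc]; norm_num)]
      exact hh
    · exact absurd hmod (by decide)
    · exact absurd hmod (by decide)
    · exact absurd hmod (by decide)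
    · -- `g` centralises `H`
      exfalso
      have hCH : C g = H := Subgroup.eq_of_le_of_card_ge inf_le_left (by rw [h32, hjc]; norm_num)
      have hgc : ∀ h ∈ H, Commute g h := fun h hh => mul_inv_eq_iff_eq_mul.mp (hfix h (hCH.ge hh))
      have hkey : ∀ x : G, x * g * x⁻¹ ∈ Subgroup.zpowers g := by
        intro x
        obtain ⟨h, hh, k, hk⟩ := hKdec _ (hKn.conj_mem g (Subgroup.mem_sup_right (Subgroup.mem_zpowers g)) x)
        have h5 : (h * g ^ k) ^ 5 = 1 := by
          rw [← hk, conj_pow, ← hg5, pow_orderOf_eq_one, mul_one, mul_inv_cancel]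
        rw [((hgc h hh).pow_left k).symm.mul_pow, ← pow_mul, mul_comm k, pow_mul, ← hg5,
          pow_orderOf_eq_one, one_pow, mul_one, hg5] at h5
        have h6 : orderOf h ∣ 5 := orderOf_dvd_of_pow_eq_one h5
        have h7 : orderOf h ∣ 32 := h32 ▸ Subgroup.orderOf_dvd_natCard H hh
        have h8 : h = 1 := orderOf_eq_one_iff.mp (Nat.dvd_one.mp (Nat.dvd_gcd h7 h6))
        rw [hk, h8, one_mul]
        exact pow_mem (Subgroup.mem_zpowers g) k
      haveI : (Subgroup.zpowers g).Normal := ⟨fun y hy x => by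
        obtain ⟨i, rfl⟩ := Subgroup.mem_zpowers_iff.mp hy
        rw [← conj_zpow]
        exact zpow_mem (hkey x) i⟩
      have hle : Subgroup.zpowers g ≤ Cfsg.fittingSubgroup G :=
        Cfsg.Agent.Lib.Fitting.le_fittingSubgroup hP.isNilpotent
      rw [← hHF] at hle
      have := hgH 1 (by simpa using hle (Subgroup.mem_zpowers g))
      rw [pow_one] at this
      rw [this, orderOf_one] at hg5
      omega
  -- hence also `u`
  have hCu : C u ≤ Z := by
    intro h hh
    obtain ⟨hhH, hhc⟩ := (hC u h).mp hh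
    obtain ⟨a, ha, k, hk⟩ := hKdec u huK
    have hk1 : ¬ 5 ∣ k := fun hd => huH (by
      rw [hk, orderOf_dvd_iff_pow_eq_one.mp (hg5.symm ▸ hd), mul_one]
      exact ha)
    rw [hk, map_mul, map_pow] at hhc
    have h1 : Commute (q h) (q g ^ k) := by
      have := (hqcomm h hhH a ha).inv_right.mul_right hhc
      rwa [inv_mul_cancel_left] at this
    obtain ⟨m, -, hm⟩ := Nat.exists_mul_mod_eq_one_of_coprime
      (((Nat.Prime.coprime_iff_not_dvd (by norm_num)).mpr hk1).symm : k.Coprime 5) (by norm_num)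
    have h2 := h1.pow_right m
    rw [← pow_mul, ← map_pow, ← pow_mod_orderOf, hg5, hm, pow_one] at h2
    exact hCg h ((hC g h).mpr ⟨hhH, h2⟩)
  -- the centraliser of `T` modulo `Z` has order at most eight
  have hZC : ∀ x, Z ≤ C x := fun x w hw =>
    (hC x w).mpr ⟨hZH hw, by rw [(hqZ w).mpr hw]; exact Commute.one_left _⟩
  have hCT : Nat.card (C T) ≤ 8 := by
    by_contra hbig
    push Not at hbig
    obtain ⟨j, hj, hjc⟩ := (Nat.dvd_prime_pow Nat.prime_two).mp
      (show Nat.card (C T) ∣ 2 ^ 5 by rw [show (2 : ℕ) ^ 5 = 32 from rfl, ← h32]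
                                      exact Subgroup.card_dvd_of_le inf_le_left)
    have h16 : 16 ≤ Nat.card (C T) := by rw [hjc] at hbig ⊢; interval_cases j <;> omega
    set D := (C T).map (MulAut.conj g).toMonoidHom
    have hD : Nat.card D = Nat.card (C T) := Subgroup.card_map_of_injective (MulAut.conj g).injective
    have hDH : D ≤ H := by
      rintro _ ⟨y, hy, rfl⟩
      exact hHn.conj_mem y hy.1 g
    have hle : C T ⊓ D ≤ C u := by
      rintro y ⟨hy1, hy2⟩
      obtain ⟨w, hw, rfl⟩ := hy2
      obtain ⟨hy1H, hy1c⟩ := (hC T _).mp hy1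
      refine (hC u _).mpr ⟨hy1H, ?_⟩
      have h2 : Commute (q (g * w * g⁻¹)) (q (g * T * g⁻¹)) := by
        have := ((hC T w).mp hw).2
        simp only [map_mul, map_inv]
        exact (Commute.conj_iff (q g)).mpr this
      rw [hu, map_mul]
      exact hy1c.mul_right h2
    have hrel : ∀ A : Subgroup G, A ≤ H → 16 ≤ Nat.card A → A.relIndex H ≤ 2 := by
      intro A hA h
      have h1 : Nat.card A * A.relIndex H = Nat.card H := Cfsg.Agent.Lib.PSolvable.card_mul_relIndex hA
      rw [h32] at h1
      nlinarith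
    have h1 : (C T ⊓ D).relIndex H ≤ 4 :=
      le_trans Subgroup.relIndex_inf_le
        (Nat.mul_le_mul (hrel _ inf_le_left h16) (hrel D hDH (hD ▸ h16)))
    have h2 : Nat.card ↥(C T ⊓ D) * (C T ⊓ D).relIndex H = Nat.card H :=
      Cfsg.Agent.Lib.PSolvable.card_mul_relIndex (inf_le_right.trans hDH)
    have h3 : Nat.card ↥(C T ⊓ D) ≤ 2 := hZcard ▸ Subgroup.card_le_of_le (hle.trans hCu)
    rw [h32] at h2
    nlinarith
  -- the centraliser itself
  set W := H ⊓ Subgroup.centralizer ({T} : Set G) with hW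
  have hWC : W ≤ C T := by
    intro w hw
    refine (hC T w).mpr ⟨hw.1, ?_⟩
    show q w * q T = q T * q w
    rw [← map_mul, ← map_mul, Subgroup.mem_centralizer_singleton_iff.mp hw.2]
  have hWV : V = W := by
    by_contra hne
    have hlt : 4 < Nat.card W := by
      rcases Nat.lt_or_ge 4 (Nat.card W) with h | h
      · exact h
      · exact absurd (Subgroup.eq_of_le_of_card_ge hV (hV4.symm ▸ h)) hne
    have hW8 : Nat.card W = 8 := by
      obtain ⟨j, hj, hjc⟩ := (Nat.dvd_prime_pow Nat.prime_two).mp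
        (show Nat.card W ∣ 2 ^ 5 by rw [show (2 : ℕ) ^ 5 = 32 from rfl, ← h32]
                                    exact Subgroup.card_dvd_of_le inf_le_left)
      have := le_trans (Subgroup.card_le_of_le hWC) hCT
      rw [hjc] at hlt this ⊢
      interval_cases j <;> omega
    have hCW : C T = W := (Subgroup.eq_of_le_of_card_ge hWC (hW8 ▸ hCT)).symm
    have hfH : ∀ h : H, (h : G) * T * (h : G)⁻¹ * T ∈ H := fun h => by
      have := H.mul_mem h.2 (hHn.conj_mem _ (H.inv_mem h.2) T)
      rw [hTi] at this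
      simpa [mul_assoc] using this
    let φ : H →* G ⧸ Z :=
      { toFun := fun h => q ((h : G) * T * (h : G)⁻¹ * T)
        map_one' := by simp [hT2]
        map_mul' := fun a b => by
          have e : ((a * b : H) : G) * T * ((a * b : H) : G)⁻¹ * T =
              (a : G) * ((b : G) * T * (b : G)⁻¹ * T) * (a : G)⁻¹ * ((a : G) * T⁻¹ * (a : G)⁻¹ * T) := by
            rw [Subgroup.coe_mul]
            simp [mul_assoc]
          rw [hTi] at e
          rw [e, map_mul q (_ * _ * _), map_mul q (_ * _), map_mul q (a : G), map_inv,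
            (hqcomm a a.2 _ (hfH b)).eq, mul_inv_cancel_right]
          exact (hqcomm _ (hfH b) _ (hfH a)).eq }
    have hfC : ∀ h : H, (h : G) * T * (h : G)⁻¹ * T ∈ W := by
      intro h
      rw [← hCW]
      refine (hC T _).mpr ⟨hfH h, ?_⟩
      set f := (h : G) * T * (h : G)⁻¹ * T with hf
      have h1 : T * f * T = f⁻¹ := by
        rw [hf, mul_inv_rev, mul_inv_rev, mul_inv_rev, inv_inv, hTi]
        simp only [mul_assoc]
        rw [hT2, mul_one]
      have h2 : q T * q f * q T = q f := by
        rw [← map_mul, ← map_mul, h1, map_inv]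
        exact inv_eq_of_mul_eq_one_right (hqsq f (hfH h))
      have hqT : q T * q T = 1 := by rw [← map_mul, hT2, map_one]
      show q f * q T = q T * q f
      calc q f * q T = q T * q f * q T * q T := by rw [h2]
        _ = q T * q f := by rw [mul_assoc (q T * q f), hqT, mul_one]
    have hker : φ.ker = (C T).subgroupOf H := by
      ext h
      rw [MonoidHom.mem_ker, Subgroup.mem_subgroupOf, hC]
      have hqT : (q T)⁻¹ = q T := by rw [← map_inv, hTi]
      show q ((h : G) * T * (h : G)⁻¹ * T) = 1 ↔ _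
      rw [map_mul, map_mul, map_mul, map_inv, mul_eq_one_iff_eq_inv, hqT, mul_inv_eq_iff_eq_mul]
      exact ⟨fun e => ⟨h.2, e⟩, fun e => e.2⟩
    have hrange : φ.range = W.map q := by
      refine Subgroup.eq_of_le_of_card_ge ?_ ?_
      · rintro _ ⟨h, rfl⟩
        exact ⟨_, hfC h, rfl⟩
      · have h1 := φ.ker.card_mul_index
        rw [Subgroup.index_ker, hker, Nat.card_congr (Subgroup.subgroupOfEquivOfLe (H := C T) (K := H) inf_le_left).toEquiv] at h1
        change Nat.card (C T) * _ = _ at h1
        rw [hCW, hW8, h32] at h1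
        have hk := (q.comp W.subtype).ker.card_mul_index
        rw [Subgroup.index_ker, MonoidHom.range_comp, Subgroup.range_subtype, hW8] at hk
        have hk2 : Nat.card (q.comp W.subtype).ker = 2 := by
          have : (q.comp W.subtype).ker = Z.subgroupOf W := by
            ext w; simp [Subgroup.mem_subgroupOf, q]
          rw [this, Nat.card_congr (Subgroup.subgroupOfEquivOfLe (hCW ▸ hZC T)).toEquiv, hZcard]
        rw [hk2] at hk
        omega
    have hexp : ∀ w ∈ W, w ^ 2 = 1 := by
      intro w hw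
      obtain ⟨h, hh⟩ : q w ∈ φ.range := hrange ▸ ⟨w, hw, rfl⟩
      set f := (h : G) * T * (h : G)⁻¹ * T with hf
      change q f = q w at hh
      have hf2 : f * f = 1 := by
        have h1 : T * f * T = f⁻¹ := by
          rw [hf, mul_inv_rev, mul_inv_rev, mul_inv_rev, inv_inv, hTi]
          simp only [mul_assoc]
          rw [hT2, mul_one]
        rw [← Subgroup.mem_centralizer_singleton_iff.mp (hfC h).2, mul_assoc, hT2, mul_one] at h1
        rw [eq_inv_iff_mul_eq_one] at h1
        exact h1
      have hζ : f⁻¹ * w ∈ Z := QuotientGroup.eq.mp hh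
      have hw' : w = f * (f⁻¹ * w) := (mul_inv_cancel_left f w).symm
      have hz' : (f⁻¹ * w) * (f⁻¹ * w) = 1 := by
        rcases hzmem _ hζ with e | e <;> rw [e]
        · exact one_mul 1
        · exact hz2
      rw [hw', Commute.mul_pow (hZc _ hζ f), sq, sq, hf2, hz', one_mul]
    have hWe : Cfsg.IsElementaryAbelian 2 W := by
      refine ⟨⟨⟨fun a b => Subtype.ext ?_⟩⟩, hexp⟩
      show (a : G) * b = b * a
      have hinv : ∀ w ∈ W, w⁻¹ = w := fun w hw => inv_eq_of_mul_eq_one_right (by rw [← sq]; exact hexp w hw)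
      rw [← hinv _ (W.mul_mem a.2 b.2), mul_inv_rev, hinv _ a.2, hinv _ b.2]
    have := hminus W inf_le_left hWe
    omega
  rw [← hWV]
  exact ⟨hV4, hVe⟩

end Cfsg.Agent.S4405
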