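import Cfsg.Statements.S4406
import Mathlib

set_option autoImplicit false
open Cfsg

namespace Cfsg.Agent.S4406

/-- The alternating group of degree four, as a type. -/
abbrev A4 : Type := ↥(alternatingGroup (Fin 4))

/-- `y` is one of `x, z, x * z`. -/
def memTriple (y x z : A4 × A4) : Bool := decide (y = x) || decide (y = z) || decide (y = x * z)

/-- The involutions of `A4`. -/
def invs : Finset A4 := Finset.univ.filter fun x => x * x = 1 ∧ x ≠ 1

/-- The elements of order three of `A4`. -/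
def threes : Finset A4 := Finset.univ.filter fun x => x * x * x = 1 ∧ x ≠ 1

/-- Conjugation by `(t1, t2)` fixes the four-group generated by `(a1, a2)` and `(b1, b2)`. -/
def conjOK (a1 a2 b1 b2 t1 t2 : A4) : Bool :=
  memTriple (t1 * a1 * t1⁻¹, t2 * a2 * t2⁻¹) (a1, a2) (b1, b2) &&
    memTriple (t1 * b1 * t1⁻¹, t2 * b2 * t2⁻¹) (a1, a2) (b1, b2)

theorem key : ∀ a1 ∈ invs, ∀ a2 ∈ invs, ∀ b1 ∈ invs, ∀ b2 ∈ invs, ∀ t1 ∈ threes, ∀ t2 ∈ threes,
    b1 = a1 ∨ b2 = a2 ∨ conjOK a1 a2 b1 b2 t1 t2 = true ∨ conjOK a1 a2 b1 b2 t1 t2⁻¹ = true := by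
  decide +kernel

theorem four_eq_one : ∀ x : A4, x * x * (x * x) = 1 → x * x = 1 := by decide +kernel

theorem nine_eq_one : ∀ x : A4, x ^ 9 = 1 → x * x * x = 1 := by decide +kernel

/-- In the direct product P = A₄ × A₄, let X be the Sylow 2-subgroup, X₁ and X₂ its intersections with the two direct factors, Q a Sylow 3-subgroup and Q₁, Q₂ its intersections with the two factors. Then every subgroup B of X of order 4 either meets X₁ or X₂ nontrivially, or is normalized by one of the two subgroups of Q of order 3 other than Q₁ and Q₂. -/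
theorem result
    (X : Sylow 2 (↥(alternatingGroup (Fin 4)) × ↥(alternatingGroup (Fin 4))))
    (Q : Sylow 3 (↥(alternatingGroup (Fin 4)) × ↥(alternatingGroup (Fin 4))))
    (B : Subgroup (↥(alternatingGroup (Fin 4)) × ↥(alternatingGroup (Fin 4)))) (hBX : B ≤ (X : Subgroup _)) (hB4 : Nat.card ↥B = 4) :
    B ⊓ ((X : Subgroup _) ⊓ Subgroup.prod ⊤ ⊥) ≠ ⊥ ∨ B ⊓ ((X : Subgroup _) ⊓ Subgroup.prod ⊥ ⊤) ≠ ⊥ ∨
      ∃ R : Subgroup (↥(alternatingGroup (Fin 4)) × ↥(alternatingGroup (Fin 4))), R ≤ (Q : Subgroup _) ∧ Nat.card ↥R = 3 ∧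
        R ≠ (Q : Subgroup _) ⊓ Subgroup.prod ⊤ ⊥ ∧ R ≠ (Q : Subgroup _) ⊓ Subgroup.prod ⊥ ⊤ ∧ R ≤ Subgroup.normalizer (B : Set _) := by
  classical
  by_cases h1 : B ⊓ ((X : Subgroup _) ⊓ Subgroup.prod ⊤ ⊥) = ⊥
  swap
  · exact Or.inl h1
  by_cases h2 : B ⊓ ((X : Subgroup _) ⊓ Subgroup.prod ⊥ ⊤) = ⊥
  swap
  · exact Or.inr (Or.inl h2)
  refine Or.inr (Or.inr ?_)
  haveI := Fact.mk Nat.prime_two
  haveI := Fact.mk Nat.prime_three
  -- elements of `B`
  have hinj1 : ∀ b ∈ B, b.2 = 1 → b = 1 := fun b hb hb2 => by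
    have : b ∈ B ⊓ ((X : Subgroup _) ⊓ Subgroup.prod ⊤ ⊥) :=
      ⟨hb, hBX hb, Subgroup.mem_prod.mpr ⟨Subgroup.mem_top _, Subgroup.mem_bot.mpr hb2⟩⟩
    rwa [h1, Subgroup.mem_bot] at this
  have hinj2 : ∀ b ∈ B, b.1 = 1 → b = 1 := fun b hb hb2 => by
    have : b ∈ B ⊓ ((X : Subgroup _) ⊓ Subgroup.prod ⊥ ⊤) :=
      ⟨hb, hBX hb, Subgroup.mem_prod.mpr ⟨Subgroup.mem_bot.mpr hb2, Subgroup.mem_top _⟩⟩
    rwa [h2, Subgroup.mem_bot] at this
  have hexp : ∀ b ∈ B, b * b = 1 := by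
    intro b hb
    have h4 := pow_card_eq_one' (x := (⟨b, hb⟩ : B))
    rw [hB4] at h4
    have h4' : b * b * (b * b) = 1 := by
      have := congrArg Subtype.val h4
      simpa [pow_succ, mul_assoc] using this
    exact Prod.ext (four_eq_one _ (congrArg Prod.fst h4')) (four_eq_one _ (congrArg Prod.snd h4'))
  obtain ⟨a, ha, ha1⟩ : ∃ a ∈ B, a ≠ 1 := by
    by_contra h
    push Not at h
    rw [(Subgroup.eq_bot_iff_forall B).mpr h, Subgroup.card_bot] at hB4
    omega
  obtain ⟨b, hb, hb1, hba⟩ : ∃ b ∈ B, b ≠ 1 ∧ b ≠ a := by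
    by_contra h
    push Not at h
    have : Nat.card B ≤ 2 := by
      refine (Nat.card_le_card_of_surjective (fun i : Fin 2 => if i = 0 then (1 : B) else ⟨a, ha⟩)
        (fun x => ?_)).trans (by simp)
      by_cases hx : (x : A4 × A4) = 1
      · exact ⟨0, (if_pos rfl).trans (Subtype.ext hx.symm)⟩
      · exact ⟨1, (if_neg (by decide)).trans (Subtype.ext (h x x.2 hx).symm)⟩
    omega
  have hab : a * b ≠ 1 := by
    intro h
    exact hba ((inv_eq_of_mul_eq_one_right h).symm.trans (inv_eq_of_mul_eq_one_right (hexp a ha)))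
  have haeq : a⁻¹ = a := inv_eq_of_mul_eq_one_right (hexp a ha)
  have hbeq : b⁻¹ = b := inv_eq_of_mul_eq_one_right (hexp b hb)
  have hne2 : b.2 ≠ a.2 := by
    intro h
    have := hinj1 (a⁻¹ * b) (B.mul_mem (B.inv_mem ha) hb) (by simp [h])
    exact hba (inv_mul_eq_one.mp this).symm
  have hne1 : b.1 ≠ a.1 := by
    intro h
    have := hinj2 (a⁻¹ * b) (B.mul_mem (B.inv_mem ha) hb) (by simp [h])
    exact hba (inv_mul_eq_one.mp this).symm
  -- elements of `Q`
  have hcardG : Nat.card (A4 × A4) = 144 := by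
    rw [Nat.card_prod, Nat.card_eq_fintype_card]; decide +kernel
  have hQcard : Nat.card ↥(Q : Subgroup (A4 × A4)) = 9 := by
    rw [Q.card_eq_multiplicity, hcardG]
    have h9 : (144 : ℕ).factorization 3 = 2 := by
      rw [show (144 : ℕ) = 3 ^ 2 * 16 by norm_num,
        Nat.factorization_mul (by norm_num) (by norm_num), Finsupp.add_apply,
        Nat.prime_three.factorization_pow, Finsupp.single_eq_same,
        Nat.factorization_eq_zero_of_not_dvd (by norm_num)]
    rw [h9]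
    norm_num
  set Q1 := (Q : Subgroup (A4 × A4)).map (MonoidHom.fst A4 A4)
  set Q2 := (Q : Subgroup (A4 × A4)).map (MonoidHom.snd A4 A4)
  have hle : (Q : Subgroup (A4 × A4)) ≤ Q1.prod Q2 := fun x hx =>
    Subgroup.mem_prod.mpr ⟨⟨x, hx, rfl⟩, ⟨x, hx, rfl⟩⟩
  have hcardA : Nat.card A4 = 12 := by rw [Nat.card_eq_fintype_card]; decide +kernel
  have h3 : ∀ (R : Subgroup A4), IsPGroup 3 R → Nat.card R ≤ 3 := by
    intro R hR
    obtain ⟨k, hk⟩ := IsPGroup.iff_card.mp hR
    have hd := hcardA ▸ R.card_subgroup_dvd_card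
    rw [hk] at hd ⊢
    rcases Nat.lt_or_ge k 2 with h | h
    · interval_cases k <;> norm_num
    · have h9 : 9 ∣ 12 := (pow_dvd_pow 3 h).trans hd
      norm_num at h9
  have hQ1 : Nat.card Q1 ≤ 3 := h3 _ (Q.2.map _)
  have hQ2 : Nat.card Q2 ≤ 3 := h3 _ (Q.2.map _)
  have hprodcard : Nat.card ↥(Q1.prod Q2) = Nat.card Q1 * Nat.card Q2 := by
    rw [Nat.card_congr (Subgroup.prodEquiv Q1 Q2).toEquiv, Nat.card_prod]
  have hle9 := Subgroup.card_le_of_le hle
  rw [hQcard, hprodcard] at hle9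
  have hQ13 : Nat.card Q1 = 3 := by nlinarith
  have hQ23 : Nat.card Q2 = 3 := by nlinarith
  have hQeq : (Q : Subgroup (A4 × A4)) = Q1.prod Q2 :=
    Subgroup.eq_of_le_of_card_ge hle (by rw [hQcard, hprodcard, hQ13, hQ23])
  have hgen : ∀ (R : Subgroup A4), Nat.card R = 3 → ∃ t ∈ R, t ≠ 1 ∧ t * t * t = 1 := by
    intro R hR
    obtain ⟨t, ht⟩ := exists_prime_orderOf_dvd_card' (G := R) 3 (by rw [hR])
    refine ⟨t, t.2, fun h => ?_, nine_eq_one _ ?_⟩
    · rw [show t = 1 from Subtype.ext h, orderOf_one] at ht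
      omega
    have h2 : (t : A4) ^ 3 = 1 := by
      rw [← SubgroupClass.coe_pow, ← ht, pow_orderOf_eq_one, OneMemClass.coe_one]
    rw [show (9 : ℕ) = 3 * 3 from rfl, pow_mul, h2, one_pow]
  obtain ⟨t1, ht1, ht1n, ht1o⟩ := hgen Q1 hQ13
  obtain ⟨t2, ht2, ht2n, ht2o⟩ := hgen Q2 hQ23
  have fin : ∀ s : A4, s ∈ Q2 → s ≠ 1 → s * s * s = 1 →
      memTriple (t1 * a.1 * t1⁻¹, s * a.2 * s⁻¹) a b = true →
      memTriple (t1 * b.1 * t1⁻¹, s * b.2 * s⁻¹) a b = true →
      ∃ R : Subgroup (A4 × A4), R ≤ (Q : Subgroup _) ∧ Nat.card ↥R = 3 ∧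
        R ≠ (Q : Subgroup _) ⊓ Subgroup.prod ⊤ ⊥ ∧ R ≠ (Q : Subgroup _) ⊓ Subgroup.prod ⊥ ⊤ ∧
        R ≤ Subgroup.normalizer (B : Set _) := by
    intro s hs hs1 hso hta htb
    have hord : orderOf ((t1, s) : A4 × A4) = 3 :=
      orderOf_eq_prime (Prod.ext (by simpa [pow_succ] using ht1o) (by simpa [pow_succ] using hso))
        (fun h => ht1n (congrArg Prod.fst h))
    refine ⟨Subgroup.zpowers (t1, s), ?_, by rw [Nat.card_zpowers, hord], ?_, ?_, ?_⟩
    · rw [Subgroup.zpowers_le, hQeq]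
      exact Subgroup.mem_prod.mpr ⟨ht1, hs⟩
    · intro h
      have hm := Subgroup.mem_zpowers ((t1, s) : A4 × A4)
      rw [h] at hm
      have := hm.2
      exact hs1 (Subgroup.mem_bot.mp (Subgroup.mem_prod.mp this).2)
    · intro h
      have hm := Subgroup.mem_zpowers ((t1, s) : A4 × A4)
      rw [h] at hm
      have := hm.2
      exact ht1n (Subgroup.mem_bot.mp (Subgroup.mem_prod.mp this).1)
    · rw [Subgroup.zpowers_le]
      have hmem : ∀ y, memTriple y a b = true → y ∈ B := by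
        intro y hy
        simp only [memTriple, Bool.or_eq_true, decide_eq_true_eq] at hy
        rcases hy with (rfl | rfl) | rfl
        exacts [ha, hb, B.mul_mem ha hb]
      have hclos : B ≤ Subgroup.closure {a, b} := by
        refine le_of_eq (Subgroup.eq_of_le_of_card_ge
          (Subgroup.closure_le B |>.mpr (by
            rintro y (rfl | rfl)
            exacts [ha, hb])) ?_).symm
        rw [hB4]
        have hfour : ({1, a, b, a * b} : Finset (A4 × A4)).card = 4 := by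
          have h12 : (1 : A4 × A4) ≠ a := fun h => ha1 h.symm
          have h13 : (1 : A4 × A4) ≠ b := fun h => hb1 h.symm
          have h14 : (1 : A4 × A4) ≠ a * b := fun h => hab h.symm
          have h24 : a ≠ a * b := fun h => hb1 (mul_eq_left.mp h.symm)
          have h34 : b ≠ a * b := fun h => ha1 (mul_eq_right.mp h.symm)
          simp [h12, h13, h14, h24, h34, hba.symm]
        refine hfour.ge.trans ((Set.ncard_coe_finset _).ge.trans
          ((Set.ncard_le_ncard (fun y hy => ?_) (Set.toFinite _)).trans (Nat.card_coe_set_eq _).ge))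
        simp only [Finset.coe_insert, Finset.coe_singleton, Set.mem_insert_iff, Set.mem_singleton_iff] at hy
        rcases hy with rfl | rfl | rfl | rfl
        exacts [Subgroup.one_mem _, Subgroup.subset_closure (by simp),
          Subgroup.subset_closure (by simp),
          Subgroup.mul_mem _ (Subgroup.subset_closure (by simp)) (Subgroup.subset_closure (by simp))]
      have hmap : B.map (MulAut.conj ((t1, s) : A4 × A4)).toMonoidHom = B := by
        refine Subgroup.eq_of_le_of_card_ge ?_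
          (Subgroup.card_map_of_injective (MulEquiv.injective _)).ge
        refine (Subgroup.map_mono hclos).trans ?_
        rw [MonoidHom.map_closure, Subgroup.closure_le]
        rintro _ ⟨y, (rfl | rfl), rfl⟩
        exacts [hmem _ hta, hmem _ htb]
      rw [Subgroup.mem_normalizer_iff]
      intro n
      conv_rhs => rw [← hmap]
      rw [Subgroup.mem_map_equiv, MulAut.conj_symm_apply]
      rw [show ((t1, s) : A4 × A4)⁻¹ * ((t1, s) * n * (t1, s)⁻¹) * (t1, s) = n by group]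
  have hexp1 : ∀ v : A4 × A4, v * v = 1 → v.1 * v.1 = 1 ∧ v.2 * v.2 = 1 := fun v hv =>
    ⟨congrArg Prod.fst hv, congrArg Prod.snd hv⟩
  have hinvs : ∀ v : A4, v * v = 1 → v ≠ 1 → v ∈ invs := fun v h h' =>
    Finset.mem_filter.mpr ⟨Finset.mem_univ _, h, h'⟩
  rcases key a.1 (hinvs _ (hexp1 a (hexp a ha)).1 (fun h => ha1 (hinj2 a ha h)))
      a.2 (hinvs _ (hexp1 a (hexp a ha)).2 (fun h => ha1 (hinj1 a ha h)))
      b.1 (hinvs _ (hexp1 b (hexp b hb)).1 (fun h => hb1 (hinj2 b hb h)))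
      b.2 (hinvs _ (hexp1 b (hexp b hb)).2 (fun h => hb1 (hinj1 b hb h)))
      t1 (Finset.mem_filter.mpr ⟨Finset.mem_univ _, ht1o, ht1n⟩)
      t2 (Finset.mem_filter.mpr ⟨Finset.mem_univ _, ht2o, ht2n⟩) with h | h | h | h
  · exact absurd h hne1
  · exact absurd h hne2
  · rw [conjOK, Bool.and_eq_true] at h
    exact fin t2 ht2 ht2n ht2o h.1 h.2
  · rw [conjOK, Bool.and_eq_true] at h
    refine fin t2⁻¹ (Q2.inv_mem ht2) (inv_ne_one.mpr ht2n) ?_ h.1 h.2
    rw [← mul_inv_rev, ← mul_inv_rev, inv_eq_one, ← mul_assoc, ht2o]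

end Cfsg.Agent.S4406
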