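import Cfsg.Statements.S4407
import Mathlib
import Cfsg.Agent.Lib.NineDihedral.Main
-- import your own Cfsg.Agent.* helpers here

set_option autoImplicit false
open Cfsg

namespace Cfsg.Agent.S4407

/-- Let S be a finite group with a normal elementary abelian subgroup A of order 9 that is self-centralizing (C_S(A) = A), and a dihedral subgroup X of order 8 with S = AX. Let M be a finite-dimensional module for S over the field with two elements that is faithful and irreducible. Then M has 16 elements, and X contains exactly one subgroup B of order 4 and exponent 2 whose fixed points on M form a subspace with exactly 2 elements (equivalently, M is free of rank one over the group algebra of B). -/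
theorem result {S : Type*} [Group S] [Finite S]
    (A : Subgroup S) [A.Normal] (hA : Cfsg.IsElementaryAbelian 3 A) (hA9 : Nat.card ↥A = 9)
    (hAC : Subgroup.centralizer (A : Set S) = A) (X : Subgroup S) (hX : Nonempty (↥X ≃* DihedralGroup 4)) (hAX : A ⊔ X = ⊤)
    {M : Type*} [AddCommGroup M] [Module (ZMod 2) M] [Finite M] (ρ : Representation (ZMod 2) S M)
    (hfaith : Function.Injective ρ)
    (hirr : ∀ N : Submodule (ZMod 2) M, (∀ s : S, ∀ m ∈ N, ρ s m ∈ N) → N = ⊥ ∨ N = ⊤) (hM : Nontrivial M) :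
    Nat.card M = 16 ∧
      ∃! B : Subgroup S, B ≤ X ∧ Nat.card ↥B = 4 ∧ (∀ b ∈ B, b ^ 2 = 1) ∧
        Nat.card {m : M // ∀ b ∈ B, ρ b m = m} = 2 := by
  classical
  obtain ⟨hAcomm, hA3⟩ := hA
  obtain ⟨φ⟩ := hX
  let ψ : DihedralGroup 4 →* S := X.subtype.comp φ.symm.toMonoidHom
  have hψi : Function.Injective ψ := X.subtype_injective.comp φ.symm.injective
  have hψX : ∀ d, ψ d ∈ X := fun d => (φ.symm d).2
  have hψs : ∀ x ∈ X, ∃ d, ψ d = x := fun x hx =>
    ⟨φ ⟨x, hx⟩, by simp [ψ]⟩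
  set r := ψ (DihedralGroup.r 1) with hr
  set t := ψ (DihedralGroup.sr 0) with ht
  have t2 : t * t = 1 := by rw [ht, ← map_mul, ← ψ.map_one]; congr 1
  have r4 : r * r * (r * r) = 1 := by rw [hr, ← map_mul, ← map_mul, ← ψ.map_one]; congr 1
  have trt : t * r * t = r⁻¹ := by rw [hr, ht, ← map_mul, ← map_mul, ← map_inv]; congr 1
  have hzdef : r * r = ψ (DihedralGroup.r 2) := by rw [hr, ← map_mul]; congr 1
  have hrt2 : r * t * (r * t) = 1 := by rw [hr, ht, ← map_mul, ← map_mul, ← ψ.map_one]; congr 1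
  have hz1 : r * r ≠ 1 := by rw [hzdef, ← ψ.map_one]; exact hψi.ne (by decide)
  have ht1 : t ≠ 1 := by rw [ht, ← ψ.map_one]; exact hψi.ne (by decide)
  have htz : t ≠ r * r := by rw [hzdef, ht]; exact hψi.ne (by decide)
  have hrt1 : r * t ≠ 1 := by rw [hr, ht, ← map_mul, ← ψ.map_one]; exact hψi.ne (by decide)
  have hrtz : r * t ≠ r * r := by
    rw [hzdef, hr, ht, ← map_mul]; exact hψi.ne (by decide)
  have hcz : r * r * t = t * (r * r) := by
    rw [hzdef, ht, ← map_mul, ← map_mul]; congr 1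
  have hcz' : r * r * (r * t) = r * t * (r * r) := by
    rw [hzdef, hr, ht, ← map_mul, ← map_mul, ← map_mul]; congr 1
  have hcomm : ∀ a ∈ A, ∀ b ∈ A, a * b = b * a := fun a ha b hb =>
    congrArg Subtype.val (hAcomm.is_comm.comm ⟨a, ha⟩ ⟨b, hb⟩)
  have hAn : ∀ g : S, ∀ a ∈ A, g * a * g⁻¹ ∈ A := fun g a ha => Subgroup.Normal.conj_mem ‹_› a ha g
  have hAX1 : ∀ x ∈ X, x ∈ A → x = 1 := by
    intro x hx hxA
    have h1 : orderOf x ∣ 9 := hA9 ▸ Subgroup.orderOf_dvd_natCard A hxA
    have h2 : orderOf x ∣ 8 := by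
      have := Subgroup.orderOf_dvd_natCard X hx
      rwa [Nat.card_congr φ.toEquiv, DihedralGroup.nat_card] at this
    exact orderOf_eq_one_iff.mp (Nat.dvd_one.mp (Nat.dvd_gcd h1 h2))
  have hfaith' : ∀ x ∈ X, (∀ a ∈ A, x * a = a * x) → x = 1 := fun x hx h => hAX1 x hx (by
    rw [← hAC, Subgroup.mem_centralizer_iff]
    exact fun a ha => (h a ha).symm)
  -- `r`-invariant lines are fixed by `r * r`
  have hline : ∀ x ∈ A, r * x * r⁻¹ ∈ Subgroup.zpowers x → r * r * x * (r * r)⁻¹ = x := by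
    intro x hx hmem
    obtain ⟨i, hi⟩ := mem_powers_iff_mem_zpowers.mpr hmem
    simp only at hi
    have hi3 : x ^ (i % 3) = r * x * r⁻¹ := by
      rw [← hi, ← Nat.div_add_mod i 3, pow_add, pow_mul, hA3 x hx, one_pow, one_mul,
        Nat.div_add_mod]
    have : r * r * x * (r * r)⁻¹ = r * (r * x * r⁻¹) * r⁻¹ := by group
    rw [this, ← hi3, ← conj_pow, ← hi3, ← pow_mul]
    rcases (show i % 3 = 0 ∨ i % 3 = 1 ∨ i % 3 = 2 by omega) with h | h | h <;> rw [h] at hi3 ⊢
    · rw [pow_zero] at hi3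
      have hx1 : x = 1 := conj_eq_one_iff.mp hi3.symm
      simp [hx1]
    · simp
    · rw [show 2 * 2 = 3 + 1 by rfl, pow_add, hA3 x hx, one_mul, pow_one]
  have hbig : ∀ K : Subgroup S, K ≤ A → ∀ a ∈ K, ∀ b ∈ K, a ≠ 1 → b ∉ Subgroup.zpowers a → K = A := by
    intro K hK a ha b hb ha1 hba
    refine Subgroup.eq_of_le_of_card_ge hK ?_
    have h3 : orderOf a = 3 := orderOf_eq_prime (hp := ⟨Nat.prime_three⟩) (hA3 a (hK ha)) ha1
    have hd : Nat.card K ∣ 3 ^ 2 := by
      have h := Subgroup.card_dvd_of_le hK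
      rw [hA9] at h
      exact h
    obtain ⟨j, hj, hjc⟩ := (Nat.dvd_prime_pow Nat.prime_three).mp hd
    have hle : Subgroup.zpowers a ≤ K := Subgroup.zpowers_le.mpr ha
    have hlt : ¬ Nat.card K ≤ 3 := fun h => hba (by
      rw [Subgroup.eq_of_le_of_card_ge hle (by rw [Nat.card_zpowers, h3]; exact h)]
      exact hb)
    rw [hA9, hjc]
    interval_cases j <;> simp_all
  -- `r * r` inverts `A`
  have hinv : ∀ a ∈ A, r * r * a * (r * r)⁻¹ = a⁻¹ := by
    intro a ha
    by_contra hne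
    set z := r * r with hz
    have hzi : z⁻¹ = z := inv_eq_of_mul_eq_one_right r4
    set c := a * (z * a * z⁻¹) with hc
    have hcA : c ∈ A := A.mul_mem ha (hAn z a ha)
    have hc1 : c ≠ 1 := fun h => hne (inv_eq_of_mul_eq_one_right h).symm
    have hzz : z * (z * a * z⁻¹) * z⁻¹ = a := by
      calc z * (z * a * z⁻¹) * z⁻¹ = (z * z) * a * (z * z)⁻¹ := by group
        _ = a := by rw [r4]; group
    have hcfix : z * c * z⁻¹ = c := by
      rw [hc, ← conj_mul, hzz, hcomm _ (hAn z a ha) a ha]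
    obtain ⟨y, hy, hyne⟩ : ∃ y ∈ A, z * y * z⁻¹ ≠ y := by
      by_contra hall
      push Not at hall
      exact hz1 (hfaith' z (by rw [hzdef]; exact hψX _) fun y hy => mul_inv_eq_iff_eq_mul.mp (hall y hy))
    set x := y⁻¹ * (z * y * z⁻¹) with hx
    have hxA : x ∈ A := A.mul_mem (A.inv_mem hy) (hAn z y hy)
    have hxinv : z * x * z⁻¹ = x⁻¹ := by
      have hzy : z * (z * y * z⁻¹) * z⁻¹ = y := by
        calc z * (z * y * z⁻¹) * z⁻¹ = (z * z) * y * (z * z)⁻¹ := by group
          _ = y := by rw [r4]; group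
      calc z * x * z⁻¹ = (z * y * z⁻¹)⁻¹ * (z * (z * y * z⁻¹) * z⁻¹) := by rw [hx]; group
        _ = _ := by rw [hzy, hx]; group
    have hx1 : x ≠ 1 := fun h => hyne (inv_mul_eq_one.mp h).symm
    have hrmem : r * x * r⁻¹ ∈ Subgroup.zpowers x := by
      by_contra hnm
      have hxn : r * x * r⁻¹ ∈ A := hAn r x hxA
      let D : Subgroup S :=
        { carrier := {u | u ∈ A ∧ z * u * z⁻¹ = u⁻¹}
          one_mem' := ⟨A.one_mem, by group⟩
          mul_mem' := fun {u v} hu hv => ⟨A.mul_mem hu.1 hv.1, by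
            rw [← conj_mul, hu.2, hv.2, mul_inv_rev, hcomm _ (A.inv_mem hu.1) _ (A.inv_mem hv.1)]⟩
          inv_mem' := fun {u} hu => ⟨A.inv_mem hu.1, by rw [← conj_inv, hu.2]⟩ }
      have hrx : r * x * r⁻¹ ∈ D := ⟨hxn, by
        calc z * (r * x * r⁻¹) * z⁻¹ = r * (z * x * z⁻¹) * r⁻¹ := by rw [hz]; group
          _ = _ := by rw [hxinv, conj_inv]⟩
      have hD := hbig D (fun u hu => hu.1) x ⟨hxA, hxinv⟩ _ hrx hx1 hnm
      have : c ∈ D := hD.ge hcA
      have h2 : c * c = 1 := by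
        conv_lhs => arg 1; rw [← hcfix, this.2]
        exact inv_mul_cancel c
      exact hc1 (by
        have h3 := hA3 c hcA
        rwa [pow_succ, sq, h2, one_mul] at h3)
    have h5 := hline x hxA hrmem
    rw [hxinv] at h5
    refine hx1 ?_
    have h3 := hA3 x hxA
    have h2 : x * x = 1 := by
      conv_lhs => arg 1; rw [← h5]
      exact inv_mul_cancel x
    rwa [pow_succ, sq, h2, one_mul] at h3
  -- the generator `e`
  have hti : t⁻¹ = t := inv_eq_of_mul_eq_one_right t2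
  obtain ⟨y, hy, hyne⟩ : ∃ y ∈ A, t * y * t ≠ y⁻¹ := by
    by_contra hall
    push Not at hall
    refine htz ?_
    have := hfaith' (r * r * t) (X.mul_mem (by rw [hzdef]; exact hψX _) (hψX _)) fun y hy => by
      have h1 : r * r * t * y * (r * r * t)⁻¹ = y := by
        calc r * r * t * y * (r * r * t)⁻¹ = r * r * (t * y * t) * (r * r)⁻¹ := by
              rw [mul_inv_rev, hti]; group
          _ = y := by rw [hall y hy, hinv _ (A.inv_mem hy), inv_inv]
      exact mul_inv_eq_iff_eq_mul.mp h1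
    rw [← inv_eq_of_mul_eq_one_right this, inv_eq_of_mul_eq_one_right r4]
  set e := y * (t * y * t) with he
  have hty : t * y * t ∈ A := by
    have := hAn t y hy
    rwa [hti] at this
  have heA : e ∈ A := A.mul_mem hy hty
  have he1 : e ≠ 1 := fun h => hyne (inv_eq_of_mul_eq_one_right h).symm
  have te : t * e * t = e := by
    calc t * e * t = t * y * t * (y * (t * t)) := by rw [he]; group
      _ = t * y * t * y := by rw [t2, mul_one]
      _ = e := hcomm _ hty _ hy
  set f := r * e * r⁻¹ with hf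
  have hfA : f ∈ A := hAn r e heA
  have hfne : f ∉ Subgroup.zpowers e := by
    intro hmem
    have h5 := hline e heA hmem
    rw [hinv e heA] at h5
    refine he1 ?_
    have h3 := hA3 e heA
    have h2 : e * e = 1 := by
      conv_lhs => arg 1; rw [← h5]
      exact inv_mul_cancel e
    rwa [pow_succ, sq, h2, one_mul] at h3
  have rf : r * f * r⁻¹ = e⁻¹ := by
    rw [← hinv e heA, hf]; group
  have tf : t * f * t = f⁻¹ := by
    calc t * f * t = (t * r * t) * (t * e * t) * (t * r * t)⁻¹ := by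
          rw [hf, mul_inv_rev, mul_inv_rev, hti]
          simp only [mul_assoc]
          rw [← mul_assoc t t, t2, one_mul, ← mul_assoc t t, t2, one_mul]
      _ = r⁻¹ * e * r := by rw [trt, te, inv_inv]
      _ = (r * r)⁻¹ * (r * e * r⁻¹) * (r * r) := by group
      _ = r * r * f * (r * r)⁻¹ := by rw [inv_eq_of_mul_eq_one_right r4, hf]
      _ = f⁻¹ := hinv f hfA
  have hgenA : Subgroup.closure ({e, f} : Set S) = A := by
    refine hbig _ ((Subgroup.closure_le A).mpr ?_) e (Subgroup.subset_closure (by simp)) f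
      (Subgroup.subset_closure (by simp)) he1 hfne
    rintro x (rfl | rfl)
    · exact heA
    · exact hfA
  have G : Cfsg.Agent.Lib.NineDihedral.Gens r t e f :=
    { t2 := t2
      r4 := r4
      trt := trt
      e3 := hA3 e heA
      re := rfl
      rf := rf
      te := te
      tf := tf
      ef := hcomm e heA f hfA
      gen := by
        rw [eq_top_iff, ← hAX, sup_le_iff, ← hgenA]
        refine ⟨Subgroup.closure_mono (by intro x hx; rcases hx with rfl | rfl <;> simp), ?_⟩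
        intro x hx
        obtain ⟨d, rfl⟩ := hψs x hx
        have hr' : r ∈ Subgroup.closure ({e, f, r, t} : Set S) := Subgroup.subset_closure (by simp)
        have ht' : t ∈ Subgroup.closure ({e, f, r, t} : Set S) := Subgroup.subset_closure (by simp)
        cases d with
        | r i =>
          have : DihedralGroup.r i = (DihedralGroup.r 1 : DihedralGroup 4) ^ i.val :=
            (by decide : ∀ j : ZMod 4, DihedralGroup.r j = (DihedralGroup.r 1 : DihedralGroup 4) ^ j.val) i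
          rw [this, map_pow]; exact pow_mem hr' _
        | sr i =>
          have : DihedralGroup.sr i = DihedralGroup.sr 0 * (DihedralGroup.r 1 : DihedralGroup 4) ^ i.val :=
            (by decide : ∀ j : ZMod 4,
              DihedralGroup.sr j = DihedralGroup.sr 0 * (DihedralGroup.r 1 : DihedralGroup 4) ^ j.val) i
          rw [this, map_mul, map_pow]; exact mul_mem ht' (pow_mem hr' _) }
  have hfix : ∀ m : M, ρ e m = m → ρ f m = m → m = 0 := by
    intro m hem hfm
    have hAfix : ∀ a ∈ A, ρ a m = m := by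
      intro a ha
      rw [← hgenA] at ha
      induction ha using Subgroup.closure_induction with
      | mem x hx => rcases hx with rfl | rfl; exacts [hem, hfm]
      | one => exact Cfsg.Agent.Lib.NineDihedral.rho_one ρ m
      | mul a b _ _ h1 h2 => rw [Cfsg.Agent.Lib.NineDihedral.rho_mul, h2, h1]
      | inv a _ h1 =>
        conv_lhs => rw [← h1]
        rw [← Cfsg.Agent.Lib.NineDihedral.rho_mul, inv_mul_cancel, Cfsg.Agent.Lib.NineDihedral.rho_one]
    let C : Submodule (ZMod 2) M :=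
      { carrier := {v | ∀ a ∈ A, ρ a v = v}
        zero_mem' := fun a _ => map_zero _
        add_mem' := fun {u v} hu hv a ha => by rw [map_add, hu a ha, hv a ha]
        smul_mem' := fun c v hv a ha => by rw [map_smul, hv a ha] }
    rcases hirr C (fun s v hv a ha => by
      rw [← Cfsg.Agent.Lib.NineDihedral.rho_mul, show a * s = s * (s⁻¹ * a * s⁻¹⁻¹) by group,
        Cfsg.Agent.Lib.NineDihedral.rho_mul, hv _ (hAn s⁻¹ a ha)]) with h | h
    · have : m ∈ C := hAfix
      rwa [h, Submodule.mem_bot] at this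
    · exfalso
      refine he1 (hfaith (LinearMap.ext fun v => ?_))
      rw [Cfsg.Agent.Lib.NineDihedral.rho_one]
      exact (show v ∈ C from h ▸ Submodule.mem_top) e heA
  obtain ⟨h16, hcases⟩ := Cfsg.Agent.Lib.NineDihedral.dichotomy ρ G hirr hfix
  refine ⟨h16, ?_⟩
  have hzX : r * r ∈ X := X.mul_mem (hψX _) (hψX _)
  set B1 := Cfsg.Agent.Lib.NineDihedral.four (r * r) t r4 t2 hcz with hB1
  set B2 := Cfsg.Agent.Lib.NineDihedral.four (r * r) (r * t) r4 hrt2 hcz' with hB2
  have hle : ∀ x ∈ X, ∀ (h1 : x * x = 1) (h2 : r * r * x = x * (r * r)),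
      Cfsg.Agent.Lib.NineDihedral.four (r * r) x r4 h1 h2 ≤ X := by
    rintro x hx h1 h2 b (rfl | rfl | rfl | rfl)
    · exact X.one_mem
    · exact hzX
    · exact hx
    · exact X.mul_mem hzX hx
  have hexp : ∀ x (h1 : x * x = 1) (h2 : r * r * x = x * (r * r)),
      ∀ b ∈ Cfsg.Agent.Lib.NineDihedral.four (r * r) x r4 h1 h2, b ^ 2 = 1 := by
    rintro x h1 h2 b (rfl | rfl | rfl | rfl)
    · exact one_pow 2
    · rw [sq, r4]
    · rw [sq, h1]
    · rw [(show Commute (r * r) x from h2).mul_pow, sq, sq, r4, h1, one_mul]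
  have hc1 : Nat.card B1 = 4 := Cfsg.Agent.Lib.NineDihedral.card_four r4 t2 hcz hz1 ht1 htz
  have hc2 : Nat.card B2 = 4 := Cfsg.Agent.Lib.NineDihedral.card_four r4 hrt2 hcz' hz1 hrt1 hrtz
  have honly : ∀ B : Subgroup S, B ≤ X → Nat.card B = 4 → (∀ b ∈ B, b ^ 2 = 1) → B = B1 ∨ B = B2 := by
    intro B hBX hB4 hB2'
    have hd : ∀ a b : DihedralGroup 4, a * a = 1 → b * b = 1 → a * b * (a * b) = 1 →
        ((a = 1 ∨ a = .r 2 ∨ a = .sr 0 ∨ a = .r 2 * .sr 0) ∧ (b = 1 ∨ b = .r 2 ∨ b = .sr 0 ∨ b = .r 2 * .sr 0)) ∨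
        ((a = 1 ∨ a = .r 2 ∨ a = .r 1 * .sr 0 ∨ a = .r 2 * (.r 1 * .sr 0)) ∧
          (b = 1 ∨ b = .r 2 ∨ b = .r 1 * .sr 0 ∨ b = .r 2 * (.r 1 * .sr 0))) := by decide
    have h12 : ∀ d : DihedralGroup 4,
        ((d = 1 ∨ d = .r 2 ∨ d = .sr 0 ∨ d = .r 2 * .sr 0) → ψ d ∈ B1) ∧
        ((d = 1 ∨ d = .r 2 ∨ d = .r 1 * .sr 0 ∨ d = .r 2 * (.r 1 * .sr 0)) → ψ d ∈ B2) := by
      intro d
      constructor
      · rintro (rfl | rfl | rfl | rfl)
        · rw [map_one]; exact one_mem _
        · rw [← hzdef]; exact Or.inr (Or.inl rfl)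
        · exact Or.inr (Or.inr (Or.inl rfl))
        · rw [map_mul, ← hzdef]; exact Or.inr (Or.inr (Or.inr rfl))
      · rintro (rfl | rfl | rfl | rfl)
        · rw [map_one]; exact one_mem _
        · rw [← hzdef]; exact Or.inr (Or.inl rfl)
        · rw [map_mul]; exact Or.inr (Or.inr (Or.inl rfl))
        · rw [map_mul, map_mul, ← hzdef]; exact Or.inr (Or.inr (Or.inr rfl))
    have hpair : ∀ a ∈ B, ∀ b ∈ B, (a ∈ B1 ∧ b ∈ B1) ∨ (a ∈ B2 ∧ b ∈ B2) := by
      intro a ha b hb
      obtain ⟨a', rfl⟩ := hψs a (hBX ha)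
      obtain ⟨b', rfl⟩ := hψs b (hBX hb)
      have key : ∀ c, ψ c ∈ B → c * c = 1 := fun c hc => hψi (by
        rw [map_mul, ← sq, hB2' _ hc, map_one])
      rcases hd a' b' (key _ ha) (key _ hb) (key _ (by rw [map_mul]; exact B.mul_mem ha hb)) with ⟨p, q⟩ | ⟨p, q⟩
      · exact Or.inl ⟨(h12 a').1 p, (h12 b').1 q⟩
      · exact Or.inr ⟨(h12 a').2 p, (h12 b').2 q⟩
    by_cases hall : B ≤ B1
    · exact Or.inl (Subgroup.eq_of_le_of_card_ge hall (by rw [hc1, hB4]))
    · obtain ⟨a, ha, hna⟩ := SetLike.not_le_iff_exists.mp hall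
      refine Or.inr (Subgroup.eq_of_le_of_card_ge (fun b hb => ?_) (by rw [hc2, hB4]))
      rcases hpair a ha b hb with ⟨p, -⟩ | ⟨-, q⟩
      · exact absurd p hna
      · exact q
  have hf1 := Cfsg.Agent.Lib.NineDihedral.card_fixed_four ρ r4 t2 hcz
  have hf2 := Cfsg.Agent.Lib.NineDihedral.card_fixed_four ρ r4 hrt2 hcz'
  rcases hcases with ⟨good, bad⟩ | ⟨good, bad⟩
  · refine ⟨B2, ⟨hle _ (X.mul_mem (hψX _) (hψX _)) hrt2 hcz', hc2, hexp _ hrt2 hcz', hf2.trans good⟩, ?_⟩
    rintro B ⟨hB1', hB2', hB3, hB4⟩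
    rcases honly B hB1' hB2' hB3 with rfl | rfl
    · exact absurd (hf1.symm.trans hB4) bad
    · rfl
  · refine ⟨B1, ⟨hle _ (hψX _) t2 hcz, hc1, hexp _ t2 hcz, hf1.trans good⟩, ?_⟩
    rintro B ⟨hB1', hB2', hB3, hB4⟩
    rcases honly B hB1' hB2' hB3 with rfl | rfl
    · rfl
    · exact absurd (hf2.symm.trans hB4) bad

end Cfsg.Agent.S4407
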