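import Cfsg.Statements.S4408
import Mathlib
import Cfsg.Agent.Lib.Core.Fitting
-- import your own Cfsg.Agent.* helpers here

set_option autoImplicit false
open Cfsg

namespace Cfsg.Agent.S4408

/-- Commuting involutory automorphisms of an abelian group: a nontrivial element can be refined to one
which is fixed or inverted by all of them, inverted wherever it was inverted before. -/
theorem exists_eigen {V ι : Type*} [CommGroup V] [Finite ι] (act : ι → V →* V)
    (hinv : ∀ i v, act i (act i v) = v) (hcomm : ∀ i j v, act i (act j v) = act j (act i v))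
    {x : V} (hx : x ≠ 1) :
    ∃ y : V, y ≠ 1 ∧ (∀ i, act i y = y ∨ act i y = y⁻¹) ∧ (∀ i, act i x = x⁻¹ → act i y = y⁻¹) := by
  classical
  cases nonempty_fintype ι
  suffices ∀ T : Finset ι, ∃ y : V, y ≠ 1 ∧ (∀ i ∈ T, act i y = y ∨ act i y = y⁻¹) ∧
      (∀ i, act i x = x⁻¹ → act i y = y⁻¹) by
    obtain ⟨y, hy, h1, h2⟩ := this Finset.univ
    exact ⟨y, hy, fun i => h1 i (Finset.mem_univ i), h2⟩
  intro T
  induction T using Finset.induction with
  | empty => exact ⟨x, hx, by simp, fun _ h => h⟩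
  | @insert s T hs ih =>
    obtain ⟨y, hy, h1, h2⟩ := ih
    by_cases hneg : act s y = y⁻¹
    · exact ⟨y, hy, Finset.forall_mem_insert .. |>.mpr ⟨Or.inr hneg, h1⟩, h2⟩
    refine ⟨y * act s y, fun h => hneg (eq_inv_of_mul_eq_one_right h),
      Finset.forall_mem_insert .. |>.mpr ⟨Or.inl ?_, fun i hi => ?_⟩, fun i hi => ?_⟩
    · rw [map_mul, hinv, mul_comm]
    · rcases h1 i hi with h | h
      · left; rw [map_mul, hcomm i s, h]
      · right; rw [map_mul, hcomm i s, h, map_inv, mul_inv]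
    · rw [map_mul, hcomm i s, h2 i hi, map_inv, mul_inv]

section

variable {S : Type*} [Group S] [Finite S]

/-- A maximal abelian invariant subgroup of a nilpotent normal subgroup contains its centralizer. -/
theorem exists_selfcentralizing {F I : Subgroup S} [F.Normal] (hF : Group.IsNilpotent F)
    (hI : ∀ s ∈ I, s ^ 2 = 1) :
    ∃ A : Subgroup S, A ≤ F ∧ (∀ a ∈ A, ∀ b ∈ A, a * b = b * a) ∧
      (∀ t ∈ I, ∀ a ∈ A, t * a * t⁻¹ ∈ A) ∧ F ⊓ Subgroup.centralizer (A : Set S) ≤ A := by
  classical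
  obtain ⟨A, ⟨hAF, hAc, hAI⟩, hmax⟩ := (Set.toFinite {A : Subgroup S | A ≤ F ∧
      (∀ a ∈ A, ∀ b ∈ A, a * b = b * a) ∧ ∀ t ∈ I, ∀ a ∈ A, t * a * t⁻¹ ∈ A}).exists_maximal
    ⟨⊥, bot_le, fun a ha b hb => by simp [Subgroup.mem_bot.mp ha, Subgroup.mem_bot.mp hb],
      fun t _ a ha => by simp [Subgroup.mem_bot.mp ha]⟩
  refine ⟨A, hAF, hAc, hAI, ?_⟩
  set C := F ⊓ Subgroup.centralizer (A : Set S) with hC
  by_contra hle
  have hAC : A ≤ C := le_inf hAF fun a ha => by
    rw [Subgroup.mem_centralizer_iff]; exact fun b hb => hAc b hb a ha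
  haveI hCnil : Group.IsNilpotent C := by
    haveI := hF
    exact Group.nilpotent_of_mulEquiv (Subgroup.subgroupOfEquivOfLe (inf_le_left : C ≤ F))
  haveI hA'n : (A.subgroupOf C).Normal := ⟨fun a ha c => by
    have h : (a : S) * (c : S) = (c : S) * a := Subgroup.mem_centralizer_iff.mp c.2.2 a ha
    rw [Subgroup.mem_subgroupOf] at ha ⊢
    simp only [Subgroup.coe_mul, Subgroup.coe_inv]
    rwa [← h, mul_inv_cancel_right]⟩
  have hCI : ∀ t ∈ I, ∀ c ∈ C, t * c * t⁻¹ ∈ C := by
    intro t ht c hc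
    refine ⟨Subgroup.Normal.conj_mem inferInstance c hc.1 t, Subgroup.mem_centralizer_iff.mpr ?_⟩
    intro a ha
    have h1 := Subgroup.mem_centralizer_iff.mp hc.2 _ (hAI t⁻¹ (I.inv_mem ht) a ha)
    rw [inv_inv] at h1
    calc a * (t * c * t⁻¹) = t * ((t⁻¹ * a * t) * c) * t⁻¹ := by simp [mul_assoc]
      _ = t * c * t⁻¹ * a := by rw [h1]; simp [mul_assoc]
  let Q := C ⧸ A.subgroupOf C
  haveI : Nontrivial Q := QuotientGroup.nontrivial_iff.mpr (by rwa [Ne, Subgroup.subgroupOf_eq_top])
  have hIN : ∀ t : I, (t : S) ∈ Subgroup.normalizer (C : Set S) := fun t =>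
    Subgroup.mem_normalizer_iff.mpr fun c => ⟨hCI t t.2 c, fun h => by
      have := hCI (t : S)⁻¹ (I.inv_mem t.2) _ h
      simpa [mul_assoc] using this⟩
  let σ : I → C →* C := fun t => (C.normalizerMonoidHom ⟨t, hIN t⟩).toMonoidHom
  have hσA : ∀ t : I, A.subgroupOf C ≤ (A.subgroupOf C).comap (σ t) := fun t c hc =>
    hAI t t.2 _ hc
  let ρ : I → Q →* Q := fun t => QuotientGroup.map _ _ (σ t) (hσA t)
  have hρinv : ∀ t v, ρ t (ρ t v) = v := by
    intro t v
    obtain ⟨c, rfl⟩ := QuotientGroup.mk_surjective v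
    refine congrArg QuotientGroup.mk (Subtype.ext ?_)
    show (t : S) * ((t : S) * c * (t : S)⁻¹) * (t : S)⁻¹ = c
    have h := hI t t.2
    rw [pow_two] at h
    have h' : (t : S)⁻¹ = t := inv_eq_of_mul_eq_one_right h
    rw [h']
    calc (t : S) * (t * c * t) * t = ((t : S) * t) * c * (t * t) := by simp [mul_assoc]
      _ = c := by rw [h, one_mul, mul_one]
  have hIcomm : ∀ s ∈ I, ∀ t ∈ I, s * t = t * s := by
    intro s hs t ht
    have h1 := hI _ (I.mul_mem hs ht)
    have hs' : s⁻¹ = s := inv_eq_of_mul_eq_one_right (by rw [← pow_two]; exact hI s hs)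
    have ht' : t⁻¹ = t := inv_eq_of_mul_eq_one_right (by rw [← pow_two]; exact hI t ht)
    rw [pow_two] at h1
    calc s * t = (s * t)⁻¹ := (inv_eq_of_mul_eq_one_right h1).symm
      _ = t⁻¹ * s⁻¹ := mul_inv_rev s t
      _ = t * s := by rw [hs', ht']
  have hρcomm : ∀ s t v, ρ s (ρ t v) = ρ t (ρ s v) := by
    intro s t v
    obtain ⟨c, rfl⟩ := QuotientGroup.mk_surjective v
    refine congrArg QuotientGroup.mk (Subtype.ext ?_)
    show (s : S) * ((t : S) * c * (t : S)⁻¹) * (s : S)⁻¹ = (t : S) * ((s : S) * c * (s : S)⁻¹) * (t : S)⁻¹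
    calc (s : S) * ((t : S) * c * (t : S)⁻¹) * (s : S)⁻¹
        = ((s : S) * t) * c * ((s : S) * t)⁻¹ := by simp [mul_assoc]
      _ = ((t : S) * s) * c * ((t : S) * s)⁻¹ := by rw [hIcomm s s.2 t t.2]
      _ = _ := by simp [mul_assoc]
  have hρZ : ∀ t : I, ∀ z ∈ Subgroup.center Q, ρ t z ∈ Subgroup.center Q := by
    intro t z hz
    rw [Subgroup.mem_center_iff] at hz ⊢
    intro v
    rw [← hρinv t v, ← map_mul, ← map_mul, hz]
  letI : CommGroup (Subgroup.center Q) :=
    { (inferInstance : Group (Subgroup.center Q)) with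
      mul_comm := fun a b => Subtype.ext (Subgroup.mem_center_iff.mp b.2 a) }
  let act : I → Subgroup.center Q →* Subgroup.center Q := fun t =>
    ((ρ t).comp (Subgroup.center Q).subtype).codRestrict _ fun z => hρZ t z z.2
  haveI : Nontrivial (Subgroup.center Q) :=
    (Subgroup.nontrivial_iff_ne_bot _).mpr (Group.IsNilpotent.center_ne_bot Q)
  obtain ⟨x, hx⟩ := exists_ne (1 : Subgroup.center Q)
  obtain ⟨y, hy, hsign, -⟩ := exists_eigen act (fun t v => Subtype.ext (hρinv t v))
    (fun s t v => Subtype.ext (hρcomm s t v)) hx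
  obtain ⟨c, hc⟩ := QuotientGroup.mk_surjective (y : Q)
  have hcA : (c : S) ∉ A := fun h => hy (Subtype.ext (hc.symm.trans ((QuotientGroup.eq_one_iff c).mpr h)))
  -- enlarge `A` by `c`
  set B := A ⊔ Subgroup.zpowers (c : S) with hB
  have hBcl : B = Subgroup.closure ((A : Set S) ∪ {(c : S)}) := by
    rw [hB, Subgroup.closure_union, Subgroup.closure_eq, Subgroup.zpowers_eq_closure]
  have hBc : ∀ a ∈ B, ∀ b ∈ B, a * b = b * a := by
    have hcom : ∀ a ∈ ((A : Set S) ∪ {(c : S)}), ∀ b ∈ ((A : Set S) ∪ {(c : S)}), a * b = b * a := by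
      have hca : ∀ a ∈ A, a * (c : S) = (c : S) * a := fun a ha =>
        Subgroup.mem_centralizer_iff.mp c.2.2 a ha
      rintro a (ha | rfl) b (hb | rfl)
      exacts [hAc a ha b hb, hca a ha, (hca b hb).symm, rfl]
    intro a ha b hb
    rw [hBcl] at ha hb
    have h1 : Subgroup.closure ((A : Set S) ∪ {(c : S)}) ≤
        Subgroup.centralizer ((A : Set S) ∪ {(c : S)}) :=
      (Subgroup.closure_le _).mpr fun u hu => Subgroup.mem_centralizer_iff.mpr fun v hv => hcom v hv u hu
    have h2 : ((A : Set S) ∪ {(c : S)}) ⊆ Subgroup.centralizer ({b} : Set S) := fun u hu =>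
      Subgroup.mem_centralizer_singleton_iff.mpr (Subgroup.mem_centralizer_iff.mp (h1 hb) u hu)
    exact Subgroup.mem_centralizer_singleton_iff.mp ((Subgroup.closure_le _).mpr h2 ha)
  have hcB : (c : S) ∈ B := Subgroup.mem_sup_right (Subgroup.mem_zpowers _)
  have hBI : ∀ t ∈ I, ∀ a ∈ B, t * a * t⁻¹ ∈ B := by
    intro t ht a ha
    have hle : B ≤ B.comap (MulAut.conj t).toMonoidHom := by
      refine sup_le (fun u hu => Subgroup.mem_sup_left (hAI t ht u hu)) ?_
      rw [Subgroup.zpowers_le]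
      show t * (c : S) * t⁻¹ ∈ B
      rcases hsign ⟨t, ht⟩ with h | h
      · have h1 : ((σ ⟨t, ht⟩ c : C) : Q) = (c : Q) := by
          have := congrArg Subtype.val h
          rw [hc]
          refine Eq.trans ?_ this
          show _ = ρ ⟨t, ht⟩ (y : Q)
          rw [← hc]; rfl
        have h2 := Subgroup.mem_subgroupOf.mp (QuotientGroup.eq.mp h1.symm)
        have h3 := B.mul_mem hcB (Subgroup.mem_sup_left h2)
        simp only [Subgroup.coe_mul, Subgroup.coe_inv, mul_inv_cancel_left] at h3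
        exact h3
      · have h1 : ((σ ⟨t, ht⟩ c : C) : Q) = ((c⁻¹ : C) : Q) := by
          have := congrArg Subtype.val h
          rw [QuotientGroup.mk_inv, hc]
          refine Eq.trans ?_ this
          show _ = ρ ⟨t, ht⟩ (y : Q)
          rw [← hc]; rfl
        have h2 := Subgroup.mem_subgroupOf.mp (QuotientGroup.eq.mp h1.symm)
        have h3 := B.mul_mem (B.inv_mem hcB) (Subgroup.mem_sup_left h2)
        simp only [Subgroup.coe_mul, Subgroup.coe_inv, inv_inv, inv_mul_cancel_left] at h3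
        exact h3
    exact hle ha
  have hBF : B ≤ F := sup_le hAF (Subgroup.zpowers_le.mpr c.2.1)
  exact hcA (hmax ⟨hBF, hBc, hBI⟩ le_sup_left hcB)

/-- An involution centralising a self-centralising subgroup of a nilpotent group of odd order
centralises the whole group. -/
theorem centralizes_of_selfcentralizing {F A : Subgroup S} [F.Normal] (hF : Group.IsNilpotent F)
    (hodd : Odd (Nat.card F)) (hAF : A ≤ F) (hAA : F ⊓ Subgroup.centralizer (A : Set S) ≤ A)
    {t : S} (ht : t ^ 2 = 1) (htA : ∀ a ∈ A, t * a = a * t) : ∀ x ∈ F, t * x = x * t := by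
  have htt : t * t = 1 := by rw [← pow_two]; exact ht
  have hti : t⁻¹ = t := inv_eq_of_mul_eq_one_right htt
  set K := F ⊓ Subgroup.centralizer ({t} : Set S) with hK
  have hAK : A ≤ K := le_inf hAF fun a ha =>
    Subgroup.mem_centralizer_singleton_iff.mpr (htA a ha).symm
  haveI := hF
  have htop : K.subgroupOf F = ⊤ := by
    by_contra hne
    obtain ⟨n, hn, hnK⟩ := SetLike.exists_of_lt
      (Group.normalizerCondition_of_isNilpotent (K.subgroupOf F) (lt_top_iff_ne_top.mpr hne))
    have hnor : ∀ k ∈ K, (n : S) * k * (n : S)⁻¹ ∈ K := fun k hk =>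
      (Subgroup.mem_normalizer_iff.mp hn ⟨k, hk.1⟩).mp hk
    have hfix : ∀ k ∈ K, t * k * t⁻¹ = k := fun k hk => by
      rw [← Subgroup.mem_centralizer_singleton_iff.mp hk.2, mul_inv_cancel_right]
    set d := (n : S)⁻¹ * (t * n * t⁻¹) with hd
    have hdK : d ∈ K := by
      refine hAK (hAA ⟨F.mul_mem (F.inv_mem n.2) (Subgroup.Normal.conj_mem inferInstance _ n.2 t), Subgroup.mem_centralizer_iff.mpr ?_⟩)
      intro a ha
      have h1 := hfix _ (hnor a (hAK ha))
      have h2 := hfix a (hAK ha)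
      have h3 : (t * n * t⁻¹) * (t * a * t⁻¹) * (t * n * t⁻¹)⁻¹ = (n : S) * a * (n : S)⁻¹ :=
        Eq.trans (by group) h1
      rw [h2] at h3
      calc a * d = (n : S)⁻¹ * ((n : S) * a * (n : S)⁻¹) * (t * n * t⁻¹) := by rw [hd]; group
        _ = d * a := by rw [← h3, hd]; group
    have h1 := hfix d hdK
    have hdd : d * d = 1 := by
      have h2 : t * d * t⁻¹ = d⁻¹ := by
        rw [hd, hti]
        calc t * ((n : S)⁻¹ * (t * n * t)) * t = t * (n : S)⁻¹ * t * n * (t * t) := by group
          _ = ((n : S)⁻¹ * (t * n * t))⁻¹ := by rw [htt, mul_inv_rev, mul_inv_rev, mul_inv_rev, hti]; group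
      rw [h1] at h2
      nth_rewrite 2 [h2]
      exact mul_inv_cancel d
    have hd1 : d = 1 := by
      have ho : orderOf (⟨d, hdK.1⟩ : F) ∣ 2 :=
        orderOf_dvd_of_pow_eq_one (Subtype.ext (by rw [pow_two]; simpa using hdd))
      rcases (Nat.dvd_prime Nat.prime_two).mp ho with h | h
      · exact congrArg Subtype.val (orderOf_eq_one_iff.mp h)
      · obtain ⟨m, hm⟩ := hodd
        obtain ⟨u, hu⟩ := h ▸ orderOf_dvd_natCard (⟨d, hdK.1⟩ : F)
        omega
    refine hnK ⟨n.2, Subgroup.mem_centralizer_singleton_iff.mpr ?_⟩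
    rw [hd, inv_mul_eq_one, eq_mul_inv_iff_mul_eq] at hd1
    exact hd1
  intro x hx
  exact (Subgroup.mem_centralizer_singleton_iff.mp
    (Subgroup.subgroupOf_eq_top.mp htop hx).2).symm

/-- One step: a new invariant subgroup of prime order, not centralised by `J`. -/
theorem exists_step {A I J : Subgroup S} (hAc : ∀ a ∈ A, ∀ b ∈ A, a * b = b * a)
    (hodd : Odd (Nat.card A)) (hI : ∀ s ∈ I, s ^ 2 = 1)
    (hAI : ∀ t ∈ I, ∀ a ∈ A, t * a * t⁻¹ ∈ A) (hJI : J ≤ I) (hJ : J ≠ ⊥)
    (hfaith : ∀ t ∈ I, (∀ a ∈ A, t * a = a * t) → t = 1) :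
    ∃ a ∈ A, (orderOf a).Prime ∧ a * a ≠ 1 ∧
      (∀ s ∈ I, s * a * s⁻¹ = a ∨ s * a * s⁻¹ = a⁻¹) ∧ ∃ t ∈ J, t * a * t⁻¹ = a⁻¹ := by
  classical
  obtain ⟨t, htJ, ht1⟩ := (Subgroup.ne_bot_iff_exists_ne_one.mp hJ |> fun ⟨t, ht⟩ =>
    (⟨(t : S), t.2, fun h => ht (Subtype.ext h)⟩ : ∃ t ∈ J, t ≠ 1))
  obtain ⟨a, ha, hta⟩ : ∃ a ∈ A, t * a ≠ a * t := by
    by_contra h
    push Not at h
    exact ht1 (hfaith t (hJI htJ) h)
  letI : CommGroup A := { (inferInstance : Group A) with
    mul_comm := fun u v => Subtype.ext (hAc u u.2 v v.2) }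
  let act : I → A →* A := fun s =>
    ((MulAut.conj (s : S)).toMonoidHom.comp A.subtype).codRestrict A fun u => hAI s s.2 u u.2
  have hactv : ∀ (s : I) (u : A), ((act s u : A) : S) = (s : S) * u * (s : S)⁻¹ := fun _ _ => rfl
  have hinv : ∀ (s : I) (u : A), act s (act s u) = u := by
    intro s u
    refine Subtype.ext ?_
    rw [hactv, hactv]
    calc (s : S) * ((s : S) * u * (s : S)⁻¹) * (s : S)⁻¹
        = ((s : S) ^ 2) * u * ((s : S) ^ 2)⁻¹ := by rw [pow_two]; simp [mul_assoc]
      _ = u := by rw [hI s s.2]; simp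
  have hcommI : ∀ (r s : I), (r : S) * s = s * r := by
    intro r s
    have h1 := hI _ (I.mul_mem r.2 s.2)
    have hr : (r : S)⁻¹ = r := inv_eq_of_mul_eq_one_right (by rw [← pow_two]; exact hI r r.2)
    have hs : (s : S)⁻¹ = s := inv_eq_of_mul_eq_one_right (by rw [← pow_two]; exact hI s s.2)
    rw [pow_two] at h1
    calc (r : S) * s = ((r : S) * s)⁻¹ := (inv_eq_of_mul_eq_one_right h1).symm
      _ = (s : S)⁻¹ * (r : S)⁻¹ := mul_inv_rev _ _
      _ = s * r := by rw [hr, hs]
  have hcomm : ∀ (r s : I) (u : A), act r (act s u) = act s (act r u) := by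
    intro r s u
    refine Subtype.ext ?_
    simp only [hactv]
    calc (r : S) * ((s : S) * u * (s : S)⁻¹) * (r : S)⁻¹
        = ((r : S) * s) * u * ((r : S) * s)⁻¹ := by simp [mul_assoc]
      _ = ((s : S) * r) * u * ((s : S) * r)⁻¹ := by rw [hcommI r s]
      _ = _ := by simp [mul_assoc]
  set tI : I := ⟨t, hJI htJ⟩
  set x : A := (⟨a, ha⟩ : A)⁻¹ * act tI ⟨a, ha⟩ with hx
  have hxne : x ≠ 1 := by
    intro h
    have h1 := congrArg Subtype.val (inv_mul_eq_one.mp h)
    rw [hactv, eq_mul_inv_iff_mul_eq] at h1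
    exact hta h1.symm
  have hxneg : act tI x = x⁻¹ := by
    rw [hx, map_mul, map_inv, hinv, mul_inv_rev, inv_inv]
    try exact mul_comm _ _
  obtain ⟨y, hy, hsign, hneg⟩ := exists_eigen act hinv hcomm hxne
  obtain ⟨r, hr, hrd⟩ := Nat.exists_prime_and_dvd (fun h => hy (orderOf_eq_one_iff.mp h) : orderOf y ≠ 1)
  set z := y ^ (orderOf y / r)
  have hz : orderOf z = r := orderOf_pow_orderOf_div (orderOf_pos y).ne' hrd
  have hzsign : ∀ s, act s z = z ∨ act s z = z⁻¹ := fun s => (hsign s).imp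
    (fun h => by rw [map_pow, h]) (fun h => by rw [map_pow, h, inv_pow])
  refine ⟨(z : S), z.2, by rw [Subgroup.orderOf_coe, hz]; exact hr, fun h => ?_, fun s hs =>
    (hzsign ⟨s, hs⟩).imp (fun h => congrArg Subtype.val h) (fun h => congrArg Subtype.val h), t, htJ,
    congrArg Subtype.val (show act tI z = z⁻¹ by rw [map_pow, hneg tI hxneg, inv_pow])⟩
  have h1 : orderOf z ∣ 2 := orderOf_dvd_of_pow_eq_one (Subtype.ext (by rw [pow_two]; simpa using h))
  rw [hz] at h1
  have h2 := (Nat.prime_dvd_prime_iff_eq hr Nat.prime_two).mp h1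
  obtain ⟨m, hm⟩ := hodd
  obtain ⟨u, hu⟩ := (h2 ▸ hz ▸ orderOf_dvd_natCard z : 2 ∣ Nat.card A)
  omega

end

/-- Let S be a finite solvable group whose Fitting subgroup F(S) has odd order, and let I be an elementary abelian 2-subgroup of S of order 2ⁿ with n ≥ 1. Then F(S) contains subgroups A₁, …, Aₙ of prime order, each normalized by I, pairwise commuting and generating a subgroup A of order |A₁|⋯|Aₙ| (their internal direct product), such that no non-identity element of I centralizes A. -/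
theorem result {S : Type*} [Group S] [Finite S]
    [Group.IsSolvable S] (hF : Odd (Nat.card ↥(Cfsg.fittingSubgroup S)))
    (I : Subgroup S) (hI : Cfsg.IsElementaryAbelian 2 I) (n : ℕ) (hn : 1 ≤ n) (hIn : Nat.card ↥I = 2 ^ n) :
    ∃ f : Fin n → Subgroup S, (∀ i, (Nat.card ↥(f i)).Prime) ∧ (∀ i, f i ≤ Cfsg.fittingSubgroup S) ∧
      (∀ i, I ≤ Subgroup.normalizer ((f i) : Set S)) ∧ (∀ i j, i ≠ j → ∀ a ∈ f i, ∀ b ∈ f j, a * b = b * a) ∧
      Nat.card ↥(⨆ i, f i) = ∏ i, Nat.card ↥(f i) ∧ I ⊓ Subgroup.centralizer ((⨆ i, f i : Subgroup S) : Set S) = ⊥ := by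
  classical
  set F := Cfsg.fittingSubgroup S with hFdef
  haveI : F.Normal := Lib.Fitting.fittingSubgroup_normal
  have hFnil : Group.IsNilpotent F := Lib.Fitting.isNilpotent_fittingSubgroup
  have hI2 : ∀ s ∈ I, s ^ 2 = 1 := hI.2
  obtain ⟨A, hAF, hAc, hAI, hAA⟩ := exists_selfcentralizing (F := F) hFnil hI2
  have hAodd : Odd (Nat.card A) := hF.of_dvd_nat (Subgroup.card_dvd_of_le hAF)
  have hfaith : ∀ t ∈ I, (∀ a ∈ A, t * a = a * t) → t = 1 := by
    intro t ht htA
    have h1 := centralizes_of_selfcentralizing hFnil hF hAF hAA (hI2 t ht) htA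
    have htF : t ∈ F := Lib.Fitting.centralizer_fittingSubgroup_le
      (Subgroup.mem_centralizer_iff.mpr fun x hx => (h1 x hx).symm)
    have ho : orderOf (⟨t, htF⟩ : F) ∣ 2 :=
      orderOf_dvd_of_pow_eq_one (Subtype.ext (by simpa using hI2 t ht))
    rcases (Nat.dvd_prime Nat.prime_two).mp ho with h | h
    · exact congrArg Subtype.val (orderOf_eq_one_iff.mp h)
    · obtain ⟨m, hm⟩ := hF
      obtain ⟨u, hu⟩ := h ▸ orderOf_dvd_natCard (⟨t, htF⟩ : F)
      omega
  -- build the family step by step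
  suffices ∀ k ≤ n, ∃ g : Fin k → S, (∀ i, g i ∈ A ∧ (orderOf (g i)).Prime ∧
      (∀ s ∈ I, s * g i * s⁻¹ = g i ∨ s * g i * s⁻¹ = (g i)⁻¹)) ∧
      Nat.card ↥(⨆ i, Subgroup.zpowers (g i)) = ∏ i, orderOf (g i) ∧
      Nat.card ↥(I ⊓ Subgroup.centralizer ((⨆ i, Subgroup.zpowers (g i) : Subgroup S) : Set S)) =
        2 ^ (n - k) by
    obtain ⟨g, hg, hcard, hJ⟩ := this n le_rfl
    refine ⟨fun i => Subgroup.zpowers (g i), fun i => by rw [Nat.card_zpowers]; exact (hg i).2.1,
      fun i => Subgroup.zpowers_le.mpr (hAF (hg i).1), fun i t ht => ?_, fun i j _ a ha b hb =>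
      hAc a (Subgroup.zpowers_le.mpr (hg i).1 ha) b (Subgroup.zpowers_le.mpr (hg j).1 hb), ?_, ?_⟩
    · have key : ∀ u ∈ I, (Subgroup.zpowers (g i)).map (MulAut.conj u).toMonoidHom =
          Subgroup.zpowers (g i) := by
        intro u hu
        rw [MonoidHom.map_zpowers]
        show Subgroup.zpowers (u * g i * u⁻¹) = _
        rcases (hg i).2.2 u hu with h | h <;> rw [h]
        exact Subgroup.zpowers_inv
      rw [Subgroup.mem_normalizer_iff]
      intro y
      beta_reduce
      conv_rhs => rw [← key t ht]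
      rw [Subgroup.mem_map_equiv, MulAut.conj_symm_apply]
      simp [mul_assoc]
    · rw [hcard]; exact Finset.prod_congr rfl fun i _ => (Nat.card_zpowers _).symm
    · rw [Nat.sub_self, pow_zero] at hJ
      exact Subgroup.eq_bot_of_card_eq _ hJ
  intro k
  induction k with
  | zero =>
    intro _
    refine ⟨fun i => i.elim0, fun i => i.elim0, by simp, ?_⟩
    have : (⨆ i : Fin 0, Subgroup.zpowers ((fun i => i.elim0 : Fin 0 → S) i)) = ⊥ := iSup_of_empty _
    rw [this, Nat.sub_zero, ← hIn]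
    have htop : Subgroup.centralizer ((⊥ : Subgroup S) : Set S) = ⊤ := by
      ext x; simp [Subgroup.mem_centralizer_iff]
    rw [htop, inf_top_eq]
  | succ k ih =>
    intro hk
    obtain ⟨g, hg, hcard, hJ⟩ := ih (by omega)
    set G := ⨆ i, Subgroup.zpowers (g i) with hG
    set J := I ⊓ Subgroup.centralizer (G : Set S) with hJdef
    have hJne : J ≠ ⊥ := by
      intro h
      rw [h, Subgroup.card_bot] at hJ
      have : 1 < 2 ^ (n - k) := Nat.one_lt_two_pow (by omega)
      omega
    obtain ⟨a, haA, hap, ha2, hasign, t, htJ, hta⟩ :=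
      exists_step hAc hAodd hI2 hAI inf_le_left hJne hfaith
    refine ⟨Fin.cons a g, fun i => ?_, ?_, ?_⟩
    · refine Fin.cases ?_ (fun j => ?_) i
      · simpa using ⟨haA, hap, hasign⟩
      · simpa using hg j
    · have hsup : (⨆ i, Subgroup.zpowers ((Fin.cons a g : Fin (k + 1) → S) i)) =
          Subgroup.zpowers a ⊔ G := by
        apply le_antisymm
        · refine iSup_le fun i => Fin.cases ?_ (fun j => ?_) i
          · simp
          · simpa using le_sup_of_le_right (le_iSup (fun i => Subgroup.zpowers (g i)) j)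
        · refine sup_le ?_ (iSup_le fun j => ?_)
          · exact le_trans (by simp) (le_iSup (fun i => Subgroup.zpowers ((Fin.cons a g : Fin (k+1) → S) i)) 0)
          · exact le_trans (by simp) (le_iSup (fun i => Subgroup.zpowers ((Fin.cons a g : Fin (k+1) → S) i)) j.succ)
      have hGA : G ≤ A := iSup_le fun i => Subgroup.zpowers_le.mpr (hg i).1
      have haG : a ∉ G := by
        intro h
        have h1 := Subgroup.mem_centralizer_iff.mp htJ.2 a h
        rw [← h1, mul_inv_cancel_right] at hta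
        exact ha2 (by nth_rewrite 2 [hta]; exact mul_inv_cancel a)
      have hdisj : Subgroup.zpowers a ⊓ G = ⊥ := by
        haveI : Fact (Nat.card (Subgroup.zpowers a)).Prime := ⟨by rw [Nat.card_zpowers]; exact hap⟩
        rcases ((G.subgroupOf (Subgroup.zpowers a)).eq_bot_or_eq_top_of_prime_card) with h | h
        · rw [Subgroup.subgroupOf_eq_bot] at h
          exact disjoint_iff.mp h.symm
        · exact absurd (Subgroup.subgroupOf_eq_top.mp h (Subgroup.mem_zpowers a)) haG
      rw [hsup, Fin.prod_univ_succ]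
      simp only [Fin.cons_zero, Fin.cons_succ]
      rw [← hcard, ← Nat.card_zpowers a]
      have hzA : Subgroup.zpowers a ≤ A := Subgroup.zpowers_le.mpr haA
      have hcomm : ∀ (u : Subgroup.zpowers a) (v : G),
          Commute ((Subgroup.zpowers a).subtype u) (G.subtype v) :=
        fun u v => hAc u (hzA u.2) v (hGA v.2)
      have hinj : Function.Injective ((Subgroup.zpowers a).subtype.noncommCoprod G.subtype hcomm) := by
        rw [MonoidHom.noncommCoprod_injective]
        refine ⟨Subgroup.subtype_injective _, Subgroup.subtype_injective _, ?_⟩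
        rw [Subgroup.range_subtype, Subgroup.range_subtype, disjoint_iff, hdisj]
      have hr : ((Subgroup.zpowers a).subtype.noncommCoprod G.subtype hcomm).range =
          Subgroup.zpowers a ⊔ G := by
        rw [MonoidHom.noncommCoprod_range, Subgroup.range_subtype, Subgroup.range_subtype]
      have h1 := Nat.card_congr (MonoidHom.ofInjective hinj).toEquiv
      rw [Nat.card_prod, hr] at h1
      exact h1.symm
    · set J' := I ⊓ Subgroup.centralizer
        ((⨆ i, Subgroup.zpowers ((Fin.cons a g : Fin (k + 1) → S) i) : Subgroup S) : Set S)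
      have hmem : ∀ s, s ∈ J' ↔ s ∈ J ∧ s * a * s⁻¹ = a := by
        intro s
        constructor
        · rintro ⟨hs, hc⟩
          refine ⟨⟨hs, Subgroup.centralizer_le (SetLike.coe_subset_coe.mpr ?_) hc⟩, ?_⟩
          · exact iSup_le fun j => le_trans (by simp)
              (le_iSup (fun i => Subgroup.zpowers ((Fin.cons a g : Fin (k+1) → S) i)) j.succ)
          · have := Subgroup.mem_centralizer_iff.mp hc a (le_iSup (fun i => Subgroup.zpowers
              ((Fin.cons a g : Fin (k+1) → S) i)) 0 (by simp))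
            rw [← this, mul_inv_cancel_right]
        · rintro ⟨⟨hs, hc⟩, hsa⟩
          refine ⟨hs, Subgroup.mem_centralizer_iff.mpr ?_⟩
          intro x hx
          have hle : (⨆ i, Subgroup.zpowers ((Fin.cons a g : Fin (k + 1) → S) i)) ≤
              Subgroup.centralizer ({s} : Set S) := by
            refine iSup_le fun i => Subgroup.zpowers_le.mpr (Fin.cases ?_ (fun j => ?_) i)
            · simp only [Fin.cons_zero]
              rw [Subgroup.mem_centralizer_singleton_iff]
              exact (mul_inv_eq_iff_eq_mul.mp hsa).symm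
            · simp only [Fin.cons_succ]
              rw [Subgroup.mem_centralizer_singleton_iff]
              exact Subgroup.mem_centralizer_iff.mp hc _ (le_iSup (fun i => Subgroup.zpowers (g i)) j
                (Subgroup.mem_zpowers _))
          exact Subgroup.mem_centralizer_singleton_iff.mp (hle hx)
      have hle : J' ≤ J := fun s hs => ((hmem s).mp hs).1
      have hidx : J'.relIndex J = 2 := by
        rw [Subgroup.relIndex, Subgroup.index_eq_two_iff]
        refine ⟨⟨t, htJ⟩, fun b => ?_⟩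
        simp only [Subgroup.mem_subgroupOf, Subgroup.coe_mul, hmem]
        have hta' : (b : S) * t * a * ((b : S) * t)⁻¹ = ((b : S) * a * (b : S)⁻¹)⁻¹ := by
          calc (b : S) * t * a * ((b : S) * t)⁻¹ = (b : S) * (t * a * t⁻¹) * (b : S)⁻¹ := by group
            _ = _ := by rw [hta]; group
        have hane : a⁻¹ ≠ a := fun h => ha2 (by nth_rewrite 2 [← h]; exact mul_inv_cancel a)
        rcases hasign b b.2.1 with h | h
        · refine Or.inr ⟨⟨b.2, h⟩, fun hh => ?_⟩
          rw [hta', h] at hh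
          exact hane hh.2
        · refine Or.inl ⟨⟨J.mul_mem b.2 htJ, by rw [hta', h, inv_inv]⟩, fun hh => ?_⟩
          rw [h] at hh
          exact hane hh.2
      have h1 : Nat.card J' * J'.relIndex J = Nat.card J := by
        rw [← Subgroup.relIndex_bot_left, ← Subgroup.relIndex_bot_left]
        exact Subgroup.relIndex_mul_relIndex ⊥ J' J bot_le hle
      rw [hidx, hJ, show n - k = (n - (k + 1)) + 1 by omega, pow_succ] at h1
      exact Nat.eq_of_mul_eq_mul_right two_pos h1

end Cfsg.Agent.S4408
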