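import Cfsg.Statements.S4409
import Cfsg.Agent.Lib.NoncyclicEight.Structure
import Cfsg.Agent.Lib.Hall.Solvable
import Cfsg.Agent.Lib.PSolvable.HallHigman
import Cfsg.Agent.Lib.PSolvable.PSolv
import Cfsg.Agent.Lib.PSolvable.Core
import Cfsg.Agent.Lib.ExtraspecialOrder.Basic

set_option autoImplicit false
open Cfsg

namespace Cfsg.Agent.S4409

open Subgroup Cfsg.Agent.Lib Cfsg.Agent.Lib.NoncyclicEight
open scoped commutatorElement

variable {G : Type*} [Group G] [Finite G]

omit [Finite G] in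
theorem not_good_of {Y A : Subgroup G} (hA : A ≤ Y) (hc : IsMulCommutative A) (hn : ¬ IsCyclic A)
    (h8 : Nat.card A = 8) : ¬ Good Y := fun hg => hn (hg A hA hc h8)

theorem eq_bot_of_le {H P : Subgroup G} (hH : (Nat.card H).Coprime 2) (hP : IsPGroup 2 P)
    (hle : H ≤ P) : H = ⊥ := by
  refine card_eq_one.1 (Nat.eq_one_of_dvd_coprimes (coprime_card hH hP) dvd_rfl ?_)
  exact card_dvd_of_le hle

/-- `Y` is determined by `Y ⊔ H`. -/
theorem le_of_sup_eq_top {H Y X : Subgroup G} (hH : (Nat.card H).Coprime 2) (hX : IsPGroup 2 X)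
    (hYX : Y ≤ X) (hHY : H ≤ normalizer (Y : Set G)) (htop : Y ⊔ H = ⊤) : X ≤ Y := by
  intro x hx
  have hm : x ∈ ((Y ⊔ H : Subgroup G) : Set G) := by rw [htop]; exact mem_top x
  rw [coe_mul_of_right_le_normalizer_left Y H hHY] at hm
  obtain ⟨y, hy, h, hh, rfl⟩ := hm
  have hhX : h ∈ X := by simpa [mul_assoc] using mul_mem (inv_mem (hYX hy)) hx
  have hbot : H ⊓ X = ⊥ :=
    eq_bot_of_le (hH.coprime_dvd_left (card_dvd_of_le inf_le_left)) (hX.to_le inf_le_right) le_rfl
  have h1 : h = 1 := mem_bot.1 (hbot ▸ mem_inf.2 ⟨hh, hhX⟩)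
  subst h1
  simpa using hy

/-- The elements of a group of order at most two. -/
theorem mem_two {L : Subgroup G} (hL : Nat.card L ≤ 2) {t u : G} (ht : t ∈ L) (ht1 : t ≠ 1)
    (ht2 : t * t = 1) (hu : u ∈ L) : u = 1 ∨ u = t := by
  have : Fact (Nat.Prime 2) := ⟨Nat.prime_two⟩
  have he : zpowers t = L := eq_of_le_of_card_ge (zpowers_le.2 ht) (by
    rw [Nat.card_zpowers, orderOf_eq_prime (p := 2) (by rw [pow_two, ht2]) ht1]; exact hL)
  obtain ⟨i, rfl⟩ := mem_zpowers_iff.1 (he ▸ hu)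
  rcases Int.even_or_odd i with ⟨k, rfl⟩ | ⟨k, rfl⟩
  · left; rw [← two_mul, zpow_mul, zpow_ofNat, pow_two, ht2, one_zpow]
  · right; rw [zpow_add_one, zpow_mul, zpow_ofNat, pow_two, ht2, one_zpow, one_mul]

/-- A self-centralising four-group admits no abelian group of order `8` acting on it. -/
theorem false_of_four {R A : Subgroup G} (hA : IsMulCommutative A) (h8 : Nat.card A = 8)
    (h4 : Nat.card R = 4) (h2 : ∀ w ∈ R, w * w = 1) (hCR : centralizer (R : Set G) ≤ R)
    (hAR : A ≤ normalizer (R : Set G)) (hAp : IsPGroup 2 A) : False := by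
  have hRp := isPGroup_of_four h4
  have hRne : R ≠ ⊥ := fun h => by rw [h, card_bot] at h4; norm_num at h4
  have : Fact (Nat.Prime 2) := ⟨Nat.prime_two⟩
  set L := ⁅R, A⁆ with hL
  have hLlt : L < R := Coprime.commutator_lt_of_isPGroup hRp hAp hAR hRne
  have hL2 := Offenders.le_card_relIndex_step hRp hLlt
  have hAC : ¬ A ≤ centralizer (R : Set G) := fun h => by
    have := card_le_of_le (h.trans hCR); omega
  have hLfix : ∀ a ∈ A, ∀ t ∈ L, a * t * a⁻¹ = t := by
    intro a ha t ht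
    have hat : a * t * a⁻¹ ∈ L :=
      (mem_normalizer_iff.1 (Coprime.le_normalizer_commutator hAR le_normalizer ha) t).1 ht
    have hL' : Nat.card L ≤ 2 := by omega
    by_cases ht1 : t = 1
    · simp [ht1]
    exact (mem_two hL' ht ht1 (h2 t (hLlt.le ht)) hat).resolve_left fun e => ht1 (conj_eq_one_iff.1 e)
  obtain ⟨w, hwA, hw⟩ := SetLike.not_le_iff_exists.1 hAC
  have hrel : (A ⊓ centralizer (R : Set G)).relIndex A = 2 := by
    refine TwoGroup.relIndex_eq_two hwA (fun h => hw h.2) inf_le_left fun b hb => ?_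
    by_cases hbC : b ∈ centralizer (R : Set G)
    · exact Or.inl ⟨hb, hbC⟩
    refine Or.inr ⟨mul_mem hb hwA, ?_⟩
    -- both move some element by the nontrivial element of `L`
    obtain ⟨t, htL, ht1⟩ : ∃ t ∈ L, t ≠ 1 := by
      refine L.bot_or_exists_ne_one.resolve_left fun h => hw ?_
      exact (le_centralizer_iff.1 (commutator_eq_bot_iff_le_centralizer.1 h)) hwA
    have hLel : ∀ u ∈ L, u = 1 ∨ u = t := fun u hu =>
      mem_two (by omega) htL ht1 (h2 t (hLlt.le htL)) hu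
    have hmove : ∀ a ∈ A, ∀ r ∈ R, a * r * a⁻¹ = r ∨ a * r * a⁻¹ = t * r := by
      intro a ha r hr
      have hm : ⁅a, r⁆ ∈ L := by
        rw [hL, commutator_comm]; exact commutator_mem_commutator ha hr
      rw [show a * r * a⁻¹ = ⁅a, r⁆ * r by group]
      rcases hLel _ hm with h | h <;> rw [h]
      · exact Or.inl (one_mul r)
      · exact Or.inr rfl
    have htR : t ∈ R := hLlt.le htL
    have hmul : ∀ a ∈ A, a ∉ centralizer (R : Set G) → ∀ r ∈ R, r ≠ 1 → r ≠ t →
        a * r * a⁻¹ = t * r := by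
      intro a ha hac r hr hr1 hrt
      refine (hmove a ha r hr).resolve_left fun h => hac ?_
      obtain ⟨h4', -⟩ := four_closure (h2 t htR) (h2 r hr) ht1 hr1 hrt (comm_of_sq_one h2 t htR r hr)
      have hRU : R = zpowers t ⊔ zpowers r := (eq_of_le_of_card_ge
        (sup_le (zpowers_le.2 htR) (zpowers_le.2 hr)) (by rw [h4', h4])).symm
      have hle : R ≤ centralizer ({a} : Set G) := by
        rw [hRU]
        exact sup_le
          (zpowers_le.2 (mem_centralizer_singleton_iff.2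
            (mul_inv_eq_iff_eq_mul.1 (hLfix a ha t htL)).symm))
          (zpowers_le.2 (mem_centralizer_singleton_iff.2 (mul_inv_eq_iff_eq_mul.1 h).symm))
      exact mem_centralizer_iff.2 fun v hv => mem_centralizer_singleton_iff.1 (hle hv)
    refine mem_centralizer_iff.2 fun r hr => ?_
    suffices b * w * r * (b * w)⁻¹ = r from (mul_inv_eq_iff_eq_mul.1 this).symm
    rw [show b * w * r * (b * w)⁻¹ = b * (w * r * w⁻¹) * b⁻¹ by group]
    by_cases hr1 : r = 1
    · simp [hr1]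
    by_cases hrt : r = t
    · subst hrt; rw [hLfix w hwA _ htL, hLfix b hb _ htL]
    rw [hmul w hwA hw r hr hr1 hrt, show b * (t * r) * b⁻¹ = (b * t * b⁻¹) * (b * r * b⁻¹) by group,
      hLfix b hb t htL, hmul b hb hbC r hr hr1 hrt, ← mul_assoc, h2 t htR, one_mul]
  have hcardI : Nat.card ↥(A ⊓ centralizer (R : Set G)) = 4 := by
    have h := relIndex_mul_relIndex ⊥ (A ⊓ centralizer (R : Set G)) A bot_le inf_le_left
    rw [relIndex_bot_left, relIndex_bot_left, hrel, h8] at h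
    omega
  have hIR : A ⊓ centralizer (R : Set G) = R :=
    eq_of_le_of_card_ge (inf_le_right.trans hCR) (by rw [hcardI, h4])
  refine hAC fun a ha => mem_centralizer_iff.2 fun r hr => ?_
  exact congrArg Subtype.val (mul_comm' (⟨r, (mem_inf.1 (hIR.ge hr)).1⟩ : A) ⟨a, ha⟩)

/-- A self-centralising quaternion group of order `8` admits no noncyclic abelian group of order
`8` acting on it. -/
theorem false_of_eight {R A : Subgroup G} {z : G} (e : Eight R z) (hA : IsMulCommutative A)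
    (h8 : Nat.card A = 8) (hAc : ¬ IsCyclic A) (hCR : centralizer (R : Set G) ≤ R)
    (hAR : A ≤ normalizer (R : Set G)) (hAp : IsPGroup 2 A) : False := by
  have hRne : R ≠ ⊥ := fun h => by have := e.card; rw [h, card_bot] at this; norm_num at this
  have : Fact (Nat.Prime 2) := ⟨Nat.prime_two⟩
  have hK : ∀ a, (∀ w ∈ R, ⁅a, w⁆ = 1 ∨ ⁅a, w⁆ = z) → a ∈ R := by
    intro a ha
    obtain ⟨f, hf, hfc⟩ := e.exists_inner ha
    simpa using mul_mem hf (hCR hfc)
  have hinv : ∀ w ∈ R, w * w = 1 → w = 1 ∨ w = z := fun w hw h => by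
    rcases e.square w hw with h' | h' | h'
    · exact Or.inl h'
    · exact Or.inr h'
    · exact absurd (h.symm.trans h').symm e.ne
  have hzfix : ∀ a ∈ A, a * z * a⁻¹ = z := fun a ha =>
    (hinv _ ((mem_normalizer_iff.1 (hAR ha) z).1 e.mem) (by
      calc a * z * a⁻¹ * (a * z * a⁻¹) = a * (z * z) * a⁻¹ := by group
        _ = 1 := by rw [e.sq]; group)).resolve_left fun h => e.ne (conj_eq_one_iff.1 h)
  set L := ⁅R, A⁆ with hL
  have hLlt : L < R := Coprime.commutator_lt_of_isPGroup e.isPGroup hAp hAR hRne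
  have hLA : A ≤ normalizer (L : Set G) := Coprime.le_normalizer_commutator hAR le_normalizer
  have hmem : ∀ a ∈ A, ∀ r ∈ R, ⁅a, r⁆ ∈ L := fun a ha r hr => by
    rw [hL, commutator_comm]; exact commutator_mem_commutator ha hr
  have hAR' : ¬ A ≤ R := fun h => by
    have hAeq := eq_of_le_of_card_ge h (by rw [h8, e.card])
    refine e.nonabelian fun a ha b hb => ?_
    rw [← hAeq] at ha hb
    exact congrArg Subtype.val (mul_comm' (⟨a, ha⟩ : A) ⟨b, hb⟩)
  have hzL : z ∈ L := by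
    by_contra hzL
    refine hAR' fun a ha => hK a fun r hr => Or.inl ?_
    rcases e.square _ (hLlt.le (hmem a ha r hr)) with h | h | h
    · exact h
    · exact absurd (h ▸ hmem a ha r hr) hzL
    · exact absurd (h ▸ mul_mem (hmem a ha r hr) (hmem a ha r hr)) hzL
  have hz2 : Nat.card (zpowers z) = 2 := by
    rw [Nat.card_zpowers]; exact orderOf_eq_prime (by rw [pow_two, e.sq]) e.ne
  have hzz : ∀ u ∈ zpowers z, u = 1 ∨ u = z := fun u hu =>
    hinv u (zpowers_le.2 e.mem hu) (by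
      obtain ⟨i, rfl⟩ := mem_zpowers_iff.1 hu
      rw [← (Commute.refl z).mul_zpow, e.sq, one_zpow])
  have hlt : zpowers z < L := by
    refine lt_of_le_of_ne (zpowers_le.2 hzL) fun h => hAR' fun a ha => hK a fun r hr => ?_
    exact hzz _ (h ▸ hmem a ha r hr)
  have hL4 : Nat.card L = 4 := by
    have h1 := Offenders.le_card_relIndex_step e.isPGroup hLlt
    have h2 := Offenders.le_card_relIndex_step (e.isPGroup.to_le hLlt.le) hlt
    rw [e.card] at h1
    omega
  have hiz := relIndex_two_of_card (zpowers_le.2 hzL) Nat.card_pos (by rw [hz2, hL4])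
  have hiL := relIndex_two_of_card hLlt.le Nat.card_pos (by rw [e.card, hL4])
  have hprod : ∀ u ∈ L, ∀ v ∈ L, u ∉ zpowers z → v ∉ zpowers z → u * v ∈ zpowers z := by
    intro u hu v hv h1 h2
    have h := mul_mem_iff_of_index_two hiz (a := (⟨u, hu⟩ : L)) (b := ⟨v, hv⟩)
    rw [mem_subgroupOf, mem_subgroupOf, mem_subgroupOf] at h
    exact h.2 (iff_of_false h1 h2)
  have hprodR : ∀ u ∈ R, ∀ v ∈ R, u ∉ L → v ∉ L → u * v ∈ L := by
    intro u hu v hv h1 h2
    have h := mul_mem_iff_of_index_two hiL (a := (⟨u, hu⟩ : R)) (b := ⟨v, hv⟩)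
    rw [mem_subgroupOf, mem_subgroupOf, mem_subgroupOf] at h
    exact h.2 (iff_of_false h1 h2)
  obtain ⟨r₀, hr₀, hr₀L⟩ := SetLike.exists_of_lt hLlt
  have hcz : ∀ u ∈ zpowers z, ∀ a ∈ A, a * u * a⁻¹ = u := fun u hu a ha => by
    rcases hzz u hu with rfl | rfl
    · group
    · exact hzfix a ha
  have hconjz : ∀ u, u ∉ zpowers z → ∀ a ∈ A, a * u * a⁻¹ ∉ zpowers z := by
    intro u hu a ha h
    refine hu ?_
    have h' := hcz _ h a⁻¹ (inv_mem ha)
    rw [show a⁻¹ * (a * u * a⁻¹) * a⁻¹⁻¹ = u by group] at h'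
    rw [h']; exact h
  -- how elements of `A` act
  have hKA : ∀ a ∈ A, ⁅a, r₀⁆ ∈ zpowers z → a ∈ R := by
    intro a ha har
    have hLact : ∀ u ∈ L, ⁅a, u⁆ ∈ zpowers z := by
      intro u hu
      by_cases huz : u ∈ zpowers z
      · rw [commutatorElement_def, hcz u huz a ha, mul_inv_cancel]; exact one_mem _
      · rw [commutatorElement_def]
        exact hprod _ ((mem_normalizer_iff.1 (hLA ha) u).1 hu) _ (inv_mem hu) (hconjz u huz a ha)
          (fun h => huz (inv_mem_iff.1 h))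
    refine hK a fun w hw => hzz _ ?_
    by_cases hwL : w ∈ L
    · exact hLact w hwL
    have hwr : w * r₀⁻¹ ∈ L := hprodR w hw _ (inv_mem hr₀) hwL (fun h => hr₀L (inv_mem_iff.1 h))
    rw [show ⁅a, w⁆ = ⁅a, w * r₀⁻¹⁆ * ((w * r₀⁻¹) * ⁅a, r₀⁆ * (w * r₀⁻¹)⁻¹) by group]
    refine mul_mem (hLact _ hwr) ?_
    rcases hzz _ har with h | h <;> rw [h]
    · simp
    · rw [← e.central _ (hLlt.le hwr), mul_inv_cancel_right]; exact mem_zpowers z
  obtain ⟨a, haA, haR⟩ := SetLike.not_le_iff_exists.1 hAR'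
  have hlam : ⁅a, r₀⁆ ∉ zpowers z := fun h => haR (hKA a haA h)
  have hrel : (A ⊓ R).relIndex A = 2 := by
    refine TwoGroup.relIndex_eq_two haA (fun h => haR h.2) inf_le_left fun b hb => ?_
    by_cases hbR : b ∈ R
    · exact Or.inl ⟨hb, hbR⟩
    refine Or.inr ⟨mul_mem hb haA, hKA _ (mul_mem hb haA) ?_⟩
    rw [show ⁅b * a, r₀⁆ = (b * ⁅a, r₀⁆ * b⁻¹) * ⁅b, r₀⁆ by group]
    exact hprod _ ((mem_normalizer_iff.1 (hLA hb) _).1 (hmem a haA _ hr₀)) _ (hmem b hb _ hr₀)
      (hconjz _ hlam b hb) (fun h => hbR (hKA b hb h))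
  have hI4 : Nat.card ↥(A ⊓ R) = 4 := by
    have h := relIndex_mul_relIndex ⊥ (A ⊓ R) A bot_le inf_le_left
    rw [relIndex_bot_left, relIndex_bot_left, hrel, h8] at h
    omega
  obtain ⟨g, hg, hgz⟩ : ∃ g ∈ A ⊓ R, g ∉ zpowers z := by
    refine SetLike.not_le_iff_exists.1 fun h => ?_
    have := card_le_of_le h
    omega
  have hag : a * g * a⁻¹ = g := by
    rw [mul_inv_eq_iff_eq_mul]
    exact congrArg Subtype.val (mul_comm' (⟨a, haA⟩ : A) ⟨g, hg.1⟩)
  have hgL : g ∈ L := by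
    by_contra hgL
    have hμ : g * r₀⁻¹ ∈ L := hprodR g hg.2 _ (inv_mem hr₀) hgL (fun h => hr₀L (inv_mem_iff.1 h))
    refine hlam ?_
    have h1 : ⁅a, r₀⁆ = (a * (g * r₀⁻¹) * a⁻¹)⁻¹ * (g * r₀⁻¹) := by
      rw [show (a * (g * r₀⁻¹) * a⁻¹)⁻¹ * (g * r₀⁻¹) = (a * r₀ * a⁻¹) * (a * g * a⁻¹)⁻¹ * g * r₀⁻¹
        by group, hag, inv_mul_cancel_right, commutatorElement_def]
    rw [h1]
    by_cases hμz : g * r₀⁻¹ ∈ zpowers z
    · rw [hcz _ hμz a haA, inv_mul_cancel]; exact one_mem _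
    · exact hprod _ (inv_mem ((mem_normalizer_iff.1 (hLA haA) _).1 hμ)) _ hμ
        (fun h => hconjz _ hμz a haA (inv_mem_iff.1 h)) hμz
  have hafix : a * ⁅a, r₀⁆ * a⁻¹ = ⁅a, r₀⁆ := by
    have h := hprod _ (inv_mem hgL) _ (hmem a haA _ hr₀) (fun h => hgz (inv_mem_iff.1 h)) hlam
    rw [show a * ⁅a, r₀⁆ * a⁻¹ = (a * g * a⁻¹) * (a * (g⁻¹ * ⁅a, r₀⁆) * a⁻¹) by group, hag,
      hcz _ h a haA, mul_inv_cancel_left]
  have hsq : ⁅a, r₀⁆ * ⁅a, r₀⁆ = z := by
    rcases e.square _ (hLlt.le (hmem a haA _ hr₀)) with h | h | h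
    · exact absurd (h ▸ one_mem _) hlam
    · exact absurd (h ▸ mem_zpowers z) hlam
    · exact h
  have ha2 : ⁅a * a, r₀⁆ = z := by
    rw [show ⁅a * a, r₀⁆ = (a * ⁅a, r₀⁆ * a⁻¹) * ⁅a, r₀⁆ by group, hafix, hsq]
  have ha2R : a * a ∈ R := hKA _ (mul_mem haA haA) (ha2 ▸ mem_zpowers z)
  have hcomm0 : ∀ u ∈ zpowers z, ⁅u, r₀⁆ = 1 := fun u hu => by
    rcases hzz u hu with rfl | rfl
    · simp
    · exact commutatorElement_eq_one_iff_mul_comm.2 (e.central r₀ hr₀)
  have ha4 : a * a * (a * a) = z := by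
    rcases e.square _ ha2R with h | h | h
    · exact absurd (ha2.symm.trans (hcomm0 _ (h ▸ one_mem _))) e.ne
    · exact absurd (ha2.symm.trans (hcomm0 _ (h ▸ mem_zpowers z))) e.ne
    · exact h
  refine hAc (isCyclic_of_orderOf_eq_card (⟨a, haA⟩ : A) ?_)
  rw [← orderOf_injective A.subtype A.subtype_injective, h8, show (8 : ℕ) = 2 ^ (2 + 1) from rfl]
  refine orderOf_eq_prime_pow (p := 2) (n := 2) ?_ ?_
  · rw [show (2 : ℕ) ^ 2 = 2 + 2 from rfl, pow_add, pow_two]
    exact fun h => e.ne (ha4.symm.trans h)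
  · rw [show (2 : ℕ) ^ (2 + 1) = (2 + 2) * 2 from rfl, pow_mul, pow_add]
    show (a ^ 2 * a ^ 2) ^ 2 = 1
    rw [pow_two a, ha4, pow_two, e.sq]

/-- The quaternion alternative, as an isomorphism. -/
theorem quaternion_of_eight {W : Subgroup G} {z : G} (e : Eight W z) :
    Nonempty (↥W ≃* QuaternionGroup (2 ^ (0 + 1))) := by
  obtain ⟨i, hi, j, hj, hc, hii, hjj, hjn, -⟩ := e.exists_gen
  have hi4 : orderOf i = 2 * 2 := by
    rw [show 2 * 2 = 2 ^ (1 + 1) from rfl]
    exact orderOf_eq_prime_pow (p := 2) (n := 1) (by rw [pow_one, pow_two, hii]; exact e.ne)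
      (by rw [show (2 : ℕ) ^ (1 + 1) = 2 * 2 from rfl, pow_mul, pow_two i, hii, pow_two, e.sq])
  have hidx := relIndex_two_of_card (zpowers_le.2 hi) Nat.card_pos
    (by rw [Nat.card_zpowers, hi4, e.card])
  refine TwoGroup.nonempty_mulEquiv_quaternion (m := 2) hi4 (by rw [hjj, pow_two, hii]) ?_ hjn W hi hj
    fun g hg => ?_
  · have hji : ⁅j, i⁆ = z := by
      rw [← commutatorElement_inv i j, hc]
      exact inv_eq_of_mul_eq_one_right e.sq
    rw [show j * i * j⁻¹ = ⁅j, i⁆ * i by group, hji]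
    refine eq_inv_of_mul_eq_one_left ?_
    rw [mul_assoc, hii, e.sq]
  · by_cases hgi : g ∈ zpowers i
    · exact Or.inl hgi
    · have h := mul_mem_iff_of_index_two hidx (a := (⟨j, hj⟩ : W)) (b := ⟨g, hg⟩)
      rw [mem_subgroupOf, mem_subgroupOf, mem_subgroupOf] at h
      exact Or.inr (h.2 (iff_of_false hjn hgi))


/-- Let S be a finite solvable group with O_{2'}(S) = 1 that contains a non-cyclic abelian subgroup of order 8, while no proper subgroup of S of 2-power index contains one. Then a Sylow 2-subgroup X of S is normal in S, and one of the following holds: X is abelian; X is extraspecial of order at least 32; X has a generalized quaternion subgroup X₀ of index 2 with X = X₀·C_X(X₀); or X is special with centre of order 4. -/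
theorem result {S : Type*} [Group S] [Finite S]
    [Group.IsSolvable S] (hO : Cfsg.pPrimeCore 2 S = ⊥)
    (h8 : ∃ A : Subgroup S, IsMulCommutative ↥A ∧ ¬ IsCyclic ↥A ∧ Nat.card ↥A = 8)
    (hmin : ∀ R : Subgroup S, R ≠ ⊤ → (∃ k : ℕ, R.index = 2 ^ k) →
      ¬ ∃ A : Subgroup S, A ≤ R ∧ IsMulCommutative ↥A ∧ ¬ IsCyclic ↥A ∧ Nat.card ↥A = 8)
    (X : Sylow 2 S) :
    (X : Subgroup S).Normal ∧
      (IsMulCommutative ↥X ∨
        (Cfsg.IsExtraspecial 2 ↥X ∧ 32 ≤ Nat.card ↥X) ∨
        (∃ (X₀ : Subgroup S) (k : ℕ), X₀ ≤ (X : Subgroup S) ∧ X₀.relIndex (X : Subgroup S) = 2 ∧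
          Nonempty (↥X₀ ≃* QuaternionGroup (2 ^ (k + 1))) ∧ X₀ ⊔ ((X : Subgroup S) ⊓ Subgroup.centralizer (X₀ : Set S)) = (X : Subgroup S)) ∨
        (Cfsg.IsSpecial 2 ↥X ∧ Nat.card ↥(Subgroup.center ↥X) = 4)) := by
  have : Fact (Nat.Prime 2) := ⟨Nat.prime_two⟩
  obtain ⟨A, hA, hAc, hA8⟩ := h8
  have hAp : IsPGroup 2 A := IsPGroup.of_card (n := 3) (by rw [hA8]; norm_num)
  obtain ⟨H, hHall⟩ := Hall.exists_isPiHall (G := S) {q : ℕ | q ≠ 2}
  have hH : (Nat.card H).Coprime 2 := by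
    refine Nat.Coprime.symm ((Nat.Prime.coprime_iff_not_dvd Nat.prime_two).2 fun h => ?_)
    exact hHall.1 2 Nat.prime_two h rfl
  obtain ⟨k, hk⟩ : ∃ k, H.index = 2 ^ k := by
    refine ⟨_, Nat.eq_prime_pow_of_unique_prime_dvd index_ne_zero_of_finite fun {q} hq hqd => ?_⟩
    by_contra hne
    exact hHall.2 q hq hne hqd
  have hidx : ∀ Y : Subgroup S, ∃ k', (Y ⊔ H).index = 2 ^ k' := fun Y => by
    obtain ⟨k', -, hk'⟩ := (Nat.dvd_prime_pow Nat.prime_two).1
      (hk ▸ index_dvd_of_le (le_sup_right : H ≤ Y ⊔ H))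
    exact ⟨k', hk'⟩
  have hgood : ∀ Y : Subgroup S, Y ⊔ H ≠ ⊤ → Good Y := by
    intro Y hne B hB hBc hB8
    by_contra hcyc
    exact hmin _ hne (hidx Y) ⟨B, hB.trans le_sup_left, hBc, hcyc, hB8⟩
  set R := Cfsg.pCore 2 S with hR
  have hRn : R.Normal := Subgroup.sSup_normal _ (fun _ h => h.1)
  have hRp : IsPGroup 2 R := PSolvable.pCore_isPGroup
  have hRX : R ≤ (X : Subgroup S) := PSolvable.pCore_le_sylow X
  have hCR : centralizer (R : Set S) ≤ R :=
    PSolvable.centralizer_pCore_le_of_isPSolvable PSolvable.isPSolvable_of_isSolvable hO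
  have hNR : ∀ K : Subgroup S, K ≤ normalizer (R : Set S) := fun K g _ => by
    rw [normalizer_eq_top]; exact mem_top g
  -- `X = R`
  have hRH : R ⊔ H = ⊤ := by
    by_contra hne
    have hg := hgood R hne
    have hW : ⁅R, H⁆ ≠ ⊥ := by
      intro hbot
      have hHR : H ≤ R := (le_centralizer_iff.1
        (commutator_eq_bot_iff_le_centralizer.1 hbot)).trans hCR
      have hHbot := eq_bot_of_le hH hRp hHR
      rw [hHbot, index_bot] at hk
      have : R = ⊤ := by
        haveI : (⊤ : Subgroup S).Normal := inferInstance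
        exact top_le_iff.1 (PSolvable.le_pCore (IsPGroup.of_card (n := k) (by rw [card_top, hk])))
      exact hne (by rw [this, top_sup_eq])
    have hWR : ⁅R, H⁆ ≤ R := Coprime.commutator_le_of_le_normalizer (hNR H)
    have hWH : ⁅⁅R, H⁆, H⁆ = ⁅R, H⁆ :=
      Coprime.commutator_commutator_eq (hNR H) (coprime_card hH (hRp.to_le hWR))
    have hsmall := small_of_good (hRp.to_le hWR) hH
      (Coprime.le_normalizer_commutator (hNR H) le_normalizer) hWH hW (hg.mono hWR)
    have heq := good_eq_commutator hRp hg hH (hNR H) hsmall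
    rw [← heq] at hsmall
    rcases hsmall with ⟨h4, h2⟩ | ⟨z, e⟩
    · exact false_of_four hA hA8 h4 h2 hCR (hNR A) hAp
    · exact false_of_eight e hA hA8 hAc hCR (hNR A) hAp
  have hXR : (X : Subgroup S) = R :=
    le_antisymm (le_of_sup_eq_top hH X.isPGroup' hRX (hNR H) hRH) hRX
  have hAX : A ≤ (X : Subgroup S) := by
    obtain ⟨P, hP⟩ := hAp.exists_le_sylow
    haveI : (X : Subgroup S).Normal := hXR ▸ hRn
    obtain ⟨g, hg⟩ := MulAction.exists_smul_eq S X P
    rw [← hg, Sylow.smul_eq_of_normal] at hP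
    exact hP
  refine ⟨hXR ▸ hRn, ?_⟩
  set Y := (X : Subgroup S) with hY
  have hYp : IsPGroup 2 Y := X.isPGroup'
  have hHY : H ≤ normalizer (Y : Set S) := by rw [hXR]; exact hNR H
  have hab : (∀ a ∈ Y, ∀ b ∈ Y, a * b = b * a) → IsMulCommutative ↥Y := fun h =>
    ⟨⟨fun a b => Subtype.ext (h a a.2 b b.2)⟩⟩
  have habA : Y ≤ A → IsMulCommutative ↥Y := fun h => hab fun a ha b hb =>
    congrArg Subtype.val (mul_comm' (⟨a, h ha⟩ : A) ⟨b, h hb⟩)
  have hprop : ∀ Z < Y, H ≤ normalizer (Z : Set S) → Good Z := fun Z hZ hHZ => hgood Z fun htop =>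
    hZ.not_ge (le_of_sup_eq_top hH hYp hZ.le hHZ htop)
  set W := ⁅Y, H⁆ with hWd
  by_cases hW : W = ⊥
  · left
    have hHR : H ≤ R := by
      rw [← hXR] at hCR ⊢
      exact (le_centralizer_iff.1 (commutator_eq_bot_iff_le_centralizer.1 hW)).trans hCR
    have hHbot := eq_bot_of_le hH hRp hHR
    refine habA (le_of_eq ?_)
    have htop : A = ⊤ := by
      by_contra hne
      refine hmin A hne ?_ ⟨A, le_rfl, hA, hAc, hA8⟩
      obtain ⟨k', -, hk'⟩ := (Nat.dvd_prime_pow Nat.prime_two).1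
        (show A.index ∣ 2 ^ k by rw [← hk, hHbot, index_bot]; exact A.index_dvd_card)
      exact ⟨k', hk'⟩
    exact le_antisymm (htop ▸ le_top) hAX
  have hWY : W ≤ Y := Coprime.commutator_le_of_le_normalizer hHY
  have hWH : ⁅W, H⁆ = W := Coprime.commutator_commutator_eq hHY (coprime_card hH (hYp.to_le hWY))
  have hHW : H ≤ normalizer (W : Set S) := Coprime.le_normalizer_commutator hHY le_normalizer
  by_cases hWeq : W = Y
  · have hne : Y ≠ ⊥ := hWeq ▸ hW
    rcases shape hYp hH hHY hWeq hne hprop with h | ⟨Φ, s⟩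
    · exact Or.inl (hab h)
    by_cases hc : IsMulCommutative ↥Y
    · exact Or.inl hc
    have hcen : (center ↥Y).map Y.subtype = Φ := by
      refine le_antisymm ?_ fun w hw => ?_
      · rintro _ ⟨w, hw, rfl⟩
        exact s.center_le ⟨w.2, mem_centralizer_iff.2 fun v hv =>
          congrArg Subtype.val (mem_center_iff.1 hw ⟨v, hv⟩)⟩
      · exact ⟨⟨w, s.le hw⟩, mem_center_iff.2 fun v => Subtype.ext
          (mem_centralizer_iff.1 (s.central v.2) w hw).symm, rfl⟩
    have hf : frattini ↥Y = center ↥Y :=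
      map_injective Y.subtype_injective (by rw [s.frattini_eq, hcen])
    have hd : commutator ↥Y = center ↥Y :=
      map_injective Y.subtype_injective (by rw [map_subtype_commutator, s.commutator_eq, hcen])
    have hsp : Cfsg.IsSpecial 2 ↥Y := ⟨hYp, hf, hd⟩
    have hcard : Nat.card (center ↥Y) = Nat.card Φ := by
      rw [← hcen, card_map_of_injective Y.subtype_injective]
    rcases s.card with h | h
    · right; left
      have hex : Cfsg.IsExtraspecial 2 ↥Y := ⟨hsp, by rw [hcard, h]⟩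
      obtain ⟨n, hn, hnc⟩ := ExtraspecialOrder.exists_card_eq hex
      refine ⟨hex, ?_⟩
      rcases Nat.lt_or_ge n 2 with hn2 | hn2
      · obtain rfl : n = 1 := by omega
        exact absurd (habA (eq_of_le_of_card_ge hAX (by rw [hA8, hnc]; norm_num)).ge) hc
      · show 32 ≤ Nat.card ↥Y
        rw [hnc]
        calc 32 = 2 ^ 5 := by norm_num
          _ ≤ 2 ^ (2 * n + 1) := Nat.pow_le_pow_right (by norm_num) (by omega)
    · exact Or.inr (Or.inr (Or.inr ⟨hsp, hcard.trans h⟩))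
  have hWlt : W < Y := lt_of_le_of_ne hWY hWeq
  have hgW := hprop W hWlt hHW
  have hsmall := small_of_good (hYp.to_le hWY) hH hHW hWH hW hgW
  set C := Y ⊓ centralizer (H : Set S) with hC
  have hWC : W ⊔ C = Y := Coprime.commutator_sup_centralizer hHY
    (coprime_card hH (hYp.to_le hWY)) (Or.inr inferInstance)
  have hCfix : ∀ y ∈ C, H ≤ normalizer ((zpowers y : Subgroup S) : Set S) := fun y hy =>
    (le_centralizer_iff.1 (zpowers_le.2 hy.2)).trans (centralizer_le_normalizer _)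
  have hsupN : ∀ y ∈ C, H ≤ normalizer ((W ⊔ zpowers y : Subgroup S) : Set S) := fun y hy =>
    (le_inf hHW (hCfix y hy)).trans (normalizer_inf_normalizer_le_normalizer_sup _ _)
  rcases small_commutator hsmall hH hHW hWH hYp (normalizer_commutator_ge_left Y H) hHY with
    ⟨h4, h2, hc⟩ | ⟨z, e, hx⟩
  · left
    have hWab : IsMulCommutative W := ⟨⟨fun a b => Subtype.ext (comm_of_sq_one h2 a a.2 b b.2)⟩⟩
    obtain ⟨y, hyC, hy2, hy1⟩ : ∃ y ∈ C, y * y = 1 ∧ y ≠ 1 := by
      have hne : Nontrivial C := by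
        rw [nontrivial_iff_ne_bot]
        intro hbot
        rw [hbot, sup_bot_eq] at hWC
        exact hWeq hWC
      obtain ⟨n, hn0, hn⟩ := (hYp.to_le (inf_le_left : C ≤ Y)).nontrivial_iff_card.1 hne
      obtain ⟨y, hy⟩ := exists_prime_orderOf_dvd_card' (G := C) 2
        (hn ▸ dvd_pow_self 2 (by omega))
      refine ⟨y, y.2, ?_, fun h => ?_⟩
      · have := pow_orderOf_eq_one y
        rw [hy, pow_two] at this
        exact congrArg Subtype.val this
      · have : y = 1 := Subtype.ext h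
        rw [this, orderOf_one] at hy
        norm_num at hy
    have hyW : y ∉ W := fun h => hy1 (by
      have hbot := Coprime.inf_centralizer_inf_commutator_eq_bot hHW
        (coprime_card hH (hYp.to_le hWY))
      rw [hWH] at hbot
      exact mem_bot.1 (hbot ▸ mem_inf.2 ⟨mem_inf.2 ⟨h, hyC.2⟩, h⟩))
    set M := W ⊔ zpowers y with hM
    have hMY : M ≤ Y := sup_le hWY (zpowers_le.2 hyC.1)
    have hMab : IsMulCommutative M := ThompsonA.isMulCommutative_sup hWab inferInstance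
      fun a ha b hb => mem_centralizer_iff.1 (hc (zpowers_le.2 hyC.1 hb)) a ha
    have hM8 : Nat.card M = 8 := by
      rw [hM, card_sup_zpowers hyW (by rw [pow_two, hy2]; exact one_mem _)
        (centralizer_le_normalizer _ (hc hyC.1)), h4]
    have hMel : ∀ w ∈ M, w * w = 1 := by
      intro w hw
      have he : IsElementaryAbelian 2 M :=
        ElemAbelian.sup (ElemAbelian.of_comm_of_pow (fun a ha b hb => comm_of_sq_one h2 a ha b hb)
          (fun a ha => by rw [pow_two]; exact h2 a ha)) (ElemAbelian.zpowers (by rw [pow_two, hy2]))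
          fun a ha b hb => (mem_centralizer_iff.1 (hc (zpowers_le.2 hyC.1 hb)) a ha).symm
      rw [← pow_two]
      exact he.2 w hw
    have hng : ¬ Good M := by
      refine not_good_of le_rfl hMab (fun hcyc => ?_) hM8
      obtain ⟨w, hw⟩ := hcyc.exists_ofOrder_eq_natCard
      rw [hM8] at hw
      have hd : orderOf w ∣ 2 := orderOf_dvd_of_pow_eq_one
        (Subtype.ext (by push_cast; rw [pow_two]; exact hMel _ w.2))
      rw [hw] at hd
      norm_num at hd
    have hMeq : M = Y := (eq_or_lt_of_le hMY).resolve_right fun h =>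
      hng (hprop M h (hsupN y hyC))
    show IsMulCommutative ↥Y
    rw [← hMeq]
    exact hMab
  · right; right; left
    have hzH : ∀ h ∈ H, h * z * h⁻¹ = z := fun h hh => by
      rcases e.square _ ((mem_normalizer_iff.1 (hHW hh) z).1 e.mem) with h' | h' | h'
      · exact absurd (conj_eq_one_iff.1 h') e.ne
      · exact h'
      · rw [show h * z * h⁻¹ * (h * z * h⁻¹) = h * (z * z) * h⁻¹ by group, e.sq] at h'
        exact absurd (by rw [← h']; group) e.ne
    have hCW : C ≤ centralizer (W : Set S) := by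
      have h1 : ⁅⁅H, C⁆, W⁆ = ⊥ := by
        rw [commutator_eq_bot_iff_le_centralizer.2 (le_centralizer_iff.1 inf_le_right),
          commutator_bot_left]
      have h2 : ⁅⁅C, W⁆, H⁆ = ⊥ := by
        rw [commutator_eq_bot_iff_le_centralizer]
        refine commutator_le.2 fun c hc w hw => mem_centralizer_iff.2 fun h hh => ?_
        rcases hx c hc.1 w hw with h' | h' <;> rw [h']
        · simp
        · exact mul_inv_eq_iff_eq_mul.1 (hzH h hh)
      have h3 := commutator_commutator_eq_bot_of_rotate h1 h2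
      rw [hWH, commutator_eq_bot_iff_le_centralizer] at h3
      exact le_centralizer_iff.1 h3
    have hzW : zpowers z ≤ W := zpowers_le.2 e.mem
    obtain ⟨c, hcC, hcz⟩ : ∃ c ∈ C, c ∉ zpowers z := by
      refine SetLike.not_le_iff_exists.1 fun h => hWeq ?_
      rw [← hWC]
      exact (sup_eq_left.2 (h.trans hzW)).symm
    obtain ⟨y, -, hyz, hy2, hyC⟩ :=
      exists_square_mem (U := zpowers z) (hYp.to_le (inf_le_left : C ≤ Y)) hcC hcz
    have hyW : y ∉ W := fun h =>
      hyz (e.centralizer_le (hYp.to_le hWY) hgW le_rfl ⟨h, hCW hyC⟩)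
    set M := W ⊔ zpowers y with hM
    have hMY : M ≤ Y := sup_le hWY (zpowers_le.2 hyC.1)
    have hMeq : M = Y := (eq_or_lt_of_le hMY).resolve_right fun h =>
      hyz (e.centralizer_le (hYp.to_le hMY) (hprop M h (hsupN y hyC)) le_sup_left
        ⟨mem_sup_right (mem_zpowers y), hCW hyC⟩)
    refine ⟨W, 0, hWY, ?_, quaternion_of_eight e, ?_⟩
    · have h16 := card_sup_zpowers hyW (hzW hy2) (centralizer_le_normalizer _ (hCW hyC))
      rw [← hM, hMeq] at h16
      have h := relIndex_mul_relIndex ⊥ W Y bot_le hWY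
      rw [relIndex_bot_left, relIndex_bot_left, h16, e.card] at h
      omega
    · refine le_antisymm (sup_le hWY inf_le_left) ?_
      rw [← hMeq]
      refine sup_le le_sup_left (zpowers_le.2 (mem_sup_right ?_))
      exact ⟨hMeq ▸ (hMY (mem_sup_right (mem_zpowers y))), hCW hyC⟩

end Cfsg.Agent.S4409
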