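import Cfsg.Statements.S4410
import Mathlib
import Cfsg.Agent.Lib.Core.Fitting
import Cfsg.Agent.Lib.PSolvable.Core
-- import your own Cfsg.Agent.* helpers here

set_option autoImplicit false
open Cfsg

namespace Cfsg.Agent.S4410

section

variable {V : Type*} [AddCommGroup V] [Module (ZMod 2) V]

theorem add_self_eq_zero' (v : V) : v + v = 0 := by
  rw [← two_smul (ZMod 2) v, show (2 : ZMod 2) = 0 from rfl, zero_smul]

theorem scalar_cases (a : ZMod 2) : a = 0 ∨ a = 1 := by
  revert a; decide

/-- An element of odd order fixing `W` pointwise and trivial modulo `W` is trivial. -/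
theorem eq_one_of_fix {W : Submodule (ZMod 2) V} {x : V ≃ₗ[ZMod 2] V} (hodd : Odd (orderOf x))
    (hmod : ∀ v, x v + v ∈ W) (hfix : ∀ w ∈ W, x w = w) : x = 1 := by
  have h2 : x ^ 2 = 1 := by
    rw [pow_two]
    refine LinearEquiv.ext fun v => ?_
    show x (x v) = v
    have h := hfix _ (hmod v)
    rw [map_add] at h
    exact add_right_cancel (h.trans (add_comm _ _))
  rcases (Nat.dvd_prime Nat.prime_two).mp (orderOf_dvd_of_pow_eq_one h2) with h | h
  · exact orderOf_eq_one_iff.mp h
  · rw [h] at hodd; exact absurd hodd (by decide)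

/-- The units of the endomorphisms of a space of dimension at most two have order dividing six. -/
theorem card_units_end [Finite V] (U : Submodule (ZMod 2) V) :
    (Module.finrank (ZMod 2) U ≤ 2 → Nat.card (Module.End (ZMod 2) U)ˣ ∣ 6) ∧
      (Module.finrank (ZMod 2) U ≤ 3 → ¬ 9 ∣ Nat.card (Module.End (ZMod 2) U)ˣ) := by
  have e := (Units.mapEquiv (LinearMap.toMatrixAlgEquiv
    (Module.finBasis (ZMod 2) U)).toMulEquiv).toEquiv
  have hc : Nat.card (Module.End (ZMod 2) U)ˣ =
      Nat.card (Matrix.GeneralLinearGroup (Fin (Module.finrank (ZMod 2) U)) (ZMod 2)) := Nat.card_congr e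
  rw [hc, Matrix.card_GL_field, ZMod.card]
  constructor <;> intro h <;> generalize Module.finrank (ZMod 2) U = d at * <;>
    interval_cases d <;> simp [Fin.prod_univ_succ]

end

/-- Let V be a finite-dimensional vector space over the field with two elements and S a solvable group of linear automorphisms of V with O₂(S) = 1. If P ∈ S has order 4 and (P − 1)³ = 0 on V, then the image of (P − 1)² has at least 4 elements; equivalently, in the decomposition of V into indecomposable modules for the cyclic group generated by P, at least two summands have dimension 3. -/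
theorem result
    {V : Type*} [AddCommGroup V] [Module (ZMod 2) V] [Finite V]
    (S : Subgroup (V ≃ₗ[ZMod 2] V)) (hS : Group.IsSolvable ↥S) (hO2 : Cfsg.pCore 2 ↥S = ⊥)
    (P : V ≃ₗ[ZMod 2] V) (hPS : P ∈ S) (hP4 : orderOf P = 4)
    (hcub : ((P : V →ₗ[ZMod 2] V) - LinearMap.id) ^ 3 = 0) :
    4 ≤ Nat.card ↥(LinearMap.range (((P : V →ₗ[ZMod 2] V) - LinearMap.id) ^ 2)) := by
  classical
  haveI : Finite (V ≃ₗ[ZMod 2] V) := DFunLike.finite _
  set F := Cfsg.fittingSubgroup ↥S with hFdef
  haveI : F.Normal := Lib.Fitting.fittingSubgroup_normal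
  haveI hFnil : Group.IsNilpotent F := Lib.Fitting.isNilpotent_fittingSubgroup
  haveI : Group.IsSolvable ↥S := hS
  haveI := Fact.mk Nat.prime_two
  haveI := Fact.mk Nat.prime_three
  -- the Fitting subgroup has odd order
  have hFodd : Odd (Nat.card F) := by
    rw [Nat.odd_iff]
    by_contra h
    have h2 : 2 ∣ Nat.card F := by omega
    obtain ⟨R⟩ := (inferInstance : Nonempty (Sylow 2 F))
    haveI : (R : Subgroup F).Characteristic := R.characteristic_of_normal inferInstance
    haveI : ((R : Subgroup F).map F.subtype).Normal := ConjAct.normal_of_characteristic_of_normal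
    have hle := Lib.PSolvable.le_pCore (N := (R : Subgroup F).map F.subtype) (R.2.map F.subtype)
    rw [hO2, le_bot_iff, Subgroup.map_eq_bot_iff_of_injective _ F.subtype_injective] at hle
    obtain ⟨x, hx⟩ := exists_prime_orderOf_dvd_card' (G := F) 2 h2
    obtain ⟨k, hk⟩ := IsPGroup.iff_card.mp R.2
    have := R.card_eq_multiplicity
    rw [hle, Subgroup.card_bot] at this
    have h3 : (Nat.card F).factorization 2 = 0 := by
      by_contra h4
      exact absurd this.symm (Nat.one_lt_two_pow h4).ne'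
    exact absurd ((Nat.prime_two.dvd_iff_one_le_factorization Nat.card_pos.ne').mp h2) (by omega)
  have hodd : ∀ x : ↥S, x ∈ F → Odd (orderOf (x : V ≃ₗ[ZMod 2] V)) := by
    intro x hx
    rw [Subgroup.orderOf_coe, ← Subgroup.orderOf_mk x hx]
    exact hFodd.of_dvd_nat (orderOf_dvd_natCard _)
  set N := (P : V →ₗ[ZMod 2] V) - LinearMap.id with hN
  by_contra hlt
  push Not at hlt
  have hP : ∀ v, P v = v + N v := fun v => by simp [hN]
  have hT : ∀ v, (P * P) v = v + (N ^ 2) v := by
    intro v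
    show P (P v) = _
    rw [pow_two, Module.End.mul_apply, hP (P v), hP v, map_add, add_assoc, ← add_assoc (N v),
      add_self_eq_zero', zero_add]
  set T : ↥S := ⟨P * P, S.mul_mem hPS hPS⟩ with hTdef
  have hT1 : T ≠ 1 := by
    intro h
    have h1 : P ^ 2 = 1 := by rw [pow_two]; exact congrArg Subtype.val h
    have h2 := orderOf_dvd_of_pow_eq_one h1
    rw [hP4] at h2
    norm_num at h2
  have hT2 : T * T = 1 := Subtype.ext (by
    show P * P * (P * P) = 1
    rw [← pow_two, ← pow_two, ← pow_mul, show (2 * 2 : ℕ) = orderOf P by rw [hP4]]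
    exact pow_orderOf_eq_one P)
  have hTi : T⁻¹ = T := inv_eq_of_mul_eq_one_right hT2
  obtain ⟨v₀, hv₀⟩ : ∃ v, (N ^ 2) v ≠ 0 := by
    by_contra h
    push Not at h
    exact hT1 (Subtype.ext (LinearEquiv.ext fun v => by
      show (P * P) v = v
      rw [hT, h, add_zero]))
  set c := (N ^ 2) v₀ with hc
  have hrange : ∀ v, (N ^ 2) v = 0 ∨ (N ^ 2) v = c := by
    intro v
    by_contra h
    push Not at h
    have h3 : 3 ≤ Nat.card ↥(LinearMap.range (N ^ 2)) := by
      rw [← SetLike.coe_sort_coe, Nat.card_coe_set_eq]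
      have hsub : ({0, c, (N ^ 2) v} : Finset V) ⊆ (Set.toFinite (LinearMap.range (N ^ 2) : Set V)).toFinset := by
        intro u hu
        simp only [Finset.mem_insert, Finset.mem_singleton] at hu
        rw [Set.Finite.mem_toFinset]
        rcases hu with rfl | rfl | rfl
        exacts [Submodule.zero_mem _, LinearMap.mem_range_self _ _, LinearMap.mem_range_self _ _]
      rw [Set.ncard_eq_toFinset_card _]
      refine le_trans ?_ (Finset.card_le_card hsub)
      simp [hv₀.symm, h.1.symm, h.2.symm]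
    have hdvd : ∃ d, Nat.card ↥(LinearMap.range (N ^ 2)) = 2 ^ d :=
      ⟨Module.finrank (ZMod 2) ↥(LinearMap.range (N ^ 2)), by rw [Module.natCard_eq_pow_finrank (K := ZMod 2)]; simp⟩
    obtain ⟨d, hd⟩ := hdvd
    rcases Nat.lt_or_ge d 2 with h4 | h4
    · have := Nat.pow_le_pow_right (show 0 < 2 by norm_num) (show d ≤ 1 by omega)
      omega
    · have := Nat.pow_le_pow_right (show 0 < 2 by norm_num) h4
      omega
  have hNc : N c = 0 := by
    have h := LinearMap.congr_fun hcub v₀
    rw [LinearMap.zero_apply, pow_succ', Module.End.mul_apply] at h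
    exact h
  have hPc : P c = c := by rw [hP, hNc, add_zero]
  have hTmod : ∀ v, (P * P) v + v = 0 ∨ (P * P) v + v = c := fun v => by
    have : (P * P) v + v = (N ^ 2) v := by
      rw [hT, add_comm v, add_assoc, add_self_eq_zero', add_zero]
    rw [this]; exact hrange v
  -- an element of odd order inverted by `T`
  obtain ⟨f, hf, hTf⟩ : ∃ f ∈ F, T * f ≠ f * T := by
    by_contra h
    push Not at h
    have hTF : T ∈ F := Lib.Fitting.centralizer_fittingSubgroup_le
      (Subgroup.mem_centralizer_iff.mpr fun x hx => (h x hx).symm)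
    rcases (Nat.dvd_prime Nat.prime_two).mp
      (orderOf_dvd_of_pow_eq_one (show T ^ 2 = 1 by rw [pow_two, hT2])) with h1 | h1
    · exact hT1 (orderOf_eq_one_iff.mp h1)
    · have := hodd T hTF
      rw [Subgroup.orderOf_coe, h1] at this
      exact absurd this (by decide)
  set z := f⁻¹ * (T * f * T) with hz
  have hzF : z ∈ F := F.mul_mem (F.inv_mem hf) (by
    have := Subgroup.Normal.conj_mem inferInstance f hf T
    rwa [hTi] at this)
  have hz1 : z ≠ 1 := by
    intro h
    rw [hz, inv_mul_eq_one] at h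
    exact hTf (by
      calc T * f = T * f * (T * T) := by rw [hT2, mul_one]
        _ = (T * f * T) * T := by group
        _ = f * T := by rw [← h])
  have hzT : T * z⁻¹ * T = z := by
    rw [hz, mul_inv_rev, mul_inv_rev, mul_inv_rev, inv_inv, hTi]
    calc T * (T * (f⁻¹ * T) * f) * T = (T * T) * (f⁻¹ * T * f * T) := by group
      _ = f⁻¹ * (T * f * T) := by rw [hT2]; group
  set g := z * T * z⁻¹ * T with hg
  have hgz : g = z * z := by
    calc g = z * (T * z⁻¹ * T) := by rw [hg]; group
      _ = z * z := by rw [hzT]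
  have hgF : g ∈ F := hgz ▸ F.mul_mem hzF hzF
  have hg1 : g ≠ 1 := by
    intro h
    rw [hgz, ← pow_two] at h
    rcases (Nat.dvd_prime Nat.prime_two).mp (orderOf_dvd_of_pow_eq_one h) with h1 | h1
    · exact hz1 (orderOf_eq_one_iff.mp h1)
    · have := hodd z hzF
      rw [Subgroup.orderOf_coe, h1] at this
      exact absurd this (by decide)
  set c' := (z : V ≃ₗ[ZMod 2] V) c with hc'
  set W := Submodule.span (ZMod 2) ({c, c'} : Set V) with hW
  have hcW : c ∈ W := Submodule.subset_span (by simp)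
  have hc'W : c' ∈ W := Submodule.subset_span (by simp)
  have hTW : ∀ v, (P * P) v + v ∈ W := fun v => by
    rcases hTmod v with h | h <;> rw [h]
    exacts [W.zero_mem, hcW]
  have hgW : ∀ v, (g : V ≃ₗ[ZMod 2] V) v + v ∈ W := by
    intro v
    set w := (P * P) v
    have hw : (g : V ≃ₗ[ZMod 2] V) v = (z : V ≃ₗ[ZMod 2] V) ((P * P) (((z⁻¹ : ↥S) : V ≃ₗ[ZMod 2] V) w)) := rfl
    have hzz : ∀ u, (z : V ≃ₗ[ZMod 2] V) (((z⁻¹ : ↥S) : V ≃ₗ[ZMod 2] V) u) = u := by
      intro u
      show ((z * z⁻¹ : ↥S) : V ≃ₗ[ZMod 2] V) u = u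
      rw [mul_inv_cancel]; rfl
    have h1 : (g : V ≃ₗ[ZMod 2] V) v + w ∈ W := by
      rw [hw]
      nth_rewrite 2 [← hzz w]
      rw [← map_add]
      rcases hTmod (((z⁻¹ : ↥S) : V ≃ₗ[ZMod 2] V) w) with h | h <;> rw [h]
      · rw [map_zero]; exact W.zero_mem
      · exact hc'W
    have h2 := W.add_mem h1 (hTW v)
    rwa [add_assoc, ← add_assoc w, add_self_eq_zero', zero_add] at h2
  -- restriction to a subspace
  have restr : ∀ (U : Submodule (ZMod 2) V) (K : Subgroup ↥S), (∀ x ∈ K, x ∈ F) →
      (∀ x ∈ K, ∀ v, ((x : ↥S) : V ≃ₗ[ZMod 2] V) v + v ∈ U) →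
      Nat.card K ∣ Nat.card (Module.End (ZMod 2) U)ˣ := by
    intro U K hKF hKU
    have hmem : ∀ (x : K) (u : V), u ∈ U → ((x : ↥S) : V ≃ₗ[ZMod 2] V) u ∈ U := fun x u hu => by
      have := U.add_mem (hKU x x.2 u) hu
      rwa [add_assoc, add_self_eq_zero', add_zero] at this
    let φ : K →* Module.End (ZMod 2) U :=
      { toFun := fun x => (((x : ↥S) : V ≃ₗ[ZMod 2] V) : V →ₗ[ZMod 2] V).restrict (hmem x)
        map_one' := LinearMap.ext fun u => Subtype.ext rfl
        map_mul' := fun x y => LinearMap.ext fun u => Subtype.ext rfl }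
    refine Subgroup.card_dvd_of_injective φ.toHomUnits ?_
    rw [← MonoidHom.ker_eq_bot_iff, eq_bot_iff]
    intro x hx
    rw [MonoidHom.mem_ker] at hx
    have hx' : φ x = 1 := congrArg Units.val hx
    rw [Subgroup.mem_bot]
    refine Subtype.ext (Subtype.ext ?_)
    refine eq_one_of_fix (hodd _ (hKF x x.2)) (hKU x x.2) fun u hu => ?_
    exact congrArg Subtype.val (LinearMap.congr_fun hx' ⟨u, hu⟩)
  have hclos : ∀ (U : Submodule (ZMod 2) V) (s : Set ↥S), (∀ x ∈ s, ∀ v, ((x : ↥S) : V ≃ₗ[ZMod 2] V) v + v ∈ U) →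
      ∀ x ∈ Subgroup.closure s, ∀ v, ((x : ↥S) : V ≃ₗ[ZMod 2] V) v + v ∈ U := by
    intro U s hs x hx
    induction hx using Subgroup.closure_induction with
    | mem y hy => exact hs y hy
    | one => intro v; show v + v ∈ U; rw [add_self_eq_zero']; exact U.zero_mem
    | mul y y' _ _ hy hy' =>
      intro v
      have h := U.add_mem (hy (((y' : ↥S) : V ≃ₗ[ZMod 2] V) v)) (hy' v)
      rw [add_assoc, ← add_assoc (((y' : ↥S) : V ≃ₗ[ZMod 2] V) v), add_self_eq_zero', zero_add] at h
      exact h
    | inv y _ hy =>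
      intro v
      have h := hy (((y⁻¹ : ↥S) : V ≃ₗ[ZMod 2] V) v)
      have hcancel : ((y : ↥S) : V ≃ₗ[ZMod 2] V) (((y⁻¹ : ↥S) : V ≃ₗ[ZMod 2] V) v) = v := by
        show ((y * y⁻¹ : ↥S) : V ≃ₗ[ZMod 2] V) v = v
        rw [mul_inv_cancel]; rfl
      rw [hcancel, add_comm] at h
      exact h
  have hd2 : Module.finrank (ZMod 2) W ≤ 2 := by
    refine (finrank_span_le_card _).trans ?_
    rw [Set.toFinset_insert, Set.toFinset_singleton]
    exact Finset.card_le_two
  have hgo : orderOf g = 3 := by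
    have h1 := restr W (Subgroup.zpowers g) (Subgroup.zpowers_le.mpr hgF) (by
      rw [Subgroup.zpowers_eq_closure]
      exact hclos W _ (fun x hx => (Set.mem_singleton_iff.mp hx) ▸ hgW))
    rw [Nat.card_zpowers] at h1
    have h6 := h1.trans ((card_units_end W).1 hd2)
    have hodd' : Odd (orderOf g) := by
      have := hodd g hgF; rwa [Subgroup.orderOf_coe] at this
    have hle := Nat.le_of_dvd (by norm_num) h6
    have hne : orderOf g ≠ 1 := fun h => hg1 (orderOf_eq_one_iff.mp h)
    rw [Nat.odd_iff] at hodd'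
    interval_cases (orderOf g) <;> omega
  -- the conjugate of `g` by `P`
  set Ps : ↥S := ⟨P, hPS⟩
  set y := Ps * g * Ps⁻¹ with hy
  have hyF : y ∈ F := Subgroup.Normal.conj_mem inferInstance g hgF Ps
  set W' := W.map (P : V →ₗ[ZMod 2] V) with hW'
  have hPP : ∀ u, P (((Ps⁻¹ : ↥S) : V ≃ₗ[ZMod 2] V) u) = u := by
    intro u
    show ((Ps * Ps⁻¹ : ↥S) : V ≃ₗ[ZMod 2] V) u = u
    rw [mul_inv_cancel]; rfl
  have hyW : ∀ v, (y : V ≃ₗ[ZMod 2] V) v + v ∈ W' := by
    intro v
    refine ⟨(g : V ≃ₗ[ZMod 2] V) (((Ps⁻¹ : ↥S) : V ≃ₗ[ZMod 2] V) v) + ((Ps⁻¹ : ↥S) : V ≃ₗ[ZMod 2] V) v,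
      hgW _, ?_⟩
    rw [LinearEquiv.coe_coe, map_add, hPP]
    rfl
  have hK3 : ∀ x ∈ F, orderOf x = 3 → ∀ Q : Sylow 3 F, x ∈ (Q : Subgroup F).map F.subtype := by
    intro x hx ho Q
    have hp : IsPGroup 3 (Subgroup.zpowers (⟨x, hx⟩ : F)) :=
      IsPGroup.of_card (n := 1) (by rw [Nat.card_zpowers, Subgroup.orderOf_mk, ho, pow_one])
    obtain ⟨Q', hQ'⟩ := hp.exists_le_sylow
    haveI := Sylow.unique_of_normal Q inferInstance
    obtain rfl : Q' = Q := Subsingleton.elim _ _
    exact ⟨⟨x, hx⟩, hQ' (Subgroup.mem_zpowers _), rfl⟩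
  obtain ⟨Q⟩ := (inferInstance : Nonempty (Sylow 3 F))
  set K := Subgroup.closure ({g, y} : Set ↥S) with hK
  have hKQ : K ≤ (Q : Subgroup F).map F.subtype := by
    rw [hK, Subgroup.closure_le]
    rintro x (rfl | rfl)
    · exact hK3 _ hgF hgo Q
    · refine hK3 _ hyF ?_ Q
      rw [← hgo]
      exact orderOf_injective (MulAut.conj Ps).toMonoidHom (MulEquiv.injective _) g
  have hKp : IsPGroup 3 K := (Q.2.map F.subtype).to_le hKQ
  set U := W ⊔ W' with hU
  have hKU := restr U K (fun x hx => Subgroup.map_subtype_le _ (hKQ hx)) (hclos U _ (by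
    rintro x (rfl | rfl) v
    exacts [Submodule.mem_sup_left (hgW v), Submodule.mem_sup_right (hyW v)]))
  have hd3 : Module.finrank (ZMod 2) U ≤ 3 := by
    have hW'span : W' = Submodule.span (ZMod 2) ({P c, P c'} : Set V) := by
      rw [hW', hW, Submodule.map_span]
      simp [Set.image_insert_eq]
    have hUspan : U = Submodule.span (ZMod 2) ({c, c', P c'} : Set V) := by
      rw [hU, hW'span, hPc, hW, ← Submodule.span_union]
      congr 1
      ext u
      simp only [Set.mem_union, Set.mem_insert_iff, Set.mem_singleton_iff]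
      tauto
    rw [hUspan]
    refine (finrank_span_le_card _).trans ?_
    rw [Set.toFinset_insert, Set.toFinset_insert, Set.toFinset_singleton]
    exact Finset.card_le_three
  have hgK : g ∈ K := Subgroup.subset_closure (by simp)
  have hKcard : Nat.card K ≤ 3 := by
    obtain ⟨k, hk⟩ := IsPGroup.iff_card.mp hKp
    rcases Nat.lt_or_ge k 2 with h | h
    · rw [hk]
      calc 3 ^ k ≤ 3 ^ 1 := Nat.pow_le_pow_right (by norm_num) (by omega)
        _ = 3 := pow_one 3
    · exact absurd ((pow_dvd_pow 3 h).trans (hk ▸ hKU)) ((card_units_end U).2 hd3)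
  have hyz : y ∈ Subgroup.zpowers g := by
    have : Subgroup.zpowers g = K := Subgroup.eq_of_le_of_card_ge (Subgroup.zpowers_le.mpr hgK)
      (by rw [Nat.card_zpowers, hgo]; exact hKcard)
    rw [this]
    exact Subgroup.subset_closure (by simp)
  -- so `P` stabilises `W`
  have hyW2 : ∀ v, (y : V ≃ₗ[ZMod 2] V) v + v ∈ W := by
    have h := hclos W {g} (fun x hx => (Set.mem_singleton_iff.mp hx) ▸ hgW)
    rw [Subgroup.zpowers_eq_closure] at hyz
    exact h y hyz
  -- `c` is not fixed by `g`, else `g` would be trivial on `W`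
  have hgfix : ∀ w ∈ W, (g : V ≃ₗ[ZMod 2] V) w = w → w = 0 := by
    intro w hw hfix
    by_contra hw0
    refine hg1 (Subtype.ext ?_)
    have hne : ∀ u ∈ W, u ≠ 0 → u ≠ w → (g : V ≃ₗ[ZMod 2] V) u = u ∨
        (g : V ≃ₗ[ZMod 2] V) u = u + w := by
      intro u hu hu0 huw
      have hgu : (g : V ≃ₗ[ZMod 2] V) u ∈ W := by
        have := W.add_mem (hgW u) hu
        rwa [add_assoc, add_self_eq_zero', add_zero] at this
      have huw' : u + w ≠ 0 := fun h => huw (by
        have := congrArg (· + w) h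
        simpa [add_assoc, add_self_eq_zero'] using this)
      have h4 : ({0, w, u, u + w} : Finset V) = (Set.toFinite (W : Set V)).toFinset := by
        refine Finset.eq_of_subset_of_card_le (fun x hx => ?_) ?_
        · simp only [Finset.mem_insert, Finset.mem_singleton] at hx
          rw [Set.Finite.mem_toFinset]
          rcases hx with rfl | rfl | rfl | rfl
          exacts [W.zero_mem, hw, hu, W.add_mem hu hw]
        · have hle : Nat.card W ≤ 2 ^ 2 := by
            rw [Module.natCard_eq_pow_finrank (K := ZMod 2), Nat.card_zmod]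
            exact Nat.pow_le_pow_right (by norm_num) hd2
          rw [← SetLike.coe_sort_coe, Nat.card_coe_set_eq, Set.ncard_eq_toFinset_card _] at hle
          refine hle.trans (le_of_eq ?_)
          have e1 : u ≠ u + w := fun h => hw0 (add_eq_left.mp h.symm)
          have e2 : w ≠ u + w := fun h => hu0 (add_eq_right.mp h.symm)
          simp [Ne.symm hw0, Ne.symm hu0, Ne.symm huw, Ne.symm huw', e1, e2]
      have := h4.symm ▸ (Set.Finite.mem_toFinset (Set.toFinite (W : Set V))).mpr hgu
      simp only [Finset.mem_insert, Finset.mem_singleton] at this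
      rcases this with h | h | h | h
      · exact absurd ((LinearEquiv.map_eq_zero_iff _).mp h) hu0
      · exact absurd ((g : V ≃ₗ[ZMod 2] V).injective (h.trans hfix.symm)) huw
      · exact Or.inl h
      · exact Or.inr h
    refine eq_one_of_fix (W := W) (hodd g hgF) hgW fun u hu => ?_
    by_cases hu0 : u = 0
    · rw [hu0, map_zero]
    by_cases huw : u = w
    · rw [huw, hfix]
    rcases hne u hu hu0 huw with h | h
    · exact h
    · exfalso
      have h2 : ((g : V ≃ₗ[ZMod 2] V) ^ 3) u = u := by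
        rw [← SubgroupClass.coe_pow, ← hgo, pow_orderOf_eq_one]; rfl
      have h3 : ((g : V ≃ₗ[ZMod 2] V) ^ 3) u = (g : V ≃ₗ[ZMod 2] V) ((g : V ≃ₗ[ZMod 2] V) ((g : V ≃ₗ[ZMod 2] V) u)) := by
        rw [pow_succ, pow_two]; rfl
      rw [h3, h, map_add, h, hfix, map_add, map_add, h, hfix] at h2
      have : u + w = u := by
        refine Eq.trans ?_ h2
        simp only [add_assoc, add_self_eq_zero', add_zero]
      exact hw0 (add_eq_left.mp this)
  have hyfix : (y : V ≃ₗ[ZMod 2] V) (P c') ≠ P c' := by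
    intro h
    have h1 : (y : V ≃ₗ[ZMod 2] V) (P c') = P ((g : V ≃ₗ[ZMod 2] V) c') := by
      show P ((g : V ≃ₗ[ZMod 2] V) (((Ps⁻¹ : ↥S) : V ≃ₗ[ZMod 2] V) (P c'))) = _
      congr 2
      show ((Ps⁻¹ * Ps : ↥S) : V ≃ₗ[ZMod 2] V) c' = c'
      rw [inv_mul_cancel]; rfl
    have hc'0 : c' ≠ 0 := fun e => hv₀ ((LinearEquiv.map_eq_zero_iff _).mp e)
    exact hc'0 (hgfix c' hc'W (P.injective (h1.symm.trans h)))
  have hPW : ∀ w ∈ W, P w ∈ W := by
    have hb : P c' ∈ W := by
      -- `(y - 1)` maps `P c'` to a nonzero vector of `W ∩ P W`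
      set w0 := (g : V ≃ₗ[ZMod 2] V) c' + c' with hw0
      have hyc : ∀ u, (y : V ≃ₗ[ZMod 2] V) (P u) + P u = P ((g : V ≃ₗ[ZMod 2] V) u + u) := by
        intro u
        rw [map_add]
        congr 1
        show P ((g : V ≃ₗ[ZMod 2] V) (((Ps⁻¹ : ↥S) : V ≃ₗ[ZMod 2] V) (P u))) = _
        congr 2
        show ((Ps⁻¹ * Ps : ↥S) : V ≃ₗ[ZMod 2] V) u = u
        rw [inv_mul_cancel]; rfl
      have h1 := hyW2 (P c')
      have h2 := hyW2 (P c)
      rw [hyc] at h1 h2
      have hgc : (g : V ≃ₗ[ZMod 2] V) c + c ∈ W := hgW c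
      have hg2 : (g : V ≃ₗ[ZMod 2] V) c' + c' ∈ W := hgW c'
      obtain ⟨a, b, hab⟩ := Submodule.mem_span_pair.mp hg2
      obtain ⟨a', b', hab'⟩ := Submodule.mem_span_pair.mp hgc
      rw [← hab, map_add, map_smul, map_smul, hPc] at h1
      rw [← hab', map_add, map_smul, map_smul, hPc] at h2
      rcases scalar_cases b with rfl | rfl
      · rcases scalar_cases b' with rfl | rfl
        · exfalso
          rw [zero_smul, add_zero] at hab hab'
          -- `g - 1` has image in the line of `c`, so it kills `c` or is not injective on `W`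
          rcases scalar_cases a' with rfl | rfl
          · rw [zero_smul] at hab'
            have h3 : (g : V ≃ₗ[ZMod 2] V) c = c := by
              have := congrArg (· + c) hab'.symm
              simpa [add_assoc, add_self_eq_zero'] using this
            exact hv₀ (hgfix c hcW h3)
          · rw [one_smul] at hab'
            have h3 : (g : V ≃ₗ[ZMod 2] V) c = 0 := by
              have := congrArg (· + c) hab'.symm
              simpa [add_assoc, add_self_eq_zero'] using this
            exact hv₀ ((LinearEquiv.map_eq_zero_iff _).mp h3)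
        · have := W.sub_mem h2 (W.smul_mem a' hcW)
          simpa using this
      · have := W.sub_mem h1 (W.smul_mem a hcW)
        simpa using this
    intro w hw
    obtain ⟨a, b, rfl⟩ := Submodule.mem_span_pair.mp hw
    rw [map_add, map_smul, map_smul, hPc]
    exact W.add_mem (W.smul_mem a hcW) (W.smul_mem b hb)
  -- then `T` is trivial on `W`
  have hTc' : (P * P) c' = c' := by
    obtain ⟨a, b, hab⟩ := Submodule.mem_span_pair.mp (hPW c' hc'W)
    show P (P c') = c'
    rcases scalar_cases b with rfl | rfl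
    · rw [zero_smul, add_zero] at hab
      have h1 : P c' = P (a • c) := by rw [map_smul, hPc]; exact hab.symm
      rw [P.injective h1, map_smul, map_smul, hPc, hPc]
    · rw [one_smul] at hab
      rw [← hab, map_add, map_smul, hPc, ← hab, ← add_assoc, ← add_smul,
        show a + a = 0 from CharTwo.add_self_eq_zero a, zero_smul, zero_add]
  have hgc' : (g : V ≃ₗ[ZMod 2] V) c' = c' := by
    show (z : V ≃ₗ[ZMod 2] V) ((P * P) (((z⁻¹ : ↥S) : V ≃ₗ[ZMod 2] V) ((P * P) c'))) = c'
    have hzc : ((z⁻¹ : ↥S) : V ≃ₗ[ZMod 2] V) c' = c := by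
      show ((z⁻¹ * z : ↥S) : V ≃ₗ[ZMod 2] V) c = c
      rw [inv_mul_cancel]; rfl
    rw [hTc', hzc]
    show (z : V ≃ₗ[ZMod 2] V) (P (P c)) = c'
    rw [hPc, hPc]
  exact hv₀ ((LinearEquiv.map_eq_zero_iff _).mp (hgfix c' hc'W hgc'))

end Cfsg.Agent.S4410
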