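import Cfsg.Statements.S4412
import Mathlib
import Cfsg.Agent.Lib.BroadEight.Basic
import Cfsg.Agent.Lib.SectRank.Basic
-- import your own Cfsg.Agent.* helpers here

set_option autoImplicit false
open Cfsg

namespace Cfsg.Agent.S4412

/-- Let p be an odd prime, P a finite p-group and I an elementary abelian subgroup of order 8 of Aut(P). Call T ∈ I, T ≠ 1, broad when its fixed-point subgroup C_P(T) is not cyclic. Suppose I has a proper subgroup I₀ containing no broad element such that the product of any two broad elements lies in I₀. Then P is abelian of rank exactly 3 (generated by three elements but not by two), there are exactly three broad elements and they generate I, and I₀ is exactly the set of products of two broad elements. -/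
theorem result
    {P : Type*} [Group P] [Finite P] (p : ℕ) (hp : p.Prime) (hp2 : p ≠ 2) (hP : IsPGroup p P)
    (I : Subgroup (MulAut P)) (hI : Cfsg.IsElementaryAbelian 2 I) (hI8 : Nat.card ↥I = 8)
    (I₀ : Subgroup (MulAut P)) (hI₀ : I₀ < I)
    (hdisj : ∀ T ∈ I₀, T ≠ 1 → ∃ g : P, ∀ x : P, (T x = x ↔ x ∈ Subgroup.zpowers g))
    (hprod : ∀ T ∈ I, ∀ T' ∈ I, T ≠ 1 → T' ≠ 1 → (¬ ∃ g : P, ∀ x : P, (T x = x ↔ x ∈ Subgroup.zpowers g)) →
      (¬ ∃ g : P, ∀ x : P, (T' x = x ↔ x ∈ Subgroup.zpowers g)) → T * T' ∈ I₀) :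
    IsMulCommutative P ∧ (∃ a b c : P, Subgroup.closure {a, b, c} = ⊤) ∧ (¬ ∃ a b : P, Subgroup.closure {a, b} = ⊤) ∧
      Nat.card {T : MulAut P // T ∈ I ∧ T ≠ 1 ∧ ¬ ∃ g : P, ∀ x : P, (T x = x ↔ x ∈ Subgroup.zpowers g)} = 3 ∧
      Subgroup.closure {T : MulAut P | T ∈ I ∧ T ≠ 1 ∧ ¬ ∃ g : P, ∀ x : P, (T x = x ↔ x ∈ Subgroup.zpowers g)} = I ∧
      (I₀ : Set (MulAut P)) = {S : MulAut P | ∃ T T' : MulAut P, T ∈ I ∧ T' ∈ I ∧ T ≠ 1 ∧ T' ≠ 1 ∧
        (¬ ∃ g : P, ∀ x : P, (T x = x ↔ x ∈ Subgroup.zpowers g)) ∧ (¬ ∃ g : P, ∀ x : P, (T' x = x ↔ x ∈ Subgroup.zpowers g)) ∧ S = T * T'} := by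
  classical
  obtain ⟨hIcc, hIp⟩ := hI
  have hIc : ∀ S ∈ I, ∀ T ∈ I, S * T = T * S := fun S hS T hT =>
    congrArg Subtype.val (hIcc.is_comm.comm ⟨S, hS⟩ ⟨T, hT⟩)
  have hI2 : ∀ T ∈ I, T * T = 1 := fun T hT => by rw [← sq]; exact hIp T hT
  let Br : MulAut P → Prop := fun T => T ∈ I ∧ T ≠ 1 ∧ ¬ Cfsg.Agent.Lib.BroadEight.CycFix T
  have hBrI0 : ∀ T, Br T → T ∉ I₀ := fun T hT h => hT.2.2 (hdisj T h hT.2.1)
  obtain ⟨b, hb, hbI0, hbBr⟩ : ∃ b ∈ I, b ∉ I₀ ∧ ((∃ T, Br T) → Br b) := by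
    by_cases h : ∃ T, Br T
    · obtain ⟨T, hT⟩ := h
      exact ⟨T, hT.1, hBrI0 T hT, fun _ => hT⟩
    · obtain ⟨b, hb, hb0⟩ := SetLike.exists_of_lt hI₀
      exact ⟨b, hb, hb0, fun h' => absurd h' h⟩
  obtain ⟨J, ⟨hJI, hJ0, hbJ⟩, hmax⟩ := Set.Finite.exists_maximal
    (s := {J : Subgroup (MulAut P) | J ≤ I ∧ I₀ ≤ J ∧ b ∉ J}) (Set.toFinite _) ⟨I₀, hI₀.le, le_rfl, hbI0⟩
  have hsplit : ∀ x ∈ I, x ∈ J ∨ b * x ∈ J := by
    intro x hx
    by_cases hxJ : x ∈ J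
    · exact Or.inl hxJ
    right
    have hmem : b ∈ J ⊔ Subgroup.zpowers x := by
      by_contra hnot
      exact hxJ (hmax (y := J ⊔ Subgroup.zpowers x)
        ⟨sup_le hJI (Subgroup.zpowers_le.mpr hx), le_sup_of_le_left hJ0, hnot⟩ le_sup_left
        (Subgroup.mem_sup_right (Subgroup.mem_zpowers x)))
    rw [← SetLike.mem_coe, Subgroup.coe_mul_of_right_le_normalizer_left J (Subgroup.zpowers x) (by
      rw [Subgroup.zpowers_le, Subgroup.mem_normalizer_iff]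
      intro y
      constructor
      · intro hy
        rwa [hIc x hx y (hJI hy), mul_inv_cancel_right]
      · intro hy
        have hyI : y ∈ I := by
          have := I.mul_mem (I.mul_mem (I.inv_mem hx) (hJI hy)) hx
          simpa [mul_assoc] using this
        rwa [hIc x hx y hyI, mul_inv_cancel_right] at hy)] at hmem
    obtain ⟨j, hj, w, hw, hjw⟩ := hmem
    obtain ⟨k, rfl⟩ := mem_powers_iff_mem_zpowers.mpr hw
    simp only at hjw
    rcases Nat.even_or_odd k with ⟨l, rfl⟩ | ⟨l, rfl⟩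
    · exfalso
      rw [← two_mul, pow_mul, sq, hI2 x hx, one_pow, mul_one] at hjw
      exact hbJ (hjw ▸ hj)
    · rw [pow_succ, pow_mul, sq, hI2 x hx, one_pow, one_mul] at hjw
      rw [← hjw, mul_assoc, hI2 x hx, mul_one]
      exact hj
  have hJ4 : Nat.card J = 4 := by
    have hd : J ⊓ Subgroup.zpowers b = ⊥ := by
      rw [eq_bot_iff]
      rintro y ⟨hy1, hy2⟩
      obtain ⟨k, rfl⟩ := mem_powers_iff_mem_zpowers.mpr hy2
      rcases Nat.even_or_odd k with ⟨l, rfl⟩ | ⟨l, rfl⟩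
      · simp only [← two_mul, pow_mul, sq, hI2 b hb, one_pow]
        exact one_mem _
      · have hbb : b ^ (2 * l + 1) = b := by rw [pow_succ, pow_mul, sq, hI2 b hb, one_pow, one_mul]
        simp only [hbb] at hy1
        exact absurd hy1 hbJ
    have hsup : J ⊔ Subgroup.zpowers b = I := by
      refine le_antisymm (sup_le hJI (Subgroup.zpowers_le.mpr hb)) fun x hx => ?_
      rcases hsplit x hx with h | h
      · exact Subgroup.mem_sup_left h
      · have := Subgroup.mul_mem _ (Subgroup.mem_sup_right (S := J) (Subgroup.mem_zpowers b))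
          (Subgroup.mem_sup_left (T := Subgroup.zpowers b) h)
        rwa [← mul_assoc, hI2 b hb, one_mul] at this
    have hb2 : orderOf b = 2 := by
      haveI : Fact (Nat.Prime 2) := ⟨Nat.prime_two⟩
      exact orderOf_eq_prime (hIp b hb) fun h => hbI0 (h ▸ I₀.one_mem)
    have := Cfsg.Agent.Lib.SectRank.card_sup_of_commute
      (fun u hu v hv => hIc u (hJI hu) v ((Subgroup.zpowers_le.mpr hb) hv)) hd
    rw [hsup, hI8, Nat.card_zpowers, hb2] at this
    omega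
  have hJcyc : ∀ T ∈ J, T ≠ 1 → Cfsg.Agent.Lib.BroadEight.CycFix T := by
    intro T hT hT1
    by_contra hnot
    have hB := hbBr ⟨T, hJI hT, hT1, hnot⟩
    have h1 := hJ0 (hprod b hB.1 T (hJI hT) hB.2.1 hT1 hB.2.2 hnot)
    have h2 := J.mul_mem h1 (J.inv_mem hT)
    rw [mul_inv_cancel_right] at h2
    exact hbJ h2
  haveI : Nontrivial J := Finite.one_lt_card_iff_nontrivial.mp (by omega)
  obtain ⟨⟨t₁, ht₁⟩, ht₁ne⟩ := exists_ne (1 : J)
  have h1ne : t₁ ≠ 1 := fun h => ht₁ne (Subtype.ext h)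
  obtain ⟨t₂, ht₂, h2ne, h12⟩ : ∃ t₂ ∈ J, t₂ ≠ 1 ∧ t₁ ≠ t₂ := by
    by_contra hall
    push Not at hall
    have hsub : (J : Set (MulAut P)) ⊆ {1, t₁} := fun y hy => by
      by_cases h : y = 1
      · exact Or.inl h
      · exact Or.inr (hall y hy h).symm
    have := Set.ncard_le_ncard hsub (Set.toFinite _)
    rw [← Nat.card_coe_set_eq, SetLike.coe_sort_coe, hJ4, Set.ncard_pair h1ne.symm] at this
    omega
  have h3ne : t₁ * t₂ ≠ 1 := fun h => h12 (by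
    rw [← inv_eq_of_mul_eq_one_right h, inv_eq_of_mul_eq_one_right (hI2 _ (hJI ht₁))])
  obtain ⟨hab, hgen, hno2, e₁, e₂, e₃, n12, n13, n23, hB, hcl, p12, p13, p23⟩ :=
    Cfsg.Agent.Lib.BroadEight.structure_of_four hp hp2 hP I hIc hI2 hI8 (hJI ht₁) (hJI ht₂) h1ne
      h2ne h12 (hJcyc _ ht₁ h1ne) (hJcyc _ ht₂ h2ne) (hJcyc _ (J.mul_mem ht₁ ht₂) h3ne)
  refine ⟨hab, hgen, hno2, ?_, ?_, ?_⟩
  · have hset : {T : MulAut P | T ∈ I ∧ T ≠ 1 ∧ ¬ ∃ g : P, ∀ x : P, (T x = x ↔ x ∈ Subgroup.zpowers g)} =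
        {e₁, e₂, e₃} := by
      ext T
      exact (hB T).trans (by simp)
    rw [← Set.coe_setOf, Nat.card_coe_set_eq, hset, Set.ncard_eq_three]
    exact ⟨e₁, e₂, e₃, n12, n13, n23, rfl⟩
  · rw [show {T : MulAut P | T ∈ I ∧ T ≠ 1 ∧ ¬ ∃ g : P, ∀ x : P, (T x = x ↔ x ∈ Subgroup.zpowers g)} =
        {e₁, e₂, e₃} from by ext T; exact (hB T).trans (by simp)]
    exact hcl
  · obtain ⟨m1, o1, b1⟩ := (hB e₁).mpr (Or.inl rfl)
    obtain ⟨m2, o2, b2⟩ := (hB e₂).mpr (Or.inr (Or.inl rfl))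
    obtain ⟨m3, o3, b3⟩ := (hB e₃).mpr (Or.inr (Or.inr rfl))
    have hJfour : (J : Set (MulAut P)) = {1, t₁, t₂, t₁ * t₂} := by
      refine (Set.eq_of_subset_of_ncard_le ?_ ?_ (Set.toFinite _)).symm
      · rintro y (rfl | rfl | rfl | rfl)
        · exact J.one_mem
        · exact ht₁
        · exact ht₂
        · exact J.mul_mem ht₁ ht₂
      · rw [← Nat.card_coe_set_eq, SetLike.coe_sort_coe, hJ4,
          Set.ncard_insert_of_notMem (by simp [h1ne.symm, h2ne.symm, h3ne.symm]) (Set.toFinite _),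
          Set.ncard_insert_of_notMem (by simp [h12, h2ne]) (Set.toFinite _),
          Set.ncard_pair (by simp [h1ne])]
    ext x
    constructor
    · intro hx
      have hxJ : x ∈ (J : Set (MulAut P)) := hJ0 hx
      rw [hJfour] at hxJ
      rcases hxJ with rfl | rfl | rfl | rfl
      · exact ⟨e₁, e₁, m1, m1, o1, o1, b1, b1, (hI2 _ m1).symm⟩
      · exact ⟨e₂, e₃, m2, m3, o2, o3, b2, b3, p23.symm⟩
      · exact ⟨e₁, e₃, m1, m3, o1, o3, b1, b3, p13.symm⟩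
      · exact ⟨e₁, e₂, m1, m2, o1, o2, b1, b2, p12.symm⟩
    · rintro ⟨T, T', hT, hT', h1, h1', hT1, hT1', rfl⟩
      exact hprod T hT T' hT' h1 h1' hT1 hT1'

end Cfsg.Agent.S4412
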