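import Cfsg.Statements.S4414
import Mathlib
import Cfsg.Agent.Lib.WeightOrbits.Basic

set_option maxHeartbeats 400000
open scoped TensorProduct commutatorElement
-- import your own Cfsg.Agent.* helpers here

set_option autoImplicit false
open Cfsg

namespace Cfsg.Agent.S4414

/-- Let S be a finite solvable group whose order is divisible only by the primes 2, p, q (p, q distinct odd primes), with a Sylow system S₂, S_p, S_q (pairwise permutable Sylow subgroups) such that: S_p is a minimal normal subgroup of S of order p or p²; S_q has order q and [S_p, S_q] = S_p; and O₂(S) = 1. Let E be an irreducible module for S over the field with two elements on which S_p acts faithfully, and E₀ the subspace of fixed points of S₂. Then either E₀ has at least 8 elements, or E₀ has exactly 4 elements and S_q does not leave E₀ invariant. -/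
theorem result {S : Type*} [Group S] [Finite S]
    [Group.IsSolvable S] (p q : ℕ) (hp : p.Prime) (hq : q.Prime) (hp2 : p ≠ 2) (hq2 : q ≠ 2) (hpq : p ≠ q)
    (hπ : ∀ r : ℕ, r.Prime → r ∣ Nat.card S → r = 2 ∨ r = p ∨ r = q)
    (S₂ : Sylow 2 S) (Sp : Sylow p S) (Sq : Sylow q S)
    (h2q : Nat.card ↥((S₂ : Subgroup S) ⊔ (Sq : Subgroup S)) = Nat.card ↥S₂ * Nat.card ↥Sq)
    (h2p : Nat.card ↥((S₂ : Subgroup S) ⊔ (Sp : Subgroup S)) = Nat.card ↥S₂ * Nat.card ↥Sp)
    (hpq' : Nat.card ↥((Sp : Subgroup S) ⊔ (Sq : Subgroup S)) = Nat.card ↥Sp * Nat.card ↥Sq)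
    (hSpN : (Sp : Subgroup S).Normal) (hSpmin : ∀ N : Subgroup S, N.Normal → N ≤ (Sp : Subgroup S) → N = ⊥ ∨ N = (Sp : Subgroup S))
    (hSpcard : Nat.card ↥Sp = p ∨ Nat.card ↥Sp = p ^ 2)
    (hSq : Nat.card ↥Sq = q) (hcomm : ⁅(Sp : Subgroup S), (Sq : Subgroup S)⁆ = (Sp : Subgroup S))
    (hO2 : Cfsg.pCore 2 S = ⊥)
    {E : Type*} [AddCommGroup E] [Module (ZMod 2) E] [Finite E] (ρ : Representation (ZMod 2) S E) (hE : Nontrivial E)
    (hirr : ∀ N : Submodule (ZMod 2) E, (∀ s : S, ∀ m ∈ N, ρ s m ∈ N) → N = ⊥ ∨ N = ⊤)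
    (hfaith : ∀ x ∈ (Sp : Subgroup S), ρ x = 1 → x = 1) :
    8 ≤ Nat.card {v : E // ∀ s ∈ (S₂ : Subgroup S), ρ s v = v} ∨
      (Nat.card {v : E // ∀ s ∈ (S₂ : Subgroup S), ρ s v = v} = 4 ∧
        ∃ x ∈ (Sq : Subgroup S), ∃ v : E, (∀ s ∈ (S₂ : Subgroup S), ρ s v = v) ∧ ¬ ∀ s ∈ (S₂ : Subgroup S), ρ s (ρ x v) = ρ x v) := by
  classical
  haveI := Fact.mk hp
  haveI := Fact.mk hq
  haveI : Fact (Nat.Prime 2) := ⟨Nat.prime_two⟩
  haveI := hSpN
  set P : Subgroup S := (Sp : Subgroup S) with hPdef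
  set Q : Subgroup S := (Sq : Subgroup S) with hQdef
  set T : Subgroup S := (S₂ : Subgroup S) with hTdef
  let K := AlgebraicClosure (ZMod 2)
  let ρK : Representation K S (K ⊗[ZMod 2] E) :=
    { toFun := fun s => (ρ s).baseChange K
      map_one' := by
        apply TensorProduct.AlgebraTensorModule.ext
        intro a e; simp
      map_mul' := fun s t => by
        apply TensorProduct.AlgebraTensorModule.ext
        intro a e; simp }
  have hPp : IsPGroup p P := Sp.isPGroup'
  have hPc : IsMulCommutative P := by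
    rcases hSpcard with h | h
    · haveI : IsCyclic P := isCyclic_of_prime_card h
      infer_instance
    · exact IsPGroup.isMulCommutative_of_card_eq_prime_sq h
  have hPne : P ≠ ⊥ := by
    intro h
    have h1 : Nat.card P = 1 := by rw [h, Subgroup.card_bot]
    rcases hSpcard with h' | h'
    · exact hp.ne_one (h'.symm.trans h1)
    · exact absurd (h'.symm.trans h1) (Nat.one_lt_pow two_ne_zero hp.one_lt).ne'
  have hPfix : ∀ e : E, (∀ x ∈ P, ρ x e = e) → e = 0 := by
    let C : Submodule (ZMod 2) E :=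
      { carrier := {e | ∀ x ∈ P, ρ x e = e}
        zero_mem' := fun x _ => map_zero _
        add_mem' := fun {u v} hu hv x hx => by rw [map_add, hu x hx, hv x hx]
        smul_mem' := fun a v hv x hx => by rw [map_smul, hv x hx] }
    intro e he
    rcases hirr C (fun s m hm x hx => by
      rw [← Module.End.mul_apply, ← map_mul, show x * s = s * (s⁻¹ * x * s) by group, map_mul,
        Module.End.mul_apply]
      rw [hm _ (by simpa using hSpN.conj_mem x hx s⁻¹)]) with h | h
    · have : e ∈ C := he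
      rwa [h, Submodule.mem_bot] at this
    · exfalso
      apply hPne
      rw [eq_bot_iff]
      intro x hx
      exact Subgroup.mem_bot.mpr (hfaith x hx (LinearMap.ext fun m =>
        (show m ∈ C from h ▸ Submodule.mem_top) x hx))
  let b := Module.Basis.ofVectorSpace (ZMod 2) K
  have hcomp : ∀ (s : S) (w : K ⊗[ZMod 2] E) i,
      TensorProduct.equivFinsuppOfBasisLeft b (ρK s w) i =
        ρ s (TensorProduct.equivFinsuppOfBasisLeft b w i) := by
    intro s w i
    induction w using TensorProduct.induction_on with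
    | zero => simp
    | tmul a e => simp [ρK]
    | add u v hu hv => simp [map_add, hu, hv]
  -- the fixed space of the Sylow 2-subgroup
  let E₀ : Submodule (ZMod 2) E :=
    { carrier := {v | ∀ s ∈ T, ρ s v = v}
      zero_mem' := fun x _ => map_zero _
      add_mem' := fun {u v} hu hv x hx => by rw [map_add, hu x hx, hv x hx]
      smul_mem' := fun a v hv x hx => by rw [map_smul, hv x hx] }
  let ι := E₀.subtype.baseChange K
  have hfixed : ∀ w : K ⊗[ZMod 2] E, (∀ s ∈ T, ρK s w = w) → w ∈ LinearMap.range ι := by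
    intro w hw
    rw [← (TensorProduct.equivFinsuppOfBasisLeft b).symm_apply_apply w]
    set f := TensorProduct.equivFinsuppOfBasisLeft b w with hf
    rw [TensorProduct.equivFinsuppOfBasisLeft_symm_apply]
    refine Submodule.sum_mem _ fun i _ => ?_
    have hmem : f i ∈ E₀ := fun s hs => by rw [hf, ← hcomp, hw s hs]
    exact ⟨b i ⊗ₜ ⟨f i, hmem⟩, by simp [ι]⟩
  have hPfixK : ∀ w : K ⊗[ZMod 2] E, (∀ x ∈ P, ρK x w = w) → w = 0 := by
    intro w hw
    apply (TensorProduct.equivFinsuppOfBasisLeft b).injective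
    rw [map_zero]
    ext i
    exact hPfix _ fun x hx => by rw [← hcomp, hw x hx]
  set d := Module.finrank (ZMod 2) E₀ with hd
  have hcard0 : Nat.card {v : E // ∀ s ∈ T, ρ s v = v} = 2 ^ d := by
    rw [show Nat.card {v : E // ∀ s ∈ T, ρ s v = v} = Nat.card E₀ from rfl,
      Module.natCard_eq_pow_finrank (K := ZMod 2), Nat.card_zmod]
  have hrange : Module.finrank K (LinearMap.range ι) ≤ d := by
    refine le_trans (LinearMap.finrank_range_le ι) ?_
    rw [Module.finrank_baseChange]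
  by_cases hd3 : 3 ≤ d
  · left
    rw [hcard0]
    exact le_trans (by norm_num) (Nat.pow_le_pow_right (by norm_num) hd3)
  -- weights
  obtain ⟨y₀, hy₀⟩ : ∃ y₀, y₀ ∈ Q := ⟨1, Q.one_mem⟩
  let Λ : Set (P → K) := {c | Cfsg.Agent.Lib.WeightOrbits.wspace ρK P c ≠ ⊥}
  haveI : Nontrivial (K ⊗[ZMod 2] E) := by
    rw [← Module.finrank_pos_iff (R := K), Module.finrank_baseChange]
    exact Module.finrank_pos
  have hΛne : Λ.Nonempty := by
    obtain ⟨c, v, hv0, hv⟩ := Cfsg.Agent.Lib.WeightOrbits.exists_weight _ (K ⊗[ZMod 2] E)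
      (fun x : P => ρK (x : S)) (fun i j => by
        rw [← map_mul, ← map_mul, ← Subgroup.coe_mul, ← Subgroup.coe_mul, hPc.is_comm.comm i j]) rfl
    exact ⟨c, (Submodule.ne_bot_iff _).mpr ⟨v, hv, hv0⟩⟩
  have hΛinv : ∀ s, ∀ c ∈ Λ, Cfsg.Agent.Lib.WeightOrbits.conjW P s c ∈ Λ := by
    intro s c hc
    obtain ⟨v, hv, hv0⟩ := (Submodule.ne_bot_iff _).mp hc
    exact (Submodule.ne_bot_iff _).mpr ⟨_, Cfsg.Agent.Lib.WeightOrbits.map_wspace ρK P s hv,
      Cfsg.Agent.Lib.WeightOrbits.rho_ne_zero ρK hv0 s⟩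
  -- the q-subgroup acts freely on the weights
  have hfree : ∀ c ∈ Λ, ∀ y ∈ Q, Cfsg.Agent.Lib.WeightOrbits.conjW P y c = c → y = 1 := by
    intro c hc y hy hfix
    by_contra hy1
    obtain ⟨v, hv, hv0⟩ := (Submodule.ne_bot_iff _).mp hc
    have hgen : Subgroup.zpowers y = Q := by
      refine Subgroup.eq_of_le_of_card_ge (Subgroup.zpowers_le.mpr hy) ?_
      rw [Nat.card_zpowers]
      have hd' : orderOf y ∣ q := hSq ▸ Subgroup.orderOf_dvd_natCard Q hy
      rcases (Nat.dvd_prime hq).mp hd' with h | h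
      · exact absurd (orderOf_eq_one_iff.mp h) hy1
      · rw [h]; exact hSq.le
    have hfixall : ∀ z ∈ Q, Cfsg.Agent.Lib.WeightOrbits.conjW P z c = c := by
      intro z hz
      rw [← hgen] at hz
      obtain ⟨k, rfl⟩ := mem_powers_iff_mem_zpowers.mpr hz
      simp only
      induction k with
      | zero => rw [pow_zero, Cfsg.Agent.Lib.WeightOrbits.conjW_one]
      | succ k ih =>
        rw [pow_succ, Cfsg.Agent.Lib.WeightOrbits.conjW_mul, hfix]
        exact ih (pow_mem (Subgroup.mem_zpowers y) k)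
    let Kc : Subgroup S :=
      { carrier := {x | x ∈ P ∧ ρK x v = v}
        one_mem' := ⟨P.one_mem, by rw [map_one]; rfl⟩
        mul_mem' := fun {a b} ha hb =>
          ⟨P.mul_mem ha.1 hb.1, by rw [map_mul, Module.End.mul_apply, hb.2, ha.2]⟩
        inv_mem' := fun {a} ha => ⟨P.inv_mem ha.1, by
          conv_lhs => rw [← ha.2]
          rw [← Module.End.mul_apply, ← map_mul, inv_mul_cancel, map_one]; rfl⟩ }
    have hle : ⁅P, Q⁆ ≤ Kc := by
      rw [Subgroup.commutator_le]
      intro x hx z hz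
      have hzx : z * x⁻¹ * z⁻¹ ∈ P := hSpN.conj_mem _ (P.inv_mem hx) z
      refine ⟨by rw [commutatorElement_def, mul_assoc x, mul_assoc x]; exact P.mul_mem hx hzx, ?_⟩
      have e1 : c (⟨z * x⁻¹ * z⁻¹, hzx⟩ : P) = c (⟨x⁻¹, P.inv_mem hx⟩ : P) := by
        conv_lhs => rw [← hfixall z hz]
        show c _ = _
        congr 1
        exact Subtype.ext (by show z⁻¹ * (z * x⁻¹ * z⁻¹) * z = x⁻¹; group)
      have e2 : c (⟨x, hx⟩ : P) * c ⟨x⁻¹, P.inv_mem hx⟩ = 1 := by
        rw [← Cfsg.Agent.Lib.WeightOrbits.wspace_mul ρK P hv hv0,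
          show (⟨x, hx⟩ : P) * ⟨x⁻¹, P.inv_mem hx⟩ = 1 from Subtype.ext (mul_inv_cancel x)]
        exact Cfsg.Agent.Lib.WeightOrbits.wspace_one ρK P hv hv0
      rw [commutatorElement_def, show x * z * x⁻¹ * z⁻¹ = x * (z * x⁻¹ * z⁻¹) by group, map_mul,
        Module.End.mul_apply, hv ⟨_, hzx⟩, map_smul, hv ⟨x, hx⟩, smul_smul, e1, mul_comm, e2, one_smul]
    rw [hcomm] at hle
    exact hv0 (hPfixK v fun x hx => (hle hx).2)
  -- no invariant set of weights of 2-power size under the q-subgroup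
  have hnotpow : ∀ O : Finset (P → K), (∀ c ∈ O, c ∈ Λ) →
      (∀ y ∈ Q, ∀ c ∈ O, Cfsg.Agent.Lib.WeightOrbits.conjW P y c ∈ O) → q ∣ O.card := by
    intro O hOΛ hOinv
    letI : MulAction Q O :=
      { smul := fun y c => ⟨Cfsg.Agent.Lib.WeightOrbits.conjW P (y : S) c, hOinv y y.2 c c.2⟩
        one_smul := fun c => Subtype.ext (Cfsg.Agent.Lib.WeightOrbits.conjW_one P (c : P → K))
        mul_smul := fun a b c =>
          Subtype.ext (Cfsg.Agent.Lib.WeightOrbits.conjW_mul P (a : S) (b : S) (c : P → K)) }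
    have hmod := Sq.isPGroup'.card_modEq_card_fixedPoints O
    haveI : IsEmpty (MulAction.fixedPoints Q O) := ⟨fun ⟨c, hc⟩ => by
      haveI : Nontrivial Q := Finite.one_lt_card_iff_nontrivial.mp (hSq.symm ▸ hq.one_lt)
      obtain ⟨⟨y, hy⟩, hy1⟩ := exists_ne (1 : Q)
      exact hy1 (Subtype.ext (hfree c (hOΛ c c.2) y hy (congrArg Subtype.val (hc ⟨y, hy⟩))))⟩
    rw [Nat.card_of_isEmpty (α := MulAction.fixedPoints Q O)] at hmod
    rw [← Nat.card_eq_finsetCard O]
    exact Nat.modEq_zero_iff_dvd.mp hmod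
  have hno2 : ∀ a : ℕ, ¬ q ∣ 2 ^ a := fun a h =>
    hq2 ((Nat.prime_dvd_prime_iff_eq hq Nat.prime_two).mp (hq.dvd_of_dvd_pow h))
  -- orbits of the 2-subgroup
  choose O w hOmem hw hwfix hOcard using fun c : Λ =>
    Cfsg.Agent.Lib.WeightOrbits.exists_orbit_vector ρK P T S₂.isPGroup' (c : P → K) c.2
  have hOsub : ∀ (c : Λ), ∀ e ∈ O c, e ∈ Λ := fun c e he => by
    obtain ⟨t, -, rfl⟩ := (hOmem c e).mp he
    exact hΛinv t _ c.2
  have hself : ∀ c : Λ, (c : P → K) ∈ O c := fun c =>
    (hOmem c _).mpr ⟨1, T.one_mem, (Cfsg.Agent.Lib.WeightOrbits.conjW_one P _).symm⟩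
  have hdisj : ∀ c c' : Λ, (c' : P → K) ∉ O c → Disjoint (O c) (O c') := by
    intro c c' hnot
    rw [Finset.disjoint_left]
    intro e he he'
    obtain ⟨t, ht, rfl⟩ := (hOmem c e).mp he
    obtain ⟨t', ht', htt⟩ := (hOmem c' _).mp he'
    refine hnot ((hOmem c _).mpr ⟨t'⁻¹ * t, T.mul_mem (T.inv_mem ht') ht, ?_⟩)
    rw [Cfsg.Agent.Lib.WeightOrbits.conjW_mul, htt, ← Cfsg.Agent.Lib.WeightOrbits.conjW_mul,
      inv_mul_cancel, Cfsg.Agent.Lib.WeightOrbits.conjW_one]
  let f : Λ → K ⊗[ZMod 2] E := fun c => ∑ e ∈ O c, w c e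
  have hfmem : ∀ c, f c ∈ LinearMap.range ι := fun c => hfixed _ fun s hs => hwfix c s hs
  have hindep : ∀ s : Finset Λ, (∀ c ∈ s, ∀ c' ∈ s, c ≠ c' → Disjoint (O c) (O c')) →
      LinearIndepOn K f (s : Set Λ) := by
    intro s hs
    rw [linearIndepOn_finset_iff]
    intro g hg c hc
    have hbi : (↑s : Set Λ).PairwiseDisjoint O := fun a ha a' ha' hne => hs a ha a' ha' hne
    let W : (P → K) → K ⊗[ZMod 2] E := fun e =>
      ∑ a ∈ s, if e ∈ O a then g a • w a e else 0
    have hWmem : ∀ e ∈ s.biUnion O, W e ∈ Cfsg.Agent.Lib.WeightOrbits.wspace ρK P e := fun e _ =>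
      Submodule.sum_mem _ fun a _ => by
        split_ifs with h
        · exact Submodule.smul_mem _ _ (hw a e h).1
        · exact Submodule.zero_mem _
    have hWeq : ∀ a ∈ s, ∀ e ∈ O a, W e = g a • w a e := by
      intro a ha e he
      simp only [W]
      rw [Finset.sum_eq_single a]
      · rw [if_pos he]
      · intro a' ha' hne
        rw [if_neg fun he' => Finset.disjoint_left.mp (hs a' ha' a ha hne) he' he]
      · exact fun h => absurd ha h
    have hsum : ∑ e ∈ s.biUnion O, W e = 0 := by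
      rw [Finset.sum_biUnion hbi, ← hg]
      refine Finset.sum_congr rfl fun a ha => ?_
      rw [Finset.smul_sum]
      exact Finset.sum_congr rfl fun e he => hWeq a ha e he
    have h0 := Cfsg.Agent.Lib.WeightOrbits.eq_zero_of_sum_eq_zero ρK P (s.biUnion O) (fun e => e)
      (fun a _ a' _ h => h) W hWmem hsum _ (Finset.mem_biUnion.mpr ⟨c, hc, hself c⟩)
    rw [hWeq c hc _ (hself c)] at h0
    exact (smul_eq_zero.mp h0).resolve_right (hw c _ (hself c)).2
  have hcount : ∀ s : Finset Λ, (∀ c ∈ s, ∀ c' ∈ s, c ≠ c' → Disjoint (O c) (O c')) →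
      s.card ≤ Module.finrank K (LinearMap.range ι) := by
    intro s hs
    let g : ↥(↑s : Set Λ) → LinearMap.range ι := fun c => ⟨f c.1, hfmem c.1⟩
    have hli : LinearIndependent K g := by
      refine LinearIndependent.of_comp (LinearMap.range ι).subtype ?_
      exact hindep s hs
    simpa using hli.fintype_card_le_finrank
  obtain ⟨c₁, hc₁⟩ := hΛne
  set a₁ : Λ := ⟨c₁, hc₁⟩
  obtain ⟨m₁, hm₁⟩ := hOcard a₁
  have hnotstable : ∀ a : Λ, ∃ y ∈ Q, ∃ e ∈ O a, Cfsg.Agent.Lib.WeightOrbits.conjW P y e ∉ O a := by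
    intro a
    by_contra hall
    push Not at hall
    obtain ⟨m, hm⟩ := hOcard a
    exact hno2 m (hm ▸ hnotpow (O a) (hOsub a) hall)
  obtain ⟨y₁, hy₁, e₁, he₁, hout⟩ := hnotstable a₁
  set a₂ : Λ := ⟨_, hΛinv y₁ e₁ (hOsub a₁ e₁ he₁)⟩ with ha₂
  have h12 : Disjoint (O a₁) (O a₂) := hdisj a₁ a₂ hout
  have hne12 : a₁ ≠ a₂ := fun h => hout (by
    have := hself a₁
    rwa [show (a₁ : P → K) = (a₂ : P → K) from congrArg Subtype.val h] at this)
  have hpair : ∀ c ∈ ({a₁, a₂} : Finset Λ), ∀ c' ∈ ({a₁, a₂} : Finset Λ), c ≠ c' → Disjoint (O c) (O c') := by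
    intro c hc c' hc' hne
    simp only [Finset.mem_insert, Finset.mem_singleton] at hc hc'
    rcases hc with rfl | rfl <;> rcases hc' with rfl | rfl
    · exact absurd rfl hne
    · exact h12
    · exact h12.symm
    · exact absurd rfl hne
  have h2le := hcount _ hpair
  rw [Finset.card_pair hne12] at h2le
  have hd2 : d = 2 := by omega
  right
  refine ⟨by rw [hcard0, hd2]; rfl, ?_⟩
  by_contra hstab
  push Not at hstab
  -- all weights lie in the two orbits
  have hcover : ∀ e ∈ Λ, e ∈ O a₁ ∨ e ∈ O a₂ := by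
    intro e he
    by_contra hne
    push Not at hne
    set a₃ : Λ := ⟨e, he⟩
    have h13 := hdisj a₁ a₃ hne.1
    have h23 := hdisj a₂ a₃ hne.2
    have n13 : a₁ ≠ a₃ := fun h => Finset.disjoint_left.mp h13 (hself a₁) (h ▸ hself a₁)
    have n23 : a₂ ≠ a₃ := fun h => Finset.disjoint_left.mp h23 (hself a₂) (h ▸ hself a₂)
    have := hcount {a₁, a₂, a₃} (by
      intro c hc c' hc' hne'
      simp only [Finset.mem_insert, Finset.mem_singleton] at hc hc'
      rcases hc with rfl | rfl | rfl <;> rcases hc' with rfl | rfl | rfl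
      all_goals first
        | exact absurd rfl hne'
        | exact h12 | exact h12.symm | exact h13 | exact h13.symm | exact h23 | exact h23.symm)
    rw [Finset.card_eq_three.mpr ⟨a₁, a₂, a₃, hne12, n13, n23, rfl⟩] at this
    omega
  obtain ⟨m₂, hm₂⟩ := hOcard a₂
  have hm12 : m₁ ≠ m₂ := by
    intro h
    have hqdvd := hnotpow (O a₁ ∪ O a₂)
      (fun c hc => (Finset.mem_union.mp hc).elim (hOsub a₁ c) (hOsub a₂ c))
      (fun y _ c hc => Finset.mem_union.mpr (hcover _ (hΛinv y c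
        ((Finset.mem_union.mp hc).elim (hOsub a₁ c) (hOsub a₂ c)))))
    rw [Finset.card_union_of_disjoint h12, hm₁, hm₂, ← h, ← two_mul, ← pow_succ'] at hqdvd
    exact hno2 _ hqdvd
  -- `y₁ f₁` is fixed by the 2-subgroup
  have hyrange : ∀ z ∈ LinearMap.range ι, ρK y₁ z ∈ LinearMap.range ι := by
    rintro _ ⟨z, rfl⟩
    induction z using TensorProduct.induction_on with
    | zero => simp
    | tmul a v => exact ⟨a ⊗ₜ ⟨ρ y₁ v, fun s hs => hstab y₁ hy₁ v v.2 s hs⟩, by simp [ι, ρK]⟩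
    | add u v hu hv => rw [map_add, map_add]; exact Submodule.add_mem _ hu hv
  have hspan : Submodule.span K {f a₁, f a₂} = LinearMap.range ι := by
    apply Submodule.eq_of_le_of_finrank_le
    · rw [Submodule.span_le]
      rintro z (rfl | rfl)
      · exact hfmem a₁
      · exact hfmem a₂
    · have hli := hindep _ hpair
      have h2 : Module.finrank K (Submodule.span K (f '' (({a₁, a₂} : Finset Λ) : Set Λ))) = 2 := by
        rw [Set.image_eq_range, finrank_span_eq_card hli]
        simp [hne12]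
      rw [Finset.coe_pair, Set.image_pair] at h2
      omega
  obtain ⟨α, β, hαβ⟩ := Submodule.mem_span_pair.mp (hspan ▸ hyrange _ (hfmem a₁) :
    ρK y₁ (f a₁) ∈ Submodule.span K {f a₁, f a₂})
  -- compare supports
  let img := (O a₁).image (Cfsg.Agent.Lib.WeightOrbits.conjW P y₁)
  have hinjY : Set.InjOn (Cfsg.Agent.Lib.WeightOrbits.conjW P y₁) (O a₁ : Set (P → K)) := by
    intro u _ u' _ h
    have := congrArg (Cfsg.Agent.Lib.WeightOrbits.conjW P y₁⁻¹) h
    rwa [← Cfsg.Agent.Lib.WeightOrbits.conjW_mul, ← Cfsg.Agent.Lib.WeightOrbits.conjW_mul,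
      inv_mul_cancel, Cfsg.Agent.Lib.WeightOrbits.conjW_one,
      Cfsg.Agent.Lib.WeightOrbits.conjW_one] at this
  let U : Finset (P → K) := O a₁ ∪ O a₂
  let W : (P → K) → K ⊗[ZMod 2] E := fun e =>
    (∑ u ∈ O a₁, if Cfsg.Agent.Lib.WeightOrbits.conjW P y₁ u = e then ρK y₁ (w a₁ u) else 0) -
      ((if e ∈ O a₁ then α • w a₁ e else 0) + (if e ∈ O a₂ then β • w a₂ e else 0))
  have hWmem : ∀ e ∈ U, W e ∈ Cfsg.Agent.Lib.WeightOrbits.wspace ρK P e := by
    intro e _
    refine Submodule.sub_mem _ (Submodule.sum_mem _ fun u hu => ?_) (Submodule.add_mem _ ?_ ?_)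
    · split_ifs with h
      · exact h ▸ Cfsg.Agent.Lib.WeightOrbits.map_wspace ρK P y₁ (hw a₁ u hu).1
      · exact Submodule.zero_mem _
    · split_ifs with h
      · exact Submodule.smul_mem _ _ (hw a₁ e h).1
      · exact Submodule.zero_mem _
    · split_ifs with h
      · exact Submodule.smul_mem _ _ (hw a₂ e h).1
      · exact Submodule.zero_mem _
  have himg : ∀ u ∈ O a₁, Cfsg.Agent.Lib.WeightOrbits.conjW P y₁ u ∈ U := fun u hu =>
    Finset.mem_union.mpr (hcover _ (hΛinv y₁ u (hOsub a₁ u hu)))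
  have hWsum : ∑ e ∈ U, W e = 0 := by
    simp only [W, Finset.sum_sub_distrib, Finset.sum_add_distrib]
    rw [Finset.sum_comm]
    rw [Finset.sum_congr rfl fun u hu =>
      (Finset.sum_ite_eq U (Cfsg.Agent.Lib.WeightOrbits.conjW P y₁ u) fun _ => ρK y₁ (w a₁ u)).trans
        (if_pos (himg u hu))]
    rw [← map_sum, Finset.sum_ite_mem, Finset.sum_ite_mem,
      Finset.inter_eq_right.mpr Finset.subset_union_left,
      Finset.inter_eq_right.mpr Finset.subset_union_right, ← Finset.smul_sum, ← Finset.smul_sum,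
      sub_eq_zero]
    exact hαβ.symm
  have hW0 := Cfsg.Agent.Lib.WeightOrbits.eq_zero_of_sum_eq_zero ρK P U (fun e => e)
    (fun a _ a' _ h => h) W hWmem hWsum
  have hin : ∀ u ∈ O a₁, W (Cfsg.Agent.Lib.WeightOrbits.conjW P y₁ u) = ρK y₁ (w a₁ u) -
      ((if Cfsg.Agent.Lib.WeightOrbits.conjW P y₁ u ∈ O a₁ then
          α • w a₁ (Cfsg.Agent.Lib.WeightOrbits.conjW P y₁ u) else 0) +
        (if Cfsg.Agent.Lib.WeightOrbits.conjW P y₁ u ∈ O a₂ then
          β • w a₂ (Cfsg.Agent.Lib.WeightOrbits.conjW P y₁ u) else 0)) := by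
    intro u hu
    simp only [W]
    rw [Finset.sum_eq_single u]
    · rw [if_pos rfl]
    · intro u' hu' hne; rw [if_neg fun h => hne (hinjY hu' hu h)]
    · exact fun h => absurd hu h
  have hnotimg : ∀ e ∈ U, e ∉ img → W e =
      - ((if e ∈ O a₁ then α • w a₁ e else 0) + (if e ∈ O a₂ then β • w a₂ e else 0)) := by
    intro e _ hne
    simp only [W]
    rw [Finset.sum_eq_zero, zero_sub]
    intro u hu
    rw [if_neg fun h => hne (Finset.mem_image.mpr ⟨u, hu, h⟩)]
  -- the image meets `O a₂`, so `β ≠ 0`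
  have hβ : β ≠ 0 := by
    intro hβ
    have he2 : Cfsg.Agent.Lib.WeightOrbits.conjW P y₁ e₁ ∈ O a₂ := hself a₂
    have := hW0 _ (himg e₁ he₁)
    rw [hin e₁ he₁, if_neg hout, hβ, if_pos he2, zero_smul, add_zero, sub_zero] at this
    exact Cfsg.Agent.Lib.WeightOrbits.rho_ne_zero ρK (hw a₁ e₁ he₁).2 y₁ this
  have hsub2 : O a₂ ⊆ img := by
    intro e he
    by_contra hne
    have hU : e ∈ U := Finset.mem_union_right _ he
    have := hW0 e hU
    rw [hnotimg e hU hne, if_pos he, if_neg (Finset.disjoint_right.mp h12 he), zero_add,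
      neg_eq_zero, smul_eq_zero] at this
    exact this.elim hβ (hw a₂ e he).2
  have hcimg : img.card = (O a₁).card := Finset.card_image_of_injOn hinjY
  have hlt : (O a₂).card < (O a₁).card := lt_of_le_of_ne (hcimg ▸ Finset.card_le_card hsub2)
    (by rw [hm₁, hm₂]; exact fun h => hm12 (Nat.pow_right_injective le_rfl h).symm)
  by_cases hα : α = 0
  · -- then the image is contained in `O a₂`
    have : img ⊆ O a₂ := by
      intro e he
      obtain ⟨u, hu, rfl⟩ := Finset.mem_image.mp he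
      by_contra hne
      have := hW0 _ (himg u hu)
      rw [hin u hu, if_neg hne, hα] at this
      simp only [zero_smul, ite_self, add_zero, sub_zero] at this
      exact Cfsg.Agent.Lib.WeightOrbits.rho_ne_zero ρK (hw a₁ u hu).2 y₁ this
    have := Finset.card_le_card this
    omega
  · have hsub1 : O a₁ ⊆ img := by
      intro e he
      by_contra hne
      have hU : e ∈ U := Finset.mem_union_left _ he
      have := hW0 e hU
      rw [hnotimg e hU hne, if_pos he, if_neg (Finset.disjoint_left.mp h12 he), add_zero,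
        neg_eq_zero, smul_eq_zero] at this
      exact this.elim hα (hw a₁ e he).2
    have := Finset.card_le_card (Finset.union_subset hsub1 hsub2)
    rw [Finset.card_union_of_disjoint h12, hcimg] at this
    have : 0 < (O a₂).card := Finset.card_pos.mpr ⟨_, hself a₂⟩
    omega

end Cfsg.Agent.S4414
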