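import Cfsg.Statements.S4415
import Cfsg.Agent.Lib.CubicBlock.Final
import Cfsg.Agent.Lib.Coprime.Quotient
import Cfsg.Agent.Lib.LargeES.Heisenberg

set_option autoImplicit false
open Cfsg

namespace Cfsg.Agent.S4415

open Subgroup
open scoped commutatorElement
open Cfsg.Agent.Lib Cfsg.Agent.Lib.CubicBlock

section Reduce

variable {S : Type*} [Group S] [Finite S]

theorem q_data (B Q : Subgroup S) (b : S) (hb : zpowers b = B) (hb3 : b ^ 3 = 1)
    (hQ : Cfsg.IsElementaryAbelian 2 Q) (hQ4 : Nat.card Q = 4)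
    (hBQ : B ≤ normalizer (Q : Set S)) (hBQ' : ¬ B ≤ centralizer (Q : Set S)) :
    ∃ q ∈ Q, b * q * b⁻¹ ∈ Q ∧ q * q = 1 ∧ b * q * b⁻¹ ≠ q ∧
      q * (b * q * b⁻¹) = b * q * b⁻¹ * q ∧
      q * (b * q * b⁻¹) = b * (b * q * b⁻¹) * b⁻¹ := by
  classical
  have hconj : ∀ x ∈ Q, b * x * b⁻¹ ∈ Q := fun x hx =>
    (mem_normalizer_iff.1 (hBQ (hb ▸ mem_zpowers b)) x).1 hx
  have sq : ∀ x ∈ Q, x * x = 1 := fun x hx => by rw [← pow_two]; exact hQ.2 x hx
  have comm : ∀ x ∈ Q, ∀ y ∈ Q, x * y = y * x := fun x hx y hy =>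
    congrArg Subtype.val (hQ.1.is_comm.comm ⟨x, hx⟩ ⟨y, hy⟩)
  obtain ⟨q, hq, hne⟩ : ∃ q ∈ Q, b * q * b⁻¹ ≠ q := by
    by_contra h
    push_neg at h
    refine hBQ' (hb ▸ zpowers_le.2 (mem_centralizer_iff.2 fun x hx => ?_))
    exact (mul_inv_eq_iff_eq_mul.1 (h x hx)).symm
  set q1 := b * q * b⁻¹ with hq1
  have hq1Q : q1 ∈ Q := hconj q hq
  have hq2Q : b * q1 * b⁻¹ ∈ Q := hconj q1 hq1Q
  refine ⟨q, hq, hq1Q, sq q hq, hne, comm q hq q1 hq1Q, ?_⟩
  have hq0 : q ≠ 1 := fun h => hne (by rw [hq1, h]; group)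
  have hq10 : q1 ≠ 1 := fun h => hq0 (by
    rw [hq1, mul_inv_eq_one] at h
    exact mul_eq_left.1 h)
  have hqq0 : q * q1 ≠ 1 := fun h => hne (mul_left_cancel (h.trans (sq q hq).symm))
  have hb3' : b * b * b = 1 := by rw [mul_assoc, ← pow_three, hb3]
  have n0 : b * q1 * b⁻¹ ≠ 1 := fun h => hq10 (by
    rw [mul_inv_eq_one] at h
    exact mul_eq_left.1 h)
  have n1 : b * q1 * b⁻¹ ≠ q1 := fun h => hne (mul_left_cancel (mul_right_cancel h))
  have n2 : b * q1 * b⁻¹ ≠ q := fun h => hne (by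
    have : b * (b * q1 * b⁻¹) * b⁻¹ = q := by
      calc b * (b * q1 * b⁻¹) * b⁻¹ = (b * b * b) * q * (b * b * b)⁻¹ := by rw [hq1]; group
        _ = q := by rw [hb3']; group
    rw [h] at this
    exact this)
  haveI : Fintype Q := Fintype.ofFinite Q
  let f : Fin 4 → Q := ![1, ⟨q, hq⟩, ⟨q1, hq1Q⟩, ⟨q * q1, Q.mul_mem hq hq1Q⟩]
  have hf : Function.Injective f := by
    rw [← List.nodup_ofFn]
    have e1 : q ≠ q * q1 := fun h => hq10 (mul_eq_left.1 h.symm)
    have e2 : q1 ≠ q * q1 := fun h => hq0 (mul_eq_right.1 h.symm)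
    simp [f, List.ofFn_succ, Subtype.ext_iff, Ne.symm hq10, Ne.symm hqq0, Ne.symm hq0,
      Ne.symm hne, e1, e2]
  have hsur := ((Fintype.bijective_iff_injective_and_card f).2 ⟨hf, by
    rw [Fintype.card_fin, ← Nat.card_eq_fintype_card, hQ4]⟩).2
  obtain ⟨i, hi⟩ := hsur ⟨_, hq2Q⟩
  have hi' : (f i : S) = b * q1 * b⁻¹ := congrArg Subtype.val hi
  fin_cases i
  · exact absurd hi'.symm n0
  · exact absurd hi'.symm n2
  · exact absurd hi'.symm n1
  · exact hi'

theorem four_le_core [Group.IsSolvable S] (B Q : Subgroup S) (b : S) (hb : zpowers b = B)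
    (hQ : Cfsg.IsElementaryAbelian 2 Q) (P : Sylow 3 S)
    (hBZ : (center (P : Subgroup S)).map (P : Subgroup S).subtype = B) {x : S} (hx : x ∈ Q)
    (hbx : b * x * b⁻¹ ∈ Q) : x * b * x⁻¹ * b⁻¹ ∈ pPrimeCore 3 S := by
  haveI : Fact (Nat.Prime 3) := ⟨Nat.prime_three⟩
  haveI := PSolvable.pPrimeCore_characteristic (G := S) (p := 3)
  set f := QuotientGroup.mk' (pPrimeCore 3 S) with hf
  have hC := PSolvable.centralizer_pCore_le_of_isPSolvable
    (PSolvable.isPSolvable_of_isSolvable (G := S ⧸ pPrimeCore 3 S) (p := 3))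
    PSolvable.pPrimeCore_quotient_eq_bot
  have hL : pCore 3 (S ⧸ pPrimeCore 3 S) ≤ (P : Subgroup S).map f := by
    have := PSolvable.pCore_le_sylow (P.mapSurjective (QuotientGroup.mk'_surjective (pPrimeCore 3 S)))
    exact this
  obtain ⟨c, hc, hcb⟩ : ∃ c ∈ center (P : Subgroup S), ((P : Subgroup S).subtype c) = b := by
    have : b ∈ B := hb ▸ mem_zpowers b
    rwa [← hBZ] at this
  have hbL : f b ∈ pCore 3 (S ⧸ pPrimeCore 3 S) := hC (mem_centralizer_iff.2 fun y hy => by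
    obtain ⟨p, hp, rfl⟩ := hL hy
    rw [← map_mul, ← map_mul, ← hcb]
    exact congrArg f (congrArg Subtype.val (mem_center_iff.1 hc ⟨p, hp⟩)))
  have hcomm : f (x * b * x⁻¹ * b⁻¹) ∈ pCore 3 (S ⧸ pPrimeCore 3 S) := by
    simp only [map_mul, map_inv]
    haveI := PSolvable.pCore_characteristic (G := S ⧸ pPrimeCore 3 S) (p := 3)
    exact mul_mem (Normal.conj_mem inferInstance _ hbL (f x)) (inv_mem hbL)
  have hmem : x * b * x⁻¹ * b⁻¹ ∈ Q := by
    have := Q.mul_mem hx (Q.inv_mem hbx)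
    convert this using 1
    group
  obtain ⟨k, hk⟩ := PSolvable.pCore_isPGroup (G := S ⧸ pPrimeCore 3 S) (p := 3) ⟨_, hcomm⟩
  have h3 : f (x * b * x⁻¹ * b⁻¹) ^ 3 ^ k = 1 := congrArg Subtype.val hk
  have h2 : f (x * b * x⁻¹ * b⁻¹) ^ 2 = 1 := by rw [← map_pow, hQ.2 _ hmem, map_one]
  have h1 : f (x * b * x⁻¹ * b⁻¹) ^ Nat.gcd (3 ^ k) 2 = 1 := pow_gcd_eq_one.mpr ⟨h3, h2⟩
  rw [Nat.Coprime.pow_left k (by norm_num : Nat.Coprime 3 2), pow_one] at h1
  exact (QuotientGroup.eq_one_iff _).1 h1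

theorem eigen_plane {G V : Type*} [Group G] [AddCommGroup V] [Module (ZMod 3) V]
    {σ : Representation (ZMod 3) G V} {b q : G} (hcu : b ^ 3 = 1)
    (hqp : q * (b * q * b⁻¹) = b * (b * q * b⁻¹) * b⁻¹) {w : V} (hw0 : w ≠ 0)
    (hw : σ q w = w) (hw' : σ (b * q * b⁻¹) w = -w) :
    σ q (σ b w) = -σ b w ∧ σ q (σ b (σ b w)) = -σ b (σ b w) ∧
      LinearIndependent (ZMod 3) ![(σ b - 1) w, (σ b - 1) (σ b w)] ∧
      ∀ a c : ZMod 3, σ q (a • (σ b - 1) w + c • (σ b - 1) (σ b w)) =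
        a • (σ b - 1) w + c • (σ b - 1) (σ b w) → a = 0 ∧ c = 0 := by
  have hb3 : b * b * b = 1 := by rw [mul_assoc, ← pow_three, hcu]
  have e1 : q * b = b * (q * (b * q * b⁻¹)) := by
    calc q * b = (b * b * b) * q * (b * b * b)⁻¹ * b := by rw [hb3]; group
      _ = b * (b * (b * q * b⁻¹) * b⁻¹) := by group
      _ = _ := by rw [← hqp]
  have e2 : q * (b * b) = b * b * (b * q * b⁻¹) := by
    calc q * (b * b) = (b * b * b) * q * (b * b * b)⁻¹ * (b * b) := by rw [hb3]; group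
      _ = _ := by group
  have hqb : σ q (σ b w) = -σ b w := by
    rw [← rho_mul, e1, rho_mul, rho_mul q, hw', map_neg, hw, map_neg]
  have hqbb : σ q (σ b (σ b w)) = -σ b (σ b w) := by
    rw [← rho_mul b b, ← rho_mul, e2, rho_mul, hw', map_neg]
  have hcube : σ b (σ b (σ b w)) = w := by
    rw [← rho_mul, ← rho_mul, hb3, map_one]; rfl
  have hww : w + w ≠ 0 := fun h => hw0 (by
    have := four_smul w
    rw [h, zero_add, h] at this
    exact this.symm)
  set β := σ b - 1 with hβ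
  have happ : ∀ x, β x = σ b x - x := fun x => rfl
  let p : Module.End (ZMod 3) V := 1 + σ q
  have papp : ∀ x, p x = x + σ q x := fun x => rfl
  have pw : p w = w + w := by rw [papp, hw]
  have pb : p (σ b w) = 0 := by rw [papp, hqb, add_neg_cancel]
  have pbb : p (σ b (σ b w)) = 0 := by rw [papp, hqbb, add_neg_cancel]
  refine ⟨hqb, hqbb, ?_, fun a c h => ?_⟩
  · rw [LinearIndependent.pair_iff]
    intro s t hst
    have e := congrArg p hst
    simp only [happ, map_add, map_smul, map_sub, map_zero, pw, pb, pbb, zero_sub, sub_zero,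
      smul_zero, add_zero, smul_neg, neg_eq_zero] at e
    have hs := (smul_eq_zero.1 e).resolve_right hww
    rw [hs, zero_smul, zero_add] at hst
    have e' := congrArg (fun x => p (σ b x)) hst
    simp only [happ, map_smul, map_sub, map_zero, hcube, pw, pbb, sub_zero] at e'
    exact ⟨hs, (smul_eq_zero.1 e').resolve_right hww⟩
  · simp only [happ, map_add, map_smul, map_sub, hw, hqb, hqbb] at h
    have h5 : a • σ b w + c • (σ b (σ b w) - σ b w) = 0 := by
      have hz : ∀ y : V, y + y = 0 → y = 0 := fun y hy => by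
        have := four_smul y
        rw [hy, zero_add, hy] at this
        exact this.symm
      refine hz _ ?_
      rw [← sub_eq_zero.2 h.symm]
      module
    have k := congrArg (fun x => p (σ b x)) h5
    simp only [map_add, map_smul, map_sub, map_zero, hcube, pw, pbb, sub_zero, smul_zero,
      zero_add] at k
    have hc := (smul_eq_zero.1 k).resolve_right hww
    rw [hc, zero_smul, add_zero, smul_eq_zero] at h5
    exact ⟨h5.resolve_right fun h6 => hw0 (by rw [← rho_inv (ρ := σ) b w, h6, map_zero]), hc⟩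

end Reduce

section Module3

variable {S : Type*} [Group S] [Finite S] {E : Type*} [AddCommGroup E] [Module (ZMod 3) E]
  [Finite E] (ρ : Representation (ZMod 3) S E)

omit [Finite S] in
theorem rank_le_two {b : S} (hb3 : b ^ 3 = 1) (E₀ E₁ : Submodule (ZMod 3) E) (htop : E₀ ⊔ E₁ = ⊤)
    (hE1 : ∀ v ∈ E₁, ρ b v = v) (hE0inv : ∀ v ∈ E₀, ρ b v ∈ E₀) (hE0 : Nat.card E₀ = 27) :
    Module.finrank (ZMod 3) (LinearMap.range (ρ b - 1)) ≤ 2 := by
  haveI : Module.Finite (ZMod 3) E := Module.Finite.of_finite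
  set β := ρ b - 1 with hβ
  have happ : ∀ v, β v = ρ b v - v := fun v => rfl
  set g := β.comp E₀.subtype with hg
  have hrange : LinearMap.range β ≤ LinearMap.range g := by
    rintro _ ⟨v, rfl⟩
    obtain ⟨x, hx, y, hy, rfl⟩ := Submodule.mem_sup.1 (htop ▸ Submodule.mem_top : v ∈ E₀ ⊔ E₁)
    refine ⟨⟨x, hx⟩, ?_⟩
    show β x = β (x + y)
    rw [map_add, show β y = 0 by rw [happ, hE1 y hy, sub_self], add_zero]
  have h3 : Module.finrank (ZMod 3) E₀ = 3 := by
    have := Module.natCard_eq_pow_finrank (K := ZMod 3) (V := E₀)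
    rw [hE0, Nat.card_zmod] at this
    exact (Nat.pow_right_injective (by norm_num : 2 ≤ 3) (show 3 ^ 3 = 3 ^ _ from this)).symm
  have hβ3 : ∀ v, β (β (β v)) = 0 := fun v => by
    have hc : ρ b (ρ b (ρ b v)) = v := by
      rw [← rho_mul, ← rho_mul, ← pow_three', hb3, map_one]; rfl
    simp only [happ, map_sub, hc]
    have h3' : ∀ w : E, w + w + w = 0 := fun w => by
      have : (3 : ZMod 3) • w = 0 := by rw [show (3 : ZMod 3) = 0 from rfl, zero_smul]
      rw [← this]; module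
    have e1 := h3' (ρ b (ρ b v))
    have e2 := h3' (ρ b v)
    calc _ = (ρ b v + ρ b v + ρ b v) - (ρ b (ρ b v) + ρ b (ρ b v) + ρ b (ρ b v)) := by abel
      _ = 0 := by rw [e1, e2, sub_zero]
  have hker : LinearMap.ker g ≠ ⊥ := by
    intro h
    have hinj := LinearMap.ker_eq_bot.1 h
    have hz : ∀ v ∈ E₀, β v ∈ E₀ := fun v hv => E₀.sub_mem (hE0inv v hv) hv
    have zero : ∀ v ∈ E₀, β v = 0 → v = 0 := fun v hv e => congrArg Subtype.val
      (hinj (show g ⟨v, hv⟩ = g 0 by rw [map_zero]; exact e))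
    have : E₀ = ⊥ := (Submodule.eq_bot_iff _).2 fun v hv =>
      zero v hv (zero _ (hz v hv) (zero _ (hz _ (hz v hv)) (hβ3 v)))
    rw [this] at h3
    rw [finrank_bot] at h3
    omega
  have h1 := LinearMap.finrank_range_add_finrank_ker g
  have h2 := Submodule.one_le_finrank_iff.2 hker
  have h4 := Submodule.finrank_mono hrange
  omega

end Module3

/-- Let S be a finite solvable group acting faithfully on a finite-dimensional space E over the field with three elements, with O₃(S) = 1. Let B ≤ S have order 3 and suppose: E = E₀ ⊕ E₁ with B fixing E₁ pointwise, E₀ B-invariant of order 27 and indecomposable under B (a generator of B has a single Jordan block on E₀); B normalizes but does not centralize some subgroup Q of S that is elementary abelian of order 4; and B is the centre of a Sylow 3-subgroup of S. Put R = [O_{3'}(S), B]. Then R is elementary abelian of order 4 or extraspecial of order 32 containing an elementary abelian subgroup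 of order 8 (a central product of two quaternion groups), and E is the direct sum of a subspace fixed pointwise by R and an RB-invariant subspace on which the subgroup RB acts faithfully and irreducibly. -/
theorem result {S : Type*} [Group S] [Finite S]
    [Group.IsSolvable S] {E : Type*} [AddCommGroup E] [Module (ZMod 3) E] [Finite E] (ρ : Representation (ZMod 3) S E)
    (hfaith : Function.Injective ρ) (hO3 : Cfsg.pCore 3 S = ⊥)
    (B : Subgroup S) (hB : Nat.card ↥B = 3) (b : S) (hb : Subgroup.zpowers b = B)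
    (E₀ E₁ : Submodule (ZMod 3) E) (hE01 : E₀ ⊓ E₁ = ⊥) (hE01' : E₀ ⊔ E₁ = ⊤)
    (hE1 : ∀ v ∈ E₁, ρ b v = v) (hE0inv : ∀ v ∈ E₀, ρ b v ∈ E₀) (hE0 : Nat.card ↥E₀ = 27)
    (hind : ∃ v ∈ E₀, ρ b (ρ b v - v) - (ρ b v - v) ≠ 0)
    (Q : Subgroup S) (hQ : Cfsg.IsElementaryAbelian 2 Q) (hQ4 : Nat.card ↥Q = 4)
    (hBQ : B ≤ Subgroup.normalizer (Q : Set S)) (hBQ' : ¬ B ≤ Subgroup.centralizer (Q : Set S))
    (P : Sylow 3 S) (hBZ : (Subgroup.center ↥(P : Subgroup S)).map (P : Subgroup S).subtype = B) :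
    ((Cfsg.IsElementaryAbelian 2 ⁅Cfsg.pPrimeCore 3 S, B⁆ ∧ Nat.card ↥⁅Cfsg.pPrimeCore 3 S, B⁆ = 4) ∨
      (Cfsg.IsExtraspecial 2 ↥⁅Cfsg.pPrimeCore 3 S, B⁆ ∧ Nat.card ↥⁅Cfsg.pPrimeCore 3 S, B⁆ = 32 ∧
        ∃ A : Subgroup S, A ≤ ⁅Cfsg.pPrimeCore 3 S, B⁆ ∧ Cfsg.IsElementaryAbelian 2 A ∧ Nat.card ↥A = 8)) ∧
    ∃ F₀ F₁ : Submodule (ZMod 3) E, F₀ ⊓ F₁ = ⊥ ∧ F₀ ⊔ F₁ = ⊤ ∧
      (∀ r ∈ ⁅Cfsg.pPrimeCore 3 S, B⁆, ∀ v ∈ F₁, ρ r v = v) ∧ (∀ r ∈ ⁅Cfsg.pPrimeCore 3 S, B⁆ ⊔ B, ∀ v ∈ F₀, ρ r v ∈ F₀) ∧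
      (∀ r ∈ ⁅Cfsg.pPrimeCore 3 S, B⁆ ⊔ B, (∀ v ∈ F₀, ρ r v = v) → r = 1) ∧
      (∀ N : Submodule (ZMod 3) E, N ≤ F₀ → (∀ r ∈ ⁅Cfsg.pPrimeCore 3 S, B⁆ ⊔ B, ∀ v ∈ N, ρ r v ∈ N) → N = ⊥ ∨ N = F₀) := by
  haveI : Fact (Nat.Prime 3) := ⟨Nat.prime_three⟩
  haveI : Module.Finite (ZMod 3) E := Module.Finite.of_finite
  have hb3 : b ^ 3 = 1 := by
    have : orderOf b = 3 := by rw [← Nat.card_zpowers, hb, hB]
    rw [← this, pow_orderOf_eq_one]
  set T := Cfsg.pPrimeCore 3 S with hT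
  haveI hTc : T.Characteristic := PSolvable.pPrimeCore_characteristic
  haveI : T.Normal := inferInstance
  set R₀ := ⁅T, B⁆ with hR₀
  have hBT : B ≤ normalizer (T : Set S) := by rw [normalizer_eq_top]; exact le_top
  have hR₀T : R₀ ≤ T := commutator_le_left _ _
  have hcopT : (Nat.card T).Coprime 3 := PSolvable.pPrimeCore_coprime
  have hcop : (Nat.card R₀).Coprime 3 := hcopT.coprime_dvd_left (card_dvd_of_le hR₀T)
  have hRR : ⁅R₀, B⁆ = R₀ := Coprime.commutator_commutator_eq hBT (by rw [hB]; exact hcop.symm)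
  have hBR : B ≤ normalizer (R₀ : Set S) :=
    Coprime.le_normalizer_commutator hBT (le_normalizer (H := B))
  have hbR : ∀ r ∈ R₀, b * r * b⁻¹ ∈ R₀ := fun r hr =>
    (mem_normalizer_iff.1 (hBR (hb ▸ mem_zpowers b)) r).1 hr
  -- the four-group
  obtain ⟨q, hqQ, hq1Q, hqsq, hqne, hqcomm, hqprod⟩ := q_data B Q b hb hb3 hQ hQ4 hBQ hBQ'
  have hb3' : b * b * b = 1 := by rw [mul_assoc, ← pow_three, hb3]
  set q1 := b * q * b⁻¹ with hq1
  have hq1q1 : q1 * q1 = 1 := by rw [← pow_two]; exact hQ.2 _ hq1Q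
  have hq2Q : b * q1 * b⁻¹ ∈ Q := hqprod ▸ Q.mul_mem hqQ hq1Q
  have hqcom : q1 * b * q1⁻¹ * b⁻¹ = q := by
    calc q1 * b * q1⁻¹ * b⁻¹ = q1 * (b * q1 * b⁻¹)⁻¹ := by group
      _ = q1 * (q1⁻¹ * q⁻¹) := by rw [← hqprod, mul_inv_rev]
      _ = q := by rw [mul_inv_cancel_left, inv_eq_of_mul_eq_one_right hqsq]
  have hq1T : q1 ∈ T ∧ q ∈ T := by
    have h := four_le_core B Q b hb hQ P hBZ hq1Q hq2Q
    rw [hqcom] at h
    exact ⟨Normal.conj_mem inferInstance q h b, h⟩
  have hqR : q ∈ R₀ := by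
    rw [← hqcom, ← commutatorElement_def]
    exact commutator_mem_commutator hq1T.1 (hb ▸ mem_zpowers b)
  -- the ambient group
  set G := R₀ ⊔ B with hG
  have hbG : b ∈ G := mem_sup_right (hb ▸ mem_zpowers b)
  let bG : G := ⟨b, hbG⟩
  let R : Subgroup G := R₀.subgroupOf G
  haveI hRn : R.Normal := by
    refine normal_subgroupOf_of_le_normalizer ?_
    exact sup_le le_normalizer hBR
  have hgen : ∀ g : G, ∃ r ∈ R, ∃ i : ℕ, g = r * bG ^ i := by
    rintro ⟨g, hg⟩
    let M : Subgroup S := {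
      carrier := {x | ∃ r ∈ R₀, ∃ i : ℕ, x = r * b ^ i}
      one_mem' := ⟨1, one_mem _, 0, by simp⟩
      mul_mem' := by
        rintro _ _ ⟨r, hr, i, rfl⟩ ⟨r', hr', j, rfl⟩
        refine ⟨r * (b ^ i * r' * (b ^ i)⁻¹), R₀.mul_mem hr ?_, i + j, by rw [pow_add]; group⟩
        exact (mem_normalizer_iff.1 (hBR (hb ▸ npow_mem_zpowers b i)) r').1 hr'
      inv_mem' := by
        rintro _ ⟨r, hr, i, rfl⟩
        refine ⟨b ^ (2 * i) * r⁻¹ * (b ^ (2 * i))⁻¹,
          (mem_normalizer_iff.1 (hBR (hb ▸ npow_mem_zpowers b _)) _).1 (R₀.inv_mem hr), 2 * i, ?_⟩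
        have e : (b ^ i)⁻¹ = b ^ (2 * i) := inv_eq_of_mul_eq_one_right (by
          rw [← pow_add, show i + 2 * i = 3 * i by ring, pow_mul, hb3, one_pow])
        rw [inv_mul_cancel_right, mul_inv_rev, e] }
    have hle : G ≤ M := sup_le (fun x hx => ⟨x, hx, 0, by simp⟩) (by
      rw [← hb, zpowers_le]
      exact ⟨1, one_mem _, 1, by simp⟩)
    obtain ⟨r, hr, i, hri⟩ := hle hg
    exact ⟨⟨r, mem_sup_left hr⟩, hr, i, Subtype.ext (by push_cast [bG]; exact hri)⟩
  have hcomm : ∀ N : Subgroup G, (∀ r ∈ R, bG * r * bG⁻¹ * r⁻¹ ∈ N) → R ≤ N := by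
    intro N hN r hr
    have hle : R₀ ≤ N.map G.subtype := by
      refine hRR.ge.trans (commutator_le.2 fun x hx y hy => ?_)
      have h1 : ∀ x ∈ R₀, b * x * b⁻¹ * x⁻¹ ∈ N.map G.subtype := fun x hx =>
        ⟨_, hN ⟨x, mem_sup_left hx⟩ hx, by simp [bG]⟩
      have hyz : y ∈ zpowers b := hb ▸ hy
      rw [mem_zpowers_iff] at hyz
      obtain ⟨k, rfl⟩ := hyz
      have hfin : orderOf b = 3 := by rw [← Nat.card_zpowers, hb, hB]
      rw [← zpow_mod_orderOf, hfin]
      have hk0 := Int.emod_nonneg k (show (3 : ℤ) ≠ 0 by norm_num)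
      have hk3 := Int.emod_lt_of_pos k (show (0 : ℤ) < 3 by norm_num)
      push_cast
      interval_cases hkk : k % 3
      · simp
      · rw [commutatorElement_def, zpow_one, show x * b * x⁻¹ * b⁻¹ = (b * x * b⁻¹ * x⁻¹)⁻¹ by
          group]
        exact inv_mem (h1 x hx)
      · rw [commutatorElement_def, zpow_two, show x * (b * b) * x⁻¹ * (b * b)⁻¹ =
          ((b * (b * x * b⁻¹) * b⁻¹ * (b * x * b⁻¹)⁻¹) * (b * x * b⁻¹ * x⁻¹))⁻¹ by simp [mul_assoc]]
        exact inv_mem (mul_mem (h1 _ (hbR x hx)) (h1 x hx))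
    obtain ⟨y, hy, hyr⟩ := hle hr
    rwa [G.subtype_injective hyr] at hy
  -- the module
  letI : Fintype R₀ := Fintype.ofFinite R₀
  set P₀ : Module.End (ZMod 3) E := ∑ r : R₀, ρ (r : S) with hP₀
  have hP₀app : ∀ v, P₀ v = ∑ r : R₀, ρ (r : S) v := fun v => by rw [hP₀, LinearMap.sum_apply]
  have hPcomm : ∀ g ∈ G, ∀ v, ρ g (P₀ v) = P₀ (ρ g v) := by
    intro g hg v
    have hgn : g ∈ normalizer (R₀ : Set S) := sup_le le_normalizer hBR hg
    rw [hP₀app, hP₀app, map_sum]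
    let e : R₀ ≃ R₀ := {
      toFun := fun r => ⟨g * r * g⁻¹, (mem_normalizer_iff.1 hgn r).1 r.2⟩
      invFun := fun r => ⟨g⁻¹ * r * g, by
        simpa using (mem_normalizer_iff.1 (inv_mem hgn) r).1 r.2⟩
      left_inv := fun r => Subtype.ext (by simp [mul_assoc])
      right_inv := fun r => Subtype.ext (by simp [mul_assoc]) }
    refine Fintype.sum_equiv e _ _ fun r => ?_
    rw [← rho_mul, ← rho_mul]
    exact congrArg (fun x => ρ x v) (by simp [e])
  have hPfix : ∀ r ∈ R₀, ∀ v, ρ r (P₀ v) = P₀ v := by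
    intro r hr v
    rw [hP₀app, map_sum]
    refine Fintype.sum_equiv (Equiv.mulLeft ⟨r, hr⟩) _ _ fun x => ?_
    rw [← rho_mul]; rfl
  set c : ZMod 3 := (Nat.card R₀ : ZMod 3) with hc
  have hc0 : c ≠ 0 := fun h => by
    have := Nat.dvd_gcd ((ZMod.natCast_eq_zero_iff _ _).1 h) (dvd_refl 3)
    rw [hcop] at this
    norm_num at this
  have hPC : ∀ v ∈ fixSub ρ R₀, P₀ v = c • v := fun v hv => by
    rw [hP₀app, Finset.sum_congr rfl fun (r : R₀) _ => hv (r : S) r.2, Finset.sum_const,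
      Finset.card_univ, ← Nat.card_eq_fintype_card, ← Nat.cast_smul_eq_nsmul (ZMod 3)]
  set C := fixSub ρ R₀ with hCdef
  set V : Submodule (ZMod 3) E := LinearMap.ker P₀ with hV
  have hCV : V ⊓ C = ⊥ := (Submodule.eq_bot_iff _).2 fun v hv => by
    have h := hPC v hv.2
    rw [show P₀ v = 0 from hv.1] at h
    exact (smul_eq_zero.1 h.symm).resolve_left hc0
  have hCV' : V ⊔ C = ⊤ := eq_top_iff.2 fun v _ => by
    have hm : c⁻¹ • P₀ v ∈ C := C.smul_mem _ fun r hr => hPfix r hr v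
    refine Submodule.mem_sup.2 ⟨v - c⁻¹ • P₀ v, ?_, _, hm, sub_add_cancel _ _⟩
    rw [hV, LinearMap.mem_ker, map_sub, map_smul, hPC _ (fun r hr => hPfix r hr v), smul_smul,
      inv_mul_cancel₀ hc0, one_smul, sub_self]
  have hVinv : ∀ g ∈ G, ∀ v ∈ V, ρ g v ∈ V := fun g hg v hv => by
    rw [hV, LinearMap.mem_ker, ← hPcomm g hg v, show P₀ v = 0 from hv, map_zero]
  let σ : Representation (ZMod 3) G V := {
    toFun := fun g => (ρ (g : S)).restrict (hVinv (g : S) g.2)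
    map_one' := LinearMap.ext fun v => Subtype.ext (show ρ ((1 : G) : S) (v : E) = v by simp)
    map_mul' := fun g h => LinearMap.ext fun v => Subtype.ext (rho_mul (ρ := ρ) (g : S) h (v : E)) }
  have hσ : ∀ (g : G) (v : V), (σ g v : E) = ρ (g : S) v := fun _ _ => rfl
  let qG : G := ⟨q, mem_sup_left hqR⟩
  have hqGne : bG * qG * bG⁻¹ ≠ qG := fun h => hqne (congrArg Subtype.val h)
  have faith : ∀ g : G, (g : S) ∈ R₀ → σ g = 1 → g = 1 := by
    intro g hg h
    refine Subtype.ext (hfaith ?_)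
    rw [OneMemClass.coe_one, map_one]
    refine LinearMap.ext fun v => ?_
    obtain ⟨x, hx, y, hy, rfl⟩ := Submodule.mem_sup.1 (hCV' ▸ Submodule.mem_top : v ∈ V ⊔ C)
    rw [map_add, Module.End.one_apply, hy (g : S) hg, ← hσ g ⟨x, hx⟩, h]
    rfl
  have hinj : Function.Injective σ := by
    suffices hk : ∀ g, σ g = 1 → g = 1 by
      intro g h e
      refine (mul_inv_eq_one.1 (hk _ ?_))
      rw [map_mul, e, ← map_mul, mul_inv_cancel, map_one]
    intro g hg
    obtain ⟨r, hr, i, rfl⟩ := hgen g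
    have hbG3 : bG ^ 3 = 1 := Subtype.ext (by simpa [bG] using hb3)
    have hi : bG ^ i = bG ^ (i % 3) := by
      conv_lhs => rw [← Nat.mod_add_div i 3, pow_add, pow_mul, hbG3, one_pow, mul_one]
    by_cases h0 : i % 3 = 0
    · rw [hi, h0, pow_zero, mul_one] at hg ⊢
      exact faith r hr hg
    exfalso
    have hri : σ (bG ^ i) = σ r⁻¹ := by
      calc σ (bG ^ i) = σ r⁻¹ * σ (r * bG ^ i) := by rw [← map_mul, inv_mul_cancel_left]
        _ = σ r⁻¹ := by rw [hg, mul_one]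
    have h3 : σ (bG ^ i) ^ 3 = 1 := by
      rw [← map_pow, ← pow_mul, mul_comm, pow_mul, hbG3, one_pow, map_one]
    have hn : σ (bG ^ i) ^ Nat.card R = 1 := by
      rw [hri, ← map_pow]
      have : (⟨r⁻¹, R.inv_mem hr⟩ : R) ^ Nat.card R = 1 := pow_card_eq_one'
      rw [show r⁻¹ ^ Nat.card R = 1 from congrArg Subtype.val this, map_one]
    have hgcd : σ (bG ^ i) ^ Nat.gcd (Nat.card R) 3 = 1 := pow_gcd_eq_one.mpr ⟨hn, h3⟩
    rw [show Nat.card R = Nat.card R₀ from Nat.card_congr (subgroupOfEquivOfLe le_sup_left).toEquiv,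
      hcop, pow_one] at hgcd
    have hb1 : σ bG = 1 := by
      have : bG = (bG ^ i) ^ i := by
        rw [← pow_mul]
        have : (i * i) % 3 = 1 := by
          rw [Nat.mul_mod]
          rcases (show i % 3 = 1 ∨ i % 3 = 2 by omega) with h | h <;> rw [h]
        conv_rhs => rw [← Nat.mod_add_div (i * i) 3, this, pow_add, pow_mul, hbG3, one_pow,
          mul_one, pow_one]
      rw [this, map_pow, hgcd, one_pow]
    let N : Subgroup G := {
      carrier := {x | σ x = 1}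
      one_mem' := map_one σ
      mul_mem' := fun {x y} (hx : σ x = 1) (hy : σ y = 1) => show σ (x * y) = 1 by
        rw [map_mul, hx, hy, one_mul]
      inv_mem' := fun {x} (hx : σ x = 1) => show σ x⁻¹ = 1 by
        calc σ x⁻¹ = σ x * σ x⁻¹ := by rw [hx, one_mul]
          _ = 1 := by rw [← map_mul, mul_inv_cancel, map_one] }
    have hRN := hcomm N fun x _ => show σ (bG * x * bG⁻¹ * x⁻¹) = 1 by
      have hbi : σ bG⁻¹ = 1 := by
        calc σ bG⁻¹ = σ bG * σ bG⁻¹ := by rw [hb1, one_mul]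
          _ = 1 := by rw [← map_mul, mul_inv_cancel, map_one]
      rw [map_mul, map_mul, map_mul, hb1, hbi, one_mul, mul_one, ← map_mul, mul_inv_cancel, map_one]
    have hq : qG = 1 := faith qG hqR (hRN (show qG ∈ R from hqR))
    exact hqGne (by rw [hq, mul_one, mul_inv_cancel])
  have hrank : Module.finrank (ZMod 3) (LinearMap.range (σ bG - 1)) ≤ 2 := by
    have h := rank_le_two ρ hb3 E₀ E₁ hE01' hE1 hE0inv hE0
    have hle : (LinearMap.range (σ bG - 1)).map V.subtype ≤ LinearMap.range (ρ b - 1) := by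
      rintro _ ⟨_, ⟨v, rfl⟩, rfl⟩
      exact ⟨v, rfl⟩
    have h2 := Submodule.finrank_mono hle
    rw [LinearEquiv.finrank_eq (Submodule.equivMapOfInjective V.subtype V.subtype_injective
      (LinearMap.range (σ bG - 1)))]
    exact h2.trans h
  have hbGR : ∀ r ∈ R, bG * r * bG⁻¹ ∈ R := fun r hr => hRn.conj_mem r hr bG
  have hirr : ∀ N : Submodule (ZMod 3) V, (∀ g, ∀ v ∈ N, σ g v ∈ N) → N = ⊥ ∨ N = ⊤ := by
    intro N hN
    have hqq : qG * qG = 1 := Subtype.ext hqsq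
    have hqc : qG * (bG * qG * bG⁻¹) = bG * qG * bG⁻¹ * qG := Subtype.ext hqcomm
    have hqp : qG * (bG * qG * bG⁻¹) = bG * (bG * qG * bG⁻¹) * bG⁻¹ := Subtype.ext hqprod
    have hcu : bG ^ 3 = 1 := Subtype.ext (by simpa [bG] using hb3)
    obtain ⟨v₀, hv₀⟩ : ∃ v, σ qG v ≠ v := by
      by_contra h
      push_neg at h
      refine hqGne ?_
      rw [faith qG hqR (LinearMap.ext fun v => h v), mul_one, mul_inv_cancel]
    obtain ⟨w, -, hw0, hw, hw'⟩ := exists_eigen hcu hqq hqc hqp (N := ⊤) (ρ := σ)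
      (fun _ _ => Submodule.mem_top) (fun _ _ => Submodule.mem_top) (Submodule.mem_top : v₀ ∈ ⊤) hv₀
    obtain ⟨hqb, hqbb, hspan, hfix0⟩ := eigen_plane hcu hqp hw0 hw hw'
    set β := σ bG - 1 with hβ
    have planeEq : ∀ u : V, LinearIndependent (ZMod 3) ![β u, β (σ bG u)] →
        LinearMap.range β = Submodule.span (ZMod 3) (Set.range ![β u, β (σ bG u)]) := fun u hu => by
      refine (Submodule.eq_of_le_of_finrank_le (Submodule.span_le.2 ?_) ?_).symm
      · rintro _ ⟨i, rfl⟩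
        fin_cases i
        · exact ⟨u, rfl⟩
        · exact ⟨σ bG u, rfl⟩
      · rw [finrank_span_eq_card hu, Fintype.card_fin]
        exact hrank
    let Stab : Subgroup G := {
      carrier := {g | ∀ v : V, σ g v - v ∈ N}
      one_mem' := fun v => by rw [map_one]; simp
      mul_mem' := fun {g h} (hg : ∀ v, σ g v - v ∈ N) (hh : ∀ v, σ h v - v ∈ N) v => by
        rw [rho_mul, ← sub_add_sub_cancel (σ g (σ h v)) (σ h v) v]
        exact N.add_mem (hg _) (hh _)
      inv_mem' := fun {g} (hg : ∀ v, σ g v - v ∈ N) v => by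
        have := hg (σ g⁻¹ v)
        rw [rho_inv'] at this
        rw [← neg_sub]
        exact N.neg_mem this }
    by_cases hwN : ∃ v ∈ N, σ qG v ≠ v
    · right
      obtain ⟨v, hvN, hv⟩ := hwN
      obtain ⟨w', hw'N, hw'0, hw'1, hw'2⟩ := exists_eigen hcu hqq hqc hqp (ρ := σ) (hN bG)
        (hN qG) hvN hv
      have hβN : ∀ x, β x ∈ N := by
        intro x
        have m1 : ∀ y, y ∈ N → β y ∈ N := fun y hy => N.sub_mem (hN bG y hy) hy
        refine (Submodule.span_le.2 ?_ : Submodule.span (ZMod 3) _ ≤ N)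
          ((planeEq w' (eigen_plane hcu hqp hw'0 hw'1 hw'2).2.2.1).le ⟨x, rfl⟩)
        rintro _ ⟨i, rfl⟩
        fin_cases i
        · exact m1 _ hw'N
        · exact m1 _ (hN bG _ hw'N)
      have hbs : bG ∈ Stab := hβN
      have hRS : R ≤ Stab := hcomm Stab fun r _ v => by
        have e : bG * r * bG⁻¹ * r⁻¹ = bG * (r * bG⁻¹ * r⁻¹) := by group
        rw [e, rho_mul, ← sub_add_sub_cancel _ (σ (r * bG⁻¹ * r⁻¹) v) v]
        refine N.add_mem (hbs _) ?_
        have := hN r _ ((Stab.inv_mem hbs) (σ r⁻¹ v))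
        rw [map_sub, rho_inv', ← rho_mul, ← rho_mul] at this
        exact this
      refine eq_top_iff.2 fun v _ => ?_
      have hsum : ∑ r : R₀, (σ ⟨r, mem_sup_left r.2⟩ v - v) = -(c • v) := by
        rw [Finset.sum_sub_distrib, Finset.sum_const, Finset.card_univ, ← Nat.card_eq_fintype_card,
          ← Nat.cast_smul_eq_nsmul (ZMod 3)]
        have h0 : ∑ r : R₀, σ ⟨r, mem_sup_left r.2⟩ v = 0 := Subtype.ext (by
          rw [Submodule.coe_sum]
          exact (hP₀app (v : E)).symm.trans v.2)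
        rw [h0, zero_sub]
      have hmem : -(c • v) ∈ N := hsum ▸ N.sum_mem fun r _ => hRS (show _ ∈ R from r.2) v
      have := N.smul_mem c⁻¹ (N.neg_mem hmem)
      rwa [neg_neg, smul_smul, inv_mul_cancel₀ hc0, one_smul] at this
    · left
      push_neg at hwN
      have hβ0 : ∀ x ∈ N, σ bG x = x := by
        intro x hx
        have hm : β x ∈ Submodule.span (ZMod 3) (Set.range ![β w, β (σ bG w)]) :=
          planeEq w hspan ▸ ⟨x, rfl⟩
        rw [Matrix.range_cons_cons_empty, Submodule.mem_span_pair] at hm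
        obtain ⟨a, c', hac⟩ := hm
        obtain ⟨ha, hc'⟩ := hfix0 a c' (by
          rw [hac]; exact hwN _ (N.sub_mem (hN bG x hx) hx))
        rw [ha, hc', zero_smul, zero_smul, add_zero] at hac
        exact sub_eq_zero.1 hac.symm
      let Fx : Subgroup G := {
        carrier := {g | ∀ v ∈ N, σ g v = v}
        one_mem' := fun v _ => by rw [map_one]; rfl
        mul_mem' := fun {g h} (hg : ∀ v ∈ N, σ g v = v) (hh : ∀ v ∈ N, σ h v = v) v hv => by
          rw [rho_mul, hh v hv, hg v hv]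
        inv_mem' := fun {g} (hg : ∀ v ∈ N, σ g v = v) v hv => by
          conv_lhs => rw [← hg v hv]
          rw [rho_inv] }
      have hRF : R ≤ Fx := hcomm Fx fun r _ v hv => by
        have hbi : ∀ y ∈ N, σ bG⁻¹ y = y := (Fx.inv_mem hβ0 :)
        rw [show bG * r * bG⁻¹ * r⁻¹ = bG * (r * (bG⁻¹ * r⁻¹)) by group, rho_mul, rho_mul,
          rho_mul, hbi _ (hN _ v hv), rho_inv', hβ0 v hv]
      refine (Submodule.eq_bot_iff _).2 fun v hv => Subtype.ext ?_
      have hm : (v : E) ∈ V ⊓ C := ⟨v.2, fun r hr =>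
        congrArg Subtype.val (hRF (show (⟨r, mem_sup_left hr⟩ : G) ∈ R from hr) v hv)⟩
      rw [hCV] at hm
      exact (Submodule.mem_bot _).1 hm
  have hset : Setup σ R bG qG :=
    { inj := hinj
      normal := hRn
      cop := by
        rw [Nat.card_congr (subgroupOfEquivOfLe le_sup_left).toEquiv]; exact hcop
      cube := Subtype.ext (by simpa [bG] using hb3)
      gen := hgen
      comm := hcomm
      rank := hrank
      irr := hirr
      q_mem := hqR
      q_sq := Subtype.ext hqsq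
      q_ne := hqGne
      q_comm := Subtype.ext hqcomm
      q_prod := Subtype.ext hqprod }
  haveI : Group.IsSolvable G := inferInstance
  have hcardR : Nat.card R = Nat.card R₀ :=
    Nat.card_congr (subgroupOfEquivOfLe le_sup_left).toEquiv
  refine ⟨?_, V, C, hCV, hCV', fun r hr v hv => hv r hr, hVinv, fun r hr h => ?_, fun N hNV hN => ?_⟩
  · rcases hset.shape with ⟨hsq, hcom, hcard⟩ | ⟨hcard, ⟨z, hz, hz1, hzc, hcen, hsq, hcc⟩,
      ⟨x, hx, y, hy, hxy⟩, K, hKR, hKsq, hKc, hK8⟩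
    · left
      refine ⟨⟨⟨⟨fun a c => Subtype.ext ?_⟩⟩, fun a ha => ?_⟩, hcardR ▸ hcard⟩
      · have h := hcom ⟨a.1, mem_sup_left a.2⟩ a.2 ⟨c.1, mem_sup_left c.2⟩ c.2
        exact (congrArg Subtype.val h :)
      · rw [pow_two]
        exact congrArg Subtype.val (hsq ⟨a, mem_sup_left ha⟩ ha)
    · right
      let ι : R₀ → G := fun a => ⟨a.1, mem_sup_left a.2⟩
      have hι : ∀ a, ι a ∈ R := fun a => a.2
      have hιinj : ∀ a c, ι a = ι c → a = c := fun a c h =>
        Subtype.ext (congrArg (fun g : G => (g : S)) h :)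
      let z₀ : R₀ := ⟨(z : S), hz⟩
      have hzin : z₀ ∈ Subgroup.center R₀ := mem_center_iff.2 fun a => hιinj _ _
        (hzc (ι a) (hι a)).symm
      have h2 : IsPGroup 2 R₀ := IsPGroup.of_card (n := 5) (by rw [← hcardR, hcard]; norm_num)
      have hcase : ∀ a : R₀, (ι a = 1 ∨ ι a = z) → a ∈ Subgroup.center R₀ := by
        intro a h
        rcases h with h | h
        · rw [show a = 1 from hιinj a 1 h]; exact one_mem _
        · rw [show a = z₀ from hιinj a z₀ h]; exact hzin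
      refine ⟨LargeES.Heisenberg.isExtraspecial_of_props h2 (z := z₀)
        (fun h => hz1 (Subtype.ext (congrArg Subtype.val h : (z : S) = 1))) hzin
        (fun a ha => ?_) (fun a => hcase _ ?_) (fun a c => hcase _ ?_)
        (x := ⟨(x : S), hx⟩) (y := ⟨(y : S), hy⟩)
        (fun h => hxy (Subtype.ext (congrArg Subtype.val h : (x : S) * y = y * x))),
        hcardR ▸ hcard, K.map G.subtype, ?_, ⟨⟨⟨?_⟩⟩, ?_⟩, ?_⟩
      · rcases hcen (ι a) (hι a) (fun w hw => Subtype.ext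
          (congrArg Subtype.val (mem_center_iff.1 ha ⟨(w : S), hw⟩)).symm) with h | h
        · exact Or.inl (hιinj a 1 h)
        · exact Or.inr (hιinj a z₀ h)
      · rw [pow_two]; exact hsq (ι a) (hι a)
      · exact hcc (ι a) (hι a) (ι c) (hι c)
      · rintro _ ⟨a, ha, rfl⟩
        exact hKR ha
      · rintro ⟨_, a, ha, rfl⟩ ⟨_, c, hc, rfl⟩
        exact Subtype.ext ((congrArg Subtype.val (hKc a ha c hc) :))
      · rintro _ ⟨a, ha, rfl⟩
        rw [← map_pow, pow_two, hKsq a ha, map_one]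
      · rw [card_map_of_injective G.subtype_injective, hK8]
  · have : (⟨r, hr⟩ : G) = 1 := hinj (by
      rw [map_one]
      exact LinearMap.ext fun v => Subtype.ext (h v v.2))
    exact congrArg Subtype.val this
  · rcases hirr (N.comap V.subtype) (fun g v hv => hN (g : S) g.2 (v : E) hv) with h | h
    · left
      refine (Submodule.eq_bot_iff _).2 fun v hv => ?_
      have : (⟨v, hNV hv⟩ : V) ∈ N.comap V.subtype := hv
      rw [h, Submodule.mem_bot] at this
      exact congrArg Subtype.val this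
    · right
      refine le_antisymm hNV fun v hv => ?_
      have : (⟨v, hv⟩ : V) ∈ N.comap V.subtype := h ▸ Submodule.mem_top
      exact this

end Cfsg.Agent.S4415
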