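import Cfsg.Statements.S4416
import Cfsg.Agent.Lib.Extraspecial.SquareCount
-- import your own Cfsg.Agent.* helpers here

set_option autoImplicit false
open Cfsg

namespace Cfsg.Agent.S4416

/-- Classification of extraspecial 2-groups in intrinsic form. An extraspecial 2-group has order 2^(2m+1) for some m ≥ 1, and the number of its elements squaring to the identity is either 2^(2m) + 2^m or 2^(2m) − 2^m; two extraspecial 2-groups of the same order with the same number of such elements are isomorphic. (The two cases are the central products of m dihedral groups of order 8, and of m − 1 dihedral groups with one quaternion group.) -/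
theorem result (E : Type*) [Group E] [Finite E] (hE : Cfsg.IsExtraspecial 2 E) :
    (∃ m : ℕ, 1 ≤ m ∧ Nat.card E = 2 ^ (2 * m + 1) ∧
      (Nat.card {x : E // x ^ 2 = 1} = 2 ^ (2 * m) + 2 ^ m ∨ Nat.card {x : E // x ^ 2 = 1} = 2 ^ (2 * m) - 2 ^ m)) ∧
    ∀ (E' : Type*) [Group E'] [Finite E'], Cfsg.IsExtraspecial 2 E' → Nat.card E' = Nat.card E →
      Nat.card {x : E' // x ^ 2 = 1} = Nat.card {x : E // x ^ 2 = 1} → Nonempty (E ≃* E') := by
  haveI : Fact (Nat.Prime 2) := ⟨Nat.prime_two⟩
  have h := Cfsg.Agent.Lib.ExtraStruct.extraLike_of_isExtraspecial hE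
  obtain ⟨k, hk⟩ := Cfsg.Agent.Lib.ExtraStruct.exists_card_eq (p := 2) _ E rfl h
  have hk1 : 1 ≤ k := by
    by_contra hcon
    have h0 : k = 0 := by omega
    subst h0
    apply Cfsg.Agent.Lib.Extraspecial.center_ne_top hE
    exact Subgroup.eq_top_of_card_eq _ (by rw [h.card_center, hk]; norm_num)
  obtain ⟨h1, h2⟩ := Cfsg.Agent.Lib.ExtraStruct.card_sq_one k E h hk hk1
  have hpow : 0 < 2 ^ k := Nat.two_pow_pos k
  refine ⟨⟨k, hk1, hk, ?_⟩, fun E' _ _ hE' hcard hcount => ?_⟩
  · by_cases hp : Cfsg.Agent.Lib.ExtraStruct.IsPlusType k E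
    · exact Or.inl (h1 hp)
    · exact Or.inr (h2 hp)
  · have h' := Cfsg.Agent.Lib.ExtraStruct.extraLike_of_isExtraspecial hE'
    obtain ⟨h1', h2'⟩ := Cfsg.Agent.Lib.ExtraStruct.card_sq_one k E' h' (hcard.trans hk) hk1
    refine Cfsg.Agent.Lib.ExtraStruct.exists_mulEquiv_of_type k E E' hk (hcard.trans hk) h h' ⟨fun hp => ?_, fun hp => ?_⟩
    · by_contra hp'
      have := h2' hp'
      rw [hcount, h1 hp] at this
      omega
    · by_contra hp'
      have := h1' hp
      rw [hcount, h2 hp'] at this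
      omega

end Cfsg.Agent.S4416
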