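import Cfsg.Statements.S4417
import Mathlib
import Cfsg.Agent.Lib.DerivedLength.Bound
-- import your own Cfsg.Agent.* helpers here

set_option autoImplicit false
open Cfsg

namespace Cfsg.Agent.S4417

/-- Let F be a field with q elements, p a prime not dividing q, and e the multiplicative order of q modulo p; assume e ≤ n. Then every p-subgroup of GL_n(F) has derived length at most ⌊log₂(n/e)⌋ + 1: that term of its derived series is trivial (n/e is the integer quotient). -/
theorem result {F : Type*} [Field F] [Fintype F] (q : ℕ) (hF : Fintype.card F = q) (p : ℕ) [Fact p.Prime] (hpq : ¬ p ∣ q) (n e : ℕ) (he : e = orderOf (q : ZMod p)) (hen : e ≤ n) (P : Subgroup (GL (Fin n) F)) (hP : IsPGroup p P) : derivedSeries ↥P (Nat.log 2 (n / e) + 1) = ⊥ := by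
  classical
  have hpp : p.Prime := Fact.out
  have hpF : (p : F) ≠ 0 := by
    intro h0
    haveI : CharP F p := (CharP.charP_iff_prime_eq_zero hpp).mpr h0
    obtain ⟨k, -, hk⟩ := FiniteField.card F p
    exact hpq (by rw [← hF, hk]; exact dvd_pow_self p k.pos.ne')
  have main := Cfsg.Agent.Lib.DerivedLength.reduce (F := F) (p := p)
    (B := fun m => Nat.log 2 (m / e))
    (fun a b h => Nat.log_mono_right (Nat.div_le_div_right h)) hpF
    (fun P' _ _ hP' V _ _ _ ρ hinj hirr _ g hg => ?_)
  · let ρ : Representation F P (Fin n → F) :=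
      (Units.coeHom _).comp ((Matrix.GeneralLinearGroup.toLin (n := Fin n) (R := F)).toMonoidHom.comp P.subtype)
    have hρ : Function.Injective ρ :=
      Units.val_injective.comp ((Matrix.GeneralLinearGroup.toLin (n := Fin n) (R := F)).injective.comp P.subtype_injective)
    have := main n P hP (Fin n → F) ρ (by simp)
    rw [eq_bot_iff]
    intro x hx
    rw [Subgroup.mem_bot]
    exact hρ (by rw [this x hx, map_one])
  -- the faithful irreducible case
  rcases subsingleton_or_nontrivial P' with hs | hs
  · rw [Subsingleton.elim g 1, map_one]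
  haveI := hP'.center_nontrivial
  obtain ⟨⟨z₀, hz₀c⟩, hz₀⟩ := exists_ne (1 : Subgroup.center P')
  have hz₀1 : z₀ ≠ 1 := fun h => hz₀ (Subtype.ext h)
  obtain ⟨k, hk⟩ := IsPGroup.iff_orderOf.mp hP' z₀
  obtain ⟨k', rfl⟩ : ∃ k', k = k' + 1 := ⟨k - 1, by
    rcases k with _ | k
    · exact absurd (orderOf_eq_one_iff.mp (by simpa using hk)) hz₀1
    · rfl⟩
  set z := z₀ ^ p ^ k' with hz
  have hzord : orderOf z = p := by
    rw [hz, orderOf_pow, hk, Nat.gcd_eq_right (pow_dvd_pow p (Nat.le_succ k')), pow_succ,
      Nat.mul_div_cancel_left _ (pow_pos hpp.pos k')]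
  have hzc : ∀ h : P', h * z = z * h := fun h =>
    Subgroup.mem_center_iff.mp (Subgroup.pow_mem _ hz₀c _) h
  haveI : Finite V := Module.finite_of_finite F
  haveI : Finite (Module.End F V) := Finite.of_injective _ DFunLike.coe_injective
  let L : Subalgebra F (Module.End F V) := Algebra.adjoin F {ρ z}
  have hLcomm : ∀ a ∈ L, ∀ h : P', ρ h * a = a * ρ h := by
    intro a ha h
    induction ha using Algebra.adjoin_induction with
    | mem b hb =>
      rw [Set.mem_singleton_iff] at hb
      rw [hb, ← map_mul, ← map_mul, hzc]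
    | algebraMap c => exact (Algebra.commutes c (ρ h)).symm
    | add a b _ _ ha hb => rw [mul_add, add_mul, ha, hb]
    | mul a b _ _ ha hb => rw [← mul_assoc, ha, mul_assoc, hb, mul_assoc]
  letI : CommRing L := Algebra.adjoinCommRingOfComm F (fun a ha b hb => by
    rw [Set.mem_singleton_iff] at ha hb; rw [ha, hb])
  have hinjL : ∀ a : L, a ≠ 0 → ∀ v : V, (a : Module.End F V) v = 0 → v = 0 := by
    intro a ha v hv
    rcases hirr (LinearMap.ker (a : Module.End F V)) (fun h w hw => by
      rw [LinearMap.mem_ker] at hw ⊢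
      rw [← Module.End.mul_apply, ← hLcomm _ a.2 h, Module.End.mul_apply, hw, map_zero]) with h | h
    · have : v ∈ LinearMap.ker (a : Module.End F V) := LinearMap.mem_ker.mpr hv
      rwa [h, Submodule.mem_bot] at this
    · exact absurd (Subtype.ext (LinearMap.ker_eq_top.mp h)) ha
  haveI : Nontrivial V := by
    by_contra hc
    rw [not_nontrivial_iff_subsingleton] at hc
    refine hz₀1 (hinj ?_)
    exact LinearMap.ext fun v => Subsingleton.elim _ _
  haveI : Nontrivial L := ⟨⟨0, 1, fun h => zero_ne_one (congrArg Subtype.val h)⟩⟩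
  haveI : NoZeroDivisors L := ⟨fun {a b} hab => by
    by_contra hne
    push Not at hne
    refine hne.2 (Subtype.ext (LinearMap.ext fun v => hinjL a hne.1 _ ?_))
    exact congrArg (fun c : L => (c : Module.End F V) v) hab⟩
  haveI : IsDomain L := NoZeroDivisors.to_isDomain L
  haveI : Fintype L := Fintype.ofFinite L
  letI : Field L := Fintype.fieldOfDomain L
  let zL : L := ⟨ρ z, Algebra.subset_adjoin (Set.mem_singleton _)⟩
  have hzL1 : zL ≠ 1 := fun h => by
    have h1 : z = 1 := hinj (by rw [map_one]; exact congrArg Subtype.val h)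
    rw [h1, orderOf_one] at hzord
    exact hpp.ne_one hzord.symm
  have hzLp : zL ^ p = 1 := by
    apply Subtype.ext
    show (ρ z) ^ p = 1
    rw [← map_pow, ← hzord, pow_orderOf_eq_one, map_one]
  have hzLord : orderOf zL = p := orderOf_eq_prime hzLp hzL1
  have hpL : (p : L) ≠ 0 := by
    rw [← map_natCast (algebraMap F L) p]
    exact (map_ne_zero _).mpr hpF
  have hroot : IsPrimitiveRoot zL p := hzLord ▸ IsPrimitiveRoot.orderOf zL
  let σ : Representation L P' V :=
    { toFun := fun h =>
        { toFun := ρ h
          map_add' := map_add _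
          map_smul' := fun a v => by
            show ρ h ((a : Module.End F V) v) = (a : Module.End F V) (ρ h v)
            rw [← Module.End.mul_apply, hLcomm _ a.2 h]; rfl }
      map_one' := LinearMap.ext fun v => by show ρ 1 v = v; rw [map_one]; rfl
      map_mul' := fun a b => LinearMap.ext fun v => by
        show ρ (a * b) v = ρ a (ρ b v); rw [map_mul]; rfl }
  haveI : FiniteDimensional L V := Module.Finite.of_finite
  have hdiv : Module.finrank L V ≤ Module.finrank F V / e := by
    have hmul := Module.finrank_mul_finrank F L V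
    have hcard : Fintype.card L = q ^ Module.finrank F L := by
      rw [← Nat.card_eq_fintype_card, Module.natCard_eq_pow_finrank (K := F), Nat.card_eq_fintype_card, hF]
    have h1 : p ∣ q ^ Module.finrank F L - 1 := by
      rw [← hcard, ← hzLord]
      exact orderOf_dvd_of_pow_eq_one (FiniteField.pow_card_sub_one_eq_one zL (fun h => by
        rw [h, zero_pow hpp.ne_zero] at hzLp; exact zero_ne_one hzLp))
    have h2 : e ∣ Module.finrank F L := by
      rw [he]
      apply orderOf_dvd_of_pow_eq_one
      have hq1 : 1 ≤ q ^ Module.finrank F L := Nat.one_le_pow _ _ (hF ▸ Fintype.card_pos)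
      have := (ZMod.natCast_eq_zero_iff _ p).mpr h1
      rw [Nat.cast_sub hq1, Nat.cast_one, Nat.cast_pow, sub_eq_zero] at this
      exact this
    have he0 : 0 < e := by
      rw [he]
      apply orderOf_pos_iff.mpr
      refine isOfFinOrder_iff_pow_eq_one.mpr ⟨p - 1, Nat.sub_pos_of_lt hpp.one_lt, ?_⟩
      exact ZMod.pow_card_sub_one_eq_one fun h => hpq ((ZMod.natCast_eq_zero_iff _ p).mp h)
    rw [Nat.le_div_iff_mul_le he0, ← hmul, mul_comm _ e]
    exact Nat.mul_le_mul_right _ (Nat.le_of_dvd Module.finrank_pos h2)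
  have := Cfsg.Agent.Lib.DerivedLength.derived_trivial_of_root hpL hroot _ P' hP' V σ rfl g
    (derivedSeries_antitone P' (Nat.add_le_add_right (Nat.log_mono_right hdiv) 1) hg)
  exact LinearMap.ext fun v => LinearMap.congr_fun this v

end Cfsg.Agent.S4417
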