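import Cfsg.Statements.S4419
import Cfsg.Agent.Lib.PAut.TwoGen
import Cfsg.Agent.Lib.Transfer.Criteria
import Cfsg.Agent.Lib.PSolvable.Core
-- import your own Cfsg.Agent.* helpers here

set_option autoImplicit false
open Cfsg

namespace Cfsg.Agent.S4419

/-- Let p be a prime and G a finite group whose Sylow p-subgroups are metacyclic (a cyclic normal subgroup with cyclic quotient). Then G has a normal p-complement if and only if the order of G/O_{p′,p}(G) is coprime to p² − 1. -/
theorem result {G : Type*} [Group G] [Finite G] (p : ℕ) [Fact p.Prime] (S : Sylow p G) (hS : Cfsg.IsMetacyclic ↥(S : Subgroup G)) : Cfsg.HasNormalPComplement p G ↔ Nat.Coprime (Nat.card (G ⧸ Cfsg.pPrimePCore p G)) (p ^ 2 - 1) := by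
  have hp : p.Prime := Fact.out
  haveI hOn : (Cfsg.pPrimePCore p G).Normal := Lib.PSolvable.pPrimePCore_normal
  constructor
  · intro h
    have h1 := Lib.Transfer.hasNormalPComplement_iff.mp h
    haveI : (Cfsg.pResidual p G).Normal := Lib.Transfer.pResidual_normal
    have hle : Cfsg.pResidual p G ≤ Cfsg.pPrimeCore p G :=
      Lib.PSolvable.le_pPrimeCore (Nat.Coprime.symm (hp.coprime_iff_not_dvd.mpr h1))
    have hq : IsPGroup p (G ⧸ Cfsg.pPrimeCore p G) :=
      (Lib.Transfer.isPGroup_quotient_pResidual (G := G) (p := p)).of_surjective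
        (QuotientGroup.map _ (Cfsg.pPrimeCore p G) (MonoidHom.id G) hle)
        (fun y => by
          obtain ⟨x, rfl⟩ := QuotientGroup.mk_surjective y
          exact ⟨(x : G ⧸ Cfsg.pResidual p G), rfl⟩)
    have htop : Cfsg.pCore p (G ⧸ Cfsg.pPrimeCore p G) = ⊤ :=
      top_unique (Lib.PSolvable.le_pCore (hq.to_subgroup ⊤))
    have htop' : Cfsg.pPrimePCore p G = ⊤ := by
      rw [Cfsg.pPrimePCore, htop, Subgroup.comap_top]
    rw [← Subgroup.index_eq_card, htop', Subgroup.index_top]
    exact Nat.coprime_one_left _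
  · intro hcop
    set K := Cfsg.pPrimeCore p G with hK
    -- the quotient by `O_{p'}` is `p`-nilpotent
    have hloc : Lib.Transfer.LocallyPTrivial p (G ⧸ K) := by
      intro Q hQ g hg hgo
      obtain ⟨P', hP'⟩ := hQ.exists_le_sylow
      set S' := S.mapSurjective (QuotientGroup.mk'_surjective K)
      have hinj : Function.Injective ((QuotientGroup.mk' K).comp (S : Subgroup G).subtype) := by
        rw [← MonoidHom.ker_eq_bot_iff, eq_bot_iff]
        intro x hx
        rw [MonoidHom.mem_ker, MonoidHom.comp_apply, QuotientGroup.mk'_apply,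
          QuotientGroup.eq_one_iff] at hx
        have hd : (S : Subgroup G) ⊓ K = ⊥ :=
          Lib.PSolvable.inf_eq_bot_of_isPGroup_of_coprime S.2 Lib.PSolvable.pPrimeCore_coprime
        have h2 : (x : G) ∈ (S : Subgroup G) ⊓ K := ⟨x.2, hx⟩
        rw [hd, Subgroup.mem_bot] at h2
        rw [Subgroup.mem_bot]
        exact Subtype.ext h2
      have hrange : ((QuotientGroup.mk' K).comp (S : Subgroup G).subtype).range =
          (S' : Subgroup (G ⧸ K)) := by
        rw [MonoidHom.range_comp, Subgroup.range_subtype]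
        rfl
      let e1 : ↥(S : Subgroup G) ≃* ↥(S' : Subgroup (G ⧸ K)) :=
        (MonoidHom.ofInjective hinj).trans (MulEquiv.subgroupCongr hrange)
      let e2 : ↥(P' : Subgroup (G ⧸ K)) ≃* ↥(S' : Subgroup (G ⧸ K)) := Sylow.equiv P' S'
      obtain ⟨a, b, hab⟩ := Lib.PAut.exists_two_generators hS
        ((e1.symm.toMonoidHom.comp e2.toMonoidHom).comp (Subgroup.inclusion hP'))
        ((e1.symm.injective.comp e2.injective).comp (Subgroup.inclusion_injective hP'))
      refine Lib.PAut.mem_centralizer_of_coprime hQ hab hg ?_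
      refine Nat.Coprime.mul_right hgo ?_
      refine Nat.coprime_of_dvd fun r hr hrg hrp => ?_
      have hd : r ∣ Nat.card (G ⧸ K) := hrg.trans (orderOf_dvd_natCard g)
      have hidx : K.index = K.relIndex (Cfsg.pPrimePCore p G) * (Cfsg.pPrimePCore p G).index :=
        (Subgroup.relIndex_mul_index Lib.PSolvable.pPrimeCore_le_pPrimePCore).symm
      rw [← Subgroup.index_eq_card, hidx] at hd
      rcases hr.dvd_mul.mp hd with h1 | h1
      · have h2 : K.relIndex (Cfsg.pPrimePCore p G) = Nat.card (Cfsg.pCore p (G ⧸ K)) := by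
          rw [← Lib.PSolvable.map_mk'_pPrimePCore, ← Subgroup.relIndex_ker, QuotientGroup.ker_mk']
        obtain ⟨m, hm⟩ := IsPGroup.iff_card.mp (Lib.PSolvable.pCore_isPGroup (p := p) (G := G ⧸ K))
        rw [h2, hm] at h1
        obtain rfl := (Nat.prime_dvd_prime_iff_eq hr hp).mp (hr.dvd_of_dvd_pow h1)
        exact hr.ne_one (Nat.eq_one_of_dvd_coprimes hgo hrg dvd_rfl)
      · exact hr.ne_one (Nat.eq_one_of_dvd_coprimes (Subgroup.index_eq_card
          (Cfsg.pPrimePCore p G) ▸ hcop) h1 hrp)
    have hbar : Cfsg.HasNormalPComplement p (G ⧸ K) :=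
      Lib.Transfer.hasNormalPComplement_iff_locallyPTrivial.mpr hloc
    rw [Lib.Transfer.hasNormalPComplement_iff] at hbar ⊢
    intro hd
    set R := Cfsg.pResidual p G
    have hmap : R.map (QuotientGroup.mk' K) ≤ Cfsg.pResidual p (G ⧸ K) :=
      Lib.Transfer.map_pResidual_le _
    have h1 : ¬ p ∣ K.relIndex R := by
      rw [← QuotientGroup.ker_mk' K, Subgroup.relIndex_ker]
      exact fun h => hbar (h.trans (Subgroup.card_dvd_of_le hmap))
    have h2 : ¬ p ∣ Nat.card ↥(K ⊓ R) := fun h =>
      Lib.PSolvable.pPrimeCore_not_dvd (h.trans (Subgroup.card_dvd_of_le inf_le_left))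
    rw [← Lib.SectRank.card_mul_relIndex_of_le (K ⊓ R) R inf_le_right,
      Subgroup.inf_relIndex_right] at hd
    exact (hp.dvd_mul.mp hd).elim h2 h1

end Cfsg.Agent.S4419
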