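import Cfsg.Statements.S4420
import Mathlib
-- import your own Cfsg.Agent.* helpers here

set_option autoImplicit false
open Cfsg

namespace Cfsg.Agent.S4420

/-- Structure of groups in which every element outside some proper subgroup has square 1. Let H be a finite group with a proper subgroup A such that every element outside A has square 1. Then H has an abelian normal subgroup B of index 2 such that every element outside B is an involution inverting every element of B; and if H is not an elementary abelian 2-group, B is the only abelian normal subgroup of index 2 with this property. -/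
theorem result {H : Type*} [Group H] [Finite H] (A : Subgroup H) (hA : A ≠ ⊤) (hD : ∀ x : H, x ∉ A → x ^ 2 = 1) :
    ∃ B : Subgroup H, B.Normal ∧ IsMulCommutative ↥B ∧ B.index = 2 ∧
      (∀ x : H, x ∉ B → x ^ 2 = 1 ∧ ∀ b ∈ B, x * b * x⁻¹ = b⁻¹) ∧
      (¬ (IsMulCommutative H ∧ ∀ x : H, x ^ 2 = 1) →
        ∀ B' : Subgroup H, B'.Normal → IsMulCommutative ↥B' → B'.index = 2 →
          (∀ x : H, x ∉ B' → x ^ 2 = 1 ∧ ∀ b ∈ B', x * b * x⁻¹ = b⁻¹) → B' = B) := by
  classical
  have hinv : ∀ x : H, x ∉ A → ∀ a ∈ A, x * a * x⁻¹ = a⁻¹ := by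
    intro x hx a ha
    have h1 := hD x hx
    have h2 := hD (x * a) (fun h => hx ((A.mul_mem_cancel_right ha).mp h))
    rw [pow_two] at h1 h2
    have hxi : x⁻¹ = x := inv_eq_of_mul_eq_one_right h1
    rw [hxi, eq_comm]
    exact inv_eq_of_mul_eq_one_left (by simpa [mul_assoc] using h2)
  obtain ⟨x₀, -, hx₀⟩ := SetLike.exists_of_lt hA.lt_top
  have hcomm : ∀ a ∈ A, ∀ b ∈ A, a * b = b * a := by
    intro a ha b hb
    have h := hinv x₀ hx₀ (a * b) (A.mul_mem ha hb)
    have h' : x₀ * (a * b) * x₀⁻¹ = (x₀ * a * x₀⁻¹) * (x₀ * b * x₀⁻¹) := by group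
    rw [h', hinv x₀ hx₀ a ha, hinv x₀ hx₀ b hb, ← mul_inv_rev, inv_inj] at h
    exact h.symm
  by_cases hexp : ∀ a ∈ A, a ^ 2 = 1
  · -- exponent two: elementary abelian
    have hall : ∀ x : H, x ^ 2 = 1 := fun x => if h : x ∈ A then hexp x h else hD x h
    have hinvself : ∀ x : H, x⁻¹ = x := fun x => inv_eq_of_mul_eq_one_right (by rw [← pow_two]; exact hall x)
    have hab : ∀ x y : H, x * y = y * x := fun x y => by
      calc x * y = (x * y)⁻¹ := (hinvself _).symm
        _ = y⁻¹ * x⁻¹ := mul_inv_rev x y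
        _ = y * x := by rw [hinvself, hinvself]
    haveI : Fact (Nat.Prime 2) := ⟨Nat.prime_two⟩
    haveI : Nontrivial H := ⟨⟨x₀, 1, fun h => hx₀ (h ▸ A.one_mem)⟩⟩
    have hp : IsPGroup 2 H := fun x => ⟨1, by simpa using hall x⟩
    obtain ⟨n, hn⟩ := IsPGroup.iff_card.mp hp
    have hn1 : 1 ≤ n := by
      by_contra h
      have : 1 < Nat.card H := Finite.one_lt_card
      rw [hn, show n = 0 by omega] at this
      omega
    obtain ⟨B, hB⟩ := Sylow.exists_subgroup_card_pow_prime 2 (n := n - 1) (G := H)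
      (by rw [hn]; exact pow_dvd_pow 2 (by omega))
    have hidx : B.index = 2 := by
      have h := B.card_mul_index
      rw [hB, hn, ← pow_sub_one_mul (by omega : n ≠ 0) 2] at h
      exact Nat.eq_of_mul_eq_mul_left (by positivity) h
    refine ⟨B, ⟨fun b hb g => by rwa [hab g b, mul_inv_cancel_right]⟩, ⟨⟨fun a b => Subtype.ext (hab a b)⟩⟩,
      hidx, fun x _ => ⟨hall x, fun b _ => by rw [hab x b, mul_inv_cancel_right, hinvself]⟩,
      fun hne => absurd ⟨⟨⟨hab⟩⟩, hall⟩ hne⟩
  · push Not at hexp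
    obtain ⟨a₀, ha₀, hne₀⟩ := hexp
    have hprod : ∀ x y : H, x ∉ A → y ∉ A → x * y ∈ A := by
      intro x y hx hy
      by_contra h
      have h1 := hinv (x * y) h a₀ ha₀
      have h' : x * y * a₀ * (x * y)⁻¹ = x * (y * a₀ * y⁻¹) * x⁻¹ := by group
      rw [h', hinv y hy a₀ ha₀, hinv x hx a₀⁻¹ (A.inv_mem ha₀), inv_inv] at h1
      exact hne₀ (by rw [pow_two]; nth_rewrite 2 [h1]; exact mul_inv_cancel a₀)
    have hidx : A.index = 2 := by
      rw [Subgroup.index_eq_two_iff]
      refine ⟨x₀, fun b => ?_⟩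
      by_cases hb : b ∈ A
      · exact Or.inr ⟨hb, fun h => hx₀ ((A.mul_mem_cancel_left hb).mp h)⟩
      · exact Or.inl ⟨hprod b x₀ hb hx₀, hb⟩
    refine ⟨A, Subgroup.normal_of_index_eq_two hidx,
      ⟨⟨fun a b => Subtype.ext (hcomm a a.2 b b.2)⟩⟩, hidx,
      fun x hx => ⟨hD x hx, hinv x hx⟩, fun _ B' _ _ hB'2 hB' => ?_⟩
    have ha₀' : a₀ ∈ B' := by
      by_contra h
      exact hne₀ (hB' a₀ h).1
    have hle : A ≤ B' := by
      intro x hx
      by_contra h
      have h1 := (hB' x h).2 a₀ ha₀'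
      rw [hcomm x hx a₀ ha₀, mul_inv_cancel_right] at h1
      exact hne₀ (by rw [pow_two]; nth_rewrite 2 [h1]; exact mul_inv_cancel a₀)
    refine (hle.antisymm ?_).symm
    refine Subgroup.relIndex_eq_one.mp ?_
    have := Subgroup.relIndex_mul_index hle
    rw [hidx, hB'2] at this
    omega

end Cfsg.Agent.S4420
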