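import Cfsg.Statements.S4421
import Mathlib
-- import your own Cfsg.Agent.* helpers here

set_option autoImplicit false
open Cfsg

namespace Cfsg.Agent.S4421

/-- A factorization of a normalizer from two-step control of fusion. Let `G` be a finite group and `A ≤ S ≤ H` subgroups of `G` such that: (i) `S` controls the `G`-fusion of `A` in the sense that every `G`-conjugate of `A` lying in `S` is an `S`-conjugate of `A`; (ii) `H` controls the `G`-fusion of `S` in the same sense; (iii) every conjugate of `S` by an element of the normalizer of `A` lies in `H`. Then `N_G(A) = N_H(A) · (N_G(S) ∩ N_G(A))`: every element of the normalizer of `A` is a product of an element of `H` normalizing `A` and an element normalizing both `S` and `A`. -/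
theorem result {G : Type*} [Group G] [Finite G] (A S H : Subgroup G)
    (hAS : A ≤ S) (hSH : S ≤ H)
    (h1 : ∀ g : G, A.map (MulAut.conj g).toMonoidHom ≤ S → ∃ s ∈ S, A.map (MulAut.conj g).toMonoidHom = A.map (MulAut.conj s).toMonoidHom)
    (h2 : ∀ g : G, S.map (MulAut.conj g).toMonoidHom ≤ H → ∃ y ∈ H, S.map (MulAut.conj g).toMonoidHom = S.map (MulAut.conj y).toMonoidHom)
    (h3 : ∀ x ∈ Subgroup.normalizer (A : Set G), S.map (MulAut.conj x).toMonoidHom ≤ H) :
    ∀ x ∈ Subgroup.normalizer (A : Set G), ∃ y ∈ H ⊓ Subgroup.normalizer (A : Set G),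
      ∃ z ∈ Subgroup.normalizer (S : Set G) ⊓ Subgroup.normalizer (A : Set G), x = y * z := by
  intro x hx
  have hAx : A.map (MulAut.conj x).toMonoidHom = A := by
    ext g
    rw [Subgroup.mem_map_equiv]
    have := (Subgroup.mem_normalizer_iff.mp (inv_mem hx) g).symm
    simpa [MulAut.conj_symm_apply] using this
  obtain ⟨y, hyH, hy⟩ := h2 x (h3 x hx)
  have hle : A.map (MulAut.conj y⁻¹).toMonoidHom ≤ S := by
    have h : A ≤ S.map (MulAut.conj y).toMonoidHom := by
      rw [← hy, ← hAx]; exact Subgroup.map_mono hAS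
    intro a ha
    obtain ⟨b, hb, rfl⟩ := Subgroup.mem_map.mp ha
    obtain ⟨c, hc, rfl⟩ := Subgroup.mem_map.mp (h hb)
    simpa [mul_assoc] using hc
  obtain ⟨s, hs, hsA⟩ := h1 y⁻¹ hle
  have hcomp : ∀ (K : Subgroup G) (u v : G), K.map (MulAut.conj (u * v)).toMonoidHom =
      (K.map (MulAut.conj v).toMonoidHom).map (MulAut.conj u).toMonoidHom := by
    intro K u v
    rw [Subgroup.map_map]
    congr 1
    ext g
    simp
  have h1map : ∀ K : Subgroup G, K.map (MulAut.conj (1 : G)).toMonoidHom = K := by
    intro K; ext g; simp [Subgroup.mem_map]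
  have hys : A.map (MulAut.conj (y * s)).toMonoidHom = A := by
    rw [hcomp, ← hsA, ← hcomp, mul_inv_cancel, h1map]
  have hSys : S.map (MulAut.conj (y * s)).toMonoidHom = S.map (MulAut.conj x).toMonoidHom := by
    have hSs : S.map (MulAut.conj s).toMonoidHom = S := by
      ext g
      rw [Subgroup.mem_map_equiv]
      simp [MulAut.conj_symm_apply, Subgroup.mul_mem_cancel_left, Subgroup.mul_mem_cancel_right, hs]
    rw [hcomp, hSs, hy]
  have hnorm : ∀ (K : Subgroup G) (u : G), K.map (MulAut.conj u).toMonoidHom = K →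
      u ∈ Subgroup.normalizer (K : Set G) := by
    intro K u hu
    rw [Subgroup.mem_normalizer_iff]
    intro g
    conv_rhs => rw [← hu]
    rw [Subgroup.mem_map_equiv]
    simp [MulAut.conj_symm_apply, mul_assoc]
  refine ⟨y * s, ⟨H.mul_mem hyH (hSH hs), hnorm _ _ hys⟩, (y * s)⁻¹ * x,
    ⟨?_, (Subgroup.normalizer (A : Set G)).mul_mem ((Subgroup.normalizer (A : Set G)).inv_mem (hnorm A _ hys)) hx⟩, by group⟩
  apply hnorm
  rw [hcomp, ← hSys, ← hcomp, inv_mul_cancel, h1map]

end Cfsg.Agent.S4421
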