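import Cfsg.Statements.S4424
import Cfsg.Agent.Lib.BrauerFeit.RegGen
import Cfsg.Agent.Lib.BrauerFeit.Orth

set_option autoImplicit false
open Cfsg

namespace Cfsg.Agent.S4424

open Cfsg.Agent.Lib.Blocks Cfsg.Agent.Lib.BrauerFeit

/-- Let χ be an irreducible character of the finite group G lying in the p-block B (relative to a maximal ideal M of the algebraic integers containing p), and let p^a be the p-part of the order of G. Then the class function that equals p^a · χ on the p-regular elements and vanishes on the p-singular elements is an integer combination of the irreducible characters in B: there are integers a_ψ, zero for ψ outside B, with that function equal to Σ a_ψ ψ. -/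
theorem result {G : Type*} [Group G] [Finite G] (p : ℕ) [Fact p.Prime] (M : Ideal Cfsg.AlgInt) (hM : Cfsg.IsPModular p M) (B : Set (Cfsg.IrrCharacter G)) (hB : Cfsg.IsPBlock M B) (χ : Cfsg.IrrCharacter G) (hχ : χ ∈ B) : ∃ a : Cfsg.IrrCharacter G → ℤ, (∀ ψ, ψ ∉ B → a ψ = 0) ∧ (fun x : G => if p ∣ orderOf x then (0 : ℂ) else ((p ^ (Nat.card G).factorization p : ℕ) : ℂ) * (χ : G → ℂ) x) = fun x => ∑ᶠ ψ : Cfsg.IrrCharacter G, (a ψ : ℂ) * (ψ : G → ℂ) x := by
  classical
  haveI := Fintype.ofFinite G
  haveI : M.IsPrime := isPModular_isPrime hM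
  choose k hk using fun ψ : Cfsg.IrrCharacter G =>
    exists_int_pow_mul_regCoef (regGen p) χ ψ
  refine ⟨fun ψ => if ψ ∈ B then k ψ else 0, fun ψ hψ => if_neg hψ, funext fun x => ?_⟩
  have h1 : (if p ∣ orderOf x then (0 : ℂ) else
      ((p ^ (Nat.card G).factorization p : ℕ) : ℂ) * (χ : G → ℂ) x) =
      (p : ℂ) ^ (Nat.card G).factorization p * pRegularPart p (χ : G → ℂ) x := by
    rw [pRegularPart_apply]
    split_ifs <;> simp
  rw [h1, pRegularPart_eq_sum, Finset.mul_sum, finsum_eq_sum_of_fintype]
  refine Finset.sum_congr rfl fun ψ _ => ?_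
  rw [← mul_assoc, hk]
  by_cases hψ : ψ ∈ B
  · simp only [if_pos hψ]
  · have h0 := hk ψ
    rw [regCoef_eq_zero_of_not_mem (regOrth hM) hB hχ hψ, mul_zero] at h0
    simp only [if_neg hψ]
    rw [← h0, Int.cast_zero]

end Cfsg.Agent.S4424
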