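import Cfsg.Statements.S4425
import Cfsg.Agent.Lib.BrauerFeit.RegGen
import Cfsg.Agent.Lib.CharCount.Basic

set_option autoImplicit false
open Cfsg

namespace Cfsg.Agent.S4425

open Cfsg.Agent.Lib Cfsg.Agent.Lib.Blocks Cfsg.Agent.Lib.BrauerFeit

/-- Let χ be an irreducible character of the finite group G, p a prime, p^a the p-part of the order of G and p^b the p-part of the degree χ(1). Let χ̃ be the class function equal to p^a · χ on p-regular elements and zero on p-singular elements. Then p^(−b) · χ̃ is a generalized character of G, while p^(−(b+1)) · χ̃ is not. -/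
theorem result {G : Type*} [Group G] [Finite G] (p : ℕ) [Fact p.Prime] (χ : Cfsg.IrrCharacter G) : Cfsg.IsGeneralizedCharacter G (fun x : G => if p ∣ orderOf x then (0 : ℂ) else ((p ^ ((Nat.card G).factorization p - (Cfsg.charDegree (χ : G → ℂ)).factorization p) : ℕ) : ℂ) * (χ : G → ℂ) x) ∧ ¬ Cfsg.IsGeneralizedCharacter G (fun x : G => if p ∣ orderOf x then (0 : ℂ) else ((p ^ (Nat.card G).factorization p : ℕ) : ℂ) / ((p ^ ((Cfsg.charDegree (χ : G → ℂ)).factorization p + 1) : ℕ) : ℂ) * (χ : G → ℂ) x) := by
  classical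
  haveI := Fintype.ofFinite G
  have hpp : p.Prime := Fact.out
  obtain ⟨M, hM⟩ := CharCount.exists_isPModular p hpp
  haveI : M.IsPrime := isPModular_isPrime hM
  have hp0 : (p : ℂ) ≠ 0 := Nat.cast_ne_zero.2 hpp.ne_zero
  set b := (Cfsg.charDegree (χ : G → ℂ)).factorization p with hb
  set a := (Nat.card G).factorization p with ha
  have hba : b ≤ a := CharCount.factorization_degree_le χ p
  constructor
  · have hfun : (fun x : G => if p ∣ orderOf x then (0 : ℂ) else
        ((p ^ (a - b) : ℕ) : ℂ) * (χ : G → ℂ) x) =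
        ((p : ℂ) ^ (a - b)) • pRegularPart p (χ : G → ℂ) := by
      funext x
      rw [Pi.smul_apply, smul_eq_mul, pRegularPart_apply]
      split_ifs <;> simp
    rw [hfun]
    refine Chars.isGeneralizedCharacter_of_classInner_int (fun g h => ?_) fun ψ => ?_
    · simp only [Pi.smul_apply, isClassFunction_pRegularPart p (Chars.irr_isClassFunction χ) g h]
    · obtain ⟨k, hk⟩ := exists_int_pow_mul_regCoef (regGen p) χ ψ
      rw [← ha] at hk
      have hloc := pow_mul_regCoef_mem hM χ ψ (a - b) (by omega)
      obtain ⟨k', rfl⟩ := int_pow_dvd_of_div_mem hM b k (by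
        rw [← hk, ← Nat.sub_add_cancel hba, pow_add]
        convert hloc using 1
        field_simp)
      refine ⟨k', ?_⟩
      rw [Chars.classInner_smul_left]
      refine mul_left_cancel₀ (pow_ne_zero b hp0) ?_
      rw [← mul_assoc, ← pow_add, Nat.add_sub_cancel' hba]
      show (p : ℂ) ^ a * regCoef p χ ψ = _
      rw [hk]
      push_cast
      rfl
  · intro hgen
    obtain ⟨u, v, hu, hv, huv⟩ := hgen
    let P : Sylow p G := default
    haveI := Fintype.ofFinite (P : Subgroup G)
    have hP : Nat.card (P : Subgroup G) = p ^ a := by rw [P.card_eq_multiplicity]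
    have hgen' : Cfsg.IsGeneralizedCharacter (P : Subgroup G) (fun x : (P : Subgroup G) =>
        if p ∣ orderOf (x : G) then (0 : ℂ) else
          ((p ^ a : ℕ) : ℂ) / ((p ^ (b + 1) : ℕ) : ℂ) * (χ : G → ℂ) x) :=
      ⟨fun x => u x, fun x => v x, Chars.isCharacter_comp (P : Subgroup G).subtype hu,
        Chars.isCharacter_comp (P : Subgroup G).subtype hv,
        funext fun x => congrFun huv (x : G)⟩
    obtain ⟨k, hk⟩ := Chars.isGeneralizedCharacter_classInner_int hgen'
      (Chars.isGeneralizedCharacter_of_isCharacter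
        (Chars.isCharacter_of_isIrrCharacter Chars.isIrrCharacter_one))
    rw [Cfsg.classInner, Finset.sum_eq_single 1] at hk
    · simp only [OneMemClass.coe_one, orderOf_one, Nat.dvd_one, hpp.ne_one, if_false, map_one,
        mul_one] at hk
      rw [hP, ← (HeightZero.charDegree_eq χ).1] at hk
      have h3 : ((Cfsg.charDegree (χ : G → ℂ) : ℕ) : ℂ) = (((p : ℤ) ^ (b + 1) * k : ℤ) : ℂ) := by
        push_cast at hk ⊢
        rw [← hk]
        field_simp
      have h4 : (p : ℤ) ^ (b + 1) ∣ (Cfsg.charDegree (χ : G → ℂ) : ℤ) :=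
        ⟨k, by exact_mod_cast h3⟩
      have h5 := (hpp.pow_dvd_iff_le_factorization (CharCount.charDegree_ne_zero χ)).1
        (by exact_mod_cast h4)
      omega
    · intro x _ hx
      obtain ⟨j, hj⟩ := IsPGroup.iff_orderOf.1 P.isPGroup' x
      rw [← Subgroup.orderOf_coe] at hj
      have hj0 : j ≠ 0 := by
        rintro rfl
        rw [pow_zero, orderOf_eq_one_iff] at hj
        exact hx (Subtype.ext hj)
      simp only [hj, dvd_pow_self p hj0, if_true, zero_mul]
    · intro h
      exact absurd (Finset.mem_univ _) h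

end Cfsg.Agent.S4425
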