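import Cfsg.Statements.S4426
import Cfsg.Agent.Lib.BrauerFeit.RegGen
import Cfsg.Agent.Lib.BrauerFeit.Orth

set_option autoImplicit false
open Cfsg

namespace Cfsg.Agent.S4426

open Cfsg.Agent.Lib Cfsg.Agent.Lib.Blocks Cfsg.Agent.Lib.BrauerFeit

/-- Let χ be an irreducible character in the p-block B of the finite group G (relative to a maximal ideal M of the algebraic integers containing p), let p^a be the p-part of the order of G, and let χ̃ be the class function equal to p^a · χ on p-regular elements and zero elsewhere. For ξ ∈ B the inner product [χ̃, ξ] is an integer. The following are equivalent: (a) χ has height zero in B; (b) for some ξ ∈ B the integer [χ̃, ξ] is nonzero and the exact power of p dividing it equals the exact power of p dividing ξ(1); (c) the same holds for every ξ ∈ B. -/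
theorem result {G : Type*} [Group G] [Fintype G] (p : ℕ) [Fact p.Prime] (M : Ideal Cfsg.AlgInt) (hM : Cfsg.IsPModular p M) (B : Set (Cfsg.IrrCharacter G)) (hB : Cfsg.IsPBlock M B) (χ : Cfsg.IrrCharacter G) (hχ : χ ∈ B) : (Cfsg.blockHeight p B (χ : G → ℂ) = 0 ↔ ∃ ξ ∈ B, ∃ n : ℤ, Cfsg.classInner (fun x : G => if p ∣ orderOf x then (0 : ℂ) else ((p ^ (Nat.card G).factorization p : ℕ) : ℂ) * (χ : G → ℂ) x) (ξ : G → ℂ) = (n : ℂ) ∧ n ≠ 0 ∧ padicValInt p n = (Cfsg.charDegree (ξ : G → ℂ)).factorization p) ∧ (Cfsg.blockHeight p B (χ : G → ℂ) = 0 ↔ ∀ ξ ∈ B, ∃ n : ℤ, Cfsg.classInner (fun x : G => if p ∣ orderOf x then (0 : ℂ) else ((p ^ (Nat.card G).factorization p : ℕ) : ℂ) * (χ : G → ℂ) x) (ξ : G → ℂ) = (n : ℂ) ∧ n ≠ 0 ∧ padicValInt p n = (Cfsg.charDegree (ξ : G → ℂ)).factorization p) := by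
  classical
  haveI : M.IsPrime := isPModular_isPrime hM
  have hpp : p.Prime := Fact.out
  have hp0 : (p : ℂ) ≠ 0 := Nat.cast_ne_zero.2 hpp.ne_zero
  have horth := regOrth (G := G) hM
  have hloc : HeightZero.CentralLocal M G :=
    fun χ g => mem_localRing.1 (centralChar_mem_localRing χ g)
  set a := (Nat.card G).factorization p with ha
  have key : ∀ ξ : Cfsg.IrrCharacter G, ∃ k : ℤ, Cfsg.classInner (fun x : G => if p ∣ orderOf x then (0 : ℂ) else ((p ^ a : ℕ) : ℂ) * (χ : G → ℂ) x) (ξ : G → ℂ) = (k : ℂ) ∧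
      (p : ℤ) ^ (Cfsg.charDegree (ξ : G → ℂ)).factorization p ∣ k ∧
      ((p : ℤ) ^ ((Cfsg.charDegree (ξ : G → ℂ)).factorization p + 1) ∣ k ↔
        Cfsg.MemLocalIdeal M (HeightZero.regPairing p (ξ : G → ℂ) (χ : G → ℂ))) := by
    intro ξ
    obtain ⟨k, hk⟩ := exists_int_pow_mul_regCoef (regGen p) χ ξ
    rw [← ha] at hk
    set v := (Cfsg.charDegree (ξ : G → ℂ)).factorization p with hv
    have hva : v ≤ a := CharCount.factorization_degree_le ξ p
    have hξ0 : (Cfsg.charDegree (ξ : G → ℂ)) ≠ 0 := CharCount.charDegree_ne_zero ξ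
    set w : ℂ := ((p ^ (a - v) * Cfsg.charDegree (ξ : G → ℂ) : ℕ) : ℂ) / (Nat.card G : ℂ) with hw
    have hfac : (p ^ (a - v) * Cfsg.charDegree (ξ : G → ℂ)).factorization p = a := by
      rw [Nat.factorization_mul (pow_ne_zero _ hpp.ne_zero) hξ0, Finsupp.add_apply,
        hpp.factorization_pow, Finsupp.single_eq_same]
      omega
    have hwR : w ∈ localRing M :=
      natCast_div_mem_localRing hM Nat.card_pos.ne' (Or.inl hfac.ge)
    have hwI : ¬ Cfsg.MemLocalIdeal M w := by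
      intro hbad
      have hinv : (Nat.card G : ℂ) / ((p ^ (a - v) * Cfsg.charDegree (ξ : G → ℂ) : ℕ) : ℂ)
          ∈ localRing M := natCast_div_mem_localRing hM
            (Nat.mul_ne_zero (pow_ne_zero _ hpp.ne_zero) hξ0) (Or.inl hfac.le)
      have hone := memLocalIdeal_mul_right hbad (mem_localRing.1 hinv)
      refine not_memLocalIdeal_one (M := M) ?_
      convert hone using 1
      have h1 : (Nat.card G : ℂ) ≠ 0 := Chars.natCard_ne_zero
      have h2 : ((p ^ (a - v) * Cfsg.charDegree (ξ : G → ℂ) : ℕ) : ℂ) ≠ 0 :=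
        Nat.cast_ne_zero.2 (Nat.mul_ne_zero (pow_ne_zero _ hpp.ne_zero) hξ0)
      rw [hw]
      field_simp
    set R := HeightZero.regPairing p (ξ : G → ℂ) (χ : G → ℂ) with hR
    have hRR : Cfsg.MemLocalRing M R :=
      HeightZero.memLocalRing_regPairing hloc p ξ (Chars.irr_isCharacter χ)
    have hkeq : (k : ℂ) = (p : ℂ) ^ v * (w * R) := by
      rw [← hk, regCoef_comm, regCoef_eq_regPairing, ← hR, hw,
        show (p : ℂ) ^ a = (p : ℂ) ^ v * (p : ℂ) ^ (a - v) by
          rw [← pow_add, Nat.add_sub_cancel' hva]]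
      push_cast
      ring
    obtain ⟨k', hk'⟩ := int_pow_dvd_of_div_mem hM v k (by
      rw [hkeq]
      convert mul_mem hwR (mem_localRing.2 hRR) using 1
      field_simp)
    have hk'w : (k' : ℂ) = w * R := by
      refine mul_left_cancel₀ (pow_ne_zero v hp0) ?_
      rw [← hkeq, hk']
      push_cast
      rfl
    refine ⟨k, ?_, ⟨k', hk'⟩, ?_⟩
    · rw [← hk, regCoef, ← Chars.classInner_smul_left]
      congr 1
      funext x
      rw [Pi.smul_apply, smul_eq_mul, pRegularPart_apply]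
      split_ifs <;> simp
    · rw [pow_succ, hk', mul_dvd_mul_iff_left (pow_ne_zero v (by exact_mod_cast hpp.ne_zero : (p : ℤ) ≠ 0)),
        ← memLocalIdeal_intCast_iff hM, hk'w]
      refine ⟨fun h => ?_, fun h => memLocalIdeal_mul_left (mem_localRing.1 hwR) h⟩
      by_contra hR'
      exact not_memLocalIdeal_mul (mem_localRing.1 hwR) hRR hwI hR' h
  have fwd : Cfsg.blockHeight p B (χ : G → ℂ) = 0 → ∀ ξ ∈ B, ∃ n : ℤ, Cfsg.classInner (fun x : G => if p ∣ orderOf x then (0 : ℂ) else ((p ^ a : ℕ) : ℂ) * (χ : G → ℂ) x) (ξ : G → ℂ) = (n : ℂ) ∧ n ≠ 0 ∧ padicValInt p n = (Cfsg.charDegree (ξ : G → ℂ)).factorization p := by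
    intro h0 ξ hξ
    obtain ⟨k, hk, hd, hiff⟩ := key ξ
    have hnd : ¬ (p : ℤ) ^ ((Cfsg.charDegree (ξ : G → ℂ)).factorization p + 1) ∣ k := by
      rw [hiff]
      refine HeightZero.not_memLocalIdeal_regPairing hM horth ?_ (sameBlock_of_mem hB hξ hχ)
      rw [← eq_blockOf_of_mem hB hχ]
      exact h0
    have hk0 : k ≠ 0 := fun h => hnd (h ▸ dvd_zero _)
    refine ⟨k, hk, hk0, le_antisymm ?_ ?_⟩
    · by_contra hlt
      exact hnd ((padicValInt_dvd_iff _ k).2 (Or.inr (by omega)))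
    · exact ((padicValInt_dvd_iff _ k).1 hd).resolve_left hk0
  have bwd : ∀ ξ : Cfsg.IrrCharacter G, ∀ n : ℤ, Cfsg.classInner (fun x : G => if p ∣ orderOf x then (0 : ℂ) else ((p ^ a : ℕ) : ℂ) * (χ : G → ℂ) x) (ξ : G → ℂ) = (n : ℂ) → n ≠ 0 → padicValInt p n = (Cfsg.charDegree (ξ : G → ℂ)).factorization p → Cfsg.blockHeight p B (χ : G → ℂ) = 0 := by
    intro ξ n hn hn0 hv
    obtain ⟨k, hk, -, hiff⟩ := key ξ
    obtain rfl : n = k := by exact_mod_cast hn.symm.trans hk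
    rw [eq_blockOf_of_mem hB hχ]
    refine HeightZero.blockHeight_eq_zero_of_regPairing hM horth hloc (χ := ξ) ?_
    rw [← hiff, padicValInt_dvd_iff, hv]
    omega
  refine ⟨⟨fun h0 => ⟨χ, hχ, fwd h0 χ hχ⟩, ?_⟩, ⟨fwd, fun h => ?_⟩⟩
  · rintro ⟨ξ, -, n, hn, hn0, hv⟩
    exact bwd ξ n hn hn0 hv
  · obtain ⟨n, hn, hn0, hv⟩ := h χ hχ
    exact bwd χ n hn hn0 hv

end Cfsg.Agent.S4426
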