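import Cfsg.Statements.S4430
import Cfsg.Agent.Lib.Blocks.SecondMain
import Cfsg.Agent.Lib.Blocks.RegOrth
import Cfsg.Agent.Lib.Chars.Induced

set_option autoImplicit false
open Cfsg

namespace Cfsg.Agent.S4430

open Cfsg.Agent.Lib Cfsg.Agent.Lib.Blocks

/-- Let H be a subgroup of the finite group G, b a block of H whose induced block B₀ in G is defined (relative to a maximal ideal M of the algebraic integers containing p), and ξ ∈ b. For a block B of G let n_B be the value at 1 of the B-part of the induced character ξ^G (a natural number: the sum over χ ∈ B of the multiplicity of χ in ξ^G times χ(1)). Then for B = B₀ the exact power of p dividing n_B equals the exact power of p dividing ξ^G(1), while for every other block B either n_B = 0 or n_B is divisible by a strictly higher power of p than ξ^G(1). -/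
theorem result {G : Type*} [Group G] [Fintype G] (p : ℕ) [Fact p.Prime] (M : Ideal Cfsg.AlgInt) (hM : Cfsg.IsPModular p M) (H : Subgroup G) [Fintype H] (b : Set (Cfsg.IrrCharacter H)) (B₀ : Set (Cfsg.IrrCharacter G)) (hind : Cfsg.IsInducedBlock M H b B₀) (ξ : Cfsg.IrrCharacter H) (hξ : ξ ∈ b) : (∃ n : ℕ, Cfsg.blockPart B₀ (Cfsg.indFun H (ξ : H → ℂ)) 1 = (n : ℂ) ∧ n ≠ 0 ∧ n.factorization p = (Cfsg.charDegree (Cfsg.indFun H (ξ : H → ℂ))).factorization p) ∧ ∀ B : Set (Cfsg.IrrCharacter G), Cfsg.IsPBlock M B → B ≠ B₀ → ∃ n : ℕ, Cfsg.blockPart B (Cfsg.indFun H (ξ : H → ℂ)) 1 = (n : ℂ) ∧ (n = 0 ∨ (Cfsg.charDegree (Cfsg.indFun H (ξ : H → ℂ))).factorization p < n.factorization p) := by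
  classical
  haveI : M.IsPrime := isPModular_isPrime hM
  have hpp : p.Prime := Fact.out
  obtain ⟨χ0, hχ0⟩ := isPBlock_nonempty hind.2.1
  obtain ⟨hdξ, hd0⟩ := HeightZero.charDegree_eq ξ
  have hind1 : Cfsg.indFun H (ξ : H → ℂ) 1 =
      ((H.index * Cfsg.charDegree (ξ : H → ℂ) : ℕ) : ℂ) := by
    rw [Chars.indFun_one_eq, ← hdξ, Nat.cast_mul]
  have hN : Cfsg.charDegree (Cfsg.indFun H (ξ : H → ℂ)) = H.index * Cfsg.charDegree (ξ : H → ℂ) := by
    conv_lhs => rw [Cfsg.charDegree, hind1, Complex.natCast_re, Nat.floor_natCast]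
  set N := Cfsg.charDegree (Cfsg.indFun H (ξ : H → ℂ)) with hNdef
  have hN0 : N ≠ 0 := by
    rw [hN]
    exact Nat.mul_ne_zero H.index_ne_zero_of_finite hd0
  have hindc : Cfsg.IsCharacter G (Cfsg.indFun H (ξ : H → ℂ)) :=
    Chars.isCharacter_indFun H (Chars.irr_isCharacter ξ)
  have main : ∀ B : Set (Cfsg.IrrCharacter G), Cfsg.IsPBlock M B → ∃ n : ℕ,
      Cfsg.blockPart B (Cfsg.indFun H (ξ : H → ℂ)) 1 = (n : ℂ) ∧
      Cfsg.MemLocalIdeal M ((n : ℂ) / (N : ℂ) - if χ0 ∈ B then 1 else 0) := by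
    intro B hB
    have hf : Cfsg.IsClassFunction G (Cfsg.blockCoeff B) := fun g h => blockCoeff_conj B g h
    have hfR : ∀ g, Cfsg.MemLocalRing M (Cfsg.blockCoeff B g) := memLocalRing_blockCoeff hB
    have hcong := HeightZero.eval_congr_induced hf hfR hind hξ hχ0
    have hone : ∑ g : G, Cfsg.blockCoeff B g * (χ0 : G → ℂ) g / (χ0 : G → ℂ) 1 =
        if χ0 ∈ B then 1 else 0 := by
      have := omega_idemC B χ0
      rw [omega_eq_sum] at this
      simp only [idemC, coeff_ofFun] at this
      simp only [mul_div_assoc, this]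
    choose m hm using fun χ : Cfsg.IrrCharacter G =>
      Chars.isCharacter_classInner_nat hindc (Chars.irr_isCharacter χ)
    have h3 : ((∑ χ ∈ B.toFinset, m χ * Cfsg.charDegree (χ : G → ℂ) : ℕ) : ℂ) =
        Cfsg.blockPart B (Cfsg.indFun H (ξ : H → ℂ)) 1 := by
      simp only [Cfsg.blockPart]
      rw [finsum_mem_eq_toFinset_sum, Nat.cast_sum]
      refine Finset.sum_congr rfl fun χ _ => ?_
      rw [Nat.cast_mul, (HeightZero.charDegree_eq χ).1, ← hm χ]
      simp only [Cfsg.classInner]
      congr 2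
      exact Finset.sum_congr (by ext; simp) fun _ _ => rfl
    refine ⟨_, h3.symm, ?_⟩
    · have h1 := Chars.classInner_indFun_left H (ξ : H → ℂ)
        (fun g => starRingEnd ℂ (Cfsg.blockCoeff B g)) (HeightZero.isClassFunction_conj hf)
      simp only [Cfsg.classInner, Complex.conj_conj] at h1
      have h2 := sum_blockCoeff_mul_eq_blockPart B (Chars.isClassFunction_indFun H (ξ : H → ℂ)) 1
      simp only [finsum_eq_sum_of_fintype, mul_one] at h2
      rw [h3, ← h2]
      rw [hone] at hcong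
      convert hcong using 2
      rw [hN, Nat.cast_mul, hdξ]
      have hx : (ξ : H → ℂ) 1 ≠ 0 := Chars.irr_apply_one_ne_zero ξ
      have hG : (Nat.card G : ℂ) = (Nat.card H : ℂ) * (H.index : ℂ) := by
        rw [← Nat.cast_mul, Subgroup.card_mul_index]
      have hHc : (Nat.card H : ℂ) ≠ 0 := Chars.natCard_ne_zero
      have hi : (H.index : ℂ) ≠ 0 := Nat.cast_ne_zero.2 H.index_ne_zero_of_finite
      have h4 : ∑ g : G, Cfsg.blockCoeff B g * Cfsg.indFun H (ξ : H → ℂ) g =
          (H.index : ℂ) * ∑ h : H, Cfsg.blockCoeff B (h : G) * (ξ : H → ℂ) h := by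
        simp only [mul_comm (Cfsg.blockCoeff B _)]
        rw [hG] at h1
        field_simp at h1
        linear_combination h1
      rw [h4, ← Finset.sum_div]
      field_simp
  have hmem : ∀ B : Set (Cfsg.IrrCharacter G), Cfsg.IsPBlock M B → B ≠ B₀ → χ0 ∉ B :=
    fun B hB hne h => hne (isPBlock_eq_of_mem hB hind.2.1 h hχ0)
  constructor
  · obtain ⟨n, hn, hmemI⟩ := main B₀ hind.2.1
    rw [if_pos hχ0] at hmemI
    have hn0 : n ≠ 0 := by
      rintro rfl
      rw [Nat.cast_zero, zero_div, zero_sub] at hmemI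
      exact not_memLocalIdeal_one (M := M) (by simpa using memLocalIdeal_neg hmemI)
    have hloc : (n : ℂ) / (N : ℂ) ∈ localRing M := by
      have := add_mem (mem_localRing.2 (memLocalIdeal_memLocalRing hmemI)) (one_mem (localRing M))
      simpa using this
    refine ⟨n, hn, hn0, le_antisymm ?_ ?_⟩
    · by_contra hlt
      have := memLocalIdeal_sub (memLocalIdeal_natCast_div hM hN0 (not_le.1 hlt)) hmemI
      exact not_memLocalIdeal_one (M := M) (by simpa using this)
    · by_contra hlt
      have h5 := memLocalIdeal_mul_right (memLocalIdeal_natCast_div hM hn0 (not_le.1 hlt))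
        (mem_localRing.1 hloc)
      refine not_memLocalIdeal_one (M := M) ?_
      convert h5 using 1
      have := Nat.cast_ne_zero (R := ℂ) |>.2 hn0
      have := Nat.cast_ne_zero (R := ℂ) |>.2 hN0
      field_simp
  · intro B hB hne
    obtain ⟨n, hn, hmemI⟩ := main B hB
    rw [if_neg (hmem B hB hne), sub_zero] at hmemI
    refine ⟨n, hn, or_iff_not_imp_left.2 fun hn0 => ?_⟩
    by_contra hlt
    have h5 := memLocalIdeal_mul_right hmemI
      (mem_localRing.1 (natCast_div_mem_localRing hM hn0 (Or.inl (not_lt.1 hlt))))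
    refine not_memLocalIdeal_one (M := M) ?_
    convert h5 using 1
    have := Nat.cast_ne_zero (R := ℂ) |>.2 hn0
    have := Nat.cast_ne_zero (R := ℂ) |>.2 hN0
    field_simp

end Cfsg.Agent.S4430
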