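import Cfsg.Statements.S4431
import Cfsg.Agent.Lib.Blocks.RegOrth

set_option autoImplicit false
open Cfsg

namespace Cfsg.Agent.S4431

open Cfsg.Agent.Lib Cfsg.Agent.Lib.Blocks

/-- Let H be a subgroup of the finite group G and b a block of H whose induced block B₀ in G is defined (relative to a maximal ideal M of the algebraic integers containing p). Let χ be an irreducible character of G, ψ ∈ b, and let η be the class function on H equal to p^a · χ on the p-regular elements of H and zero elsewhere, p^a being the p-part of the order of H. Then (a) if χ ∉ B₀, the number [η, ψ]/ψ(1) lies in the local ideal at M; (b) if χ ∈ B₀ has height zero, it does not. -/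
theorem result {G : Type*} [Group G] [Fintype G] (p : ℕ) [Fact p.Prime] (M : Ideal Cfsg.AlgInt) (hM : Cfsg.IsPModular p M) (H : Subgroup G) [Fintype H] (b : Set (Cfsg.IrrCharacter H)) (B₀ : Set (Cfsg.IrrCharacter G)) (hind : Cfsg.IsInducedBlock M H b B₀) (χ : Cfsg.IrrCharacter G) (ψ : Cfsg.IrrCharacter H) (hψ : ψ ∈ b) : (χ ∉ B₀ → Cfsg.MemLocalIdeal M (Cfsg.classInner (fun h : H => if p ∣ orderOf h then (0 : ℂ) else ((p ^ (Nat.card H).factorization p : ℕ) : ℂ) * (χ : G → ℂ) h) (ψ : H → ℂ) / (ψ : H → ℂ) 1)) ∧ (χ ∈ B₀ → Cfsg.blockHeight p B₀ (χ : G → ℂ) = 0 → ¬ Cfsg.MemLocalIdeal M (Cfsg.classInner (fun h : H => if p ∣ orderOf h then (0 : ℂ) else ((p ^ (Nat.card H).factorization p : ℕ) : ℂ) * (χ : G → ℂ) h) (ψ : H → ℂ) / (ψ : H → ℂ) 1)) := by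
  classical
  haveI : M.IsPrime := isPModular_isPrime hM
  have hpp : p.Prime := Fact.out
  set a := (Nat.card H).factorization p with ha
  set f : G → ℂ := HeightZero.regWeight p (χ : G → ℂ) with hf
  set w : ℂ := ((p ^ a : ℕ) : ℂ) / (Nat.card H : ℂ) with hw
  have hfac : (p ^ a).factorization p = (Nat.card H).factorization p := by
    rw [hpp.factorization_pow, Finsupp.single_eq_same]
  have hwR : w ∈ localRing M := natCast_div_mem_localRing hM Nat.card_pos.ne' (Or.inl hfac.ge)
  have hwI : ¬ Cfsg.MemLocalIdeal M w := by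
    intro h
    have hinv : (Nat.card H : ℂ) / ((p ^ a : ℕ) : ℂ) ∈ localRing M :=
      natCast_div_mem_localRing hM (pow_ne_zero _ hpp.ne_zero) (Or.inl hfac.le)
    refine not_memLocalIdeal_one (M := M) ?_
    convert memLocalIdeal_mul_right h (mem_localRing.1 hinv) using 1
    have := Chars.natCard_ne_zero (G := H)
    have : ((p ^ a : ℕ) : ℂ) ≠ 0 := Nat.cast_ne_zero.2 (pow_ne_zero _ hpp.ne_zero)
    rw [hw]
    field_simp
  have heq : Cfsg.classInner (fun h : H => if p ∣ orderOf h then (0 : ℂ) else ((p ^ a : ℕ) : ℂ) * (χ : G → ℂ) h) (ψ : H → ℂ) / (ψ : H → ℂ) 1 = w * ∑ h : H, f (h : G) * (ψ : H → ℂ) h / (ψ : H → ℂ) 1 := by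
    rw [Cfsg.classInner, hw, ← Finset.sum_div]
    have h1 : ∑ h : H, f (h : G) * (ψ : H → ℂ) h = ∑ h : H, f ((h⁻¹ : H) : G) * (ψ : H → ℂ) h⁻¹ :=
      (Equiv.sum_comp (Equiv.inv H) fun h : H => f (h : G) * (ψ : H → ℂ) h).symm
    have h2 : ∀ h : H, (if p ∣ orderOf h then (0 : ℂ) else ((p ^ a : ℕ) : ℂ) * (χ : G → ℂ) h) *
        starRingEnd ℂ ((ψ : H → ℂ) h) =
        ((p ^ a : ℕ) : ℂ) * (f ((h⁻¹ : H) : G) * (ψ : H → ℂ) h⁻¹) := by
      intro h
      rw [hf, HeightZero.regWeight, Subgroup.orderOf_coe, orderOf_inv,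
        Chars.isCharacter_inv_apply (Chars.irr_isCharacter ψ), Subgroup.coe_inv,
        Chars.isCharacter_inv_apply (Chars.irr_isCharacter χ), Complex.conj_conj]
      split_ifs <;> ring
    rw [Finset.sum_congr rfl fun h _ => h2 h, ← Finset.mul_sum, ← h1]
    ring
  obtain ⟨χ0, hχ0⟩ := isPBlock_nonempty hind.2.1
  have hfc : Cfsg.IsClassFunction G f :=
    HeightZero.isClassFunction_regWeight p (Chars.irr_isClassFunction χ)
  have hfR : ∀ g, Cfsg.MemLocalRing M (f g) :=
    HeightZero.memLocalRing_regWeight p (Chars.irr_isCharacter χ)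
  have horth := HeightZero.regOrth_holds (G := G) hM
  have hloc : HeightZero.CentralLocal M G := HeightZero.centralLocal_holds
  rw [heq]
  constructor
  · intro hχ
    have hc := HeightZero.eval_congr_induced hfc hfR hind hψ hχ0
    have h0 : HeightZero.regPairing p (χ0 : G → ℂ) (χ : G → ℂ) = 0 := by
      rw [HeightZero.regPairing_eq, horth χ0 χ fun h => hχ (mem_of_sameBlock hind.2.1 hχ0 h),
        zero_div]
    rw [HeightZero.regPairing, ← hf] at h0
    rw [h0, sub_zero] at hc
    exact memLocalIdeal_mul_left (mem_localRing.1 hwR) hc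
  · intro hχ h0 hbad
    have hc := HeightZero.eval_congr_induced hfc hfR hind hψ hχ
    have hR : ¬ Cfsg.MemLocalIdeal M (HeightZero.regPairing p (χ : G → ℂ) (χ : G → ℂ)) := by
      refine HeightZero.not_memLocalIdeal_regPairing hM horth ?_ (sameBlock_refl _)
      rw [← eq_blockOf_of_mem hind.2.1 hχ]
      exact h0
    have hRR := HeightZero.memLocalRing_regPairing hloc p χ (Chars.irr_isCharacter χ)
    set S := ∑ h : H, f (h : G) * (ψ : H → ℂ) h / (ψ : H → ℂ) 1 with hS
    have hS1 : ¬ Cfsg.MemLocalIdeal M S := fun h => hR (by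
      rw [HeightZero.regPairing, ← hf]
      simpa using memLocalIdeal_sub h hc)
    have hS2 : Cfsg.MemLocalRing M S := by
      have := add_mem (mem_localRing.2 (memLocalIdeal_memLocalRing hc)) (mem_localRing.2 hRR)
      rw [HeightZero.regPairing, ← hf] at this
      exact mem_localRing.1 (by simpa using this)
    exact not_memLocalIdeal_mul (mem_localRing.1 hwR) hS2 hwI hS1 hbad

end Cfsg.Agent.S4431
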