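import Cfsg.Statements.S4435
import Cfsg.Agent.Lib.BlockUnion.Stabilizer

set_option autoImplicit false
open Cfsg

namespace Cfsg.Agent.S4435

open Cfsg.Agent.Lib Cfsg.Agent.Lib.Blocks Cfsg.Agent.Lib.BlockUnion.Stab

/-- Let N be a normal subgroup of the finite group G, b a block of N (relative to a maximal ideal M of the algebraic integers containing p), and T the stabilizer of b in G (the elements g such that conjugating any member of b by g gives a member of b); N ≤ T. Say that a block of T (or of G) covers b when some member has a constituent in b on restriction to N. Then: (i) every block B′ of T covering b induces a block B of G, B covers b, every ψ ∈ B′ induces to an irreducible character of G, and B consists exactly of the characters induced from members of B′; (ii) distinct blocks of T covering b induce distinct blocks of G; (iii)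 every block of G covering b is induced by some block of T covering b. -/
theorem result {G : Type*} [Group G] [Fintype G] (p : ℕ) [Fact p.Prime] (M : Ideal Cfsg.AlgInt) (hM : Cfsg.IsPModular p M) (N : Subgroup G) [hN : N.Normal] [Fintype N] (b : Set (Cfsg.IrrCharacter N)) (hb : Cfsg.IsPBlock M b) (T : Subgroup G) [Fintype T] (hT : ∀ g : G, g ∈ T ↔ ∀ θ ∈ b, ∀ θ' : Cfsg.IrrCharacter N, (∀ n : N, (θ' : N → ℂ) n = (θ : N → ℂ) ⟨g * n * g⁻¹, hN.conj_mem n n.2 g⟩) → θ' ∈ b) (hNT : N ≤ T) : (∀ B' : Set (Cfsg.IrrCharacter T), Cfsg.IsPBlock M B' → (∃ ψ ∈ B', ∃ θ ∈ b, Cfsg.classInner (fun n : N => (ψ : T → ℂ) ⟨(n : G), hNT n.2⟩) (θ : N → ℂ) ≠ 0) → ∃ B : Set (Cfsg.IrrCharacter G), Cfsg.IsInducedBlock M T B' B ∧ (∃ χ ∈ B, ∃ θ ∈ b, Cfsg.classInner (fun n : N => (χ : G → ℂ) n) (θ : N → ℂ) ≠ 0) ∧ (∀ ψ ∈ B', Cfsg.IsIrrCharacter G (Cfsg.indFun T (ψ : T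 → ℂ))) ∧ ∀ χ : Cfsg.IrrCharacter G, χ ∈ B ↔ ∃ ψ ∈ B', (χ : G → ℂ) = Cfsg.indFun T (ψ : T → ℂ)) ∧ (∀ B'₁ B'₂ : Set (Cfsg.IrrCharacter T), Cfsg.IsPBlock M B'₁ → Cfsg.IsPBlock M B'₂ → (∃ ψ ∈ B'₁, ∃ θ ∈ b, Cfsg.classInner (fun n : N => (ψ : T → ℂ) ⟨(n : G), hNT n.2⟩) (θ : N → ℂ) ≠ 0) → (∃ ψ ∈ B'₂, ∃ θ ∈ b, Cfsg.classInner (fun n : N => (ψ : T → ℂ) ⟨(n : G), hNT n.2⟩) (θ : N → ℂ) ≠ 0) → ∀ B : Set (Cfsg.IrrCharacter G), Cfsg.IsInducedBlock M T B'₁ B → Cfsg.IsInducedBlock M T B'₂ B → B'₁ = B'₂) ∧ (∀ B : Set (Cfsg.IrrCharacter G), Cfsg.IsPBlock M B → (∃ χ ∈ B, ∃ θ ∈ b, Cfsg.classInner (fun n : N => (χ : G → ℂ) n) (θ : N → ℂ) ≠ 0) → ∃ B' : Set (Cfsg.IrrCharacter T), Cfsg.IsPBlock M B' ∧ (∃ ψ ∈ B', ∃ θ ∈ b, Cfsg.classInner (fun n : N => (ψ : T → ℂ) ⟨(n : G), hNT n.2⟩) (θ : N → ℂ) ≠ 0) ∧ Cfsg.IsInducedBlock M T B' B) := by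
  haveI : M.IsPrime := isPModular_isPrime hM
  have hcv : ∀ ψ : Cfsg.IrrCharacter T, (∃ θ ∈ b, Cfsg.classInner (fun n : N => (ψ : T → ℂ) ⟨(n : G), hNT n.2⟩) (θ : N → ℂ) ≠ 0) → Covers hNT b (ψ : T → ℂ) := fun ψ h => h
  refine ⟨?_, ?_, ?_⟩
  · rintro B' hB' ⟨ψ₀, hψ₀, h⟩
    have h₀ := hcv ψ₀ h
    have hind := isInducedBlock_ind hb hT hNT hB' hψ₀ h₀
    refine ⟨_, hind, ?_, fun ψ hψ => ?_, mem_iff_exists_ind hb hT hNT hind hψ₀ h₀⟩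
    · obtain ⟨θ, hθ, hne⟩ := covers_ind hb hT hNT h₀
      exact ⟨ind hb hT hNT h₀, mem_blockOf_self _, θ, hθ, hne⟩
    · exact isIrr_indFun hb hT hNT (covers_of_sameBlock hb hT hNT h₀ (sameBlock_of_mem hB' hψ₀ hψ))
  · rintro B'₁ B'₂ hB₁ hB₂ ⟨ψ₁, hψ₁, h₁⟩ ⟨ψ₂, hψ₂, h₂⟩ B hi₁ hi₂
    have m₁ := ind_mem_of_induced hb hT hNT hi₁ hψ₁ (hcv ψ₁ h₁)
    have m₂ := ind_mem_of_induced hb hT hNT hi₂ hψ₂ (hcv ψ₂ h₂)
    have hs := sameBlock_of_sameBlock_ind hb hT hNT (hcv ψ₁ h₁) (hcv ψ₂ h₂)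
      (sameBlock_of_mem hi₁.2.1 m₁ m₂)
    exact isPBlock_eq_of_mem hB₁ hB₂ (mem_of_sameBlock hB₁ hψ₁ hs) hψ₂
  · rintro B hB ⟨χ, hχ, θ, hθ, hne⟩
    obtain ⟨ψ, hcov, hψ⟩ := exists_ind_eq hb hT hNT hθ hne
    refine ⟨blockOf M (ψ : T → ℂ), isPBlock_blockOf ψ, ⟨ψ, mem_blockOf_self ψ, hcov⟩, ?_⟩
    rw [eq_blockOf_of_mem hB hχ, ← hψ]
    exact isInducedBlock_ind hb hT hNT (isPBlock_blockOf ψ) (mem_blockOf_self ψ) hcov

end Cfsg.Agent.S4435
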