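import Cfsg.Statements.S4437
import Cfsg.Agent.Lib.BlockUnion.Extended

set_option autoImplicit false
open Cfsg

namespace Cfsg.Agent.S4437

open Cfsg.Agent.Lib Cfsg.Agent.Lib.Blocks Cfsg.Agent.Lib.BlockUnion.Stab Cfsg.Agent.Lib.BlockUnion.Extended

/-- Let P be a p-subgroup of the finite group G, H = P·C_G(P), and b a block of H (relative to a maximal ideal M of the algebraic integers containing p) having P as a defect group; let B be the block of G induced by b. Let T be the stabilizer of b in N_G(P): the elements g of N_G(P) such that the g-conjugate of every member of b is again a member of b. Then B has defect group P if and only if p does not divide the index of H in T. -/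
theorem result {G : Type*} [Group G] [Fintype G] (p : ℕ) [Fact p.Prime] (M : Ideal Cfsg.AlgInt) (hM : Cfsg.IsPModular p M) (P : Subgroup G) (hP : IsPGroup p P) (H : Subgroup G) [Fintype H] (hH : H = P ⊔ Subgroup.centralizer (P : Set G)) (b : Set (Cfsg.IrrCharacter H)) (hb : Cfsg.IsPBlock M b) (hbP : Cfsg.IsDefectGroup p M b (P.subgroupOf H)) (B : Set (Cfsg.IrrCharacter G)) (hind : Cfsg.IsInducedBlock M H b B) (T : Subgroup G) (hT : ∀ g : G, g ∈ T ↔ (g ∈ Subgroup.normalizer (P : Set G) ∧ ∀ θ ∈ b, ∀ θ' : Cfsg.IrrCharacter H, (∀ h h' : H, (h' : G) = g * h * g⁻¹ → (θ' : H → ℂ) h' = (θ : H → ℂ) h) → θ' ∈ b)) : Cfsg.IsDefectGroup p M B P ↔ ¬ p ∣ H.relIndex T := by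
  classical
  haveI : M.IsPrime := isPModular_isPrime hM
  have hpp : p.Prime := Fact.out
  set N := Subgroup.normalizer (P : Set G) with hN
  haveI := Fintype.ofFinite N
  have hCN : Subgroup.centralizer (P : Set G) ≤ N := Subgroup.centralizer_le_normalizer _
  have hPN : P ≤ N := Subgroup.le_normalizer
  have hHN : H ≤ N := hH.le.trans (sup_le hPN hCN)
  have hPH : P ≤ H := le_sup_left.trans hH.ge
  have hCH : Subgroup.centralizer (P : Set G) ≤ H := le_sup_right.trans hH.ge
  set K : Subgroup N := H.subgroupOf N with hK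
  set P0 : Subgroup N := P.subgroupOf N with hP0
  haveI hP0n : P0.Normal := (Subgroup.normal_subgroupOf_iff_le_normalizer hPN).2 le_rfl
  have hconjC : ∀ g ∈ N, ∀ c ∈ Subgroup.centralizer (P : Set G),
      g * c * g⁻¹ ∈ Subgroup.centralizer (P : Set G) := fun g hg c hc =>
    conj_mem_centralizer_of_mem_normalizer hg hc
  have hNH : N ≤ Subgroup.normalizer (H : Set G) := by
    intro g hg
    rw [Subgroup.mem_normalizer_iff]
    have hfwd : ∀ g ∈ N, ∀ x ∈ H, g * x * g⁻¹ ∈ H := by
      intro g hg x hx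
      rw [hH] at hx ⊢
      have hmap : (P ⊔ Subgroup.centralizer (P : Set G)).map (MulAut.conj g).toMonoidHom ≤
          P ⊔ Subgroup.centralizer (P : Set G) := by
        rw [Subgroup.map_sup]
        refine sup_le (le_sup_of_le_left ?_) (le_sup_of_le_right ?_)
        · rintro _ ⟨y, hy, rfl⟩
          exact ((Subgroup.mem_normalizer_iff.1 hg) y).1 hy
        · rintro _ ⟨y, hy, rfl⟩
          exact hconjC g hg y hy
      exact hmap ⟨x, hx, rfl⟩
    intro x
    refine ⟨hfwd g hg x, fun hx => ?_⟩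
    simpa [mul_assoc] using hfwd g⁻¹ (N.inv_mem hg) _ hx
  haveI hKn : K.Normal := (Subgroup.normal_subgroupOf_iff_le_normalizer hHN).2 hNH
  haveI := Fintype.ofFinite K
  set e : K ≃* H := Subgroup.subgroupOfEquivOfLe hHN with he
  set bK : Set (Cfsg.IrrCharacter K) := Chars.irrCongr e '' b with hbK
  have hbKblock : Cfsg.IsPBlock M bK := BrauerMap.isPBlock_image_irrCongr e hb
  have hP0p : IsPGroup p P0 := hP.of_equiv (Subgroup.subgroupOfEquivOfLe hPN).symm
  have hP0K : P0 ≤ K := fun x hx => hPH hx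
  have hC0K : Subgroup.centralizer (P0 : Set N) ≤ K := by
    intro x hx
    refine hCH (Subgroup.mem_centralizer_iff.2 fun a ha => ?_)
    exact congrArg Subtype.val (Subgroup.mem_centralizer_iff.1 hx ⟨a, hPN ha⟩ ha)
  have hbd : p ^ Cfsg.blockDefect p bK = Nat.card P0 := by
    have hdef : Cfsg.blockDefect p bK = Cfsg.blockDefect p b := by
      unfold Cfsg.blockDefect
      rw [hbK, Set.image_image, Nat.card_congr e.toEquiv]
      congr 2
    rw [hdef, ← card_defectGroup hM hb hbP, Nat.card_congr (Subgroup.subgroupOfEquivOfLe hPH).toEquiv,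
      Nat.card_congr (Subgroup.subgroupOfEquivOfLe hPN).toEquiv]
  have hTN : T ≤ N := fun g hg => ((hT g).1 hg).1
  set T0 : Subgroup N := T.subgroupOf N with hT0
  haveI := Fintype.ofFinite T0
  have hTK : H ≤ T := by
    intro h hh
    refine (hT h).2 ⟨hHN hh, fun θ hθ θ' hθ' => ?_⟩
    have : θ' = θ := by
      apply Subtype.ext
      funext k
      rw [hθ' (⟨h, hh⟩⁻¹ * k * ⟨h, hh⟩) k (by
        simp only [Subgroup.coe_mul, Subgroup.coe_inv]; group)]
      have := Chars.irr_isClassFunction θ k (⟨h, hh⟩⁻¹ : H)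
      rwa [inv_inv] at this
    exact this ▸ hθ
  have hKT0 : K ≤ T0 := fun x hx => hTK hx
  have hstab : IsStab T0 bK := by
    intro g
    rw [hT0, Subgroup.mem_subgroupOf, ← T.inv_mem_iff, hT]
    constructor
    · rintro ⟨-, h⟩ θK ⟨θ, hθ, rfl⟩ θK' hθK'
      obtain ⟨θ', rfl⟩ := (Chars.irrCongr e).surjective θK'
      refine ⟨θ', h θ hθ θ' fun a a' ha => ?_, rfl⟩
      have h2 := hθK' (e.symm a')
      simp only [BrauerMap.irrCongr_apply, MulEquiv.apply_symm_apply] at h2
      rw [h2]
      refine congrArg _ (Subtype.ext ?_)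
      show (g : G) * ((e.symm a' : N) : G) * (g : G)⁻¹ = (a : G)
      rw [show ((e.symm a' : N) : G) = (a' : G) from rfl, ha, inv_inv]
      group
    · intro h
      refine ⟨N.inv_mem g.2, fun θ hθ θ' hθ' => ?_⟩
      obtain ⟨θ'', hθ'', heq⟩ := h (Chars.irrCongr e θ) ⟨θ, hθ, rfl⟩ (Chars.irrCongr e θ') fun n => by
        simp only [BrauerMap.irrCongr_apply]
        refine hθ' _ _ ?_
        show ((n : N) : G) = (g : G)⁻¹ * ((g : G) * ((n : N) : G) * (g : G)⁻¹) * ((g : G)⁻¹)⁻¹
        group
      exact (Chars.irrCongr e).injective heq ▸ hθ''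
  obtain ⟨B1, hindK, D, hD, hPD, hcard⟩ :=
    exists_block hM hP0p hP0K hC0K hbKblock hbd hstab hKT0
  obtain ⟨B2, hindN⟩ := inducedBlockDefined hM hP hPN hCN le_rfl hindK.2.1
  have hb2 : Cfsg.IsInducedBlock M H b B2 := by
    refine ⟨hb, hindN.2.1, fun ξ hξ χ hχ g => ?_⟩
    obtain ⟨ψ, hψ⟩ := isPBlock_nonempty hindK.2.1
    have h1 := HeightZero.eval_congr_induced (f := fun n : N => Chars.classIndicator g (n : G))
      (fun x y => by
        simp only [Subgroup.coe_mul, Subgroup.coe_inv]
        exact Chars.isClassFunction_classIndicator g (x : G) (y : G))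
      (fun x => by
        simp only [Chars.classIndicator]
        split_ifs
        · exact mem_localRing.1 (one_mem _)
        · exact mem_localRing.1 (zero_mem _))
      hindK (ξ := Chars.irrCongr e ξ) ⟨ξ, hξ, rfl⟩ hψ
    have h2 := hindN.2.2 ψ hψ χ hχ g
    rw [Covering.inducedCentralChar_eq_sum_indicator] at h2 ⊢
    have h3 : ∑ k : K, Chars.classIndicator g ((k : N) : G) * (Chars.irrCongr e ξ : K → ℂ) k /
        (Chars.irrCongr e ξ : K → ℂ) 1 =
        ∑ h : H, Chars.classIndicator g (h : G) * (ξ : H → ℂ) h / (ξ : H → ℂ) 1 := by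
      refine Fintype.sum_equiv e.toEquiv _ _ fun k => ?_
      simp only [BrauerMap.irrCongr_apply, map_one]
      rfl
    rw [h3] at h1
    simpa using memLocalIdeal_add h1 h2
  have hBeq : B = B2 := isInducedBlock_unique hind hb2
  have hrel : K.relIndex T0 = H.relIndex T := Subgroup.relIndex_subgroupOf hTN
  rw [hrel, Nat.card_congr (Subgroup.subgroupOfEquivOfLe hPN).toEquiv] at hcard
  constructor
  · intro hBP hdiv
    obtain ⟨E, hE, hle⟩ := exists_defectGroup_ge_map hM hindN hD
    have h1 : Nat.card E = Nat.card P := by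
      rw [card_defectGroup hM hindN.2.1 hE, card_defectGroup hM hindN.2.1 (hBeq ▸ hBP)]
    have h2 := Subgroup.card_le_of_le hle
    rw [Subgroup.card_map_of_injective N.subtype_injective, hcard, h1] at h2
    have hv : 1 ≤ (H.relIndex T).factorization p :=
      hpp.dvd_iff_one_le_factorization (Subgroup.index_ne_zero_of_finite) |>.1 hdiv
    have h3 : 2 ≤ p ^ (H.relIndex T).factorization p :=
      hpp.two_le.trans (Nat.le_self_pow (by omega) p)
    have : 0 < Nat.card P := Nat.card_pos
    nlinarith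
  · intro hnd
    rw [Nat.factorization_eq_zero_of_not_dvd hnd, pow_zero, mul_one] at hcard
    have hDP : D = P0 := (Subgroup.eq_of_le_of_card_ge hPD (by
      rw [hcard, Nat.card_congr (Subgroup.subgroupOfEquivOfLe hPN).toEquiv])).symm
    obtain ⟨B3, -, hB3, hind3⟩ := firstMain_exists hM hP hindK.2.1 (by rw [hDP] at hD; exact hD)
    rw [hBeq, ← isInducedBlock_unique hind3 hindN]
    exact hB3

end Cfsg.Agent.S4437
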