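import Cfsg.Statements.S4438
import Cfsg.Agent.Lib.Blocks.CoveringDefect
import Cfsg.Agent.Lib.BlockUnion.ImageDefect

set_option autoImplicit false
open Cfsg

namespace Cfsg.Agent.S4438

open Cfsg.Agent.Lib Cfsg.Agent.Lib.Blocks

/-- Let N be a normal subgroup of the finite group G, b a block of N with defect group Q, and B a block of G covering b (some member of B has a constituent in b on restriction to N), all relative to a maximal ideal M of the algebraic integers containing p. Then B has a defect group P with P ⊓ N = Q. -/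
theorem result {G : Type*} [Group G] [Fintype G] (p : ℕ) [Fact p.Prime] (M : Ideal Cfsg.AlgInt) (hM : Cfsg.IsPModular p M) (N : Subgroup G) [hN : N.Normal] [Fintype N] (b : Set (Cfsg.IrrCharacter N)) (hb : Cfsg.IsPBlock M b) (Q : Subgroup G) (hQN : Q ≤ N) (hQ : Cfsg.IsDefectGroup p M b (Q.subgroupOf N)) (B : Set (Cfsg.IrrCharacter G)) (hB : Cfsg.IsPBlock M B) (hcov : (∃ χ ∈ B, ∃ θ ∈ b, Cfsg.classInner (fun n : N => (χ : G → ℂ) n) (θ : N → ℂ) ≠ 0)) : ∃ P : Subgroup G, Cfsg.IsDefectGroup p M B P ∧ P ⊓ N = Q := by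
  classical
  haveI : M.IsPrime := isPModular_isPrime hM
  obtain ⟨P, hP⟩ := exists_isDefectGroup (p := p) hB
  obtain ⟨c, hc, -, ⟨χ₁, hχ₁, θ₁, hθ₁, hcon₁⟩, hcD⟩ := Graded.knorr_inf_defectGroup (N := N) hM hB hP
  obtain ⟨χ₀, hχ₀, θ₀, hθ₀, hcon₀⟩ := hcov
  obtain ⟨a, θ', hθ', ha⟩ := Covering.constituent_mem_conjClosure hc (sameBlock_of_mem hB hχ₁ hχ₀)
    hθ₁ hcon₁ (ψ := θ₀) hcon₀
  set e := BrauerMap.conjEquiv (H := N) a⁻¹ (Graded.mem_normalizer_normal a⁻¹) with he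
  have hθeq : Chars.irrCongr e θ' = θ₀ := Subtype.ext (funext fun n => by
    rw [BrauerMap.irrCongr_apply, ← ha, Clifford.conjFun]
    exact congrArg _ (Subtype.ext (by simp [he])))
  have hbeq : b = Chars.irrCongr e '' c :=
    isPBlock_eq_of_mem hb (BrauerMap.isPBlock_image_irrCongr _ hc) hθ₀ ⟨θ', hθ', hθeq⟩
  have hD2 := BlockUnion.isDefectGroup_image_irrCongr e hcD
  rw [← hbeq] at hD2
  obtain ⟨m, hm⟩ := isDefectGroup_conjugate hM hb hD2 hQ
  refine ⟨P.map (MulAut.conj ((m : G) * a⁻¹)).toMonoidHom, isDefectGroup_conj hP _, ?_⟩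
  set Qt := ((P ⊓ N).subgroupOf N).map e.symm.toMonoidHom with hQt
  have h1 : Q = (Qt.map (MulAut.conj m).toMonoidHom).map N.subtype := by
    rw [← hm, Subgroup.map_subgroupOf_eq_of_le hQN]
  rw [h1, hQt, Subgroup.map_map, Subgroup.map_map]
  ext x
  simp only [Subgroup.mem_inf, Subgroup.mem_map, Subgroup.mem_subgroupOf, MonoidHom.coe_comp,
    Function.comp_apply, MulEquiv.coe_toMonoidHom]
  constructor
  · rintro ⟨⟨y, hy, rfl⟩, hx⟩
    have hyN : y ∈ N := by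
      have := hN.conj_mem _ hx ((m : G) * a⁻¹)⁻¹
      simpa [mul_assoc] using this
    refine ⟨⟨y, hyN⟩, ⟨hy, hyN⟩, ?_⟩
    simp [he, BrauerMap.conjEquiv, mul_assoc]
  · rintro ⟨y, ⟨hyP, -⟩, rfl⟩
    refine ⟨⟨(y : G), hyP, ?_⟩, SetLike.coe_mem _⟩
    simp [he, BrauerMap.conjEquiv, mul_assoc]

end Cfsg.Agent.S4438
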