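import Cfsg.Statements.S4443
import Cfsg.Agent.Lib.BlockUnion.NormalDefect

set_option autoImplicit false
open Cfsg

namespace Cfsg.Agent.S4443

open Cfsg.Agent.Lib Cfsg.Agent.Lib.Blocks Cfsg.Agent.Lib.BlockUnion Cfsg.Agent.Lib.BlockUnion.NormalDefect

/-- Let D be a normal p-subgroup of the finite group G, of order p^d, let p^a be the p-part of the order of G, and fix a Sylow p-subgroup S and a maximal ideal M of the algebraic integers containing p. Index by a finite type ι (via an injective map K) exactly the conjugacy classes of p-regular elements x of G for which D is a Sylow p-subgroup of C_G(x). For classes K_i, K_j let ω(i, j) be the number of pairs (y, z) ∈ K_i × K_j with z y⁻¹ ∈ S; this number is divisible by p^(a−d). Then the number of p-blocks of G having D as a defect group equals the rank over ℤ/pℤ of the matrix with (i, j) entry ω(i, j)/p^(a−d) reduced modulo p. -/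
theorem result {G : Type*} [Group G] [Finite G] (p : ℕ) [Fact p.Prime] (M : Ideal Cfsg.AlgInt) (hM : Cfsg.IsPModular p M) (D : Subgroup G) [D.Normal] (hD : IsPGroup p D) (S : Sylow p G) {ι : Type*} [Fintype ι] [DecidableEq ι] (K : ι → ConjClasses G) (hKinj : Function.Injective K) (hK : ∀ C : ConjClasses G, (∃ i, K i = C) ↔ ∃ x ∈ C.carrier, ¬ p ∣ orderOf x ∧ ∃ Q : Sylow p (Subgroup.centralizer ({x} : Set G)), (Q : Subgroup (Subgroup.centralizer ({x} : Set G))).map (Subgroup.centralizer ({x} : Set G)).subtype = D) : Nat.card {B : Set (Cfsg.IrrCharacter G) // Cfsg.IsPBlock M B ∧ Cfsg.IsDefectGroup p M B D} = (Matrix.of fun i j : ι => ((Nat.card {yz : G × G // yz.1 ∈ (K i).carrier ∧ yz.2 ∈ (K j).carrier ∧ yz.2 * yz.1⁻¹ ∈ (S : Subgroup G)} / p ^ ((Nat.card G).factorization p - (Nat.card D).factorization p) : ℕ) : ZMod p)).rank := by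
  classical
  haveI : M.IsPrime := isPModular_isPrime hM
  have hpp : p.Prime := Fact.out
  haveI := Fintype.ofFinite G
  haveI := Fintype.ofFinite D
  haveI := charP_residue hM
  haveI : Fintype (ConjClasses G) := Fintype.ofFinite _
  haveI : Fintype {B : Set (Cfsg.IrrCharacter G) // Cfsg.IsPBlock M B ∧ Cfsg.IsDefectGroup p M B D} :=
    Fintype.ofFinite _
  set BD := {B : Set (Cfsg.IrrCharacter G) // Cfsg.IsPBlock M B ∧ Cfsg.IsDefectGroup p M B D}
  set x : ι → G := fun i => Quotient.out (K i) with hx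
  have hxK : ∀ i, ConjClasses.mk (x i) = K i := fun i => Quotient.out_eq (K i)
  have hlist : ∀ i, Listed p D (x i) := by
    intro i
    obtain ⟨y, hy, hreg, Q, hQ⟩ := (hK (K i)).1 ⟨i, rfl⟩
    have hc : IsConj y (x i) := by
      rw [← ConjClasses.mk_eq_mk_iff_isConj, hxK]
      exact ConjClasses.mem_carrier_iff_mk_eq.1 hy
    exact listed_of_isConj ⟨hreg, isClassDefect_iff_exists_sylow.2 ⟨Q, hQ.symm⟩⟩ hc
  have hrange : ∀ C : ConjClasses G, Listed p D (Quotient.out C) → ∃ i, K i = C := by
    intro C hC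
    obtain ⟨Q, hQ⟩ := isClassDefect_iff_exists_sylow.1 hC.2
    exact (hK C).2 ⟨Quotient.out C, ConjClasses.mem_carrier_iff_mk_eq.2 (Quotient.out_eq C),
      hC.1, Q, hQ.symm⟩
  choose ξ hξ using fun B : BD => isPBlock_nonempty B.2.1
  have hωmem : ∀ (χ : Cfsg.IrrCharacter G) (g : G), Cfsg.centralChar (χ : G → ℂ) g ∈ localRing M :=
    fun χ g => centralChar_mem_localRing χ g
  have hemem : ∀ (B : BD) (g : G), Cfsg.blockCoeff B.1 g ∈ localRing M :=
    fun B g => mem_localRing.2 (memLocalRing_blockCoeff B.2.1 g)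
  set A : Matrix ι BD (Residue M) := Matrix.of fun i B =>
    residue M ⟨Cfsg.centralChar (ξ B : G → ℂ) (x i), hωmem _ _⟩ with hA
  set E : Matrix BD ι (Residue M) := Matrix.of fun B j =>
    residue M ⟨Cfsg.blockCoeff B.1 (x j), hemem _ _⟩ with hE
  -- the idempotents invert the central characters
  have hEA : E * A = 1 := by
    ext B B'
    rw [Matrix.mul_apply, Matrix.one_apply]
    have hone : ∑ C : ConjClasses G, Cfsg.blockCoeff B.1 (Quotient.out C) *
        Cfsg.centralChar (ξ B' : G → ℂ) (Quotient.out C) = if ξ B' ∈ B.1 then 1 else 0 := by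
      rw [← HeightZero.sum_mul_div_eq_sum_centralChar (f := Cfsg.blockCoeff B.1)
        (fun g h => blockCoeff_conj B.1 g h) (Chars.irr_isClassFunction (ξ B'))]
      have := omega_idemC B.1 (ξ B')
      rw [omega_eq_sum] at this
      simp only [idemC, coeff_ofFun] at this
      simp only [mul_div_assoc, this]
    have hiff : ξ B' ∈ B.1 ↔ B = B' := by
      refine ⟨fun h => Subtype.ext (isPBlock_eq_of_mem B.2.1 B'.2.1 h (hξ B')), ?_⟩
      rintro rfl
      exact hξ B
    have hrest : Cfsg.MemLocalIdeal M (∑ j : ι, Cfsg.blockCoeff B.1 (x j) *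
        Cfsg.centralChar (ξ B' : G → ℂ) (x j) - if B = B' then 1 else 0) := by
      rw [show (if B = B' then (1 : ℂ) else 0) = if ξ B' ∈ B.1 then 1 else 0 by simp only [hiff],
        ← hone, ← Finset.sum_sdiff (Finset.subset_univ (Finset.univ.image K)),
        Finset.sum_image (fun a _ b _ h => hKinj h)]
      simp only [hx, sub_add_cancel_right]
      refine memLocalIdeal_neg (memLocalIdeal_sum _ _ fun C hC => ?_)
      refine memLocalIdeal_mul_right ?_ (hωmem _ _)
      by_contra hu
      obtain ⟨i, hi⟩ := hrange C (listed_of_unit hM hD B.2.1 B.2.2 hu)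
      exact (Finset.mem_sdiff.1 hC).2 (Finset.mem_image.2 ⟨i, Finset.mem_univ i, hi⟩)
    simp only [hE, hA, Matrix.of_apply, ← map_mul, ← map_sum]
    rw [show (if B = B' then (1 : Residue M) else 0) = residue M (if B = B' then 1 else 0) by
      split_ifs <;> simp, residue_eq_iff]
    convert hrest using 1
    simp only [AddSubmonoidClass.coe_finsetSum, MulMemClass.coe_mul]
    split_ifs <;> simp
  have hrankAE : (A * E).rank = Fintype.card BD := by
    refine le_antisymm ((Matrix.rank_mul_le_left A E).trans (Matrix.rank_le_card_width A)) ?_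
    have h1 : E * (A * E) * A = 1 := by
      rw [← Matrix.mul_assoc E A E, hEA, Matrix.one_mul, hEA]
    calc Fintype.card BD = (E * (A * E) * A).rank := by rw [h1, Matrix.rank_one]
      _ ≤ (E * (A * E)).rank := Matrix.rank_mul_le_left _ _
      _ ≤ (A * E).rank := Matrix.rank_mul_le_right _ _
  -- the class sizes
  set a := (Nat.card G).factorization p with ha
  set d := (Nat.card D).factorization p with hd
  have hdcard : Nat.card D = p ^ d := by
    obtain ⟨n, hn⟩ := IsPGroup.iff_card.1 hD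
    rw [hd, hn, hpp.factorization_pow, Finsupp.single_eq_same]
  set cl : ι → ℕ := fun j => (Subgroup.centralizer ({x j} : Set G)).index with hcl
  have hclv : ∀ j, cl j ≠ 0 ∧ (cl j).factorization p = a - d := by
    intro j
    refine ⟨Subgroup.index_ne_zero_of_finite, ?_⟩
    have h1 := congrArg (fun n => n.factorization p)
      (Subgroup.card_mul_index (Subgroup.centralizer ({x j} : Set G)))
    simp only [Nat.factorization_mul Nat.card_pos.ne' Subgroup.index_ne_zero_of_finite,
      Finsupp.add_apply] at h1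
    have h2 := (hlist j).2.2.2
    rw [hdcard] at h2
    have h3 : d = (Nat.card (Subgroup.centralizer ({x j} : Set G))).factorization p :=
      Nat.pow_right_injective hpp.two_le h2
    simp only [hcl]
    omega
  set c : ι → ℕ := fun j => cl j / p ^ (a - d) with hc
  have hclc : ∀ j, cl j = p ^ (a - d) * c j ∧ ¬ p ∣ c j := by
    intro j
    obtain ⟨h0, hv⟩ := hclv j
    refine ⟨?_, ?_⟩
    · rw [hc]; simp only; rw [← hv]; exact (Nat.ordProj_mul_ordCompl_eq_self _ _).symm
    · rw [hc]; simp only; rw [← hv]; exact Nat.not_dvd_ordCompl hpp h0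
  -- the pairs
  set W : ι → ι → ℕ := fun i j => Nat.card {yz : G × G // yz.1 ∈ (K i).carrier ∧
    yz.2 ∈ (K j).carrier ∧ yz.2 * yz.1⁻¹ ∈ (S : Subgroup G)} with hW
  have hWeq : ∀ i j, (W i j : ℂ) = (cl j : ℂ) / (Nat.card G : ℂ) *
      ∑ χ : Cfsg.IrrCharacter G, Cfsg.centralChar (χ : G → ℂ) (x i) *
        (sylowSum S (χ : G → ℂ) * (χ : G → ℂ) (x j)⁻¹) := by
    intro i j
    rw [← count_pairs S (x i) (x j), hW]
    congr 1
    refine Nat.card_congr (Equiv.subtypeEquivRight fun yz => ?_)
    simp only [ConjClasses.mem_carrier_iff_mk_eq, ← ConjClasses.mk_eq_mk_iff_isConj, hxK,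
      eq_comm (a := K i), eq_comm (a := K j)]
  choose m hm using fun χ : Cfsg.IrrCharacter G => exists_sylowSum_eq S χ
  set N0 := (S : Subgroup G).index with hN0
  have hN0p : ¬ p ∣ N0 := S.not_dvd_index
  have hS : Nat.card G = Nat.card (S : Subgroup G) * N0 := (Subgroup.card_mul_index _).symm
  have hSc : Nat.card (S : Subgroup G) = p ^ a := S.card_eq_multiplicity
  set V : ι → ι → ℂ := fun i j => (c j : ℂ) * ((N0 : ℂ)⁻¹ *
    ∑ χ : Cfsg.IrrCharacter G, Cfsg.centralChar (χ : G → ℂ) (x i) *
      ((m χ : ℂ) * (χ : G → ℂ) (x j)⁻¹)) with hV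
  have hVmem : ∀ i j, V i j ∈ localRing M := fun i j =>
    mul_mem (natCast_mem_localRing _) (mul_mem (inv_natCast_mem_localRing hM hN0p)
      (sum_mem fun χ _ => mul_mem (hωmem _ _)
        (mul_mem (natCast_mem_localRing _) (isIntegral_mem_localRing (Chars.irr_isIntegral χ _)))))
  have hWV : ∀ i j, (W i j : ℂ) = (p : ℂ) ^ (a - d) * V i j := by
    intro i j
    rw [hWeq, hV]
    simp only [hm, (hclc j).1, Finset.mul_sum]
    refine Finset.sum_congr rfl fun χ _ => ?_
    rw [hS, hSc]
    push_cast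
    have : (p : ℂ) ≠ 0 := Nat.cast_ne_zero.2 hpp.ne_zero
    field_simp
  have hquot : ∀ i j, ((W i j / p ^ (a - d) : ℕ) : ℂ) = V i j := by
    intro i j
    have hp0 : (p : ℂ) ^ (a - d) ≠ 0 := pow_ne_zero _ (Nat.cast_ne_zero.2 hpp.ne_zero)
    have hdvd : p ^ (a - d) ∣ W i j := by
      have h := BrauerFeit.int_pow_dvd_of_div_mem hM (a - d) (W i j : ℤ) (by
        rw [Int.cast_natCast, hWV, mul_div_cancel_left₀ _ hp0]
        exact hVmem i j)
      exact_mod_cast h
    rw [Nat.cast_div hdvd (by rw [Nat.cast_pow]; exact hp0), hWV, Nat.cast_pow,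
      mul_div_cancel_left₀ _ hp0]
  have hcong : ∀ i j, Cfsg.MemLocalIdeal M (V i j - (c j : ℂ) *
      ∑ B : BD, Cfsg.centralChar (ξ B : G → ℂ) (x i) * Cfsg.blockCoeff B.1 (x j)) := by
    intro i j
    rw [hV]
    simp only [← mul_sub]
    refine memLocalIdeal_mul_left (mem_localRing.1 (natCast_mem_localRing _)) ?_
    have hinv : ∀ B : BD, Cfsg.MemLocalIdeal M ((N0 : ℂ)⁻¹ *
        (∑ χ ∈ Finset.univ.filter (· ∈ B.1), Cfsg.centralChar (χ : G → ℂ) (x i) *
          ((m χ : ℂ) * (χ : G → ℂ) (x j)⁻¹)) -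
        Cfsg.centralChar (ξ B : G → ℂ) (x i) * Cfsg.blockCoeff B.1 (x j)) := by
      intro B
      have h1 : ∑ χ ∈ Finset.univ.filter (· ∈ B.1), (m χ : ℂ) * (χ : G → ℂ) (x j)⁻¹ =
          (N0 : ℂ) * ∑ n : D, Cfsg.blockCoeff B.1 (x j * (n : G)) := by
        have h2 := sum_sylowSum_mul hM hD B.2.1 B.2.2 S (x j)⁻¹
        simp only [hm, inv_inv, hS, Nat.cast_mul, mul_assoc] at h2
        rw [← Finset.mul_sum] at h2
        exact mul_left_cancel₀ Chars.natCard_ne_zero h2
      have hN : (N0 : ℂ) ≠ 0 := Nat.cast_ne_zero.2 Subgroup.index_ne_zero_of_finite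
      have h3 : ∑ n : D, Cfsg.blockCoeff B.1 (x j * (n : G)) =
          (N0 : ℂ)⁻¹ * ∑ χ ∈ Finset.univ.filter (· ∈ B.1), (m χ : ℂ) * (χ : G → ℂ) (x j)⁻¹ := by
        rw [h1, inv_mul_cancel_left₀ hN]
      have h4 := sum_coset_congr hM hD B.2.1 (hlist j).1
        (le_centralizer_singleton_iff.1 (hlist j).2.2.1)
      have h5 : Cfsg.MemLocalIdeal M (∑ χ ∈ Finset.univ.filter (· ∈ B.1),
          (Cfsg.centralChar (χ : G → ℂ) (x i) - Cfsg.centralChar (ξ B : G → ℂ) (x i)) *
            ((m χ : ℂ) * (χ : G → ℂ) (x j)⁻¹)) :=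
        memLocalIdeal_sum _ _ fun χ hχ => memLocalIdeal_mul_right
          (sameBlock_of_mem B.2.1 (Finset.mem_filter.1 hχ).2 (hξ B) _)
          (mul_mem (natCast_mem_localRing _) (isIntegral_mem_localRing (Chars.irr_isIntegral χ _)))
      have h6 := memLocalIdeal_add
        (memLocalIdeal_mul_left (mem_localRing.1 (inv_natCast_mem_localRing hM hN0p)) h5)
        (memLocalIdeal_mul_left (mem_localRing.1 (hωmem (ξ B) (x i))) h4)
      convert h6 using 1
      rw [h3]
      simp only [sub_mul, Finset.sum_sub_distrib, ← Finset.mul_sum]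
      ring
    have hout : Cfsg.MemLocalIdeal M ((N0 : ℂ)⁻¹ * (∑ χ : Cfsg.IrrCharacter G,
        Cfsg.centralChar (χ : G → ℂ) (x i) * ((m χ : ℂ) * (χ : G → ℂ) (x j)⁻¹)) -
        ∑ B : BD, (N0 : ℂ)⁻¹ * (∑ χ ∈ Finset.univ.filter (· ∈ B.1),
          Cfsg.centralChar (χ : G → ℂ) (x i) * ((m χ : ℂ) * (χ : G → ℂ) (x j)⁻¹))) := by
      rw [← Finset.mul_sum, ← mul_sub]
      refine memLocalIdeal_mul_left (mem_localRing.1 (inv_natCast_mem_localRing hM hN0p)) ?_
      simp only [Finset.sum_filter]
      rw [Finset.sum_comm, ← Finset.sum_sub_distrib]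
      refine memLocalIdeal_sum _ _ fun χ _ => ?_
      by_cases hin : Cfsg.IsDefectGroup p M (Cfsg.blockOf M (χ : G → ℂ)) D
      · rw [Finset.sum_eq_single (⟨_, isPBlock_blockOf χ, hin⟩ : BD), if_pos (mem_blockOf_self χ),
          sub_self]
        · exact memLocalIdeal_zero
        · intro B _ hne
          rw [if_neg]
          exact fun h => hne (Subtype.ext (eq_blockOf_of_mem B.2.1 h))
        · intro h; exact absurd (Finset.mem_univ _) h
      · rw [Finset.sum_eq_zero fun (B : BD) _ => if_neg fun h => hin (eq_blockOf_of_mem B.2.1 h ▸ B.2.2),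
          sub_zero]
        refine memLocalIdeal_mul_right ?_
          (mul_mem (natCast_mem_localRing _) (isIntegral_mem_localRing (Chars.irr_isIntegral χ _)))
        by_contra hu
        exact hin (defect_of_listed hM hD (hlist i) hu)
    have h7 := memLocalIdeal_add hout (memLocalIdeal_sum Finset.univ _ fun B _ => hinv B)
    rw [Finset.sum_sub_distrib] at h7
    convert h7 using 1
    ring
  -- compare with the factorisation over the residue field
  set f : ZMod p →+* Residue M := ZMod.castHom (dvd_refl p) (Residue M) with hf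
  set Ω : Matrix ι ι (ZMod p) := Matrix.of fun i j => ((W i j / p ^ (a - d) : ℕ) : ZMod p) with hΩ
  have hmap : Ω.map f = A * E * Matrix.diagonal (fun j => residue M (c j : localRing M)) := by
    ext i j
    rw [Matrix.mul_diagonal, Matrix.mul_apply]
    simp only [hΩ, hA, hE, Matrix.map_apply, Matrix.of_apply, ← map_mul, ← map_sum, map_natCast]
    rw [← map_natCast (residue M) (W i j / p ^ (a - d)), ← map_natCast (residue M) (c j),
      ← map_mul, residue_eq_iff]
    convert hcong i j using 1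
    simp only [AddSubmonoidClass.coe_finsetSum, MulMemClass.coe_mul, SubringClass.coe_natCast,
      hquot]
    ring
  have hdet : IsUnit (Matrix.diagonal (fun j => residue M (c j : localRing M))).det := by
    rw [Matrix.det_diagonal, isUnit_iff_ne_zero, Finset.prod_ne_zero_iff]
    intro j _ h
    exact (hclc j).2 ((residue_natCast_eq_zero_iff hM (c j)).1 h)
  show Nat.card BD = Ω.rank
  rw [← rank_map_ringHom f Ω, hmap, Matrix.rank_mul_eq_left_of_isUnit_det _ _ hdet, hrankAE,
    Nat.card_eq_fintype_card]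

end Cfsg.Agent.S4443
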