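import Cfsg.Statements.S4444
import Cfsg.Agent.Lib.Glauberman.PGroup

set_option autoImplicit false
open Cfsg Cfsg.Agent.Lib Cfsg.Agent.Lib.Glauberman

namespace Cfsg.Agent.S4444

/-- The Glauberman correspondence for a p-group of operators. Inside a finite group Γ let S normalise G with the orders of G and S coprime, S a p-group, and let C = G ⊓ C(S) be the fixed points. Call an irreducible character χ of G S-invariant when χ(s g s⁻¹) = χ(g) for s ∈ S, g ∈ G. Then: (i) for every S-invariant χ there is exactly one irreducible character β of C whose multiplicity [χ_C, β] in the restriction of χ is not divisible by p; (ii) that multiplicity is ≡ 1 or ≡ −1 (mod p); (iii) distinct S-invariant χ give distinct β; (iv) every irreducible character of C arises in this way. So χ ↦ β is a bijection from the S-invariant irreducible characters of G onto the irreducible characters of C. -/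
theorem result {Γ : Type*} [Group Γ] [Fintype Γ] (G S : Subgroup Γ) [Fintype G] (hnorm : ∀ s ∈ S, ∀ g ∈ G, s * g * s⁻¹ ∈ G) (hcop : (Nat.card G).Coprime (Nat.card S)) (p : ℕ) (hp : p.Prime) (hS : IsPGroup p S) (C : Subgroup Γ) [Fintype C] (hC : C = G ⊓ Subgroup.centralizer (S : Set Γ)) (hCG : C ≤ G) : (∀ χ : Cfsg.IrrCharacter G, (∀ s ∈ S, ∀ g g' : G, (g' : Γ) = s * g * s⁻¹ → (χ : G → ℂ) g' = (χ : G → ℂ) g) → ∃! β : Cfsg.IrrCharacter C, ∃ m : ℕ, Cfsg.classInner (fun c : C => (χ : G → ℂ) ⟨c, hCG c.2⟩) (β : C → ℂ) = (m : ℂ) ∧ ¬ p ∣ m) ∧ (∀ χ : Cfsg.IrrCharacter G, (∀ s ∈ S, ∀ g g' : G, (g' : Γ) = s * g * s⁻¹ → (χ : G → ℂ) g' = (χ : G → ℂ) g) → ∀ β : Cfsg.IrrCharacter C, ∀ m : ℕ, Cfsg.classInner (fun c : C => (χ : G → ℂ) ⟨c, hCG c.2⟩) (β : C → ℂ) = (m : ℂ) → ¬ p ∣ m → ((m : ℤ) ≡ 1 [ZMOD p] ∨ (m : ℤ) ≡ -1 [ZMOD p])) ∧ (∀ χ χ' : Cfsg.IrrCharacter G, (∀ s ∈ S, ∀ g g' : G, (g' : Γ) = s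 * g * s⁻¹ → (χ : G → ℂ) g' = (χ : G → ℂ) g) → (∀ s ∈ S, ∀ g g' : G, (g' : Γ) = s * g * s⁻¹ → (χ' : G → ℂ) g' = (χ' : G → ℂ) g) → ∀ β : Cfsg.IrrCharacter C, ∀ m m' : ℕ, Cfsg.classInner (fun c : C => (χ : G → ℂ) ⟨c, hCG c.2⟩) (β : C → ℂ) = (m : ℂ) → ¬ p ∣ m → Cfsg.classInner (fun c : C => (χ' : G → ℂ) ⟨c, hCG c.2⟩) (β : C → ℂ) = (m' : ℂ) → ¬ p ∣ m' → χ = χ') ∧ (∀ β : Cfsg.IrrCharacter C, ∃ χ : Cfsg.IrrCharacter G, (∀ s ∈ S, ∀ g g' : G, (g' : Γ) = s * g * s⁻¹ → (χ : G → ℂ) g' = (χ : G → ℂ) g) ∧ ∃ m : ℕ, Cfsg.classInner (fun c : C => (χ : G → ℂ) ⟨c, hCG c.2⟩) (β : C → ℂ) = (m : ℂ) ∧ ¬ p ∣ m) := by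
  classical
  haveI : Fact p.Prime := ⟨hp⟩
  have hSG : ∀ s ∈ S, Normalises s G := fun s hs => normalises_of_subgroup hnorm hs
  obtain ⟨f, hf⟩ : ∃ f, IsPCorr p S G C hCG f := by
    by_cases hbot : S = ⊥
    · subst hbot
      have hc : Subgroup.centralizer ((⊥ : Subgroup Γ) : Set Γ) = ⊤ :=
        Subgroup.centralizer_eq_top_iff_subset.2 (by simp)
      rw [hc, inf_top_eq] at hC
      subst hC
      refine ⟨id, ⟨Function.injective_id, fun β t ht g g' hg => ?_, fun χ _ => ⟨χ, rfl⟩⟩,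
        fun β => ?_⟩
      · rw [Subgroup.mem_bot] at ht
        have : g' = g := Subtype.ext (by rw [hg, ht]; simp)
        rw [this]
      · have hr : resSub hCG ((id β : IrrCharacter C) : C → ℂ) = (β : C → ℂ) := rfl
        rw [hr]
        refine ⟨Or.inl ?_, fun γ hne => ?_⟩
        · rw [charMult_irr, if_pos rfl]; rfl
        · rw [charMult_irr, if_neg (Ne.symm hne)]; exact dvd_zero p
    · refine exists_pCorr p hS hCG hSG (fun h => hp.not_dvd_one ?_) hC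
      obtain ⟨e, he⟩ := IsPGroup.iff_card.1 hS
      have he0 : e ≠ 0 := by
        rintro rfl
        exact hbot (Subgroup.card_eq_one.1 (by simpa using he))
      exact hcop ▸ Nat.dvd_gcd h (he ▸ dvd_pow_self p he0)
  have key : ∀ (χ : Cfsg.IrrCharacter G) (β : Cfsg.IrrCharacter C) (m : ℕ),
      Cfsg.classInner (fun c : C => (χ : G → ℂ) ⟨c, hCG c.2⟩) (β : C → ℂ) = (m : ℂ) ↔
        charMult (resSub hCG (χ : G → ℂ)) (β : C → ℂ) = m := fun χ β m => by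
    show classInner (resSub hCG (χ : G → ℂ)) (β : C → ℂ) = (m : ℂ) ↔ _
    rw [charMult_spec (isCharacter_resSub hCG (Chars.irr_isCharacter χ)) (Chars.irr_isCharacter β)]
    exact Nat.cast_inj
  refine ⟨fun χ hχ => ?_, fun χ hχ β m hm hpm => ?_, fun χ χ' hχ hχ' β m m' hm hpm hm' hpm' => ?_,
    fun β => ?_⟩
  · obtain ⟨β, rfl⟩ := hf.surj χ hχ
    refine ⟨β, ⟨_, (key _ _ _).2 rfl, hf.not_dvd β⟩, ?_⟩
    rintro γ ⟨m, hm, hpm⟩
    exact hf.eq_of_not_dvd ((key _ _ _).1 hm ▸ hpm)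
  · obtain ⟨β₀, rfl⟩ := hf.surj χ hχ
    obtain rfl := (key _ _ _).1 hm
    obtain rfl := hf.eq_of_not_dvd hpm
    exact (hf.cong β).1
  · obtain ⟨β₀, rfl⟩ := hf.surj χ hχ
    obtain ⟨β₁, rfl⟩ := hf.surj χ' hχ'
    obtain rfl := (key _ _ _).1 hm
    obtain rfl := (key _ _ _).1 hm'
    rw [← hf.eq_of_not_dvd hpm, ← hf.eq_of_not_dvd hpm']
  · exact ⟨f β, hf.inv β, _, (key _ _ _).2 rfl, hf.not_dvd β⟩

end Cfsg.Agent.S4444
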