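import Cfsg.Statements.S4446
import Cfsg.Agent.Lib.Glauberman.CyclicCorr

set_option autoImplicit false
open Cfsg Cfsg.Agent.Lib Cfsg.Agent.Lib.Glauberman

namespace Cfsg.Agent.S4446

/-- Let the finite group Γ be generated by a normal subgroup G and a cyclic subgroup S of coprime orders, C = G ⊓ C(S), and let χ be an S-invariant irreducible character of G with canonical extension χ̂ to Γ (the extension whose determinantal order is coprime to the order of S). Then there are exactly one irreducible character β of C and one sign ε such that χ̂(c s) = ε β(c) for every c ∈ C and every generator s of S; this β is a constituent of the restriction of χ to C; distinct S-invariant χ give distinct β; and every irreducible character of C arises in this way. -/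
theorem result {Γ : Type*} [Group Γ] [Fintype Γ] (G S : Subgroup Γ) [Fintype G] (hnorm : ∀ s ∈ S, ∀ g ∈ G, s * g * s⁻¹ ∈ G) (hcop : (Nat.card G).Coprime (Nat.card S)) (htop : G ⊔ S = ⊤) (hcyc : IsCyclic S) (C : Subgroup Γ) [Fintype C] (hC : C = G ⊓ Subgroup.centralizer (S : Set Γ)) (hCG : C ≤ G) : (∀ (χ : Cfsg.IrrCharacter G) (χh : Cfsg.IrrCharacter Γ), (∀ s ∈ S, ∀ g g' : G, (g' : Γ) = s * g * s⁻¹ → (χ : G → ℂ) g' = (χ : G → ℂ) g) → (∀ g : G, (χh : Γ → ℂ) g = (χ : G → ℂ) g) → (Cfsg.detOrder (χh : Γ → ℂ)).Coprime (Nat.card S) → (∃! βε : Cfsg.IrrCharacter C × ℤ, (βε.2 = 1 ∨ βε.2 = -1) ∧ ∀ c : C, ∀ s : Γ, Subgroup.zpowers s = S → (χh : Γ → ℂ) ((c : Γ) * s) = (βε.2 : ℂ) * (βε.1 : C → ℂ) c) ∧ ∀ β : Cfsg.IrrCharacter C, ∀ ε : ℤ, (ε = 1 ∨ ε = -1) → (∀ c : C, ∀ s : Γ, Subgroup.zpowers s = S → (χh : Γ → ℂ) ((c : Γ) * s) = (ε : ℂ) * (β : C → ℂ) c) → Cfsg.classInner (fun c : C => (χ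 : G → ℂ) ⟨c, hCG c.2⟩) (β : C → ℂ) ≠ 0) ∧ (∀ (χ χ' : Cfsg.IrrCharacter G) (χh χh' : Cfsg.IrrCharacter Γ), (∀ s ∈ S, ∀ g g' : G, (g' : Γ) = s * g * s⁻¹ → (χ : G → ℂ) g' = (χ : G → ℂ) g) → (∀ s ∈ S, ∀ g g' : G, (g' : Γ) = s * g * s⁻¹ → (χ' : G → ℂ) g' = (χ' : G → ℂ) g) → (∀ g : G, (χh : Γ → ℂ) g = (χ : G → ℂ) g) → (∀ g : G, (χh' : Γ → ℂ) g = (χ' : G → ℂ) g) → (Cfsg.detOrder (χh : Γ → ℂ)).Coprime (Nat.card S) → (Cfsg.detOrder (χh' : Γ → ℂ)).Coprime (Nat.card S) → ∀ β : Cfsg.IrrCharacter C, ∀ ε ε' : ℤ, (ε = 1 ∨ ε = -1) → (ε' = 1 ∨ ε' = -1) → (∀ c : C, ∀ s : Γ, Subgroup.zpowers s = S → (χh : Γ → ℂ) ((c : Γ) * s) = (ε : ℂ) * (β : C → ℂ) c) → (∀ c : C, ∀ s : Γ, Subgroup.zpowers s = S → (χh' : Γ → ℂ) ((c : Γ) * s) = (ε' : ℂ) * (β : C → ℂ) c) → χ = χ') ∧ (∀ β : Cfsg.IrrCharacter C, ∃ (χ : Cfsg.IrrCharacter G) (χh : Cfsg.IrrCharacter Γ) (ε : ℤ), (∀ s ∈ S, ∀ g g' : G, (g' : Γ) = s *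 g * s⁻¹ → (χ : G → ℂ) g' = (χ : G → ℂ) g) ∧ (∀ g : G, (χh : Γ → ℂ) g = (χ : G → ℂ) g) ∧ (Cfsg.detOrder (χh : Γ → ℂ)).Coprime (Nat.card S) ∧ (ε = 1 ∨ ε = -1) ∧ ∀ c : C, ∀ s : Γ, Subgroup.zpowers s = S → (χh : Γ → ℂ) ((c : Γ) * s) = (ε : ℂ) * (β : C → ℂ) c) := by
  classical
  have h := cycSetting hnorm hcop htop hcyc hC
  haveI := h.normal
  obtain ⟨s, hs⟩ := (Subgroup.isCyclic_iff_exists_zpowers_eq_top S).1 hcyc
  have hsS : s ∈ S := hs ▸ Subgroup.mem_zpowers s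
  have hsC : C = G ⊓ Subgroup.centralizer ({s} : Set Γ) := by
    rw [h.cent, ← hs, Subgroup.zpowers_eq_closure, Subgroup.centralizer_closure]
  have hsol : Group.IsSolvable S := by
    haveI := h.isMulComm
    exact Group.isSolvable_of_comm fun a b => IsMulCommutative.is_comm.comm a b
  have hsign : ∀ ε : ℤ, (ε = 1 ∨ ε = -1) → ε ≠ 0 := fun ε hε => by omega
  have hinner : ∀ (χh : Cfsg.IrrCharacter Γ) (β : Cfsg.IrrCharacter C) (ε : ℤ),
      (∀ c : C, ∀ t : Γ, Subgroup.zpowers t = S → (χh : Γ → ℂ) ((c : Γ) * t) =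
        (ε : ℂ) * (β : C → ℂ) c) →
      (fun c : C => (χh : Γ → ℂ) ((c : Γ) * s)) = (ε : ℂ) • (β : C → ℂ) :=
    fun χh β ε hb => funext fun c => hb c s hs
  have inj : ∀ (χ χ' : Cfsg.IrrCharacter G) (χh χh' : Cfsg.IrrCharacter Γ),
      (∀ g : G, (χh : Γ → ℂ) g = (χ : G → ℂ) g) → (∀ g : G, (χh' : Γ → ℂ) g = (χ' : G → ℂ) g) →
      (Cfsg.detOrder (χh : Γ → ℂ)).Coprime (Nat.card S) →
      (Cfsg.detOrder (χh' : Γ → ℂ)).Coprime (Nat.card S) →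
      ∀ (β : Cfsg.IrrCharacter C) (ε ε' : ℤ), (ε = 1 ∨ ε = -1) → (ε' = 1 ∨ ε' = -1) →
      (∀ c : C, ∀ t : Γ, Subgroup.zpowers t = S → (χh : Γ → ℂ) ((c : Γ) * t) =
        (ε : ℂ) * (β : C → ℂ) c) →
      (∀ c : C, ∀ t : Γ, Subgroup.zpowers t = S → (χh' : Γ → ℂ) ((c : Γ) * t) =
        (ε' : ℂ) * (β : C → ℂ) c) → χ = χ' := by
    intro χ χ' χh χh' h1 h1' h2 h2' β ε ε' he he' hb hb'
    have e := coset_norm (h.order_cop hsS) hsC h1 h1' (fun e => by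
      subst e
      exact canonical_unique h.index_cop h1' h1 (h.index_eq.symm ▸ h2') (h.index_eq.symm ▸ h2))
    rw [hinner χh β ε hb, hinner χh' β ε' hb', Chars.classInner_smul_left,
      Chars.classInner_smul_right, Chars.classInner_irr_self] at e
    by_contra hne
    rw [if_neg hne] at e
    simp [hsign ε he, hsign ε' he'] at e
  refine ⟨fun χ χh hinv hext hd => ?_, fun χ χ' χh χh' _ _ h1 h1' h2 h2' β ε ε' he he' hb hb' =>
    inj χ χ' χh χh' h1 h1' h2 h2' β ε ε' he he' hb hb', ?_⟩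
  · obtain ⟨β, ε, hε, hβ⟩ := h.exists_beta hext hd hs
    refine ⟨⟨(β, ε), ⟨hε, hβ⟩, ?_⟩, fun β' ε' hε' hβ' =>
      h.beta_constituent hext hd hCG hsS β' (hsign ε' hε') fun c => hβ' c s hs⟩
    rintro ⟨β', ε'⟩ ⟨hε', hβ'⟩
    have e := (hinner χh β' ε' hβ').symm.trans (hinner χh β ε hβ)
    have e2 := congrArg (fun f => Cfsg.classInner f (β : C → ℂ)) e
    simp only [Chars.classInner_smul_left, Chars.classInner_irr_self, mul_one] at e2
    by_cases hb : β' = β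
    · subst hb
      rw [Chars.classInner_irr_self, mul_one] at e2
      have : ε' = ε := by exact_mod_cast e2
      rw [this]
    · rw [Chars.classInner_irr_of_ne hb, mul_zero] at e2
      exact absurd (by exact_mod_cast e2.symm) (hsign ε hε)
  · intro β₀
    have hex : ∀ χ : {χ : Cfsg.IrrCharacter G // IsInv S (χ : G → ℂ)},
        ∃ (χh : Cfsg.IrrCharacter Γ) (β : Cfsg.IrrCharacter C) (ε : ℤ),
          (∀ g : G, (χh : Γ → ℂ) g = (χ.1 : G → ℂ) g) ∧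
          (Cfsg.detOrder (χh : Γ → ℂ)).Coprime (Nat.card S) ∧ (ε = 1 ∨ ε = -1) ∧
          ∀ (c : C) (t : Γ), Subgroup.zpowers t = S →
            (χh : Γ → ℂ) ((c : Γ) * t) = (ε : ℂ) * (β : C → ℂ) c := fun χ => by
      obtain ⟨χh, h1, h2⟩ := exists_canonical h.index_cop χ.1
        (h.inv_all (Chars.irr_isClassFunction χ.1) χ.2)
      rw [h.index_eq] at h2
      obtain ⟨β, ε, hε, hβ⟩ := h.exists_beta h1 h2 hs
      exact ⟨χh, β, ε, h1, h2, hε, hβ⟩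
    choose χh β ε h1 h2 hε hβ using hex
    have hinj : Function.Injective β := fun a b e => Subtype.ext (inj a.1 b.1 (χh a) (χh b)
      (h1 a) (h1 b) (h2 a) (h2 b) (β a) (ε a) (ε b) (hε a) (hε b) (hβ a) (fun c t ht => by
        rw [e]; exact hβ b c t ht))
    have hbij := hinj.bijective_of_nat_card_le
      (card_invariant_eq hsol (fun t ht => normalises_of_subgroup hnorm ht) hcop hC).ge
    obtain ⟨χ, rfl⟩ := hbij.2 β₀
    exact ⟨χ.1, χh χ, ε χ, χ.2, h1 χ, h2 χ, hε χ, hβ χ⟩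

end Cfsg.Agent.S4446
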