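import Cfsg.Statements.S4449
import Cfsg.Agent.Lib.Glauberman.Solvable
import Cfsg.Agent.Lib.Glauberman.Bridge

set_option autoImplicit false
open Cfsg Cfsg.Agent.Lib Cfsg.Agent.Lib.Glauberman

namespace Cfsg.Agent.S4449

/-- Inside a finite group Γ let the solvable subgroup S normalise G with the orders of G and S coprime, and let N be a normal subgroup of G normalised by S. Then for every S-invariant irreducible character ϑ of N, the induced character ϑ^G has an S-invariant irreducible constituent. -/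
theorem result {Γ : Type*} [Group Γ] [Fintype Γ] (G S N : Subgroup Γ) [Fintype G] [Fintype N] (hnorm : ∀ s ∈ S, ∀ g ∈ G, s * g * s⁻¹ ∈ G) (hNG : N ≤ G) (hNnormal : ∀ g ∈ G, ∀ n ∈ N, g * n * g⁻¹ ∈ N) (hNS : ∀ s ∈ S, ∀ n ∈ N, s * n * s⁻¹ ∈ N) (hcop : (Nat.card G).Coprime (Nat.card S)) (hsolv : Group.IsSolvable S) (θ : Cfsg.IrrCharacter N) (hinv : (∀ s ∈ S, ∀ g g' : N, (g' : Γ) = s * g * s⁻¹ → (θ : N → ℂ) g' = (θ : N → ℂ) g)) : ∃ χ : Cfsg.IrrCharacter G, Cfsg.classInner (fun n : N => (χ : G → ℂ) ⟨n, hNG n.2⟩) (θ : N → ℂ) ≠ 0 ∧ (∀ s ∈ S, ∀ g g' : G, (g' : Γ) = s * g * s⁻¹ → (χ : G → ℂ) g' = (χ : G → ℂ) g) := by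
  obtain ⟨f, f', hf, hf', -, -, hcomp⟩ := exists_corr_pair S hsolv G N _ _ hNG
    (inf_le_inf_right _ hNG) hNnormal (fun s hs => normalises_of_subgroup hnorm hs)
    (fun s hs => normalises_of_subgroup hNS hs) hcop rfl rfl
  obtain ⟨α, rfl⟩ := hf'.surj θ hinv
  obtain ⟨β, hβ⟩ := exists_above (inf_le_inf_right _ hNG) α
  refine ⟨f β, fun h => hcomp β α hβ ?_, hf.inv β⟩
  change classInner (resSub hNG (f β : G → ℂ)) (f' α : N → ℂ) = 0 at h
  rw [charMult_spec (isCharacter_resSub hNG (Chars.irr_isCharacter _)) (Chars.irr_isCharacter _)] at h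
  exact_mod_cast h

end Cfsg.Agent.S4449
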