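import Cfsg.Statements.S4451
import Cfsg.Agent.Lib.Glauberman.CyclicCorr
import Cfsg.Agent.Lib.Codegree

set_option autoImplicit false
open Cfsg Cfsg.Agent.Lib Cfsg.Agent.Lib.Glauberman

namespace Cfsg.Agent.S4451

/-- Let the finite group Γ be generated by a normal subgroup G and a cyclic subgroup S of coprime orders such that every non-identity element of S has the same centraliser C = G ⊓ C(S) in G. Let χ be an S-invariant irreducible character of G, χ̂ its canonical extension to Γ (determinantal order coprime to the order of S), and β the irreducible character of C with χ̂(c s) = ε₀ β(c) for c ∈ C and generators s of S (ε₀ = ±1). Then there are a sign ε = ±1, which may differ from ε₀, and a linear character μ of S with μ² = 1, such that: (a) χ̂(c x) = ε β(c) μ(x) for all c ∈ C and all x ∈ S other than 1; (b) the restriction of χ to C equals |S|·ϑ + ε β for some character ϑ of C or ϑ = 0; (c) |S| divides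 χ(1) − ε β(1). -/
theorem result {Γ : Type*} [Group Γ] [Fintype Γ] (G S : Subgroup Γ) [Fintype G] (hnorm : ∀ s ∈ S, ∀ g ∈ G, s * g * s⁻¹ ∈ G) (hcop : (Nat.card G).Coprime (Nat.card S)) (htop : G ⊔ S = ⊤) (hcyc : IsCyclic S) (C : Subgroup Γ) [Fintype C] (hC : C = G ⊓ Subgroup.centralizer (S : Set Γ)) (hCG : C ≤ G) (hfpf : ∀ x ∈ S, x ≠ 1 → G ⊓ Subgroup.centralizer ({x} : Set Γ) = C) (χ : Cfsg.IrrCharacter G) (hinv : (∀ s ∈ S, ∀ g g' : G, (g' : Γ) = s * g * s⁻¹ → (χ : G → ℂ) g' = (χ : G → ℂ) g)) (χh : Cfsg.IrrCharacter Γ) (hext : (∀ g : G, (χh : Γ → ℂ) g = (χ : G → ℂ) g)) (hdet : (Cfsg.detOrder (χh : Γ → ℂ)).Coprime (Nat.card S)) (β : Cfsg.IrrCharacter C) (ε₀ : ℤ) (hε₀ : ε₀ = 1 ∨ ε₀ = -1) (hβ : ∀ c : C, ∀ s : Γ, Subgroup.zpowers s = S → (χh : Γ → ℂ) ((c : Γ) * s) = (ε₀ : ℂ) * (β : C → ℂ) c) : ∃ ε : ℤ, (ε = 1 ∨ ε = -1) ∧ (∃ μ : S → ℂ, Cfsg.IsCharacter S μ ∧ μ 1 = 1 ∧ (∀ x : S, μ x * μ x = 1) ∧ ∀ c : C, ∀ x : S,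 x ≠ 1 → (χh : Γ → ℂ) ((c : Γ) * x) = (ε : ℂ) * (β : C → ℂ) c * μ x) ∧ (∃ ϑ : C → ℂ, Cfsg.IsCharacter C ϑ ∧ (fun c : C => (χ : G → ℂ) ⟨c, hCG c.2⟩) = fun c => (Nat.card S : ℂ) * ϑ c + (ε : ℂ) * (β : C → ℂ) c) ∧ (Nat.card S : ℤ) ∣ (Cfsg.charDegree (χ : G → ℂ) : ℤ) - ε * (Cfsg.charDegree (β : C → ℂ) : ℤ) := by
  classical
  have h := cycSetting hnorm hcop htop hcyc hC
  haveI := h.normal
  haveI := h.isMulComm
  obtain ⟨s, hs⟩ := (Subgroup.isCyclic_iff_exists_zpowers_eq_top S).1 hcyc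
  have hsS : s ∈ S := hs ▸ Subgroup.mem_zpowers s
  -- it suffices to find `ε`, `μ` and the multiplicities
  suffices key : ∃ (ε : ℤ) (μ : S →* ℂˣ) (q : Cfsg.IrrCharacter C → ℕ), (ε = 1 ∨ ε = -1) ∧
      (∀ x : S, (μ x : ℂ) * μ x = 1) ∧
      (∀ c : C, ∀ x : S, x ≠ 1 →
        (χh : Γ → ℂ) ((c : Γ) * x) = (ε : ℂ) * (β : C → ℂ) c * (μ x : ℂ)) ∧
      ∀ c : C, (χ : G → ℂ) ⟨c, hCG c.2⟩ =
        (Nat.card S : ℂ) * (∑ γ, (q γ : ℂ) • (γ : C → ℂ)) c + (ε : ℂ) * (β : C → ℂ) c by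
    obtain ⟨ε, μ, q, hε, hμ, hval, hres⟩ := key
    set ϑ : C → ℂ := ∑ γ : Cfsg.IrrCharacter C, (q γ : ℂ) • (γ : C → ℂ) with hϑ
    have hϑc : Cfsg.IsCharacter C ϑ := Chars.isCharacter_of_isClassFunction_of_nat
      (Chars.isClassFunction_sum _ fun γ _ => Chars.isClassFunction_smul _ (Chars.irr_isClassFunction γ))
      fun γ => ⟨q γ, Chars.classInner_sum_smul_irr _ γ⟩
    refine ⟨ε, hε, ⟨fun x => (μ x : ℂ), Chars.isCharacter_hom μ, by show ((μ 1 : ℂˣ) : ℂ) = 1; simp,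
      hμ, hval⟩, ⟨ϑ, hϑc, funext hres⟩, ?_⟩
    obtain ⟨a, ha⟩ : ∃ a : ℕ, (χ : G → ℂ) 1 = a := by
      obtain ⟨a, _, ha, -⟩ := Chars.irr_degree_dvd_card χ
      exact ⟨a, ha⟩
    obtain ⟨b, hb⟩ : ∃ b : ℕ, (β : C → ℂ) 1 = b := by
      obtain ⟨b, _, hb, -⟩ := Chars.irr_degree_dvd_card β
      exact ⟨b, hb⟩
    obtain ⟨d, hd⟩ : ∃ d : ℕ, ϑ 1 = d := by
      obtain ⟨d, ρ, hρ⟩ := hϑc
      exact ⟨d, by rw [← hρ, Representation.char_one]; simp⟩
    have e := hres 1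
    rw [show (⟨((1 : C) : Γ), hCG (1 : C).2⟩ : G) = 1 from rfl, ha, hb, hd] at e
    rw [Codegree.charDegree_eq ha, Codegree.charDegree_eq hb]
    refine ⟨(d : ℤ), ?_⟩
    have e' : (a : ℤ) = (Nat.card S : ℤ) * d + ε * b := by exact_mod_cast e
    linarith
  by_cases hS1 : s = 1
  · have hbot : S = ⊥ := by rw [← hs, hS1, Subgroup.zpowers_one_eq_bot]
    have hsub : ∀ x : S, x = 1 := fun x => Subtype.ext (by
      simpa [hbot] using x.2)
    refine ⟨ε₀, 1, fun _ => 0, hε₀, fun x => by simp, fun c x hx => absurd (hsub x) hx, fun c => ?_⟩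
    have e := hβ c s hs
    rw [hS1, mul_one] at e
    rw [← hext ⟨c, hCG c.2⟩, e]
    simp
  haveI : Fintype S := Fintype.ofFinite S
  haveI : Finite (S →* ℂˣ) := Finite.of_injective _ Chars.linIrr_injective
  haveI : Fintype (S →* ℂˣ) := Fintype.ofFinite _
  choose k hk using fun γ => exists_fourier h.comm (Chars.irr_isCharacter χh) γ
  set n := Nat.card S with hn
  have hnL : Fintype.card (S →* ℂˣ) = n := by
    have e := sum_hom_apply (1 : S)
    simp only [map_one, Units.val_one, Finset.sum_const, Finset.card_univ, nsmul_eq_mul, mul_one,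
      if_true] at e
    exact_mod_cast e
  have hcoef1 : ∀ γ : Cfsg.IrrCharacter C,
      coef (χh : Γ → ℂ) (γ : C → ℂ) (1 : S) = ((∑ l, k γ l : ℕ) : ℂ) := fun γ => by
    rw [hk]; simp
  -- Plancherel on `S`
  have hplanch : ∀ γ : Cfsg.IrrCharacter C,
      ∑ x : S, coef (χh : Γ → ℂ) (γ : C → ℂ) x * starRingEnd ℂ (coef (χh : Γ → ℂ) (γ : C → ℂ) x) =
        ((n * ∑ l, k γ l ^ 2 : ℕ) : ℂ) := by
    intro γ
    have e : Cfsg.classInner (∑ l : S →* ℂˣ, (k γ l : ℂ) • (Chars.linIrr l : S → ℂ))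
        (∑ l : S →* ℂˣ, (k γ l : ℂ) • (Chars.linIrr l : S → ℂ)) = ((∑ l, k γ l ^ 2 : ℕ) : ℂ) := by
      rw [Chars.classInner_sum_left]
      push_cast
      refine Finset.sum_congr rfl fun l _ => ?_
      rw [Chars.classInner_smul_left, Chars.classInner_sum_right, Finset.sum_eq_single l
        (fun l' _ hne => by rw [Chars.classInner_smul_right, Chars.classInner_irr_of_ne
          (fun e => hne (Chars.linIrr_injective e).symm), mul_zero])
        (fun h' => absurd (Finset.mem_univ _) h'), Chars.classInner_smul_right,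
        Chars.classInner_irr_self, map_natCast]
      ring
    have hfun : (∑ l : S →* ℂˣ, (k γ l : ℂ) • (Chars.linIrr l : S → ℂ)) =
        fun x : S => coef (χh : Γ → ℂ) (γ : C → ℂ) x := funext fun x => by
      rw [hk, Finset.sum_apply]; rfl
    rw [hfun] at e
    unfold Cfsg.classInner at e
    have hn0 : (n : ℂ) ≠ 0 := Nat.cast_ne_zero.2 Nat.card_pos.ne'
    push_cast at e ⊢
    rw [← e, mul_inv_cancel_left₀ hn0]
  -- the total variance
  have hD : ∑ γ : Cfsg.IrrCharacter C,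
      ((n : ℤ) * ∑ l, (k γ l : ℤ) ^ 2 - (∑ l, (k γ l : ℤ)) ^ 2) = (n : ℤ) - 1 := by
    have e : ∑ γ : Cfsg.IrrCharacter C, ((n * ∑ l, k γ l ^ 2 : ℕ) : ℂ) =
        (∑ γ : Cfsg.IrrCharacter C, ((∑ l, k γ l : ℕ) : ℂ) ^ 2) + ((n : ℂ) - 1) := by
      simp only [← hplanch]
      rw [Finset.sum_comm, ← Finset.add_sum_erase _ _ (Finset.mem_univ (1 : S))]
      congr 1
      · refine Finset.sum_congr rfl fun γ _ => ?_
        rw [hcoef1, map_natCast, sq]
      · rw [Finset.sum_congr rfl fun (x : S) hx => h.parseval hext hdet x.2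
          (hfpf x x.2 (fun e => (Finset.mem_erase.1 hx).1 (Subtype.ext e))).symm,
          Finset.sum_const, Finset.card_erase_of_mem (Finset.mem_univ _), Finset.card_univ,
          ← Nat.card_eq_fintype_card, nsmul_one, Nat.cast_sub Nat.card_pos, Nat.cast_one]
    have e2 : ((∑ γ : Cfsg.IrrCharacter C,
        ((n : ℤ) * ∑ l, (k γ l : ℤ) ^ 2 - (∑ l, (k γ l : ℤ)) ^ 2) : ℤ) : ℂ) = (n : ℂ) - 1 := by
      push_cast at e ⊢
      rw [Finset.sum_sub_distrib, e]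
      ring
    exact_mod_cast e2
  have hval : ∀ (γ : Cfsg.IrrCharacter C) (a : ℤ), (∀ l, (k γ l : ℤ) = a) → ∀ x : S, x ≠ 1 →
      coef (χh : Γ → ℂ) (γ : C → ℂ) x = 0 := by
    intro γ a ha x hx
    rw [hk, Finset.sum_congr rfl fun l _ => by
      rw [show (k γ l : ℂ) = (a : ℂ) by exact_mod_cast ha l], ← Finset.mul_sum, sum_hom_apply,
      if_neg hx, mul_zero]
  have hvar := fun γ : Cfsg.IrrCharacter C => int_variance (fun l => (k γ l : ℤ))
  simp only [hnL] at hvar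
  have hcβ : coef (χh : Γ → ℂ) (β : C → ℂ) s = (ε₀ : ℂ) := by
    rw [coef_eq, show (fun c : C => (χh : Γ → ℂ) ((c : Γ) * s)) = (ε₀ : ℂ) • (β : C → ℂ) from
      funext fun c => hβ c s hs, Chars.classInner_smul_left, Chars.classInner_irr_self, mul_one]
  have hnc : ¬ ∀ i j, (k β i : ℤ) = (k β j : ℤ) := by
    intro hall
    have e := hval β (k β 1) (fun l => hall l 1) ⟨s, hsS⟩
      (fun e => hS1 (congrArg Subtype.val e))
    rw [hcβ, Int.cast_eq_zero] at e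
    omega
  rw [← Finset.add_sum_erase _ _ (Finset.mem_univ β)] at hD
  have hrest0 : 0 ≤ ∑ γ ∈ Finset.univ.erase β,
      ((n : ℤ) * ∑ l, (k γ l : ℤ) ^ 2 - (∑ l, (k γ l : ℤ)) ^ 2) :=
    Finset.sum_nonneg fun γ _ => (hvar γ).1
  obtain ⟨hβge, hβeq⟩ := (hvar β).2.2 hnc
  obtain ⟨l₀, e, a, he, ha, ha₀⟩ := hβeq (by linarith)
  have hconst : ∀ γ, γ ≠ β → ∀ i j, (k γ i : ℤ) = (k γ j : ℤ) := by
    intro γ hne
    by_contra hh
    have h1 := ((hvar γ).2.2 hh).1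
    have h2 := Finset.single_le_sum (f := fun γ => (n : ℤ) * ∑ l, (k γ l : ℤ) ^ 2 -
      (∑ l, (k γ l : ℤ)) ^ 2) (fun γ _ => (hvar γ).1)
      (Finset.mem_erase.2 ⟨hne, Finset.mem_univ γ⟩)
    have h3 : 2 ≤ n := by
      have : n ≠ 1 := fun e1 => hS1 (by
        simpa [Subgroup.card_eq_one.1 (hn ▸ e1)] using hsS)
      have : 0 < n := Nat.card_pos
      omega
    omega
  obtain ⟨l₁, hl₁⟩ : ∃ l₁ : S →* ℂˣ, l₁ ≠ l₀ := by
    by_contra hh
    push Not at hh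
    exact hnc fun i j => by rw [hh i, hh j]
  have hk' : ∀ (γ : Cfsg.IrrCharacter C) (l : S →* ℂˣ), (k γ l : ℤ) =
      (k γ l₁ : ℤ) + if γ = β ∧ l = l₀ then e else 0 := by
    intro γ l
    by_cases hγ : γ = β
    · subst hγ
      rw [ha l₁ hl₁]
      by_cases hl : l = l₀
      · rw [if_pos ⟨rfl, hl⟩, hl, ha₀]
      · rw [if_neg fun hh => hl hh.2, ha l hl, add_zero]
    · rw [if_neg fun hh => hγ hh.1, add_zero, hconst γ hγ l l₁]
  have hcoef : ∀ (γ : Cfsg.IrrCharacter C) (x : S), coef (χh : Γ → ℂ) (γ : C → ℂ) x =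
      (if x = 1 then (n : ℂ) * (k γ l₁ : ℂ) else 0) +
        if γ = β then (e : ℂ) * (l₀ x : ℂ) else 0 := by
    intro γ x
    rw [hk, Finset.sum_congr rfl fun l _ => by
      rw [show (k γ l : ℂ) = (k γ l₁ : ℂ) + ((if γ = β ∧ l = l₀ then e else 0 : ℤ) : ℂ) by
        exact_mod_cast hk' γ l, add_mul], Finset.sum_add_distrib, ← Finset.mul_sum, sum_hom_apply]
    congr 1
    · split_ifs <;> ring
    · by_cases hγ : γ = β
      · simp [hγ, Finset.sum_ite_eq', apply_ite (fun z : ℤ => (z : ℂ)), ite_mul]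
      · simp [hγ]
  refine ⟨e, l₀, fun γ => k γ l₁, he, fun x => ?_, fun c x hx => ?_, fun c => ?_⟩
  · by_cases hx : x = 1
    · simp [hx]
    · have h1 := h.coef_pow hext hdet (β : C → ℂ) x.2
        (k := n - 1) ((Nat.coprime_self_sub_right Nat.card_pos).2 (Nat.coprime_one_right _)).symm
      have hx2 : (x : Γ) ^ (n - 1) = ((x⁻¹ : S) : Γ) := by
        have e1 : x ^ (n - 1) = x⁻¹ := eq_inv_of_mul_eq_one_left (by
          rw [← pow_succ, Nat.sub_add_cancel Nat.card_pos, pow_card_eq_one'])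
        rw [← e1]; rfl
      rw [hx2, hcoef, hcoef, if_neg hx, if_neg (by simpa using hx), map_inv] at h1
      simp only [if_true, zero_add] at h1
      have he0 : (e : ℂ) ≠ 0 := by rcases he with rfl | rfl <;> simp
      have h2 := mul_left_cancel₀ he0 h1
      calc (l₀ x : ℂ) * l₀ x = (((l₀ x)⁻¹ : ℂˣ) : ℂ) * l₀ x := by rw [h2]
        _ = 1 := Units.inv_mul _
  · have hcl := isClassFunction_coset (C := C) (Chars.irr_isClassFunction χh)
      (x := (x : Γ)) (fun d => h.comm d d.2 _ x.2)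
    refine (Chars.isClassFunction_apply_eq_sum_classInner hcl c).trans ?_
    simp only [← coef_eq, hcoef, if_neg hx, zero_add, ite_mul, zero_mul, Finset.sum_ite_eq',
      Finset.mem_univ, if_true]
    ring
  · have hcl := isClassFunction_coset (C := C) (Chars.irr_isClassFunction χh)
      (x := ((1 : S) : Γ)) (fun d => h.comm d d.2 _ (1 : S).2)
    have e1 := Chars.isClassFunction_apply_eq_sum_classInner hcl c
    simp only [← coef_eq, hcoef] at e1
    rw [show (χ : G → ℂ) ⟨c, hCG c.2⟩ = (χh : Γ → ℂ) ((c : Γ) * ((1 : S) : Γ)) by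
      rw [← hext]; simp, e1, Finset.sum_apply, Finset.mul_sum]
    simp only [if_true, add_mul, Finset.sum_add_distrib, ite_mul, zero_mul, Finset.sum_ite_eq',
      Finset.mem_univ, map_one, Units.val_one, mul_one, Pi.smul_apply, smul_eq_mul, mul_assoc]

end Cfsg.Agent.S4451
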