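import Cfsg.Statements.S4452
import Cfsg.Agent.Lib.Glauberman.CyclicCorr
import Cfsg.Agent.Lib.Glauberman.Action
import Cfsg.Agent.Lib.Codegree

set_option autoImplicit false
open Cfsg Cfsg.Agent.Lib Cfsg.Agent.Lib.Glauberman

namespace Cfsg.Agent.S4452

/-- Irreducible characters of isomorphic groups. -/
theorem card_irr_congr {A B : Type*} [Group A] [Group B] [Finite A] [Finite B] (e : A ≃* B) :
    Nat.card (Cfsg.IrrCharacter A) = Nat.card (Cfsg.IrrCharacter B) := by
  refine Nat.card_congr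
    { toFun := fun χ => ⟨fun b => (χ : A → ℂ) (e.symm b), Clifford.isIrrCharacter_comp_equiv e.symm χ.2⟩
      invFun := fun χ => ⟨fun a => (χ : B → ℂ) (e a), Clifford.isIrrCharacter_comp_equiv e χ.2⟩
      left_inv := fun χ => Subtype.ext (funext fun a => by simp)
      right_inv := fun χ => Subtype.ext (funext fun a => by simp) }

/-- Characters of degree prime to the order of a complement. -/
theorem card_coprime_degree {G : Type*} [Group G] [Finite G] (K H : Subgroup G) [hK : K.Normal]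
    (hKH : K ⊔ H = ⊤) (hcop : (Nat.card K).Coprime (Nat.card H)) :
    Nat.card {χ : Cfsg.IrrCharacter G // (Cfsg.charDegree (χ : G → ℂ)).Coprime (Nat.card H)} =
      Nat.card {θ : Cfsg.IrrCharacter K // ∀ (y : G) (n : K),
        (θ : K → ℂ) ⟨y * n * y⁻¹, hK.conj_mem n n.2 y⟩ = (θ : K → ℂ) n} *
      Nat.card (H →* ℂˣ) := by
  classical
  haveI : Fintype G := Fintype.ofFinite G
  haveI : Fintype K := Fintype.ofFinite K
  have hdisj : Disjoint K H :=
    Subgroup.disjoint_def.2 fun {x} hxG hxS => orderOf_eq_one_iff.1 (Nat.eq_one_of_dvd_coprimes hcop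
      (Subgroup.orderOf_coe (⟨x, hxG⟩ : K) ▸ orderOf_dvd_natCard _)
      (Subgroup.orderOf_coe (⟨x, hxS⟩ : H) ▸ orderOf_dvd_natCard _))
  have hidx : K.index = Nat.card H := by
    have e := Subgroup.relIndex_sup_right (K := K) (H := H)
    rw [sup_comm, hKH, Subgroup.relIndex_top_right] at e
    rw [e, Subgroup.relIndex, Subgroup.subgroupOf_eq_bot.2 hdisj, Subgroup.index_bot]
  have hic : K.index.Coprime (Nat.card K) := hidx ▸ hcop.symm
  have hbij : Function.Bijective ((QuotientGroup.mk' K).comp H.subtype) := by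
    have hinj : Function.Injective ((QuotientGroup.mk' K).comp H.subtype) :=
      (injective_iff_map_eq_one _).2 fun h hh => Subtype.ext
        (Subgroup.disjoint_def.1 hdisj ((QuotientGroup.eq_one_iff _).1 hh) h.2)
    exact hinj.bijective_of_nat_card_le (le_of_eq hidx)
  let e := MulEquiv.ofBijective _ hbij
  have hext : ∀ θ : {θ : Cfsg.IrrCharacter K // ∀ (y : G) (n : K),
      (θ : K → ℂ) ⟨y * n * y⁻¹, hK.conj_mem n n.2 y⟩ = (θ : K → ℂ) n},
      ∃ θh : Cfsg.IrrCharacter G, ∀ g : K, (θh : G → ℂ) g = (θ.1 : K → ℂ) g := fun θ => by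
    obtain ⟨θh, h1, -⟩ := exists_canonical hic θ.1 θ.2
    exact ⟨θh, h1⟩
  choose E hE using hext
  have hlin : ∀ l : H →* ℂˣ, Cfsg.IsIrrCharacter (G ⧸ K) (fun q => (l (e.symm q) : ℂ)) := fun l =>
    Chars.isIrrCharacter_of_hom (l.comp e.symm.toMonoidHom)
  have hres : ∀ θ, Clifford.resFun K (E θ : G → ℂ) = (θ.1 : K → ℂ) := fun θ => funext (hE θ)
  have hgal := fun θ => Clifford.gallagher (E θ).2 (by rw [hres θ]; exact θ.1.2)
  let F : {θ : Cfsg.IrrCharacter K // ∀ (y : G) (n : K),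
      (θ : K → ℂ) ⟨y * n * y⁻¹, hK.conj_mem n n.2 y⟩ = (θ : K → ℂ) n} × (H →* ℂˣ) →
      {χ : Cfsg.IrrCharacter G // (Cfsg.charDegree (χ : G → ℂ)).Coprime (Nat.card H)} := fun p =>
    ⟨⟨_, (hgal p.1).1 ⟨_, hlin p.2⟩⟩, by
      obtain ⟨a, -, ha, hdvd⟩ := Chars.irr_degree_dvd_card p.1.1
      rw [Codegree.charDegree_eq (d := a)]
      · exact hcop.coprime_dvd_left hdvd
      · show (E p.1 : G → ℂ) 1 * ((p.2 (e.symm ((1 : G) : G ⧸ K)) : ℂˣ) : ℂ) = a
        have e1 := hE p.1 1
        rw [OneMemClass.coe_one] at e1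
        rw [QuotientGroup.mk_one, map_one, map_one, Units.val_one, mul_one, e1, ha]⟩
  rw [← Nat.card_prod]
  refine (Nat.card_eq_of_bijective F ⟨?_, ?_⟩).symm
  · rintro ⟨θ, l⟩ ⟨θ', l'⟩ h
    have h' : (E θ : G → ℂ) * (Chars.inflate K ⟨_, hlin l⟩ : G → ℂ) =
        (E θ' : G → ℂ) * (Chars.inflate K ⟨_, hlin l'⟩ : G → ℂ) :=
      congrArg (fun x => ((x.1 : Cfsg.IrrCharacter G) : G → ℂ)) h
    have hθ : θ = θ' := Subtype.ext (Subtype.ext (funext fun n => by
      have h1 : (E θ : G → ℂ) n * ((l (e.symm ((n : G) : G ⧸ K)) : ℂˣ) : ℂ) =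
          (E θ' : G → ℂ) n * ((l' (e.symm ((n : G) : G ⧸ K)) : ℂˣ) : ℂ) := congrFun h' n
      rw [(QuotientGroup.eq_one_iff (n : G)).2 n.2, map_one, map_one, map_one, Units.val_one,
        mul_one, mul_one, hE, hE] at h1
      exact h1))
    subst hθ
    have hl := (hgal θ).2.1 h'
    refine Prod.ext rfl (MonoidHom.ext fun x => Units.ext ?_)
    have := congrFun (congrArg Subtype.val hl) (e x)
    simpa using this
  · rintro ⟨χ, hχ⟩
    obtain ⟨θ, hθ⟩ := exists_below (C := (⊤ : Subgroup G)) (D := K) le_top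
      ⟨_, Clifford.isIrrCharacter_comp_equiv Subgroup.topEquiv χ.2⟩
    have hθ' : Cfsg.classInner (Clifford.resFun K (χ : G → ℂ)) (θ : K → ℂ) ≠ 0 := by
      rw [show Clifford.resFun K (χ : G → ℂ) = resSub (le_top : K ≤ ⊤)
        (fun x : (⊤ : Subgroup G) => (χ : G → ℂ) (Subgroup.topEquiv x)) from rfl,
        charMult_spec (isCharacter_resSub le_top
          (Chars.isCharacter_of_isIrrCharacter (Clifford.isIrrCharacter_comp_equiv Subgroup.topEquiv χ.2)))
          (Chars.irr_isCharacter θ)]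
      exact_mod_cast hθ
    let T : Subgroup G :=
      { carrier := {g | Clifford.conjFun g (θ : K → ℂ) = (θ : K → ℂ)}
        one_mem' := Clifford.conjFun_one _
        mul_mem' := fun {a b} ha hb => by
          simp only [Set.mem_setOf_eq] at ha hb ⊢
          rw [Clifford.conjFun_mul, ha, hb]
        inv_mem' := fun {a} ha => by
          simp only [Set.mem_setOf_eq] at ha ⊢
          conv_lhs => rw [← ha]
          rw [← Clifford.conjFun_mul, mul_inv_cancel, Clifford.conjFun_one] }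
    have hKT : K ≤ T := fun k hk => funext fun n => Chars.irr_isClassFunction θ n ⟨k, hk⟩
    have key := Clifford.apply_one_eq χ.2 θ.2 hθ' T (fun g => Iff.rfl)
    obtain ⟨a, -, ha, -⟩ := Chars.irr_degree_dvd_card χ
    obtain ⟨b, -, hb, -⟩ := Chars.irr_degree_dvd_card θ
    obtain ⟨m, hm⟩ := Chars.isCharacter_classInner_nat
      (Chars.isCharacter_restrict K (Chars.irr_isCharacter χ)) (Chars.irr_isCharacter θ)
    rw [show Cfsg.classInner (Clifford.resFun K (χ : G → ℂ)) (θ : K → ℂ) = (m : ℂ) from hm, ha,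
      hb] at key
    have key' : a = m * (T.index * b) := by exact_mod_cast key
    rw [Codegree.charDegree_eq ha] at hχ
    have hT : T = ⊤ := Subgroup.index_eq_one.1 (Nat.eq_one_of_dvd_coprimes hχ
      ⟨m * b, by rw [key']; ring⟩ (hidx ▸ Subgroup.index_dvd_of_le hKT))
    let θ' : {θ : Cfsg.IrrCharacter K // ∀ (y : G) (n : K),
        (θ : K → ℂ) ⟨y * n * y⁻¹, hK.conj_mem n n.2 y⟩ = (θ : K → ℂ) n} :=
      ⟨θ, fun y n => congrFun (show y ∈ T by rw [hT]; trivial) n⟩
    obtain ⟨β, hβ⟩ := ((hgal θ').2.2 _ χ.2).1 (by rw [hres θ']; exact hθ')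
    obtain ⟨c, -, hc, hcd⟩ := Chars.irr_degree_dvd_card β
    have hc1 : c = 1 := by
      refine Nat.eq_one_of_dvd_coprimes hχ ?_ (hidx ▸ hcd)
      have e1 : (χ : G → ℂ) 1 = (E θ' : G → ℂ) 1 * (β : G ⧸ K → ℂ) ((1 : G) : G ⧸ K) :=
        congrFun hβ 1
      rw [QuotientGroup.mk_one, ha, hc] at e1
      obtain ⟨d, -, hd, -⟩ := Chars.irr_degree_dvd_card (E θ')
      rw [hd] at e1
      exact ⟨d, by rw [mul_comm]; exact_mod_cast e1⟩
    obtain ⟨φ, hφ⟩ := Chars.exists_hom_of_degree_one (Chars.irr_isCharacter β)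
      (by rw [hc, hc1, Nat.cast_one])
    refine ⟨(θ', φ.comp e.toMonoidHom), Subtype.ext (Subtype.ext (funext fun g => ?_))⟩
    show (E θ' : G → ℂ) g * ((φ.comp e.toMonoidHom) (e.symm (g : G ⧸ K)) : ℂ) = (χ : G → ℂ) g
    rw [MonoidHom.comp_apply, MulEquiv.coe_toMonoidHom, MulEquiv.apply_symm_apply,
      congrFun hβ g]
    show _ = _ * (β : G ⧸ K → ℂ) (g : G ⧸ K)
    rw [hφ]

/-- Let the finite group G be the product of a normal subgroup K and a solvable subgroup H of coprime orders, and let N = N_G(H). Then the number of irreducible characters of G of degree coprime to the order of H equals the number of irreducible characters of N of degree coprime to the order of H. (The two sets are in fact in a canonical bijection; only the equality of their sizes is stated here.) -/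
theorem result {G : Type*} [Group G] [Finite G] (K H : Subgroup G) [K.Normal] (hKH : K ⊔ H = ⊤) (hcop : (Nat.card K).Coprime (Nat.card H)) (hsolv : Group.IsSolvable H) : Nat.card {χ : Cfsg.IrrCharacter G // (Cfsg.charDegree (χ : G → ℂ)).Coprime (Nat.card H)} = Nat.card {η : Cfsg.IrrCharacter (Subgroup.normalizer (H : Set G)) // (Cfsg.charDegree (η : Subgroup.normalizer (H : Set G) → ℂ)).Coprime (Nat.card H)} := by
  classical
  haveI : Fintype G := Fintype.ofFinite G
  set N := Subgroup.normalizer (H : Set G) with hN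
  set C := K ⊓ Subgroup.centralizer (H : Set G) with hC
  have hHN : H ≤ N := Subgroup.le_normalizer
  have hCN : C ≤ N := fun c hc => Subgroup.mem_normalizer_iff.2 fun h => by
    constructor
    · intro hh
      rw [(Subgroup.mem_centralizer_iff.1 hc.2 h hh).symm, mul_inv_cancel_right]
      exact hh
    · intro hh
      have e := Subgroup.mem_centralizer_iff.1 hc.2 _ hh
      have e2 : c * h * c⁻¹ = h := by
        rw [inv_mul_cancel_right] at e
        exact (mul_left_cancel e).symm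
      rwa [e2] at hh
  have hdisj : ∀ x, x ∈ K → x ∈ H → x = 1 := fun x hxG hxS => orderOf_eq_one_iff.1
    (Nat.eq_one_of_dvd_coprimes hcop
      (Subgroup.orderOf_coe (⟨x, hxG⟩ : K) ▸ orderOf_dvd_natCard _)
      (Subgroup.orderOf_coe (⟨x, hxS⟩ : H) ▸ orderOf_dvd_natCard _))
  haveI hCn : (C.subgroupOf N).Normal := ⟨fun c hc n => by
    refine ⟨‹K.Normal›.conj_mem _ hc.1 _, Subgroup.mem_centralizer_iff.2 fun h hh => ?_⟩
    have hh' : (n : G)⁻¹ * h * n ∈ H := (Subgroup.mem_normalizer_iff.1 n.2 _).2 (by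
      simpa [mul_assoc] using hh)
    have e : (n : G)⁻¹ * h * n * (c : G) = (c : G) * ((n : G)⁻¹ * h * n) :=
      Subgroup.mem_centralizer_iff.1 hc.2 _ hh'
    show h * ((n : G) * c * (n : G)⁻¹) = (n : G) * c * (n : G)⁻¹ * h
    calc h * ((n : G) * c * (n : G)⁻¹) = (n : G) * (((n : G)⁻¹ * h * n) * c) * (n : G)⁻¹ := by group
      _ = (n : G) * ((c : G) * ((n : G)⁻¹ * h * n)) * (n : G)⁻¹ := by rw [e]
      _ = _ := by group⟩
  have hsup : C.subgroupOf N ⊔ H.subgroupOf N = ⊤ := by
    rw [Subgroup.eq_top_iff']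
    intro n
    have hn : (n : G) ∈ K ⊔ H := hKH ▸ Subgroup.mem_top _
    obtain ⟨k, hk, h, hh, e⟩ := Subgroup.mem_sup_of_normal_left.1 hn
    have hkN : k ∈ N := by
      rw [eq_mul_inv_of_mul_eq e]
      exact N.mul_mem n.2 (N.inv_mem (hHN hh))
    have hkC : k ∈ C := by
      refine ⟨hk, Subgroup.mem_centralizer_iff.2 fun x hx => ?_⟩
      have h1 : k * x * k⁻¹ * x⁻¹ = 1 := hdisj _ (by
        have e1 : k * x * k⁻¹ * x⁻¹ = k * (x * k⁻¹ * x⁻¹) := by group
        rw [e1]; exact K.mul_mem hk (‹K.Normal›.conj_mem _ (K.inv_mem hk) x))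
        (H.mul_mem ((Subgroup.mem_normalizer_iff.1 hkN x).1 hx) (H.inv_mem hx))
      exact (mul_inv_eq_iff_eq_mul.1 (mul_inv_eq_one.1 h1)).symm
    have : n = (⟨k, hkN⟩ : N) * ⟨h, hHN hh⟩ := Subtype.ext e.symm
    rw [this]
    exact Subgroup.mul_mem _ (Subgroup.mem_sup_left (Subgroup.mem_subgroupOf.2 hkC))
      (Subgroup.mem_sup_right (Subgroup.mem_subgroupOf.2 hh))
  have eH := Subgroup.subgroupOfEquivOfLe hHN
  have eC := Subgroup.subgroupOfEquivOfLe hCN
  have hcop' : (Nat.card (C.subgroupOf N)).Coprime (Nat.card (H.subgroupOf N)) := by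
    rw [Nat.card_congr eC.toEquiv, Nat.card_congr eH.toEquiv]
    exact hcop.coprime_dvd_left (Subgroup.card_dvd_of_le inf_le_left)
  have hallinv : ∀ (θ : Cfsg.IrrCharacter (C.subgroupOf N)) (y : N) (n : C.subgroupOf N),
      (θ : C.subgroupOf N → ℂ) ⟨y * n * y⁻¹, hCn.conj_mem n n.2 y⟩ = (θ : C.subgroupOf N → ℂ) n := by
    intro θ y n
    obtain ⟨c, hc, h, hh, rfl⟩ := Subgroup.mem_sup_of_normal_left.1
      (hsup ▸ Subgroup.mem_top y : y ∈ C.subgroupOf N ⊔ H.subgroupOf N)
    have e : ((h : N) : G) * ((n : N) : G) = ((n : N) : G) * ((h : N) : G) :=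
      Subgroup.mem_centralizer_iff.1 (Subgroup.mem_subgroupOf.1 n.2).2 _ (Subgroup.mem_subgroupOf.1 hh)
    have e' : c * h * (n : N) * (c * h)⁻¹ = c * (n : N) * c⁻¹ := by
      apply Subtype.ext
      push_cast
      rw [mul_assoc (c : G) (h : G), e]
      group
    rw [← Chars.irr_isClassFunction θ n ⟨c, hc⟩]
    exact congrArg (θ : C.subgroupOf N → ℂ) (Subtype.ext e')
  have hN' : Nat.card {η : Cfsg.IrrCharacter N //
      (Cfsg.charDegree (η : N → ℂ)).Coprime (Nat.card H)} =
      Nat.card (Cfsg.IrrCharacter C) * Nat.card (H →* ℂˣ) := by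
    have e := card_coprime_degree (C.subgroupOf N) (H.subgroupOf N) hsup hcop'
    rw [Nat.card_congr eH.toEquiv, Nat.card_congr (Equiv.subtypeUnivEquiv hallinv),
      card_irr_congr eC] at e
    rw [e]
    congr 1
    exact Nat.card_congr
      { toFun := fun l => l.comp eH.symm.toMonoidHom
        invFun := fun l => l.comp eH.toMonoidHom
        left_inv := fun l => MonoidHom.ext fun x => by simp
        right_inv := fun l => MonoidHom.ext fun x => by simp }
  rw [hN', card_coprime_degree K H hKH hcop]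
  congr 1
  rw [← card_invariant_eq (G := K) (S := H) hsolv
    (fun s _ => normalises_of_mem fun g hg => ‹K.Normal›.conj_mem g hg s) hcop hC]
  refine Nat.card_congr (Equiv.subtypeEquivRight fun θ => ⟨fun hy s _ g g' hg => ?_, fun hi y n => ?_⟩)
  · rw [show g' = ⟨s * g * s⁻¹, ‹K.Normal›.conj_mem g g.2 s⟩ from Subtype.ext hg]
    exact hy s g
  · have hle : (⊤ : Subgroup G) ≤ invGroup (θ : K → ℂ) := by
      rw [← hKH]
      exact sup_le (fun x hx => ⟨normalises_of_mem fun z hz => ‹K.Normal›.conj_mem z hz x,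
        isConjBy_self_of_mem (Chars.irr_isClassFunction θ) hx⟩)
        (le_invGroup (fun s _ => normalises_of_mem fun z hz => ‹K.Normal›.conj_mem z hz s) hi)
    exact (hle (Subgroup.mem_top y)).2 n _ rfl

end Cfsg.Agent.S4452
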