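import Cfsg.Statements.S4453
import Cfsg.Agent.Lib.ParityCorr.Main

set_option autoImplicit false
open Cfsg

namespace Cfsg.Agent.S4453

/-- Inside a finite group Γ let S normalise the solvable subgroup G of odd order with the orders of G and S coprime, let C = G ⊓ C(S), and let L ≤ K be S-invariant normal subgroups of G with K/L abelian, G = KC and H = LC (so C ≤ H ≤ G). Then for each S-invariant irreducible character χ of G there is exactly one S-invariant irreducible character ψ of H whose multiplicity in the restriction of χ to H is odd, and χ ↦ ψ is a bijection from the S-invariant irreducible characters of G onto those of H (distinct χ give distinct ψ, and every S-invariant ψ arises). -/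
theorem result {Γ : Type*} [Group Γ] [Fintype Γ] (G S : Subgroup Γ) [Fintype G] (hnorm : ∀ s ∈ S, ∀ g ∈ G, s * g * s⁻¹ ∈ G) (hcop : (Nat.card G).Coprime (Nat.card S)) (hGsolv : Group.IsSolvable G) (hodd : Odd (Nat.card G)) (C : Subgroup Γ) [Fintype C] (hC : C = G ⊓ Subgroup.centralizer (S : Set Γ)) (hCG : C ≤ G) (K L H : Subgroup Γ) [Fintype H] (hLK : L ≤ K) (hKG : K ≤ G) (hKn : ∀ g ∈ G, ∀ k ∈ K, g * k * g⁻¹ ∈ K) (hLn : ∀ g ∈ G, ∀ l ∈ L, g * l * g⁻¹ ∈ L) (hKS : ∀ s ∈ S, ∀ k ∈ K, s * k * s⁻¹ ∈ K) (hLS : ∀ s ∈ S, ∀ l ∈ L, s * l * s⁻¹ ∈ L) (hab : ∀ a ∈ K, ∀ b ∈ K, a * b * a⁻¹ * b⁻¹ ∈ L) (hGKC : K ⊔ C = G) (hH : H = L ⊔ C) (hHG : H ≤ G) : (∀ χ : Cfsg.IrrCharacter G, (∀ s ∈ S, ∀ g g' : G, (g' : Γ) = s * g * s⁻¹ → (χ : G → ℂ) g' = (χ : G → ℂ) g) → ∃! ψ : Cfsg.IrrCharacter H, (∀ s ∈ S, ∀ g g' : H, (g' : Γ) = s * g * s⁻¹ → (ψ : H → ℂ) g' = (ψ : H → ℂ)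 g) ∧ ∃ m : ℕ, Cfsg.classInner (fun h : H => (χ : G → ℂ) ⟨h, hHG h.2⟩) (ψ : H → ℂ) = (m : ℂ) ∧ Odd m) ∧ (∀ χ χ' : Cfsg.IrrCharacter G, (∀ s ∈ S, ∀ g g' : G, (g' : Γ) = s * g * s⁻¹ → (χ : G → ℂ) g' = (χ : G → ℂ) g) → (∀ s ∈ S, ∀ g g' : G, (g' : Γ) = s * g * s⁻¹ → (χ' : G → ℂ) g' = (χ' : G → ℂ) g) → ∀ ψ : Cfsg.IrrCharacter H, (∀ s ∈ S, ∀ g g' : H, (g' : Γ) = s * g * s⁻¹ → (ψ : H → ℂ) g' = (ψ : H → ℂ) g) → ∀ m m' : ℕ, Cfsg.classInner (fun h : H => (χ : G → ℂ) ⟨h, hHG h.2⟩) (ψ : H → ℂ) = (m : ℂ) → Odd m → Cfsg.classInner (fun h : H => (χ' : G → ℂ) ⟨h, hHG h.2⟩) (ψ : H → ℂ) = (m' : ℂ) → Odd m' → χ = χ') ∧ (∀ ψ : Cfsg.IrrCharacter H, (∀ s ∈ S, ∀ g g' : H, (g' : Γ) = s * g * s⁻¹ → (ψ : H → ℂ) g' = (ψ : H → ℂ) g) → ∃ χ : Cfsg.IrrCharacter G, (∀ s ∈ S, ∀ g g' : G, (g' : Γ) = s * g * s⁻¹ → (χ : G → ℂ) g' = (χ : G → ℂ) g) ∧ ∃ m : ℕ, Cfsg.classInner (fun h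 : H => (χ : G → ℂ) ⟨h, hHG h.2⟩) (ψ : H → ℂ) = (m : ℂ) ∧ Odd m) := by
  classical
  haveI : Finite Γ := Finite.of_fintype Γ
  have hCmem : ∀ c ∈ C, ∀ s ∈ S, s * c = c * s := fun c hc s hs => by
    rw [hC] at hc
    exact Subgroup.mem_centralizer_iff.1 hc.2 s hs
  have hKC : ∀ g ∈ G, ∃ k ∈ K, ∃ c ∈ C, g = k * c := by
    intro g hg
    rw [← hGKC, ← SetLike.mem_coe, Subgroup.coe_mul_of_right_le_normalizer_left] at hg
    · obtain ⟨k, hk, c, hc, rfl⟩ := hg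
      exact ⟨k, hk, c, hc, rfl⟩
    · exact fun c hc => Subgroup.mem_normalizer_iff.2
        (Cfsg.Agent.Lib.Glauberman.normalises_of_mem (hKn c (hCG hc)))
  have hLC : ∀ h ∈ H, ∃ l ∈ L, ∃ c ∈ C, h = l * c := by
    intro h hh
    rw [hH, ← SetLike.mem_coe, Subgroup.coe_mul_of_right_le_normalizer_left] at hh
    · obtain ⟨l, hl, c, hc, rfl⟩ := hh
      exact ⟨l, hl, c, hc, rfl⟩
    · exact fun c hc => Subgroup.mem_normalizer_iff.2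
        (Cfsg.Agent.Lib.Glauberman.normalises_of_mem (hLn c (hCG hc)))
  have hLH : L ≤ H := hH ▸ le_sup_left
  have hCH : C ≤ H := hH ▸ le_sup_right
  have P : Cfsg.Agent.Lib.ParityCorr.Sec G S C K (K ⊓ H) H :=
    { hnorm := hnorm
      cop := hcop
      odd := hodd
      solv := hGsolv
      CG := hCG
      fixC := fun s hs c hc => hCmem c hc s hs
      fix := fun k hk h => ⟨hk, hCH (by
        rw [hC]
        exact ⟨hKG hk, Subgroup.mem_centralizer_iff.2 h⟩)⟩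
      MK := inf_le_left
      KG := hKG
      Kn := hKn
      Mn := fun g hg m hm => ⟨hKn g hg m hm.1, by
        obtain ⟨k, hk, c, hc, rfl⟩ := hKC g hg
        have h1 : c * m * c⁻¹ ∈ H := H.mul_mem (H.mul_mem (hCH hc) hm.2) (H.inv_mem (hCH hc))
        have h2 := H.mul_mem (hLH (hab k hk _ (hKn c (hCG hc) m hm.1))) h1
        rw [inv_mul_cancel_right] at h2
        rwa [show k * c * m * (k * c)⁻¹ = k * (c * m * c⁻¹) * k⁻¹ by group]⟩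
      KS := hKS
      MS := fun s hs m hm => ⟨hKS s hs m hm.1, by
        obtain ⟨l, hl, c, hc, rfl⟩ := hLC m hm.2
        have e : s * (l * c) * s⁻¹ = s * l * s⁻¹ * c := by
          calc s * (l * c) * s⁻¹ = s * l * s⁻¹ * ((s * c) * s⁻¹) := by group
            _ = s * l * s⁻¹ * ((c * s) * s⁻¹) := by rw [hCmem c hc s hs]
            _ = _ := by group
        rw [e]
        exact H.mul_mem (hLH (hLS s hs l hl)) (hCH hc)⟩
      ab := fun a ha b hb => ⟨hLK (hab a ha b hb), hLH (hab a ha b hb)⟩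
      gKC := hKC
      hMC := fun x => ⟨fun hx => by
          obtain ⟨l, hl, c, hc, rfl⟩ := hLC x hx
          exact ⟨l, ⟨hLK hl, hLH hl⟩, c, hc, rfl⟩,
        fun ⟨m, hm, c, hc, hx⟩ => hx ▸ H.mul_mem hm.2 (hCH hc)⟩
      HG := hHG }
  obtain ⟨hdown, hup⟩ := Cfsg.Agent.Lib.ParityCorr.parity_main P
  have key : ∀ (χ : Cfsg.IrrCharacter G) (ψ : Cfsg.IrrCharacter H) (m : ℕ),
      Cfsg.classInner (fun h : H => (χ : G → ℂ) ⟨h, hHG h.2⟩) (ψ : H → ℂ) = (m : ℂ) ↔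
      Cfsg.Agent.Lib.Glauberman.charMult
        (Cfsg.Agent.Lib.Glauberman.resSub hHG (χ : G → ℂ)) (ψ : H → ℂ) = m := fun χ ψ m => by
    show Cfsg.classInner (Cfsg.Agent.Lib.Glauberman.resSub hHG (χ : G → ℂ)) (ψ : H → ℂ) = _ ↔ _
    rw [Cfsg.Agent.Lib.Glauberman.charMult_spec
      (Cfsg.Agent.Lib.Glauberman.isCharacter_resSub hHG (Cfsg.Agent.Lib.Chars.irr_isCharacter χ))
      (Cfsg.Agent.Lib.Chars.irr_isCharacter ψ), Nat.cast_inj]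
  refine ⟨fun χ hχ => ?_, fun χ χ' hχ hχ' ψ hψ m m' h1 h2 h3 h4 => ?_, fun ψ hψ => ?_⟩
  · obtain ⟨ψ, ⟨hψ, hm⟩, hu⟩ := hdown χ hχ
    exact ⟨ψ, ⟨hψ, _, (key χ ψ _).2 rfl, hm⟩, fun ψ' ⟨h', m, hm1, hm2⟩ =>
      hu ψ' ⟨h', by rw [(key χ ψ' m).1 hm1]; exact hm2⟩⟩
  · exact (hup ψ hψ).unique ⟨hχ, by rw [(key χ ψ m).1 h1]; exact h2⟩
      ⟨hχ', by rw [(key χ' ψ m').1 h3]; exact h4⟩
  · obtain ⟨χ, ⟨hχ, hm⟩, -⟩ := hup ψ hψ
    exact ⟨χ, hχ, _, (key χ ψ _).2 rfl, hm⟩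

end Cfsg.Agent.S4453
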