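import Cfsg.Statements.S4459
-- import your own Cfsg.Agent.* helpers here
import Cfsg.Agent.Lib.Chars.DegreesOneP

set_option autoImplicit false
open Cfsg

namespace Cfsg.Agent.S4459

/-- Let G be a non-abelian finite group and p a prime. Then the irreducible character degrees of G are exactly 1 and p if and only if either G has an abelian normal subgroup of index p or the centre of G has index p³. -/
theorem result {G : Type*} [Group G] [Finite G] (hG : ∃ a b : G, a * b ≠ b * a) (p : ℕ) (hp : p.Prime) : ((∀ χ : Cfsg.IrrCharacter G, Cfsg.charDegree (χ : G → ℂ) = 1 ∨ Cfsg.charDegree (χ : G → ℂ) = p) ∧ ∃ χ : Cfsg.IrrCharacter G, Cfsg.charDegree (χ : G → ℂ) = p) ↔ ((∃ A : Subgroup G, A.Normal ∧ (∀ a ∈ A, ∀ b ∈ A, a * b = b * a) ∧ A.index = p) ∨ (Subgroup.center G).index = p ^ 3) := by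
  have : Fact p.Prime := ⟨hp⟩
  constructor
  · rintro ⟨hcd, hex⟩
    exact Cfsg.Agent.Lib.Chars.exists_abelian_index_or_center hcd hG
      (Cfsg.Agent.Lib.Chars.two_degrees_structure hp.ne_one hcd hex).2
  · intro hcases
    cases nonempty_fintype G
    have hd : ∀ χ : Cfsg.IrrCharacter G,
        Cfsg.charDegree (χ : G → ℂ) = 1 ∨ Cfsg.charDegree (χ : G → ℂ) = p := by
      intro χ
      obtain ⟨n, ρ, hρ, hρχ⟩ := Cfsg.Agent.Lib.Chars.irr_exists_rep χ
      have hdn : Cfsg.charDegree (χ : G → ℂ) = Module.finrank ℂ (Fin n → ℂ) := by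
        have h1 := (Cfsg.Agent.Lib.Chars.charDegree_spec χ).2
        conv_lhs at h1 => rw [← hρχ, ρ.char_one]
        exact (Nat.cast_injective h1).symm
      rcases hcases with ⟨A, hAn, hA, hAi⟩ | hZ
      · have h1 := Cfsg.Agent.S0169.result ρ A hA
        rw [hAi, ← hdn] at h1
        exact (Nat.dvd_prime hp).mp h1
      · have h1 := Cfsg.Agent.S0179.result ρ
        rw [hZ, ← hdn] at h1
        obtain ⟨k, hk, hkd⟩ := (Nat.dvd_prime_pow hp).mp h1
        have h2 := Cfsg.Agent.Lib.Chars.sq_charDegree_le_index_center χ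
        rw [hZ, hkd, ← pow_mul] at h2
        have h3 := (Nat.pow_le_pow_iff_right hp.one_lt).mp h2
        rcases (show k = 0 ∨ k = 1 by omega) with rfl | rfl
        · exact Or.inl (by simpa using hkd)
        · exact Or.inr (by simpa using hkd)
    refine ⟨hd, ?_⟩
    by_contra! hne
    obtain ⟨a, b, hab⟩ := hG
    refine hab (Cfsg.Agent.Lib.CoprimeDegree.mul_comm_of_linear (fun χ => ?_) a b)
    rw [(Cfsg.Agent.Lib.Chars.charDegree_spec χ).2, (hd χ).resolve_right (hne χ), Nat.cast_one]

end Cfsg.Agent.S4459
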