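import Cfsg.Statements.S4460
-- import your own Cfsg.Agent.* helpers here
import Cfsg.Agent.Lib.ThreeDegrees.Main

set_option autoImplicit false
open Cfsg

namespace Cfsg.Agent.S4460

/-- A finite group with exactly three distinct irreducible character degrees is solvable of derived length at most 3: its third derived subgroup is trivial. -/
theorem result {G : Type*} [Group G] [Finite G] (hcd : Nat.card {n : ℕ // ∃ χ : Cfsg.IrrCharacter G, Cfsg.charDegree (χ : G → ℂ) = n} = 3) : derivedSeries G 3 = ⊥ := by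
  classical
  let S : Set ℕ := {n : ℕ | ∃ χ : Cfsg.IrrCharacter G, Cfsg.charDegree (χ : G → ℂ) = n}
  have h3 : S.ncard = 3 := by rw [← Nat.card_coe_set_eq]; exact hcd
  have h1 : 1 ∈ S :=
    ⟨Cfsg.Agent.Lib.Chars.trivialIrr G, Cfsg.Agent.Lib.Codegree.charDegree_eq (by simp)⟩
  obtain ⟨a, b, c, -, -, -, hS⟩ := Set.ncard_eq_three.mp h3
  have hmem : ∀ x ∈ S, x = a ∨ x = b ∨ x = c := fun x hx => by simpa [hS] using hx
  have hall : ∀ χ : Cfsg.IrrCharacter G, Cfsg.charDegree (χ : G → ℂ) = a ∨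
      Cfsg.charDegree (χ : G → ℂ) = b ∨ Cfsg.charDegree (χ : G → ℂ) = c :=
    fun χ => hmem _ ⟨χ, rfl⟩
  rcases hmem 1 h1 with h | h | h
  · exact Cfsg.Agent.Lib.ThreeDegrees.derivedSeries_three_eq_bot G b c fun χ => by
      rcases hall χ with e | e | e <;> simp [e, ← h]
  · exact Cfsg.Agent.Lib.ThreeDegrees.derivedSeries_three_eq_bot G a c fun χ => by
      rcases hall χ with e | e | e <;> simp [e, ← h]
  · exact Cfsg.Agent.Lib.ThreeDegrees.derivedSeries_three_eq_bot G a b fun χ => by
      rcases hall χ with e | e | e <;> simp [e, ← h]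

end Cfsg.Agent.S4460
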