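import Cfsg.Statements.S4813
import Cfsg.Agent.Lib.PrimeDegreeSimple
import Cfsg.Agent.Lib.Clifford.Gallagher
import Cfsg.Agent.Lib.KGV.Basic

set_option autoImplicit false
open Cfsg

namespace Cfsg.Agent.S4813

open scoped commutatorElement
open Cfsg.Agent.Lib

universe u

variable {G : Type u} [Group G]

/-- A group with prime nonlinear degrees is solvable. -/
theorem isSolvable_of_prime [Finite G]
    (hprime : ∀ χ : IrrCharacter G, ∀ d : ℕ, (χ : G → ℂ) 1 = d → d = 1 ∨ d.Prime) :
    Group.IsSolvable G := by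
  classical
  cases nonempty_fintype G
  by_contra hns
  obtain ⟨D, ⟨n, rfl⟩, hmin⟩ := (Set.toFinite (Set.range (derivedSeries G))).exists_minimal
    (Set.range_nonempty _)
  set D := derivedSeries G n with hD
  have hD0 : D ≠ ⊥ := fun h => hns ((Group.isSolvable_def G).mpr ⟨n, h⟩)
  have hle : derivedSeries G (n + 1) ≤ D := derivedSeries_antitone G (Nat.le_succ n)
  have hperf0 : ⁅D, D⁆ = D := by
    rw [hD, ← derivedSeries_succ]
    exact le_antisymm hle (hmin ⟨n + 1, rfl⟩ hle)
  have hperf : commutator D = ⊤ := by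
    apply Subgroup.map_injective D.subtype_injective
    rw [D.map_subtype_commutator, hperf0, ← MonoidHom.range_eq_map, D.range_subtype]
  have : D.Normal := derivedSeries_normal G n
  have : Nontrivial D := (Subgroup.nontrivial_iff_ne_bot _).mpr hD0
  obtain ⟨M, hM⟩ := (Set.toFinite {M : Subgroup D | M.Normal ∧ M ≠ ⊤}).exists_maximal
    ⟨⊥, inferInstance, bot_ne_top⟩
  obtain ⟨⟨hMn, hMt⟩, hmax⟩ := hM
  have : Nontrivial (D ⧸ M) := by
    rw [QuotientGroup.nontrivial_iff]; exact hMt
  have : IsSimpleGroup (D ⧸ M) := ⟨fun L hL => by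
    have hLn : (L.comap (QuotientGroup.mk' M)).Normal := hL.comap _
    have hML : M ≤ L.comap (QuotientGroup.mk' M) := fun x hx => by
      rw [Subgroup.mem_comap, QuotientGroup.mk'_apply, (QuotientGroup.eq_one_iff x).mpr hx]
      exact L.one_mem
    by_cases ht : L.comap (QuotientGroup.mk' M) = ⊤
    · right
      rw [← Subgroup.map_comap_eq_self_of_surjective (QuotientGroup.mk'_surjective M) L, ht,
        Subgroup.map_top_of_surjective _ (QuotientGroup.mk'_surjective M)]
    · left
      have h := le_antisymm hML (hmax ⟨hLn, ht⟩ hML)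
      rw [← Subgroup.map_comap_eq_self_of_surjective (QuotientGroup.mk'_surjective M) L, ← h,
        QuotientGroup.map_mk'_self]⟩
  refine PrimeDegreeSimple.not_prime_degrees (S := D ⧸ M) (fun hcomm => hMt ?_) fun σ hσ => ?_
  · refine top_le_iff.mp (hperf ▸ ?_)
    rw [commutator_def]
    refine Subgroup.commutator_le.mpr fun a _ b _ => ?_
    rw [← QuotientGroup.eq_one_iff]
    have h := hcomm (a : D ⧸ M) (b : D ⧸ M)
    show ((a * b * a⁻¹ * b⁻¹ : D) : D ⧸ M) = 1
    rw [QuotientGroup.mk_mul, QuotientGroup.mk_mul, QuotientGroup.mk_mul, h]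
    simp
  · set θ := Chars.inflate M σ with hθdef
    obtain ⟨d, hd0, hd⟩ := Chars.isIrrCharacter_exists_degree_pos θ.2
    have hne1 : d ≠ 1 := by
      intro h1
      rw [h1, Nat.cast_one] at hd
      obtain ⟨f, hf⟩ := Chars.exists_hom_of_degree_one (Chars.irr_isCharacter θ) hd
      have hk := Abelianization.commutator_subset_ker f
      rw [hperf, top_le_iff] at hk
      refine hσ (Subtype.ext (funext fun x => ?_))
      obtain ⟨a, rfl⟩ := QuotientGroup.mk_surjective x
      have : (θ : D → ℂ) a = 1 := by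
        rw [hf]
        simp only
        rw [MonoidHom.mem_ker.mp (hk ▸ Subgroup.mem_top a : a ∈ f.ker), Units.val_one]
      exact this
    obtain ⟨χ, hχ⟩ : ∃ χ : IrrCharacter G,
        classInner (indFun D (θ : D → ℂ)) (χ : G → ℂ) ≠ 0 := by
      by_contra! h0
      have := congrFun (Chars.isCharacter_eq_sum_classInner
        (Chars.isCharacter_indFun D (Chars.irr_isCharacter θ))) 1
      simp [Chars.indFun_one_eq, h0, hd, hd0.ne', Subgroup.index_ne_zero_of_finite] at this
    rw [Chars.classInner_indFun_left D _ _ (Chars.irr_isClassFunction χ)] at hχ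
    obtain ⟨c, -, hc⟩ := Chars.isIrrCharacter_exists_degree_pos χ.2
    have hdvd := (S0887.result D _ χ.2 _ θ.2 (fun h => hχ (by
      rw [← Chars.conj_classInner, h, map_zero])) c d hc hd).1
    rcases hprime χ c hc with h | h
    · exact absurd (Nat.eq_one_of_dvd_one (h ▸ hdvd)) hne1
    · refine ⟨c, h, ?_⟩
      rw [← ((Nat.dvd_prime h).mp hdvd).resolve_left hne1, ← hd]
      rfl

/-- A normal subgroup containing the derived subgroup. -/
theorem normal_of_commutator_le (A : Subgroup G) (h : commutator G ≤ A) : A.Normal := by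
  refine ⟨fun a ha g => ?_⟩
  have h1 : ⁅g, a⁆ ∈ A :=
    h (Subgroup.commutator_mem_commutator (Subgroup.mem_top g) (Subgroup.mem_top a))
  have : g * a * g⁻¹ = ⁅g, a⁆ * a := by simp [commutatorElement_def, mul_assoc]
  rw [this]
  exact A.mul_mem h1 ha

/-- A group with prime nonlinear degrees all whose nontrivial normal subgroups contain the derived
subgroup has at most two prime divisors. -/
theorem two_primes [Finite G] [Group.IsSolvable G] (hnc : commutator G ≠ ⊥)
    (hmin : ∀ L : Subgroup G, L.Normal → L ≠ ⊥ → commutator G ≤ L)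
    (hprime : ∀ χ : IrrCharacter G, ∀ d : ℕ, (χ : G → ℂ) 1 = d → d = 1 ∨ d.Prime) :
    ∃ p r : ℕ, ∀ s : ℕ, s.Prime → s ∣ Nat.card G → s = p ∨ s = r := by
  classical
  cases nonempty_fintype G
  set M := commutator G with hMdef
  have hMab : ⁅M, M⁆ = ⊥ := by
    by_contra h
    have hlt := Group.IsSolvable.commutator_lt_of_ne_bot hnc
    exact hlt.not_ge (hmin _ inferInstance h)
  have hMcomm : ∀ a ∈ M, ∀ b ∈ M, a * b = b * a := fun a ha b hb => by
    have := Subgroup.commutator_mem_commutator ha hb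
    rw [hMab, Subgroup.mem_bot] at this
    exact commutatorElement_eq_one_iff_mul_comm.mp this
  obtain ⟨p, hp, hpM⟩ := Nat.exists_prime_and_dvd
    (n := Nat.card M) (fun h => hnc (Subgroup.card_eq_one.mp h))
  have : Fact p.Prime := ⟨hp⟩
  have hMp : IsPGroup p M := by
    let R : Sylow p M := default
    have : (R : Subgroup M).Normal := ⟨fun a ha g => by
      rw [show g * a * g⁻¹ = a from Subtype.ext (by
        rw [Subgroup.coe_mul, Subgroup.coe_mul, hMcomm g g.2 a a.2, Subgroup.coe_inv,
          mul_inv_cancel_right])]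
      exact ha⟩
    have := R.characteristic_of_normal inferInstance
    have hRn : (R : Subgroup M) ≠ ⊥ := R.ne_bot_of_dvd_card hpM
    have hle := hmin ((R : Subgroup M).map M.subtype) inferInstance
      fun h => hRn ((Subgroup.map_eq_bot_iff_of_injective _ M.subtype_injective).mp h)
    refine R.isPGroup'.of_surjective (R : Subgroup M).subtype fun x => ?_
    obtain ⟨y, hy, hyx⟩ := hle x.2
    exact ⟨⟨y, hy⟩, Subtype.ext hyx⟩
  obtain ⟨β, hβ⟩ : ∃ β : IrrCharacter G, (β : G → ℂ) 1 ≠ 1 := by
    by_contra! h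
    refine hnc ?_
    rw [hMdef, commutator_def, Subgroup.commutator_eq_bot_iff_le_centralizer]
    exact fun a _ => Subgroup.mem_centralizer_iff.mpr fun b _ =>
      CoprimeDegree.mul_comm_of_linear h b a
  obtain ⟨r, -, hr⟩ := Chars.isIrrCharacter_exists_degree_pos β.2
  have hrp : r.Prime :=
    (hprime β r hr).resolve_left fun h => hβ (by rw [hr, h, Nat.cast_one])
  have hfaith : ∀ g : G, (β : G → ℂ) g = (β : G → ℂ) 1 → g = 1 := by
    intro g hg
    have hkn := Codegree.kerIrr_normal β
    by_contra hg1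
    have hk0 : Codegree.kerIrr β ≠ ⊥ := fun h => hg1 (by
      simpa [h] using (Codegree.mem_kerIrr β).mpr hg)
    obtain ⟨ψ, hψ⟩ := Chars.exists_irr_quotient M β fun x hx =>
      (Codegree.mem_kerIrr β).mp (hmin _ hkn hk0 hx)
    have : IsMulCommutative (G ⧸ M) :=
      (Subgroup.Normal.quotient_commutative_iff_commutator_le).mpr le_rfl
    exact hβ ((hψ 1).symm.trans (Chars.irr_apply_one_of_comm ψ))
  refine ⟨p, r, fun s hs hsG => ?_⟩
  by_contra hcon
  push Not at hcon
  have : Fact s.Prime := ⟨hs⟩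
  let Q : Sylow s G := default
  let A : Subgroup G := (Q : Subgroup G) ⊔ M
  have : A.Normal := normal_of_commutator_le A le_sup_right
  have : Fintype A := Fintype.ofFinite _
  obtain ⟨k, hk⟩ := IsPGroup.iff_card.mp Q.isPGroup'
  have hAab : ∀ a b : A, a * b = b * a := by
    refine CoprimeDegree.mul_comm_of_faithful_linear β hfaith A fun θ hθ => ?_
    obtain ⟨d, hd0, hd, hdvd⟩ := KGV.exists_degree_dvd_index (M.subgroupOf A)
      (fun a ha b hb => Subtype.ext (hMcomm a ha b hb)) θ
    have hrel : (M.subgroupOf A).index ∣ s ^ k := by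
      rw [show (M.subgroupOf A).index = M.relIndex A from rfl, Subgroup.relIndex_sup_right, ← hk]
      exact (M.subgroupOf (Q : Subgroup G)).index_dvd_card
    have hdr := (S0887.result A _ β.2 _ θ.2 hθ r d hr hd).1
    rcases (Nat.dvd_prime hrp).mp hdr with h | h
    · rw [hd, h, Nat.cast_one]
    · exact absurd ((Nat.prime_dvd_prime_iff_eq hrp hs).mp
        (hrp.dvd_of_dvd_pow ((h ▸ hdvd).trans hrel))).symm hcon.2
  let Q' : Sylow s A := Q.subtype (le_sup_left)
  have : (Q' : Subgroup A).Normal := ⟨fun a ha g => by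
    rw [hAab g a, mul_inv_cancel_right]; exact ha⟩
  have := Q'.characteristic_of_normal inferInstance
  have hQne : (Q : Subgroup G) ≠ ⊥ := Q.ne_bot_of_dvd_card hsG
  have hQmap : ((Q' : Subgroup A).map A.subtype) = (Q : Subgroup G) := by
    rw [Sylow.coe_subtype, Subgroup.map_subgroupOf_eq_of_le le_sup_left]
  have hle := hmin ((Q' : Subgroup A).map A.subtype) inferInstance (hQmap ▸ hQne)
  rw [hQmap] at hle
  have := hpM.trans ((Subgroup.card_dvd_of_le hle).trans (dvd_of_eq hk))
  exact hcon.1 ((Nat.prime_dvd_prime_iff_eq hp hs).mp (hp.dvd_of_dvd_pow this)).symm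

/-- If every irreducible complex character of the finite group G of degree greater than one has prime degree, then G has at most three distinct irreducible character degrees. -/
theorem result {G : Type*} [Group G] [Finite G] (hprime : ∀ d ∈ Cfsg.charDegrees G, d = 1 ∨ d.Prime) : Nat.card ↥(Cfsg.charDegrees G) ≤ 3 := by
  classical
  cases nonempty_fintype G
  have hprime' : ∀ χ : IrrCharacter G, ∀ d : ℕ, (χ : G → ℂ) 1 = d → d = 1 ∨ d.Prime :=
    fun χ d hd => hprime d ⟨χ, Codegree.charDegree_eq hd⟩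
  have := isSolvable_of_prime hprime'
  suffices ∃ p r : ℕ, ∀ (χ : IrrCharacter G) (s : ℕ), s.Prime → (χ : G → ℂ) 1 = s → s = p ∨ s = r by
    obtain ⟨p, r, h⟩ := this
    have hsub : Cfsg.charDegrees G ⊆ (({1, p, r} : Finset ℕ) : Set ℕ) := by
      rintro d ⟨χ, rfl⟩
      obtain ⟨m, -, hm⟩ := Chars.isIrrCharacter_exists_degree_pos χ.2
      rw [Codegree.charDegree_eq hm, Finset.mem_coe, Finset.mem_insert, Finset.mem_insert,
        Finset.mem_singleton]
      rcases hprime' χ m hm with h1 | h1
      · exact Or.inl h1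
      · exact Or.inr (h χ m h1 hm)
    rw [Nat.card_coe_set_eq]
    refine (Set.ncard_le_ncard hsub (Finset.finite_toSet _)).trans ?_
    rw [Set.ncard_coe_finset]
    exact Finset.card_le_three
  by_cases hc : commutator G = ⊥
  · refine ⟨1, 1, fun χ s hs hχ => ?_⟩
    have : IsMulCommutative G := ⟨⟨fun a b => commutatorElement_eq_one_iff_mul_comm.mp (by
      rw [← Subgroup.mem_bot, ← hc]
      exact Subgroup.commutator_mem_commutator (Subgroup.mem_top a) (Subgroup.mem_top b))⟩⟩
    rw [Chars.irr_apply_one_of_comm, eq_comm, Nat.cast_eq_one] at hχ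
    exact absurd hχ hs.ne_one
  obtain ⟨K, ⟨hKn, hKc⟩, hmax⟩ := (Set.toFinite {K : Subgroup G | K.Normal ∧
    ¬ commutator G ≤ K}).exists_maximal ⟨⊥, inferInstance, fun h => hc (le_bot_iff.mp h)⟩
  have hmap : (commutator G).map (QuotientGroup.mk' K) = commutator (G ⧸ K) := by
    rw [commutator_def, Subgroup.map_commutator,
      Subgroup.map_top_of_surjective _ (QuotientGroup.mk'_surjective K), ← commutator_def]
  have hne : commutator (G ⧸ K) ≠ ⊥ := by
    rw [← hmap, Ne, Subgroup.map_eq_bot_iff, QuotientGroup.ker_mk']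
    exact hKc
  have hmin : ∀ L : Subgroup (G ⧸ K), L.Normal → L ≠ ⊥ → commutator (G ⧸ K) ≤ L := by
    intro L hL hL0
    rw [← hmap, Subgroup.map_le_iff_le_comap]
    by_contra h
    have hKL : K ≤ L.comap (QuotientGroup.mk' K) := fun x hx => by
      rw [Subgroup.mem_comap, QuotientGroup.mk'_apply, (QuotientGroup.eq_one_iff x).mpr hx]
      exact L.one_mem
    have heq := le_antisymm hKL (hmax ⟨hL.comap _, h⟩ hKL)
    refine hL0 ?_
    rw [← Subgroup.map_comap_eq_self_of_surjective (QuotientGroup.mk'_surjective K) L, ← heq,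
      QuotientGroup.map_mk'_self]
  have hq : ∀ χ : IrrCharacter (G ⧸ K), ∀ d : ℕ, (χ : G ⧸ K → ℂ) 1 = d → d = 1 ∨ d.Prime :=
    fun χ d hd => hprime' (Chars.inflate K χ) d hd
  have : Group.IsSolvable (G ⧸ K) := inferInstance
  obtain ⟨p, r, hpr⟩ := two_primes hne hmin hq
  refine ⟨p, r, fun χ s hs hχ => hpr s hs ?_⟩
  by_contra hndvd
  have : Fintype K := Fintype.ofFinite _
  have hirr := CoprimeDegree.resFun_irreducible K χ hχ (by
    rw [Subgroup.index_eq_card]; exact hs.coprime_iff_not_dvd.mpr hndvd)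
  obtain ⟨β, hβ⟩ : ∃ β : IrrCharacter (G ⧸ K), (β : G ⧸ K → ℂ) 1 ≠ 1 := by
    by_contra! h
    refine hne ?_
    rw [commutator_def, Subgroup.commutator_eq_bot_iff_le_centralizer]
    exact fun a _ => Subgroup.mem_centralizer_iff.mpr fun b _ =>
      CoprimeDegree.mul_comm_of_linear h b a
  obtain ⟨b, -, hb⟩ := Chars.isIrrCharacter_exists_degree_pos β.2
  have hb1 : b ≠ 1 := fun h => hβ (by rw [hb, h, Nat.cast_one])
  have hprod := hprime' ⟨_, (Clifford.gallagher χ.2 hirr).1 β⟩ (s * b) (by
    show (χ : G → ℂ) 1 * (Chars.inflate K β : G → ℂ) ((1 : K) : G) = _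
    rw [Clifford.inflate_apply_mem, hχ, hb, Nat.cast_mul])
  rcases hprod with h | h
  · exact hb1 (Nat.eq_one_of_mul_eq_one_left h)
  · exact Nat.not_prime_mul hs.ne_one hb1 h

end Cfsg.Agent.S4813
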