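import Cfsg.Statements.S4469
import Cfsg.Agent.Lib.Jordan.Blichfeldt

set_option autoImplicit false
open Cfsg

namespace Cfsg.Agent.S4469

/-- The classical bound for finite linear groups, in explicit form. Let the finite group G have a faithful character of degree n. Then G has an abelian normal subgroup whose index is at most n! · 12^(n·(π(n+1)+1)), π(k) denoting the number of primes not exceeding k. -/
theorem result {G : Type*} [Group G] [Finite G] (χ : G → ℂ) (hχ : Cfsg.IsCharacter G χ) (hfaith : ∀ g : G, χ g = χ 1 → g = 1) (n : ℕ) (hn : Cfsg.charDegree χ = n) : ∃ A : Subgroup G, A.Normal ∧ (∀ x ∈ A, ∀ y ∈ A, x * y = y * x) ∧ A.index ≤ Nat.factorial n * 12 ^ (n * (Nat.primeCounting (n + 1) + 1)) := by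
  obtain ⟨m, ρ, rfl⟩ := hχ
  have hm : m = n := by
    rw [← hn]
    simp [Cfsg.charDegree]
  subst hm
  have hρ : ∀ g, ρ g = 1 → g = 1 := by
    intro g hg
    apply hfaith
    simp only [Representation.character, hg, map_one]
  obtain ⟨A, hAn, hAc, hA⟩ :=
    Cfsg.Agent.Lib.Jordan.exists_abelian_normal_abelian_index_le ρ hρ
  simp only [Module.finrank_fin_fun] at hA
  refine ⟨A, hAn, hAc, ?_⟩
  -- every prime-part of the index is bounded
  set I := A.index with hI
  have hI0 : I ≠ 0 := Subgroup.index_ne_zero_of_finite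
  set S := (Finset.range (m + 2)).filter Nat.Prime with hS
  have hbound : ∀ p ∈ S, p ^ I.factorization p ≤ p ^ (m.factorial).factorization p * 12 ^ m := by
    intro p hp
    have hpp : p.Prime := (Finset.mem_filter.1 hp).2
    haveI := Fact.mk hpp
    obtain ⟨P⟩ : Nonempty (Sylow p G) := inferInstance
    obtain ⟨B, hB, hBi⟩ := Cfsg.Agent.Lib.Jordan.exists_abelian_index_dvd_factorial
      (ρ.comp (P : Subgroup G).subtype) (fun g hg => Subtype.ext (hρ g hg)) P.isPGroup'
    rw [Module.finrank_fin_fun] at hBi
    have hH := hA (B.map (P : Subgroup G).subtype) (by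
      rintro _ ⟨x, hx, rfl⟩ _ ⟨y, hy, rfl⟩
      simp only [← map_mul]; rw [hB x hx y hy])
    obtain ⟨i, hi⟩ := P.isPGroup'.index B
    have hBle : B.index ≤ p ^ (m.factorial).factorization p := by
      rw [hi] at hBi ⊢
      exact Nat.pow_le_pow_right hpp.pos
        ((hpp.pow_dvd_iff_le_factorization (Nat.factorial_ne_zero m)).1 hBi)
    have h2 : p ^ I.factorization p ≤ A.relIndex (P : Subgroup G) := by
      obtain ⟨j, hj⟩ := P.isPGroup'.index (A.subgroupOf (P : Subgroup G))
      have hj' : A.relIndex (P : Subgroup G) = p ^ j := hj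
      rw [hj']
      refine Nat.pow_le_pow_right hpp.pos ?_
      -- compare p-parts of orders
      have e1 := (A ⊓ (P : Subgroup G)).card_mul_index
      have e2 : Nat.card (A ⊓ (P : Subgroup G) : Subgroup G) * p ^ j = Nat.card (P : Subgroup G) := by
        rw [← hj', ← Subgroup.inf_relIndex_right]
        rw [← Nat.card_congr (Subgroup.subgroupOfEquivOfLe
          (inf_le_right : A ⊓ (P : Subgroup G) ≤ P)).toEquiv]
        exact Subgroup.card_mul_index _
      obtain ⟨k, hk⟩ := (P.isPGroup'.to_le (inf_le_right : A ⊓ (P : Subgroup G) ≤ P)).exists_card_eq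
      rw [hk, P.card_eq_multiplicity, ← pow_add] at e2
      have e3 : k + j = (Nat.card G).factorization p := Nat.pow_right_injective hpp.two_le e2
      have e4 : k ≤ (Nat.card A).factorization p :=
        (hpp.pow_dvd_iff_le_factorization Nat.card_pos.ne').1
          (hk ▸ Subgroup.card_dvd_of_le inf_le_left)
      have e5 := congrArg (fun t => t.factorization p) A.card_mul_index
      rw [← hI] at e5
      simp only [Nat.factorization_mul (Nat.card_pos : 0 < Nat.card A).ne' hI0,
        Finsupp.add_apply] at e5
      omega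
    have h3 : A.relIndex (P : Subgroup G) ≤
        A.relIndex (B.map (P : Subgroup G).subtype) * B.index := by
      have e := Subgroup.relIndex_mul_relIndex (A ⊓ B.map (P : Subgroup G).subtype)
        (B.map (P : Subgroup G).subtype) (P : Subgroup G) inf_le_right (Subgroup.map_subtype_le B)
      rw [Subgroup.inf_relIndex_right] at e
      have e' : (B.map (P : Subgroup G).subtype).relIndex (P : Subgroup G) = B.index := by
        rw [Subgroup.relIndex, Subgroup.subgroupOf,
          Subgroup.comap_map_eq_self_of_injective (P : Subgroup G).subtype_injective]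
      rw [e'] at e
      rw [e]
      exact Nat.le_of_dvd (Nat.pos_of_ne_zero Subgroup.index_ne_zero_of_finite)
        (Subgroup.relIndex_dvd_of_le_left _ inf_le_left)
    calc p ^ I.factorization p ≤ _ := h2
      _ ≤ _ := h3
      _ ≤ 12 ^ m * p ^ (m.factorial).factorization p := Nat.mul_le_mul hH hBle
      _ = _ := mul_comm _ _
  -- the part for large primes
  obtain ⟨A', hA'c, hA'p, hA'i⟩ :=
    Cfsg.Agent.Lib.Jordan.exists_abelian_hall_large_primes ρ hρ
  have hlarge : ∏ p ∈ I.primeFactors \ S, p ^ I.factorization p ≤ 12 ^ m := by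
    refine le_trans (Nat.le_of_dvd (Nat.pos_of_ne_zero Subgroup.index_ne_zero_of_finite) ?_) (hA A' hA'c)
    show _ ∣ A.relIndex A'
    refine Finset.prod_dvd_of_isRelPrime ?_ ?_
    · intro p hp q hq hpq
      exact Nat.coprime_iff_isRelPrime.1 <| Nat.Coprime.pow _ _ ((Nat.coprime_primes
        (Nat.prime_of_mem_primeFactors (Finset.mem_sdiff.1 hp).1)
        (Nat.prime_of_mem_primeFactors (Finset.mem_sdiff.1 hq).1)).2 hpq)
    · intro p hp
      obtain ⟨hp1, hp2⟩ := Finset.mem_sdiff.1 hp
      have hpp := Nat.prime_of_mem_primeFactors hp1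
      have hbig : m + 1 < p := by
        by_contra h
        exact hp2 (Finset.mem_filter.2 ⟨Finset.mem_range.2 (by omega), hpp⟩)
      -- I divides index of the intersection
      have e : I ∣ (A ⊓ A').index := Subgroup.index_dvd_of_le inf_le_left
      rw [← Subgroup.relIndex_mul_index (inf_le_right : A ⊓ A' ≤ A'),
        Subgroup.inf_relIndex_right] at e
      refine (Nat.Coprime.pow_left _ ((Nat.Prime.coprime_iff_not_dvd hpp).2 fun h => ?_)
        ).dvd_of_dvd_mul_right ((Nat.ordProj_dvd I p).trans e)
      have := hA'i p hpp h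
      omega
  have hsmall : ∏ p ∈ S, p ^ I.factorization p ≤ m.factorial * 12 ^ (m * Nat.primeCounting (m + 1)) := by
    refine (Finset.prod_le_prod' hbound).trans ?_
    rw [Finset.prod_mul_distrib, Finset.prod_const]
    refine Nat.mul_le_mul ?_ ?_
    · refine Nat.le_of_dvd (Nat.factorial_pos m) ?_
      refine Finset.prod_dvd_of_isRelPrime ?_ (fun p _ => Nat.ordProj_dvd _ _)
      intro p hp q hq hpq
      exact Nat.coprime_iff_isRelPrime.1 <| Nat.Coprime.pow _ _ ((Nat.coprime_primes (Finset.mem_filter.1 hp).2
        (Finset.mem_filter.1 hq).2).2 hpq)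
    · rw [← pow_mul, hS, ← Nat.count_eq_card_filter_range]
      exact le_rfl
  calc I = ∏ p ∈ I.primeFactors, p ^ I.factorization p :=
        Nat.prod_primeFactors_pow_factorization hI0
    _ = ∏ p ∈ S ∪ (I.primeFactors \ S), p ^ I.factorization p := by
        refine Finset.prod_subset (fun p hp => ?_) (fun p _ hp => ?_)
        · by_cases h : p ∈ S
          · exact Finset.mem_union_left _ h
          · exact Finset.mem_union_right _ (Finset.mem_sdiff.2 ⟨hp, h⟩)
        · rw [Finsupp.notMem_support_iff.1 (by rwa [Nat.support_factorization]), pow_zero]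
    _ = (∏ p ∈ S, p ^ I.factorization p) * ∏ p ∈ I.primeFactors \ S, p ^ I.factorization p :=
        Finset.prod_union Finset.disjoint_sdiff
    _ ≤ (m.factorial * 12 ^ (m * Nat.primeCounting (m + 1))) * 12 ^ m := Nat.mul_le_mul hsmall hlarge
    _ = _ := by rw [mul_assoc, ← pow_add, mul_add, mul_one]

end Cfsg.Agent.S4469
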