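import Cfsg.Statements.S4476
-- import your own Cfsg.Agent.* helpers here
import Cfsg.Agent.Lib.Chars.Real
import Cfsg.Agent.Lib.Chars.Indicator

set_option autoImplicit false
open Cfsg

namespace Cfsg.Agent.S4476

open Cfsg.Agent.Lib.Chars

theorem charDegree_cast_re {G : Type*} [Group G] [Fintype G] (χ : Cfsg.IrrCharacter G) :
    0 < Cfsg.charDegree (χ : G → ℂ) ∧ (χ : G → ℂ) 1 = (Cfsg.charDegree (χ : G → ℂ) : ℂ) := by
  obtain ⟨n, hn, h⟩ := isIrrCharacter_exists_degree_pos χ.2
  have : Cfsg.charDegree (χ : G → ℂ) = n := by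
    rw [Cfsg.charDegree, h, Complex.natCast_re, Nat.floor_natCast]
  rw [this]
  exact ⟨hn, h⟩

/-- Let G be a finite group of even order g with exactly t involutions, and put α = (g − 1)/t (a rational number). Then (a) some non-identity element x of G has at most α² conjugates; and (b) some non-principal real-valued irreducible character of G has degree at most α. -/
theorem result {G : Type*} [Group G] [Fintype G] (heven : Even (Nat.card G)) (t : ℕ) (ht : Nat.card {x : G // orderOf x = 2} = t) : (∃ x : G, x ≠ 1 ∧ ((Subgroup.centralizer ({x} : Set G)).index : ℚ) ≤ (((Nat.card G : ℚ) - 1) / t) ^ 2) ∧ ∃ χ : Cfsg.IrrCharacter G, (χ : G → ℂ) ≠ (fun _ => 1) ∧ (∀ g : G, ((χ : G → ℂ) g).im = 0) ∧ (Cfsg.charDegree (χ : G → ℂ) : ℚ) ≤ ((Nat.card G : ℚ) - 1) / t := by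
  classical
  set n := Nat.card G with hn
  have htpos : 0 < t := by
    have : Fact (Nat.Prime 2) := ⟨Nat.prime_two⟩
    obtain ⟨x, hx⟩ := exists_prime_orderOf_dvd_card' 2 (even_iff_two_dvd.mp heven)
    rw [← ht]
    haveI : Nonempty {x : G // orderOf x = 2} := ⟨⟨x, hx⟩⟩
    exact Nat.card_pos
  set d : Cfsg.IrrCharacter G → ℕ := fun χ => Cfsg.charDegree (χ : G → ℂ) with hd
  have hd1 : ∀ χ : Cfsg.IrrCharacter G, (χ : G → ℂ) 1 = (d χ : ℂ) := fun χ =>
    (charDegree_cast_re χ).2
  set T : Cfsg.IrrCharacter G := trivialIrr G with hT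
  set ν : Cfsg.IrrCharacter G → ℂ := fun χ =>
    (Nat.card G : ℂ)⁻¹ * ∑ s : G, (χ : G → ℂ) (s * s) with hνdef
  have hνT : ν T = 1 := by
    show (Nat.card G : ℂ)⁻¹ * ∑ s : G, (1 : ℂ) = 1
    rw [Finset.sum_const, Finset.card_univ, Fintype.card_eq_nat_card, nsmul_one,
      inv_mul_cancel₀ (Nat.cast_ne_zero.mpr Nat.card_pos.ne')]
  have hdT : d T = 1 := by
    have := hd1 T
    simp only [hT, trivialIrr_apply] at this
    exact_mod_cast this.symm
  have hν : ∀ χ, (ν χ).re ≤ if (∀ g : G, ((χ : G → ℂ) g).im = 0) then 1 else 0 := by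
    intro χ
    obtain ⟨m, ρ, hρ, hχ⟩ := χ.2
    have := hρ
    obtain ⟨h, h0⟩ := indicator_trichotomy ρ
    rw [hχ] at h h0
    change ((Nat.card G : ℂ)⁻¹ * ∑ s : G, (χ : G → ℂ) (s * s)).re ≤ _
    split
    · rcases h with h | h | h <;> rw [h] <;> norm_num
    · next hr =>
      push Not at hr
      rw [h0.mpr hr]; norm_num
  set R : Finset (Cfsg.IrrCharacter G) :=
    Finset.univ.filter (fun χ => χ ≠ T ∧ ∀ g : G, ((χ : G → ℂ) g).im = 0) with hR
  -- counting involutions
  have hsq : Nat.card {s : G // s * s = 1} = t + 1 := by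
    rw [← ht, Nat.card_eq_fintype_card, Nat.card_eq_fintype_card, Fintype.card_subtype,
      Fintype.card_subtype]
    have : (Finset.univ.filter fun s : G => s * s = 1)
        = insert 1 (Finset.univ.filter fun x : G => orderOf x = 2) := by
      ext x
      have hp : orderOf x = 2 ↔ x ^ 2 = 1 ∧ x ≠ 1 :=
        haveI : Fact (Nat.Prime 2) := ⟨Nat.prime_two⟩
        orderOf_eq_prime_iff
      simp only [Finset.mem_filter, Finset.mem_univ, true_and, Finset.mem_insert, hp, pow_two]
      by_cases hx : x = 1 <;> simp [hx]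
    rw [this, Finset.card_insert_of_notMem (by simp)]
  have hA : (t : ℝ) ≤ ∑ χ ∈ R, (d χ : ℝ) := by
    have h := congrArg Complex.re (card_sq_eq_one (G := G))
    simp only [hsq, hd1, Complex.natCast_re, Complex.re_sum] at h
    rw [← Finset.add_sum_erase _ _ (Finset.mem_univ T)] at h
    have h2 : ∑ χ ∈ Finset.univ.erase T, (ν χ * (d χ : ℂ)).re ≤ ∑ χ ∈ R, (d χ : ℝ) := by
      rw [show R = (Finset.univ.erase T).filter
        (fun χ : Cfsg.IrrCharacter G => ∀ g : G, ((χ : G → ℂ) g).im = 0) by ext χ; simp [hR], Finset.sum_filter]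
      refine Finset.sum_le_sum fun χ _ => ?_
      rw [← Complex.ofReal_natCast, Complex.re_mul_ofReal]
      refine le_trans (mul_le_mul_of_nonneg_right (hν χ) (Nat.cast_nonneg _)) ?_
      split <;> simp
    have hT1 : (ν T * (d T : ℂ)).re = 1 := by simp [hνT, hdT]
    push_cast at h
    linarith
  have hB : ∑ χ ∈ R, (d χ : ℝ) ^ 2 ≤ (n : ℝ) - 1 := by
    have h : ∑ χ : Cfsg.IrrCharacter G, (d χ : ℝ) ^ 2 = n := by
      have h := sum_degree_sq (G := G)
      simp only [hd1] at h
      exact_mod_cast h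
    rw [← Finset.add_sum_erase _ _ (Finset.mem_univ T), hdT] at h
    have : ∑ χ ∈ R, (d χ : ℝ) ^ 2 ≤ ∑ χ ∈ Finset.univ.erase T, (d χ : ℝ) ^ 2 :=
      Finset.sum_le_sum_of_subset_of_nonneg
        (fun χ hχ => Finset.mem_erase.mpr ⟨(Finset.mem_filter.mp hχ).2.1, Finset.mem_univ _⟩)
        fun _ _ _ => sq_nonneg _
    push_cast at h
    linarith
  have htR : (0 : ℝ) < t := Nat.cast_pos.mpr htpos
  -- a small real character
  have hchar : ∃ χ ∈ R, (d χ : ℝ) * t ≤ (n : ℝ) - 1 := by
    by_contra hc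
    push Not at hc
    have hne : R.Nonempty := by
      rw [Finset.nonempty_iff_ne_empty]
      intro h
      rw [h, Finset.sum_empty] at hA
      linarith
    have h1 : ∑ χ ∈ R, (d χ : ℝ) * ((n : ℝ) - 1) < ∑ χ ∈ R, (d χ : ℝ) ^ 2 * t :=
      Finset.sum_lt_sum_of_nonempty hne fun χ hχ => by
        have hpos : (0 : ℝ) < d χ := Nat.cast_pos.mpr (charDegree_cast_re χ).1
        rw [pow_two, mul_assoc]
        exact mul_lt_mul_of_pos_left (hc χ hχ) hpos
    rw [← Finset.sum_mul, ← Finset.sum_mul] at h1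
    have hn1 : (0 : ℝ) ≤ (n : ℝ) - 1 := le_trans (Finset.sum_nonneg fun _ _ => sq_nonneg _) hB
    nlinarith [mul_le_mul_of_nonneg_right hA hn1, mul_le_mul_of_nonneg_right hB htR.le]
  -- few classes
  have hcs : (t : ℝ) ^ 2 ≤ (((Nat.card (ConjClasses G) : ℕ) : ℝ) - 1) * ((n : ℝ) - 1) := by
    refine le_trans (pow_le_pow_left₀ htR.le hA 2) (le_trans sq_sum_le_card_mul_sum_sq ?_)
    have hcard : (R.card : ℝ) + 1 ≤ Nat.card (ConjClasses G) := by
      have h : (insert T R).card ≤ Fintype.card (Cfsg.IrrCharacter G) := Finset.card_le_univ _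
      rw [Finset.card_insert_of_notMem (by simp [hR]), Fintype.card_eq_nat_card,
        card_irrCharacter] at h
      exact_mod_cast h
    exact mul_le_mul (by linarith) hB (Finset.sum_nonneg fun _ _ => sq_nonneg _)
      (by linarith [(Nat.cast_nonneg R.card : (0 : ℝ) ≤ R.card)])
  refine ⟨?_, ?_⟩
  · by_contra hc
    push Not at hc
    let := Fintype.ofFinite (ConjClasses G)
    have hfib := Finset.card_eq_sum_card_fiberwise
      (f := ConjClasses.mk) (s := (Finset.univ : Finset G).erase 1)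
      (t := (Finset.univ : Finset (ConjClasses G)).erase (ConjClasses.mk 1))
      (fun x hx => by
        simp only [Finset.coe_erase, Set.mem_sdiff, Set.mem_singleton_iff, Finset.coe_univ,
          Set.mem_univ, true_and] at hx ⊢
        rw [ConjClasses.mk_eq_mk_iff_isConj, isConj_one_left]
        exact fun h => hx h)
    rw [Finset.card_erase_of_mem (Finset.mem_univ _), Finset.card_univ,
      Fintype.card_eq_nat_card] at hfib
    set B : ℚ := (((n : ℚ) - 1) / t) ^ 2 with hBdef
    set Cs := (Finset.univ : Finset (ConjClasses G)).erase (ConjClasses.mk 1) with hCs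
    have hbig : ∀ C ∈ Cs, B < (((Finset.univ.erase (1 : G)).filter
        fun x => ConjClasses.mk x = C).card : ℚ) := by
      intro C hC
      obtain ⟨g, rfl⟩ := ConjClasses.exists_rep C
      have hg : g ≠ 1 := fun h => (Finset.mem_erase.mp hC).1 (congrArg ConjClasses.mk h)
      refine lt_of_lt_of_eq (hc g hg) ?_
      rw [← card_conjClass_eq_index, ← Fintype.card_coe, Fintype.card_eq_nat_card]
      congr 1
      refine Nat.card_congr (Equiv.subtypeEquivRight fun x => ?_)
      simp only [Finset.mem_filter, Finset.mem_erase, Finset.mem_univ, and_true,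
        ConjClasses.mk_eq_mk_iff_isConj]
      refine ⟨fun h => ⟨?_, h.symm⟩, fun h => h.2.symm⟩
      rintro rfl
      exact hg (isConj_one_left.mp h)
    have hk : ((Nat.card (ConjClasses G) : ℕ) : ℚ) - 1 = (Cs.card : ℚ) := by
      rw [hCs, Finset.card_erase_of_mem (Finset.mem_univ _), Finset.card_univ,
        Fintype.card_eq_nat_card, Nat.cast_sub Nat.card_pos, Nat.cast_one]
    have hn1 : ((n : ℚ) - 1) = ((n - 1 : ℕ) : ℚ) := by
      rw [Nat.cast_sub Nat.card_pos, Nat.cast_one]
    have hcs' : (t : ℚ) ^ 2 ≤ (Cs.card : ℚ) * ((n : ℚ) - 1) := by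
      rw [← hk]; exact_mod_cast hcs
    have hne : Cs.Nonempty := by
      rw [← Finset.card_pos, Nat.pos_iff_ne_zero]
      intro h
      rw [h, Nat.cast_zero, zero_mul] at hcs'
      have : (0 : ℚ) < (t : ℚ) ^ 2 := by positivity
      linarith
    have hlt := Finset.sum_lt_sum_of_nonempty hne hbig
    rw [Finset.sum_const, nsmul_eq_mul, ← Nat.cast_sum, ← hfib, ← hn1, hBdef, div_pow,
      ← mul_div_assoc, div_lt_iff₀ (by positivity)] at hlt
    have hn0 : (0 : ℚ) ≤ (n : ℚ) - 1 := by rw [hn1]; positivity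
    nlinarith [mul_le_mul_of_nonneg_left hcs' hn0]
  · obtain ⟨χ, hχ, hle⟩ := hchar
    obtain ⟨hχT, hreal⟩ := (Finset.mem_filter.mp hχ).2
    refine ⟨χ, fun h => hχT (Subtype.ext h), hreal, ?_⟩
    rw [le_div_iff₀ (Nat.cast_pos.mpr htpos)]
    exact_mod_cast hle

end Cfsg.Agent.S4476
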