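import Cfsg.Statements.S4477
-- import your own Cfsg.Agent.* helpers here
import Cfsg.Agent.Lib.Chars.Real
import Cfsg.Agent.Lib.Chars.Indicator
import Cfsg.Agent.Lib.Chars.Integral

set_option autoImplicit false
open Cfsg

namespace Cfsg.Agent.S4477

open Cfsg.Agent.Lib.Chars
open scoped ComplexConjugate

section
variable {G : Type*} [Group G] [Finite G]

open scoped Classical in
/-- The sign homomorphism of a subgroup of index two. -/
noncomputable def signOfIndexTwo (M : Subgroup G) (hM : M.index = 2) : G →* ℂˣ where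
  toFun g := if g ∈ M then 1 else -1
  map_one' := by simp
  map_mul' a b := by
    rw [if_congr (Subgroup.mul_mem_iff_of_index_two hM (a := a) (b := b)) rfl rfl]
    by_cases ha : a ∈ M <;> by_cases hb : b ∈ M <;> simp [ha, hb]

theorem signOfIndexTwo_mem (M : Subgroup G) (hM : M.index = 2) (g : G) :
    signOfIndexTwo M hM g = 1 ↔ g ∈ M := by
  classical
  show (if g ∈ M then (1 : ℂˣ) else -1) = 1 ↔ _
  split
  · next h => simp [h]
  · next h =>
    simp only [h, iff_false]
    intro he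
    have := congrArg (Units.val) he
    norm_num at this

theorem exists_two_signs (hG : IsPGroup 2 G) (hcyc : ¬ IsCyclic G) :
    ∃ a b : G →* ℂˣ, a ^ 2 = 1 ∧ b ^ 2 = 1 ∧ a ≠ 1 ∧ b ≠ 1 ∧ a ≠ b := by
  have : Fact (Nat.Prime 2) := ⟨Nat.prime_two⟩
  have hidx : ∀ M : Subgroup G, IsCoatom M → M.index = 2 := by
    intro M hM
    obtain ⟨N, hN⟩ := IsPGroup.iff_card.mp hG
    obtain ⟨j, hj⟩ := IsPGroup.iff_card.mp (hG.to_subgroup M)
    have hlt : Nat.card M < Nat.card G := by
      refine lt_of_le_of_ne (Subgroup.card_le_card_group M) fun h => hM.1 ?_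
      exact Subgroup.eq_top_of_card_eq M h
    rw [hN, hj] at hlt
    have hjN : j < N := (Nat.pow_lt_pow_iff_right (by norm_num)).mp hlt
    obtain ⟨K, hK, hle⟩ := Sylow.exists_subgroup_card_pow_succ (p := 2) (n := j)
      (hN ▸ pow_dvd_pow 2 hjN) hj
    have hKtop : K = ⊤ := hM.2 K (lt_of_le_of_ne hle fun h => by
      rw [← h, hj] at hK
      exact absurd (Nat.pow_right_injective le_rfl hK) (by omega))
    rw [hKtop, Subgroup.card_top, hN] at hK
    have := Subgroup.card_mul_index M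
    rw [hj, hN, hK, pow_succ] at this
    exact Nat.eq_of_mul_eq_mul_left (by positivity) this
  have hsq : ∀ (M : Subgroup G) (hM : M.index = 2), signOfIndexTwo M hM ^ 2 = 1 := by
    intro M hM
    classical
    refine MonoidHom.ext fun g => ?_
    show (if g ∈ M then (1 : ℂˣ) else -1) ^ 2 = 1
    split <;> simp
  have hne1 : ∀ (M : Subgroup G) (hM : M.index = 2), signOfIndexTwo M hM ≠ 1 := by
    intro M hM h
    have : M = ⊤ := (Subgroup.eq_top_iff' M).mpr fun g => by
      rw [← signOfIndexTwo_mem M hM g, h, MonoidHom.one_apply]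
    rw [this, Subgroup.index_top] at hM
    exact absurd hM (by norm_num)
  have hnt : (⊥ : Subgroup G) ≠ ⊤ := fun h => hcyc <| by
    haveI : Subsingleton G := Subgroup.subsingleton_iff.mp (subsingleton_of_bot_eq_top h)
    infer_instance
  obtain ⟨M₁, hM₁, -⟩ := (eq_top_or_exists_le_coatom (⊥ : Subgroup G)).resolve_left hnt
  obtain ⟨x, hx⟩ : ∃ x, x ∉ M₁ := by
    by_contra h
    push Not at h
    exact hM₁.1 ((Subgroup.eq_top_iff' _).mpr h)
  obtain ⟨M₂, hM₂, hx₂⟩ := (eq_top_or_exists_le_coatom (Subgroup.zpowers x)).resolve_left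
    fun h => hcyc ⟨x, fun y => by
      have : y ∈ Subgroup.zpowers x := h ▸ Subgroup.mem_top y
      exact this⟩
  refine ⟨_, _, hsq _ (hidx _ hM₁), hsq _ (hidx _ hM₂), hne1 _ _, hne1 _ _, fun h => hx ?_⟩
  rw [← signOfIndexTwo_mem M₁ (hidx _ hM₁) x, h, signOfIndexTwo_mem]
  exact hx₂ (Subgroup.mem_zpowers x)

end

/-- Let G be a finite 2-group whose number of involutions is congruent to 1 modulo 4. Then G is cyclic or its commutator subgroup has index 4. -/
theorem result {G : Type*} [Group G] [Finite G] (hG : IsPGroup 2 G) (ht : Nat.card {x : G // orderOf x = 2} % 4 = 1) : IsCyclic G ∨ (commutator G).index = 4 := by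
  classical
  cases nonempty_fintype G
  have : Fact (Nat.Prime 2) := ⟨Nat.prime_two⟩
  rw [or_iff_not_imp_left]
  intro hcyc
  haveI : Finite (G →* ℂˣ) := Nat.finite_of_card_ne_zero (by
    rw [card_monoidHom_units]; exact Subgroup.index_ne_zero_of_finite)
  cases nonempty_fintype (G →* ℂˣ)
  -- the elementary group of real linear characters
  let L₂ : Subgroup (G →* ℂˣ) := (powMonoidHom 2).ker
  have hmem : ∀ a : G →* ℂˣ, a ∈ L₂ ↔ a ^ 2 = 1 := fun a => MonoidHom.mem_ker
  have hL₂ : IsPGroup 2 L₂ := fun a => ⟨1, Subtype.ext (by simpa using (hmem _).mp a.2)⟩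
  have hfour : 4 ∣ Nat.card L₂ := by
    obtain ⟨k, hk⟩ := IsPGroup.iff_card.mp hL₂
    obtain ⟨a, b, ha, hb, ha1, hb1, hab⟩ := exists_two_signs hG hcyc
    have h3 : 2 < Nat.card L₂ := by
      rw [Nat.card_eq_fintype_card]
      exact Fintype.two_lt_card_iff.mpr ⟨1, ⟨a, (hmem a).mpr ha⟩, ⟨b, (hmem b).mpr hb⟩,
        fun h => ha1 (congrArg Subtype.val h).symm, fun h => hb1 (congrArg Subtype.val h).symm,
        fun h => hab (congrArg Subtype.val h)⟩
    rw [hk] at h3 ⊢
    have h2k : 2 ≤ k := by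
      by_contra h
      interval_cases k <;> norm_num at h3
    exact pow_dvd_pow 2 h2k
  have hlinreal : ∀ a : G →* ℂˣ, a ^ 2 = 1 ↔ ∀ g, ((linIrr a : G → ℂ) g).im = 0 := by
    intro a
    constructor
    · intro h g
      have h1 : ((a g : ℂˣ) : ℂ) * (a g : ℂˣ) = 1 := by
        rw [← Units.val_mul, ← sq, ← MonoidHom.pow_apply, h, MonoidHom.one_apply, Units.val_one]
      show ((a g : ℂˣ) : ℂ).im = 0
      rcases mul_self_eq_one_iff.mp h1 with h | h <;> simp [h]
    · intro h
      refine MonoidHom.ext fun g => Units.ext ?_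
      rw [MonoidHom.pow_apply, MonoidHom.one_apply, Units.val_pow_eq_pow_val, Units.val_one, sq]
      have hn := Complex.mul_conj (a g : ℂ)
      rw [Complex.conj_eq_iff_im.mpr (show ((a g : ℂˣ) : ℂ).im = 0 from h g),
        Complex.normSq_eq_norm_sq, norm_hom_apply] at hn
      simpa using hn
  -- degrees
  have hdeg : ∀ χ : Cfsg.IrrCharacter G, ∃ k : ℕ, (χ : G → ℂ) 1 = ((2 ^ k : ℕ) : ℂ) := by
    intro χ
    obtain ⟨n, -, hn, hdvd⟩ := irr_degree_dvd_card χ
    obtain ⟨N, hN⟩ := IsPGroup.iff_card.mp hG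
    rw [hN, Nat.dvd_prime_pow Nat.prime_two] at hdvd
    obtain ⟨k, -, rfl⟩ := hdvd
    exact ⟨k, hn⟩
  choose k hk using hdeg
  -- integral indicators
  have hind : ∀ χ : Cfsg.IrrCharacter G, ∃ e : ℤ,
      (Nat.card G : ℂ)⁻¹ * ∑ s : G, (χ : G → ℂ) (s * s) = e ∧
        (((∀ g, ((χ : G → ℂ) g).im = 0) ∧ (e = 1 ∨ e = -1)) ∨
          (¬ (∀ g, ((χ : G → ℂ) g).im = 0) ∧ e = 0)) := by
    intro χ
    obtain ⟨m, ρ, hρ, hχ⟩ := χ.2
    have := hρ
    obtain ⟨h, h0⟩ := indicator_trichotomy ρ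
    rw [hχ] at h h0
    by_cases hr : ∀ g, ((χ : G → ℂ) g).im = 0
    · rcases h with h | h | h
      · obtain ⟨s, hs⟩ := h0.mp h
        exact absurd (hr s) hs
      · exact ⟨1, by simpa using h, Or.inl ⟨hr, Or.inl rfl⟩⟩
      · exact ⟨-1, by simpa using h, Or.inl ⟨hr, Or.inr rfl⟩⟩
    · exact ⟨0, by simpa using h0.mpr (not_forall.mp hr), Or.inr ⟨hr, rfl⟩⟩
  choose e he hcase using hind
  have hA1 : ∀ χ : Cfsg.IrrCharacter G, (χ : G → ℂ) 1 = 1 →
      (∀ g, ((χ : G → ℂ) g).im = 0) → e χ = 1 := by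
    intro χ h1 hr
    obtain ⟨a, ha⟩ := exists_hom_of_degree_one (irr_isCharacter χ) h1
    have h2 : a ^ 2 = 1 := (hlinreal a).mpr fun g => by
      have := hr g
      rwa [ha] at this
    have h := he χ
    rw [ha] at h
    simp only [← sq, map_pow, ← MonoidHom.pow_apply, h2, MonoidHom.one_apply, Units.val_one,
      Finset.sum_const, Finset.card_univ, Fintype.card_eq_nat_card, nsmul_one,
      inv_mul_cancel₀ (natCard_ne_zero (G := G))] at h
    exact_mod_cast h.symm
  let S := {χ : Cfsg.IrrCharacter G // (χ : G → ℂ) 1 = 2 ∧ ∀ g, ((χ : G → ℂ) g).im = 0}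
  have hSodd : ¬ 2 ∣ Nat.card S := by
    have hsq : Nat.card {s : G // s * s = 1} = Nat.card {x : G // orderOf x = 2} + 1 := by
      rw [Nat.card_eq_fintype_card, Nat.card_eq_fintype_card, Fintype.card_subtype,
        Fintype.card_subtype]
      have : (Finset.univ.filter fun s : G => s * s = 1)
          = insert 1 (Finset.univ.filter fun x : G => orderOf x = 2) := by
        ext x
        have hp : orderOf x = 2 ↔ x ^ 2 = 1 ∧ x ≠ 1 := orderOf_eq_prime_iff
        simp only [Finset.mem_filter, Finset.mem_univ, true_and, Finset.mem_insert, hp, pow_two]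
        by_cases hx : x = 1 <;> simp [hx]
      rw [this, Finset.card_insert_of_notMem (by simp)]
    have h := card_sq_eq_one (G := G)
    simp only [hsq, he, hk] at h
    have hz : ((Nat.card {x : G // orderOf x = 2} + 1 : ℕ) : ℤ)
        = ∑ χ, e χ * ((2 ^ k χ : ℕ) : ℤ) := by exact_mod_cast h
    have hterm : ∀ χ : Cfsg.IrrCharacter G, ((e χ * ((2 ^ k χ : ℕ) : ℤ) : ℤ) : ZMod 4)
        = (if (χ : G → ℂ) 1 = 1 ∧ (∀ g, ((χ : G → ℂ) g).im = 0) then 1 else 0)
          + 2 * (if (χ : G → ℂ) 1 = 2 ∧ (∀ g, ((χ : G → ℂ) g).im = 0) then 1 else 0) := by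
      intro χ
      rcases hcase χ with ⟨hr, hee⟩ | ⟨hr, hee⟩
      · rcases (show k χ = 0 ∨ k χ = 1 ∨ 2 ≤ k χ by omega) with h | h | h
        · have h1 : (χ : G → ℂ) 1 = 1 := by rw [hk, h]; simp
          have h2 : ¬ (χ : G → ℂ) 1 = 2 := by rw [h1]; norm_num
          rw [if_pos ⟨h1, hr⟩, if_neg (fun q => h2 q.1), hA1 χ h1 hr, h]
          simp
        · have h2 : (χ : G → ℂ) 1 = 2 := by rw [hk, h]; simp
          have h1 : ¬ (χ : G → ℂ) 1 = 1 := by rw [h2]; norm_num
          rw [if_neg (fun q => h1 q.1), if_pos ⟨h2, hr⟩, h]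
          rcases hee with hee | hee <;> rw [hee] <;> decide
        · have h1 : ¬ (χ : G → ℂ) 1 = 1 := by
            rw [hk, Nat.cast_eq_one]
            exact ne_of_gt (Nat.one_lt_two_pow (by omega))
          have h2 : ¬ (χ : G → ℂ) 1 = 2 := by
            rw [hk]
            intro hq
            have : 2 ^ k χ = 2 := by exact_mod_cast hq
            have : 2 ^ 2 ≤ 2 ^ k χ := Nat.pow_le_pow_right (by norm_num) h
            omega
          rw [if_neg (fun q => h1 q.1), if_neg (fun q => h2 q.1)]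
          obtain ⟨c, hc⟩ := pow_dvd_pow 2 h
          rw [hc]
          push_cast
          rw [show (4 : ZMod 4) = 0 from rfl, zero_mul, mul_zero]
          simp
      · rw [if_neg (fun q => hr q.2), if_neg (fun q => hr q.2), hee]
        simp
    have h4 := congrArg (Int.cast : ℤ → ZMod 4) hz
    rw [Int.cast_natCast, Int.cast_sum, Finset.sum_congr rfl fun χ _ => hterm χ,
      Finset.sum_add_distrib, ← Finset.mul_sum, Finset.sum_boole, Finset.sum_boole,
      ← Fintype.card_subtype, ← Fintype.card_subtype, Fintype.card_eq_nat_card,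
      Fintype.card_eq_nat_card] at h4
    have hlin : Nat.card {χ : Cfsg.IrrCharacter G //
        (χ : G → ℂ) 1 = 1 ∧ ∀ g, ((χ : G → ℂ) g).im = 0} = Nat.card L₂ := by
      refine (Nat.card_congr (Equiv.ofBijective
        (fun a : L₂ => (⟨linIrr (a : G →* ℂˣ), by simp [linIrr],
          (hlinreal _).mp ((hmem _).mp a.2)⟩ : {χ : Cfsg.IrrCharacter G //
            (χ : G → ℂ) 1 = 1 ∧ ∀ g, ((χ : G → ℂ) g).im = 0})) ⟨fun a b h => Subtype.ext
          (linIrr_injective (congrArg Subtype.val h)), fun ⟨χ, h1, hr⟩ => ?_⟩)).symm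
      obtain ⟨a, ha⟩ := exists_hom_of_degree_one (irr_isCharacter χ) h1
      refine ⟨⟨a, (hmem a).mpr ((hlinreal a).mpr fun g => ?_)⟩, Subtype.ext (Subtype.ext ha.symm)⟩
      have := hr g
      rwa [ha] at this
    rw [hlin, (CharP.cast_eq_zero_iff (ZMod 4) 4 _).mpr hfour, zero_add] at h4
    rintro ⟨c, hc⟩
    rw [show Nat.card {χ : Cfsg.IrrCharacter G // (χ : G → ℂ) 1 = 2 ∧
      ∀ g, ((χ : G → ℂ) g).im = 0} = 2 * c from hc] at h4
    push_cast at h4
    rw [← mul_assoc, show (2 : ZMod 4) * 2 = 0 from rfl, zero_mul] at h4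
    have h5 : ((Nat.card {x : G // orderOf x = 2} + 1 : ℕ) : ZMod 4) = 0 := by
      push_cast; exact h4
    rw [CharP.cast_eq_zero_iff (ZMod 4) 4] at h5
    omega
  -- stabilisers have order at most four
  have hstab : ∀ (χ : S) (A : Finset (G →* ℂˣ)),
      (∀ a ∈ A, ∀ g, ((a g : ℂˣ) : ℂ) * (χ.1 : G → ℂ) g = (χ.1 : G → ℂ) g) → A.card ≤ 4 := by
    intro χ A hA
    set c : G → ℂ := (χ.1 : G → ℂ) * (fun g => conj ((χ.1 : G → ℂ) g)) with hc
    obtain ⟨m, hm⟩ := isCharacter_exists_nat_decomp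
      (isCharacter_mul (irr_isCharacter χ.1) (isCharacter_star (irr_isCharacter χ.1)))
    rw [← hc] at hm
    have hma : ∀ a ∈ A, m (linIrr a) = 1 := by
      intro a ha
      have h1 : classInner c (linIrr a : G → ℂ) = 1 := by
        rw [← classInner_irr_self χ.1]
        simp only [classInner]
        congr 1
        refine Finset.sum_congr rfl fun g _ => ?_
        conv_rhs => arg 2; rw [← hA a ha g]
        rw [hc, Pi.mul_apply, map_mul]
        show _ * conj ((a g : ℂˣ) : ℂ) = _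
        ring
      rw [hm, classInner_sum_smul_irr] at h1
      exact_mod_cast h1
    have htot : ∑ ψ, m ψ * 2 ^ k ψ = 4 := by
      have h1 := congrFun hm 1
      simp only [hc, Pi.mul_apply, χ.2.1, Finset.sum_apply, Pi.smul_apply, smul_eq_mul, map_ofNat] at h1
      simp only [hk] at h1
      have : ((∑ ψ, m ψ * 2 ^ k ψ : ℕ) : ℂ) = ((4 : ℕ) : ℂ) := by
        push_cast at h1 ⊢; rw [← h1]; norm_num
      exact_mod_cast this
    rw [← htot, ← Finset.card_image_of_injective A linIrr_injective, Finset.card_eq_sum_ones]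
    refine le_trans (Finset.sum_le_sum fun ψ hψ => ?_)
      (Finset.sum_le_sum_of_subset (Finset.subset_univ _))
    obtain ⟨a, ha, rfl⟩ := Finset.mem_image.mp hψ
    rw [hma a ha, one_mul]
    exact Nat.one_le_two_pow
  -- the action
  let : MulAction L₂ S :=
    { smul := fun a χ => ⟨⟨fun g => ((a.1 g : ℂˣ) : ℂ) * (χ.1 : G → ℂ) g,
          isIrrCharacter_hom_mul a.1 χ.1.2⟩,
        by simp [χ.2.1], fun g => by
          show (((a.1 g : ℂˣ) : ℂ) * (χ.1 : G → ℂ) g).im = 0
          rw [Complex.mul_im, χ.2.2 g,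
            show ((a.1 g : ℂˣ) : ℂ).im = 0 from (hlinreal _).mp ((hmem _).mp a.2) g]
          simp⟩
      one_smul := fun χ => Subtype.ext (Subtype.ext (funext fun g => one_mul _))
      mul_smul := fun a b χ => Subtype.ext (Subtype.ext (funext fun g => mul_assoc _ _ _)) }
  have hmod := hL₂.card_modEq_card_fixedPoints S
  have hfix : ∀ χ : MulAction.fixedPoints L₂ S, ∀ a : G →* ℂˣ, a ^ 2 = 1 →
      ∀ g, ((a g : ℂˣ) : ℂ) * (χ.1.1 : G → ℂ) g = (χ.1.1 : G → ℂ) g := fun χ a ha g =>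
    congrArg (fun ψ : S => (ψ.1 : G → ℂ) g) (χ.2 ⟨a, (hmem a).mpr ha⟩)
  have hFodd : ¬ 2 ∣ Nat.card (MulAction.fixedPoints L₂ S) := fun h =>
    hSodd (hmod.dvd_iff dvd_rfl |>.mpr h)
  have hno4 : ∀ l : G →* ℂˣ, l ^ 4 = 1 → l ^ 2 = 1 := by
    intro l hl
    by_contra hl2
    apply hFodd
    have hl22 : (l ^ 2) ^ 2 = 1 := by rw [← pow_mul]; exact hl
    have hmove : ∀ χ : MulAction.fixedPoints L₂ S,
        ¬ ∀ g, ((l g : ℂˣ) : ℂ) * (χ.1.1 : G → ℂ) g = (χ.1.1 : G → ℂ) g := by
      intro χ h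
      have := hstab χ.1 (insert l (Finset.univ.filter fun a => a ^ 2 = 1)) (by
        intro a ha
        rcases Finset.mem_insert.mp ha with rfl | ha
        · exact h
        · exact hfix χ a (Finset.mem_filter.mp ha).2)
      rw [Finset.card_insert_of_notMem (by simp [hl2]), ← Fintype.card_subtype,
        Fintype.card_eq_nat_card] at this
      have h4 : Nat.card {a : G →* ℂˣ // a ^ 2 = 1} = Nat.card L₂ :=
        Nat.card_congr (Equiv.subtypeEquivRight fun a => (hmem a).symm)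
      rw [h4] at this
      have := Nat.le_of_dvd Nat.card_pos hfour
      omega
    let f : MulAction.fixedPoints L₂ S → MulAction.fixedPoints L₂ S := fun χ =>
      ⟨⟨⟨fun g => ((l g : ℂˣ) : ℂ) * (χ.1.1 : G → ℂ) g, isIrrCharacter_hom_mul l χ.1.1.2⟩,
        by simp [χ.1.2.1], fun g => by
          refine Complex.conj_eq_iff_im.mp ?_
          rw [map_mul, Complex.conj_eq_iff_im.mpr (χ.1.2.2 g)]
          have hz : conj ((l g : ℂˣ) : ℂ) = ((l g : ℂˣ) : ℂ) * ((((l ^ 2) g : ℂˣ)) : ℂ) := by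
            have h1 := Complex.mul_conj ((l g : ℂˣ) : ℂ)
            rw [Complex.normSq_eq_norm_sq, norm_hom_apply] at h1
            have h4 : ((l g : ℂˣ) : ℂ) * (((l g : ℂˣ) : ℂ) * ((((l ^ 2) g : ℂˣ)) : ℂ)) = 1 := by
              rw [← mul_assoc, ← Units.val_mul, ← Units.val_mul, ← sq,
                ← MonoidHom.pow_apply, ← MonoidHom.mul_apply, ← pow_add]
              rw [show (2 + 2 : ℕ) = 4 from rfl, hl]
              simp
            refine mul_left_cancel₀ (Units.ne_zero (l g)) ?_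
            rw [h4, h1]; simp
          rw [hz, mul_assoc, hfix χ _ hl22 g]⟩,
        fun a => Subtype.ext (Subtype.ext (funext fun g => by
          show ((a.1 g : ℂˣ) : ℂ) * (((l g : ℂˣ) : ℂ) * (χ.1.1 : G → ℂ) g) = _
          rw [mul_left_comm, hfix χ a.1 ((hmem _).mp a.2) g]))⟩
    rw [Nat.card_eq_fintype_card, ← CharP.cast_eq_zero_iff (ZMod 2) 2]
    rw [← Finset.card_univ, Finset.card_eq_sum_ones, Nat.cast_sum]
    refine Finset.sum_involution (fun χ _ => f χ) (fun _ _ => rfl) ?_ (fun _ _ => Finset.mem_univ _)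
      fun χ _ => ?_
    · intro χ _ _ h
      exact hmove χ fun g => congrArg (fun ψ => (ψ.1.1 : G → ℂ) g) h
    · refine Subtype.ext (Subtype.ext (Subtype.ext (funext fun g => ?_)))
      show ((l g : ℂˣ) : ℂ) * (((l g : ℂˣ) : ℂ) * (χ.1.1 : G → ℂ) g) = _
      rw [← mul_assoc, ← Units.val_mul, ← sq, ← MonoidHom.pow_apply]
      exact hfix χ _ hl22 g
  have hall : ∀ a : G →* ℂˣ, a ^ 2 = 1 := by
    have key : ∀ N : ℕ, ∀ a : G →* ℂˣ, a ^ (2 ^ N) = 1 → a ^ 2 = 1 := by
      intro N
      induction N with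
      | zero => intro a ha; rw [pow_zero, pow_one] at ha; ext g; simp [ha]
      | succ N ih =>
        intro a ha
        refine hno4 a ?_
        rw [pow_succ', pow_mul] at ha
        have := ih _ ha
        rwa [← pow_mul] at this
    obtain ⟨N, hN⟩ := IsPGroup.iff_card.mp hG
    intro a
    refine key N a (MonoidHom.ext fun g => ?_)
    rw [MonoidHom.pow_apply, ← hN, ← map_pow, pow_card_eq_one', map_one, MonoidHom.one_apply]
  obtain ⟨χ⟩ : Nonempty (MulAction.fixedPoints L₂ S) :=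
    (Nat.card_pos_iff.mp (Nat.pos_of_ne_zero fun h => hFodd (h ▸ dvd_zero 2))).1
  have hle := hstab χ.1 Finset.univ fun a _ => hfix χ a (hall a)
  rw [Finset.card_univ, Fintype.card_eq_nat_card] at hle
  rw [← card_monoidHom_units]
  have : 4 ≤ Nat.card L₂ := Nat.le_of_dvd Nat.card_pos hfour
  have := Subgroup.card_le_card_group L₂
  omega

end Cfsg.Agent.S4477
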