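import Cfsg.Statements.S4478
import Cfsg.Agent.Lib.Blocks.DefectCard
import Cfsg.Agent.Lib.Chars.DefectZero
import Cfsg.Agent.Lib.CharsElem

set_option autoImplicit false
open Cfsg

namespace Cfsg.Agent.S4478

/-- Let G be a finite group of even order and χ an irreducible character of G whose degree x is divisible by the full power of 2 dividing the order of G and, for every odd prime p such that G has an element of order 2p, by the full power of p dividing the order of G. Then all involutions of G are conjugate, the centralizer of every involution has order exactly x with x coprime to its index, and the Frobenius–Schur indicator of χ equals 1. -/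
theorem result {G : Type*} [Group G] [Fintype G] (heven : Even (Nat.card G)) (χ : Cfsg.IrrCharacter G) (h2 : 2 ^ (Nat.card G).factorization 2 ∣ Cfsg.charDegree (χ : G → ℂ)) (hp : ∀ p : ℕ, p.Prime → p ≠ 2 → (∃ g : G, orderOf g = 2 * p) → p ^ (Nat.card G).factorization p ∣ Cfsg.charDegree (χ : G → ℂ)) : (∀ s t : G, orderOf s = 2 → orderOf t = 2 → IsConj s t) ∧ (∀ s : G, orderOf s = 2 → Nat.card (Subgroup.centralizer ({s} : Set G)) = Cfsg.charDegree (χ : G → ℂ) ∧ (Nat.card (Subgroup.centralizer ({s} : Set G))).Coprime (Subgroup.centralizer ({s} : Set G)).index) ∧ (Nat.card G : ℂ)⁻¹ * ∑ g : G, (χ : G → ℂ) (g * g) = 1 := by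
  classical
  set x := charDegree (χ : G → ℂ) with hxdef
  have hdeg : (χ : G → ℂ) 1 = (x : ℂ) := (Lib.Blocks.exists_degree_eq χ).1
  have hxpos : 0 < x := Nat.pos_of_ne_zero (Lib.Blocks.exists_degree_eq χ).2.1
  -- primes at which χ has defect zero
  let Bad : ℕ → Prop := fun q => q.Prime ∧ q ^ (Nat.card G).factorization q ∣ x
  have hbad2 : Bad 2 := ⟨Nat.prime_two, h2⟩
  have hbadC : ∀ s : G, orderOf s = 2 → ∀ q : ℕ, q.Prime →
      q ∣ Nat.card (Subgroup.centralizer ({s} : Set G)) → Bad q := by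
    intro s hs q hq hqC
    by_cases hq2 : q = 2
    · exact hq2 ▸ hbad2
    haveI : Fact q.Prime := ⟨hq⟩
    obtain ⟨c, hc⟩ := exists_prime_orderOf_dvd_card' q hqC
    have hcomm : Commute s (c : G) := (Subgroup.mem_centralizer_singleton_iff.1 c.2).symm
    refine ⟨hq, hp q hq hq2 ⟨s * c, ?_⟩⟩
    have hoc : orderOf (c : G) = q := by rw [← hc]; exact Subgroup.orderOf_coe c
    rw [hcomm.orderOf_mul_eq_mul_orderOf_of_coprime, hs, hoc]
    rw [hs, hoc]
    exact (Nat.coprime_primes Nat.prime_two hq).2 (Ne.symm hq2)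
  have hvan : ∀ q, Bad q → ∀ g : G, q ∣ orderOf g → (χ : G → ℂ) g = 0 := by
    intro q hq g hg
    obtain ⟨n, ρ, hρ, hρχ⟩ := Lib.Chars.irr_exists_rep χ
    rw [← hρχ]
    refine Lib.Chars.char_eq_zero_of_defect_zero ρ hq.1 (n := (Nat.card G).factorization q)
      (Nat.ordProj_dvd _ _) (Nat.pow_succ_factorization_not_dvd Nat.card_pos.ne' hq.1) ?_ g hg
    have h1 : ρ.character 1 = (χ : G → ℂ) 1 := by rw [hρχ]
    rw [Representation.char_one, hdeg, Nat.cast_inj] at h1
    rw [h1]; exact hq.2
  -- the value at squares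
  have hsq : ∀ g : G, 2 ∣ orderOf g → orderOf g ≠ 2 → (χ : G → ℂ) (g * g) = 0 := by
    intro g hg hne
    have ho : orderOf (g * g) = orderOf g / 2 := by
      rw [← pow_two, orderOf_pow_of_dvd two_ne_zero hg]
    obtain ⟨m, hm⟩ := hg
    have hm' : orderOf (g * g) = m := by rw [ho, hm]; omega
    by_cases h2m : 2 ∣ m
    · exact hvan 2 hbad2 _ (hm'.symm ▸ h2m)
    have hm1 : m ≠ 1 := fun h => hne (by rw [hm, h])
    obtain ⟨q, hq, hqm⟩ := Nat.exists_prime_and_dvd hm1
    have hq2 : q ≠ 2 := fun h => h2m (h ▸ hqm)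
    refine hvan q ⟨hq, hp q hq hq2 ⟨g ^ (m / q), ?_⟩⟩ _ (hm'.symm ▸ hqm)
    have hd : m / q ∣ orderOf g := hm ▸ Dvd.dvd.mul_left (Nat.div_dvd_of_dvd hqm) 2
    have hm0 : 0 < m / q := Nat.div_pos (Nat.le_of_dvd (by
      have := orderOf_pos g; omega) hqm) hq.pos
    rw [orderOf_pow_of_dvd hm0.ne' hd, hm]
    obtain ⟨e, he⟩ := hqm
    rw [he, Nat.mul_div_cancel_left _ hq.pos, ← mul_assoc, Nat.mul_div_cancel]
    rw [he, Nat.mul_div_cancel_left _ hq.pos] at hm0
    exact hm0
  -- squaring permutes the elements of odd order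
  set O := Finset.univ.filter (fun g : G => ¬ 2 ∣ orderOf g) with hO
  have hkey : ∀ g : G, g ∈ O → (g * g) ^ ((orderOf g + 1) / 2) = g := by
    intro g hg
    have h := (Finset.mem_filter.1 hg).2
    rw [← pow_two, ← pow_mul, show 2 * ((orderOf g + 1) / 2) = orderOf g + 1 by omega, pow_succ,
      pow_orderOf_eq_one, one_mul]
  have hmem : ∀ g : G, g ∈ O → g * g ∈ O ∧ orderOf (g * g) = orderOf g := by
    intro g hg
    have h := (Finset.mem_filter.1 hg).2
    have e : orderOf (g * g) = orderOf g := by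
      rw [← pow_two, Nat.Coprime.orderOf_pow
        (Nat.Coprime.symm ((Nat.prime_two.coprime_iff_not_dvd).2 h))]
    exact ⟨Finset.mem_filter.2 ⟨Finset.mem_univ _, e ▸ h⟩, e⟩
  have hsum0 : ∑ g ∈ O, (χ : G → ℂ) (g * g) = 0 := by
    have h1 : ∑ g ∈ O, (χ : G → ℂ) (g * g) = ∑ g ∈ O, (χ : G → ℂ) g := by
      refine Finset.sum_bij' (fun g _ => g * g) (fun g _ => g ^ ((orderOf g + 1) / 2))
        (fun g hg => (hmem g hg).1) (fun g hg => ?_) (fun g hg => ?_) (fun g hg => ?_)
        (fun g _ => rfl)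
      · exact Finset.mem_filter.2 ⟨Finset.mem_univ _,
          fun hd => (Finset.mem_filter.1 hg).2 (hd.trans (orderOf_pow_dvd _))⟩
      · rw [(hmem g hg).2]; exact hkey g hg
      · rw [← (Commute.refl g).mul_pow]; exact hkey g hg
    rw [h1, Finset.sum_subset (Finset.subset_univ O) fun g _ hg => hvan 2 hbad2 g (by
      by_contra h; exact hg (Finset.mem_filter.2 ⟨Finset.mem_univ _, h⟩))]
    have hne : χ ≠ Lib.Chars.trivialIrr G := by
      intro h
      have h1 : (x : ℂ) = 1 := by
        rw [← hdeg, h, Lib.Chars.trivialIrr_apply]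
      have hx1 : x = 1 := by exact_mod_cast h1
      have h2' : 2 ^ (Nat.card G).factorization 2 ∣ 1 := hx1 ▸ h2
      have hpos : (Nat.card G).factorization 2 ≠ 0 := fun h0 =>
        (Nat.Prime.factorization_pos_of_dvd Nat.prime_two Nat.card_pos.ne' heven.two_dvd).ne' h0
      exact hpos (by
        have := Nat.eq_one_of_dvd_one h2'
        simpa using this)
    have h := Lib.Chars.classInner_irr_of_ne hne
    simp only [classInner, Lib.Chars.trivialIrr_apply, map_one, mul_one] at h
    rcases mul_eq_zero.1 h with h | h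
    · exact absurd (inv_eq_zero.1 h) Lib.Chars.natCard_ne_zero
    · exact h
  set T := Finset.univ.filter (fun g : G => orderOf g = 2) with hT
  have htot : ∑ g : G, (χ : G → ℂ) (g * g) = (T.card : ℂ) * x := by
    rw [← Finset.sum_filter_add_sum_filter_not Finset.univ (fun g : G => ¬ 2 ∣ orderOf g), ← hO,
      hsum0, zero_add, ← Finset.sum_subset (s₁ := T) (fun g hg => by
        simp only [hT, Finset.mem_filter, Finset.mem_univ, true_and] at hg
        simp [hg]) (fun g hg hgT => by
        simp only [Finset.mem_filter, Finset.mem_univ, true_and, not_not] at hg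
        exact hsq g hg (fun h => hgT (Finset.mem_filter.2 ⟨Finset.mem_univ _, h⟩)))]
    rw [Finset.sum_congr rfl fun g hg => ?_, Finset.sum_const, nsmul_eq_mul]
    rw [← pow_two, ← (Finset.mem_filter.1 hg).2, pow_orderOf_eq_one, hdeg]
  obtain ⟨t0, ht0⟩ : ∃ g : G, orderOf g = 2 := exists_prime_orderOf_dvd_card' 2 heven.two_dvd
  have hTpos : 0 < T.card := Finset.card_pos.2 ⟨t0, Finset.mem_filter.2 ⟨Finset.mem_univ _, ht0⟩⟩
  have hν : (Nat.card G : ℂ)⁻¹ * ∑ g : G, (χ : G → ℂ) (g * g) = 1 := by
    have hreal : (Nat.card G : ℂ)⁻¹ * ∑ g : G, (χ : G → ℂ) (g * g)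
        = (((T.card * x : ℕ) : ℝ) / (Nat.card G : ℕ) : ℝ) := by
      rw [htot]; push_cast; ring
    have hpos : (0 : ℝ) < ((T.card * x : ℕ) : ℝ) / (Nat.card G : ℕ) :=
      div_pos (by exact_mod_cast Nat.mul_pos hTpos hxpos) (by exact_mod_cast Nat.card_pos)
    rcases Lib.CharsElem.indicator_cases χ with ⟨-, h | h⟩ | ⟨-, h⟩
    · exact h
    · exfalso
      rw [Lib.CharsElem.indicator, hreal] at h
      have h' : ((T.card * x : ℕ) : ℝ) / (Nat.card G : ℕ) = -1 := by exact_mod_cast h
      linarith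
    · exfalso
      rw [Lib.CharsElem.indicator, hreal] at h
      have h' : ((T.card * x : ℕ) : ℝ) / (Nat.card G : ℕ) = 0 := by exact_mod_cast h
      linarith
  have hTx : T.card * x = Nat.card G := by
    have h := hν
    rw [htot, inv_mul_eq_one₀ Lib.Chars.natCard_ne_zero] at h
    exact_mod_cast h.symm
  have hC : ∀ s : G, orderOf s = 2 → Nat.card (Subgroup.centralizer ({s} : Set G)) = x ∧
      (∀ t : G, orderOf t = 2 → IsConj s t) := by
    intro s hs
    set C := Subgroup.centralizer ({s} : Set G) with hCdef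
    have hle : Nat.card C ≤ x := by
      refine Nat.le_of_dvd hxpos ((Nat.factorization_le_iff_dvd Nat.card_pos.ne' hxpos.ne').1 ?_)
      intro q
      by_cases hq : q.Prime ∧ q ∣ Nat.card C
      · exact ((Nat.factorization_le_iff_dvd Nat.card_pos.ne' Nat.card_pos.ne').2
          (Subgroup.card_subgroup_dvd_card C) q).trans
          ((hq.1.pow_dvd_iff_le_factorization hxpos.ne').1 (hbadC s hs q hq.1 hq.2).2)
      · have h0 : (Nat.card C).factorization q = 0 := by
          rw [Nat.factorization_eq_zero_iff]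
          tauto
        rw [h0]; exact Nat.zero_le _
    set K := Finset.univ.filter (fun t : G => IsConj s t) with hK
    have hKT : K ⊆ T := by
      intro t ht
      obtain ⟨c, hc⟩ := isConj_iff.1 (Finset.mem_filter.1 ht).2
      exact Finset.mem_filter.2 ⟨Finset.mem_univ _, by
        rw [← hc, show c * s * c⁻¹ = MulAut.conj c s from rfl, MulEquiv.orderOf_eq, hs]⟩
    have hKC : K.card * Nat.card C = Nat.card G := by
      rw [← Lib.Chars.index_centralizer_mul_card s, ← Lib.Chars.card_conjClass_eq_index, hK,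
        ← Fintype.card_subtype, ← Nat.card_eq_fintype_card]
    have h1 : x ≤ Nat.card C := by
      have h := Finset.card_le_card hKT
      by_contra hlt
      have : K.card * Nat.card C < T.card * x :=
        Nat.mul_lt_mul_of_le_of_lt h (Nat.lt_of_not_le hlt) hTpos
      omega
    have hCx : Nat.card C = x := le_antisymm hle h1
    refine ⟨hCx, fun t ht => ?_⟩
    have hKe : K = T := Finset.eq_of_subset_of_card_le hKT (le_of_eq (Nat.eq_of_mul_eq_mul_right hxpos
      (by rw [hTx, ← hKC, hCx])))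
    have : t ∈ K := hKe ▸ Finset.mem_filter.2 ⟨Finset.mem_univ _, ht⟩
    exact (Finset.mem_filter.1 this).2
  refine ⟨fun s t hs ht => (hC s hs).2 t ht, fun s hs => ⟨(hC s hs).1, ?_⟩, hν⟩
  refine Nat.coprime_of_dvd' fun q hq hqC hqI => ?_
  exfalso
  have hb := (hq.pow_dvd_iff_le_factorization hxpos.ne').1 (hbadC s hs q hq hqC).2
  rw [← (hC s hs).1] at hb
  have hm : (Nat.card G).factorization q = (Nat.card (Subgroup.centralizer ({s} : Set G))).factorization q
      + (Subgroup.centralizer ({s} : Set G)).index.factorization q := by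
    rw [← Subgroup.card_mul_index (Subgroup.centralizer ({s} : Set G)),
      Nat.factorization_mul Nat.card_pos.ne' Subgroup.index_ne_zero_of_finite, Finsupp.add_apply]
  have := hq.factorization_pos_of_dvd Subgroup.index_ne_zero_of_finite hqI
  omega

end Cfsg.Agent.S4478
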