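import Cfsg.Statements.S4484
import Mathlib
import Cfsg.Agent.Lib.BlichfeldtSixty.Main
import Cfsg.Agent.Lib.BrauerFeit.Orth
import Cfsg.Agent.Lib.Blocks.PrincipalSection
import Cfsg.Agent.Lib.Blocks.ClassAlgebra
import Cfsg.Agent.Lib.Burnside.Paqb
import Cfsg.Agent.Lib.CharCount.Basic
import Cfsg.Agent.Lib.Chars.Ops

set_option autoImplicit false
open Cfsg

namespace Cfsg.Agent.S4484

open Cfsg.Agent.Lib Cfsg.Agent.Lib.Blocks Finset
open scoped ComplexConjugate

/-- A natural multiple of `1 / c` that is an algebraic integer. -/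
theorem dvd_of_isIntegral_div {c m : ℕ} (hc : 0 < c) (h : IsIntegral ℤ ((m : ℂ) / c)) : c ∣ m :=
  CharCount.nat_dvd_of_isIntegral hc h (mul_div_cancel₀ _ (Nat.cast_ne_zero.2 hc.ne'))

/-- A nontrivial member of the principal block of degree prime to a given number. -/
theorem exists_principal_degree_not_dvd {G : Type*} [Group G] [Finite G] {p : ℕ} [hp : Fact p.Prime]
    {M : Ideal AlgInt} (hM : IsPModular p M) {q : ℕ} (hq : q.Prime) {x : G} (hx : p ∣ orderOf x) :
    ∃ χ : IrrCharacter G, χ ∈ principalBlock M G ∧ (χ : G → ℂ) ≠ (fun _ => 1) ∧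
      ¬ q ∣ charDegree (χ : G → ℂ) := by
  classical
  cases nonempty_fintype G
  haveI : M.IsPrime := hM.2.1.isPrime
  have hB : IsPBlock M (principalBlock M G) := PrincipalSection.isPBlock_principalBlock M G
  let one : IrrCharacter G := ⟨fun _ => 1, Chars.isIrrCharacter_one⟩
  have honeB : one ∈ principalBlock M G := sameBlock_refl _
  have horth := weak_block_orth hM hB (g := 1) (h := x) (by simpa using hp.out.ne_one) hx
  rw [finsum_mem_eq_toFinset_sum, ← Finset.add_sum_erase _ _ (Set.mem_toFinset.2 honeB)] at horth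
  obtain ⟨χ, hχ, hqχ⟩ : ∃ χ ∈ (principalBlock M G).toFinset.erase one,
      ¬ q ∣ charDegree (χ : G → ℂ) := by
    by_contra! hall
    have hint : IsIntegral ℤ (∑ χ ∈ (principalBlock M G).toFinset.erase one,
        ((charDegree (χ : G → ℂ) / q : ℕ) : ℂ) * (-conj ((χ : G → ℂ) x))) :=
      IsIntegral.sum _ fun χ _ => IsIntegral.mul (by
        exact_mod_cast isIntegral_algebraMap (R := ℤ) (A := ℂ)
          (x := ((charDegree (χ : G → ℂ) / q : ℕ) : ℤ)))
        ((Chars.isCharacter_isIntegral (Chars.irr_isCharacter χ) x).map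
          (starRingEnd ℂ).toIntAlgHom).neg
    refine hq.ne_one (Nat.dvd_one.1 (CharCount.nat_dvd_of_isIntegral hq.pos hint ?_))
    rw [Finset.mul_sum, Nat.cast_one]
    have h1 : ∑ χ ∈ (principalBlock M G).toFinset.erase one,
        (χ : G → ℂ) 1 * conj ((χ : G → ℂ) x) = -1 := by
      refine eq_neg_of_add_eq_zero_right (Eq.trans ?_ horth)
      simp [one]
    rw [← neg_neg (1 : ℂ), ← h1, ← sum_neg_distrib]
    refine sum_congr rfl fun χ hχ => ?_
    rw [← mul_assoc, ← Nat.cast_mul, Nat.mul_div_cancel' (hall χ hχ), mul_neg,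
      (HeightZero.charDegree_eq χ).1]
  exact ⟨χ, Set.mem_toFinset.1 (Finset.mem_of_mem_erase hχ),
    fun h => Finset.ne_of_mem_erase hχ (Subtype.ext h), hqχ⟩

/-- An angle less than a sixth of a turn gives a root of unity at distance less than one from `1`. -/
theorem normSq_root_sub_one_lt {p : ℕ} (hp : 0 < p) (D : ℤ) (hD : 6 * |D| < p) :
    Complex.normSq (Complex.exp (2 * Real.pi * Complex.I / p) ^ D - 1) < 1 := by
  set θ : ℝ := 2 * Real.pi * D / p with hθdef
  have hp' : (0 : ℝ) < p := Nat.cast_pos.2 hp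
  have e : Complex.exp (2 * Real.pi * Complex.I / p) ^ D = Complex.exp (θ * Complex.I) := by
    rw [← Complex.exp_int_mul, hθdef]
    push_cast
    congr 1
    ring
  have hθ : |θ| < Real.pi / 3 := by
    have h1 : (6 : ℝ) * |(D : ℝ)| < p := by exact_mod_cast hD
    rw [hθdef, abs_div, abs_mul, abs_mul, Nat.abs_cast, abs_of_pos Real.pi_pos, abs_two,
      div_lt_iff₀ hp']
    calc 2 * Real.pi * |(D : ℝ)| = Real.pi / 3 * (6 * |(D : ℝ)|) := by ring
      _ < Real.pi / 3 * p := mul_lt_mul_of_pos_left h1 (by positivity)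
  have hcos : 1 / 2 < Real.cos θ := by
    rw [← Real.cos_pi_div_three, ← Real.cos_abs θ]
    exact Real.cos_lt_cos_of_nonneg_of_le_pi (abs_nonneg _) (by linarith [Real.pi_pos]) hθ
  rw [e, Complex.normSq_apply]
  simp only [Complex.sub_re, Complex.sub_im, Complex.exp_ofReal_mul_I_re,
    Complex.exp_ofReal_mul_I_im, Complex.one_re, Complex.one_im, sub_zero]
  nlinarith [Real.sin_sq_add_cos_sq θ]

/-- The projections to the eigenspaces of an element of prime order, the traces being the
multiplicities. -/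
theorem exists_projections {G : Type*} [Group G] {p : ℕ} [hp : Fact p.Prime] {ζ : ℂ}
    (hζ : IsPrimitiveRoot ζ p) {N : ℕ} (ρ : Representation ℂ G (Fin N → ℂ)) {x : G}
    (hx : x ^ p = 1) : ∃ (e : ZMod p → Module.End ℂ (Fin N → ℂ)) (m : ZMod p → ℕ),
      (∀ w, ∑ j, e j w = w) ∧ (∀ (k : ℕ) j w, ρ (x ^ k) (e j w) = ζ ^ (j.val * k) • e j w) ∧
      (∀ j, m j = 0 → e j = 0) ∧ (∀ j, e j = 0 → m j = 0) ∧ ∑ j, m j = N ∧
      ∀ j : ZMod p, (p : ℂ) * m j =
        ∑ k : ZMod p, (ζ ^ (j.val * k.val))⁻¹ * ρ.character (x ^ k.val) := by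
  classical
  have hp0 : (p : ℂ) ≠ 0 := Nat.cast_ne_zero.2 hp.out.ne_zero
  have hζ0 : ζ ≠ 0 := hζ.ne_zero hp.out.ne_zero
  let e : ZMod p → Module.End ℂ (Fin N → ℂ) := fun j =>
    (p : ℂ)⁻¹ • ∑ k : ZMod p, (ζ ^ (j.val * k.val))⁻¹ • ρ (x ^ k.val)
  have hmod : ∀ a : ℕ, x ^ (a % p) = x ^ a := fun a => (pow_eq_pow_mod a hx).symm
  have hmodz : ∀ a b : ℕ, ζ ^ (a * (b % p)) = ζ ^ (a * b) := fun a b => by
    rw [pow_mul, pow_mul]
    exact (pow_eq_pow_mod b (by rw [← pow_mul, mul_comm, pow_mul, hζ.pow_eq_one, one_pow])).symm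
  have heig : ∀ (k : ℕ) j, ρ (x ^ k) * e j = ζ ^ (j.val * k) • e j := by
    intro k j
    simp only [e, mul_smul_comm, Finset.mul_sum, smul_comm (ζ ^ (j.val * k)) ((p : ℂ)⁻¹), smul_sum,
      smul_smul, ← map_mul, ← pow_add]
    refine Fintype.sum_equiv (Equiv.addLeft (k : ZMod p)) _ _ fun l => ?_
    rw [Equiv.coe_addLeft, ZMod.val_add, ZMod.val_natCast, Nat.mod_add_mod, hmodz, hmod]
    congr 1
    rw [mul_add, pow_add, mul_inv]
    have h1 := pow_ne_zero (j.val * k) hζ0
    field_simp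
  have hsum : ∑ j, e j = 1 := by
    simp only [e, ← smul_sum]
    rw [Finset.sum_comm]
    simp only [← Finset.sum_smul]
    rw [Finset.sum_eq_single (0 : ZMod p)]
    · simp [ZMod.val_zero, hp0]
    · intro k _ hk
      have h1 : ∑ j : ZMod p, (ζ ^ (j.val * k.val))⁻¹ =
          ∑ i ∈ range p, ((ζ ^ k.val)⁻¹) ^ i := by
        refine Finset.sum_bij' (fun j _ => j.val) (fun i _ => (i : ZMod p))
          (fun j _ => mem_range.mpr (ZMod.val_lt j)) (fun i _ => mem_univ _)
          (fun j _ => ZMod.natCast_zmod_val j)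
          (fun i hi => ZMod.val_natCast_of_lt (mem_range.mp hi)) (fun j _ => ?_)
        rw [inv_pow, ← pow_mul, mul_comm]
      have hne : (ζ ^ k.val)⁻¹ ≠ 1 := by
        rw [Ne, inv_eq_one]
        exact hζ.pow_ne_one_of_pos_of_lt (by rwa [Ne, ZMod.val_eq_zero]) (ZMod.val_lt k)
      rw [h1, geom_sum_eq hne, inv_pow, ← pow_mul, mul_comm, pow_mul, hζ.pow_eq_one, one_pow,
        inv_one, sub_self, zero_div, zero_smul]
    · exact fun h => absurd (mem_univ _) h
  have hidem : ∀ j, IsIdempotentElem (e j) := by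
    intro j
    show e j * e j = e j
    conv_lhs => rw [show e j = (p : ℂ)⁻¹ • ∑ k : ZMod p, (ζ ^ (j.val * k.val))⁻¹ • ρ (x ^ k.val)
      from rfl]
    rw [smul_mul_assoc, Finset.sum_mul]
    have h1 : ∀ k : ZMod p, (ζ ^ (j.val * k.val))⁻¹ • ρ (x ^ k.val) * e j = e j := fun k => by
      rw [smul_mul_assoc, heig, smul_smul, inv_mul_cancel₀ (pow_ne_zero _ hζ0), one_smul]
    rw [Finset.sum_congr rfl fun k _ => h1 k, sum_const, card_univ, ZMod.card,
      ← Nat.cast_smul_eq_nsmul ℂ, smul_smul, inv_mul_cancel₀ hp0, one_smul]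
  have htr : ∀ j, LinearMap.trace ℂ _ (e j) = (Module.finrank ℂ (LinearMap.range (e j)) : ℂ) :=
    fun j => LinearMap.IsProj.trace
      ⟨fun v => LinearMap.mem_range_self _ v, fun v hv => by
        obtain ⟨w, rfl⟩ := hv
        exact LinearMap.congr_fun (hidem j) w⟩
  refine ⟨e, fun j => Module.finrank ℂ (LinearMap.range (e j)),
    fun w => by rw [← LinearMap.sum_apply, hsum, Module.End.one_apply],
    fun k j w => by rw [← Module.End.mul_apply, heig, LinearMap.smul_apply],
    fun j hj => LinearMap.range_eq_bot.mp (Submodule.finrank_eq_zero.mp hj),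
    fun j hj => Submodule.finrank_eq_zero.mpr (LinearMap.range_eq_bot.mpr hj), ?_, fun j => ?_⟩
  · have h1 := congrArg (LinearMap.trace ℂ (Fin N → ℂ)) hsum
    rw [map_sum, LinearMap.trace_one, Module.finrank_fin_fun] at h1
    simp only [htr] at h1
    exact_mod_cast h1
  · rw [← htr]
    simp only [e, map_smul, map_sum, smul_eq_mul, ← mul_assoc, mul_inv_cancel₀ hp0, one_mul]
    rfl

/-- A refinement of Burnside's result on simple groups of order divisible by only two primes. Let G be a finite simple group of order p^a · q^b · g₀ with p, q distinct primes, a > 0, g₀ coprime to p and q, and the order of G different from p. Then g₀ − 1 > log p / log 6, that is 6^(g₀ − 1) > p. -/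
theorem result {G : Type*} [Group G] [Finite G] [IsSimpleGroup G] (p q a b g₀ : ℕ) (hp : p.Prime) (hq : q.Prime) (hpq : p ≠ q) (ha : 0 < a) (hg : Nat.card G = p ^ a * q ^ b * g₀) (hcop : ¬ p ∣ g₀) (hcoq : ¬ q ∣ g₀) (hne : Nat.card G ≠ p) : p < 6 ^ (g₀ - 1) := by
  classical
  haveI := Fact.mk hp
  cases nonempty_fintype G
  by_contra hlt
  push Not at hlt
  have hp0 : (p : ℂ) ≠ 0 := Nat.cast_ne_zero.2 hp.ne_zero
  have hg0 : g₀ ≠ 0 := by
    rintro rfl
    exact hcop (dvd_zero p)
  have hpG : p ∣ Nat.card G :=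
    hg ▸ dvd_mul_of_dvd_left (dvd_mul_of_dvd_left (dvd_pow_self p ha.ne') _) _
  -- `G` is not abelian
  have hcenter : Subgroup.center G = ⊥ := by
    refine (IsSimpleGroup.eq_bot_or_eq_top_of_normal (Subgroup.center G) inferInstance).resolve_right
      fun htop => ?_
    letI : CommGroup G := { (inferInstance : Group G) with
      mul_comm := fun u v => by
        have hu : v ∈ Subgroup.center G := htop ▸ Subgroup.mem_top v
        exact Subgroup.mem_center_iff.mp hu u }
    have hprime : (Nat.card G).Prime := IsSimpleGroup.prime_card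
    exact hne ((Nat.prime_dvd_prime_iff_eq hp hprime).mp hpG).symm
  -- the cofactor is not one
  have hg1 : g₀ ≠ 1 := by
    rintro rfl
    rw [mul_one] at hg
    haveI : Group.IsSolvable G := Burnside.isSolvable_of_card_eq_prime_pow_mul hp hq hg
    haveI : Nontrivial G := IsSimpleGroup.toNontrivial
    have hlt' := Group.IsSolvable.commutator_lt_top_of_nontrivial G
    have hbot : commutator G = ⊥ :=
      (IsSimpleGroup.eq_bot_or_eq_top_of_normal _ inferInstance).resolve_right hlt'.ne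
    rw [commutator_def, Subgroup.commutator_eq_bot_iff_le_centralizer, Subgroup.coe_top,
      Subgroup.centralizer_univ, hcenter] at hbot
    exact top_ne_bot (le_bot_iff.mp hbot)
  -- a central element of a Sylow subgroup
  obtain ⟨P⟩ : Nonempty (Sylow p G) := inferInstance
  haveI : Nontrivial (P : Subgroup G) := by
    rw [← Finite.one_lt_card_iff_nontrivial, P.card_eq_multiplicity]
    exact Nat.one_lt_pow (hp.factorization_pos_of_dvd Nat.card_pos.ne' hpG).ne' hp.one_lt
  haveI : Nontrivial (Subgroup.center (P : Subgroup G)) := P.isPGroup'.center_nontrivial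
  obtain ⟨c, hc⟩ := exists_prime_orderOf_dvd_card' (G := Subgroup.center (P : Subgroup G)) p (by
    obtain ⟨k, hk⟩ := IsPGroup.iff_card.mp (P.isPGroup'.to_subgroup (Subgroup.center _))
    rw [hk]
    refine dvd_pow_self p fun h0 => ?_
    rw [h0, pow_zero] at hk
    exact Finite.one_lt_card.ne' hk)
  set x : G := ((c : (P : Subgroup G)) : G) with hxdef
  have hxo : orderOf x = p := by rw [hxdef, Subgroup.orderOf_coe, Subgroup.orderOf_coe, hc]
  have hxp : x ^ p = 1 := orderOf_dvd_iff_pow_eq_one.mp (dvd_of_eq hxo)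
  have hxind : ∀ k : ℕ, ¬ p ∣ (Subgroup.centralizer ({x ^ k} : Set G)).index := by
    intro k hdvd
    refine P.not_dvd_index (hdvd.trans (Subgroup.index_dvd_of_le fun w hw => ?_))
    rw [Subgroup.mem_centralizer_singleton_iff]
    have h1 : (⟨w, hw⟩ : (P : Subgroup G)) * (c : (P : Subgroup G)) =
        (c : (P : Subgroup G)) * ⟨w, hw⟩ := Subgroup.mem_center_iff.mp c.2 ⟨w, hw⟩
    have h2 : Commute w x := congrArg Subtype.val h1
    exact (h2.pow_right k).eq
  -- the character
  obtain ⟨M, hM⟩ := CharCount.exists_isPModular p hp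
  haveI : M.IsPrime := hM.2.1.isPrime
  obtain ⟨χ, hχB, hχ1, hqχ⟩ := exists_principal_degree_not_dvd hM hq (dvd_of_eq hxo.symm)
  obtain ⟨N, hN0, hN, hNdvd⟩ := Chars.irr_degree_dvd_card χ
  have hNdeg : charDegree (χ : G → ℂ) = N := by simp [charDegree, hN]
  rw [hNdeg] at hqχ
  set i := N.factorization p with hi
  set n' := ordCompl[p] N with hn'
  have hNeq : p ^ i * n' = N := Nat.ordProj_mul_ordCompl_eq_self N p
  have hpn' : ¬ p ∣ n' := Nat.not_dvd_ordCompl hp hN0.ne'
  have hn'g : n' ∣ g₀ := by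
    have h1 : n' ∣ p ^ a * q ^ b * g₀ := hg ▸ (Nat.ordCompl_dvd N p).trans hNdvd
    have hq' : ¬ q ∣ n' := fun h => hqχ (h.trans (Nat.ordCompl_dvd N p))
    refine (Nat.Coprime.dvd_mul_left ?_).mp h1
    exact Nat.Coprime.mul_right ((hp.coprime_iff_not_dvd.2 hpn').symm.pow_right a)
      ((hq.coprime_iff_not_dvd.2 hq').symm.pow_right b)
  have hn'0 : n' ≠ 0 := fun h => hpn' (h ▸ dvd_zero p)
  have hNc : (N : ℂ) ≠ 0 := Nat.cast_ne_zero.2 hN0.ne'
  -- the values at the powers of `x`
  let z : ℕ → ℂ := fun k => (χ : G → ℂ) (x ^ k) / ((p ^ i : ℕ) : ℂ)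
  have hpi : ((p ^ i : ℕ) : ℂ) ≠ 0 := Nat.cast_ne_zero.2 (pow_ne_zero _ hp.ne_zero)
  have hz : ∀ k, IsIntegral ℤ (z k) ∧ MemLocalIdeal M (z k - (n' : ℂ)) := by
    intro k
    set idx := (Subgroup.centralizer ({x ^ k} : Set G)).index with hidx
    have hω : centralChar (χ : G → ℂ) (x ^ k) = (idx : ℂ) * (χ : G → ℂ) (x ^ k) / N := by
      rw [centralChar, hN]
    have hωint : IsIntegral ℤ ((idx : ℂ) * (χ : G → ℂ) (x ^ k) / N) :=
      hω ▸ centralChar_isIntegral χ (x ^ k)
    have hNc' : (N : ℂ) = ((p ^ i : ℕ) : ℂ) * n' := by rw [← Nat.cast_mul, hNeq]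
    constructor
    · obtain ⟨s, t, hst⟩ : IsCoprime (idx : ℤ) ((p ^ i : ℕ) : ℤ) :=
        Int.isCoprime_iff_nat_coprime.mpr
          (by simpa using ((hp.coprime_iff_not_dvd.2 (hxind k)).symm.pow_right i))
      have hst' : (s : ℂ) * (idx : ℂ) + (t : ℂ) * ((p ^ i : ℕ) : ℂ) = 1 := by exact_mod_cast hst
      have e : z k = (s : ℂ) * (n' : ℂ) * ((idx : ℂ) * (χ : G → ℂ) (x ^ k) / N) +
          (t : ℂ) * (χ : G → ℂ) (x ^ k) := by
        have hn'c : (n' : ℂ) ≠ 0 := Nat.cast_ne_zero.2 hn'0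
        simp only [z, hNc']
        field_simp
        linear_combination (-(χ : G → ℂ) (x ^ k)) * hst'
      rw [e]
      exact (((isIntegral_algebraMap (x := s)).mul (isIntegral_algebraMap (x := (n' : ℤ)))).mul
        hωint).add ((isIntegral_algebraMap (x := t)).mul
          (Chars.isCharacter_isIntegral (Chars.irr_isCharacter χ) _))
    · have hsame := hχB (x ^ k)
      rw [hω, centralChar, mul_one, div_one, ← hidx] at hsame
      have hidx0 : (idx : ℂ) ≠ 0 :=
        Nat.cast_ne_zero.2 fun h => hxind k (by rw [← hidx, h]; exact dvd_zero p)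
      have e : z k - (n' : ℂ) =
          ((n' : ℂ) / idx) * -((idx : ℂ) - (idx : ℂ) * (χ : G → ℂ) (x ^ k) / N) := by
        have hn'c : (n' : ℂ) ≠ 0 := Nat.cast_ne_zero.2 hn'0
        simp only [z, hNc']
        field_simp
        ring
      rw [e]
      refine memLocalIdeal_mul_left ?_ (memLocalIdeal_neg hsame)
      rw [div_eq_mul_inv]
      exact mem_localRing.mp
        (mul_mem (natCast_mem_localRing n') (inv_natCast_mem_localRing hM (hxind k)))
  -- the multiplicities
  obtain ⟨ζ, hζ, hζdef⟩ : ∃ ζ : ℂ, IsPrimitiveRoot ζ p ∧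
      ζ = Complex.exp (2 * Real.pi * Complex.I / p) :=
    ⟨_, Complex.isPrimitiveRoot_exp p hp.ne_zero, rfl⟩
  obtain ⟨n0, ρ, hirr, hρ⟩ := Chars.irr_exists_rep χ
  haveI := hirr
  have hn0 : n0 = N := by
    have h1 : (n0 : ℂ) = N := by
      rw [← hN, ← hρ, ρ.char_one, Module.finrank_fin_fun]
    exact_mod_cast h1
  subst hn0
  obtain ⟨e, m, he1, heig, he0, hmzero, hmsum, hmtr⟩ := exists_projections hζ ρ hxp
  have hζ0 : ζ ≠ 0 := hζ.ne_zero hp.ne_zero
  have hm : ∀ j, p ^ i ∣ m j := by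
    intro j
    set S : ℂ := ∑ k : ZMod p, (ζ ^ (j.val * k.val))⁻¹ * z k.val with hS
    have hSint : IsIntegral ℤ S := IsIntegral.sum _ fun k _ => IsIntegral.mul
      (IsIntegral.of_pow hp.pos (by
        rw [inv_pow, ← pow_mul, mul_comm, pow_mul, hζ.pow_eq_one, one_pow, inv_one]
        exact isIntegral_one)) (hz _).1
    have hSeq : ((p ^ i : ℕ) : ℂ) * S = ((p * m j : ℕ) : ℂ) := by
      rw [Nat.cast_mul, hmtr, hS, Finset.mul_sum]
      refine sum_congr rfl fun k _ => ?_
      simp only [z, hρ]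
      field_simp
    obtain ⟨T, hT⟩ := CharCount.nat_dvd_of_isIntegral (pow_pos hp.pos i) hSint hSeq
    have hST : S = (T : ℂ) := by
      apply mul_left_cancel₀ hpi
      rw [hSeq, hT, Nat.cast_mul]
    have hSM : MemLocalIdeal M S := by
      have e1 : S = ∑ k : ZMod p, (ζ ^ (j.val * k.val))⁻¹ * (z k.val - (n' : ℂ)) +
          (∑ k : ZMod p, (ζ ^ (j.val * k.val))⁻¹) * (n' : ℂ) := by
        rw [hS, Finset.sum_mul, ← Finset.sum_add_distrib]
        exact sum_congr rfl fun k _ => by ring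
      rw [e1]
      refine memLocalIdeal_add (memLocalIdeal_sum _ _ fun k _ =>
        memLocalIdeal_mul_left ?_ (hz _).2) (memLocalIdeal_mul_right ?_ ?_)
      · exact mem_localRing.mp (isIntegral_mem_localRing (IsIntegral.of_pow hp.pos (by
          rw [inv_pow, ← pow_mul, mul_comm, pow_mul, hζ.pow_eq_one, one_pow, inv_one]
          exact isIntegral_one)))
      · by_cases hj : j = 0
        · subst hj
          simp only [ZMod.val_zero, zero_mul, pow_zero, inv_one, sum_const, card_univ, ZMod.card,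
            nsmul_eq_mul, mul_one]
          exact (memLocalIdeal_natCast_iff hM p).2 dvd_rfl
        · have h1 : ∑ k : ZMod p, (ζ ^ (j.val * k.val))⁻¹ =
              ∑ l ∈ range p, ((ζ ^ j.val)⁻¹) ^ l := by
            refine Finset.sum_bij' (fun k _ => k.val) (fun l _ => (l : ZMod p))
              (fun k _ => mem_range.mpr (ZMod.val_lt k)) (fun l _ => mem_univ _)
              (fun k _ => ZMod.natCast_zmod_val k)
              (fun l hl => ZMod.val_natCast_of_lt (mem_range.mp hl)) (fun k _ => ?_)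
            rw [inv_pow, ← pow_mul]
          have hne' : (ζ ^ j.val)⁻¹ ≠ 1 := by
            rw [Ne, inv_eq_one]
            exact hζ.pow_ne_one_of_pos_of_lt (by rwa [Ne, ZMod.val_eq_zero]) (ZMod.val_lt j)
          rw [h1, geom_sum_eq hne', inv_pow, ← pow_mul, mul_comm, pow_mul, hζ.pow_eq_one, one_pow,
            inv_one, sub_self, zero_div]
          exact memLocalIdeal_zero
      · exact mem_localRing.mp (natCast_mem_localRing n')
    rw [hST, memLocalIdeal_natCast_iff hM] at hSM
    obtain ⟨T', rfl⟩ := hSM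
    refine ⟨T', Nat.eq_of_mul_eq_mul_left hp.pos ?_⟩
    rw [hT]; ring
  -- few eigenvalues
  set S0 := univ.filter fun j : ZMod p => m j ≠ 0 with hS0
  have hcard : S0.card ≤ g₀ := by
    have h1 : S0.card * p ^ i ≤ p ^ i * n' := by
      rw [hNeq, ← hmsum, ← smul_eq_mul, ← sum_const]
      refine le_trans (sum_le_sum fun j hj => ?_) (sum_le_sum_of_subset (filter_subset _ _))
      exact Nat.le_of_dvd (Nat.pos_of_ne_zero (mem_filter.mp hj).2) (hm j)
    rw [mul_comm] at h1
    exact (Nat.le_of_mul_le_mul_left h1 (pow_pos hp.pos i)).trans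
      (Nat.le_of_dvd (Nat.pos_of_ne_zero hg0) hn'g)
  obtain ⟨a0, ha0⟩ : S0.Nonempty := by
    rw [nonempty_iff_ne_empty]
    intro h0
    have h1 : ∑ j, m j = 0 := sum_eq_zero fun j _ => by
      by_contra hj
      have : j ∈ S0 := mem_filter.mpr ⟨mem_univ _, hj⟩
      rw [h0] at this
      exact notMem_empty _ this
    rw [hmsum] at h1
    exact hN0.ne' h1
  -- the pigeonhole
  have hbin : ∀ v : ZMod p, 6 * v.val / p < 6 := fun v =>
    Nat.div_lt_of_lt_mul (by have := ZMod.val_lt v; rw [mul_comm p 6]; omega)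
  let f : ZMod p → (↥(S0.erase a0) → Fin 6) := fun k bb =>
    ⟨6 * (k * ((bb : ZMod p) - a0)).val / p, hbin _⟩
  have hcardlt : Fintype.card (↥(S0.erase a0) → Fin 6) < Fintype.card (ZMod p) := by
    rw [Fintype.card_fun, Fintype.card_coe, Fintype.card_fin, ZMod.card, card_erase_of_mem ha0]
    refine lt_of_le_of_lt (Nat.pow_le_pow_right (by norm_num) (Nat.sub_le_sub_right hcard 1))
      (hlt.lt_of_ne fun h => ?_)
    exact (Nat.not_prime_of_dvd_of_ne (m := 2) (n := 6 ^ (g₀ - 1))
      ((show 2 ∣ 6 by norm_num).trans (dvd_pow_self 6 (by omega))) (by norm_num) (by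
        have := Nat.le_self_pow (show g₀ - 1 ≠ 0 by omega) 6
        omega)) (h ▸ hp)
  obtain ⟨k, k', hkk, hf⟩ := Fintype.exists_ne_map_eq_of_card_lt f hcardlt
  set d := k - k' with hd
  have hd0 : d ≠ 0 := sub_ne_zero.mpr hkk
  have hclose : ∀ j ∈ S0, ∃ D : ℤ, 6 * |D| < p ∧ (D : ZMod p) = d * (j - a0) := by
    intro j hj
    by_cases hja : j = a0
    · exact ⟨0, by simpa using hp.pos, by rw [hja]; simp⟩
    · refine ⟨((k * (j - a0)).val : ℤ) - ((k' * (j - a0)).val : ℤ), ?_, ?_⟩
      · have h1 := congrArg Fin.val (congrFun hf ⟨j, mem_erase.mpr ⟨hja, hj⟩⟩)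
        simp only [f] at h1
        set A := (k * (j - a0)).val
        set B := (k' * (j - a0)).val
        have e1 := Nat.div_add_mod (6 * A) p
        have e2 := Nat.div_add_mod (6 * B) p
        have l1 := Nat.mod_lt (6 * A) hp.pos
        have l2 := Nat.mod_lt (6 * B) hp.pos
        rw [h1] at e1
        rcases abs_cases ((A : ℤ) - B) with ⟨h2, -⟩ | ⟨h2, -⟩ <;> rw [h2] <;> omega
      · push_cast
        rw [ZMod.natCast_zmod_val, ZMod.natCast_zmod_val, hd, sub_mul]
  -- the element near a scalar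
  set y := x ^ d.val with hy
  set μ := ζ ^ (a0.val * d.val) with hμdef
  have hμ : μ * conj μ = 1 := by
    have h1 : ‖μ‖ = 1 := by rw [hμdef, norm_pow, hζ.norm'_eq_one hp.ne_zero, one_pow]
    rw [Complex.mul_conj, Complex.normSq_eq_norm_sq, h1]; norm_num
  have hea : ∃ v : Fin n0 → ℂ, v ≠ 0 ∧ ρ y v = μ • v := by
    have hne' : e a0 ≠ 0 := fun h0 => (mem_filter.mp ha0).2 (hmzero a0 h0)
    obtain ⟨w, hw⟩ : ∃ w, e a0 w ≠ 0 := by
      by_contra hcon
      push Not at hcon
      exact hne' (LinearMap.ext hcon)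
    exact ⟨e a0 w, hw, heig _ _ w⟩
  have hnear : ∀ w : Fin n0 → ℂ, w ≠ 0 → BlichfeldtSixty.len ρ (ρ y w - μ • w) <
      BlichfeldtSixty.len ρ w := by
    intro w hw
    have horth : ∀ i ∈ S0, ∀ j ∈ S0, i ≠ j → ∀ a b : ℂ,
        BlichfeldtSixty.form ρ (a • e i w) (b • e j w) = 0 := by
      intro i _ j _ hij a b
      rw [BlichfeldtSixty.form_smul_left, BlichfeldtSixty.form_smul_right]
      have h1 := BlichfeldtSixty.form_eq_zero_of_eigen ρ (g := x ^ 1)
        (a := ζ ^ (i.val * 1)) (b := ζ ^ (j.val * 1)) ?_ ?_ (heig 1 i w) (heig 1 j w)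
      · rw [h1, mul_zero, mul_zero]
      · rw [Complex.mul_conj, Complex.normSq_eq_norm_sq, norm_pow, hζ.norm'_eq_one hp.ne_zero,
          one_pow]
        norm_num
      · intro h
        simp only [mul_one] at h
        exact hij (ZMod.val_injective p (hζ.pow_inj (ZMod.val_lt i) (ZMod.val_lt j) h))
    have hw' : w = ∑ j ∈ S0, e j w := by
      conv_lhs => rw [← he1 w]
      refine (sum_subset (subset_univ S0) fun j _ hj => ?_).symm
      have : m j = 0 := by
        by_contra hne'
        exact hj (mem_filter.mpr ⟨mem_univ _, hne'⟩)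
      rw [he0 j this, LinearMap.zero_apply]
    have hdiff : ρ y w - μ • w = ∑ j ∈ S0, (ζ ^ (j.val * d.val) - μ) • e j w := by
      conv_lhs => rw [hw']
      rw [map_sum, smul_sum, ← sum_sub_distrib]
      exact sum_congr rfl fun j _ => by rw [hy, heig, sub_smul]
    have hlen : BlichfeldtSixty.len ρ w = ∑ j ∈ S0, BlichfeldtSixty.len ρ (e j w) := by
      conv_lhs => rw [hw']
      exact BlichfeldtSixty.len_sum ρ S0 _ fun i hi j hj hij => by
        simpa using horth i hi j hj hij 1 1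
    rw [hdiff, BlichfeldtSixty.len_sum ρ S0 _ fun i hi j hj hij => horth i hi j hj hij _ _, hlen]
    have hlt1 : ∀ j ∈ S0, Complex.normSq (ζ ^ (j.val * d.val) - μ) < 1 := by
      intro j hj
      obtain ⟨D, hD, hD'⟩ := hclose j hj
      have h1 : ζ ^ (j.val * d.val) = μ * ζ ^ D := by
        rw [hμdef, ← zpow_natCast, ← zpow_natCast ζ (a0.val * d.val), ← zpow_add₀ hζ0]
        rw [← div_eq_one_iff_eq (zpow_ne_zero _ hζ0), ← zpow_sub₀ hζ0, hζ.zpow_eq_one_iff_dvd,
          ← ZMod.intCast_zmod_eq_zero_iff_dvd]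
        push_cast
        rw [ZMod.natCast_zmod_val, ZMod.natCast_zmod_val, ZMod.natCast_zmod_val, hD']
        ring
      have h5 : Complex.normSq μ = 1 := by
        rw [Complex.normSq_eq_norm_sq, hμdef, norm_pow, hζ.norm'_eq_one hp.ne_zero, one_pow,
          one_pow]
      rw [h1, ← mul_sub_one, Complex.normSq_mul, h5, one_mul, hζdef]
      exact normSq_root_sub_one_lt hp.pos D hD
    simp only [BlichfeldtSixty.len_smul]
    refine sum_lt_sum (fun j hj => ?_) ?_
    · exact mul_le_of_le_one_left (BlichfeldtSixty.len_nonneg ρ _) (hlt1 j hj).le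
    · by_contra hcon
      push Not at hcon
      apply hw
      rw [hw']
      refine sum_eq_zero fun j hj => BlichfeldtSixty.eq_zero_of_len_eq_zero ρ ?_
      by_contra hl
      have := hcon j hj
      have hpos := (BlichfeldtSixty.len_nonneg ρ (e j w)).lt_of_ne (Ne.symm hl)
      have := mul_lt_of_lt_one_left hpos (hlt1 j hj)
      linarith
  have hy1 : y ≠ 1 := by
    rw [hy]
    intro h
    have h1 := orderOf_dvd_of_pow_eq_one h
    rw [hxo] at h1
    exact hd0 ((ZMod.val_eq_zero d).mp (Nat.eq_zero_of_dvd_of_lt h1 (ZMod.val_lt d)))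
  have hgen : Subgroup.normalClosure ({y} : Set G) = ⊤ :=
    (IsSimpleGroup.eq_bot_or_eq_top_of_normal _ Subgroup.normalClosure_normal).resolve_left
      fun h => hy1 (by
        have : y ∈ Subgroup.normalClosure ({y} : Set G) := Subgroup.subset_normalClosure rfl
        rwa [h, Subgroup.mem_bot] at this)
  have hscal := BlichfeldtSixty.scalar_of_near ρ y hgen μ hμ hea hnear
  have hker : ρ.ker = ⊥ := by
    refine (IsSimpleGroup.eq_bot_or_eq_top_of_normal _ inferInstance).resolve_right fun htop => ?_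
    apply hχ1
    funext g
    have hall : ∀ g, (χ : G → ℂ) g = (n0 : ℂ) := fun g => by
      rw [← hN, ← hρ, ← Chars.rep_eq_one_iff]
      exact (MonoidHom.mem_ker).mp (htop ▸ Subgroup.mem_top g)
    by_contra hne'
    have h2 := Chars.classInner_irr_self χ
    rw [classInner] at h2
    simp only [hall, Complex.conj_natCast, sum_const, card_univ, nsmul_eq_mul,
      ← Nat.card_eq_fintype_card, ← mul_assoc, inv_mul_cancel₀ (Chars.natCard_ne_zero (G := G)),
      one_mul] at h2
    have h3 : n0 * n0 = 1 := by exact_mod_cast h2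
    exact hne' (by rw [hall, Nat.eq_one_of_mul_eq_one_right h3, Nat.cast_one])
  apply hy1
  have hyc : y ∈ Subgroup.center G := Subgroup.mem_center_iff.mpr fun g => by
    apply (MonoidHom.ker_eq_bot_iff ρ).mp hker
    refine LinearMap.ext fun v => ?_
    rw [map_mul, map_mul, Module.End.mul_apply, Module.End.mul_apply, hscal, hscal, map_smul]
  rwa [hcenter, Subgroup.mem_bot] at hyc

end Cfsg.Agent.S4484
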