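import Cfsg.Statements.S4487
import Mathlib
import Cfsg.Agent.Lib.BlockCongr.NormalP
import Cfsg.Agent.Lib.PSolvable.Core
import Cfsg.Agent.Lib.Blocks.Idempotent

set_option autoImplicit false
open Cfsg

namespace Cfsg.Agent.S4487

open Cfsg.Agent.Lib Cfsg.Agent.Lib.Blocks Cfsg.Agent.Lib.BlockCongr
/-- Let G be a finite group and p a prime such that G has no non-trivial normal subgroup of order prime to p and C_G(O_p(G)) ≤ O_p(G). Then G has a single p-block: any two irreducible characters lie in the same block relative to every maximal ideal M of the algebraic integers containing p. -/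
theorem result {G : Type*} [Group G] [Finite G] (p : ℕ) [Fact p.Prime] (M : Ideal Cfsg.AlgInt) (hM : Cfsg.IsPModular p M) (hcore : Cfsg.pPrimeCore p G = ⊥) (hconstr : Subgroup.centralizer ((Cfsg.pCore p G) : Set G) ≤ Cfsg.pCore p G) (χ ψ : Cfsg.IrrCharacter G) : Cfsg.SameBlock M (χ : G → ℂ) (ψ : G → ℂ) := by
  have : M.IsPrime := isPModular_isPrime hM
  cases nonempty_fintype G
  have : (Cfsg.pCore p G).Normal := by
    have := Cfsg.Agent.Lib.PSolvable.pCore_characteristic (G := G) (p := p)
    infer_instance
  have key : ∀ φ : Cfsg.IrrCharacter G, Cfsg.SameBlock M (φ : G → ℂ) (fun _ : G => (1 : ℂ)) := by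
    intro φ g
    rw [centralChar_trivial]
    refine centralChar_congr_index hM (Cfsg.pCore p G) Cfsg.Agent.Lib.PSolvable.pCore_isPGroup φ g ?_
    by_cases h : g ∈ Subgroup.centralizer ((Cfsg.pCore p G) : Set G)
    · exact Or.inl (hconstr h)
    · exact Or.inr h
  exact sameBlock_trans (key χ) (sameBlock_symm (key ψ))

end Cfsg.Agent.S4487
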