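import Cfsg.Statements.S4488
import Mathlib
import Cfsg.Agent.Lib.Jordan.Blichfeldt
import Cfsg.Agent.Lib.BlockCongr.Basic
import Cfsg.Agent.Lib.CharCount.Basic
import Cfsg.Agent.Lib.Chars.Ops

set_option autoImplicit false
open Cfsg

namespace Cfsg.Agent.S4488

open Cfsg.Agent.Lib

/-- Summing a character over the powers of an element gives the order times a natural number
bounded by the degree. -/
theorem exists_sum_pow_eq {G : Type*} [Group G] [Finite G] {n : ℕ}
    (ρ : Representation ℂ G (Fin n → ℂ)) (x : G) :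
    ∃ k : ℕ, k ≤ n ∧ ∑ j ∈ Finset.range (orderOf x), ρ.character (x ^ j) = (orderOf x : ℂ) * k := by
  classical
  haveI : Fintype (Subgroup.zpowers x) := Fintype.ofFinite _
  haveI : Invertible (Nat.card (Subgroup.zpowers x) : ℂ) :=
    invertibleOfNonzero (Nat.cast_ne_zero.2 Nat.card_pos.ne')
  let ρ' : Representation ℂ (Subgroup.zpowers x) (Fin n → ℂ) := ρ.comp (Subgroup.zpowers x).subtype
  have h := ρ'.card_inv_mul_sum_char_eq_finrank
  refine ⟨Module.finrank ℂ (Representation.invariants ρ'), ?_, ?_⟩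
  · simpa using Submodule.finrank_le (Representation.invariants ρ')
  · rw [← h, Nat.card_zpowers, ← mul_assoc,
      mul_inv_cancel₀ (Nat.cast_ne_zero.2 (orderOf_pos x).ne'), one_mul,
      ← Fin.sum_univ_eq_sum_range (fun j => ρ.character (x ^ j))]
    exact Fintype.sum_equiv (finEquivZPowers (isOfFinOrder_of_finite x)) _ _ fun j => rfl

/-- A character constant on the generators of a cyclic p-group takes an integer value there, not
below -n / (p - 1). -/
theorem exists_int_value {G : Type*} [Group G] [Finite G] {n p : ℕ} (hp : p.Prime)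
    (ρ : Representation ℂ G (Fin n → ℂ)) {x : G} {k : ℕ} (hx : orderOf x = p ^ (k + 1))
    (hconst : ∀ j : ℕ, ¬ p ∣ j → ρ.character (x ^ j) = ρ.character x) :
    ∃ z : ℤ, ρ.character x = z ∧ -(n : ℤ) ≤ ((p : ℤ) - 1) * z := by
  classical
  obtain ⟨A, -, hA⟩ := exists_sum_pow_eq ρ x
  obtain ⟨B, hBn, hB⟩ := exists_sum_pow_eq ρ (x ^ p)
  have hxp : orderOf (x ^ p) = p ^ k := by
    rw [orderOf_pow_of_dvd hp.ne_zero (hx ▸ dvd_pow_self p k.succ_ne_zero), hx, pow_succ,
      Nat.mul_div_cancel _ hp.pos]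
  rw [hxp] at hB
  rw [hx] at hA
  have hset : (Finset.range (p ^ (k + 1))).filter (fun j => p ∣ j) =
      (Finset.range (p ^ k)).image (fun i => p * i) := by
    ext j
    simp only [Finset.mem_filter, Finset.mem_range, Finset.mem_image]
    constructor
    · rintro ⟨hj, i, rfl⟩
      refine ⟨i, ?_, rfl⟩
      rw [pow_succ'] at hj
      exact Nat.lt_of_mul_lt_mul_left hj
    · rintro ⟨i, hi, rfl⟩
      refine ⟨?_, i, rfl⟩
      rw [pow_succ']
      exact Nat.mul_lt_mul_of_pos_left hi hp.pos
  have hcount : ((Finset.range (p ^ (k + 1))).filter (fun j => ¬ p ∣ j)).card + p ^ k =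
      p ^ (k + 1) := by
    have h := Finset.card_filter_add_card_filter_not (s := Finset.range (p ^ (k + 1)))
      (fun j => p ∣ j)
    rw [hset, Finset.card_image_of_injective _ (fun a b h => Nat.eq_of_mul_eq_mul_left hp.pos h),
      Finset.card_range, Finset.card_range] at h
    omega
  rw [← Finset.sum_filter_add_sum_filter_not (Finset.range (p ^ (k + 1))) (fun j => p ∣ j), hset,
    Finset.sum_image (fun a _ b _ h => Nat.eq_of_mul_eq_mul_left hp.pos h)] at hA
  simp only [pow_mul] at hA
  rw [hB, Finset.sum_congr rfl (fun j hj => hconst j (Finset.mem_filter.mp hj).2), Finset.sum_const,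
    nsmul_eq_mul] at hA
  have hc : (((Finset.range (p ^ (k + 1))).filter (fun j => ¬ p ∣ j)).card : ℂ) + (p : ℂ) ^ k =
      (p : ℂ) ^ (k + 1) := by exact_mod_cast hcount
  push_cast at hA
  have hpk : (p : ℂ) ^ k ≠ 0 := pow_ne_zero _ (Nat.cast_ne_zero.2 hp.ne_zero)
  have h1 : (B : ℂ) + ((p : ℂ) - 1) * ρ.character x = (p : ℂ) * A := by
    refine mul_left_cancel₀ hpk ?_
    linear_combination hA - ρ.character x * hc
  have hp1 : (p : ℂ) - 1 ≠ 0 := sub_ne_zero.2 (by exact_mod_cast hp.one_lt.ne')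
  obtain ⟨z, hz⟩ := Chars.exists_int_eq_of_isIntegral (Chars.char_isIntegral ρ x)
    ((((p : ℚ) * A - B)) / ((p : ℚ) - 1)) (by
      push_cast
      rw [eq_div_iff hp1]
      linear_combination h1)
  refine ⟨z, hz, ?_⟩
  rw [hz] at h1
  have h2 : (B : ℤ) + ((p : ℤ) - 1) * z = (p : ℤ) * A := by exact_mod_cast h1
  have h3 : (0 : ℤ) ≤ (p : ℤ) * A := by positivity
  omega

/-- Products of differences with constants of a generalized character. -/
theorem isGeneralizedCharacter_prod_sub {G : Type*} [Group G] [Finite G] {χ : G → ℂ}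
    (hχ : Cfsg.IsCharacter G χ) (c : ℕ → ℤ) (m : ℕ) :
    Cfsg.IsGeneralizedCharacter G (fun g => ∏ j ∈ Finset.range m, (χ g - (c j : ℂ))) := by
  induction m with
  | zero =>
    simp only [Finset.range_zero, Finset.prod_empty]
    exact Chars.isGeneralizedCharacter_of_isCharacter
      (Chars.irr_isCharacter (Chars.trivialIrr G))
  | succ m ih =>
    have h : Cfsg.IsGeneralizedCharacter G (fun g => χ g - (c m : ℂ)) := by
      have h2 : Cfsg.IsGeneralizedCharacter G ((c m : ℂ) • (fun _ : G => (1 : ℂ))) :=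
        Chars.isGeneralizedCharacter_int_smul (c m)
          (Chars.isGeneralizedCharacter_of_isCharacter (Chars.irr_isCharacter (Chars.trivialIrr G)))
      convert Chars.isGeneralizedCharacter_sub (Chars.isGeneralizedCharacter_of_isCharacter hχ) h2
        using 1
      funext g
      simp
    convert Chars.isGeneralizedCharacter_mul ih h using 1
    funext g
    simp [Finset.prod_range_succ]

/-- Let the finite group G have a faithful p-rational character χ of degree n (all values of χ lie in the field generated over ℚ by a root of unity of order prime to p), and let p^a be the order of a Sylow p-subgroup of G. Then a ≤ Σ_{i ≥ 0} ⌊n / ((p − 1)·p^i)⌋ (a finite sum; the terms vanish once (p − 1)p^i > n). -/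
theorem result {G : Type*} [Group G] [Finite G] (p : ℕ) (hp : p.Prime) (χ : G → ℂ) (hχ : Cfsg.IsCharacter G χ) (hfaith : ∀ g : G, χ g = χ 1 → g = 1) (hrat : (∃ r : ℕ, 0 < r ∧ ¬ p ∣ r ∧ ∀ g : G, χ g ∈ IntermediateField.adjoin ℚ ({Complex.exp (2 * Real.pi * Complex.I / r)} : Set ℂ))) (n : ℕ) (hn : Cfsg.charDegree χ = n) : (Nat.card G).factorization p ≤ ∑ i ∈ Finset.range (n + 1), n / ((p - 1) * p ^ i) := by
  classical
  cases nonempty_fintype G
  haveI := Fact.mk hp
  obtain ⟨d, ρ, rfl⟩ := hχ
  have hd : d = n := by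
    rw [← hn]
    have h : ρ.character 1 = (d : ℂ) := by simp [Representation.char_one]
    rw [Cfsg.charDegree, h]
    simp
  subst hd
  obtain ⟨r, hr, hpr, hvals⟩ := hrat
  obtain ⟨P⟩ : Nonempty (Sylow p G) := inferInstance
  haveI : Fintype (P : Subgroup G) := Fintype.ofFinite _
  set a := (Nat.card G).factorization p with ha
  set m := d / (p - 1) with hm
  obtain ⟨M, hM⟩ := CharCount.exists_isPModular p hp
  haveI : M.IsPrime := Blocks.isPModular_isPrime hM
  have hval : ∀ x : G, x ≠ 1 → (∃ k, orderOf x = p ^ k) →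
      ∃ j ∈ Finset.range m, ρ.character x = (((d : ℤ) - (p : ℤ) * (j + 1) : ℤ) : ℂ) := by
    rintro x hx ⟨k, hk⟩
    obtain ⟨k, rfl⟩ := Nat.exists_eq_succ_of_ne_zero
      (fun h : k = 0 => hx (orderOf_eq_one_iff.1 (by rw [hk, h, pow_zero])))
    have hconst : ∀ j : ℕ, ¬ p ∣ j → ρ.character (x ^ j) = ρ.character x := by
      intro j hj
      have hcop : (p ^ (k + 1)).Coprime r := ((hp.coprime_iff_not_dvd.2 hpr).pow_left _)
      obtain ⟨K, hK1, hK2⟩ := Nat.chineseRemainder hcop j 1
      have hKc : K.Coprime (p ^ (k + 1) * r) := by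
        refine Nat.Coprime.mul_right ((hp.coprime_iff_not_dvd.2 fun hd => hj ?_).symm.pow_right _) ?_
        · have : K ≡ j [MOD p] := hK1.of_dvd (dvd_pow_self p k.succ_ne_zero)
          exact (this.dvd_iff dvd_rfl).1 hd
        · rw [Nat.coprime_comm, Nat.coprime_iff_gcd_eq_one, Nat.gcd_comm, hK2.gcd_eq, Nat.gcd_one_left]
      obtain ⟨σ, hσ⟩ := GaloisChar.exists_ringEquiv_pow (Nat.mul_pos (pow_pos hp.pos _) hr) hKc
      have hord : orderOf x ∣ p ^ (k + 1) * r := hk ▸ dvd_mul_right _ _
      have h1 : σ.toRingHom (ρ.character x) = ρ.character (x ^ K) :=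
        Jordan.gal_char_eq_pow ρ σ.toRingHom K x fun ζ hζ =>
          hσ ζ (orderOf_dvd_iff_pow_eq_one.1 ((orderOf_dvd_iff_pow_eq_one.2 hζ).trans hord))
      have h2 : x ^ K = x ^ j := pow_eq_pow_iff_modEq.2 (hk.symm ▸ hK1)
      rw [← h2, ← h1]
      show σ (ρ.character x) = ρ.character x
      set ζ := Complex.exp (2 * Real.pi * Complex.I / r) with hζ
      have hprim : IsPrimitiveRoot ζ r := Complex.isPrimitiveRoot_exp r hr.ne'
      have hσζ : σ ζ = ζ := by
        rw [hσ ζ (by rw [mul_comm, pow_mul, hprim.pow_eq_one, one_pow])]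
        have hmod : K % r = 1 % r := hK2
        rw [pow_eq_pow_mod K hprim.pow_eq_one, hmod, ← pow_eq_pow_mod 1 hprim.pow_eq_one, pow_one]
      refine IntermediateField.adjoin_induction ℚ (p := fun y _ => σ y = y) ?_ ?_ ?_ ?_ ?_ (hvals x)
      · intro y hy
        rw [Set.mem_singleton_iff] at hy
        rw [hy, hσζ]
      · intro q
        simp
      · intro u v _ _ hu hv; rw [map_add, hu, hv]
      · intro u _ hu; rw [map_inv₀, hu]
      · intro u v _ _ hu hv; rw [map_mul, hu, hv]
    obtain ⟨z, hz, hzlow⟩ := exists_int_value hp ρ hk hconst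
    have hcongr := BlockCongr.char_congr_one hM (χ := ρ.character) ⟨d, ρ, rfl⟩
      (g := x) (j := k + 1) (by rw [← hk, pow_orderOf_eq_one])
    have h1 : ρ.character 1 = (d : ℂ) := by simp [Representation.char_one]
    rw [hz, h1, show ((z : ℂ) - (d : ℂ)) = ((z - (d : ℤ) : ℤ) : ℂ) by push_cast; ring,
      Blocks.memLocalIdeal_intCast_iff hM] at hcongr
    obtain ⟨q, hq⟩ := hcongr
    have hzlt : z < d := by
      have hle : z ≤ (d : ℤ) := by
        have h := Chars.norm_char_le ρ x
        rw [hz, Complex.norm_intCast, Module.finrank_fin_fun] at h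
        exact_mod_cast (le_abs_self (z : ℝ)).trans h
      rcases hle.lt_or_eq with h | h
      · exact h
      · exact absurd (hfaith x (by rw [hz, h1, h, Int.cast_natCast])) hx
    have hp0 : (0 : ℤ) < p := by exact_mod_cast hp.pos
    have hqneg : q < 0 := by nlinarith
    obtain ⟨j, hj⟩ : ∃ j : ℕ, q = -((j : ℤ) + 1) := ⟨(-q - 1).toNat, by omega⟩
    refine ⟨j, ?_, ?_⟩
    · rw [Finset.mem_range, hm]
      have hp1 : 1 ≤ p := hp.pos
      rw [Nat.lt_iff_add_one_le, Nat.le_div_iff_mul_le (by have := hp.two_le; omega)]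
      have hzeq : z = (d : ℤ) - (p : ℤ) * ((j : ℤ) + 1) := by rw [hj] at hq; linarith
      rw [hzeq] at hzlow
      have hpz : ((p - 1 : ℕ) : ℤ) = (p : ℤ) - 1 := by rw [Nat.cast_sub hp1]; simp
      have : (((j + 1) * (p - 1) : ℕ) : ℤ) ≤ (d : ℤ) := by
        push_cast [hpz]
        refine le_of_mul_le_mul_left ?_ hp0
        nlinarith
      exact_mod_cast this
    · rw [hz]
      congr 1
      rw [hj] at hq
      linarith
  -- the product supported at the identity
  let f : ↥(P : Subgroup G) → ℂ := fun y =>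
    ∏ j ∈ Finset.range m, (ρ.character (y : G) - (((d : ℤ) - (p : ℤ) * (j + 1) : ℤ) : ℂ))
  have hf : Cfsg.IsGeneralizedCharacter (P : Subgroup G) f :=
    isGeneralizedCharacter_prod_sub (χ := fun y : (P : Subgroup G) => ρ.character (y : G))
      (Chars.isCharacter_comp (P : Subgroup G).subtype ⟨d, ρ, rfl⟩)
      (fun j => (d : ℤ) - (p : ℤ) * (j + 1)) m
  obtain ⟨e, he⟩ := Chars.isGeneralizedCharacter_classInner_int hf
    (Chars.isGeneralizedCharacter_of_isCharacter
      (Chars.irr_isCharacter (Chars.trivialIrr (P : Subgroup G))))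
  have hf1 : f 1 = ((p ^ m * m.factorial : ℕ) : ℂ) := by
    have h1 : ρ.character 1 = (d : ℂ) := by simp [Representation.char_one]
    simp only [f, OneMemClass.coe_one, h1]
    rw [Finset.prod_congr rfl (g := fun j : ℕ => (p : ℂ) * ((j + 1 : ℕ) : ℂ))
      (fun j _ => by push_cast; ring), Finset.prod_mul_distrib, Finset.prod_const, Finset.card_range,
      ← Nat.cast_prod, Finset.prod_range_add_one_eq_factorial]
    push_cast
    ring
  have hsum : Cfsg.classInner f (Chars.trivialIrr ↥(P : Subgroup G) : ↥(P : Subgroup G) → ℂ) =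
      (Nat.card (P : Subgroup G) : ℂ)⁻¹ * f 1 := by
    rw [Cfsg.classInner]
    congr 1
    rw [Finset.sum_eq_single (1 : (P : Subgroup G)) ?_ (fun h => absurd (Finset.mem_univ _) h)]
    · simp
    · intro y _ hy
      obtain ⟨k, hk⟩ := IsPGroup.iff_orderOf.1 P.isPGroup' y
      obtain ⟨j, hj, hje⟩ := hval (y : G) (fun h => hy (Subtype.ext h))
        ⟨k, by rw [Subgroup.orderOf_coe, hk]⟩
      refine mul_eq_zero_of_left (Finset.prod_eq_zero hj ?_) _
      rw [hje, sub_self]
  rw [hsum, inv_mul_eq_iff_eq_mul₀ Chars.natCard_ne_zero, hf1] at he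
  have hdvd : p ^ a ∣ p ^ m * m.factorial := by
    rw [← Int.natCast_dvd_natCast]
    refine ⟨e, ?_⟩
    have hc : Nat.card (P : Subgroup G) = p ^ a := P.card_eq_multiplicity
    rw [hc] at he
    exact_mod_cast he
  rw [hp.pow_dvd_iff_le_factorization (mul_ne_zero (pow_ne_zero _ hp.ne_zero) m.factorial_ne_zero),
    Nat.factorization_mul (pow_ne_zero _ hp.ne_zero) m.factorial_ne_zero, Finsupp.add_apply,
    hp.factorization_pow, Finsupp.single_eq_same,
    Nat.factorization_factorial hp (b := d + 1) (by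
      exact Nat.lt_succ_of_le ((Nat.log_le_self p m).trans (Nat.div_le_self d (p - 1))))] at hdvd
  refine hdvd.trans ?_
  rw [Finset.range_eq_Ico, Finset.sum_eq_sum_Ico_succ_bot (Nat.succ_pos d), pow_zero, mul_one]
  refine Nat.add_le_add_left (le_of_eq (Finset.sum_congr rfl fun i _ => ?_)) _
  rw [hm, Nat.div_div_eq_div_mul]

end Cfsg.Agent.S4488
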