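import Cfsg.Statements.S4489
import Mathlib
import Cfsg.Agent.Lib.GaloisChar.Basic
import Cfsg.Agent.Lib.BrauerInd.Nilpotent
import Cfsg.Agent.Lib.Chars.Induced
import Cfsg.Agent.Lib.Chars.Ops
import Cfsg.Agent.Lib.Clifford.Restriction
import Cfsg.Agent.Lib.Codegree

set_option autoImplicit false
open Cfsg

namespace Cfsg.Agent.S4489

open Cfsg.Agent.Lib
open scoped ComplexConjugate

universe v

/-- The Galois orbit of an irreducible character. -/
abbrev GalOrbit {P : Type*} [Group P] (χ : Cfsg.IrrCharacter P) : Type _ :=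
  {ψ : Cfsg.IrrCharacter P // ∃ σ : ℂ ≃+* ℂ, ∀ g, (ψ : P → ℂ) g = σ ((χ : P → ℂ) g)}

/-- The orbit is no larger than the degree of the field of values. -/
theorem card_galOrbit_le_finrank {P : Type*} [Group P] [Finite P] (χ : Cfsg.IrrCharacter P) :
    Nat.card (GalOrbit χ) ≤
      Module.finrank ℚ (IntermediateField.adjoin ℚ (Set.range (χ : P → ℂ))) := by
  classical
  cases nonempty_fintype P
  set L := IntermediateField.adjoin ℚ (Set.range (χ : P → ℂ))
  haveI : FiniteDimensional ℚ L := IntermediateField.finiteDimensional_adjoin fun x hx => by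
    obtain ⟨g, rfl⟩ := hx
    exact (Chars.irr_isIntegral χ g).tower_top
  choose σ hσ using fun ψ : GalOrbit χ => ψ.2
  let f : GalOrbit χ → (L →ₐ[ℚ] ℂ) := fun ψ =>
    ((σ ψ : ℂ →+* ℂ).comp (L.val : L →+* ℂ)).toRatAlgHom
  have hf : Function.Injective f := by
    intro a b h
    refine Subtype.ext (Subtype.ext (funext fun g => ?_))
    rw [hσ a, hσ b]
    exact DFunLike.congr_fun h ⟨(χ : P → ℂ) g, IntermediateField.subset_adjoin _ _ ⟨g, rfl⟩⟩
  refine (Nat.card_le_card_of_injective f hf).trans ?_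
  rw [Nat.card_eq_fintype_card, AlgHom.card]

/-- Induction commutes with field automorphisms. -/
theorem gal_indFun {P : Type*} [Group P] [Fintype P] (N : Subgroup P) (σ : ℂ →+* ℂ) (φ : N → ℂ)
    (g : P) : σ (Cfsg.indFun N φ g) = Cfsg.indFun N (fun n => σ (φ n)) g := by
  simp only [Cfsg.indFun, map_mul, map_inv₀, map_natCast, map_sum]
  congr 1
  refine Finset.sum_congr rfl fun x _ => ?_
  by_cases hx : x⁻¹ * g * x ∈ N
  · rw [Chars.extendByZero_of_mem _ hx, Chars.extendByZero_of_mem _ hx]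
  · rw [Chars.extendByZero_of_not_mem _ hx, Chars.extendByZero_of_not_mem _ hx, map_zero]

/-- The bound for a faithful linear character. -/
theorem bound_linear {P : Type*} [Group P] [Finite P] {p a : ℕ} (hp : p.Prime)
    (hP : Nat.card P = p ^ a) (ha : 0 < a) (χ : Cfsg.IrrCharacter P)
    (hfaith : ∀ g : P, (χ : P → ℂ) g = (χ : P → ℂ) 1 → g = 1) (h1 : (χ : P → ℂ) 1 = 1) {t : ℕ}
    (ht : Nat.card (GalOrbit χ) ≤ (p - 1) * p ^ t) : a ≤ t + 1 := by
  classical
  obtain ⟨φ, hφ⟩ := Chars.exists_hom_of_degree_one (Chars.irr_isCharacter χ) h1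
  have hinj : Function.Injective ((Units.coeHom ℂ).comp φ) := by
    rw [injective_iff_map_eq_one]
    intro g hg
    refine hfaith g ?_
    rw [h1, hφ]
    exact hg
  haveI : IsCyclic P := isCyclic_of_injective_ringHom _ hinj
  obtain ⟨x, hx⟩ := IsCyclic.exists_generator (α := P)
  have hord : orderOf x = p ^ a := by rw [orderOf_eq_card_of_forall_mem_zpowers hx, hP]
  set ζ : ℂ := (φ x : ℂ) with hζ
  have hζo : orderOf ζ = p ^ a := by
    rw [← hord, hζ]
    exact orderOf_injective _ hinj x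
  have hζ1 : ζ ^ p ^ a = 1 := by rw [← hζo, pow_orderOf_eq_one]
  let S := {k : Fin (p ^ a) // (k : ℕ).Coprime (p ^ a)}
  choose σ hσ using fun k : S => GaloisChar.exists_ringEquiv_pow (pow_pos hp.pos a) k.2
  let f : S → GalOrbit χ := fun k =>
    ⟨GaloisChar.galIrr (σ k : ℂ →+* ℂ) χ, σ k, fun g => rfl⟩
  have hf : Function.Injective f := by
    intro k l h
    have h' : (σ k) ((χ : P → ℂ) x) = (σ l) ((χ : P → ℂ) x) :=
      congrFun (congrArg Subtype.val (congrArg Subtype.val h)) x
    rw [hφ, hσ k _ hζ1, hσ l _ hζ1] at h'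
    exact Subtype.ext (Fin.ext (pow_injOn_Iio_orderOf (hζo.symm ▸ k.1.2) (hζo.symm ▸ l.1.2) h'))
  have hS : Nat.card S = (p ^ a).totient := by
    rw [Nat.card_eq_fintype_card, Fintype.card_subtype, Nat.totient]
    refine Finset.card_bij (fun k _ => (k : ℕ)) (fun k hk => ?_) (fun k _ l _ h => Fin.ext h)
      (fun n hn => ?_)
    · simp only [Finset.mem_filter, Finset.mem_range]
      exact ⟨k.2, (Finset.mem_filter.mp hk).2.symm⟩
    · simp only [Finset.mem_filter, Finset.mem_range] at hn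
      exact ⟨⟨n, hn.1⟩, Finset.mem_filter.mpr ⟨Finset.mem_univ _, hn.2.symm⟩, rfl⟩
  have h := (Nat.card_le_card_of_injective f hf).trans ht
  rw [hS, Nat.totient_prime_pow hp ha, mul_comm] at h
  have h' := Nat.le_of_mul_le_mul_left h (Nat.sub_pos_of_lt hp.one_lt)
  have := (Nat.pow_le_pow_iff_right hp.one_lt).1 h'
  omega

/-- A proper subgroup of a p-group lies in a normal subgroup of index p. -/
theorem exists_normal_index_prime_ge {P : Type*} [Group P] [Finite P] {p : ℕ} [hp : Fact p.Prime]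
    (hP : IsPGroup p P) (T : Subgroup P) (hT : T ≠ ⊤) :
    ∃ N : Subgroup P, N.Normal ∧ N.index = p ∧ T ≤ N := by
  obtain ⟨N, hN, hTN⟩ := (eq_top_or_exists_le_coatom T).resolve_left hT
  haveI := hP.isNilpotent
  haveI hNn : N.Normal :=
    Subgroup.NormalizerCondition.normal_of_coatom N Group.normalizerCondition_of_isNilpotent hN
  refine ⟨N, hNn, ?_, hTN⟩
  have hQ : IsPGroup p (P ⧸ N) := hP.to_quotient N
  obtain ⟨k, hk⟩ := IsPGroup.iff_card.mp hQ
  have hidx : N.index = p ^ k := hk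
  have hk0 : k ≠ 0 := fun h => hN.1 (Subgroup.index_eq_one.mp (by rw [hidx, h, pow_zero]))
  obtain ⟨q, hq⟩ := exists_prime_orderOf_dvd_card' (G := P ⧸ N) p (hk ▸ dvd_pow_self p hk0)
  have hle : N ≤ (Subgroup.zpowers q).comap (QuotientGroup.mk' N) := fun n hn => by
    rw [Subgroup.mem_comap, QuotientGroup.mk'_apply, (QuotientGroup.eq_one_iff n).mpr hn]
    exact one_mem _
  rcases hle.lt_or_eq with hlt | heq
  · have h := hN.2 _ hlt
    have htop : Subgroup.zpowers q = ⊤ := by
      rw [eq_top_iff]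
      intro y _
      obtain ⟨g, rfl⟩ := QuotientGroup.mk'_surjective N y
      exact (Subgroup.mem_comap.mp (h ▸ Subgroup.mem_top g) :)
    have hc := congrArg (fun H : Subgroup (P ⧸ N) => Nat.card H) htop
    simp only [Nat.card_zpowers, hq, Subgroup.card_top] at hc
    exact hc.symm
  · obtain ⟨g, rfl⟩ := QuotientGroup.mk'_surjective N q
    have hg : g ∈ N := heq ▸ (Subgroup.mem_zpowers (QuotientGroup.mk' N g) :)
    rw [QuotientGroup.mk'_apply, (QuotientGroup.eq_one_iff g).mpr hg, orderOf_one] at hq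
    exact absurd hq.symm hp.out.ne_one

/-- An irreducible character of a p-group of degree above one is induced from an irreducible
character of a normal subgroup of index p. -/
theorem exists_induced_index_prime {P : Type*} [Group P] [Fintype P] {p : ℕ} [Fact p.Prime]
    (hP : IsPGroup p P) (χ : Cfsg.IrrCharacter P) (h1 : (χ : P → ℂ) 1 ≠ 1) :
    ∃ N : Subgroup P, N.Normal ∧ N.index = p ∧
      ∃ φ : Cfsg.IrrCharacter N, Cfsg.indFun N (φ : N → ℂ) = (χ : P → ℂ) := by
  classical
  haveI := hP.isNilpotent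
  obtain ⟨T, lam, hT⟩ := BrauerInd.exists_monomial P (χ : P → ℂ) χ.2
  have hTtop : T ≠ ⊤ := by
    intro h
    apply h1
    rw [hT, Chars.indFun_one_eq, map_one, Units.val_one, h, Subgroup.index_top, Nat.cast_one,
      one_mul]
  obtain ⟨N, hNn, hNi, hTN⟩ := exists_normal_index_prime_ge hP T hTtop
  haveI : Fintype N := Fintype.ofFinite _
  let ν : N → ℂ := Cfsg.indFun (T.subgroupOf N)
    fun x => (lam ⟨(x : N), Subgroup.mem_subgroupOf.mp x.2⟩ : ℂ)
  have hν : Cfsg.IsCharacter N ν := Chars.isCharacter_indFun _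
    (Chars.isCharacter_hom (lam.comp (Subgroup.subgroupOfEquivOfLe hTN).toMonoidHom))
  have hind : Cfsg.indFun N ν = (χ : P → ℂ) := by
    rw [hT]
    exact Chars.indFun_trans (H := T) N hTN fun t => (lam t : ℂ)
  obtain ⟨c, hc⟩ := Chars.isCharacter_exists_nat_decomp hν
  obtain ⟨k, hk⟩ := Chars.isCharacter_exists_nat_decomp
    (Chars.isCharacter_restrict N (Chars.irr_isCharacter χ))
  -- the multiplicities of ν pair to one with those of the restriction
  have hsum : ∑ ψ, c ψ * k ψ = 1 := by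
    have h := Chars.classInner_indFun_left N ν _ (Chars.irr_isClassFunction χ)
    rw [hind, Chars.classInner_irr_self, hk, hc, Chars.classInner_sum_smul_sum_smul] at h
    simp only [Complex.conj_natCast, ← Nat.cast_mul, ← Nat.cast_sum] at h
    exact_mod_cast h.symm
  have hle : ∀ ψ, c ψ ≤ k ψ := by
    intro ψ
    have h1' : Cfsg.classInner (fun n : N => (χ : P → ℂ) n) (ψ : N → ℂ) = (k ψ : ℂ) := by
      rw [hk, Chars.classInner_sum_smul_irr]
    rw [← hind] at h1'
    haveI := hNn
    rw [show (fun n : N => Cfsg.indFun N ν n) = Clifford.resFun N (Cfsg.indFun N ν) from rfl,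
      Clifford.resFun_indFun, Chars.classInner_smul_left, Chars.classInner_sum_left] at h1'
    choose e he using fun x : P => Chars.isCharacter_classInner_nat
      (Clifford.isCharacter_conjFun x hν) (Chars.irr_isCharacter ψ)
    simp only [he, ← Nat.cast_sum] at h1'
    rw [inv_mul_eq_iff_eq_mul₀ Chars.natCard_ne_zero, ← Nat.cast_mul, Nat.cast_inj] at h1'
    have hN : ∀ n : N, e (n : P) = c ψ := by
      intro n
      have hcn : Clifford.conjFun (n : P) ν = ν := funext fun y =>
        Chars.isClassFunction_of_isCharacter hν y n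
      have h := he (n : P)
      rw [hcn, hc, Chars.classInner_sum_smul_irr] at h
      exact_mod_cast h.symm
    have hge : Nat.card N * c ψ ≤ ∑ x : P, e x := by
      calc Nat.card N * c ψ = ∑ n : N, e (n : P) := by
            simp [hN, Nat.card_eq_fintype_card]
        _ ≤ ∑ x : P, e x := by
            rw [← Finset.sum_subtype (Finset.univ.filter fun x => x ∈ N) (by simp) e]
            exact Finset.sum_le_univ_sum_of_nonneg fun _ => Nat.zero_le _
    rw [h1'] at hge
    exact Nat.le_of_mul_le_mul_left hge Nat.card_pos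
  obtain ⟨ψ, -, hψ⟩ := Finset.exists_ne_zero_of_sum_ne_zero (hsum.trans_ne one_ne_zero)
  have hle1 : c ψ * k ψ ≤ 1 :=
    hsum ▸ Finset.single_le_sum (f := fun ψ => c ψ * k ψ) (fun _ _ => Nat.zero_le _)
      (Finset.mem_univ ψ)
  have hcψ : c ψ = 1 := by
    rcases Nat.mul_ne_zero_iff.mp hψ with ⟨ha, hb⟩
    have : c ψ ≤ c ψ * k ψ := Nat.le_mul_of_pos_right _ (Nat.pos_of_ne_zero hb)
    omega
  have hrest : ∀ η, η ≠ ψ → c η = 0 := by
    intro η hη
    have := Finset.add_le_sum (f := fun ψ => c ψ * k ψ) (fun _ _ => Nat.zero_le _)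
      (Finset.mem_univ η) (Finset.mem_univ ψ) hη
    rw [hsum] at this
    have hpos : 1 ≤ c ψ * k ψ := Nat.pos_of_ne_zero hψ
    rcases Nat.mul_eq_zero.mp (show c η * k η = 0 by omega) with h | h
    · exact h
    · have := hle η
      omega
  refine ⟨N, hNn, hNi, ψ, ?_⟩
  rw [← hind, hc, Finset.sum_eq_single ψ (fun η _ hη => by simp [hrest η hη])
    (fun h => absurd (Finset.mem_univ ψ) h), hcψ, Nat.cast_one, one_smul]

/-- The main induction. -/
theorem bound {p : ℕ} (hp : p.Prime) : ∀ (a : ℕ) {P : Type v} [Group P] [Finite P],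
    Nat.card P = p ^ a → ∀ (χ : Cfsg.IrrCharacter P),
      (∀ g : P, (χ : P → ℂ) g = (χ : P → ℂ) 1 → g = 1) → ∀ (f t : ℕ), (χ : P → ℂ) 1 = f →
        Nat.card (GalOrbit χ) ≤ (p - 1) * p ^ t → (p - 1) * a ≤ (f - 1) + (p - 1) * (t + 1) * f := by
  intro a
  induction a using Nat.strong_induction_on with
  | _ a ih =>
  intro P _ _ hP χ hfaith f t hf ht
  classical
  cases nonempty_fintype P
  haveI := Fact.mk hp
  rcases Nat.eq_zero_or_pos a with rfl | ha
  · simp
  by_cases h1 : (χ : P → ℂ) 1 = 1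
  · have hat := bound_linear hp hP ha χ hfaith h1 ht
    rw [h1] at hf
    have hf1 : f = 1 := by exact_mod_cast hf.symm
    subst hf1
    rw [Nat.sub_self, Nat.zero_add, mul_one]
    exact Nat.mul_le_mul_left _ hat
  obtain ⟨N, hNn, hNi, φ, hφ⟩ := exists_induced_index_prime (IsPGroup.of_card hP) χ h1
  haveI := hNn
  haveI : Fintype N := Fintype.ofFinite _
  have hp2 := hp.two_le
  have hNcard : Nat.card N = p ^ (a - 1) := by
    have h := N.card_mul_index
    rw [hNi, hP, ← Nat.sub_add_cancel ha, pow_succ] at h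
    exact Nat.eq_of_mul_eq_mul_right hp.pos h
  obtain ⟨f', hf'⟩ := Chars.isCharacter_exists_degree (Chars.irr_isCharacter φ)
  have hff : f = p * f' := by
    have h := congrFun hφ 1
    rw [Chars.indFun_one_eq, hNi, hf', hf] at h
    exact_mod_cast h.symm
  have hf'pos : 1 ≤ f' := Nat.pos_of_ne_zero fun h =>
    Chars.irr_apply_one_ne_zero φ (by rw [hf', h, Nat.cast_zero])
  -- the map between the orbits
  have hgal : ∀ σ : ℂ ≃+* ℂ, Cfsg.indFun N (fun n => σ ((φ : N → ℂ) n)) =
      fun g => σ ((χ : P → ℂ) g) := fun σ => funext fun g => by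
    rw [← hφ]
    exact (gal_indFun N (σ : ℂ →+* ℂ) _ g).symm
  choose s hs using fun ψ : GalOrbit φ => ψ.2
  let F : GalOrbit φ → GalOrbit χ := fun ψ =>
    ⟨GaloisChar.galIrr (s ψ : ℂ →+* ℂ) χ, s ψ, fun g => rfl⟩
  have hFval : ∀ ψ : GalOrbit φ,
      Cfsg.indFun N ((ψ.1 : Cfsg.IrrCharacter N) : N → ℂ) = ((F ψ).1 : P → ℂ) := fun ψ => by
    rw [show ((ψ.1 : Cfsg.IrrCharacter N) : N → ℂ) = fun n => s ψ ((φ : N → ℂ) n) from
      funext (hs ψ), hgal]
    rfl
  have hfib : ∀ ψ η : GalOrbit φ, F ψ = F η →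
      ∃ x : P, Clifford.conjFun x ((ψ.1 : Cfsg.IrrCharacter N) : N → ℂ) = (η.1 : N → ℂ) := by
    intro ψ η h
    have hmem : ∀ ρ : GalOrbit φ,
        Cfsg.classInner (Clifford.resFun N ((F ρ).1 : P → ℂ)) (ρ.1 : N → ℂ) ≠ 0 := by
      intro ρ h0
      have h2 := Chars.classInner_indFun_left N ((ρ.1 : Cfsg.IrrCharacter N) : N → ℂ) _
        (Chars.irr_isClassFunction (F ρ).1)
      rw [hFval ρ, Chars.classInner_irr_self, ← Chars.conj_classInner,
        show (fun n : N => ((F ρ).1 : P → ℂ) n) = Clifford.resFun N ((F ρ).1 : P → ℂ) from rfl,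
        h0, map_zero] at h2
      exact one_ne_zero h2
    exact Clifford.exists_conjFun_eq_of_constituent (F ψ).1.2 ψ.1.2 η.1.2 (hmem ψ) (h ▸ hmem η)
  have hconjmul : ∀ (θ : Cfsg.IrrCharacter N) (x : P) (n : N),
      Clifford.conjFun (x * n) (θ : N → ℂ) = Clifford.conjFun x (θ : N → ℂ) := by
    intro θ x n
    rw [Clifford.conjFun_mul]
    funext y
    exact Chars.isClassFunction_of_isCharacter
      (Clifford.isCharacter_conjFun x (Chars.irr_isCharacter θ)) y n
  by_cases hφfaith : ∀ n : N, (φ : N → ℂ) n = (φ : N → ℂ) 1 → n = 1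
  · -- at most p preimages
    have hle : Nat.card (GalOrbit φ) ≤ p * Nat.card (GalOrbit χ) := by
      rw [← hNi, Subgroup.index, mul_comm, ← Nat.card_prod]
      haveI : Nonempty (GalOrbit φ) := ⟨⟨φ, RingEquiv.refl ℂ, fun g => rfl⟩⟩
      have hpick : ∀ ψ : GalOrbit φ, ∃ q : P ⧸ N,
          Clifford.conjFun q.out ((Function.invFun F (F ψ)).1 : N → ℂ) = (ψ.1 : N → ℂ) := by
        intro ψ
        obtain ⟨x, hx⟩ := hfib _ ψ (Function.invFun_eq ⟨ψ, rfl⟩)
        refine ⟨(x : P ⧸ N), ?_⟩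
        obtain ⟨n, hn⟩ := QuotientGroup.mk_out_eq_mul N x
        rw [hn, hconjmul, hx]
      choose q hq using hpick
      refine Nat.card_le_card_of_injective (fun ψ => (F ψ, q ψ)) fun a b h => ?_
      simp only [Prod.mk.injEq] at h
      have ha := hq a
      rw [h.1, h.2, hq b] at ha
      exact Subtype.ext (Subtype.ext ha.symm)
    have hN := ih (a - 1) (by omega) (P := N) hNcard φ hφfaith f' (t + 1) hf' (by
      refine hle.trans ((Nat.mul_le_mul_left p ht).trans (le_of_eq ?_))
      rw [pow_succ]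
      ring)
    rw [hff]
    obtain ⟨q, rfl⟩ : ∃ q, p = q + 2 := ⟨p - 2, by omega⟩
    obtain ⟨b, rfl⟩ : ∃ b, a = b + 1 := ⟨a - 1, by omega⟩
    obtain ⟨g, rfl⟩ : ∃ g, f' = g + 1 := ⟨f' - 1, by omega⟩
    have e : (q + 2) * (g + 1) - 1 = (q + 2) * g + q + 1 := by
      rw [mul_add, mul_one]
      omega
    rw [e]
    simp only [Nat.add_sub_cancel, show q + 2 - 1 = q + 1 from rfl] at hN ⊢
    nlinarith [hN, Nat.zero_le ((q + 1) * g), Nat.zero_le ((q + 1) * (g + 1) * (t * q + t + q))]
  · -- the orbit does not grow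
    have hK : ∃ K : Subgroup N, K.Normal ∧ ∀ n : N, n ∈ K ↔ (φ : N → ℂ) n = (φ : N → ℂ) 1 :=
      Codegree.exists_kerSubgroup φ
    obtain ⟨K, hKn, hKmem⟩ := hK
    haveI := hKn
    have hnotnormal : ∀ x : P,
        (∀ n : N, n ∈ K ↔ (⟨x * n * x⁻¹, hNn.conj_mem n n.2 x⟩ : N) ∈ K) → x ∈ N := by
      intro x hx
      by_contra hxN
      let S : Subgroup P :=
        { carrier := {g | ∀ n : N, n ∈ K ↔ (⟨g * n * g⁻¹, hNn.conj_mem n n.2 g⟩ : N) ∈ K}
          one_mem' := fun n => by simp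
          mul_mem' := fun {u w} hu hw n => by
            refine (hw n).trans ((hu _).trans (iff_of_eq (congrArg (· ∈ K) (Subtype.ext ?_))))
            simp [mul_assoc]
          inv_mem' := fun {u} hu n => by
            refine Iff.symm ((hu _).trans (iff_of_eq (congrArg (· ∈ K) (Subtype.ext ?_))))
            simp [mul_assoc] }
      have hNS : N ≤ S := fun u hu n => by
        have he : (⟨u * n * u⁻¹, hNn.conj_mem n n.2 u⟩ : N) = ⟨u, hu⟩ * n * ⟨u, hu⟩⁻¹ :=
          Subtype.ext rfl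
        rw [he]
        exact ⟨fun h => hKn.conj_mem n h _, fun h => by
          have := hKn.conj_mem _ h ⟨u, hu⟩⁻¹
          simpa [mul_assoc] using this⟩
      have hStop : S = ⊤ := by
        have hdvd := Subgroup.index_dvd_of_le hNS
        rw [hNi] at hdvd
        rcases (Nat.dvd_prime hp).mp hdvd with h | h
        · exact Subgroup.index_eq_one.mp h
        · exfalso
          apply hxN
          have hrel : N.relIndex S = 1 := by
            have := Subgroup.relIndex_mul_index hNS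
            rw [h, hNi] at this
            exact Nat.eq_of_mul_eq_mul_right hp.pos (this.trans (one_mul p).symm)
          exact (Subgroup.relIndex_eq_one.mp hrel) hx
      apply hφfaith
      intro n hn
      refine Subtype.ext (hfaith (n : P) ?_)
      have hall : ∀ g : P, (φ : N → ℂ) ⟨g * n * g⁻¹, hNn.conj_mem n n.2 g⟩ = (φ : N → ℂ) 1 :=
        fun g => (hKmem _).mp (((hStop ▸ Subgroup.mem_top g : g ∈ S) n).mp ((hKmem n).mpr hn))
      have h := congrFun (Clifford.resFun_indFun (G := P) (φ : N → ℂ)) n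
      simp only [Clifford.resFun_apply, hφ, Pi.smul_apply, Finset.sum_apply, smul_eq_mul] at h
      have hsum : ∑ g : P, Clifford.conjFun g (φ : N → ℂ) n = ∑ _g : P, (φ : N → ℂ) 1 :=
        Finset.sum_congr rfl fun g _ => hall g
      rw [h, hsum, ← hφ,
        Chars.indFun_one_eq, Finset.sum_const, Finset.card_univ, nsmul_eq_mul,
        Fintype.card_eq_nat_card, ← N.card_mul_index, Nat.cast_mul, mul_assoc,
        inv_mul_cancel_left₀ Chars.natCard_ne_zero]
    have hle : Nat.card (GalOrbit φ) ≤ Nat.card (GalOrbit χ) := by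
      refine Nat.card_le_card_of_injective F fun ψ η h => ?_
      obtain ⟨x, hx⟩ := hfib ψ η h
      have hker : ∀ (ρ : GalOrbit φ) (n : N),
          (ρ.1 : N → ℂ) n = (ρ.1 : N → ℂ) 1 ↔ n ∈ K := fun ρ n => by
        rw [hs ρ, hs ρ, (s ρ).injective.eq_iff, hKmem]
      have hxN : x ∈ N := hnotnormal x fun n => by
        rw [← hker η n, ← hker ψ, ← hx, Clifford.conjFun_apply_one]
        rfl
      have hid : Clifford.conjFun x ((ψ.1 : Cfsg.IrrCharacter N) : N → ℂ) = (ψ.1 : N → ℂ) := by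
        have := hconjmul ψ.1 1 ⟨x, hxN⟩
        rwa [one_mul, Clifford.conjFun_one] at this
      exact Subtype.ext (Subtype.ext (hid.symm.trans hx))
    -- the embedding into the product of the quotients
    have hsurjQ : ∀ n : N, (∀ q : P ⧸ N,
        (⟨q.out * n * q.out⁻¹, hNn.conj_mem n n.2 _⟩ : N) ∈ K) → n = 1 := by
      intro n hn
      refine Subtype.ext (hfaith (n : P) ?_)
      have hall : ∀ g : P, Clifford.conjFun g (φ : N → ℂ) n = (φ : N → ℂ) 1 := by
        intro g
        obtain ⟨m, hm⟩ := QuotientGroup.mk_out_eq_mul N g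
        have h := hconjmul φ g m
        rw [← hm] at h
        rw [← h]
        exact (hKmem _).mp (hn _)
      have h := congrFun (Clifford.resFun_indFun (G := P) (φ : N → ℂ)) n
      simp only [Clifford.resFun_apply, hφ, Pi.smul_apply, Finset.sum_apply, smul_eq_mul] at h
      have hsum : ∑ g : P, Clifford.conjFun g (φ : N → ℂ) n = ∑ _g : P, (φ : N → ℂ) 1 :=
        Finset.sum_congr rfl fun g _ => hall g
      rw [h, hsum, ← hφ,
        Chars.indFun_one_eq, Finset.sum_const, Finset.card_univ, nsmul_eq_mul,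
        Fintype.card_eq_nat_card, ← N.card_mul_index, Nat.cast_mul, mul_assoc,
        inv_mul_cancel_left₀ Chars.natCard_ne_zero]
    let Φ : N →* (P ⧸ N → N ⧸ K) := MonoidHom.pi fun q =>
      (QuotientGroup.mk' K).comp (MulAut.conjNormal (q.out : P) : N ≃* N).toMonoidHom
    have hΦ : Function.Injective Φ := by
      rw [injective_iff_map_eq_one]
      intro n hn
      refine hsurjQ n fun q => ?_
      have h : ((MulAut.conjNormal (q.out : P) n : N) : N ⧸ K) = 1 := congrFun hn q
      rw [QuotientGroup.eq_one_iff] at h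
      convert h using 1
      exact Subtype.ext (MulAut.conjNormal_apply _ _).symm
    obtain ⟨a', ha'⟩ := IsPGroup.iff_card.mp
      (((IsPGroup.of_card hNcard).to_quotient K : IsPGroup p (N ⧸ K)))
    have hcard : a - 1 ≤ p * a' := by
      have h := Subgroup.card_dvd_of_injective Φ hΦ
      rw [Nat.card_fun, ha', hNcard, ← pow_mul] at h
      have : Nat.card (P ⧸ N) = p := hNi
      rw [this, mul_comm] at h
      exact (Nat.pow_dvd_pow_iff_le_right hp.one_lt).mp h
    have ha'lt : a' < a := by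
      have h : p ^ a' ∣ p ^ (a - 1) := ha' ▸ hNcard ▸ Subgroup.card_quotient_dvd_card K
      have := (Nat.pow_dvd_pow_iff_le_right hp.one_lt).mp h
      omega
    obtain ⟨ψq, hψq⟩ := Chars.exists_irr_quotient K φ fun n hn => (hKmem n).mp hn
    have hψq1 : (ψq : N ⧸ K → ℂ) 1 = f' := by rw [← QuotientGroup.mk_one, hψq, hf']
    have hψqf : ∀ x, (ψq : N ⧸ K → ℂ) x = (ψq : N ⧸ K → ℂ) 1 → x = 1 := by
      intro x hx
      obtain ⟨n, rfl⟩ := QuotientGroup.mk_surjective x
      rw [← QuotientGroup.mk_one, hψq, hψq] at hx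
      exact (QuotientGroup.eq_one_iff n).mpr ((hKmem n).mpr hx)
    have horb : Nat.card (GalOrbit ψq) ≤ Nat.card (GalOrbit φ) := by
      refine Nat.card_le_card_of_injective (fun η => (⟨Chars.inflate K η.1, ?_⟩ : GalOrbit φ)) ?_
      · obtain ⟨σ, hσ⟩ := η.2
        exact ⟨σ, fun n => (hσ (n : N ⧸ K)).trans (congrArg σ (hψq n))⟩
      · intro u w h
        exact Subtype.ext (Chars.inflate_injective K (congrArg Subtype.val h))
    have hQ := ih a' ha'lt (P := N ⧸ K) ha' ψq hψqf f' t hψq1 (horb.trans (hle.trans ht))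
    rw [hff]
    obtain ⟨q, rfl⟩ : ∃ q, p = q + 2 := ⟨p - 2, by omega⟩
    obtain ⟨b, rfl⟩ : ∃ b, a = b + 1 := ⟨a - 1, by omega⟩
    obtain ⟨g, rfl⟩ : ∃ g, f' = g + 1 := ⟨f' - 1, by omega⟩
    have e : (q + 2) * (g + 1) - 1 = (q + 2) * g + q + 1 := by
      rw [mul_add, mul_one]
      omega
    rw [e]
    simp only [Nat.add_sub_cancel, show q + 2 - 1 = q + 1 from rfl] at hQ hcard ⊢
    nlinarith

/-- Let P be a finite p-group of order p^a with a > 0, and χ a faithful irreducible character of P of degree f whose field of values ℚ(χ) has degree (p − 1)·p^t over ℚ. Then a ≤ (f − 1)/(p − 1) + (t + 1)·f; in integer form, (p − 1)·a ≤ (f − 1) + (p − 1)(t + 1)·f. -/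
theorem result {P : Type*} [Group P] [Finite P] (p a : ℕ) (hp : p.Prime) (ha : 0 < a) (hP : Nat.card P = p ^ a) (χ : Cfsg.IrrCharacter P) (hfaith : ∀ g : P, (χ : P → ℂ) g = (χ : P → ℂ) 1 → g = 1) (f t : ℕ) (hf : Cfsg.charDegree (χ : P → ℂ) = f) (hfield : Module.finrank ℚ (IntermediateField.adjoin ℚ (Set.range (χ : P → ℂ))) = (p - 1) * p ^ t) : (p - 1) * a ≤ (f - 1) + (p - 1) * (t + 1) * f := by
  obtain ⟨n, hn⟩ := Cfsg.Agent.Lib.Chars.isCharacter_exists_degree
    (Cfsg.Agent.Lib.Chars.irr_isCharacter χ)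
  have hnf : n = f := by rw [← hf, Cfsg.Agent.Lib.Codegree.charDegree_eq hn]
  subst hnf
  exact bound hp a hP χ hfaith n t hn ((card_galOrbit_le_finrank χ).trans hfield.le)

end Cfsg.Agent.S4489
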