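import Cfsg.Statements.S4490
import Mathlib
import Cfsg.Agent.Lib.BlockCongr.FullDefect
import Cfsg.Agent.Lib.Chars.Ops

set_option autoImplicit false
open Cfsg

namespace Cfsg.Agent.S4490

open Cfsg.Agent.Lib Cfsg.Agent.Lib.Blocks Cfsg.Agent.Lib.BlockCongr
/-- Let G be a finite group and M a maximal ideal of the algebraic integers containing 2. Every 2-block B of G whose defect groups are the Sylow 2-subgroups of G (a block of full defect) and which is not the principal block is different from its complex-conjugate block, the block formed by the complex conjugates of the members of B. -/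
theorem result {G : Type*} [Group G] [Finite G] (M : Ideal Cfsg.AlgInt) (hM : Cfsg.IsPModular 2 M) (B : Set (Cfsg.IrrCharacter G)) (hB : Cfsg.IsPBlock M B) (P : Sylow 2 G) (hfull : Cfsg.IsDefectGroup 2 M B (P : Subgroup G)) (hnp : B ≠ Cfsg.principalBlock M G) : {ψ : Cfsg.IrrCharacter G | ∃ χ ∈ B, (ψ : G → ℂ) = fun g => (starRingEnd ℂ) ((χ : G → ℂ) g)} ≠ B := by
  classical
  intro heq
  have : M.IsPrime := isPModular_isPrime hM
  cases nonempty_fintype G
  obtain ⟨χ, hχ, hndvd⟩ := exists_degree_not_dvd hM hB P hfull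
  have hodd : Odd (Cfsg.charDegree (χ : G → ℂ)) :=
    Nat.odd_iff.mpr (Nat.two_dvd_ne_zero.mp hndvd)
  set χ' : Cfsg.IrrCharacter G := Chars.irrConj χ
  have hχ' : χ' ∈ B := by
    rw [← heq]
    exact ⟨χ, hχ, funext fun g => Chars.irrConj_apply χ g⟩
  have hblk : Cfsg.SameBlock M (χ : G → ℂ) (χ' : G → ℂ) := by
    rw [HeightZero.eq_blockOf_of_mem hB hχ] at hχ'
    exact hχ'
  apply hnp
  have hsame : Cfsg.SameBlock M (fun _ : G => (1 : ℂ)) (χ : G → ℂ) := by
    refine sameBlock_one_of_inv_invariant hM χ (fun z => ?_) (fix_of_odd_degree hM χ hodd)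
    have e : Cfsg.centralChar (χ : G → ℂ) z⁻¹ = Cfsg.centralChar (χ' : G → ℂ) z := by
      rw [Cfsg.centralChar, Cfsg.centralChar, centralizer_inv_eq, Chars.irr_inv,
        Chars.irrConj_apply, Chars.irrConj_apply, ← Chars.irr_inv χ 1, inv_one]
    rw [e]
    exact sameBlock_symm hblk z
  rw [HeightZero.eq_blockOf_of_mem hB hχ]
  exact (HeightZero.blockOf_eq hsame).symm

end Cfsg.Agent.S4490
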