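import Cfsg.Statements.S4493
import Mathlib
import Cfsg.Agent.Lib.HeightPSolv.DegreesPrime
import Cfsg.Agent.Lib.PSolvable.PSolv

set_option autoImplicit false
open Cfsg

namespace Cfsg.Agent.S4493

/-- Let G be a finite solvable group and p a prime. Then G has a normal abelian Sylow p-subgroup if and only if no irreducible character degree of G is divisible by p. -/
theorem result {G : Type*} [Group G] [Finite G] (hsolv : Group.IsSolvable G) (p : ℕ) (hp : p.Prime) : (∃ P : Subgroup G, P.Normal ∧ (∀ x ∈ P, ∀ y ∈ P, x * y = y * x) ∧ IsPGroup p P ∧ ¬ p ∣ P.index) ↔ ∀ χ : Cfsg.IrrCharacter G, ¬ p ∣ Cfsg.charDegree (χ : G → ℂ) := by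
  haveI := Fact.mk hp
  obtain ⟨P⟩ : Nonempty (Sylow p G) := inferInstance
  have key := Cfsg.Agent.Lib.HeightPSolv.allDegreesPrime_iff
    (haveI := hsolv; Cfsg.Agent.Lib.PSolvable.isPSolvable_of_isSolvable) P
  constructor
  · rintro ⟨Q, hQn, hQc, hQp, hQi⟩
    haveI := hQn
    have hS : (hQp.toSylow hQi : Sylow p G) = P := by
      haveI : (hQp.toSylow hQi : Subgroup G).Normal := hQn
      obtain ⟨g, hg⟩ := MulAction.exists_smul_eq G (hQp.toSylow hQi) P
      rw [← hg, Sylow.smul_eq_of_normal]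
    have hPQ : (P : Subgroup G) = Q := by rw [← hS]; rfl
    refine key.mp ⟨hPQ ▸ hQn, ⟨⟨fun a b => Subtype.ext (hQc _ ?_ _ ?_)⟩⟩⟩
    · exact hPQ ▸ a.2
    · exact hPQ ▸ b.2
  · intro h
    obtain ⟨hn, hc⟩ := key.mpr h
    exact ⟨P, hn, fun x hx y hy => congrArg Subtype.val (hc.1.comm ⟨x, hx⟩ ⟨y, hy⟩), P.isPGroup',
      P.not_dvd_index⟩

end Cfsg.Agent.S4493
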