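import Cfsg.Statements.S4498
import Mathlib
import Cfsg.Agent.Lib.Blocks.BlockOrth
import Cfsg.Agent.Lib.Blocks.HeightZero

set_option autoImplicit false
open Cfsg

namespace Cfsg.Agent.S4498

open Cfsg.Agent.Lib Cfsg.Agent.Lib.Blocks
open scoped ComplexConjugate

open Classical in
/-- The projection of a column to a block vanishes off the `p`-section. -/
theorem column_sum_eq_zero {G : Type*} [Group G] [Finite G] {p : ℕ} [Fact p.Prime]
    {M : Ideal Cfsg.AlgInt} (hM : Cfsg.IsPModular p M) {B : Set (Cfsg.IrrCharacter G)}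
    (hB : Cfsg.IsPBlock M B) {u g : G} (hu : orderOf u = p) (hg : ¬ p ∣ orderOf g) :
    ∑ χ : Cfsg.IrrCharacter G, (if χ ∈ B then conj ((χ : G → ℂ) u) else 0) * (χ : G → ℂ) g = 0 := by
  have : M.IsPrime := isPModular_isPrime hM
  have h := weak_block_orth hM hB hg (h := u) (by rw [hu])
  rw [finsum_mem_def, finsum_eq_sum_of_fintype] at h
  refine Eq.trans ?_ h
  refine Finset.sum_congr rfl fun χ _ => ?_
  simp only [Set.indicator_apply]
  split_ifs <;> ring

/-- Let p and q be distinct primes dividing the order of the finite group G, and suppose G has no element of order p·q. Fix maximal ideals M_p over p and M_q over q of the algebraic integers. Then the principal p-block and the principal q-block of G have a non-principal irreducible character in common. -/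
theorem result {G : Type*} [Group G] [Finite G] (p q : ℕ) [Fact p.Prime] [Fact q.Prime] (hpq : p ≠ q) (hp : p ∣ Nat.card G) (hq : q ∣ Nat.card G) (hno : ∀ g : G, orderOf g ≠ p * q) (Mp Mq : Ideal Cfsg.AlgInt) (hMp : Cfsg.IsPModular p Mp) (hMq : Cfsg.IsPModular q Mq) : ∃ χ : Cfsg.IrrCharacter G, (χ : G → ℂ) ≠ (fun _ => 1) ∧ χ ∈ Cfsg.principalBlock Mp G ∧ χ ∈ Cfsg.principalBlock Mq G := by
  classical
  cases nonempty_fintype G
  by_contra hcon
  push Not at hcon
  obtain ⟨u, hu⟩ := exists_prime_orderOf_dvd_card' (G := G) p hp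
  obtain ⟨v, hv⟩ := exists_prime_orderOf_dvd_card' (G := G) q hq
  have hBp : Cfsg.IsPBlock Mp (Cfsg.principalBlock Mp G) := ⟨Chars.trivialIrr G, rfl⟩
  have hBq : Cfsg.IsPBlock Mq (Cfsg.principalBlock Mq G) := ⟨Chars.trivialIrr G, rfl⟩
  let c : Cfsg.IrrCharacter G → ℂ := fun χ =>
    if χ ∈ Cfsg.principalBlock Mp G then (starRingEnd ℂ) ((χ : G → ℂ) u) else 0
  let d : Cfsg.IrrCharacter G → ℂ := fun χ =>
    if χ ∈ Cfsg.principalBlock Mq G then (starRingEnd ℂ) ((χ : G → ℂ) v) else 0
  have hzero : ∀ g : G, ¬ p ∣ orderOf g ∨ ¬ q ∣ orderOf g := by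
    intro g
    by_contra h
    push Not at h
    have hpq' : p * q ∣ orderOf g :=
      Nat.Coprime.mul_dvd_of_dvd_of_dvd ((Nat.coprime_primes Fact.out Fact.out).mpr hpq) h.1 h.2
    refine hno (g ^ (orderOf g / (p * q))) ?_
    rw [orderOf_pow' _ (Nat.div_pos (Nat.le_of_dvd (orderOf_pos g) hpq')
      (Nat.mul_pos (Fact.out : p.Prime).pos (Fact.out : q.Prime).pos)).ne',
      Nat.gcd_eq_right (Nat.div_dvd_of_dvd hpq'), Nat.div_div_self hpq' (orderOf_pos g).ne']
  have h0 : Cfsg.classInner (∑ χ, c χ • (χ : G → ℂ)) (∑ χ, d χ • (χ : G → ℂ)) = 0 := by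
    rw [Cfsg.classInner, Finset.sum_eq_zero, mul_zero]
    intro g _
    simp only [Finset.sum_apply, Pi.smul_apply, smul_eq_mul]
    rcases hzero g with h | h
    · rw [column_sum_eq_zero hMp hBp hu h, zero_mul]
    · rw [column_sum_eq_zero hMq hBq hv h, map_zero, mul_zero]
  have hone : ∀ χ : Cfsg.IrrCharacter G, c χ * (starRingEnd ℂ) (d χ) =
      if χ = Chars.trivialIrr G then 1 else 0 := by
    intro χ
    by_cases h : χ = Chars.trivialIrr G
    · subst h
      have h1 : Chars.trivialIrr G ∈ Cfsg.principalBlock Mp G := by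
        have : Mp.IsPrime := isPModular_isPrime hMp
        exact HeightZero.sameBlock_refl _
      have h2 : Chars.trivialIrr G ∈ Cfsg.principalBlock Mq G := by
        have : Mq.IsPrime := isPModular_isPrime hMq
        exact HeightZero.sameBlock_refl _
      simp [c, d, h1, h2]
    · rw [if_neg h]
      by_cases h1 : χ ∈ Cfsg.principalBlock Mp G
      · have h2 : χ ∉ Cfsg.principalBlock Mq G :=
          hcon χ (fun he => h (Subtype.ext he)) h1
        simp [d, h2]
      · simp [c, h1]
  rw [Chars.classInner_sum_smul_sum_smul, Finset.sum_congr rfl (fun χ _ => hone χ),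
    Finset.sum_ite_eq', if_pos (Finset.mem_univ _)] at h0
  exact one_ne_zero h0

end Cfsg.Agent.S4498
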