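import Cfsg.Statements.S4499
import Mathlib
import Cfsg.Agent.Lib.BrauerFeit.Orth
import Cfsg.Agent.Lib.BrauerFeit.RegGen

set_option autoImplicit false
open Cfsg

namespace Cfsg.Agent.S4499

/-- Let G be a finite group whose order has p-part p^a (a ≥ 1), and fix a maximal ideal M of the algebraic integers containing p. If the degree of one irreducible character of a p-block B is divisible by p^(a−1), then the degree of every irreducible character in B is divisible by p^(a−1) (so B has defect at most 1). -/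
theorem result {G : Type*} [Group G] [Finite G] (p : ℕ) [Fact p.Prime] (M : Ideal Cfsg.AlgInt) (hM : Cfsg.IsPModular p M) (hpa : p ∣ Nat.card G) (B : Set (Cfsg.IrrCharacter G)) (hB : Cfsg.IsPBlock M B) (χ : Cfsg.IrrCharacter G) (hχ : χ ∈ B) (hdiv : p ^ ((Nat.card G).factorization p - 1) ∣ Cfsg.charDegree (χ : G → ℂ)) (ψ : Cfsg.IrrCharacter G) (hψ : ψ ∈ B) : p ^ ((Nat.card G).factorization p - 1) ∣ Cfsg.charDegree (ψ : G → ℂ) := by
  classical
  cases nonempty_fintype G
  have : M.IsPrime := Cfsg.Agent.Lib.Blocks.isPModular_isPrime hM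
  have hψ0 := Cfsg.Agent.Lib.CharCount.charDegree_ne_zero ψ
  have hχ0 := Cfsg.Agent.Lib.CharCount.charDegree_ne_zero χ
  have hp : p.Prime := Fact.out
  rw [hp.pow_dvd_iff_le_factorization hψ0]
  rw [hp.pow_dvd_iff_le_factorization hχ0] at hdiv
  have h1 := Cfsg.Agent.Lib.BrauerFeit.factorization_add_defect (p := p) hψ
  have h2 := Cfsg.Agent.Lib.BrauerFeit.factorization_add_defect (p := p) hχ
  have ha : 0 < (Nat.card G).factorization p := hp.factorization_pos_of_dvd Nat.card_pos.ne' hpa
  rcases le_or_gt (blockDefect p B) 1 with hd | hd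
  · omega
  · haveI : Fintype B := Fintype.ofFinite _
    have h3 := (Cfsg.Agent.Lib.BrauerFeit.card_heightZero_mul_le hM
      (Cfsg.Agent.Lib.BrauerFeit.regOrth hM) (Cfsg.Agent.Lib.BrauerFeit.regGen p) hB hχ
      (by omega)).2
    omega

end Cfsg.Agent.S4499
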