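import Cfsg.Statements.S4500
import Mathlib
import Cfsg.Agent.Lib.BrauerFeit.RegGen
import Cfsg.Agent.Lib.BrauerFeit.Bounds
import Cfsg.Agent.Lib.BrauerFeit.Orth
import Cfsg.Agent.Lib.Blocks.PrincipalSection
import Cfsg.Agent.Lib.Burnside.Paqb
import Cfsg.Agent.Lib.CharCount.Basic
import Cfsg.Agent.Lib.Chars.Ops

set_option autoImplicit false
open Cfsg

namespace Cfsg.Agent.S4500

open Cfsg.Agent.Lib Cfsg.Agent.Lib.Blocks
open scoped ComplexConjugate

theorem exists_prime_pow_degree {G : Type*} [Group G] [Finite G] [Nontrivial G] (p q r a b c : ℕ)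
    (hp : p.Prime) (hq : q.Prime) (hr : r.Prime) (hpq : p ≠ q) (hpr : p ≠ r)
    (ha : a ≤ 2) (hG : Nat.card G = p ^ a * q ^ b * r ^ c) :
    ∃ χ : IrrCharacter G, (χ : G → ℂ) ≠ (fun _ => 1) ∧
      ∃ k : ℕ, charDegree (χ : G → ℂ) = q ^ k := by
  classical
  cases nonempty_fintype G
  by_cases ha0 : a = 0
  · subst ha0
    rw [pow_zero, one_mul] at hG
    haveI : Group.IsSolvable G := Burnside.isSolvable_of_card_eq_prime_pow_mul hq hr hG
    have hlt : commutator G < ⊤ := Group.IsSolvable.commutator_lt_top_of_nontrivial G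
    have hne1 : (commutator G).index ≠ 1 := fun h => hlt.ne (Subgroup.index_eq_one.1 h)
    rw [← Chars.card_linear_irr] at hne1
    obtain ⟨χ, hχ1, hne⟩ : ∃ χ : IrrCharacter G, (χ : G → ℂ) 1 = 1 ∧
        (χ : G → ℂ) ≠ fun _ => 1 := by
      by_contra! h
      have : Subsingleton {χ : IrrCharacter G // (χ : G → ℂ) 1 = 1} :=
        ⟨fun x y => Subtype.ext (Subtype.ext ((h x.1 x.2).trans (h y.1 y.2).symm))⟩
      have : Nonempty {χ : IrrCharacter G // (χ : G → ℂ) 1 = 1} :=
        ⟨⟨⟨fun _ => 1, Chars.isIrrCharacter_one⟩, rfl⟩⟩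
      exact hne1 (Nat.card_eq_one_iff_unique.2 ⟨inferInstance, inferInstance⟩)
    exact ⟨χ, hne, 0, by simp [charDegree, hχ1]⟩
  haveI : Fact p.Prime := ⟨hp⟩
  obtain ⟨M, hM⟩ := CharCount.exists_isPModular p hp
  haveI : M.IsPrime := hM.2.1.isPrime
  set B := principalBlock M G with hBdef
  have hB : IsPBlock M B := PrincipalSection.isPBlock_principalBlock M G
  have hdeg : ∀ χ : IrrCharacter G, (χ : G → ℂ) 1 = (charDegree (χ : G → ℂ) : ℂ) ∧
      charDegree (χ : G → ℂ) ≠ 0 := fun χ =>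
    ⟨(HeightZero.charDegree_eq χ).1.symm, (HeightZero.charDegree_eq χ).2⟩
  let one : IrrCharacter G := ⟨fun _ => 1, Chars.isIrrCharacter_one⟩
  have honeB : one ∈ B := sameBlock_refl _
  have hne0 : ∀ {l : ℕ}, l.Prime → l ≠ p → ¬ p ∣ l := fun hl h h' =>
    h ((Nat.prime_dvd_prime_iff_eq hp hl).1 h').symm
  have hfac : (Nat.card G).factorization p = a := by
    rw [hG, mul_assoc, Nat.factorization_mul (pow_ne_zero _ hp.ne_zero)
      (mul_ne_zero (pow_ne_zero _ hq.ne_zero) (pow_ne_zero _ hr.ne_zero)), Finsupp.add_apply,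
      hp.factorization_pow, Finsupp.single_eq_same, Nat.factorization_eq_zero_of_not_dvd,
      add_zero]
    intro h
    rcases hp.dvd_mul.1 h with h | h
    · exact hne0 hq hpq.symm (hp.dvd_of_dvd_pow h)
    · exact hne0 hr hpr.symm (hp.dvd_of_dvd_pow h)
  -- every member has degree prime to p
  have hndvd : ∀ χ ∈ B, ¬ p ∣ charDegree (χ : G → ℂ) := by
    intro χ hχ hd
    have h1 : (charDegree (one : G → ℂ)).factorization p = 0 := by simp [one, charDegree]
    have hinf : sInf ((fun ψ : IrrCharacter G =>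
        (charDegree (ψ : G → ℂ)).factorization p) '' B) = 0 :=
      Nat.sInf_eq_zero.2 (Or.inl ⟨one, honeB, h1⟩)
    have hh : blockHeight p B (χ : G → ℂ) = (charDegree (χ : G → ℂ)).factorization p := by
      rw [blockHeight, hinf, Nat.sub_zero]
    have hd0 : blockDefect p B = a := by rw [blockDefect, hinf, Nat.sub_zero, hfac]
    have hpos : 0 < (charDegree (χ : G → ℂ)).factorization p :=
      hp.factorization_pos_of_dvd (hdeg χ).2 hd
    have h := (BrauerFeit.card_heightZero_mul_le hM (BrauerFeit.regOrth hM)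
      (BrauerFeit.regGen p) hB hχ (by omega)).2
    omega
  -- an element of order p
  obtain ⟨x, hx⟩ := exists_prime_orderOf_dvd_card' (G := G) p
    (hG ▸ dvd_mul_of_dvd_left (dvd_mul_of_dvd_left (dvd_pow_self p ha0) _) _)
  have horth := weak_block_orth hM hB (g := 1) (h := x) (by simpa using hp.ne_one)
    (by rw [hx])
  rw [finsum_mem_eq_toFinset_sum, ← Finset.add_sum_erase _ _ (Set.mem_toFinset.2 honeB)] at horth
  obtain ⟨χ, hχ, hrχ⟩ : ∃ χ ∈ B.toFinset.erase one, ¬ r ∣ charDegree (χ : G → ℂ) := by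
    by_contra! hall
    have h1 : (r : ℂ) * ∑ χ ∈ B.toFinset.erase one,
        ((charDegree (χ : G → ℂ) / r : ℕ) : ℂ) * conj ((χ : G → ℂ) x) = -1 := by
      rw [Finset.mul_sum]
      refine eq_neg_of_add_eq_zero_right (Eq.trans ?_ horth)
      congr 1
      · simp [one]
      · refine Finset.sum_congr rfl fun χ hχ => ?_
        rw [(hdeg χ).1, ← mul_assoc, ← Nat.cast_mul, Nat.mul_div_cancel' (hall χ hχ)]
    have hint : IsIntegral ℤ (∑ χ ∈ B.toFinset.erase one,
        ((charDegree (χ : G → ℂ) / r : ℕ) : ℂ) * conj ((χ : G → ℂ) x)) :=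
      IsIntegral.sum _ fun χ _ => IsIntegral.mul (by
        exact_mod_cast isIntegral_algebraMap (R := ℤ) (A := ℂ)
          (x := ((charDegree (χ : G → ℂ) / r : ℕ) : ℤ)))
        ((Chars.isCharacter_isIntegral (Chars.irr_isCharacter χ) x).map
          (starRingEnd ℂ).toIntAlgHom)
    generalize hs : (∑ χ ∈ B.toFinset.erase one,
        ((charDegree (χ : G → ℂ) / r : ℕ) : ℂ) * conj ((χ : G → ℂ) x)) = s at h1 hint
    have hseq : s = algebraMap ℚ ℂ (-1 / r) := by
      rw [eq_ratCast]; push_cast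
      rw [eq_div_iff (Nat.cast_ne_zero.2 hr.ne_zero), mul_comm, h1]
    rw [hseq, isIntegral_algebraMap_iff (algebraMap ℚ ℂ).injective,
      IsIntegrallyClosed.isIntegral_iff] at hint
    obtain ⟨m, hm⟩ := hint
    have hm' : (m : ℚ) * r = -1 := by
      rw [eq_intCast] at hm
      rw [hm, div_mul_cancel₀ _ (Nat.cast_ne_zero.2 hr.ne_zero)]
    have hm2 : m * (r : ℤ) = -1 := by exact_mod_cast hm'
    exact hr.ne_one (by
      exact_mod_cast Int.eq_one_of_dvd_one (Int.natCast_nonneg r) ⟨-m, by linarith⟩)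
  refine ⟨χ, fun h => Finset.ne_of_mem_erase hχ (Subtype.ext h), ?_⟩
  obtain ⟨d, -, hd, hdvd⟩ := Chars.irr_degree_dvd_card χ
  have hdd : charDegree (χ : G → ℂ) = d := by exact_mod_cast ((hdeg χ).1).symm.trans hd
  rw [← hdd, hG] at hdvd
  have hpχ := hndvd χ (Set.mem_toFinset.1 (Finset.mem_of_mem_erase hχ))
  obtain ⟨k, -, hk⟩ := (Nat.dvd_prime_pow hq).1
    ((((hp.coprime_iff_not_dvd.2 hpχ).symm.pow_right a).dvd_of_dvd_mul_left)
      (((hr.coprime_iff_not_dvd.2 hrχ).symm.pow_right c).dvd_of_dvd_mul_right hdvd))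
  exact ⟨k, hk⟩

/-- Let G be a non-trivial finite group of order p^a · q^b · r^c with p, q, r distinct primes and a ≤ 2. Then G has a non-principal irreducible character whose degree is a power of q, and a non-principal irreducible character whose degree is a power of r; the power may be the zeroth, so a non-principal linear character serves for both. -/
theorem result {G : Type*} [Group G] [Finite G] [Nontrivial G] (p q r a b c : ℕ) (hp : p.Prime) (hq : q.Prime) (hr : r.Prime) (hpq : p ≠ q) (hpr : p ≠ r) (hqr : q ≠ r) (ha : a ≤ 2) (hG : Nat.card G = p ^ a * q ^ b * r ^ c) : (∃ χ : Cfsg.IrrCharacter G, (χ : G → ℂ) ≠ (fun _ => 1) ∧ ∃ k : ℕ, Cfsg.charDegree (χ : G → ℂ) = q ^ k) ∧ ∃ χ : Cfsg.IrrCharacter G, (χ : G → ℂ) ≠ (fun _ => 1) ∧ ∃ k : ℕ, Cfsg.charDegree (χ : G → ℂ) = r ^ k := by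
  exact ⟨exists_prime_pow_degree p q r a b c hp hq hr hpq hpr ha hG,
    exists_prime_pow_degree p r q a c b hp hr hq hpr hpq ha (by rw [hG]; ring)⟩

end Cfsg.Agent.S4500
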