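import Cfsg.Statements.S4501
import Cfsg.Agent.Lib.Burnside.Paqb
import Cfsg.Agent.Lib.Involution.ThompsonTransfer
import Cfsg.Agent.S0494
import Cfsg.Agent.S0495
import Cfsg.Agent.Lib.H66.SmallCofactor.Four
import Cfsg.Agent.Lib.H66.SmallCofactor.Main

set_option autoImplicit false
open Cfsg

namespace Cfsg.Agent.S4501

open Cfsg.Agent.Lib

theorem two_primes_false {G : Type*} [Group G] [Finite G] [IsSimpleGroup G]
    (hG : ¬ IsMulCommutative G) {p q a b : ℕ} (hp : p.Prime) (hq : q.Prime)
    (h : Nat.card G = p ^ a * q ^ b) : False :=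
  SmallGroups.not_isSolvable hG (Burnside.isSolvable_of_card_eq_prime_pow_mul hp hq h)

theorem four_case {G : Type*} [Group G] [Finite G] [IsSimpleGroup G]
    (hG : ¬ IsMulCommutative G) {p q a b : ℕ} (hp : p.Prime) (hq : q.Prime) (hpq : p ≠ q)
    (h : Nat.card G = 4 * p ^ a * q ^ b) : Nat.card G = 60 := by
  have hne : p ≠ 2 ∧ q ≠ 2 ∧ 1 ≤ a ∧ 1 ≤ b := by
    refine ⟨?_, ?_, ?_, ?_⟩
    · rintro rfl
      exact two_primes_false hG Nat.prime_two hq (a := a + 2) (b := b) (by rw [h]; ring)
    · rintro rfl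
      exact two_primes_false hG Nat.prime_two hp (a := b + 2) (b := a) (by rw [h]; ring)
    · by_contra ha
      obtain rfl : a = 0 := by omega
      exact two_primes_false hG Nat.prime_two hq (a := 2) (b := b) (by rw [h]; ring)
    · by_contra hb
      obtain rfl : b = 0 := by omega
      exact two_primes_false hG Nat.prime_two hp (a := 2) (b := a) (by rw [h]; ring)
  exact H66.SmallCofactor.card_eq_sixty_of_four hG hp hq hpq hne.1 hne.2.1 hne.2.2.1 hne.2.2.2 h

theorem three_case {G : Type*} [Group G] [Finite G] [IsSimpleGroup G]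
    (hG : ¬ IsMulCommutative G) {p q a b : ℕ} (hp : p.Prime) (hq : q.Prime) (hpq : p ≠ q)
    (ha : a ≤ 2) (h : Nat.card G = 3 * p ^ a * q ^ b) :
    Nat.card G = 60 ∨ Nat.card G = 168 := by
  classical
  have hne : p ≠ 3 ∧ q ≠ 3 ∧ 1 ≤ a ∧ 1 ≤ b := by
    refine ⟨?_, ?_, ?_, ?_⟩
    · rintro rfl
      exact two_primes_false hG Nat.prime_three hq (a := a + 1) (b := b) (by rw [h]; ring)
    · rintro rfl
      exact two_primes_false hG Nat.prime_three hp (a := b + 1) (b := a) (by rw [h]; ring)
    · by_contra h0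
      obtain rfl : a = 0 := by omega
      exact two_primes_false hG Nat.prime_three hq (a := 1) (b := b) (by rw [h]; ring)
    · by_contra h0
      obtain rfl : b = 0 := by omega
      exact two_primes_false hG Nat.prime_three hp (a := 1) (b := a) (by rw [h]; ring)
  obtain ⟨hp3, hq3, ha1, hb1⟩ := hne
  haveI : Fact (Nat.Prime 3) := ⟨Nat.prime_three⟩
  obtain ⟨P⟩ : Nonempty (Sylow 3 G) := inferInstance
  have h3 : ¬ 3 ∣ p ^ a * q ^ b := fun h => by
    rcases Nat.prime_three.dvd_mul.1 h with h | h
    · exact hp3 ((Nat.prime_dvd_prime_iff_eq Nat.prime_three hp).1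
        (Nat.prime_three.dvd_of_dvd_pow h)).symm
    · exact hq3 ((Nat.prime_dvd_prime_iff_eq Nat.prime_three hq).1
        (Nat.prime_three.dvd_of_dvd_pow h)).symm
  have hP : Nat.card (P : Subgroup G) = 3 := by
    simpa using SmallGroups.card_sylow_eq P (k := 1) (by rw [h]; ring) h3
  have he := H66.SmallCofactor.relIndex_eq_two hG P hP
  have heven : 2 ∣ Nat.card G := he ▸ (Subgroup.relIndex_dvd_card _ _).trans
    (Subgroup.card_subgroup_dvd_card _)
  by_cases hp2 : p = 2
  · subst hp2
    rcases (show a = 1 ∨ a = 2 by omega) with rfl | rfl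
    · exfalso
      haveI : Fact (Nat.Prime 2) := ⟨Nat.prime_two⟩
      obtain ⟨T⟩ : Nonempty (Sylow 2 G) := inferInstance
      have hT : Nat.card (T : Subgroup G) = 2 := by
        simpa using SmallGroups.card_sylow_eq T (k := 1) (m := 3 * q ^ b) (by rw [h]; ring)
          (fun hd => by
            rcases Nat.prime_two.dvd_mul.1 hd with hd | hd
            · norm_num at hd
            · exact hpq ((Nat.prime_dvd_prime_iff_eq Nat.prime_two hq).1
                (Nat.prime_two.dvd_of_dvd_pow hd)))
      haveI : IsCyclic (T : Subgroup G) := isCyclic_of_prime_card hT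
      obtain ⟨H, hH, hi⟩ := Involution.exists_index_two_of_isCyclic_sylow
        (even_iff_two_dvd.2 heven) T inferInstance
      rcases hH.eq_bot_or_eq_top with e | e
      · rw [e, Subgroup.index_bot] at hi
        exact SmallGroups.not_prime_card hG (hi ▸ Nat.prime_two)
      · rw [e, Subgroup.index_top] at hi; omega
    · exact Or.inl (four_case hG Nat.prime_three hq hq3.symm (a := 1) (b := b) (by rw [h]; ring))
  have hq2 : q = 2 := by
    rw [h] at heven
    rcases (H66.SmallCofactor.prime_dvd_cases Nat.prime_two hp hq heven) with e | e | e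
    · norm_num at e
    · exact absurd e.symm hp2
    · exact e.symm
  subst hq2
  refine H66.SmallCofactor.card_eq_of_three_two hG hp ?_ ha1 ha hb1 h
  have := hp.two_le
  rcases (show p = 4 ∨ 5 ≤ p by omega) with rfl | h5
  · norm_num at hp
  · exact h5


/-- Let G be a non-abelian finite simple group and p, q distinct primes. If the order of G is 4·p^a·q^b with a ≤ 2, then G is isomorphic to the alternating group of degree 5. If the order of G is 3·p^a·q^b with a ≤ 2, then G is isomorphic to the alternating group of degree 5 or to PSL(2,7). -/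
theorem result {G : Type*} [Group G] [Finite G] [IsSimpleGroup G] (hna : ∃ x y : G, x * y ≠ y * x) (p q a b : ℕ) (hp : p.Prime) (hq : q.Prime) (hpq : p ≠ q) (ha : a ≤ 2) : (Nat.card G = 4 * p ^ a * q ^ b → Nonempty (G ≃* alternatingGroup (Fin 5))) ∧ (Nat.card G = 3 * p ^ a * q ^ b → Nonempty (G ≃* alternatingGroup (Fin 5)) ∨ Nonempty (G ≃* Matrix.ProjectiveSpecialLinearGroup (Fin 2) (ZMod 7))) := by
  have hG : ¬ IsMulCommutative G := fun h => by
    obtain ⟨x, y, hxy⟩ := hna
    exact hxy (h.1.1 x y)
  refine ⟨fun h => Cfsg.Agent.S0494.result (four_case hG hp hq hpq h), fun h => ?_⟩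
  rcases three_case hG hp hq hpq ha h with h' | h'
  · exact Or.inl (Cfsg.Agent.S0494.result h')
  · haveI : Fact (Nat.Prime 7) := ⟨by norm_num⟩
    exact Or.inr (Cfsg.Agent.S0495.result h' (ZMod.card 7))

end Cfsg.Agent.S4501
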