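import Cfsg.Statements.S4502
import Cfsg.Agent.Lib.DefectOne.StructCount
import Cfsg.Agent.Lib.DefectOne.Sylow

set_option autoImplicit false
open Cfsg

namespace Cfsg.Agent.S4502

open Cfsg.Agent.Lib in
/-- Let G be a finite group whose order is divisible by the prime p exactly once, and let P be a Sylow p-subgroup. Then the number of irreducible characters of G of degree not divisible by p equals the number of conjugacy classes of the normalizer of P. -/
theorem result {G : Type*} [Group G] [Finite G] (p : ℕ) [Fact p.Prime] (hdiv : p ∣ Nat.card G) (hsq : ¬ p ^ 2 ∣ Nat.card G) (P : Sylow p G) : Nat.card {χ : Cfsg.IrrCharacter G // ¬ p ∣ Cfsg.charDegree (χ : G → ℂ)} = Nat.card (ConjClasses (Subgroup.normalizer ((P : Subgroup G) : Set G))) := by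
  classical
  have hp : p.Prime := Fact.out
  haveI := Fintype.ofFinite G
  have hP : Nat.card P = p := by
    rw [P.card_eq_multiplicity]
    have hne : Nat.card G ≠ 0 := Nat.card_pos.ne'
    have h1 : 1 ≤ (Nat.card G).factorization p := hp.factorization_pos_of_dvd hne hdiv
    have h2 : ¬ 2 ≤ (Nat.card G).factorization p := fun h =>
      hsq ((hp.pow_dvd_iff_le_factorization hne).mpr h)
    rw [show (Nat.card G).factorization p = 1 by omega, pow_one]
  obtain ⟨x, hx, hx1⟩ := ((P : Subgroup G).ne_bot_iff_exists_ne_one.mp fun h => hp.ne_one (by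
    rw [← hP, ← Subgroup.card_bot (G := G), ← h]) : ∃ a : P, a ≠ 1).elim
      fun a ha => (⟨a.1, a.2, fun h => ha (Subtype.ext h)⟩ : ∃ x ∈ (P : Subgroup G), x ≠ 1)
  obtain ⟨hPx, hord⟩ := DefectOne.sylow_eq_zpowers P hP hx hx1
  obtain ⟨S, rfl⟩ := DefectOne.exists_localData hord hsq
  have hidx := DefectOne.not_dvd_centralizer_index P hP hx hx1
  have key := DefectOne.card_not_dvd_degree_eq_classes S hidx (DefectOne.structCount S hsq)
    (@DefectOne.structCount _ _ (Fintype.ofFinite _) p _ (DefectOne.localNX S)
      fun h => hsq (h.trans (Subgroup.card_subgroup_dvd_card _)))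
  rw [key, DefectOne.NX, hPx]

end Cfsg.Agent.S4502
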