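import Cfsg.Statements.S4505
import Mathlib
import Cfsg.Agent.Lib.BlockCongr.DefectSum

set_option autoImplicit false
open Cfsg

namespace Cfsg.Agent.S4505

/-- Let G be a finite group, p a prime and M a maximal ideal of the algebraic integers containing p. For every σ, the number of p-blocks of defect exactly σ is at most the number of conjugacy classes of p-regular elements whose centralizer has order divisible by p^σ but not by p^(σ+1). -/
theorem result {G : Type*} [Group G] [Finite G] (p : ℕ) [Fact p.Prime] (M : Ideal Cfsg.AlgInt) (hM : Cfsg.IsPModular p M) (σ : ℕ) : Nat.card {B : Set (Cfsg.IrrCharacter G) // Cfsg.IsPBlock M B ∧ Cfsg.blockDefect p B = σ} ≤ Nat.card {C : ConjClasses G // ∃ g : G, ConjClasses.mk g = C ∧ ¬ p ∣ orderOf g ∧ (Nat.card (Subgroup.centralizer ({g} : Set G))).factorization p = σ} := by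
  classical
  cases nonempty_fintype G
  haveI := Fintype.ofFinite (ConjClasses G)
  have : M.IsPrime := Cfsg.Agent.Lib.Blocks.isPModular_isPrime hM
  let I := {B : Set (Cfsg.IrrCharacter G) // Cfsg.IsPBlock M B ∧ Cfsg.blockDefect p B = σ}
  let S := Cfsg.Agent.Lib.BlockCongr.defectClasses p σ G
  haveI : Fintype I := Fintype.ofFinite _
  choose χ hχ using fun B : I => Cfsg.Agent.Lib.Blocks.isPBlock_nonempty B.2.1
  let v : I → (S → Cfsg.Agent.Lib.Blocks.Residue M) := fun B c =>
    Cfsg.Agent.Lib.Blocks.omegaBar M (χ B)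
      (Cfsg.Agent.Lib.Blocks.classSumR M (Cfsg.Agent.Lib.Blocks.classRep c.1))
  have hv : LinearIndependent (Cfsg.Agent.Lib.Blocks.Residue M) v := by
    rw [Fintype.linearIndependent_iff]
    intro a ha B₀
    let e : S → Cfsg.Agent.Lib.Blocks.Residue M := fun c =>
      Cfsg.Agent.Lib.Blocks.residue M
        ((Cfsg.Agent.Lib.Blocks.blockIdem M B₀.2.1 :
          MonoidAlgebra (Cfsg.Agent.Lib.Blocks.localRing M) G).coeff
          (Cfsg.Agent.Lib.Blocks.classRep c.1))
    have hev : ∀ B : I, ∑ c : S, e c * v B c = if B = B₀ then 1 else 0 := by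
      intro B
      rw [Finset.sum_coe_sort S (fun c => Cfsg.Agent.Lib.Blocks.residue M
        ((Cfsg.Agent.Lib.Blocks.blockIdem M B₀.2.1 :
          MonoidAlgebra (Cfsg.Agent.Lib.Blocks.localRing M) G).coeff
          (Cfsg.Agent.Lib.Blocks.classRep c)) *
        Cfsg.Agent.Lib.Blocks.omegaBar M (χ B)
          (Cfsg.Agent.Lib.Blocks.classSumR M (Cfsg.Agent.Lib.Blocks.classRep c)))]
      rw [← Cfsg.Agent.Lib.BlockCongr.indicator_eq_sum_defectClasses hM B₀.2.1 B₀.2.2 (χ B)
        (by rw [← Cfsg.Agent.Lib.Blocks.eq_blockOf_of_mem B.2.1 (hχ B)]; exact B.2.2)]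
      by_cases hB : B = B₀
      · subst hB
        rw [if_pos rfl, if_pos (hχ B)]
      · rw [if_neg hB, if_neg fun hm => hB (Subtype.ext
          (Cfsg.Agent.Lib.Blocks.isPBlock_eq_of_mem B.2.1 B₀.2.1 (hχ B) hm))]
    have h0 : ∑ c : S, e c * (∑ B, a B • v B) c = 0 :=
      Finset.sum_eq_zero fun c _ => by rw [ha, Pi.zero_apply, mul_zero]
    simp only [Finset.sum_apply, Pi.smul_apply, smul_eq_mul, Finset.mul_sum] at h0
    rw [Finset.sum_comm] at h0
    have h1 : ∀ B : I, ∑ c : S, e c * (a B * v B c) = a B * if B = B₀ then 1 else 0 := fun B => by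
      rw [← hev B, Finset.mul_sum]
      exact Finset.sum_congr rfl fun c _ => by ring
    simp only [h1] at h0
    rw [Finset.sum_eq_single B₀ (fun B _ hB => by rw [if_neg hB, mul_zero])
      (fun hB => absurd (Finset.mem_univ B₀) hB), if_pos rfl, mul_one] at h0
    exact h0
  have hle : Fintype.card I ≤ Fintype.card S := by
    have := hv.fintype_card_le_finrank
    rwa [Module.finrank_pi] at this
  rw [← Nat.card_eq_fintype_card, ← Nat.card_eq_fintype_card] at hle
  refine le_trans hle (Nat.card_le_card_of_injective (fun c : S => (⟨c.1,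
    Cfsg.Agent.Lib.Blocks.classRep c.1, Cfsg.Agent.Lib.Blocks.mk_classRep c.1, ?_⟩ :
      {C : ConjClasses G // ∃ g : G, ConjClasses.mk g = C ∧ ¬ p ∣ orderOf g ∧
        (Nat.card (Subgroup.centralizer ({g} : Set G))).factorization p = σ})) ?_)
  · have := c.2
    simp only [S, Cfsg.Agent.Lib.BlockCongr.defectClasses, Finset.mem_filter, Finset.mem_univ,
      true_and] at this
    exact this
  · intro c c' h
    have h' := congrArg Subtype.val h
    exact Subtype.ext h'

end Cfsg.Agent.S4505
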