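import Cfsg.Statements.S4506
import Mathlib
import Cfsg.Agent.Lib.Blocks.SecondMain
import Cfsg.Agent.Lib.Blocks.DefectCard
import Cfsg.Agent.Lib.Blocks.RegOrth
import Cfsg.Agent.Lib.Blocks.HeightZero
import Cfsg.Agent.Lib.CharCount.Basic
import Cfsg.Agent.Lib.GaloisChar.Basic

set_option autoImplicit false
open Cfsg

namespace Cfsg.Agent.S4506

open Cfsg.Agent.Lib Cfsg.Agent.Lib.Blocks
open scoped ComplexConjugate

variable {G : Type*} [Group G] [Finite G] {p : ℕ}

/-- Sum of the p^a-th power maps of a root of unity over the units mod p^a. -/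
theorem sum_units_pow [hp : Fact p.Prime] (a : ℕ) {μ : ℂ} (hμ : μ ^ p ^ a = 1) :
    ∃ z : ℤ, (∑ u : (ZMod (p ^ a))ˣ, μ ^ (u : ZMod (p ^ a)).val) =
      (p : ℂ) ^ (a - 1) * z := by
  classical
  haveI : NeZero (p ^ a) := ⟨pow_ne_zero _ hp.out.ne_zero⟩
  rcases Nat.eq_zero_or_pos a with rfl | ha
  · refine ⟨(Fintype.card (ZMod (p ^ 0))ˣ : ℤ), ?_⟩
    rw [pow_zero, pow_one] at hμ
    simp [hμ]
    rfl
  have hgeo : ∀ (m : ℕ) (x : ℂ), x ^ m = 1 →
      ∑ i ∈ Finset.range m, x ^ i = if x = 1 then (m : ℂ) else 0 := by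
    intro m x hx
    split_ifs with h
    · simp [h]
    · have := geom_sum_mul x m
      rw [hx, sub_self] at this
      exact (mul_eq_zero.1 this).resolve_right (sub_ne_zero.2 h)
  have hval : (∑ u : (ZMod (p ^ a))ˣ, μ ^ (u : ZMod (p ^ a)).val) =
      ∑ i ∈ (Finset.range (p ^ a)).filter (fun i => ¬ p ∣ i), μ ^ i := by
    refine Finset.sum_bij (fun u _ => (u : ZMod (p ^ a)).val) (fun u _ => ?_)
      (fun u _ v _ h => Units.ext (ZMod.val_injective _ h)) (fun i hi => ?_) (fun u _ => rfl)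
    · rw [Finset.mem_filter, Finset.mem_range]
      refine ⟨ZMod.val_lt _, fun hd => ?_⟩
      have := Nat.eq_one_of_dvd_coprimes (ZMod.val_coe_unit_coprime u) hd
        (dvd_pow_self p ha.ne')
      exact hp.out.ne_one this
    · rw [Finset.mem_filter, Finset.mem_range] at hi
      refine ⟨ZMod.unitOfCoprime i (((hp.out.coprime_iff_not_dvd.2 hi.2).symm).pow_right a),
        Finset.mem_univ _, ?_⟩
      rw [ZMod.coe_unitOfCoprime, ZMod.val_natCast, Nat.mod_eq_of_lt hi.1]
  have hmul : ∑ i ∈ (Finset.range (p ^ a)).filter (fun i => p ∣ i), μ ^ i =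
      ∑ j ∈ Finset.range (p ^ (a - 1)), (μ ^ p) ^ j := by
    have hpa : p ^ a = p * p ^ (a - 1) := by rw [← pow_succ', Nat.sub_add_cancel ha]
    symm
    refine Finset.sum_bij (fun j _ => p * j) (fun j hj => ?_) (fun i _ j _ h => ?_)
      (fun i hi => ?_) (fun j _ => by rw [pow_mul])
    · rw [Finset.mem_filter, Finset.mem_range, hpa]
      exact ⟨Nat.mul_lt_mul_of_pos_left (Finset.mem_range.1 hj) hp.out.pos, dvd_mul_right _ _⟩
    · exact Nat.eq_of_mul_eq_mul_left hp.out.pos h
    · rw [Finset.mem_filter, Finset.mem_range, hpa] at hi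
      obtain ⟨j, rfl⟩ := hi.2
      exact ⟨j, Finset.mem_range.2 (Nat.lt_of_mul_lt_mul_left hi.1), rfl⟩
  have hsplit := Finset.sum_filter_add_sum_filter_not (Finset.range (p ^ a))
    (fun i => p ∣ i) (fun i => μ ^ i)
  rw [hmul, ← hval, hgeo _ μ hμ, hgeo _ (μ ^ p)
    (by rw [← pow_mul, ← pow_succ', Nat.sub_add_cancel ha, hμ])] at hsplit
  refine ⟨(if μ = 1 then (p : ℤ) else 0) - (if μ ^ p = 1 then 1 else 0), ?_⟩
  have hpa : (p : ℂ) ^ a = (p : ℂ) ^ (a - 1) * p := by rw [← pow_succ, Nat.sub_add_cancel ha]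
  rw [eq_sub_of_add_eq' hsplit]
  push_cast
  split_ifs <;> simp [hpa] <;> ring

/-- The exponent attached to a unit mod p^a: itself there, 1 mod the p'-part. -/
noncomputable def expOf {a g' : ℕ} (h : (p ^ a).Coprime g') (u : (ZMod (p ^ a))ˣ) : ℕ :=
  (Nat.chineseRemainder h (u : ZMod (p ^ a)).val 1).1

theorem expOf_coprime {a g' : ℕ} (hp : p ≠ 0) (h : (p ^ a).Coprime g')
    (u : (ZMod (p ^ a))ˣ) : (expOf h u).Coprime (p ^ a * g') := by
  haveI : NeZero (p ^ a) := ⟨pow_ne_zero _ hp⟩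
  obtain ⟨h1, h2⟩ := (Nat.chineseRemainder h (u : ZMod (p ^ a)).val 1).2
  refine Nat.Coprime.mul_right ?_ ?_
  · rw [Nat.coprime_iff_gcd_eq_one, expOf, h1.gcd_eq]
    exact ZMod.val_coe_unit_coprime u
  · rw [Nat.coprime_iff_gcd_eq_one, expOf, h2.gcd_eq]
    simp

theorem expOf_mul {a g' : ℕ} (hp : p ≠ 0) (h : (p ^ a).Coprime g') (u v : (ZMod (p ^ a))ˣ) :
    expOf h (u * v) ≡ expOf h u * expOf h v [MOD p ^ a * g'] := by
  haveI : NeZero (p ^ a) := ⟨pow_ne_zero _ hp⟩
  obtain ⟨h1, h2⟩ := (Nat.chineseRemainder h (u : ZMod (p ^ a)).val 1).2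
  obtain ⟨h3, h4⟩ := (Nat.chineseRemainder h (v : ZMod (p ^ a)).val 1).2
  obtain ⟨h5, h6⟩ := (Nat.chineseRemainder h ((u * v : (ZMod (p ^ a))ˣ) : ZMod (p ^ a)).val 1).2
  refine (Nat.modEq_and_modEq_iff_modEq_mul h).1 ⟨h5.trans ?_, h6.trans ?_⟩
  · refine Nat.ModEq.trans ?_ (h1.mul h3).symm
    rw [Units.val_mul, ZMod.val_mul]
    exact Nat.mod_modEq _ _
  · exact (h2.mul h4).symm

/-- Galois conjugation is a power map. -/
theorem gal_apply_eq_pow {N n : ℕ} {σ : ℂ →+* ℂ} (hσ : ∀ ζ : ℂ, ζ ^ N = 1 → σ ζ = ζ ^ n)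
    (hN : Nat.card G ∣ N) {χ : G → ℂ} (hχ : IsCharacter G χ) (g : G) :
    σ (χ g) = χ (g ^ n) := by
  obtain ⟨d, ρ, rfl⟩ := hχ
  obtain ⟨ι', _, b, μ', hm', hb⟩ := Chars.exists_eigenbasis ρ g
  have hs' : ρ.character g = ∑ i, μ' i := Chars.trace_eq_sum_of_eigenbasis _ b μ' hb
  have hn : ρ.character (g ^ n) = ∑ i, μ' i ^ n := by
    clear hσ
    refine Chars.trace_eq_sum_of_eigenbasis _ b _ fun i => ?_
    rw [map_pow]
    induction n with
    | zero => simp
    | succ k ih => rw [pow_succ', Module.End.mul_apply, ih, map_smul, hb, smul_smul, pow_succ]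
  rw [hs', hn, map_sum]
  exact Finset.sum_congr rfl fun i _ => hσ _ (by
    obtain ⟨k, hk⟩ := (orderOf_dvd_natCard g).trans hN
    rw [hk, pow_mul, hm', one_pow])

theorem main [Fintype G] (hp : p.Prime) (χ : IrrCharacter G) (r : ℕ)
    (hr : Nat.card {ψ : IrrCharacter G // ∃ σ : ℂ ≃+* ℂ, σ (Complex.exp (2 * Real.pi * Complex.I / ((Nat.card G / p ^ (Nat.card G).factorization p) : ℕ))) = Complex.exp (2 * Real.pi * Complex.I / ((Nat.card G / p ^ (Nat.card G).factorization p) : ℕ)) ∧ (ψ : G → ℂ) = fun g => σ ((χ : G → ℂ) g)} = r) :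
    (r * charDegree (χ : G → ℂ)).factorization p ≤ (Nat.card G).factorization p ∧
      (p ^ (Nat.card G).factorization p ∣ r * charDegree (χ : G → ℂ) →
        p ^ (Nat.card G).factorization p ∣ charDegree (χ : G → ℂ)) := by
  classical
  haveI : Fact p.Prime := ⟨hp⟩
  obtain ⟨M, hM⟩ := CharCount.exists_isPModular p hp
  haveI : M.IsPrime := hM.2.1.isPrime
  set N := Nat.card G with hNdef
  have hN0 : N ≠ 0 := Nat.card_pos.ne'
  set a := N.factorization p with hadef
  set g' := N / p ^ a with hg'def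
  have hNeq : p ^ a * g' = N := Nat.ordProj_mul_ordCompl_eq_self N p
  have hg'0 : g' ≠ 0 := fun h => hN0 (by rw [← hNeq, h, mul_zero])
  have hpg' : ¬ p ∣ g' := Nat.not_dvd_ordCompl hp hN0
  have hco : (p ^ a).Coprime g' := (hp.coprime_iff_not_dvd.2 hpg').pow_left a
  haveI : NeZero (p ^ a) := ⟨pow_ne_zero _ hp.ne_zero⟩
  have hN' : 0 < p ^ a * g' := by rw [hNeq]; exact Nat.pos_of_ne_zero hN0
  have hdvdN : ∀ g : G, orderOf g ∣ p ^ a * g' := fun g => hNeq ▸ orderOf_dvd_natCard g
  -- the conjugate by a unit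
  choose σu hσu using fun u : (ZMod (p ^ a))ˣ =>
    GaloisChar.exists_ringEquiv_pow hN' (expOf_coprime hp.ne_zero hco u)
  have hact' : ∀ u : (ZMod (p ^ a))ˣ, ∃ ψ : IrrCharacter G,
      ∀ g, (ψ : G → ℂ) g = (χ : G → ℂ) (g ^ expOf hco u) := fun u =>
    ⟨GaloisChar.galIrr (σu u).toRingHom χ, fun g => gal_apply_eq_pow (hσu u)
      (dvd_of_eq hNeq.symm) (Chars.irr_isCharacter χ) g⟩
  choose act hact using hact'
  set S : Finset (IrrCharacter G) := Finset.univ.image act with hSdef
  -- comparing with the given orbit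
  have hSr : S.card = r := by
    rw [← hr, ← Nat.card_eq_finsetCard]
    refine Nat.card_congr (Equiv.subtypeEquivRight fun ψ => ?_)
    set z := Complex.exp (2 * Real.pi * Complex.I / (g' : ℕ)) with hz
    have hzprim : IsPrimitiveRoot z g' := Complex.isPrimitiveRoot_exp g' hg'0
    constructor
    · intro hψ
      obtain ⟨u, -, rfl⟩ := Finset.mem_image.1 hψ
      refine ⟨σu u, ?_, funext fun g => ?_⟩
      · have hz1 : z ^ (p ^ a * g') = 1 := by
          rw [mul_comm, pow_mul, hzprim.pow_eq_one, one_pow]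
        rw [hσu u z hz1]
        obtain ⟨-, h2⟩ := (Nat.chineseRemainder hco (u : ZMod (p ^ a)).val 1).2
        rw [pow_eq_pow_mod _ hzprim.pow_eq_one]
        show z ^ (expOf hco u % g') = z
        rw [show expOf hco u % g' = 1 % g' from h2, ← pow_eq_pow_mod _ hzprim.pow_eq_one, pow_one]
      · rw [hact]
        exact (gal_apply_eq_pow (σ := (σu u).toRingHom) (hσu u) (dvd_of_eq hNeq.symm)
          (Chars.irr_isCharacter χ) g).symm
    · rintro ⟨σ, hσ, hψ⟩
      set w := Complex.exp (2 * Real.pi * Complex.I / ((p ^ a * g' : ℕ))) with hw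
      have hwprim : IsPrimitiveRoot w (p ^ a * g') := Complex.isPrimitiveRoot_exp _ hN'.ne'
      have : NeZero (p ^ a * g') := ⟨hN'.ne'⟩
      obtain ⟨n, -, hnco, hn⟩ := (hwprim.isPrimitiveRoot_iff).1
        (hwprim.map_of_injective σ.injective)
      have hσpow : ∀ ζ : ℂ, ζ ^ (p ^ a * g') = 1 → σ ζ = ζ ^ n := by
        intro ζ hζ
        obtain ⟨i, -, rfl⟩ := hwprim.eq_pow_of_pow_eq_one hζ
        rw [map_pow, ← hn, ← pow_mul, ← pow_mul, mul_comm]
      have hn1 : n ≡ 1 [MOD g'] := by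
        have hzN : z ^ (p ^ a * g') = 1 := by
          rw [mul_comm, pow_mul, hzprim.pow_eq_one, one_pow]
        have h1 : z ^ n = z ^ 1 := by rw [← hσpow z hzN, hσ, pow_one]
        rw [pow_eq_pow_mod n hzprim.pow_eq_one, pow_eq_pow_mod 1 hzprim.pow_eq_one] at h1
        exact hzprim.pow_inj (Nat.mod_lt _ (Nat.pos_of_ne_zero hg'0))
          (Nat.mod_lt _ (Nat.pos_of_ne_zero hg'0)) h1
      have hnp : n.Coprime (p ^ a) := Nat.Coprime.coprime_mul_right_right hnco
      refine Finset.mem_image.2 ⟨ZMod.unitOfCoprime n hnp, Finset.mem_univ _, ?_⟩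
      apply Subtype.ext
      funext g
      rw [hact, hψ]
      show _ = σ.toRingHom _
      rw [gal_apply_eq_pow (σ := σ.toRingHom) hσpow (dvd_of_eq hNeq.symm)
        (Chars.irr_isCharacter χ) g]
      refine congrArg _ (pow_eq_pow_iff_modEq.2 (Nat.ModEq.of_dvd (hdvdN g) ?_))
      obtain ⟨h1, h2⟩ := (Nat.chineseRemainder hco
        ((ZMod.unitOfCoprime n hnp : (ZMod (p ^ a))ˣ) : ZMod (p ^ a)).val 1).2
      refine (Nat.modEq_and_modEq_iff_modEq_mul hco).1 ⟨h1.trans ?_, h2.trans hn1.symm⟩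
      rw [ZMod.coe_unitOfCoprime, ZMod.val_natCast]
      exact Nat.mod_modEq _ _
  -- all fibres of act have the same size
  let Stab : Subgroup (ZMod (p ^ a))ˣ :=
    { carrier := {u | ∀ g : G, (χ : G → ℂ) (g ^ expOf hco u) = (χ : G → ℂ) g}
      one_mem' := fun g => by
        refine congrArg _ ?_
        conv_rhs => rw [← pow_one g]
        refine pow_eq_pow_iff_modEq.2 (Nat.ModEq.of_dvd (hdvdN g) ?_)
        obtain ⟨h1, h2⟩ := (Nat.chineseRemainder hco ((1 : (ZMod (p ^ a))ˣ) : ZMod (p ^ a)).val 1).2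
        refine (Nat.modEq_and_modEq_iff_modEq_mul hco).1 ⟨h1.trans ?_, h2⟩
        rw [Units.val_one, ← Nat.cast_one (R := ZMod (p ^ a)), ZMod.val_natCast]
        exact Nat.mod_modEq _ _
      mul_mem' := fun {u v} hu hv g => by
        rw [show g ^ expOf hco (u * v) = (g ^ expOf hco u) ^ expOf hco v by
          rw [← pow_mul]
          exact pow_eq_pow_iff_modEq.2
            (Nat.ModEq.of_dvd (hdvdN g) (expOf_mul hp.ne_zero hco u v)), hv, hu]
      inv_mem' := fun {u} hu g => by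
        have h := hu (g ^ expOf hco u⁻¹)
        rw [← h, ← pow_mul]
        refine congrArg _ ?_
        conv_rhs => rw [← pow_one g]
        refine pow_eq_pow_iff_modEq.2 (Nat.ModEq.of_dvd (hdvdN g) ?_)
        refine (expOf_mul hp.ne_zero hco u⁻¹ u).symm.trans ?_
        rw [inv_mul_cancel]
        obtain ⟨h1, h2⟩ := (Nat.chineseRemainder hco ((1 : (ZMod (p ^ a))ˣ) : ZMod (p ^ a)).val 1).2
        refine (Nat.modEq_and_modEq_iff_modEq_mul hco).1 ⟨h1.trans ?_, h2⟩
        rw [Units.val_one, ← Nat.cast_one (R := ZMod (p ^ a)), ZMod.val_natCast]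
        exact Nat.mod_modEq _ _ }
  have hactmul : ∀ (u v : (ZMod (p ^ a))ˣ) (g : G),
      (act (v * u) : G → ℂ) g = (act u : G → ℂ) (g ^ expOf hco v) := by
    intro u v g
    rw [hact, hact, ← pow_mul]
    exact congrArg _ (pow_eq_pow_iff_modEq.2
      (Nat.ModEq.of_dvd (hdvdN g) (expOf_mul hp.ne_zero hco v u)))
  have hfib : ∀ ψ ∈ S, (Finset.univ.filter fun u => act u = ψ).card = Nat.card Stab := by
    intro ψ hψ
    obtain ⟨u₀, -, rfl⟩ := Finset.mem_image.1 hψ
    have key : ∀ v, v ∈ Stab → act (v * u₀) = act u₀ := by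
      intro v hv
      rw [mul_comm]
      apply Subtype.ext
      funext g
      rw [hactmul, hact, hact, hv]
    have key' : ∀ u, act u = act u₀ → u * u₀⁻¹ ∈ Stab := by
      intro u hu g
      have h := hactmul u u₀⁻¹ g
      rw [hu, ← hactmul, inv_mul_cancel, hact, hact, mul_comm u₀⁻¹] at h
      rw [h]
      exact (Stab.one_mem g)
    rw [← Nat.card_eq_finsetCard]
    refine Nat.card_congr
      { toFun := fun u => ⟨u.1 * u₀⁻¹, key' u.1 (Finset.mem_filter.1 u.2).2⟩
        invFun := fun v => ⟨v.1 * u₀, Finset.mem_filter.2 ⟨Finset.mem_univ _, key v.1 v.2⟩⟩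
        left_inv := fun u => by simp
        right_inv := fun v => by simp }
  set k := Nat.card Stab with hk
  have hcardU : Nat.card (ZMod (p ^ a))ˣ = r * k := by
    rw [Nat.card_eq_fintype_card, ← Finset.card_univ,
      Finset.card_eq_sum_card_fiberwise (f := act) (t := S)
        (fun u _ => Finset.mem_image_of_mem _ (Finset.mem_univ u)),
      Finset.sum_congr rfl hfib, Finset.sum_const, smul_eq_mul, hSr]
  have hcardU' : Nat.card (ZMod (p ^ a))ˣ = Nat.totient (p ^ a) := by
    rw [Nat.card_eq_fintype_card, ZMod.card_units_eq_totient]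
  have hk0 : k ≠ 0 := Nat.card_pos.ne'
  have hr0 : r ≠ 0 := fun h => by rw [h, zero_mul] at hcardU; exact Nat.card_pos.ne' hcardU
  have hv : r.factorization p + k.factorization p = a - 1 := by
    have h := congrArg (fun x => x.factorization p) (hcardU.symm.trans hcardU')
    simp only [Nat.factorization_mul hr0 hk0, Finsupp.add_apply] at h
    rw [h]
    rcases Nat.eq_zero_or_pos a with ha | ha
    · simp [ha]
    · rw [Nat.totient_prime_pow hp ha, Nat.factorization_mul (pow_ne_zero _ hp.ne_zero)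
        (Nat.sub_ne_zero_of_lt hp.one_lt), Finsupp.add_apply, hp.factorization_pow,
        Finsupp.single_eq_same, Nat.factorization_eq_zero_of_lt
        (Nat.sub_lt hp.pos one_pos), add_zero]
  -- p ^ (a-1) divides the trace
  have hT : ∀ g : G, ∃ I : ℂ, IsIntegral ℤ I ∧
      ∑ u, (χ : G → ℂ) (g ^ expOf hco u) = (p : ℂ) ^ (a - 1) * I := by
    intro g
    obtain ⟨d, ρ, -, hρ⟩ := χ.2
    obtain ⟨ι, _, b, μ, hm, hb⟩ := Chars.exists_eigenbasis ρ g
    have hpw : ∀ n : ℕ, (χ : G → ℂ) (g ^ n) = ∑ i, μ i ^ n := by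
      intro n
      rw [← hρ]
      refine Chars.trace_eq_sum_of_eigenbasis _ b _ fun i => ?_
      rw [map_pow]
      induction n with
      | zero => simp
      | succ k ih => rw [pow_succ', Module.End.mul_apply, ih, map_smul, hb, smul_smul, pow_succ]
    obtain ⟨e1, he1, he2⟩ := Nat.chineseRemainder hco 1 0
    obtain ⟨e2, he3, he4⟩ := Nat.chineseRemainder hco 0 1
    have hμN : ∀ i, μ i ^ (p ^ a * g') = 1 := fun i => by
      obtain ⟨l, hl⟩ := hdvdN g
      rw [hl, pow_mul, hm, one_pow]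
    have hterm : ∀ i, ∃ I : ℂ, IsIntegral ℤ I ∧
        ∑ u, μ i ^ expOf hco u = (p : ℂ) ^ (a - 1) * I := by
      intro i
      have hint : IsIntegral ℤ (μ i) :=
        IsIntegral.of_pow hN' (by rw [hμN i]; exact isIntegral_one)
      have hq : (μ i ^ e1) ^ p ^ a = 1 := by
        obtain ⟨l, hl⟩ := (Nat.modEq_zero_iff_dvd.1 he2)
        rw [← pow_mul, hl, show g' * l * p ^ a = p ^ a * g' * l by ring, pow_mul, hμN, one_pow]
      obtain ⟨z, hz⟩ := sum_units_pow a hq
      refine ⟨μ i ^ e2 * z, (hint.pow _).mul (isIntegral_algebraMap (R := ℤ) (A := ℂ) (x := z)), ?_⟩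
      rw [mul_left_comm, ← hz, Finset.mul_sum]
      refine Finset.sum_congr rfl fun u _ => ?_
      rw [← pow_mul, ← pow_add]
      rw [pow_eq_pow_mod (expOf hco u) (hμN i)]
      conv_rhs => rw [pow_eq_pow_mod _ (hμN i)]
      refine congrArg _ ?_
      obtain ⟨h1, h2⟩ := (Nat.chineseRemainder hco (u : ZMod (p ^ a)).val 1).2
      refine (Nat.modEq_and_modEq_iff_modEq_mul hco).1 ⟨h1.trans ?_, h2.trans ?_⟩
      · simpa using (he3.add (he1.mul_right (u : ZMod (p ^ a)).val)).symm
      · simpa using (he4.add (he2.mul_right (u : ZMod (p ^ a)).val)).symm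
    choose I hI hIe using hterm
    refine ⟨∑ i, I i, IsIntegral.sum _ fun i _ => hI i, ?_⟩
    simp only [hpw]
    rw [Finset.sum_comm, Finset.sum_congr rfl fun i _ => hIe i, Finset.mul_sum]
  -- coefficients of the idempotent of the orbit
  set c := (charDegree (χ : G → ℂ)).factorization p with hc
  obtain ⟨hdeg, hdeg0⟩ := HeightZero.charDegree_eq χ
  set S' : Set (IrrCharacter G) := ↑S with hS'
  have hS1 : ∀ ψ ∈ S, (ψ : G → ℂ) 1 = (χ : G → ℂ) 1 := by
    intro ψ hψ
    obtain ⟨u, -, rfl⟩ := Finset.mem_image.1 hψ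
    rw [hact, one_pow]
  set k' := k / p ^ k.factorization p with hk'
  set n' := charDegree (χ : G → ℂ) / p ^ c with hn'
  have hk'0 : ¬ p ∣ k' := Nat.not_dvd_ordCompl hp hk0
  have hkeq : p ^ k.factorization p * k' = k := Nat.ordProj_mul_ordCompl_eq_self k p
  have hneq : p ^ c * n' = charDegree (χ : G → ℂ) := Nat.ordProj_mul_ordCompl_eq_self _ p
  have hcoef : ∀ g : G, ∃ R : ℂ, MemLocalRing M R ∧
      blockCoeff S' g * (p : ℂ) ^ a = (p : ℂ) ^ (c + r.factorization p) * R := by
    intro g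
    obtain ⟨I, hI, hTI⟩ := hT g
    have hsum : (k : ℂ) * ∑ ψ ∈ S, (ψ : G → ℂ) g = (p : ℂ) ^ (a - 1) * I := by
      rw [← hTI, ← Finset.sum_congr rfl (fun u (_ : u ∈ Finset.univ) => hact u g),
        ← Finset.sum_fiberwise_of_maps_to (g := act) (t := S)
          (fun u _ => Finset.mem_image_of_mem _ (Finset.mem_univ u)), Finset.mul_sum]
      refine Finset.sum_congr rfl fun ψ hψ => ?_
      rw [Finset.sum_congr rfl (g := fun _ => (ψ : G → ℂ) g)
        (fun u hu => by rw [(Finset.mem_filter.1 hu).2]), Finset.sum_const, hfib ψ hψ,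
        nsmul_eq_mul]
    have hk'C : (k' : ℂ) ≠ 0 := Nat.cast_ne_zero.2 fun h => hk'0 (h ▸ dvd_zero p)
    have hg'C : (g' : ℂ) ≠ 0 := Nat.cast_ne_zero.2 hg'0
    have hpC : (p : ℂ) ≠ 0 := Nat.cast_ne_zero.2 hp.ne_zero
    have hsum' : ∑ ψ ∈ S, (ψ : G → ℂ) g = (p : ℂ) ^ r.factorization p * I * (k' : ℂ)⁻¹ := by
      rw [eq_mul_inv_iff_mul_eq₀ hk'C]
      apply mul_left_cancel₀ (pow_ne_zero (k.factorization p) hpC)
      rw [show (p : ℂ) ^ k.factorization p * ((∑ ψ ∈ S, (ψ : G → ℂ) g) * k') =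
        ((p ^ k.factorization p * k' : ℕ) : ℂ) * ∑ ψ ∈ S, (ψ : G → ℂ) g by push_cast; ring,
        hkeq, hsum, ← hv, pow_add]
      ring
    refine ⟨(g' : ℂ)⁻¹ * n' * (k' : ℂ)⁻¹ * conj I, ?_, ?_⟩
    · exact mem_localRing.1 (mul_mem (mul_mem (mul_mem (inv_natCast_mem_localRing hM hpg')
        (natCast_mem_localRing _)) (inv_natCast_mem_localRing hM hk'0))
        (isIntegral_mem_localRing (hI.map (starRingEnd ℂ).toIntAlgHom)))
    · rw [blockCoeff, hS', finsum_mem_coe_finset,
        Finset.sum_congr rfl (fun ψ hψ => by rw [hS1 ψ hψ]), ← Finset.mul_sum, ← map_sum, hsum',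
        ← hdeg, ← hneq, ← hNdef, ← hNeq]
      push_cast
      simp only [map_mul, map_pow, map_inv₀, map_natCast]
      field_simp
      ring
  have hkey : c + r.factorization p ≤ a := by
    by_contra hlt
    have hsub : ∀ g, ∃ R : ℂ, MemLocalRing M R ∧ blockCoeff S' g = (p : ℂ) * R := by
      intro g
      obtain ⟨R, hR, hgR⟩ := hcoef g
      obtain ⟨l, hl⟩ : ∃ l, c + r.factorization p = a + (1 + l) :=
        ⟨c + r.factorization p - a - 1, by omega⟩
      refine ⟨(p : ℂ) ^ l * R, mem_localRing.1 (mul_mem (pow_mem (natCast_mem_localRing p) l)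
        (mem_localRing.2 hR)), ?_⟩
      apply mul_right_cancel₀ (pow_ne_zero a (Nat.cast_ne_zero (R := ℂ).2 hp.ne_zero))
      rw [hgR, hl, pow_add, pow_add, pow_one]
      ring
    have hA : ∀ g, MemLocalRing M (blockCoeff S' g) := fun g => by
      obtain ⟨R, hR, hgR⟩ := hsub g
      rw [hgR]
      exact mem_localRing.1 (mul_mem (natCast_mem_localRing p) (mem_localRing.2 hR))
    haveI : Fintype (ConjClasses G) := Fintype.ofFinite _
    have hF : IsClassFunction G (blockCoeff S') := fun g h => by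
      simp only [blockCoeff, Chars.irr_isClassFunction _ g h]
    have heval : ∑ g : G, blockCoeff S' g * (χ : G → ℂ) g / (χ : G → ℂ) 1 = 1 := by
      have hχS : χ ∈ S := Finset.mem_image.2 ⟨1, Finset.mem_univ _, Subtype.ext (funext fun g =>
        (hact 1 g).trans (Stab.one_mem g))⟩
      simp only [blockCoeff, hS', finsum_mem_coe_finset, Finset.mul_sum, Finset.sum_mul,
        Finset.sum_div]
      rw [Finset.sum_comm, Finset.sum_eq_single_of_mem χ hχS]
      · have h := Chars.classInner_irr_self χ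
        rw [classInner] at h
        rw [← h, Finset.mul_sum]
        refine Finset.sum_congr rfl fun g _ => ?_
        field_simp [Chars.irr_apply_one_ne_zero χ]
      · intro ψ _ hψ
        have h := Chars.classInner_irr_of_ne (Ne.symm hψ)
        rw [classInner, Finset.mul_sum] at h
        rw [← mul_zero ((ψ : G → ℂ) 1 / (χ : G → ℂ) 1), ← h, Finset.mul_sum]
        refine Finset.sum_congr rfl fun g _ => ?_
        field_simp
    rw [HeightZero.sum_mul_div_eq_sum_centralChar hF (Chars.irr_isClassFunction χ)] at heval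
    refine not_memLocalIdeal_one (M := M) (heval ▸ memLocalIdeal_sum _ _ fun C _ => ?_)
    obtain ⟨R, hR, hgR⟩ := hsub (Quotient.out C)
    rw [hgR, mul_assoc]
    exact memLocalIdeal_mul_right ((memLocalIdeal_natCast_iff hM p).2 dvd_rfl)
      (mem_localRing.1 (mul_mem (mem_localRing.2 hR)
        (mem_localRing.2 (HeightZero.centralLocal_holds χ _))))
  have hmulfac : (r * charDegree (χ : G → ℂ)).factorization p = r.factorization p + c := by
    rw [Nat.factorization_mul hr0 hdeg0, Finsupp.add_apply, hc]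
  refine ⟨by omega, fun hdvd => ?_⟩
  have hge : a ≤ r.factorization p + c := by
    rw [← hmulfac]
    exact (hp.pow_dvd_iff_le_factorization (mul_ne_zero hr0 hdeg0)).1 hdvd
  by_contra hnot
  have hca : c < a := by
    by_contra h
    exact hnot ((hp.pow_dvd_iff_le_factorization hdeg0).2 (by omega))
  have hA : ∀ g, MemLocalRing M (blockCoeff S' g) := fun g => by
    obtain ⟨R, hR, hgR⟩ := hcoef g
    rw [show c + r.factorization p = a by omega, mul_comm ((p : ℂ) ^ a)] at hgR
    rw [mul_right_cancel₀ (pow_ne_zero a (Nat.cast_ne_zero (R := ℂ).2 hp.ne_zero)) hgR]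
    exact hR
  set B := blockOf M (χ : G → ℂ) with hBdef
  have hB : IsPBlock M B := isPBlock_blockOf χ
  have hBS : B ⊆ S' := fun ψ hψ => mem_of_sameBlock_of_memLocalRing hA
    (Finset.mem_coe.2 (Finset.mem_image.2 ⟨1, Finset.mem_univ _,
      Subtype.ext (funext fun g => (hact 1 g).trans (Stab.one_mem g))⟩)) hψ
  have hBd : blockDefect p B = a - c := by
    unfold blockDefect
    rw [← hNdef, ← hadef]
    congr 1
    have hne : ((fun ψ : IrrCharacter G => (charDegree (ψ : G → ℂ)).factorization p) '' B).Nonempty :=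
      ⟨_, χ, mem_blockOf_self χ, rfl⟩
    obtain ⟨ψ, hψ, hψe⟩ := Nat.sInf_mem hne
    rw [← hψe]
    show (charDegree (ψ : G → ℂ)).factorization p = c
    simp only [hc, charDegree, hS1 ψ (Finset.mem_coe.1 (hBS hψ))]
  -- the kernel of reduction mod p^d fixes χ
  set d := a - c with hd
  have hdvd : p ^ d ∣ p ^ a := pow_dvd_pow p (Nat.sub_le a c)
  have hker : (ZMod.unitsMap hdvd).ker ≤ Stab := by
    intro u hu g
    obtain ⟨h1, h2⟩ := (Nat.chineseRemainder hco (u : ZMod (p ^ a)).val 1).2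
    by_cases hz : (χ : G → ℂ) g = 0
    · rw [← gal_apply_eq_pow (σ := (σu u).toRingHom) (hσu u) (dvd_of_eq hNeq.symm)
        (Chars.irr_isCharacter χ) g, hz, map_zero]
    · refine congrArg _ ?_
      conv_rhs => rw [← pow_one g]
      refine pow_eq_pow_iff_modEq.2 ?_
      obtain ⟨x, y, hxy, hcomm, hxp, hy⟩ := exists_isPPart (p := p) g
      have hxD : orderOf x ∣ p ^ d := by
        by_contra hxd
        refine hz (char_eq_zero_of_pPart_notMem hM χ ⟨y, hxy, hcomm, hxp, hy⟩ fun D hD hxD' => hxd ?_)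
        rw [← hBd, ← card_defectGroup hM hB hD]
        exact Subgroup.orderOf_dvd_natCard D hxD'
      have hyg : orderOf y ∣ g' := orderOf_pRegular_dvd hy
      have hord : orderOf g ∣ p ^ d * g' := by
        rw [← hxy, hcomm.orderOf_mul_eq_mul_orderOf_of_coprime (by
          obtain ⟨j, hj⟩ := hxp
          rw [hj]; exact (hp.coprime_iff_not_dvd.2 hy).pow_left j)]
        exact mul_dvd_mul hxD hyg
      refine Nat.ModEq.of_dvd hord ?_
      haveI : NeZero (p ^ d) := ⟨pow_ne_zero _ hp.ne_zero⟩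
      refine (Nat.modEq_and_modEq_iff_modEq_mul (hco.coprime_dvd_left hdvd)).1
        ⟨(h1.of_dvd hdvd).trans ?_, h2⟩
      have h := congrArg Units.val (MonoidHom.mem_ker.1 hu)
      rw [ZMod.unitsMap_val, Units.val_one, ← ZMod.natCast_val, ← Nat.cast_one,
        ZMod.natCast_eq_natCast_iff] at h
      exact h
  haveI : NeZero (p ^ d) := ⟨pow_ne_zero _ hp.ne_zero⟩
  have hcardker : Nat.card (ZMod.unitsMap hdvd).ker * Nat.totient (p ^ d) =
      Nat.totient (p ^ a) := by
    rw [← hcardU', ← ZMod.card_units_eq_totient, ← Nat.card_eq_fintype_card]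
    rw [← Subgroup.card_mul_index (ZMod.unitsMap hdvd).ker]
    congr 1
    rw [Subgroup.index_ker, MonoidHom.range_eq_top.2 (ZMod.unitsMap_surjective hdvd),
      Subgroup.card_top]
  have hd1 : 0 < d := by omega
  rw [Nat.totient_prime_pow hp hd1, Nat.totient_prime_pow hp (by omega : 0 < a), ← mul_assoc]
    at hcardker
  have hkerdvd : p ^ c ∣ k := by
    refine dvd_trans ?_ (Subgroup.card_dvd_of_le hker)
    have hp1 : 0 < p - 1 := Nat.sub_pos_of_lt hp.one_lt
    have h := Nat.eq_of_mul_eq_mul_right hp1 hcardker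
    rw [show a - 1 = c + (d - 1) by omega, pow_add] at h
    rw [Nat.eq_of_mul_eq_mul_right (pow_pos hp.pos _) h]
  have := (hp.pow_dvd_iff_le_factorization hk0).1 hkerdvd
  omega

/-- Let G be a finite group, p a prime, p^a the p-part of the order of G and g′ its p′-part. Call two irreducible characters p-conjugate when one is obtained from the other by applying a field automorphism of ℂ that fixes the g′-th roots of unity, and let r be the number of characters p-conjugate to the irreducible character χ (χ included). Then the exponent of p in r·χ(1) is at most a; and if p^a divides r·χ(1) then p^a already divides χ(1). -/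
theorem result {G : Type*} [Group G] [Finite G] (p : ℕ) (hp : p.Prime) (χ : Cfsg.IrrCharacter G) (r : ℕ) (hr : Nat.card {ψ : Cfsg.IrrCharacter G // ∃ σ : ℂ ≃+* ℂ, σ (Complex.exp (2 * Real.pi * Complex.I / ((Nat.card G / p ^ (Nat.card G).factorization p) : ℕ))) = Complex.exp (2 * Real.pi * Complex.I / ((Nat.card G / p ^ (Nat.card G).factorization p) : ℕ)) ∧ (ψ : G → ℂ) = fun g => σ ((χ : G → ℂ) g)} = r) : (r * Cfsg.charDegree (χ : G → ℂ)).factorization p ≤ (Nat.card G).factorization p ∧ (p ^ (Nat.card G).factorization p ∣ r * Cfsg.charDegree (χ : G → ℂ) → p ^ (Nat.card G).factorization p ∣ Cfsg.charDegree (χ : G → ℂ)) := by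
  cases nonempty_fintype G
  exact main hp χ r hr

end Cfsg.Agent.S4506
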