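import Cfsg.Statements.S4508
import Mathlib
import Cfsg.Agent.Lib.SelfCentral.Structure
import Cfsg.Agent.Lib.EigenExp.Basic
import Cfsg.Agent.Lib.Chars.Basic

set_option autoImplicit false
open Cfsg

namespace Cfsg.Agent.S4508

open Cfsg.Agent.Lib.SelfCentral Cfsg.Agent.Lib.EigenExp
open scoped ComplexConjugate
open ZMod (stdAddChar)

/-- The exponent by which conjugation by `y` acts on `⟨x⟩`. -/
theorem exists_exponent {G : Type*} [Group G] {p : ℕ} [NeZero p] {x : G} (hx : orderOf x = p)
    {y : G} (hy : y ∈ Subgroup.normalizer ((Subgroup.zpowers x : Subgroup G) : Set G)) :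
    ∃ a : ZMod p, y * x * y⁻¹ = x ^ a.val := by
  obtain ⟨k, hk⟩ := (Subgroup.mem_normalizer_iff.mp hy x).mp (Subgroup.mem_zpowers x)
  have hk' : x ^ k = y * x * y⁻¹ := hk
  refine ⟨(k : ZMod p), ?_⟩
  rw [← hk', ← zpow_natCast, zpow_eq_zpow_iff_modEq, hx, ← ZMod.intCast_eq_intCast_iff]
  simp

theorem pow_val_injective {G : Type*} [Group G] {p : ℕ} [NeZero p] {x : G} (hx : orderOf x = p)
    {a b : ZMod p} (h : x ^ a.val = x ^ b.val) : a = b := by
  rw [pow_eq_pow_iff_modEq, hx, ← ZMod.natCast_eq_natCast_iff] at h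
  simpa using h

/-- The sum of `|χ|²` over the nontrivial powers of `x` is less than `|N(⟨x⟩)|`. -/
theorem sum_sq_lt {G : Type*} [Group G] [Fintype G] {p : ℕ} [NeZero p] {x : G} (hp : p.Prime)
    (hx : orderOf x = p) (χ : Cfsg.IrrCharacter G) :
    (∑ k ∈ Finset.univ.erase (0 : ZMod p), ‖(χ : G → ℂ) (x ^ k.val)‖ ^ 2) <
      Nat.card (Subgroup.normalizer ((Subgroup.zpowers x : Subgroup G) : Set G)) := by
  classical
  have := Fact.mk hp
  set N := Subgroup.normalizer ((Subgroup.zpowers x : Subgroup G) : Set G)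
  set S := ∑ k ∈ Finset.univ.erase (0 : ZMod p), ‖(χ : G → ℂ) (x ^ k.val)‖ ^ 2
  have hcl := Lib.Chars.irr_isClassFunction χ
  let f : G × ZMod p → G := fun q => q.1 * x ^ q.2.val * q.1⁻¹
  set s := (Finset.univ : Finset G) ×ˢ Finset.univ.erase (0 : ZMod p)
  have h1 : ∑ q ∈ s, ‖(χ : G → ℂ) (f q)‖ ^ 2 = (Fintype.card G : ℝ) * S := by
    simp only [s, Finset.sum_product, f, hcl _ _, S, Finset.sum_const, Finset.card_univ,
      nsmul_eq_mul]
  have hfib : ∀ g : G, (s.filter fun q => f q = g).card ≤ Nat.card N := by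
    intro g
    rcases Finset.eq_empty_or_nonempty (s.filter fun q => f q = g) with h | ⟨⟨c₀, k₀⟩, h₀⟩
    · rw [h, Finset.card_empty]; exact Nat.zero_le _
    simp only [Finset.mem_filter, s, Finset.mem_product, Finset.mem_erase, Finset.mem_univ,
      and_true, true_and] at h₀
    rw [Nat.card_eq_fintype_card, ← Fintype.card_coe]
    have hmem : ∀ q : ↥(s.filter fun q => f q = g), c₀⁻¹ * q.1.1 ∈ N ∧
        (c₀⁻¹ * q.1.1) * x ^ q.1.2.val * (c₀⁻¹ * q.1.1)⁻¹ = x ^ k₀.val := by
      rintro ⟨⟨c, k⟩, hq⟩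
      simp only [Finset.mem_filter, s, Finset.mem_product, Finset.mem_erase, Finset.mem_univ,
        and_true, true_and] at hq
      have heq : (c₀⁻¹ * c) * x ^ k.val * (c₀⁻¹ * c)⁻¹ = x ^ k₀.val := by
        calc (c₀⁻¹ * c) * x ^ k.val * (c₀⁻¹ * c)⁻¹ = c₀⁻¹ * (c * x ^ k.val * c⁻¹) * c₀ := by group
          _ = c₀⁻¹ * (c₀ * x ^ k₀.val * c₀⁻¹) * c₀ := by rw [show c * x ^ k.val * c⁻¹ = g from hq.2,
              show c₀ * x ^ k₀.val * c₀⁻¹ = g from h₀.2]
          _ = x ^ k₀.val := by group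
      refine ⟨?_, heq⟩
      have hz : ∀ j : ZMod p, j ≠ 0 → Subgroup.zpowers (x ^ j.val) = Subgroup.zpowers x := by
        intro j hj
        refine Subgroup.eq_of_le_of_card_ge
          (Subgroup.zpowers_le.mpr (pow_mem (Subgroup.mem_zpowers x) _)) ?_
        rw [Nat.card_zpowers, Nat.card_zpowers, Nat.Coprime.orderOf_pow, hx]
        rw [hx]
        exact (hp.coprime_iff_not_dvd.mpr fun hd => hj ((ZMod.val_eq_zero j).mp
          (Nat.eq_zero_of_dvd_of_lt hd (ZMod.val_lt j))))
      have hmap : (Subgroup.zpowers x).map (MulAut.conj (c₀⁻¹ * c)).toMonoidHom =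
          Subgroup.zpowers x := by
        conv_lhs => rw [← hz k hq.1]
        rw [MonoidHom.map_zpowers]
        show Subgroup.zpowers ((c₀⁻¹ * c) * x ^ k.val * (c₀⁻¹ * c)⁻¹) = _
        rw [heq, hz k₀ h₀.1]
      rw [Subgroup.mem_normalizer_iff]
      intro h
      constructor
      · intro hh
        rw [← hmap]
        exact ⟨h, hh, rfl⟩
      · intro hh
        rw [← hmap] at hh
        obtain ⟨z, hz, hzeq⟩ := hh
        have hz' : (c₀⁻¹ * c) * z * (c₀⁻¹ * c)⁻¹ = (c₀⁻¹ * c) * h * (c₀⁻¹ * c)⁻¹ := hzeq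
        rwa [← mul_left_cancel (mul_right_cancel hz')]
    refine Fintype.card_le_of_injective (fun q => (⟨_, (hmem q).1⟩ : N)) ?_
    intro q q' h
    have hc : q.1.1 = q'.1.1 := mul_left_cancel (congrArg Subtype.val h)
    refine Subtype.ext (Prod.ext hc (pow_val_injective hx ?_))
    have h1 := (hmem q).2
    rw [hc, ← (hmem q').2] at h1
    exact mul_left_cancel (mul_right_cancel h1)
  have h2 : ∑ g : G, ‖(χ : G → ℂ) g‖ ^ 2 = (Fintype.card G : ℝ) := by
    have h := Lib.Chars.classInner_irr_self χ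
    rw [Cfsg.classInner, inv_mul_eq_one₀ Lib.Chars.natCard_ne_zero] at h
    apply Complex.ofReal_injective
    push_cast
    rw [← Nat.card_eq_fintype_card, h]
    exact Finset.sum_congr rfl fun g _ => by rw [Complex.mul_conj']
  have h1mem : (s.filter fun q => f q = 1).card = 0 := by
    rw [Finset.card_eq_zero, Finset.filter_eq_empty_iff]
    rintro ⟨c, k⟩ hq h
    simp only [s, Finset.mem_product, Finset.mem_erase, Finset.mem_univ, and_true, true_and] at hq
    have : x ^ k.val = 1 := by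
      calc x ^ k.val = c⁻¹ * (c * x ^ k.val * c⁻¹) * c := by group
        _ = 1 := by rw [show c * x ^ k.val * c⁻¹ = 1 from h]; group
    exact hq (pow_val_injective hx (by rw [this, ZMod.val_zero, pow_zero]))
  have h3 : (Fintype.card G : ℝ) * S ≤
      (Nat.card N : ℝ) * ∑ g ∈ Finset.univ.erase (1 : G), ‖(χ : G → ℂ) g‖ ^ 2 := by
    rw [← h1, ← Finset.sum_fiberwise s f, Finset.mul_sum,
      ← Finset.sum_erase_add _ _ (Finset.mem_univ (1 : G)),
      Finset.card_eq_zero.mp h1mem, Finset.sum_empty, add_zero]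
    refine Finset.sum_le_sum fun g _ => ?_
    rw [Finset.sum_congr rfl (fun q hq => by rw [(Finset.mem_filter.mp hq).2]), Finset.sum_const,
      nsmul_eq_mul]
    exact mul_le_mul_of_nonneg_right (by exact_mod_cast hfib g) (sq_nonneg _)
  rw [← Finset.sum_erase_add _ _ (Finset.mem_univ (1 : G))] at h2
  have hone : (0 : ℝ) < ‖(χ : G → ℂ) 1‖ ^ 2 := by
    have := Lib.Chars.irr_apply_one_ne_zero χ
    positivity
  have hN : (0 : ℝ) < Nat.card N := by exact_mod_cast Nat.card_pos
  have hG : (0 : ℝ) < Fintype.card G := by exact_mod_cast Fintype.card_pos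
  nlinarith

/-- The eigenvalue `1` does not occur: the counting step. -/
theorem mult_zero {p : ℕ} [Fact p.Prime] (hodd : p ≠ 2) (m : ZMod p → ℕ)
    (hsum : ∑ a, m a + 1 = p) (A : Finset (ZMod p)) (hneg : -1 ∈ A) (h0 : (0 : ZMod p) ∉ A)
    (hinv : ∀ b ∈ A, ∀ a, m (a * b) = m a)
    (hS : (p : ℤ) * ∑ a, (m a : ℤ) ^ 2 - ((p : ℤ) - 1) ^ 2 < p * A.card) : m 0 = 0 := by
  classical
  by_contra hm0
  have hsum' : ∑ a, (m a : ℤ) = p - 1 := by
    have : ((∑ a, m a + 1 : ℕ) : ℤ) = (p : ℤ) := by rw [hsum]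
    push_cast at this; linarith
  set D := ∑ a, ((m a : ℤ) - 1) ^ 2 with hD
  have hsq : ∑ a, (m a : ℤ) ^ 2 = D + (p - 2) := by
    simp only [hD, sub_sq, Finset.sum_add_distrib, Finset.sum_sub_distrib, one_pow, mul_one,
      ← Finset.mul_sum, Finset.sum_const, Finset.card_univ, ZMod.card, nsmul_eq_mul]
    rw [hsum']; ring
  have hDle : D ≤ A.card := by
    have hp : (1 : ℤ) < p := by exact_mod_cast (Fact.out : p.Prime).one_lt
    rw [hsq] at hS
    by_contra hcon
    have : (A.card : ℤ) + 1 ≤ D := by omega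
    nlinarith
  have hsplit : ((m 0 : ℤ) - 1) ^ 2 + ∑ a ∈ Finset.univ.erase 0, ((m a : ℤ) - 1) ^ 2 = D := by
    rw [hD, add_comm]; exact Finset.sum_erase_add _ _ (Finset.mem_univ _)
  have hsum0 : (m 0 : ℤ) - 1 + ∑ a ∈ Finset.univ.erase 0, ((m a : ℤ) - 1) = -1 := by
    rw [add_comm, Finset.sum_erase_add _ _ (Finset.mem_univ _), Finset.sum_sub_distrib, hsum']
    simp [ZMod.card]
  obtain ⟨a₀, ha₀, hne⟩ : ∃ a ∈ Finset.univ.erase (0 : ZMod p), (m a : ℤ) - 1 ≠ 0 := by
    by_contra hcon
    push Not at hcon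
    rw [Finset.sum_eq_zero hcon] at hsum0
    have : (m 0 : ℤ) = 0 := by linarith
    exact hm0 (by exact_mod_cast this)
  have hA : (A.card : ℤ) ≤ ∑ a ∈ Finset.univ.erase 0, ((m a : ℤ) - 1) ^ 2 := by
    have ha0 : a₀ ≠ 0 := Finset.ne_of_mem_erase ha₀
    have hsub : A.image (fun b => a₀ * b) ⊆ Finset.univ.erase 0 := by
      intro z hz
      obtain ⟨b, hb, rfl⟩ := Finset.mem_image.mp hz
      refine Finset.mem_erase.mpr ⟨mul_ne_zero ha0 fun h => h0 (h ▸ hb), Finset.mem_univ _⟩
    refine le_trans ?_ (Finset.sum_le_sum_of_subset_of_nonneg hsub fun _ _ _ => sq_nonneg _)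
    rw [Finset.sum_image (fun b _ b' _ h => mul_left_cancel₀ ha0 h)]
    rw [show (A.card : ℤ) = ∑ _b ∈ A, (1 : ℤ) by simp]
    refine Finset.sum_le_sum fun b hb => ?_
    rw [hinv b hb]
    exact (sq_pos_iff.mpr hne : _)
  have hm1 : (m 0 : ℤ) = 1 := by
    nlinarith
  rw [hm1] at hsum0
  have heven : Even (∑ a ∈ Finset.univ.erase (0 : ZMod p), ((m a : ℤ) - 1)) := by
    have h2 : ∀ a : ZMod p, ((((m a : ℤ) - 1 : ℤ)) : ZMod 2) +
        ((((m (-a) : ℤ) - 1 : ℤ)) : ZMod 2) = 0 := by
      intro a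
      have : m (-a) = m a := by simpa using hinv _ hneg a
      rw [this, CharTwo.add_self_eq_zero]
    rw [even_iff_two_dvd]
    refine (ZMod.intCast_zmod_eq_zero_iff_dvd _ 2).mp ?_
    rw [Int.cast_sum]
    refine Finset.sum_involution (fun a _ => -a) (fun a _ => h2 a) (fun a ha _ => ?_)
      (fun a ha => ?_) (fun a _ => neg_neg a)
    · have h := Finset.ne_of_mem_erase ha
      intro h'
      have : (2 : ZMod p) * a = 0 := by linear_combination -h'
      rcases mul_eq_zero.mp this with h2' | h2'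
      · have h3 : ((2 : ℕ) : ZMod p) = 0 := by exact_mod_cast h2'
        exact hodd ((Nat.prime_dvd_prime_iff_eq Fact.out Nat.prime_two).mp
          ((ZMod.natCast_eq_zero_iff 2 p).mp h3))
      · exact h h2'
    · simpa using Finset.ne_of_mem_erase ha
  rw [sub_self, zero_add] at hsum0
  rw [hsum0] at heven
  exact absurd heven (by decide)

/-- A finite-order operator with vanishing traces of nontrivial powers has determinant `-1` when
the multiplicity is odd and its order is even. -/
theorem det_eq_neg_one {G : Type*} [Group G] {n : ℕ} (ρ : Representation ℂ G (Fin n → ℂ))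
    (y : G) {q r : ℕ} [NeZero q] (hy : y ^ q = 1) {q' : ℕ} (hq : q = 2 * q')
    (hn : n = q * r) (hr : Odd r) (hvan : ∀ k : ℕ, ¬ q ∣ k → ρ.character (y ^ k) = 0) :
    LinearMap.det (ρ y) = -1 := by
  classical
  obtain ⟨ι, _, b, c, h⟩ := exists_eigen_exponents ρ y hy
  have hcard : Fintype.card ι = n := by
    rw [← Module.finrank_eq_card_basis b, Module.finrank_fin_fun]
  have hmult : ∀ a : ZMod q, (Finset.univ.filter fun i => c i = a).card = r := by
    intro a
    have h1 := card_mul_multiplicity c a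
    rw [Finset.sum_eq_single (0 : ZMod q)] at h1
    · simp only [zero_mul, neg_zero, AddChar.map_zero_eq_one, one_mul, Finset.sum_const,
        Finset.card_univ, hcard, nsmul_eq_mul, mul_one] at h1
      have : n = q * (Finset.univ.filter fun i => c i = a).card := by exact_mod_cast h1
      exact (Nat.eq_of_mul_eq_mul_left (Nat.pos_of_ne_zero (NeZero.ne q)) (hn.symm.trans this)).symm
    · intro k _ hk
      have h2 := char_pow_eq_sum ρ h k.val
      rw [hvan k.val (fun hd => hk ((ZMod.val_eq_zero k).mp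
        (Nat.eq_zero_of_dvd_of_lt hd (ZMod.val_lt k))))] at h2
      rw [ZMod.natCast_zmod_val] at h2
      rw [← h2, mul_zero]
    · simp
  have hdet : LinearMap.det (ρ y) = stdAddChar (∑ i, c i) := by
    have h1 : ∀ i, ρ y (b i) = stdAddChar (c i) • b i := fun i => by
      have := h 1 i
      rwa [pow_one, Nat.cast_one, one_mul] at this
    have hps : ∀ s : Finset ι, stdAddChar (∑ i ∈ s, c i) = ∏ i ∈ s, stdAddChar (c i) := by
      intro s
      induction s using Finset.induction_on with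
      | empty => simp
      | insert a s ha ih =>
        rw [Finset.sum_insert ha, Finset.prod_insert ha, AddChar.map_add_eq_mul, ih]
    rw [hps, ← LinearMap.det_toMatrix b, show LinearMap.toMatrix b b (ρ y) =
      Matrix.diagonal (fun i => stdAddChar (c i)) from ?_, Matrix.det_diagonal]
    ext i j
    rw [LinearMap.toMatrix_apply, h1, map_smul, Finsupp.smul_apply, b.repr_self,
      Finsupp.single_apply, Matrix.diagonal_apply]
    rcases eq_or_ne i j with rfl | hij
    · simp
    · simp [hij, hij.symm]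
  have hsum : ∑ i, c i = ((q' : ℕ) : ZMod q) := by
    rw [← Finset.sum_fiberwise Finset.univ c]
    rw [Finset.sum_congr rfl (fun a _ => by
      rw [Finset.sum_congr rfl (fun i hi => (Finset.mem_filter.mp hi).2), Finset.sum_const, hmult a])]
    rw [← Finset.smul_sum]
    have h2 : ∑ a : ZMod q, a = ((∑ i ∈ Finset.range q, i : ℕ) : ZMod q) := by
      push_cast
      refine Finset.sum_nbij' (fun a => a.val) (fun i => (i : ZMod q)) ?_ ?_ ?_ ?_ ?_
      · intro a _; simp [ZMod.val_lt]
      · intro i _; simp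
      · intro a _; simp
      · intro i hi; exact ZMod.val_natCast_of_lt (Finset.mem_range.mp hi)
      · intro a _; simp
    rw [h2, nsmul_eq_mul, ← Nat.cast_mul, Finset.sum_range_id, ZMod.natCast_eq_natCast_iff']
    obtain ⟨s, rfl⟩ := hr
    subst hq
    have hq' : 0 < q' := by
      have := NeZero.ne (2 * q')
      omega
    rw [show 2 * q' * (2 * q' - 1) / 2 = q' * (2 * q' - 1) by
      rw [mul_assoc]; exact Nat.mul_div_cancel_left _ (by norm_num)]
    obtain ⟨d, rfl⟩ : ∃ d, q' = d + 1 := ⟨q' - 1, by omega⟩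
    rw [show 2 * (d + 1) - 1 = 2 * d + 1 by omega,
      show (2 * s + 1) * ((d + 1) * (2 * d + 1)) =
        d + 1 + 2 * (d + 1) * (2 * s * d + s + d) by ring, Nat.add_mul_mod_self_left]
  rw [hdet, hsum, show ((q' : ℕ) : ZMod q) = (((q' : ℕ) : ℤ) : ZMod q) by simp,
    ZMod.stdAddChar_coe]
  rw [show 2 * (Real.pi : ℂ) * Complex.I * (((q' : ℕ) : ℤ) : ℂ) / (q : ℂ) = Real.pi * Complex.I by
    have hq' : (q' : ℂ) ≠ 0 := by
      have := NeZero.ne q
      exact_mod_cast fun h : q' = 0 => this (by rw [hq, h, mul_zero])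
    rw [hq]; push_cast; field_simp]
  exact Complex.exp_pi_mul_I

/-- Let the finite group G contain an element x of prime order p with C_G(x) = ⟨x⟩, and let t be the number of conjugacy classes of elements of order p. If G has an irreducible character of degree p − 1, then t is even or the commutator subgroup has even index. -/
theorem result {G : Type*} [Group G] [Finite G] (p : ℕ) (hp : p.Prime) (x : G) (hx : orderOf x = p) (hC : Subgroup.centralizer ({x} : Set G) = Subgroup.zpowers x) (t : ℕ) (ht : Nat.card {C : ConjClasses G // ∃ g ∈ C.carrier, orderOf g = p} = t) (χ : Cfsg.IrrCharacter G) (hχ : Cfsg.charDegree (χ : G → ℂ) + 1 = p) : Even t ∨ Even (commutator G).index := by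
  classical
  subst ht
  have := Fact.mk hp
  have hpos := hp.pos
  by_cases htE : Even (Nat.card {C : ConjClasses G // ∃ g ∈ C.carrier, orderOf g = p})
  · exact Or.inl htE
  refine Or.inr ?_
  rw [Nat.not_even_iff_odd] at htE
  by_cases hp2 : p = 2
  · have h1 := classes_le hp hx hC
    have h2 : Nat.card {C : ConjClasses G // ∃ g ∈ C.carrier, orderOf g = p} = p - 1 := by
      have := htE.pos; subst hp2; omega
    rw [(commutator_of_classes_eq hp hx hC h2).2, hp2]
    exact even_two
  cases nonempty_fintype G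
  set N := Subgroup.normalizer ((Subgroup.zpowers x : Subgroup G) : Set G) with hN
  have htN := classes_mul_card_normalizer hp hx hC
  set t := Nat.card {C : ConjClasses G // ∃ g ∈ C.carrier, orderOf g = p}
  obtain ⟨e, he⟩ : p ∣ Nat.card N := dvd_card_normalizer hx
  have hte : t * e = p - 1 := by
    apply Nat.eq_of_mul_eq_mul_left hpos
    rw [← htN, he]; ring
  have hxp : x ^ p = 1 := by rw [← hx]; exact pow_orderOf_eq_one x
  choose φ hφ using fun y : N => exists_exponent hx y.2
  have hφmul : ∀ y z : N, φ (y * z) = φ z * φ y := by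
    intro y z
    apply pow_val_injective hx
    rw [← hφ, mul_comm (φ z), pow_val_mul hxp, ← hφ y, conj_pow, ← hφ z]
    push_cast; group
  have hφker : ∀ y z : N, φ y = φ z → (y : G)⁻¹ * z ∈ Subgroup.zpowers x := by
    intro y z h
    apply mem_zpowers_of_commute hC
    have h' : (y : G) * x * (y : G)⁻¹ = (z : G) * x * (z : G)⁻¹ := by rw [hφ, hφ, h]
    calc (y : G)⁻¹ * z * x = (y : G)⁻¹ * ((z : G) * x * (z : G)⁻¹) * z := by group
      _ = x * ((y : G)⁻¹ * z) := by rw [← h']; group
  set A := Finset.univ.image φ with hAdef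
  have hAcard : e ≤ A.card := by
    have h := Finset.card_le_mul_card_image (f := φ) (s := Finset.univ) p (fun a ha => ?_)
    · rw [Finset.card_univ, ← Nat.card_eq_fintype_card, he] at h
      exact Nat.le_of_mul_le_mul_left h hpos
    · obtain ⟨y₀, -, rfl⟩ := Finset.mem_image.mp ha
      refine le_of_le_of_eq ?_ (card_zpowers_eq hx)
      rw [Nat.card_eq_fintype_card, ← Fintype.card_coe]
      refine Fintype.card_le_of_injective (fun y => (⟨(y₀ : G)⁻¹ * (y.1 : G),
        hφker y₀ y.1 (Finset.mem_filter.mp y.2).2.symm⟩ : Subgroup.zpowers x)) ?_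
      intro y z h
      exact Subtype.ext (Subtype.ext (mul_left_cancel (congrArg Subtype.val h)))
  have h0A : (0 : ZMod p) ∉ A := by
    intro h
    obtain ⟨y, -, hy⟩ := Finset.mem_image.mp h
    have h' := hφ y
    rw [hy, ZMod.val_zero, pow_zero, mul_inv_eq_one] at h'
    have h1 : x = 1 := mul_left_cancel (a := (y : G)) (by rw [h', mul_one])
    rw [h1, orderOf_one] at hx
    exact hp.one_lt.ne hx
  have heven : Even e := by
    have h := Nat.even_mul (m := t) (n := e)
    rw [hte] at h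
    exact (h.mp (hp.even_sub_one hp2)).resolve_left (Nat.not_even_iff_odd.mpr htE)
  have hφ1 : φ 1 = 1 := by
    apply pow_val_injective hx
    rw [← hφ, ZMod.val_one, pow_one]; simp
  have hneg : -1 ∈ A := by
    obtain ⟨y, hy⟩ := exists_prime_orderOf_dvd_card' (G := N) 2 (by
      rw [he]; exact dvd_mul_of_dvd_right heven.two_dvd p)
    refine Finset.mem_image.mpr ⟨y, Finset.mem_univ _, ?_⟩
    have h1 : φ y * φ y = 1 := by
      rw [← hφmul, ← pow_two, ← hy, pow_orderOf_eq_one, hφ1]
    rcases mul_self_eq_one_iff.mp h1 with h | h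
    · exfalso
      obtain ⟨k, hk⟩ := hφker 1 y (by rw [hφ1, h])
      have hk' : x ^ k = (y : G) := by simpa using hk
      have hd : orderOf (y : G) ∣ p := by
        rw [← hk']; exact orderOf_dvd_of_pow_eq_one (by
          rw [← zpow_natCast, ← zpow_mul, mul_comm, zpow_mul, zpow_natCast, hxp, one_zpow])
      rw [Subgroup.orderOf_coe, hy, Nat.prime_dvd_prime_iff_eq Nat.prime_two hp] at hd
      exact hp2 hd.symm
    · exact h
  obtain ⟨n, ρ, hρ, hρχ⟩ := χ.2
  have hn : n + 1 = p := by
    rw [← hχ, Cfsg.charDegree, ← hρχ, ρ.char_one, Complex.natCast_re, Nat.floor_natCast,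
      Module.finrank_fin_fun]
  obtain ⟨ι, _, b, c, hc⟩ := exists_eigen_exponents ρ x hxp
  have hsum : ∀ k : ZMod p, (χ : G → ℂ) (x ^ k.val) = ∑ i, stdAddChar (k * c i) := by
    intro k
    rw [← hρχ, char_pow_eq_sum ρ hc, ZMod.natCast_zmod_val]
  set m : ZMod p → ℕ := fun a => (Finset.univ.filter fun i => c i = a).card with hm
  have hmsum : ∑ a, m a + 1 = p := by
    rw [hm]
    have := Finset.card_eq_sum_card_fiberwise (f := c) (s := (Finset.univ : Finset ι))
      (t := Finset.univ) (fun _ _ => Finset.mem_univ _)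
    rw [← this, Finset.card_univ, ← Module.finrank_eq_card_basis b, Module.finrank_fin_fun, hn]
  have hinv : ∀ a' ∈ A, ∀ a, m (a * a') = m a := by
    intro a' ha' a
    obtain ⟨y, -, rfl⟩ := Finset.mem_image.mp ha'
    have hb0 : φ y ≠ 0 := fun h => h0A (Finset.mem_image.mpr ⟨y, Finset.mem_univ _, h⟩)
    have h1 := card_mul_multiplicity c (a * φ y)
    have h2 := card_mul_multiplicity c a
    have hscale : ∀ k : ZMod p,
        ∑ i, stdAddChar (k * φ y * c i) = ∑ i, stdAddChar (k * c i) := by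
      intro k
      rw [← hsum, ← hsum, mul_comm, pow_val_mul hxp, ← hφ, conj_pow]
      exact Lib.Chars.irr_isClassFunction χ _ _
    have h3 : (∑ k : ZMod p, stdAddChar (-(k * a)) * ∑ i, stdAddChar (k * c i)) =
        ∑ k : ZMod p, stdAddChar (-(k * (a * φ y))) * ∑ i, stdAddChar (k * c i) := by
      rw [← Equiv.sum_comp (Equiv.mulRight₀ (φ y) hb0)]
      refine Finset.sum_congr rfl fun k _ => ?_
      simp only [Equiv.mulRight₀_apply]
      rw [hscale]
      congr 2; ring
    rw [h2, h1] at h3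
    exact_mod_cast (mul_left_cancel₀ (Nat.cast_ne_zero.mpr hp.ne_zero) h3).symm
  have hS : (p : ℤ) * ∑ a, (m a : ℤ) ^ 2 - ((p : ℤ) - 1) ^ 2 < p * A.card := by
    have h1 := sum_sq_lt hp hx χ
    have h2 := sum_mul_conj_eq (m := p) c
    simp only [← hsum, Complex.mul_conj'] at h2
    have h3 : ∑ k : ZMod p, ‖(χ : G → ℂ) (x ^ k.val)‖ ^ 2 = (p : ℝ) * ∑ a, (m a : ℝ) ^ 2 := by
      apply Complex.ofReal_injective
      push_cast
      exact h2
    rw [← Finset.sum_erase_add _ _ (Finset.mem_univ (0 : ZMod p)), ZMod.val_zero, pow_zero] at h3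
    have h4 : ‖(χ : G → ℂ) 1‖ = (p : ℝ) - 1 := by
      rw [← hρχ, ρ.char_one, Complex.norm_natCast, Module.finrank_fin_fun]
      have : (n : ℝ) + 1 = p := by exact_mod_cast hn
      linarith
    rw [h4] at h3
    rw [← hN, he] at h1
    push_cast at h1
    have h5 : (e : ℝ) ≤ A.card := by exact_mod_cast hAcard
    have h6 : ((p : ℝ) * ∑ a, (m a : ℝ) ^ 2 - ((p : ℝ) - 1) ^ 2) < p * A.card := by
      have hp0 : (0 : ℝ) ≤ p := by positivity
      nlinarith
    exact_mod_cast h6
  have hm0 := mult_zero hp2 m hmsum A hneg h0A hinv hS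
  have hne : ∀ i, c i ≠ 0 := fun i hi => by
    have hmem : i ∈ Finset.univ.filter fun i => c i = 0 :=
      Finset.mem_filter.mpr ⟨Finset.mem_univ _, hi⟩
    rw [Finset.card_eq_zero.mp hm0] at hmem
    exact Finset.notMem_empty _ hmem
  have hvan : ∀ g ∈ N, g ∉ Subgroup.zpowers x → (χ : G → ℂ) g = 0 := by
    intro g hg hgP
    obtain ⟨a, ha⟩ := exists_exponent hx (inv_mem hg)
    rw [inv_inv] at ha
    have ha1 : a - 1 ≠ 0 := by
      rw [sub_ne_zero]
      intro h
      apply hgP
      rw [h, ZMod.val_one, pow_one] at ha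
      apply mem_zpowers_of_commute hC
      calc g * x = g * (g⁻¹ * x * g) := by rw [ha]
        _ = x * g := by group
    have hconst : ∀ k : ZMod p, (χ : G → ℂ) (g * x ^ k.val) = (χ : G → ℂ) g := by
      intro k
      set j : ZMod p := k * (a - 1)⁻¹ with hj
      have hkj : a * j + -j = k := by
        rw [hj]; field_simp; ring
      have hxa : g⁻¹ * x ^ j.val * g = x ^ (a * j).val := by
        have := @conj_pow G _ j.val g⁻¹ x
        rw [inv_inv, ha] at this
        rw [← this, pow_val_mul hxp]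
      have hneg' : (x ^ j.val)⁻¹ = x ^ (-j).val := by
        refine inv_eq_of_mul_eq_one_right ?_
        rw [← pow_add, ← pow_val_natCast hxp]
        simp
      have key : x ^ j.val * g * (x ^ j.val)⁻¹ = g * x ^ k.val := by
        calc x ^ j.val * g * (x ^ j.val)⁻¹ = g * (g⁻¹ * x ^ j.val * g) * (x ^ j.val)⁻¹ := by group
          _ = g * (x ^ (a * j).val * x ^ (-j).val) := by rw [hxa, hneg', mul_assoc]
          _ = g * x ^ k.val := by
            rw [← pow_add, ← pow_val_natCast hxp, Nat.cast_add, ZMod.natCast_zmod_val,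
              ZMod.natCast_zmod_val, hkj]
      rw [← key]
      exact Lib.Chars.irr_isClassFunction χ _ _
    have hzero : ρ g ∘ₗ (∑ k : ZMod p, ρ (x ^ k.val)) = 0 := by
      refine b.ext fun i => ?_
      rw [LinearMap.comp_apply, LinearMap.zero_apply, LinearMap.sum_apply]
      simp only [hc, ZMod.natCast_zmod_val, ← Finset.sum_smul]
      rw [AddChar.sum_mulShift _ (ZMod.isPrimitive_stdAddChar p), if_neg (hne i), Nat.cast_zero,
        zero_smul, map_zero]
    have htr := congrArg (LinearMap.trace ℂ (Fin n → ℂ)) hzero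
    rw [map_zero, show ρ g ∘ₗ (∑ k : ZMod p, ρ (x ^ k.val)) =
      ρ g * ∑ k : ZMod p, ρ (x ^ k.val) from rfl, Finset.mul_sum, map_sum] at htr
    have h' : ∀ k : ZMod p, LinearMap.trace ℂ (Fin n → ℂ) (ρ g * ρ (x ^ k.val)) =
        (χ : G → ℂ) g := fun k => by
      rw [← map_mul]
      exact ((congrFun hρχ (g * x ^ k.val)).trans (hconst k))
    rw [Finset.sum_congr rfl (fun k _ => h' k), Finset.sum_const, Finset.card_univ, ZMod.card,
      nsmul_eq_mul] at htr
    exact (mul_eq_zero.mp htr).resolve_left (Nat.cast_ne_zero.mpr hp.ne_zero)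
  -- an element of order the 2-part of `e`
  obtain ⟨Q⟩ : Nonempty (Sylow 2 N) := inferInstance
  set v := (Nat.card N).factorization 2 with hv
  have hQcard : Nat.card Q = 2 ^ v := Q.card_eq_multiplicity
  let φu : ↥(Q : Subgroup N) → (ZMod p)ˣ := fun y => Units.mk0 (φ y.1) fun h =>
    h0A (Finset.mem_image.mpr ⟨y.1, Finset.mem_univ _, h⟩)
  let Φ : ↥(Q : Subgroup N) →* (ZMod p)ˣ :=
    { toFun := φu
      map_one' := Units.ext hφ1
      map_mul' := fun y z => Units.ext (by
        show φ ((y : N) * (z : N)) = φ y.1 * φ z.1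
        rw [hφmul, mul_comm]) }
  have hΦ : Function.Injective Φ := by
    rw [injective_iff_map_eq_one]
    intro y hy
    have h1 : φ y.1 = φ 1 := by rw [hφ1]; exact congrArg Units.val hy
    obtain ⟨k, hk⟩ := hφker 1 y.1 h1.symm
    have hk' : x ^ k = ((y : N) : G) := by simpa using hk
    have hd1 : orderOf ((y : N) : G) ∣ p := by
      rw [← hk']; exact orderOf_dvd_of_pow_eq_one (by
        rw [← zpow_natCast, ← zpow_mul, mul_comm, zpow_mul, zpow_natCast, hxp, one_zpow])
    have hd2 : orderOf y ∣ 2 ^ v := hQcard ▸ orderOf_dvd_natCard y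
    rw [Subgroup.orderOf_coe, Subgroup.orderOf_coe] at hd1
    have := Nat.eq_one_of_dvd_coprimes
      ((hp.coprime_iff_not_dvd.mpr fun h =>
        hp2 ((Nat.prime_dvd_prime_iff_eq hp Nat.prime_two).mp (hp.dvd_of_dvd_pow h)))) hd1 hd2
    exact orderOf_eq_one_iff.mp this
  have hcyc : IsCyclic (Q : Subgroup N) := isCyclic_of_injective Φ hΦ
  obtain ⟨y, hy⟩ := hcyc.exists_ofOrder_eq_natCard
  rw [hQcard] at hy
  have hpne : ¬ 2 ∣ p := fun h => hp2 ((Nat.prime_dvd_prime_iff_eq Nat.prime_two hp).mp h).symm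
  have he0 : e ≠ 0 := fun h => Nat.card_pos.ne' (h ▸ he : Nat.card N = p * 0)
  have hve : v = e.factorization 2 := by
    rw [hv, he, Nat.factorization_mul hp.ne_zero he0, Finsupp.add_apply,
      Nat.factorization_eq_zero_of_not_dvd hpne, zero_add]
  have hv1 : 1 ≤ v := by
    rw [hve]; exact Nat.prime_two.factorization_pos_of_dvd he0 heven.two_dvd
  obtain ⟨v', hv'⟩ : ∃ v', v = v' + 1 := ⟨v - 1, by omega⟩
  set g : G := ((y : N) : G) with hgdef
  have hgord : orderOf g = 2 ^ v := by rw [Subgroup.orderOf_coe, Subgroup.orderOf_coe, hy]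
  set r := t * (e / 2 ^ v) with hr
  have hr2 : Odd r := by
    rw [hr, hve, Nat.odd_mul]
    exact ⟨htE, Nat.not_even_iff_odd.mp fun h =>
      Nat.not_dvd_ordCompl Nat.prime_two he0 h.two_dvd⟩
  have hnr : n = 2 ^ v * r := by
    rw [hr, hve, mul_comm t, ← mul_assoc, Nat.ordProj_mul_ordCompl_eq_self, mul_comm e, hte]
    omega
  have hdet : LinearMap.det (ρ g) = -1 := by
    refine det_eq_neg_one ρ g (q := 2 ^ v) (r := r) (q' := 2 ^ v') ?_ ?_ hnr hr2 ?_
    · rw [← hgord, pow_orderOf_eq_one]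
    · rw [hv', pow_succ, mul_comm]
    · intro k hk
      rw [hρχ]
      refine hvan _ (pow_mem (y : N).2 k) fun hmem => hk ?_
      obtain ⟨j, hj⟩ := hmem
      have hj' : x ^ j = g ^ k := hj
      rw [← hgord]
      refine orderOf_dvd_of_pow_eq_one ?_
      have hd1 : orderOf (g ^ k) ∣ p := by
        rw [← hj']; exact orderOf_dvd_of_pow_eq_one (by
          rw [← zpow_natCast, ← zpow_mul, mul_comm, zpow_mul, zpow_natCast, hxp, one_zpow])
      have hd2 : orderOf (g ^ k) ∣ 2 ^ v := hgord ▸ orderOf_pow_dvd k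
      exact orderOf_eq_one_iff.mp (Nat.eq_one_of_dvd_coprimes
        ((hp.coprime_iff_not_dvd.mpr fun h =>
          hp2 ((Nat.prime_dvd_prime_iff_eq hp Nat.prime_two).mp (hp.dvd_of_dvd_pow h)))) hd1 hd2)
  let dG : G →* ℂˣ := (LinearMap.det.comp ρ).toHomUnits
  have hdg : dG g = -1 := Units.ext (by simpa [dG] using hdet)
  have h2 : orderOf (dG g) ∣ orderOf (Abelianization.of g) := by
    rw [← Abelianization.lift_apply_of dG g]
    exact orderOf_map_dvd _ _
  have h3 : orderOf (-1 : ℂˣ) = 2 := by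
    rw [← orderOf_units, Units.val_neg, Units.val_one, orderOf_neg_one]
    simp [ringChar.eq ℂ 0]
  rw [hdg, h3] at h2
  rw [even_iff_two_dvd, Subgroup.index_eq_card]
  exact h2.trans (orderOf_dvd_natCard (Abelianization.of g))

end Cfsg.Agent.S4508
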