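import Cfsg.Statements.S4509
import Mathlib
import Cfsg.Agent.Lib.SelfCentral.Structure

set_option autoImplicit false
open Cfsg

namespace Cfsg.Agent.S4509

open Cfsg.Agent.Lib.SelfCentral Cfsg.Agent.Lib.PSolvable

theorem derived_facts {G : Type*} [Group G] [Finite G] {p : ℕ} {x : G} (hp : p.Prime)
    (hx : orderOf x = p) (hC : Subgroup.centralizer ({x} : Set G) = Subgroup.zpowers x)
    (ht : Nat.card {C : ConjClasses G // ∃ g ∈ C.carrier, orderOf g = p} ≠ p - 1)
    (hd2 : derivedSeries G 2 ≠ derivedSeries G 1) :
    ¬ p ∣ Nat.card (derivedSeries G 2) ∧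
      commutator G = derivedSeries G 2 ⊔ Subgroup.zpowers x := by
  have := Fact.mk hp
  have hd : p ∣ Nat.card (commutator G) := dvd_card_commutator hp hx hC ht
  have hxL : x ∈ commutator G := mem_of_dvd hp hx hC _ hd
  have h1 : derivedSeries G 1 = commutator G := derivedSeries_one G
  have hle : derivedSeries G 2 ≤ commutator G := h1 ▸ derivedSeries_antitone G one_le_two
  have : (derivedSeries G 2).Normal := derivedSeries_normal G 2
  have hnd : ¬ p ∣ Nat.card (derivedSeries G 2) := fun h =>
    hd2 (by rw [h1]; exact le_antisymm hle (commutator_le_of_dvd hp hx hC _ h))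
  refine ⟨hnd, le_antisymm (fun y hy => ?_) (sup_le hle (Subgroup.zpowers_le.mpr hxL))⟩
  have hc : y * x * y⁻¹ * x⁻¹ ∈ derivedSeries G 2 := by
    rw [← commutatorElement_def, derivedSeries_succ, h1]
    exact Subgroup.commutator_mem_commutator hy hxL
  obtain ⟨u, hu, k, rfl⟩ := exists_mul_of_commute_mod hp hx hC _ hnd hc
  exact Subgroup.mul_mem _ (Subgroup.mem_sup_left hu)
    (Subgroup.mem_sup_right ⟨k, rfl⟩)

/-- Let the finite group G contain an element x of prime order p with C_G(x) = ⟨x⟩; let t be the number of conjugacy classes of elements of order p and 1 + n·p the number of subgroups of order p. Then G has a normal subgroup of order 1 + n·p if and only if either t = p − 1, or t < p − 1 and G″ ≠ G′. Moreover, if t = p − 1 then G′ has order 1 + n·p and G/G′ is cyclic of order p; and if t < p − 1 and G″ ≠ G′ then G″ has order 1 + n·p and G′ has order p·(1 + n·p). -/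
theorem result {G : Type*} [Group G] [Finite G] (p : ℕ) (hp : p.Prime) (x : G) (hx : orderOf x = p) (hC : Subgroup.centralizer ({x} : Set G) = Subgroup.zpowers x) (t : ℕ) (ht : Nat.card {C : ConjClasses G // ∃ g ∈ C.carrier, orderOf g = p} = t) (n : ℕ) (hn : Nat.card {H : Subgroup G // Nat.card H = p} = 1 + n * p) : ((∃ S : Subgroup G, S.Normal ∧ Nat.card S = 1 + n * p) ↔ (t = p - 1 ∨ (t < p - 1 ∧ derivedSeries G 2 ≠ derivedSeries G 1))) ∧ (t = p - 1 → Nat.card (commutator G) = 1 + n * p ∧ IsCyclic (G ⧸ commutator G) ∧ (commutator G).index = p) ∧ (t < p - 1 → derivedSeries G 2 ≠ derivedSeries G 1 → Nat.card (derivedSeries G 2) = 1 + n * p ∧ Nat.card (commutator G) = p * (1 + n * p)) := by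
  subst ht
  have := Fact.mk hp
  have hppos := hp.pos
  obtain ⟨P, hP⟩ := exists_sylow hp hx hC
  set N := Subgroup.normalizer ((Subgroup.zpowers x : Subgroup G) : Set G) with hN
  have hidx : N.index = 1 + n * p := (card_subgroups_eq_index hp hx hC).symm.trans hn
  have hG : Nat.card N * (1 + n * p) = Nat.card G := hidx ▸ N.card_mul_index
  have hA : Nat.card {C : ConjClasses G // ∃ g ∈ C.carrier, orderOf g = p} = p - 1 →
      Nat.card (commutator G) = 1 + n * p ∧ IsCyclic (G ⧸ commutator G) ∧
        (commutator G).index = p := by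
    intro h
    obtain ⟨-, hi⟩ := commutator_of_classes_eq hp hx hC h
    have hN' := (classes_eq_iff hp hx hC).mp h
    refine ⟨?_, isCyclic_of_prime_card (p := p) (by rw [← Subgroup.index_eq_card, hi]), hi⟩
    have h2 := (commutator G).card_mul_index
    rw [hi, ← hG, hN, hN', card_zpowers_eq hx, mul_comm p] at h2
    exact Nat.eq_of_mul_eq_mul_right hppos h2
  have hB : Nat.card {C : ConjClasses G // ∃ g ∈ C.carrier, orderOf g = p} < p - 1 →
      derivedSeries G 2 ≠ derivedSeries G 1 → Nat.card (derivedSeries G 2) = 1 + n * p ∧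
        Nat.card (commutator G) = p * (1 + n * p) := by
    intro h h2
    obtain ⟨hnd, heq⟩ := derived_facts hp hx hC h.ne h2
    set D := derivedSeries G 2
    have : D.Normal := derivedSeries_normal G 2
    have hDC : Nat.card (commutator G) = Nat.card D * p := by
      rw [heq, ← Subgroup.relIndex_bot_left (D ⊔ Subgroup.zpowers x),
        ← Subgroup.relIndex_mul_relIndex ⊥ D _ bot_le le_sup_left, Subgroup.relIndex_bot_left,
        Subgroup.relIndex_sup_left, ← Subgroup.inf_relIndex_right,
        inf_zpowers_eq_bot hp hx hnd, Subgroup.relIndex_bot_left, card_zpowers_eq hx]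
    have hxC : Subgroup.zpowers x ≤ commutator G := heq ▸ le_sup_right
    have htop := Sylow.normalizer_sup_eq_top' P (N := commutator G) (by rw [hP]; exact hxC)
    rw [← P.coe_coe, hP] at htop
    have hsup : D ⊔ N = ⊤ := by
      rw [← top_le_iff, ← htop]
      refine sup_le le_sup_right ?_
      rw [heq]
      exact sup_le le_sup_left (zpowers_le_normalizer.trans le_sup_right)
    have hcard : Nat.card G = Nat.card D * Nat.card N := by
      rw [← Subgroup.card_top, ← hsup, ← Subgroup.relIndex_bot_left (D ⊔ N),
        ← Subgroup.relIndex_mul_relIndex ⊥ D _ bot_le le_sup_left, Subgroup.relIndex_bot_left,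
        Subgroup.relIndex_sup_left, ← Subgroup.inf_relIndex_right,
        normalizer_inf_eq_bot hp hx hC D hnd, Subgroup.relIndex_bot_left]
    rw [← hG, mul_comm] at hcard
    have hD := Nat.eq_of_mul_eq_mul_right Nat.card_pos hcard
    exact ⟨hD.symm, by rw [hDC, ← hD, mul_comm]⟩
  refine ⟨⟨?_, ?_⟩, hA, hB⟩
  · rintro ⟨S, hS, hcard⟩
    have hSd : ¬ p ∣ Nat.card S := by
      rw [hcard, Nat.dvd_add_left (Dvd.intro_left n rfl)]
      exact hp.not_dvd_one
    rcases (classes_le hp hx hC).lt_or_eq with hlt | heq
    · refine Or.inr ⟨hlt, fun heq => hSd ?_⟩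
      have hd : p ∣ Nat.card (commutator G) := dvd_card_commutator hp hx hC hlt.ne
      have hsup : S ⊔ N = ⊤ := by
        apply Subgroup.eq_top_of_card_eq
        rw [← Subgroup.relIndex_bot_left (S ⊔ N),
          ← Subgroup.relIndex_mul_relIndex ⊥ S _ bot_le le_sup_left, Subgroup.relIndex_bot_left,
          Subgroup.relIndex_sup_left, ← Subgroup.inf_relIndex_right,
          normalizer_inf_eq_bot hp hx hC S hSd, Subgroup.relIndex_bot_left, hcard, mul_comm, hG]
      -- the map to `G ⧸ S` kills the second derived subgroup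
      have hmem : ∀ g : G, ∀ m ∈ commutator G, ∃ k : ℤ,
          QuotientGroup.mk' S m = QuotientGroup.mk' S x ^ k := by
        intro _ m hm
        have hle : commutator G ≤ S ⊔ Subgroup.zpowers x := by
          have hn : (S ⊔ Subgroup.zpowers x).Normal := by
            rw [← Subgroup.normalizer_eq_top_iff, ← top_le_iff, ← hsup]
            refine sup_le ((le_sup_left : S ≤ S ⊔ Subgroup.zpowers x).trans Subgroup.le_normalizer)
              fun g hg => Subgroup.mem_normalizer_iff.mpr fun h => ?_
            have key : ∀ c ∈ N, ∀ y ∈ S ⊔ Subgroup.zpowers x,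
                c * y * c⁻¹ ∈ S ⊔ Subgroup.zpowers x := by
              intro c hc y hy
              obtain ⟨s, hs, z, hz, rfl⟩ := Subgroup.mem_sup_of_normal_left.mp hy
              rw [show c * (s * z) * c⁻¹ = c * s * c⁻¹ * (c * z * c⁻¹) by group]
              exact Subgroup.mul_mem _ (Subgroup.mem_sup_left (hS.conj_mem s hs c))
                (Subgroup.mem_sup_right ((Subgroup.mem_normalizer_iff.mp hc z).mp hz))
            refine ⟨key g hg h, fun hh => ?_⟩
            have := key g⁻¹ (inv_mem hg) _ hh
            simpa [mul_assoc] using this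
          refine commutator_le_of_dvd hp hx hC _ ?_
          rw [← card_zpowers_eq hx]
          exact Subgroup.card_dvd_of_le le_sup_right
        obtain ⟨s, hs, z, ⟨k, rfl⟩, rfl⟩ := Subgroup.mem_sup_of_normal_left.mp (hle hm)
        exact ⟨k, by
          rw [map_mul, show QuotientGroup.mk' S s = 1 from (QuotientGroup.eq_one_iff s).mpr hs,
            one_mul]
          exact map_zpow (QuotientGroup.mk' S) x k⟩
      have hle2 : derivedSeries G 2 ≤ S := by
        rw [derivedSeries_succ, derivedSeries_one, Subgroup.commutator_le]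
        intro a ha b hb
        obtain ⟨i, hi⟩ := hmem 1 a ha
        obtain ⟨j, hj⟩ := hmem 1 b hb
        rw [← QuotientGroup.eq_one_iff, ← QuotientGroup.mk'_apply, map_commutatorElement, hi, hj,
          commutatorElement_eq_one_iff_commute]
        exact (Commute.refl _).zpow_zpow i j
      rw [heq, derivedSeries_one] at hle2
      exact hd.trans (Subgroup.card_dvd_of_le hle2)
    · exact Or.inl heq
  · rintro (h | ⟨h, h2⟩)
    · exact ⟨commutator G, by rw [← derivedSeries_one]; exact derivedSeries_normal G 1, (hA h).1⟩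
    · exact ⟨derivedSeries G 2, derivedSeries_normal G 2, (hB h h2).1⟩

end Cfsg.Agent.S4509
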