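import Cfsg.Statements.S4510
import Mathlib
import Cfsg.Agent.Lib.BlockCongr.DefectSum

set_option autoImplicit false
open Cfsg

namespace Cfsg.Agent.S4510

/-- Let G be a finite group, p a prime, M a maximal ideal of the algebraic integers containing p, and call the defect of a conjugacy class the exponent of p in the order of the centralizer of its elements. Two irreducible characters lying in p-blocks of defect exactly d lie in the same block if and only if their central characters (class size times χ(x)/χ(1)) agree modulo the local ideal at M at every p-regular element x whose class has defect exactly d. -/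
theorem result {G : Type*} [Group G] [Finite G] (p : ℕ) [Fact p.Prime] (M : Ideal Cfsg.AlgInt) (hM : Cfsg.IsPModular p M) (d : ℕ) (χ ψ : Cfsg.IrrCharacter G) (hχ : Cfsg.blockDefect p (Cfsg.blockOf M (χ : G → ℂ)) = d) (hψ : Cfsg.blockDefect p (Cfsg.blockOf M (ψ : G → ℂ)) = d) : Cfsg.SameBlock M (χ : G → ℂ) (ψ : G → ℂ) ↔ ∀ x : G, ¬ p ∣ orderOf x → (Nat.card (Subgroup.centralizer ({x} : Set G))).factorization p = d → Cfsg.MemLocalIdeal M (Cfsg.centralChar (χ : G → ℂ) x - Cfsg.centralChar (ψ : G → ℂ) x) := by
  classical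
  cases nonempty_fintype G
  haveI := Fintype.ofFinite (ConjClasses G)
  have : M.IsPrime := Cfsg.Agent.Lib.Blocks.isPModular_isPrime hM
  refine ⟨fun h x _ _ => h x, fun h => ?_⟩
  have hB := Cfsg.Agent.Lib.Blocks.isPBlock_blockOf (M := M) χ
  have e1 := Cfsg.Agent.Lib.BlockCongr.indicator_eq_sum_defectClasses hM hB hχ χ hχ
  have e2 := Cfsg.Agent.Lib.BlockCongr.indicator_eq_sum_defectClasses hM hB hχ ψ hψ
  rw [if_pos (Cfsg.Agent.Lib.Blocks.mem_blockOf_self χ)] at e1
  by_contra hne
  have hne' : ψ ∉ Cfsg.blockOf M (χ : G → ℂ) := hne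
  rw [if_neg hne'] at e2
  refine one_ne_zero (e1.trans (Eq.trans (Finset.sum_congr rfl fun c hc => ?_) e2.symm))
  simp only [Cfsg.Agent.Lib.BlockCongr.defectClasses, Finset.mem_filter, Finset.mem_univ,
    true_and] at hc
  rw [(Cfsg.Agent.Lib.Blocks.omegaBar_eq_iff_of_classSum χ ψ _).2 (h _ hc.1 hc.2)]

end Cfsg.Agent.S4510
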