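import Cfsg.Statements.S4512
import Mathlib
import Cfsg.Agent.S4511
import Cfsg.Agent.Lib.Blocks.SecondMain
import Cfsg.Agent.Lib.Blocks.KleinPrincipal
import Cfsg.Agent.Lib.BrauerFeit.Rank

set_option autoImplicit false
open Cfsg

namespace Cfsg.Agent.S4512

open Cfsg.Agent.Lib Cfsg.Agent.Lib.Blocks Cfsg.Agent.Lib.Blocks.PrincipalSection
open scoped ComplexConjugate

theorem complement_centralizer {G : Type*} [Group G] [Finite G] (P : Sylow 2 G)
    (hP : IsKleinFour (P : Subgroup G)) {z : G} (hzP : z ∈ (P : Subgroup G)) (hz : z ≠ 1) :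
    (∃ k : ℕ, (pPrimeCore 2 (Subgroup.centralizer ({z} : Set G))).index = 2 ^ k) ∧
      (Nat.card (Subgroup.centralizer ({z} : Set G))).factorization 2 = 2 := by
  classical
  let H := Subgroup.centralizer ({z} : Set G)
  obtain ⟨e⟩ := IsKleinFour.nonempty_mulEquiv (G₁ := (P : Subgroup G))
    (G₂ := Multiplicative (ZMod 2 × ZMod 2))
  have hcent : Subgroup.centralizer ({z} : Set G) ⊓ Subgroup.normalizer (P : Set G) ≤
      Subgroup.centralizer (P : Set G) := by
    have h945 := Cfsg.Agent.S0945.result P 1 le_rfl e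
    by_cases h1 : (Subgroup.centralizer (P : Set G)).relIndex (Subgroup.normalizer (P : Set G)) = 1
    · exact inf_le_right.trans (Subgroup.relIndex_eq_one.1 h1)
    · exact (h945.2 h1 z hzP hz).le
  have hPH : (P : Subgroup G) ≤ H := by
    intro u hu
    rw [Subgroup.mem_centralizer_singleton_iff]
    exact congrArg Subtype.val (IsKleinFour.isMulCommutative.is_comm.comm
      (⟨u, hu⟩ : (P : Subgroup G)) ⟨z, hzP⟩)
  let PH : Sylow 2 H := P.subtype hPH
  have hPHcard : Nat.card PH = 4 := by
    rw [← hP.card_four]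
    exact Nat.card_congr (Subgroup.subgroupOfEquivOfLe hPH).toEquiv
  have hNC : Subgroup.normalizer ((PH : Subgroup H) : Set H) ≤
      Subgroup.centralizer ((PH : Subgroup H) : Set H) := by
    intro a ha
    have haN : (a : G) ∈ Subgroup.normalizer (P : Set G) := by
      show (a : G) ∈ Subgroup.normalizer ((P : Subgroup G) : Set G)
      rw [Subgroup.mem_normalizer_iff] at ha ⊢
      intro q
      constructor
      · intro hq
        exact (ha ⟨q, hPH hq⟩).1 hq
      · intro hq
        have hq' : q ∈ H := by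
          have := mul_mem (mul_mem (inv_mem a.2) (hPH hq)) a.2
          simpa [mul_assoc] using this
        exact (ha ⟨q, hq'⟩).2 hq
    have hc := hcent ⟨a.2, haN⟩
    rw [Subgroup.mem_centralizer_iff] at hc ⊢
    exact fun q hq => Subtype.ext (hc q hq)
  refine ⟨?_, ?_⟩
  · have hker := MonoidHom.ker_transferSylow_isComplement' PH hNC
    have := MonoidHom.normal_ker (MonoidHom.transferSylow PH hNC)
    have hle : (MonoidHom.transferSylow PH hNC).ker ≤ pPrimeCore 2 H :=
      PSolvable.le_pPrimeCore (Nat.prime_two.coprime_iff_not_dvd.2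
        (MonoidHom.not_dvd_card_ker_transferSylow PH hNC)).symm
    have hd : (pPrimeCore 2 H).index ∣ 2 ^ 2 := by
      refine (Subgroup.index_dvd_of_le hle).trans ?_
      rw [hker.symm.index_eq_card]
      exact dvd_of_eq hPHcard
    obtain ⟨i, -, hi⟩ := (Nat.dvd_prime_pow Nat.prime_two).1 hd
    exact ⟨i, hi⟩
  · have h' : 2 ^ (Nat.card H).factorization 2 = 2 ^ 2 :=
      PH.card_eq_multiplicity.symm.trans hPHcard
    exact Nat.pow_right_injective le_rfl h'

/-- If G is a finite group with a Sylow 2-subgroup that is a Klein four-group and a single conjugacy class of involutions, then its principal 2-block (relative to a maximal ideal M of the algebraic integers containing 2) has 2-regular rank 3: the restrictions of its irreducible characters to the elements of odd order span a space of dimension 3 (it has three irreducible Brauer characters). -/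
theorem result {G : Type*} [Group G] [Finite G] (M : Ideal Cfsg.AlgInt) (hM : Cfsg.IsPModular 2 M) (P : Sylow 2 G)
    (hP : Nat.card P = 4) (hexp : ∀ x : P, x * x = 1)
    (hone : ∀ s t : G, orderOf s = 2 → orderOf t = 2 → IsConj s t) :
    Cfsg.blockRank 2 (Cfsg.principalBlock M G) = 3 := by
  classical
  cases nonempty_fintype G
  haveI : Fact (Nat.Prime 2) := ⟨Nat.prime_two⟩
  haveI : M.IsPrime := hM.2.1.isPrime
  have hK : IsKleinFour (P : Subgroup G) := by
    have hne : (1 : ℕ) < Nat.card (P : Subgroup G) := by omega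
    have : Nontrivial (P : Subgroup G) := Finite.one_lt_card_iff_nontrivial.1 hne
    have hdvd : Monoid.exponent (P : Subgroup G) ∣ 2 :=
      Monoid.exponent_dvd_of_forall_pow_eq_one fun x => by rw [pow_two]; exact hexp x
    refine ⟨hP, ((Nat.dvd_prime Nat.prime_two).1 hdvd).resolve_left fun h => ?_⟩
    have := Monoid.exp_eq_one_iff.1 h
    exact not_nontrivial (P : Subgroup G) inferInstance
  obtain ⟨w, hw⟩ : ∃ w : (P : Subgroup G), w ≠ 1 := by
    have hne : (1 : ℕ) < Nat.card (P : Subgroup G) := by omega
    have : Nontrivial (P : Subgroup G) := Finite.one_lt_card_iff_nontrivial.1 hne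
    exact exists_ne 1
  obtain ⟨z, hzP⟩ := w
  have hz1 : z ≠ 1 := fun h => hw (Subtype.ext h)
  have hz : orderOf z = 2 :=
    orderOf_eq_prime (by rw [pow_two]; exact congrArg Subtype.val (hexp ⟨z, hzP⟩)) hz1
  have hzp : ∃ k : ℕ, orderOf z = 2 ^ k := ⟨1, by simpa using hz⟩
  have h2 : ∀ x : G, orderOf x = 2 → SecondMain 2 M x := fun x hx B hB χ hχ b hb hnot y hy =>
    secondMain_blockPart hM ⟨1, by simpa using hx⟩ hB hχ rfl hb hnot hy
  set B := principalBlock M G with hB
  have hcardB : Nat.card B = 4 := by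
    obtain ⟨a, b, c, ε, -, ha, hb, hab, hac, hbc, hset, hval, -⟩ :=
      klein_principal hM P hK hone h2
    let one : IrrCharacter G := ⟨fun _ => 1, Chars.isIrrCharacter_one⟩
    have hset' : B = ↑({one, a, b, c} : Finset (IrrCharacter G)) := by
      rw [hB, hset]
      ext χ
      simp [one, Subtype.ext_iff]
    have hc1 : c ≠ one := by
      intro h
      have h' := (hval z hz).2.2
      rw [h] at h'
      norm_num [one] at h'
    have ha1 : a ≠ one := fun h => ha (congrArg Subtype.val h)
    have hb1 : b ≠ one := fun h => hb (congrArg Subtype.val h)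
    rw [hset', Nat.card_coe_set_eq, Set.ncard_coe_finset]
    simp [ha1.symm, hb1.symm, hc1.symm, hab, hac, hbc]
  obtain ⟨hcompl, hfac⟩ := complement_centralizer P hK hzP hz1
  -- the 2-singular part of the sum of squares
  let F : G → ℂ := fun g => if 2 ∣ orderOf g then ∑ ζ : IrrCharacter G,
    (if ζ ∈ B then (ζ : G → ℂ) g * conj ((ζ : G → ℂ) g) else 0) else 0
  have hF : ∀ c g : G, F (c * g * c⁻¹) = F g := fun c g => by
    have : orderOf (c * g * c⁻¹) = orderOf g :=
      orderOf_injective (MulAut.conj c).toMonoidHom (MulAut.conj c).injective g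
    simp only [F, Chars.irr_isClassFunction _ g c, this]
  have hpel : ∀ g : G, (∃ k : ℕ, orderOf g = 2 ^ k) → g = 1 ∨ orderOf g = 2 := by
    rintro g ⟨k, hk⟩
    by_cases hg : g = 1
    · exact Or.inl hg
    obtain ⟨Q, hQ⟩ := (IsPGroup.of_card (p := 2) (n := k) (G := Subgroup.zpowers g)
      (by rw [Nat.card_zpowers, hk])).exists_le_sylow
    have : (⟨g, hQ (Subgroup.mem_zpowers g)⟩ : Q) ^ 2 = 1 :=
      (Q.equiv P).injective (by rw [map_pow, map_one, pow_two, hexp])
    exact Or.inr (orderOf_eq_prime (congrArg Subtype.val this) hg)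
  have hsum := Cfsg.Agent.S4511.sum_eq_sum_sections (p := 2) F hF {1, z}
    (fun x hx => by
      rcases Finset.mem_insert.1 hx with rfl | hx
      · exact ⟨0, by simp⟩
      · rw [Finset.mem_singleton.1 hx]; exact hzp)
    (fun g hg => by
      rcases hpel g hg with rfl | hg2
      · refine ⟨1, ⟨by simp, IsConj.refl _⟩, ?_⟩
        rintro y ⟨-, hy⟩
        exact (isConj_one_right.1 hy)
      · refine ⟨z, ⟨by simp, hone g z hg2 hz⟩, ?_⟩
        rintro y ⟨hy, hyc⟩
        rcases Finset.mem_insert.1 hy with rfl | hy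
        · rw [isConj_one_left.1 hyc, orderOf_one] at hg2
          omega
        · exact Finset.mem_singleton.1 hy)
  let H := Subgroup.centralizer ({z} : Set G)
  have := PSolvable.pPrimeCore_characteristic (p := 2) (G := H)
  have hKn : (pPrimeCore 2 H).Normal := inferInstance
  let C1 := Subgroup.centralizer ({1} : Set G)
  have h1sec : ∑ y : C1, (if 2 ∣ orderOf y then 0 else F (1 * (y : G))) = 0 :=
    Finset.sum_eq_zero fun y _ => by
      by_cases hy : 2 ∣ orderOf y
      · rw [if_pos hy]
      · rw [if_neg hy]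
        simp [F, Subgroup.orderOf_coe, hy]
  have hzsec : ∀ y : H, ¬ 2 ∣ orderOf y → F (z * (y : G)) = 4 := by
    intro y hy
    have hsing : 2 ∣ orderOf (z * (y : G)) := by
      have hc : Commute z (y : G) := (Subgroup.mem_centralizer_singleton_iff.1 y.2).symm
      rw [hc.orderOf_mul_eq_mul_orderOf_of_coprime (by
        rw [hz, Subgroup.orderOf_coe]; exact Nat.prime_two.coprime_iff_not_dvd.2 hy), hz]
      exact dvd_mul_right 2 _
    have h := (sum_norm_sq_eq hM hzp (h2 z hz) y hy).trans
      (sum_norm_sq_of_complement hM hcompl hy)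
    rw [hfac, finsum_mem_eq_toFinset_sum] at h
    simp only [F, if_pos hsing, Complex.mul_conj, Complex.normSq_eq_norm_sq]
    rw [← Finset.sum_filter, show (Finset.univ.filter (· ∈ B)) = B.toFinset by ext; simp,
      ← Complex.ofReal_sum, h]
    norm_num
  have hregcard : (4 : ℂ) * (Finset.univ.filter fun y : H => ¬ 2 ∣ orderOf y).card =
      Nat.card H := by
    have : (Finset.univ.filter fun y : H => ¬ 2 ∣ orderOf y) =
        (Finset.univ.filter (· ∈ pPrimeCore 2 H)) := by
      ext y
      simp only [Finset.mem_filter, Finset.mem_univ, true_and]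
      exact ⟨Covering.mem_of_pRegular_of_index _ hcompl, fun hy h =>
        PSolvable.pPrimeCore_not_dvd (h.trans (Subgroup.orderOf_dvd_natCard _ hy))⟩
    rw [this, ← Fintype.card_subtype, ← Nat.card_eq_fintype_card]
    obtain ⟨k, hk⟩ := hcompl
    have hc := (pPrimeCore 2 H).card_mul_index
    have hne : ¬ 2 ∣ Nat.card (pPrimeCore 2 H) := PSolvable.pPrimeCore_not_dvd
    have hk2 : k = 2 := by
      rw [← hfac]
      show k = (Nat.card H).factorization 2
      rw [← hc, hk, Nat.factorization_mul Nat.card_pos.ne' (by positivity), Finsupp.add_apply,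
        Nat.factorization_eq_zero_of_not_dvd hne, Nat.prime_two.factorization_pow,
        Finsupp.single_eq_same, zero_add]
    rw [← hc, hk, hk2]
    push_cast
    ring
  have hzsum : ∑ y : H, (if 2 ∣ orderOf y then 0 else F (z * (y : G))) = Nat.card H := by
    rw [← hregcard, Finset.sum_ite, Finset.sum_const_zero, zero_add,
      Finset.sum_congr rfl fun y hy => hzsec y (Finset.mem_filter.1 hy).2, Finset.sum_const,
      nsmul_eq_mul]
    ring
  rw [Finset.sum_pair (Ne.symm hz1), h1sec, mul_zero, zero_add, hzsum, mul_assoc,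
    inv_mul_cancel₀ (Nat.cast_ne_zero.2 Nat.card_pos.ne'), mul_one] at hsum
  -- the rank is 4 minus this
  have hrank : (blockRank 2 B : ℂ) * Nat.card G + ∑ g : G, F g = 4 * Nat.card G := by
    have h4 : (4 : ℂ) = ∑ ζ ∈ B.toFinset, (1 : ℂ) := by
      rw [← Finset.cast_card, Set.toFinset_card, ← Nat.card_eq_fintype_card, hcardB]
      norm_num
    rw [BrauerFeit.blockRank_eq_sum_regCoef hM (isPBlock_principalBlock M G), h4,
      Finset.sum_mul, Finset.sum_mul]
    have hFs : ∑ g : G, F g = ∑ ζ ∈ B.toFinset, ∑ g : G,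
        (if 2 ∣ orderOf g then (ζ : G → ℂ) g * conj ((ζ : G → ℂ) g) else 0) := by
      rw [Finset.sum_comm]
      refine Finset.sum_congr rfl fun g _ => ?_
      simp only [F]
      rw [← Finset.sum_filter, show (Finset.univ.filter (· ∈ B)) = B.toFinset by ext; simp]
      split_ifs <;> simp
    rw [hFs, ← Finset.sum_add_distrib]
    refine Finset.sum_congr rfl fun ζ _ => ?_
    have hself := Chars.classInner_irr_self ζ
    rw [classInner] at hself
    rw [BrauerFeit.regCoef, classInner, mul_right_comm, inv_mul_cancel₀ Chars.natCard_ne_zero,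
      one_mul, one_mul, ← Finset.sum_add_distrib]
    rw [← (eq_inv_mul_iff_mul_eq₀ Chars.natCard_ne_zero).1 hself.symm |>.symm.trans (mul_one _)]
    refine Finset.sum_congr rfl fun g _ => ?_
    rw [BrauerFeit.pRegularPart_apply]
    split_ifs <;> simp
  rw [hsum] at hrank
  have : ((blockRank 2 B : ℕ) : ℂ) * Nat.card G = (3 : ℕ) * Nat.card G := by
    push_cast; linear_combination hrank
  exact_mod_cast mul_right_cancel₀ Chars.natCard_ne_zero this

end Cfsg.Agent.S4512
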