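import Cfsg.Statements.S4513
import Mathlib
import Cfsg.Agent.S4511
import Cfsg.Agent.Lib.Blocks.DefectTwo

set_option autoImplicit false
open Cfsg

namespace Cfsg.Agent.S4513

open Cfsg.Agent.Lib Cfsg.Agent.Lib.Blocks
open scoped ComplexConjugate

/-- Two integers squares summing to two. -/
theorem abs_one_of_sq_add {a b : ℤ} (h : a * a + b * b = 2) : a = 1 ∨ a = -1 := by
  have ha : a * a ≤ 2 := by nlinarith [mul_self_nonneg b]
  have hb : b * b ≤ 2 := by nlinarith [mul_self_nonneg a]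
  have h1 : -1 ≤ a ∧ a ≤ 1 := ⟨by nlinarith, by nlinarith⟩
  have h2 : -1 ≤ b ∧ b ≤ 1 := ⟨by nlinarith, by nlinarith⟩
  rcases h1 with ⟨h1, h1'⟩
  rcases h2 with ⟨h2, h2'⟩
  interval_cases a <;> interval_cases b <;> simp_all

/-- Blocks of defect one for p = 2. Let M be a maximal ideal of the algebraic integers containing 2, B a 2-block of the finite group G whose defect group is the subgroup generated by an involution x, C = C_G(x), b a block of C inducing B and θ a member of b taking the same value at x as at 1 (there is exactly one). Then B consists of exactly two irreducible characters, which agree on every element of odd order, and they can be labelled χ₁, χ₂ with signs ε₁, ε₂ = ±1, ε₁ε₂ = −1, such that χᵢ(x y) = εᵢ θ(y) for every element y of C of odd order. -/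
theorem result {G : Type*} [Group G] [Finite G] (M : Ideal Cfsg.AlgInt) (hM : Cfsg.IsPModular 2 M) (x : G) (hx : orderOf x = 2)
    (B : Set (Cfsg.IrrCharacter G)) (hB : Cfsg.IsPBlock M B) (hBD : Cfsg.IsDefectGroup 2 M B (Subgroup.zpowers x))
    (b : Set (Cfsg.IrrCharacter ↥(Subgroup.centralizer ({x} : Set G)))) (hb : Cfsg.IsInducedBlock M (Subgroup.centralizer ({x} : Set G)) b B)
    (θ : Cfsg.IrrCharacter ↥(Subgroup.centralizer ({x} : Set G))) (hθ : θ ∈ b)
    (hθx : ∀ z : ↥(Subgroup.centralizer ({x} : Set G)), (z : G) = x → (θ : ↥(Subgroup.centralizer ({x} : Set G)) → ℂ) z = (θ : ↥(Subgroup.centralizer ({x} : Set G)) → ℂ) 1) :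
    Nat.card B = 2 ∧ (∀ χ ∈ B, ∀ ψ ∈ B, ∀ g : G, ¬ 2 ∣ orderOf g → (χ : G → ℂ) g = (ψ : G → ℂ) g) ∧
      ∃ χ₁ ∈ B, ∃ χ₂ ∈ B, χ₁ ≠ χ₂ ∧ ∃ ε₁ ε₂ : ℤ, (ε₁ = 1 ∨ ε₁ = -1) ∧ (ε₂ = 1 ∨ ε₂ = -1) ∧ ε₁ * ε₂ = -1 ∧
        ∀ y : ↥(Subgroup.centralizer ({x} : Set G)), ¬ 2 ∣ orderOf y →
          (χ₁ : G → ℂ) (x * y) = (ε₁ : ℂ) * (θ : ↥(Subgroup.centralizer ({x} : Set G)) → ℂ) y ∧ (χ₂ : G → ℂ) (x * y) = (ε₂ : ℂ) * (θ : ↥(Subgroup.centralizer ({x} : Set G)) → ℂ) y := by
  classical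
  cases nonempty_fintype G
  haveI : Fact (Nat.Prime 2) := ⟨Nat.prime_two⟩
  haveI := isPModular_isPrime hM
  let C := Subgroup.centralizer ({x} : Set G)
  let : Fintype C := Fintype.ofFinite _
  let X : C := ⟨x, Subgroup.mem_centralizer_singleton_iff.2 rfl⟩
  have hXc : X ∈ Subgroup.center C := Subgroup.mem_center_iff.2 fun c => Subtype.ext
    (Subgroup.mem_centralizer_singleton_iff.1 c.2)
  have hX2 : orderOf X = 2 := by rw [← Subgroup.orderOf_coe]; exact hx
  have hxx : x * x = 1 := by rw [← pow_two, ← hx, pow_orderOf_eq_one]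
  have hxk : ∃ k : ℕ, orderOf x = 2 ^ k := ⟨1, by rw [hx, pow_one]⟩
  have hdB : blockDefect 2 B = 1 := by
    have h := card_defectGroup hM hB hBD
    rw [Nat.card_zpowers, hx] at h
    exact (Nat.pow_right_injective le_rfl (show 2 ^ 1 = 2 ^ blockDefect 2 B by simpa using h)).symm
  have hCN : C = Subgroup.normalizer ((Subgroup.zpowers x : Subgroup G) : Set G) :=
    DefectTwo.centralizer_eq_normalizer hx
  have hPC : Subgroup.zpowers x ≤ C := Subgroup.zpowers_le.2 X.2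
  -- the block b
  obtain ⟨E, hE⟩ := exists_isDefectGroup (p := 2) hb.1
  have hEmap : E.map C.subtype = Subgroup.zpowers x :=
    map_defectGroup_eq hM (isPGroup_of_isDefectGroup hBD) hPC hCN.le hb hBD hE
  have hdb : blockDefect 2 b = 1 := by
    have h := card_defectGroup hM hb.1 hE
    rw [← Subgroup.card_map_of_injective (K := E) C.subtype_injective, hEmap, Nat.card_zpowers,
      hx] at h
    exact (Nat.pow_right_injective le_rfl (show 2 ^ 1 = 2 ^ blockDefect 2 b by simpa using h)).symm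
  obtain ⟨ψ, hψ, hψne, hbeq, hψ1, hψX, hψreg⟩ := DefectTwo.exists_partner hM hb.1
    (DefectTwo.card_le_two hM hb.1 hdb.le) hXc hX2 hθ (hθx X rfl)
  have huniq : ∀ c, IsInducedBlock M C c B → c = b := fun c hc =>
    DefectTwo.inducing_unique hM hCN hBD hc hb
  -- values on the section
  have hmul : ∀ (χ : IrrCharacter G) (ξ : IrrCharacter C),
      classInner (fun c : C => (χ : G → ℂ) (x * (c : G))) (ξ : C → ℂ) =
        conj ((ξ : C → ℂ) X / (ξ : C → ℂ) 1) *
          classInner (fun c : C => (χ : G → ℂ) (c : G)) (ξ : C → ℂ) := by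
    intro χ ξ
    simp only [classInner, Finset.mul_sum]
    refine Fintype.sum_equiv (Equiv.mulLeft X) _ _ fun c => ?_
    simp only [Equiv.coe_mulLeft, Subgroup.coe_mul]
    rw [DefectTwo.irr_central_mul ξ hXc c, map_mul]
    have hXX : (ξ : C → ℂ) X / (ξ : C → ℂ) 1 * ((ξ : C → ℂ) X / (ξ : C → ℂ) 1) = 1 := by
      have h := DefectTwo.irr_central_mul ξ hXc X
      have e : X * X = 1 := Subtype.ext hxx
      rw [e] at h
      have := Chars.irr_apply_one_ne_zero ξ
      field_simp at h ⊢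
      linear_combination -h
    have hXX' := congrArg conj hXX
    rw [map_mul, map_one] at hXX'
    show _ = _ * (_ * ((χ : G → ℂ) (x * (c : G)) * _))
    linear_combination (-((Nat.card C : ℂ)⁻¹ * ((χ : G → ℂ) (x * (c : G))) * conj ((ξ : C → ℂ) c))) * hXX'
  have hint : ∀ χ ∈ B, ∃ k : ℤ, ∀ y : C, ¬ 2 ∣ orderOf y →
      (χ : G → ℂ) (x * (y : G)) = (k : ℂ) * (θ : C → ℂ) y := by
    intro χ hχ
    have hres : IsCharacter C (fun c : C => (χ : G → ℂ) (c : G)) :=
      Chars.isCharacter_restrict C (Chars.irr_isCharacter χ)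
    obtain ⟨n, hn⟩ := Chars.isCharacter_classInner_nat hres (Chars.irr_isCharacter θ)
    obtain ⟨m, hm⟩ := Chars.isCharacter_classInner_nat hres (Chars.irr_isCharacter ψ)
    refine ⟨(n : ℤ) - m, fun y hy => ?_⟩
    rw [DefectTwo.section_eq_blockPart hM hxk hB hb huniq hχ hy]
    unfold blockPart
    rw [hbeq, finsum_mem_pair hψne.symm]
    have e1 := hmul χ θ
    have e2 := hmul χ ψ
    rw [hθx X rfl, div_self (Chars.irr_apply_one_ne_zero θ), map_one, one_mul, hn] at e1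
    rw [hψX, neg_div, div_self (Chars.irr_apply_one_ne_zero ψ), map_neg, map_one, hm] at e2
    rw [hψreg y hy]
    push_cast
    convert (show (n : ℂ) * (θ : C → ℂ) y + (-1 * (m : ℂ)) * (θ : C → ℂ) y
      = ((n : ℂ) - (m : ℂ)) * (θ : C → ℂ) y by ring) using 3
  choose! c hc using hint
  have hy1 : ¬ 2 ∣ orderOf (1 : C) := by simp
  have hval : ∀ χ ∈ B, (χ : G → ℂ) x = (c χ : ℂ) * (θ : C → ℂ) 1 := fun χ hχ => by
    rw [← hc χ hχ 1 hy1, OneMemClass.coe_one, mul_one]
  obtain ⟨d, hd0, hd⟩ := Chars.isIrrCharacter_exists_degree_pos θ.2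
  have hd' : (θ : C → ℂ) 1 = (d : ℂ) := hd
  have hsq : ∑ χ ∈ B.toFinset, c χ * c χ = 2 := by
    have h := Cfsg.Agent.S4511.sum_sq_section hM hxk hB rfl {b}
      (fun c' => ⟨fun h => (Finset.mem_singleton.1 h) ▸ hb,
        fun h => Finset.mem_singleton.2 (huniq c' h)⟩) 1 hy1
    rw [Finset.sum_singleton, ← Finset.sum_filter, ← Finset.sum_filter] at h
    have e1 : Finset.univ.filter (fun ξ : IrrCharacter C => ξ ∈ b) = {θ, ψ} := by
      ext ξ
      simp [hbeq]
    have e2 : Finset.univ.filter (fun χ : IrrCharacter G => χ ∈ B) = B.toFinset := by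
      ext; simp
    rw [e1, e2, Finset.sum_pair hψne.symm, hψ1, hd', map_natCast] at h
    have h2 : ∀ χ ∈ B.toFinset, (χ : G → ℂ) (x * ((1 : C) : G)) *
        conj ((χ : G → ℂ) (x * ((1 : C) : G))) = ((c χ * c χ : ℤ) : ℂ) * ((d : ℂ) * d) := fun χ hχ => by
      rw [OneMemClass.coe_one, mul_one, hval χ (Set.mem_toFinset.1 hχ), hd', map_mul, map_intCast,
        map_natCast]
      push_cast
      ring
    rw [Finset.sum_congr rfl h2, ← Finset.sum_mul] at h
    have hdd : ((d : ℂ) * d) ≠ 0 := by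
      have : d ≠ 0 := by omega
      positivity
    have h3 : ((∑ χ ∈ B.toFinset, c χ * c χ : ℤ) : ℂ) = 2 := by
      push_cast at h ⊢
      refine mul_right_cancel₀ hdd ?_
      linear_combination h
    exact_mod_cast h3
  have hBcard : B.toFinset.card ≤ 2 := by
    rw [Set.toFinset_card, ← Nat.card_eq_fintype_card]
    exact DefectTwo.card_le_two hM hB hdB.le
  have hcard2 : B.toFinset.card = 2 := by
    interval_cases hk : B.toFinset.card
    · rw [Finset.card_eq_zero.1 hk, Finset.sum_empty] at hsq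
      omega
    · obtain ⟨a, ha⟩ := Finset.card_eq_one.1 hk
      rw [ha, Finset.sum_singleton] at hsq
      have : -1 ≤ c a ∧ c a ≤ 1 := ⟨by nlinarith, by nlinarith⟩
      obtain ⟨l, l'⟩ := this
      interval_cases h : c a <;> omega
    · rfl
  obtain ⟨χ₁, χ₂, hne, heq⟩ := Finset.card_eq_two.1 hcard2
  rw [heq, Finset.sum_pair hne] at hsq
  have hε₁ := abs_one_of_sq_add hsq
  have hε₂ := abs_one_of_sq_add ((add_comm _ _).trans hsq)
  have h1B : χ₁ ∈ B := Set.mem_toFinset.1 (by rw [heq]; simp)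
  have h2B : χ₂ ∈ B := Set.mem_toFinset.1 (by rw [heq]; simp)
  have hBeq : B = {χ₁, χ₂} := by
    rw [← Set.coe_toFinset B, heq, Finset.coe_pair]
  have hxd : 2 ∣ orderOf x := by rw [hx]
  have horth : ∀ g : G, ¬ 2 ∣ orderOf g →
      (χ₁ : G → ℂ) g * (c χ₁ : ℂ) + (χ₂ : G → ℂ) g * (c χ₂ : ℂ) = 0 := by
    intro g hg
    have h0 := weak_block_orth hM hB hg hxd
    rw [hBeq, finsum_mem_pair hne, hval χ₁ h1B, hval χ₂ h2B, hd'] at h0
    simp only [map_mul, map_intCast, map_natCast] at h0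
    refine mul_right_cancel₀ (show (d : ℂ) ≠ 0 by exact_mod_cast (by omega : d ≠ 0)) ?_
    linear_combination h0
  have hneg : c χ₂ = -c χ₁ := by
    obtain ⟨d₁, hd₁, e1⟩ := Chars.isIrrCharacter_exists_degree_pos χ₁.2
    obtain ⟨d₂, hd₂, e2⟩ := Chars.isIrrCharacter_exists_degree_pos χ₂.2
    have h0 := horth 1 (by simp)
    rw [show (χ₁ : G → ℂ) 1 = (d₁ : ℂ) from e1, show (χ₂ : G → ℂ) 1 = (d₂ : ℂ) from e2] at h0
    have h1 : (d₁ : ℤ) * c χ₁ + (d₂ : ℤ) * c χ₂ = 0 := by exact_mod_cast h0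
    rcases hε₁ with h | h <;> rcases hε₂ with h' | h' <;> rw [h, h'] at h1 ⊢ <;> omega
  have hagree : ∀ g : G, ¬ 2 ∣ orderOf g → (χ₁ : G → ℂ) g = (χ₂ : G → ℂ) g := by
    intro g hg
    have h0 := horth g hg
    rw [hneg] at h0
    push_cast at h0
    have hc0 : (c χ₁ : ℂ) ≠ 0 := by rcases hε₁ with h | h <;> simp [h]
    refine mul_right_cancel₀ hc0 ?_
    linear_combination h0
  refine ⟨?_, ?_, χ₁, h1B, χ₂, h2B, hne, c χ₁, c χ₂, hε₁, hε₂, ?_,
    fun y hy => ⟨hc χ₁ h1B y hy, hc χ₂ h2B y hy⟩⟩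
  · rw [Nat.card_eq_fintype_card, ← Set.toFinset_card, hcard2]
  · intro χ hχ φ hφ g hg
    rw [hBeq] at hχ hφ
    rcases hχ with rfl | rfl <;> rcases hφ with rfl | rfl
    · rfl
    · exact hagree g hg
    · exact (hagree g hg).symm
    · rfl
  · rw [hneg]
    rcases hε₁ with h | h <;> simp [h]

end Cfsg.Agent.S4513
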