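import Cfsg.Statements.S4514
import Cfsg.Agent.Lib.B0Diff.Main
import Cfsg.Agent.Lib.B0Diff.PSL

set_option autoImplicit false
open Cfsg

namespace Cfsg.Agent.S4514

/-- Let G be a finite group, u an element of G, and fix a maximal ideal M of the algebraic integers containing 2 (defining the 2-blocks). There is a complex number k with χ(1) − χ(u) = k for every non-principal irreducible character χ in the principal 2-block if and only if one of the following holds: u lies in O(G); or G/O(G) has order 2 and u ∉ O(G); or G/O(G) ≅ PSL(2, 2ⁿ) for some n ≥ 2, u ∉ O(G) and u² ∈ O(G). -/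
theorem result {G : Type*} [Group G] [Finite G] (M : Ideal Cfsg.AlgInt) (hM : Cfsg.IsPModular 2 M) (u : G) :
    (∃ k : ℂ, ∀ χ : Cfsg.IrrCharacter G, χ ∈ Cfsg.principalBlock M G → (χ : G → ℂ) ≠ (fun _ => 1) →
        (χ : G → ℂ) 1 - (χ : G → ℂ) u = k) ↔
      (u ∈ Cfsg.oddCore G ∨ (Nat.card (G ⧸ Cfsg.oddCore G) = 2 ∧ u ∉ Cfsg.oddCore G) ∨
        (∃ (F : Type) (_ : Field F) (_ : Fintype F) (n : ℕ), 2 ≤ n ∧ Fintype.card F = 2 ^ n ∧
          Nonempty (G ⧸ Cfsg.oddCore G ≃* Matrix.ProjectiveSpecialLinearGroup (Fin 2) F) ∧ u ∉ Cfsg.oddCore G ∧ u ^ 2 ∈ Cfsg.oddCore G)) := by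
  classical
  haveI := Fact.mk Nat.prime_two
  haveI hMp : M.IsPrime := Cfsg.Agent.Lib.Blocks.isPModular_isPrime hM
  haveI := Cfsg.Agent.Lib.PSolvable.pPrimeCore_characteristic (p := 2) (G := G)
  haveI hOn : (Cfsg.oddCore G).Normal := inferInstanceAs (Cfsg.pPrimeCore 2 G).Normal
  have hblock := Cfsg.Agent.Lib.HeightPSolv.principalBlock_eq_image_inflate hM (Cfsg.oddCore G)
    (Cfsg.Agent.Lib.PSolvable.pPrimeCore_not_dvd)
  have hcore : Cfsg.pPrimeCore 2 (G ⧸ Cfsg.oddCore G) = ⊥ :=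
    Cfsg.Agent.Lib.PSolvable.pPrimeCore_quotient_eq_bot
  set u' : G ⧸ Cfsg.oddCore G := (u : G ⧸ Cfsg.oddCore G) with hu'
  have htrans : ∀ k : ℂ, (∀ χ : Cfsg.IrrCharacter G, χ ∈ Cfsg.principalBlock M G →
      (χ : G → ℂ) ≠ (fun _ => 1) → (χ : G → ℂ) 1 - (χ : G → ℂ) u = k) ↔
      (∀ ψ ∈ Cfsg.Agent.Lib.B0Diff.B1 M (G ⧸ Cfsg.oddCore G),
        (ψ : G ⧸ Cfsg.oddCore G → ℂ) 1 - (ψ : G ⧸ Cfsg.oddCore G → ℂ) u' = k) := by
    intro k
    constructor
    · intro h ψ hψ
      obtain ⟨h1, h2⟩ := Cfsg.Agent.Lib.B0Diff.mem_B1.1 hψ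
      refine h (Cfsg.Agent.Lib.Chars.inflate (Cfsg.oddCore G) ψ) ?_ fun e => h2 (funext fun x => ?_)
      · rw [hblock]
        exact ⟨ψ, h1, rfl⟩
      · obtain ⟨g, rfl⟩ := QuotientGroup.mk_surjective x
        exact congrFun e g
    · intro h χ hχ hne
      rw [hblock] at hχ
      obtain ⟨ψ, hψ, rfl⟩ := hχ
      refine h ψ (Cfsg.Agent.Lib.B0Diff.mem_B1.2 ⟨hψ, fun e => hne (funext fun g => ?_)⟩)
      exact congrFun e (g : G ⧸ Cfsg.oddCore G)
  constructor
  · rintro ⟨k, hk⟩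
    by_cases hu : u ∈ Cfsg.oddCore G
    · exact Or.inl hu
    have hu1 : u' ≠ 1 := fun e => hu ((QuotientGroup.eq_one_iff u).1 e)
    rcases Cfsg.Agent.Lib.B0Diff.classify hM hcore hu1 ((htrans k).1 hk) with
      hc | ⟨F, hF, hFt, n, hn, hcard, he, hsq⟩
    · exact Or.inr (Or.inl ⟨hc, hu⟩)
    · refine Or.inr (Or.inr ⟨F, hF, hFt, n, hn, hcard, he, hu, ?_⟩)
      rw [← QuotientGroup.eq_one_iff, pow_two, QuotientGroup.mk_mul]
      exact hsq
  · rintro (hu | ⟨hc, hu⟩ | ⟨F, hF, hFt, n, hn, hcard, ⟨e⟩, hu, hsq⟩)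
    · refine ⟨0, (htrans 0).2 fun ψ _ => ?_⟩
      rw [hu', (QuotientGroup.eq_one_iff u).2 hu, sub_self]
    · have hu1 : u' ≠ 1 := fun e => hu ((QuotientGroup.eq_one_iff u).1 e)
      obtain ⟨x, y, hxy, huniv⟩ := Nat.card_eq_two_iff.1 hc
      have hall : ∀ z : G ⧸ Cfsg.oddCore G, z = 1 ∨ z = u' := by
        have hmem : ∀ z : G ⧸ Cfsg.oddCore G, z = x ∨ z = y := fun z => by
          have hz : z ∈ ({x, y} : Set (G ⧸ Cfsg.oddCore G)) := by
            rw [huniv]; exact Set.mem_univ z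
          simpa using hz
        intro z
        rcases hmem z with e1 | e1 <;> rcases hmem 1 with e2 | e2 <;>
          rcases hmem u' with e3 | e3 <;>
          first
            | exact Or.inl (e1.trans e2.symm)
            | exact Or.inr (e1.trans e3.symm)
            | exact absurd (e3.trans e2.symm) hu1
      haveI : IsMulCommutative (G ⧸ Cfsg.oddCore G) := ⟨⟨fun a b => by
        rcases hall a with rfl | rfl <;> rcases hall b with rfl | rfl <;> simp⟩⟩
      refine ⟨2, (htrans 2).2 fun ψ hψ => ?_⟩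
      have h1 := Cfsg.Agent.Lib.Chars.irr_apply_one_of_comm ψ
      obtain ⟨l, hl⟩ := Cfsg.Agent.Lib.Chars.exists_hom_of_degree_one
        (Cfsg.Agent.Lib.Chars.irr_isCharacter ψ) h1
      have hsq : ((l u' : ℂˣ) : ℂ) ^ 2 = 1 := by
        have h2 : u' ^ 2 = 1 := by rw [← hc]; exact pow_card_eq_one'
        rw [← Units.val_pow_eq_pow_val, ← map_pow, h2, map_one, Units.val_one]
      rcases sq_eq_one_iff.1 hsq with e1 | e1
      · refine absurd (funext fun z => ?_) (Cfsg.Agent.Lib.B0Diff.mem_B1.1 hψ).2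
        rw [congrFun hl z]
        rcases hall z with rfl | rfl
        · simp
        · exact e1
      · rw [h1, congrFun hl u', e1]
        norm_num
    · have hu1 : u' ≠ 1 := fun e => hu ((QuotientGroup.eq_one_iff u).1 e)
      haveI : CharP F 2 := charP_of_card_eq_prime_pow hcard
      let eSL : G ⧸ Cfsg.oddCore G ≃* Matrix.SpecialLinearGroup (Fin 2) F :=
        e.trans ((QuotientGroup.quotientMulEquivOfEq
          (Cfsg.Agent.Lib.SL2.center_eq_bot_even CharTwo.two_eq_zero)).trans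
            QuotientGroup.quotientBot)
      have hord : orderOf (eSL u') = 2 := by
        refine orderOf_eq_prime ?_ fun e1 => hu1 (eSL.injective (e1.trans (map_one eSL).symm))
        rw [← map_pow, hu', ← QuotientGroup.mk_pow, (QuotientGroup.eq_one_iff _).2 hsq, map_one]
      refine ⟨(Fintype.card F : ℂ), (htrans _).2 fun ψ hψ => ?_⟩
      have h := Cfsg.Agent.Lib.B0Diff.diff_SL hcard hn hord
        (Cfsg.Agent.Lib.Chars.irrCongr eSL.symm ψ) fun e1 =>
          (Cfsg.Agent.Lib.B0Diff.mem_B1.1 hψ).2 (funext fun x => by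
            have h2 := congrFun (congrArg Subtype.val e1) (eSL x)
            simpa [Cfsg.Agent.Lib.Chars.irrCongr] using h2)
      simpa [Cfsg.Agent.Lib.Chars.irrCongr] using h

end Cfsg.Agent.S4514
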