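import Cfsg.Statements.S4517
import Mathlib
import Cfsg.Agent.Lib.BlockCongr.Basic

set_option autoImplicit false
open Cfsg

namespace Cfsg.Agent.S4517

open Cfsg.Agent.Lib Cfsg.Agent.Lib.Blocks Cfsg.Agent.Lib.BlockCongr
/-- Let G be a finite group, M a maximal ideal of the algebraic integers containing 2, and k a natural number coprime to the order of G with g ^ k = g⁻¹ for every element g of odd order (so that g ↦ g ^ k induces a field automorphism of the character values inverting the roots of unity of odd order). If B is a 2-block of full defect (its defect equals the exponent of 2 in the order of G) that is stable under χ ↦ χ ∘ (· ^ k), then B is the principal 2-block. -/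
theorem result {G : Type*} [Group G] [Finite G] (M : Ideal Cfsg.AlgInt) (hM : Cfsg.IsPModular 2 M) (k : ℕ) (hk : Nat.Coprime k (Nat.card G)) (hk₂ : ∀ g : G, Odd (orderOf g) → g ^ k = g⁻¹) (B : Set (Cfsg.IrrCharacter G)) (hB : Cfsg.IsPBlock M B) (hdef : Cfsg.blockDefect 2 B = (Nat.card G).factorization 2) (hstab : ∀ χ ∈ B, ∃ ψ ∈ B, ∀ g : G, (ψ : G → ℂ) g = (χ : G → ℂ) (g ^ k)) : B = Cfsg.principalBlock M G := by
  classical
  have : M.IsPrime := isPModular_isPrime hM
  cases nonempty_fintype G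
  -- a member of odd degree
  obtain ⟨χ, hχB, hodd⟩ : ∃ χ ∈ B, Odd (Cfsg.charDegree (χ : G → ℂ)) := by
    set v := (Nat.card G).factorization 2 with hv
    obtain ⟨χ₀, hχ₀⟩ := HeightZero.isPBlock_nonempty hB
    have hdiv : ∀ χ : Cfsg.IrrCharacter G, Cfsg.charDegree (χ : G → ℂ) ∣ Nat.card G := by
      intro χ
      have hd := charDegree_isCharacter (Chars.irr_isCharacter χ)
      obtain ⟨d, -, hd', hdvd⟩ := Chars.irr_degree_dvd_card χ
      have : Cfsg.charDegree (χ : G → ℂ) = d := Nat.cast_injective (hd.trans hd')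
      rwa [this]
    obtain ⟨χ, hχ, hχv⟩ := Nat.sInf_mem (s := (fun χ : Cfsg.IrrCharacter G =>
      (Cfsg.charDegree (χ : G → ℂ)).factorization 2) '' B) ⟨_, χ₀, hχ₀, rfl⟩
    have hd0 := (HeightZero.charDegree_eq χ).2
    refine ⟨χ, hχ, ?_⟩
    rw [Cfsg.blockDefect, ← hχv] at hdef
    simp only [hv] at hdef
    have hle : (Cfsg.charDegree (χ : G → ℂ)).factorization 2 ≤ (Nat.card G).factorization 2 :=
      (Nat.factorization_le_iff_dvd hd0 Nat.card_pos.ne').mpr (hdiv χ) 2
    have h0 : (Cfsg.charDegree (χ : G → ℂ)).factorization 2 = 0 := by omega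
    rcases (Nat.factorization_eq_zero_iff _ _).mp h0 with h | h | h
    · exact absurd Nat.prime_two h
    · exact Nat.odd_iff.mpr (Nat.two_dvd_ne_zero.mp h)
    · exact absurd h hd0
  set d := Cfsg.charDegree (χ : G → ℂ)
  have hd : (d : ℂ) = (χ : G → ℂ) 1 := charDegree_isCharacter (Chars.irr_isCharacter χ)
  have hinvd : Cfsg.MemLocalRing M ((d : ℂ)⁻¹) :=
    mem_localRing.mp (inv_natCast_mem_localRing hM hodd.not_two_dvd_nat)
  obtain ⟨ψ, hψB, hψ⟩ := hstab χ hχB
  have hblk : Cfsg.SameBlock M (χ : G → ℂ) (ψ : G → ℂ) := by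
    rw [HeightZero.eq_blockOf_of_mem hB hχB] at hψB
    exact hψB
  have hψ1 : (ψ : G → ℂ) 1 = (χ : G → ℂ) 1 := by rw [hψ, one_pow]
  -- at an element `s` of odd order with class of odd size, inversion is invisible
  have hs : ∀ s : G, Odd (orderOf s) →
      ¬ 2 ∣ (Subgroup.centralizer ({s} : Set G)).index →
      Cfsg.MemLocalIdeal M ((χ : G → ℂ) s⁻¹ - (χ : G → ℂ) s) := by
    intro s hs1 hs2
    have h := hblk s
    rw [Cfsg.centralChar, Cfsg.centralChar, hψ1, hψ, hk₂ s hs1] at h
    have h' := memLocalIdeal_neg h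
    set k' : ℕ := (Subgroup.centralizer ({s} : Set G)).index
    have hk' : (k' : ℂ) ≠ 0 := Nat.cast_ne_zero.mpr fun h0 => hs2 (h0 ▸ dvd_zero 2)
    have hd0 : (χ : G → ℂ) 1 ≠ 0 := Chars.irr_apply_one_ne_zero χ
    have e : (χ : G → ℂ) s⁻¹ - (χ : G → ℂ) s = ((d : ℂ) * (k' : ℂ)⁻¹) *
        -((k' : ℂ) * (χ : G → ℂ) s / (χ : G → ℂ) 1 - (k' : ℂ) * (χ : G → ℂ) s⁻¹ / (χ : G → ℂ) 1) := by
      rw [hd]; field_simp; ring
    rw [e]
    exact memLocalIdeal_mul_left (mem_localRing.mp (mul_mem (natCast_mem_localRing d)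
      (inv_natCast_mem_localRing hM hs2))) h'
  have hsame : Cfsg.SameBlock M (fun _ : G => (1 : ℂ)) (χ : G → ℂ) := by
    refine sameBlock_one_of_inv_invariant hM χ (fun z => ?_) (fix_of_odd_degree hM χ hodd)
    set k' : ℕ := (Subgroup.centralizer ({z} : Set G)).index with hk'
    have e : Cfsg.centralChar (χ : G → ℂ) z⁻¹ - Cfsg.centralChar (χ : G → ℂ) z =
        (k' : ℂ) * (((χ : G → ℂ) z⁻¹ - (χ : G → ℂ) z) * (d : ℂ)⁻¹) := by
      rw [Cfsg.centralChar, Cfsg.centralChar, centralizer_inv_eq, hd]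
      ring
    rw [e]
    have hint : ((χ : G → ℂ) z⁻¹ - (χ : G → ℂ) z) ∈ localRing M :=
      sub_mem (isIntegral_mem_localRing (Chars.irr_isIntegral χ _))
        (isIntegral_mem_localRing (Chars.irr_isIntegral χ _))
    by_cases heven : 2 ∣ k'
    · exact memLocalIdeal_mul_right ((memLocalIdeal_natCast_iff hM _).mpr heven)
        (mem_localRing.mp (mul_mem hint (mem_localRing.mpr hinvd)))
    refine memLocalIdeal_mul_left (mem_localRing.mp (natCast_mem_localRing _))
      (memLocalIdeal_mul_right ?_ hinvd)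
    obtain ⟨m, n, j, h1, h2, h3⟩ := exists_split Nat.prime_two z
    have hle : Subgroup.centralizer ({z} : Set G) ≤ Subgroup.centralizer ({z ^ m} : Set G) := by
      intro c hc
      rw [Subgroup.mem_centralizer_singleton_iff] at hc ⊢
      exact (show Commute c z from hc).pow_right m
    have hoddS : ¬ 2 ∣ (Subgroup.centralizer ({z ^ m} : Set G)).index := fun h =>
      heven (h.trans (Subgroup.index_dvd_of_le hle))
    have c1 := char_congr_of_pow hM (Chars.irr_isCharacter χ) h1 h2
    have c2 := char_congr_of_pow hM (Chars.irr_isCharacter χ) (g := z⁻¹) (m := m) (n := n) (j := j)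
      (by rw [inv_pow, inv_pow, h1, inv_one]) (by rw [inv_pow, h2])
    rw [inv_pow] at c2
    have c3 := hs (z ^ m) (Nat.odd_iff.mpr (Nat.two_dvd_ne_zero.mp h3)) hoddS
    have := memLocalIdeal_sub (memLocalIdeal_add c2 c3) c1
    convert this using 1
    ring
  rw [HeightZero.eq_blockOf_of_mem hB hχB]
  exact (HeightZero.blockOf_eq hsame).symm

end Cfsg.Agent.S4517
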