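import Cfsg.Statements.S4518
import Mathlib
import Cfsg.Agent.Lib.PowMap.Basic
import Cfsg.Agent.Lib.Clifford.Restriction

set_option autoImplicit false
open Cfsg

namespace Cfsg.Agent.S4518

open Cfsg.Agent.Lib Cfsg.Agent.Lib.Clifford Cfsg.Agent.Lib.PowMap

/-- The inertia group of a function on a normal subgroup. -/
def inertiaFun {G : Type*} [Group G] (N : Subgroup G) [N.Normal] (θ : N → ℂ) : Subgroup G where
  carrier := {g | conjFun g θ = θ}
  one_mem' := conjFun_one θ
  mul_mem' := fun {a b} ha hb => by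
    show conjFun (a * b) θ = θ
    rw [conjFun_mul, show conjFun a θ = θ from ha]
    exact hb
  inv_mem' := fun {a} ha => by
    show conjFun a⁻¹ θ = θ
    conv_lhs => rw [← show conjFun a θ = θ from ha]
    rw [← conjFun_mul, mul_inv_cancel, conjFun_one]

theorem le_inertiaFun {G : Type*} [Group G] (N : Subgroup G) [N.Normal] {θ : N → ℂ}
    (h : Cfsg.IsClassFunction N θ) : N ≤ inertiaFun N θ := by
  intro n hn
  funext m
  show θ ⟨n * m * n⁻¹, _⟩ = θ m
  exact h m ⟨n, hn⟩

/-- Let N be a normal subgroup of the finite group G whose index is not divisible by the prime p, and let k be coprime to the order of G with k ^ (p ^ e) ≡ 1 modulo the order of G for some e (so g ↦ g ^ k induces a field automorphism of p-power order on character values). If an irreducible character χ of G satisfies χ (g ^ k) = χ g for all g, then every irreducible constituent θ of the restriction of χ to N satisfies θ (n ^ k) = θ n for all n. -/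
theorem result {G : Type*} [Group G] [Fintype G] (p : ℕ) [Fact p.Prime] (N : Subgroup G) [N.Normal] [Fintype N] (hidx : ¬ p ∣ N.index) (k e : ℕ) (hk : Nat.Coprime k (Nat.card G)) (hke : k ^ (p ^ e) ≡ 1 [MOD Nat.card G]) (χ : Cfsg.IrrCharacter G) (hχ : ∀ g : G, (χ : G → ℂ) (g ^ k) = (χ : G → ℂ) g) (θ : Cfsg.IrrCharacter N) (hθ : Cfsg.classInner (fun n : N => (χ : G → ℂ) n) (θ : N → ℂ) ≠ 0) : ∀ n : N, (θ : N → ℂ) (n ^ k) = (θ : N → ℂ) n := by
  classical
  have hkN : k.Coprime (Nat.card N) :=
    Nat.Coprime.coprime_dvd_right (Subgroup.card_subgroup_dvd_card N) hk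
  have hper : ∀ n : N, n ^ k ^ p ^ e = n := fun n => by
    conv_rhs => rw [← pow_one n]
    exact pow_eq_pow_iff_modEq.mpr
      (hke.of_dvd ((orderOf_dvd_natCard n).trans (Subgroup.card_subgroup_dvd_card N)))
  have hres : ∀ φ : Cfsg.IrrCharacter N,
      Cfsg.classInner (resFun N (χ : G → ℂ)) (powIrr hkN φ : N → ℂ) =
        Cfsg.classInner (resFun N (χ : G → ℂ)) (φ : N → ℂ) := by
    intro φ
    simp only [Cfsg.classInner]
    congr 1
    refine Fintype.sum_bijective (fun n : N => n ^ k) (bijective_pow hkN) _ _ fun n => ?_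
    simp only [resFun_apply, powIrr_apply, SubgroupClass.coe_pow, hχ]
  let O := {φ : Cfsg.IrrCharacter N // ∃ g : G, conjFun g (θ : N → ℂ) = (φ : N → ℂ)}
  have hO : ∀ φ : Cfsg.IrrCharacter N,
      (∃ g : G, conjFun g (θ : N → ℂ) = (φ : N → ℂ)) ↔
        Cfsg.classInner (resFun N (χ : G → ℂ)) (φ : N → ℂ) ≠ 0 := fun φ => by
    constructor
    · rintro ⟨g, hg⟩
      rw [← hg, classInner_resFun_conjFun (Chars.irr_isClassFunction χ)]
      exact hθ
    · exact fun h => exists_conjFun_eq_of_constituent χ.2 θ.2 φ.2 hθ h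
  let f : O → O := fun φ => ⟨powIrr hkN φ.1, (hO _).mpr (by rw [hres]; exact (hO _).mp φ.2)⟩
  have hf : ∀ φ : O, f^[p ^ e] φ = φ := fun φ => by
    have hcomm : ∀ n (φ : O), (f^[n] φ).1 = (powIrr hkN)^[n] φ.1 := by
      intro n
      induction n with
      | zero => intro φ; rfl
      | succ n ih =>
        intro φ
        rw [Function.iterate_succ_apply', Function.iterate_succ_apply', ← ih]
    refine Subtype.ext (Subtype.ext (funext fun g => ?_))
    rw [hcomm, powIrr_iterate, hper]
  have hcard : Nat.card O = (inertiaFun N (θ : N → ℂ)).index := by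
    rw [← card_orbitFun (inertiaFun N (θ : N → ℂ)) (fun g => Iff.rfl), ← Nat.card_eq_finsetCard]
    refine Nat.card_congr
      { toFun := fun φ => ⟨(φ.1 : N → ℂ), mem_orbitFun.mpr φ.2⟩
        invFun := fun φ => ⟨⟨φ.1, by
          obtain ⟨g, hg⟩ := mem_orbitFun.mp φ.2
          rw [← hg]
          exact isIrrCharacter_conjFun g θ.2⟩, mem_orbitFun.mp φ.2⟩
        left_inv := fun _ => rfl
        right_inv := fun _ => rfl }
  obtain ⟨⟨φ, g, hg⟩, hfix⟩ : ∃ φ : O, f φ = φ := by
    by_contra hcon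
    push Not at hcon
    have : IsEmpty {φ : O // f φ = φ} := ⟨fun φ => hcon φ.1 φ.2⟩
    have h := card_modEq_fixed_of_iterate f hf
    rw [Nat.card_of_isEmpty (α := {φ : O // f φ = φ}), hcard, Nat.modEq_zero_iff_dvd] at h
    exact hidx (h.trans (Subgroup.index_dvd_of_le (le_inertiaFun N (Chars.irr_isClassFunction θ))))
  intro n
  have hφ : ∀ m : N, (φ : N → ℂ) (m ^ k) = (φ : N → ℂ) m := fun m =>
    congrFun (congrArg Subtype.val (congrArg Subtype.val hfix)) m
  have hθ' : (θ : N → ℂ) = conjFun g⁻¹ (φ : N → ℂ) := by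
    rw [← hg, ← conjFun_mul, mul_inv_cancel, conjFun_one]
  rw [hθ']
  refine Eq.trans ?_ (hφ _)
  refine congrArg (φ : N → ℂ) (Subtype.ext ?_)
  simp only [SubgroupClass.coe_pow, conj_pow]

end Cfsg.Agent.S4518
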