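import Cfsg.Statements.S4520
import Mathlib
import Cfsg.Agent.Lib.BlockCongr.Basic
import Cfsg.Agent.Lib.Blocks.Covering
import Cfsg.Agent.Lib.Blocks.Idempotent
import Cfsg.Agent.Lib.Blocks.BlockOrth
import Cfsg.Agent.Lib.Chars.Real
import Cfsg.Agent.Lib.Chars.Ops

set_option autoImplicit false
open Cfsg

namespace Cfsg.Agent.S4520

open Cfsg.Agent.Lib Cfsg.Agent.Lib.Blocks Cfsg.Agent.Lib.BlockCongr
open scoped ComplexConjugate

/-- Characters agreeing on the p-regular elements share their block. -/
theorem sameBlock_of_eq_on_regular {G : Type*} [Group G] [Finite G] {p : ℕ} [Fact p.Prime]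
    {M : Ideal Cfsg.AlgInt} (hM : Cfsg.IsPModular p M) {χ χ' : Cfsg.IrrCharacter G}
    (h : ∀ g : G, ¬ p ∣ orderOf g → (χ' : G → ℂ) g = (χ : G → ℂ) g) :
    Cfsg.SameBlock M (χ : G → ℂ) (χ' : G → ℂ) := by
  classical
  cases nonempty_fintype G
  haveI := Fintype.ofFinite (ConjClasses G)
  have : M.IsPrime := isPModular_isPrime hM
  have hB := isPBlock_blockOf (M := M) χ
  have e : omegaBar M χ' (blockIdem M hB) = omegaBar M χ (blockIdem M hB) := by
    rw [omegaBar_eq_sum, omegaBar_eq_sum]
    refine Finset.sum_congr rfl fun c _ => ?_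
    by_cases hc : p ∣ orderOf (classRep c)
    · have h0 : residue M
          ((blockIdem M hB : MonoidAlgebra (localRing M) G).coeff (classRep c)) = 0 := by
        rw [residue_eq_zero_iff, coe_coeff_blockIdem, blockCoeff_eq_zero_of_pSingular hM hB hc]
        exact memLocalIdeal_zero
      rw [h0, zero_mul, zero_mul]
    · congr 1
      have h1 : (χ' : G → ℂ) 1 = (χ : G → ℂ) 1 :=
        h 1 (by rw [orderOf_one]; exact (Fact.out : p.Prime).not_dvd_one)
      rw [omegaBar_eq_iff_of_classSum, Cfsg.centralChar, Cfsg.centralChar, h _ hc, h1, sub_self]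
      exact memLocalIdeal_zero
  rw [omegaBar_blockIdem, omegaBar_blockIdem, if_pos (mem_blockOf_self χ)] at e
  by_contra hne
  exact zero_ne_one ((if_neg (fun hm : χ' ∈ Cfsg.blockOf M (χ : G → ℂ) => hne hm)).symm.trans e)

/-- Let N be a normal subgroup of odd index in the finite group G, M a maximal ideal of the algebraic integers containing 2, and k coprime to the order of G with k ^ (2 ^ e) ≡ 1 modulo the order of G for some e and g ^ k = g⁻¹ for every element g of odd order. Let θ be an irreducible character of N and χ an irreducible character of G over θ, both unchanged by composing with g ↦ g ^ k. Then χ lies in the principal 2-block of G if and only if θ lies in the principal 2-block of N. -/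
theorem result {G : Type*} [Group G] [Fintype G] (M : Ideal Cfsg.AlgInt) (hM : Cfsg.IsPModular 2 M) (N : Subgroup G) [N.Normal] [Fintype N] (hidx : Odd N.index) (k e : ℕ) (hk : Nat.Coprime k (Nat.card G)) (hke : k ^ (2 ^ e) ≡ 1 [MOD Nat.card G]) (hk₂ : ∀ g : G, Odd (orderOf g) → g ^ k = g⁻¹) (θ : Cfsg.IrrCharacter N) (hθ : ∀ n : N, (θ : N → ℂ) (n ^ k) = (θ : N → ℂ) n) (χ : Cfsg.IrrCharacter G) (hχ : ∀ g : G, (χ : G → ℂ) (g ^ k) = (χ : G → ℂ) g) (hover : Cfsg.classInner (fun n : N => (χ : G → ℂ) n) (θ : N → ℂ) ≠ 0) : χ ∈ Cfsg.principalBlock M G ↔ θ ∈ Cfsg.principalBlock M N := by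
  classical
  have : M.IsPrime := isPModular_isPrime hM
  haveI : Fact (Nat.Prime 2) := ⟨Nat.prime_two⟩
  have htriv : Cfsg.classInner (Clifford.resFun N (Chars.trivialIrr G : G → ℂ))
      (Chars.trivialIrr N : N → ℂ) ≠ 0 := by
    show Cfsg.classInner (Chars.trivialIrr N : N → ℂ) (Chars.trivialIrr N : N → ℂ) ≠ 0
    rw [Chars.classInner_irr_self]
    exact one_ne_zero
  constructor
  · intro hχP
    have hb : Cfsg.IsPBlock M (Cfsg.principalBlock M N) := ⟨Chars.trivialIrr N, rfl⟩
    obtain ⟨g, φ, hφ, hgφ⟩ := Covering.constituent_mem_conjClosure hb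
      (χ := Chars.trivialIrr G) (χ' := χ) hχP (mem_blockOf_self (Chars.trivialIrr N)) htriv hover
    have h := Covering.sameBlock_conjFun (M := M) g
      (show Cfsg.SameBlock M (fun _ : N => (1 : ℂ)) (φ : N → ℂ) from hφ)
    rw [hgφ] at h
    exact h
  · intro hθP
    refine sameBlock_one_of_inv_invariant hM χ (fun z => ?_) (fun z hz => ?_)
    · have hsame := sameBlock_of_eq_on_regular hM (χ := χ) (χ' := Chars.irrConj χ) (fun g hg => by
        rw [Chars.irrConj_apply, ← Chars.irr_inv,
          ← hk₂ g (Nat.odd_iff.2 (Nat.two_dvd_ne_zero.1 hg)), hχ])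
      have h := memLocalIdeal_neg (hsame z)
      rw [neg_sub] at h
      have e : Cfsg.centralChar (Chars.irrConj χ : G → ℂ) z =
          Cfsg.centralChar (χ : G → ℂ) z⁻¹ := by
        obtain ⟨d, hd⟩ := Chars.isCharacter_exists_degree (Chars.irr_isCharacter χ)
        rw [Cfsg.centralChar, Cfsg.centralChar, centralizer_inv_eq, Chars.irrConj_apply,
          Chars.irrConj_apply, hd, Complex.conj_natCast, Chars.irr_inv]
      rwa [e] at h
    · have hzN : z ∈ N := by
        rw [← QuotientGroup.eq_one_iff]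
        refine Chars.eq_one_of_isConj_inv_of_odd hidx ?_
        rw [← QuotientGroup.mk_inv]
        exact (QuotientGroup.mk' N).map_isConj hz
      have e1 : Cfsg.centralChar (χ : G → ℂ) z = Cfsg.inducedCentralChar N (θ : N → ℂ) z :=
        Covering.centralChar_eq_inducedCentralChar χ θ hover ⟨z, hzN⟩
      have e2 : Cfsg.centralChar (Chars.trivialIrr G : G → ℂ) z =
          Cfsg.inducedCentralChar N (Chars.trivialIrr N : N → ℂ) z :=
        Covering.centralChar_eq_inducedCentralChar _ _ htriv ⟨z, hzN⟩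
      have e3 : ((Subgroup.centralizer ({z} : Set G)).index : ℂ) =
          Cfsg.centralChar (Chars.trivialIrr G : G → ℂ) z := (centralChar_trivial z).symm
      have h := memLocalIdeal_neg (Covering.inducedCentralChar_congr (M := M)
        (θ := Chars.trivialIrr N) (θ' := θ) hθP z)
      rw [e1, e3, e2]
      simpa using h

end Cfsg.Agent.S4520
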