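import Cfsg.Statements.S4521
import Mathlib
import Cfsg.Agent.Lib.BlockCongr.Basic
import Cfsg.Agent.Lib.Clifford.Restriction

set_option autoImplicit false
open Cfsg

namespace Cfsg.Agent.S4521

open Cfsg.Agent.Lib Cfsg.Agent.Lib.Blocks Cfsg.Agent.Lib.BlockCongr
open scoped ComplexConjugate

open Classical in
/-- A class fixed by translation with a central element of order `p` has central character in the
local ideal. -/
theorem centralChar_mem_of_translate {G : Type*} [Group G] [Fintype G] {p : ℕ} [Fact p.Prime]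
    {M : Ideal Cfsg.AlgInt} (hM : Cfsg.IsPModular p M) {z : G} (hz : z ∈ Subgroup.center G)
    (hzo : orderOf z = p) {g : G} (hg : IsConj g (g * z)) (χ : Cfsg.IrrCharacter G) :
    Cfsg.MemLocalIdeal M (Cfsg.centralChar (χ : G → ℂ) g) := by
  have : M.IsPrime := isPModular_isPrime hM
  obtain ⟨n, ρ, hρ, hρχ⟩ := χ.2
  have hcz : ∀ y : G, y * z = z * y := Subgroup.mem_center_iff.mp hz
  obtain ⟨c, hc⟩ := Chars.exists_scalar_of_commute ρ (ρ z) fun h => by
    show ρ z * ρ h = ρ h * ρ z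
    rw [← map_mul, ← map_mul, hcz]
  have hmul : ∀ h : G, (χ : G → ℂ) (h * z) = c * (χ : G → ℂ) h := fun h => by
    rw [← hρχ]
    show LinearMap.trace ℂ _ (ρ (h * z)) = c * LinearMap.trace ℂ _ (ρ h)
    rw [map_mul, hc, mul_smul_comm, mul_one, map_smul, smul_eq_mul]
  have hchi : (χ : G → ℂ) g = c * (χ : G → ℂ) g := by
    rw [← hmul, Chars.isClassFunction_apply_eq (Chars.irr_isClassFunction χ) hg]
  by_cases h1 : c = 1
  swap
  · have : (χ : G → ℂ) g = 0 := by
      have : (1 - c) * (χ : G → ℂ) g = 0 := by linear_combination hchi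
      exact (mul_eq_zero.mp this).resolve_left (sub_ne_zero.mpr (Ne.symm h1))
    rw [Cfsg.centralChar, this]
    simpa using memLocalIdeal_zero (M := M)
  have hρz : ∀ (j : ℕ) (x : G), ρ (x * z ^ j) = ρ x := by
    intro j x
    rw [map_mul, map_pow, hc, h1, one_smul, one_pow, mul_one]
  set K := Finset.univ.filter (IsConj g) with hK
  have hKz : ∀ x ∈ K, x * z ∈ K := by
    intro x hx
    simp only [K, Finset.mem_filter, Finset.mem_univ, true_and] at hx ⊢
    obtain ⟨d, rfl⟩ := isConj_iff.mp hx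
    refine hg.trans (isConj_iff.mpr ⟨d, ?_⟩)
    calc d * (g * z) * d⁻¹ = d * g * (z * d⁻¹) := by group
      _ = d * g * d⁻¹ * z := by rw [← hcz]; group
  have hKzj : ∀ (j : ℕ), ∀ x ∈ K, x * z ^ j ∈ K := by
    intro j
    induction j with
    | zero => intro x hx; simpa using hx
    | succ j ih => intro x hx; rw [pow_succ, ← mul_assoc]; exact hKz _ (ih x hx)
  set V := K.image (fun x => ρ x)
  have hdvd : ∀ v ∈ V, p ∣ (K.filter fun x => ρ x = v).card := by
    intro v _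
    let act : MulAction (Subgroup.zpowers z) ↥(K.filter fun x => ρ x = v) :=
      { smul := fun a x => ⟨(x : G) * a, by
          obtain ⟨j, hj⟩ : (a : G) ∈ Submonoid.powers z := mem_powers_iff_mem_zpowers.mpr a.2
          have hj' : z ^ j = (a : G) := hj
          have hx := Finset.mem_filter.mp x.2
          rw [← hj']
          exact Finset.mem_filter.mpr ⟨hKzj j _ hx.1, by rw [hρz]; exact hx.2⟩⟩
        one_smul := fun x => Subtype.ext (show (x : G) * ((1 : Subgroup.zpowers z) : G) = x by simp)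
        mul_smul := fun a b x => Subtype.ext
          (show (x : G) * ((a * b : Subgroup.zpowers z) : G) = (x : G) * (b : G) * (a : G) by
            obtain ⟨i, hi⟩ := a.2
            obtain ⟨j, hj⟩ := b.2
            rw [Subgroup.coe_mul, ← hi, ← hj, mul_assoc, ← zpow_add, ← zpow_add, add_comm]) }
    have hPG : IsPGroup p (Subgroup.zpowers z) :=
      IsPGroup.of_card (n := 1) (by rw [Nat.card_zpowers, hzo, pow_one])
    have hempty : IsEmpty (MulAction.fixedPoints (Subgroup.zpowers z)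
        ↥(K.filter fun x => ρ x = v)) := by
      refine ⟨fun x => ?_⟩
      have h := congrArg Subtype.val (x.2 ⟨z, Subgroup.mem_zpowers z⟩)
      have h' : (x.1 : G) * z = x.1 := h
      rw [mul_eq_left] at h'
      rw [h', orderOf_one] at hzo
      exact (Fact.out : p.Prime).one_lt.ne hzo
    have h := hPG.card_modEq_card_fixedPoints ↥(K.filter fun x => ρ x = v)
    rw [Nat.card_of_isEmpty (α := MulAction.fixedPoints _ _), Nat.card_eq_fintype_card,
      Fintype.card_coe] at h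
    exact Nat.modEq_zero_iff_dvd.mp h
  choose r hr using fun v : V => Finset.mem_image.mp v.2
  let Φ : MonoidAlgebra ℤ G →+* Module.End ℂ (Fin n → ℂ) :=
    (ρ.asAlgebraHom : MonoidAlgebra ℂ G →+* _).comp
      (MonoidAlgebra.mapRingHom G (Int.castRingHom ℂ))
  have hΦ : ∀ x, Φ (MonoidAlgebra.single x 1) = ρ x := by
    intro x
    simp [Φ, Representation.asAlgebraHom_single_one]
  let T : MonoidAlgebra ℤ G :=
    ∑ v : V, ((K.filter fun x => ρ x = (v : Module.End ℂ (Fin n → ℂ))).card / p) •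
      MonoidAlgebra.single (r v) 1
  have hsum : ∑ x ∈ K, ρ x = p • Φ T := by
    simp only [T, map_sum, map_nsmul, hΦ, (hr _).2, Finset.smul_sum, smul_smul]
    rw [← Finset.sum_fiberwise_of_maps_to (g := fun x => ρ x) (t := V)
      (fun x hx => Finset.mem_image_of_mem _ hx), ← Finset.sum_attach]
    refine Finset.sum_congr rfl fun v _ => ?_
    rw [Finset.sum_congr rfl (fun x hx => (Finset.mem_filter.mp hx).2), Finset.sum_const,
      Nat.mul_div_cancel' (hdvd _ v.2)]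
  have hω : ∑ x ∈ K, ρ x = Cfsg.centralChar (χ : G → ℂ) g • (1 : Module.End ℂ (Fin n → ℂ)) := by
    have h := asAlgebraHom_center_eq_omega ρ (classSum_mem_center (k := ℂ) g)
    rw [hρχ, omega_classSum (Chars.irr_isClassFunction χ), Algebra.algebraMap_eq_smul_one] at h
    rw [← h]
    have hdec : classSum ℂ g = ∑ x ∈ K, MonoidAlgebra.single x (1 : ℂ) := by
      ext y
      simp [MonoidAlgebra.coeff_sum, Finsupp.coe_finsetSum, Finset.sum_apply, Finsupp.single_apply,
        coeff_classSum, K]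
    rw [hdec, map_sum]
    exact Finset.sum_congr rfl fun x _ => (Representation.asAlgebraHom_single_one ρ x).symm
  have hTscal : Φ T = (Cfsg.centralChar (χ : G → ℂ) g / p) • (1 : Module.End ℂ (Fin n → ℂ)) := by
    have hp0 : (p : ℂ) ≠ 0 := Nat.cast_ne_zero.mpr (Fact.out : p.Prime).ne_zero
    rw [hω, ← Nat.cast_smul_eq_nsmul ℂ] at hsum
    rw [div_eq_inv_mul, mul_smul, hsum, smul_smul, inv_mul_cancel₀ hp0, one_smul]
  have hint : IsIntegral ℤ (Cfsg.centralChar (χ : G → ℂ) g / p) := by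
    haveI : Module.Finite ℤ (MonoidAlgebra ℤ G) :=
      Module.Finite.equiv ((MonoidAlgebra.coeffLinearEquiv ℤ).trans
        (Finsupp.linearEquivFunOnFinite ℤ ℤ G)).symm
    have h1 : IsIntegral ℤ (Φ T) := (IsIntegral.of_finite ℤ T).map Φ.toIntAlgHom
    rw [hTscal, ← Algebra.algebraMap_eq_smul_one] at h1
    haveI := Chars.nontrivial_of_isIrreducible ρ
    exact (isIntegral_algHom_iff ((Algebra.ofId ℂ (Module.End ℂ (Fin n → ℂ))).restrictScalars ℤ)
      (algebraMap ℂ (Module.End ℂ (Fin n → ℂ))).injective).1 h1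
  have he : Cfsg.centralChar (χ : G → ℂ) g = (p : ℂ) * (Cfsg.centralChar (χ : G → ℂ) g / p) := by
    rw [mul_div_cancel₀ _ (Nat.cast_ne_zero.mpr (Fact.out : p.Prime).ne_zero)]
  rw [he]
  exact memLocalIdeal_mul_right ((memLocalIdeal_natCast_iff hM p).mpr dvd_rfl)
    (mem_localRing.mp (isIntegral_mem_localRing hint))

/-- For commuting subgroups generating `G`, irreducible characters are multiplicative. -/
theorem char_mul_of_commuting {G : Type*} [Group G] [Fintype G] (U₁ U₂ : Subgroup G)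
    (hcomm : ∀ u ∈ U₁, ∀ v ∈ U₂, u * v = v * u) (hgen : U₁ ⊔ U₂ = ⊤) (χ : Cfsg.IrrCharacter G)
    {u v : G} (hu : u ∈ U₁) (hv : v ∈ U₂) :
    (χ : G → ℂ) (u * v) * (χ : G → ℂ) 1 = (χ : G → ℂ) u * (χ : G → ℂ) v := by
  classical
  obtain ⟨n, ρ, hρ, hρχ⟩ := χ.2
  set T : Module.End ℂ (Fin n → ℂ) := ∑ y : U₁, ρ ((y : G) * u * (y : G)⁻¹) with hT
  have hTc : ∀ h : G, T * ρ h = ρ h * T := by
    intro h
    have hmem : h ∈ U₁ ⊔ U₂ := hgen ▸ Subgroup.mem_top h
    rw [Subgroup.sup_eq_closure] at hmem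
    induction hmem using Subgroup.closure_induction with
    | mem a ha =>
      rcases ha with ha | ha
      · simp only [hT, Finset.sum_mul, Finset.mul_sum, ← map_mul]
        refine (Fintype.sum_equiv (Equiv.mulLeft (⟨a, ha⟩ : U₁)) _ _ fun y => ?_).symm
        show ρ (a * ((y : G) * u * (y : G)⁻¹)) =
          ρ ((a * (y : G)) * u * (a * (y : G))⁻¹ * a)
        congr 1
        group
      · simp only [hT, Finset.sum_mul, Finset.mul_sum, ← map_mul]
        refine Finset.sum_congr rfl fun y _ => ?_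
        congr 1
        exact hcomm _ (U₁.mul_mem (U₁.mul_mem y.2 hu) (U₁.inv_mem y.2)) a ha
    | one => simp
    | mul a b _ _ iha ihb => rw [map_mul, ← mul_assoc, iha, mul_assoc, ihb, ← mul_assoc]
    | inv a _ iha =>
      have e1 : ρ a⁻¹ * ρ a = 1 := by rw [← map_mul, inv_mul_cancel, map_one]
      have e2 : ρ a * ρ a⁻¹ = 1 := by rw [← map_mul, mul_inv_cancel, map_one]
      calc T * ρ a⁻¹ = ρ a⁻¹ * ρ a * T * ρ a⁻¹ := by rw [e1, one_mul]
        _ = ρ a⁻¹ * (T * ρ a) * ρ a⁻¹ := by rw [iha]; simp only [mul_assoc]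
        _ = ρ a⁻¹ * T := by rw [mul_assoc, mul_assoc, e2, mul_one]
  obtain ⟨c, hc⟩ := Chars.exists_scalar_of_commute ρ T hTc
  have hcl := Chars.irr_isClassFunction χ
  have htrT : c * (χ : G → ℂ) 1 = (Fintype.card U₁ : ℂ) * (χ : G → ℂ) u := by
    have h := congrArg (LinearMap.trace ℂ (Fin n → ℂ)) hc
    rw [map_smul, hT, map_sum, LinearMap.trace_one, smul_eq_mul] at h
    rw [← hρχ, ρ.char_one, ← h]
    show ∑ y : U₁, ρ.character ((y : G) * u * (y : G)⁻¹) = _
    simp [ρ.char_conj, Finset.card_univ]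
  have htr : (Fintype.card U₁ : ℂ) * (χ : G → ℂ) (u * v) = c * (χ : G → ℂ) v := by
    have h := congrArg (fun A => LinearMap.trace ℂ (Fin n → ℂ) (A * ρ v)) hc
    simp only [hT, Finset.sum_mul, map_sum, smul_mul_assoc, one_mul, map_smul, smul_eq_mul,
      ← map_mul] at h
    rw [← hρχ]
    show _ = c * LinearMap.trace ℂ _ (ρ v)
    rw [← h, Finset.sum_congr rfl (g := fun _ => ρ.character (u * v)) (fun y _ => ?_),
      Finset.sum_const, Finset.card_univ, nsmul_eq_mul]
    show ρ.character ((y : G) * u * (y : G)⁻¹ * v) = ρ.character (u * v)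
    rw [show (y : G) * u * (y : G)⁻¹ * v = (y : G) * (u * v) * (y : G)⁻¹ by
      rw [mul_assoc _ (y : G)⁻¹ v, hcomm _ (U₁.inv_mem y.2) v hv]
      simp only [mul_assoc], ρ.char_conj]
  have hcard : (Fintype.card U₁ : ℂ) ≠ 0 := Nat.cast_ne_zero.mpr Fintype.card_ne_zero
  refine mul_left_cancel₀ hcard ?_
  linear_combination (χ : G → ℂ) 1 * htr + (χ : G → ℂ) v * htrT

/-- Conjugation in `G` of an element of `U₁` is conjugation in `U₁`. -/
theorem isConj_subgroup_iff {G : Type*} [Group G] {U₁ U₂ : Subgroup G}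
    (hcomm : ∀ u ∈ U₁, ∀ v ∈ U₂, u * v = v * u)
    (hdec : ∀ g : G, ∃ u ∈ U₁, ∃ v ∈ U₂, u * v = g) (u : U₁) (x : G) :
    IsConj (u : G) x ↔ ∃ w : U₁, IsConj u w ∧ (w : G) = x := by
  constructor
  · intro h
    obtain ⟨g, rfl⟩ := isConj_iff.mp h
    obtain ⟨a, ha, b, hb, rfl⟩ := hdec g
    refine ⟨(⟨a, ha⟩ : U₁) * u * (⟨a, ha⟩ : U₁)⁻¹, isConj_iff.mpr ⟨⟨a, ha⟩, rfl⟩, ?_⟩
    push_cast
    calc a * (u : G) * a⁻¹ = a * ((u : G) * b) * b⁻¹ * a⁻¹ := by group
      _ = a * b * u * (a * b)⁻¹ := by rw [hcomm u u.2 b hb]; group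
  · rintro ⟨w, hw, rfl⟩
    obtain ⟨c, rfl⟩ := isConj_iff.mp hw
    exact isConj_iff.mpr ⟨c, by push_cast; rfl⟩

theorem index_subgroup_eq {G : Type*} [Group G] {U₁ U₂ : Subgroup G}
    (hcomm : ∀ u ∈ U₁, ∀ v ∈ U₂, u * v = v * u)
    (hdec : ∀ g : G, ∃ u ∈ U₁, ∃ v ∈ U₂, u * v = g) (u : U₁) :
    (Subgroup.centralizer ({(u : G)} : Set G)).index =
      (Subgroup.centralizer ({u} : Set U₁)).index := by
  rw [← natCard_isConj, ← natCard_isConj]
  refine (Nat.card_eq_of_bijective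
    (fun w : {w : U₁ // IsConj u w} => (⟨(w.1 : G),
      (isConj_subgroup_iff hcomm hdec u _).mpr ⟨w.1, w.2, rfl⟩⟩ : {x : G // IsConj (u : G) x}))
    ⟨?_, ?_⟩).symm
  · intro a b h
    have h' := congrArg Subtype.val h
    exact Subtype.ext (Subtype.ext h')
  · rintro ⟨x, hx⟩
    obtain ⟨w, hw, rfl⟩ := (isConj_subgroup_iff hcomm hdec u x).mp hx
    exact ⟨⟨w, hw⟩, rfl⟩

/-- Central characters on a factor of a central product. -/
theorem centralChar_factor {G : Type*} [Group G] [Fintype G] {U₁ U₂ : Subgroup G} [Fintype U₁]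
    (hcomm : ∀ u ∈ U₁, ∀ v ∈ U₂, u * v = v * u)
    (hdec : ∀ g : G, ∃ u ∈ U₁, ∃ v ∈ U₂, u * v = g) (χ : Cfsg.IrrCharacter G)
    (ψ : Cfsg.IrrCharacter U₁)
    (h : Cfsg.classInner (fun u : U₁ => (χ : G → ℂ) u) (ψ : U₁ → ℂ) ≠ 0) (u : U₁) :
    Cfsg.centralChar (χ : G → ℂ) (u : G) = Cfsg.centralChar (ψ : U₁ → ℂ) u := by
  have hn : U₁.Normal := ⟨fun a ha g => by
    obtain ⟨w, -, hw⟩ :=
      (isConj_subgroup_iff hcomm hdec ⟨a, ha⟩ (g * a * g⁻¹)).mp (isConj_iff.mpr ⟨g, rfl⟩)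
    exact hw ▸ w.2⟩
  have hinv : ∀ g : G, Clifford.conjFun g (ψ : U₁ → ℂ) = (ψ : U₁ → ℂ) := by
    intro g
    funext a
    obtain ⟨w, hw, hwe⟩ :=
      (isConj_subgroup_iff hcomm hdec a (g * a * g⁻¹)).mp (isConj_iff.mpr ⟨g, rfl⟩)
    show (ψ : U₁ → ℂ) ⟨g * a * g⁻¹, _⟩ = _
    rw [← Chars.isClassFunction_apply_eq (Chars.irr_isClassFunction ψ) hw]
    exact congrArg (ψ : U₁ → ℂ) (Subtype.ext hwe.symm)
  have hres := Clifford.resFun_eq_smul_of_invariant χ.2 ψ.2 h hinv
  have h1 := congrFun hres u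
  have h2 := congrFun hres 1
  simp only [Clifford.resFun_apply, Pi.smul_apply, smul_eq_mul, OneMemClass.coe_one] at h1 h2
  rw [Cfsg.centralChar, Cfsg.centralChar, index_subgroup_eq hcomm hdec, h1, h2]
  have hψ := Chars.irr_apply_one_ne_zero ψ
  have hm : Cfsg.classInner (Clifford.resFun U₁ (χ : G → ℂ)) (ψ : U₁ → ℂ) ≠ 0 := h
  field_simp

/-- Let the finite group G be generated by subgroups U₁ and U₂ that commute elementwise and whose intersection is a p-group, and let M be a maximal ideal of the algebraic integers containing the prime p. If the irreducible character χ of G has the irreducible constituents ψ₁ on U₁ and ψ₂ on U₂, then χ lies in the principal block of G if and only if ψ₁ and ψ₂ lie in the principal blocks of U₁ and U₂. -/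
theorem result {G : Type*} [Group G] [Fintype G] (p : ℕ) [Fact p.Prime] (M : Ideal Cfsg.AlgInt) (hM : Cfsg.IsPModular p M) (U₁ U₂ : Subgroup G) [Fintype U₁] [Fintype U₂] (hcomm : ∀ u ∈ U₁, ∀ v ∈ U₂, u * v = v * u) (hgen : U₁ ⊔ U₂ = ⊤) (hZ : IsPGroup p ↥(U₁ ⊓ U₂)) (χ : Cfsg.IrrCharacter G) (ψ₁ : Cfsg.IrrCharacter U₁) (ψ₂ : Cfsg.IrrCharacter U₂) (h₁ : Cfsg.classInner (fun u : U₁ => (χ : G → ℂ) u) (ψ₁ : U₁ → ℂ) ≠ 0) (h₂ : Cfsg.classInner (fun u : U₂ => (χ : G → ℂ) u) (ψ₂ : U₂ → ℂ) ≠ 0) : χ ∈ Cfsg.principalBlock M G ↔ (ψ₁ ∈ Cfsg.principalBlock M U₁ ∧ ψ₂ ∈ Cfsg.principalBlock M U₂) := by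
  classical
  have : M.IsPrime := isPModular_isPrime hM
  have hnorm : ∀ g : G, ∃ u ∈ U₁, ∃ v ∈ U₂, u * v = g := by
    let S : Subgroup G :=
      { carrier := {g | ∃ u ∈ U₁, ∃ v ∈ U₂, u * v = g}
        one_mem' := ⟨1, U₁.one_mem, 1, U₂.one_mem, one_mul 1⟩
        mul_mem' := by
          rintro _ _ ⟨a, ha, b, hb, rfl⟩ ⟨c, hc, d, hd, rfl⟩
          refine ⟨a * c, U₁.mul_mem ha hc, b * d, U₂.mul_mem hb hd, ?_⟩
          calc a * c * (b * d) = a * (c * b) * d := by group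
            _ = a * b * (c * d) := by rw [hcomm c hc b hb]; group
        inv_mem' := by
          rintro _ ⟨a, ha, b, hb, rfl⟩
          exact ⟨a⁻¹, U₁.inv_mem ha, b⁻¹, U₂.inv_mem hb,
            by rw [hcomm _ (U₁.inv_mem ha) _ (U₂.inv_mem hb), ← mul_inv_rev]⟩ }
    intro g
    have hle : U₁ ⊔ U₂ ≤ S := sup_le (fun a ha => ⟨a, ha, 1, U₂.one_mem, mul_one a⟩)
      (fun b hb => ⟨1, U₁.one_mem, b, hb, one_mul b⟩)
    exact hle (hgen ▸ Subgroup.mem_top g)
  have hnorm₂ : ∀ g : G, ∃ v ∈ U₂, ∃ u ∈ U₁, v * u = g := by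
    intro g
    obtain ⟨a, ha, b, hb, rfl⟩ := hnorm g
    exact ⟨b, hb, a, ha, (hcomm a ha b hb).symm⟩
  have hcomm₂ : ∀ v ∈ U₂, ∀ u ∈ U₁, v * u = u * v := fun v hv u hu => (hcomm u hu v hv).symm
  have e₁ := centralChar_factor hcomm hnorm χ ψ₁ h₁
  have e₂ := centralChar_factor hcomm₂ hnorm₂ χ ψ₂ h₂
  constructor
  · intro hχ
    refine ⟨fun u => ?_, fun v => ?_⟩
    · have := hχ (u : G)
      rwa [centralChar_trivial, index_subgroup_eq hcomm hnorm, ← centralChar_trivial, e₁] at this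
    · have := hχ (v : G)
      rwa [centralChar_trivial, index_subgroup_eq hcomm₂ hnorm₂, ← centralChar_trivial, e₂] at this
  rintro ⟨hψ₁, hψ₂⟩ g
  obtain ⟨u, hu, v, hv, rfl⟩ := hnorm g
  by_cases hz : ∃ z ∈ U₁ ⊓ U₂, z ≠ 1 ∧ IsConj (u * v) (u * v * z)
  · obtain ⟨z, hzZ, hz1, hzc⟩ := hz
    have hzcen : ∀ w ∈ U₁ ⊓ U₂, w ∈ Subgroup.center G := by
      intro w hw
      rw [Subgroup.mem_center_iff]
      intro h
      obtain ⟨a, ha, b, hb, rfl⟩ := hnorm h
      have hwa : w * a = a * w := (hcomm a ha w hw.2).symm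
      have hwb : w * b = b * w := hcomm w hw.1 b hb
      calc a * b * w = a * (w * b) := by rw [hwb, mul_assoc]
        _ = w * (a * b) := by rw [← mul_assoc, ← hwa, mul_assoc]
    -- a power of order `p` still fixes the class
    obtain ⟨k, hk⟩ := IsPGroup.iff_orderOf.mp hZ ⟨z, hzZ⟩
    rw [Subgroup.orderOf_mk] at hk
    have hk0 : k ≠ 0 := by
      rintro rfl
      rw [pow_zero, orderOf_eq_one_iff] at hk
      exact hz1 hk
    set y := z ^ p ^ (k - 1) with hy
    have hyo : orderOf y = p := by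
      rw [hy, orderOf_pow' _ (pow_pos (Fact.out : p.Prime).pos _).ne', hk,
        Nat.gcd_eq_right (pow_dvd_pow p (Nat.sub_le k 1)),
        Nat.pow_div (Nat.sub_le k 1) (Fact.out : p.Prime).pos,
        show k - (k - 1) = 1 by omega, pow_one]
    have hpow : ∀ j : ℕ, IsConj (u * v) (u * v * z ^ j) := by
      intro j
      induction j with
      | zero => rw [pow_zero, mul_one]
      | succ j ih =>
        obtain ⟨c, hc⟩ := isConj_iff.mp ih
        refine hzc.trans (isConj_iff.mpr ⟨c, ?_⟩)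
        have hzc' := Subgroup.mem_center_iff.mp (hzcen z hzZ) c⁻¹
        calc c * (u * v * z) * c⁻¹ = c * (u * v) * (z * c⁻¹) := by group
          _ = c * (u * v) * c⁻¹ * z := by rw [← hzc']; group
          _ = u * v * z ^ (j + 1) := by rw [hc, pow_succ]; group
    have hycen : y ∈ Subgroup.center G := hzcen y (pow_mem hzZ _)
    exact memLocalIdeal_sub
      (centralChar_mem_of_translate hM hycen hyo (hpow _) (Chars.trivialIrr G))
      (centralChar_mem_of_translate hM hycen hyo (hpow _) χ)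
  · push Not at hz
    have hbij : Nat.card {x : G // IsConj (u * v) x} =
        Nat.card {x : U₁ // IsConj ⟨u, hu⟩ x} * Nat.card {x : U₂ // IsConj ⟨v, hv⟩ x} := by
      rw [← Nat.card_prod]
      have hmem : ∀ q : {x : U₁ // IsConj ⟨u, hu⟩ x} × {x : U₂ // IsConj ⟨v, hv⟩ x},
          IsConj (u * v) ((q.1.1 : G) * (q.2.1 : G)) := by
        rintro ⟨⟨a, ha⟩, ⟨b, hb⟩⟩
        obtain ⟨c, rfl⟩ := isConj_iff.mp ha
        obtain ⟨d, rfl⟩ := isConj_iff.mp hb
        refine isConj_iff.mpr ⟨(c : G) * d, ?_⟩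
        push_cast
        calc (c : G) * d * (u * v) * ((c : G) * d)⁻¹
            = (c : G) * ((d : G) * u) * v * (d : G)⁻¹ * (c : G)⁻¹ := by group
          _ = (c : G) * u * (((d : G) * v * (d : G)⁻¹) * (c : G)⁻¹) := by
            rw [hcomm₂ d d.2 u hu]; group
          _ = (c : G) * u * (c : G)⁻¹ * ((d : G) * v * (d : G)⁻¹) := by
            rw [hcomm₂ _ (U₂.mul_mem (U₂.mul_mem d.2 hv) (U₂.inv_mem d.2)) _ (U₁.inv_mem c.2)]
            group
      refine (Nat.card_eq_of_bijective (fun q => (⟨_, hmem q⟩ : {x : G // IsConj (u * v) x}))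
        ⟨?_, ?_⟩).symm
      · rintro ⟨⟨a, ha⟩, ⟨b, hb⟩⟩ ⟨⟨a', ha'⟩, ⟨b', hb'⟩⟩ h
        have h' : (a : G) * b = (a' : G) * b' := congrArg Subtype.val h
        set z : G := (a : G)⁻¹ * a' with hzdef
        have hzU : z ∈ U₁ ⊓ U₂ := by
          refine ⟨U₁.mul_mem (U₁.inv_mem a.2) a'.2, ?_⟩
          have : z = (b : G) * (b' : G)⁻¹ := by
            rw [hzdef, eq_mul_inv_iff_mul_eq, mul_assoc, ← h', inv_mul_cancel_left]
          rw [this]
          exact U₂.mul_mem b.2 (U₂.inv_mem b'.2)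
        have hz1 : z = 1 := by
          by_contra hne
          apply hz z hzU hne
          have hc1 := hmem (⟨a, ha⟩, ⟨b, hb⟩)
          obtain ⟨c, hc⟩ := isConj_iff.mp hc1
          have hc' : c * (u * v) * c⁻¹ = (a : G) * b := hc
          have hzc : z * c⁻¹ = c⁻¹ * z := by
            obtain ⟨x, hx, y, hy, hxy⟩ := hnorm c⁻¹
            rw [← hxy]
            calc z * (x * y) = (z * x) * y := by group
              _ = x * (z * y) := by rw [← hcomm x hx z hzU.2]; group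
              _ = x * y * z := by rw [hcomm z hzU.1 y hy]; group
          have h3 : IsConj (u * v * z) ((a' : G) * b) := by
            refine isConj_iff.mpr ⟨c, ?_⟩
            calc c * (u * v * z) * c⁻¹ = c * (u * v) * (z * c⁻¹) := by group
              _ = (a : G) * b * z := by rw [hzc, ← hc']; group
              _ = (a : G) * z * b := by rw [mul_assoc, ← hcomm z hzU.1 _ b.2, ← mul_assoc]
              _ = (a' : G) * b := by rw [hzdef, mul_inv_cancel_left]
          exact (hmem (⟨a', ha'⟩, ⟨b, hb⟩)).trans h3.symm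
        have haa : a = a' := Subtype.ext (inv_mul_eq_one.mp hz1)
        subst haa
        have hbb : b = b' := Subtype.ext (mul_left_cancel h')
        subst hbb
        rfl
      · rintro ⟨x, hx⟩
        obtain ⟨c, rfl⟩ := isConj_iff.mp hx
        obtain ⟨a, ha, b, hb, rfl⟩ := hnorm c
        refine ⟨⟨⟨⟨a, ha⟩ * ⟨u, hu⟩ * ⟨a, ha⟩⁻¹, isConj_iff.mpr ⟨_, rfl⟩⟩,
          ⟨⟨b, hb⟩ * ⟨v, hv⟩ * ⟨b, hb⟩⁻¹, isConj_iff.mpr ⟨_, rfl⟩⟩⟩, Subtype.ext ?_⟩
        push_cast
        calc a * u * a⁻¹ * (b * v * b⁻¹) = a * u * (a⁻¹ * (b * v * b⁻¹)) := by group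
          _ = a * (u * b) * v * (b⁻¹ * a⁻¹) := by
            rw [hcomm a⁻¹ (U₁.inv_mem ha) _ (U₂.mul_mem (U₂.mul_mem hb hv) (U₂.inv_mem hb))]
            group
          _ = a * b * (u * v) * (a * b)⁻¹ := by rw [hcomm u hu b hb]; group
    have hidx : (Subgroup.centralizer ({u * v} : Set G)).index =
        (Subgroup.centralizer ({(⟨u, hu⟩ : U₁)} : Set U₁)).index *
          (Subgroup.centralizer ({(⟨v, hv⟩ : U₂)} : Set U₂)).index := by
      rw [← natCard_isConj, ← natCard_isConj, ← natCard_isConj, hbij]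
    have hprod : Cfsg.centralChar (χ : G → ℂ) (u * v) =
        Cfsg.centralChar (ψ₁ : U₁ → ℂ) ⟨u, hu⟩ * Cfsg.centralChar (ψ₂ : U₂ → ℂ) ⟨v, hv⟩ := by
      rw [← e₁, ← e₂]
      simp only [Cfsg.centralChar]
      rw [index_subgroup_eq hcomm hnorm ⟨u, hu⟩, index_subgroup_eq hcomm₂ hnorm₂ ⟨v, hv⟩, hidx]
      have hne := Chars.irr_apply_one_ne_zero χ
      have := char_mul_of_commuting U₁ U₂ hcomm hgen χ hu hv
      push_cast
      field_simp
      linear_combination ((Subgroup.centralizer ({(⟨u, hu⟩ : U₁)} : Set U₁)).index : ℂ) *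
        ((Subgroup.centralizer ({(⟨v, hv⟩ : U₂)} : Set U₂)).index : ℂ) * this
    rw [centralChar_trivial, hidx, hprod]
    push_cast
    have a1 := hψ₁ ⟨u, hu⟩
    have a2 := hψ₂ ⟨v, hv⟩
    rw [centralChar_trivial] at a1 a2
    have key := memLocalIdeal_add
      (memLocalIdeal_mul_right a1 (mem_localRing.mp (natCast_mem_localRing
        (Subgroup.centralizer ({(⟨v, hv⟩ : U₂)} : Set U₂)).index)))
      (memLocalIdeal_mul_left (memLocalRing_centralChar M ψ₁ ⟨u, hu⟩) a2)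
    convert key using 1
    ring

end Cfsg.Agent.S4521
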