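import Cfsg.Statements.S4530
import Cfsg.Agent.Lib.MaxClassDefect.Main
import Cfsg.Agent.Lib.MaxClassDefect.Exists

set_option autoImplicit false
open Cfsg

namespace Cfsg.Agent.S4530

/-- Let B be a 2-block of the finite group G (relative to a maximal ideal M of the algebraic integers containing 2) whose defect group D is generalized quaternion of order 2 ^ n, n ≥ 3. Then its 2-regular rank l is between 1 and 3, the number of irreducible characters in B is l + 2 ^ (n - 2) + 2, exactly four members have height zero, and every other member has height one or height n - 2; when n ≥ 4 exactly 2 ^ (n - 2) - 1 members have height one. -/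
theorem result {G : Type*} [Group G] [Finite G] (M : Ideal Cfsg.AlgInt) (hM : Cfsg.IsPModular 2 M) (B : Set (Cfsg.IrrCharacter G)) (hB : Cfsg.IsPBlock M B) (D : Subgroup G) (hD : Cfsg.IsDefectGroup 2 M B D) (n : ℕ) (hn : 3 ≤ n) (hq : Nonempty (D ≃* QuaternionGroup (2 ^ (n - 2)))) : 1 ≤ Cfsg.blockRank 2 B ∧ Cfsg.blockRank 2 B ≤ 3 ∧ Nat.card B = Cfsg.blockRank 2 B + 2 ^ (n - 2) + 2 ∧ Nat.card {χ : Cfsg.IrrCharacter G // χ ∈ B ∧ Cfsg.blockHeight 2 B (χ : G → ℂ) = 0} = 4 ∧ (∀ χ ∈ B, Cfsg.blockHeight 2 B (χ : G → ℂ) = 0 ∨ Cfsg.blockHeight 2 B (χ : G → ℂ) = 1 ∨ Cfsg.blockHeight 2 B (χ : G → ℂ) = n - 2) ∧ (4 ≤ n → Nat.card {χ : Cfsg.IrrCharacter G // χ ∈ B ∧ Cfsg.blockHeight 2 B (χ : G → ℂ) = 1} = 2 ^ (n - 2) - 1) := by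
  haveI := Fintype.ofFinite G
  haveI : Fact (Nat.Prime 2) := ⟨Nat.prime_two⟩
  haveI : M.IsPrime := hM.2.1.isPrime
  obtain ⟨e, he⟩ := Cfsg.Agent.Lib.NilBlock.exists_maximal hM hB hD
  obtain ⟨x, y, a, hmc, hy⟩ := Cfsg.Agent.Lib.MaxClassDefect.exists_quaternion hn hq
  have A : Cfsg.Agent.Lib.MaxClassDefect.Setting M B ⟨D, e⟩ x y (2 ^ (n - 2)) a := ⟨hM, he, hmc⟩
  obtain ⟨h1, h2, h3⟩ := A.quaternion_invariants hy
  obtain ⟨X, -, -, -, h0, hone, hall⟩ := A.census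
  refine ⟨h1, h2, h3, h0, fun χ hχ => (hall χ hχ).imp id
    (Or.imp id fun h => Nat.pow_right_injective le_rfl h), fun h4 => hone ?_⟩
  have : 4 ≤ 2 ^ (n - 2) :=
    le_trans (by norm_num) (Nat.pow_le_pow_right (by norm_num) (show 2 ≤ n - 2 by omega))
  omega

end Cfsg.Agent.S4530
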