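import Cfsg.Statements.S4531
import Cfsg.Agent.Lib.TameRankThree.Centre
import Cfsg.Agent.Lib.TameRankThree.Rank

set_option autoImplicit false
open Cfsg

namespace Cfsg.Agent.S4531

/-- Let the finite group G have a 2-block B (relative to a maximal ideal M of the algebraic integers containing 2) of 2-regular rank three (three irreducible Brauer characters) whose defect group D is dihedral of order 2 ^ n with n ≥ 3 or semidihedral. Then the centre of G has odd order and G is not solvable. -/
theorem result {G : Type*} [Group G] [Finite G] (M : Ideal Cfsg.AlgInt) (hM : Cfsg.IsPModular 2 M) (B : Set (Cfsg.IrrCharacter G)) (hB : Cfsg.IsPBlock M B) (D : Subgroup G) (hD : Cfsg.IsDefectGroup 2 M B D) (hD' : (∃ n : ℕ, 3 ≤ n ∧ Nonempty (D ≃* DihedralGroup (2 ^ (n - 1)))) ∨ Cfsg.IsQuasiDihedral D) (hl : Cfsg.blockRank 2 B = 3) : Odd (Nat.card (Subgroup.center G)) ∧ ¬ Group.IsSolvable G := by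
  haveI : Fintype G := Fintype.ofFinite G
  haveI : Fact (Nat.Prime 2) := ⟨Nat.prime_two⟩
  haveI : M.IsPrime := hM.2.1.isPrime
  refine ⟨?_, fun hs => ?_⟩
  · rw [Nat.odd_iff]
    by_contra hodd
    have h2 : 2 ∣ Nat.card (Subgroup.center G) := by omega
    obtain ⟨z, hz⟩ := exists_prime_orderOf_dvd_card' 2 h2
    rw [← Subgroup.orderOf_coe] at hz
    rcases hD' with ⟨n, hn, he⟩ | hSD
    · obtain ⟨σ, τ, hDih⟩ := Cfsg.Agent.Lib.DihedralDefect.exists_dih hn he
      have := Cfsg.Agent.Lib.TameRankThree.rank_le_two_dihedral hM hB hD hDih z.2 hz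
      omega
    · have := Cfsg.Agent.Lib.TameRankThree.rank_le_two_semidihedral hM hB hD hSD z.2 hz
      omega
  · have := Cfsg.Agent.Lib.TameRankThree.rank_le_two_of_solvable _ G M hM B hB D hD hD' hs rfl
    omega

end Cfsg.Agent.S4531
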