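import Cfsg.Statements.S4540
import Cfsg.Agent.Lib.Contrib.HeightBound

set_option autoImplicit false
open Cfsg
open Cfsg.Agent.Lib

namespace Cfsg.Agent.S4540

/-- Let B be a 2-block of the finite group G (relative to a maximal ideal M of the algebraic integers containing 2) of defect d with defect group D. Let z be an element of D commuting with every element of D, and let b be a block of the centralizer C of z with defect group D that induces B (a major subsection (z, b)). If b has 2-regular rank at most three, then 3·k(B) ≤ 3·k₀(B) + 2·Σ 2 ^ h(χ), where k(B) is the number of members of B, k₀(B) the number of members of height zero, and the sum runs over the members χ of B of positive height h(χ); this bound is at most 3·2 ^ d, so in particular B contains at most 2 ^ d irreducible characters. -/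
theorem result {G : Type*} [Group G] [Finite G] (M : Ideal Cfsg.AlgInt) (hM : Cfsg.IsPModular 2 M) (B : Set (Cfsg.IrrCharacter G)) (hB : Cfsg.IsPBlock M B) (D : Subgroup G) (hD : Cfsg.IsDefectGroup 2 M B D) (z : G) (hzD : z ∈ D) (hzc : ∀ d ∈ D, d * z = z * d) (b : Set (Cfsg.IrrCharacter ↥(Subgroup.centralizer ({z} : Set G)))) (hb : Cfsg.IsInducedBlock M (Subgroup.centralizer ({z} : Set G)) b B) (hbD : Cfsg.IsDefectGroup 2 M b (D.subgroupOf (Subgroup.centralizer ({z} : Set G)))) (hl : Cfsg.blockRank 2 b ≤ 3) : 3 * Nat.card B ≤ 3 * Nat.card {χ : Cfsg.IrrCharacter G // χ ∈ B ∧ Cfsg.blockHeight 2 B (χ : G → ℂ) = 0} + 2 * (∑ᶠ χ ∈ {χ : Cfsg.IrrCharacter G | χ ∈ B ∧ 1 ≤ Cfsg.blockHeight 2 B (χ : G → ℂ)}, 2 ^ Cfsg.blockHeight 2 B (χ : G → ℂ)) ∧ 3 * Nat.card {χ : Cfsg.IrrCharacter G // χ ∈ B ∧ Cfsg.blockHeight 2 B (χ : G → ℂ) = 0} + 2 * (∑ᶠ χ ∈ {χ : Cfsg.IrrCharacter G | χ ∈ B ∧ 1 ≤ Cfsg.blockHeight 2 B (χ : G → ℂ)}, 2 ^ Cfsg.blockHeight 2 B (χ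 : G → ℂ)) ≤ 3 * 2 ^ Cfsg.blockDefect 2 B := by
  classical
  have := Blocks.isPModular_isPrime hM
  obtain ⟨⟨j, hj⟩, hmaj⟩ := Lib.Contrib.exists_orderOf_of_central hM hB hD hzD hzc hb.1 hbD
  cases nonempty_fintype G
  cases nonempty_fintype (Subgroup.centralizer ({z} : Set G))
  have hmain := Lib.Contrib.major_height_bound hM hj rfl hb hmaj hl
  set S₀ := B.toFinset.filter fun χ : IrrCharacter G => blockHeight 2 B (χ : G → ℂ) = 0 with hS₀
  set S₁ := B.toFinset.filter fun χ : IrrCharacter G => ¬ blockHeight 2 B (χ : G → ℂ) = 0 with hS₁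
  have h0 : Nat.card {χ : IrrCharacter G // χ ∈ B ∧ blockHeight 2 B (χ : G → ℂ) = 0} = S₀.card := by
    rw [Nat.card_eq_fintype_card]
    exact Fintype.card_of_subtype S₀ fun χ => by simp [hS₀]
  have h1 : (∑ᶠ χ ∈ {χ : IrrCharacter G | χ ∈ B ∧ 1 ≤ blockHeight 2 B (χ : G → ℂ)},
      2 ^ blockHeight 2 B (χ : G → ℂ)) = ∑ χ ∈ S₁, 2 ^ blockHeight 2 B (χ : G → ℂ) :=
    finsum_mem_eq_sum_of_subset _
      (fun χ hχ => by
        simp only [hS₁, Finset.coe_filter, Set.mem_toFinset, Set.mem_setOf_eq] at hχ ⊢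
        exact ⟨hχ.1.1, by have := hχ.1.2; omega⟩)
      (fun χ hχ => by
        simp only [hS₁, Finset.coe_filter, Set.mem_toFinset, Set.mem_setOf_eq] at hχ ⊢
        exact ⟨hχ.1, by omega⟩)
  rw [h0, h1]
  refine ⟨?_, hmain⟩
  have hcard : Nat.card B = S₀.card + S₁.card := by
    rw [Nat.card_eq_card_toFinset, hS₀, hS₁, Finset.card_filter_add_card_filter_not]
  have h2 : ∑ _χ ∈ S₁, 3 ≤ ∑ χ ∈ S₁, 2 * 2 ^ blockHeight 2 B (χ : G → ℂ) :=
    Finset.sum_le_sum fun χ hχ => by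
      rw [hS₁, Finset.mem_filter] at hχ
      have : 2 ≤ 2 ^ blockHeight 2 B (χ : G → ℂ) := Nat.le_self_pow hχ.2 2
      omega
  rw [Finset.sum_const, smul_eq_mul, ← Finset.mul_sum] at h2
  omega

end Cfsg.Agent.S4540
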