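import Cfsg.Statements.S4711
import Mathlib
import Cfsg.Agent.Lib.BlockUnion.Cover
import Cfsg.Agent.Lib.BrauerMap.Principal
import Cfsg.Agent.Lib.Blocks.NilKernel
import Cfsg.Agent.Lib.OddMax.Sec10.PLength
import Cfsg.Agent.Lib.Components.PElement

set_option autoImplicit false
open Cfsg

namespace Cfsg.Agent.S4711

open Cfsg.Agent.Lib Cfsg.Agent.Lib.Blocks MonoidAlgebra
open scoped Classical ComplexConjugate

universe u

variable {L : Type u} [Group L] [Fintype L]

/-- The sum of the members of `B`, weighted by their degrees. -/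
noncomputable def blockChar (B : Set (IrrCharacter L)) (g : L) : ℂ :=
  ∑ ψ : IrrCharacter L, if ψ ∈ B then (ψ : L → ℂ) 1 * (ψ : L → ℂ) g else 0

theorem blockChar_eq_coeff (B : Set (IrrCharacter L)) (g : L) :
    blockChar B g = (Nat.card L : ℂ) * blockCoeff B g⁻¹ := by
  rw [blockCoeff_eq_sum, ← mul_assoc, mul_inv_cancel₀ Chars.natCard_ne_zero, one_mul, blockChar]
  refine Finset.sum_congr rfl fun ψ _ => ?_
  rw [Chars.irr_inv, Complex.conj_conj]

theorem blockChar_conj (B : Set (IrrCharacter L)) (g h : L) :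
    blockChar B (h * g * h⁻¹) = blockChar B g := by
  refine Finset.sum_congr rfl fun ψ _ => ?_
  rw [Chars.irr_isClassFunction ψ g h]

theorem blockChar_comm (B : Set (IrrCharacter L)) (g h : L) :
    blockChar B (g * h) = blockChar B (h * g) := by
  rw [← blockChar_conj B (h * g) g]
  congr 1
  group

theorem blockChar_inv (B : Set (IrrCharacter L)) (g : L) :
    blockChar B g⁻¹ = conj (blockChar B g) := by
  rw [blockChar, blockChar, map_sum]
  refine Finset.sum_congr rfl fun ψ _ => ?_
  obtain ⟨d, -, hd⟩ := Chars.isIrrCharacter_exists_degree_pos ψ.2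
  rw [apply_ite conj, map_mul, map_zero, hd, map_natCast, Chars.irr_inv]

theorem coeff_mul_eq_sum {k : Type*} [CommRing k] (x y : MonoidAlgebra k L) (g : L) :
    (x * y).coeff g = ∑ z : L, x.coeff z * y.coeff (z⁻¹ * g) := by
  induction x using MonoidAlgebra.induction_linear with
  | zero => simp
  | add a b ha hb => simp [add_mul, ha, hb, Finset.sum_add_distrib]
  | single m r =>
    rw [coeff_single_mul_apply, Finset.sum_eq_single m]
    · simp
    · intro z _ hz; simp [Finsupp.single_apply, Ne.symm hz]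
    · simp

/-- The weighted sum of a union of blocks is idempotent for convolution. -/
theorem blockChar_conv (B : Set (IrrCharacter L)) (a b : L) :
    ∑ z : L, blockChar B (a * z) * blockChar B (z⁻¹ * b) =
      (Nat.card L : ℂ) * blockChar B (a * b) := by
  have hidem : idemC B * idemC B = idemC B := by
    refine eq_of_omega_eq (mul_mem (idemC_mem_center B) (idemC_mem_center B)) (idemC_mem_center B)
      fun χ => ?_
    rw [omega_mul χ (idemC_mem_center B), omega_idemC]
    split_ifs <;> simp
  have hs : ∀ g : L, ∑ w : L, blockCoeff B w * blockCoeff B (w⁻¹ * g) = blockCoeff B g := by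
    intro g
    have := congrArg (fun t => t.coeff g) hidem
    simpa [coeff_mul_eq_sum, idemC] using this
  rw [blockChar_eq_coeff B (a * b), ← hs]
  simp only [Finset.mul_sum]
  refine Fintype.sum_equiv (Equiv.mulLeft b⁻¹) _ _ fun z => ?_
  simp only [blockChar_eq_coeff, Equiv.coe_mulLeft, mul_inv_rev, inv_inv, mul_assoc,
    mul_inv_cancel_left]
  ring

theorem isCharacter_blockChar (B : Set (IrrCharacter L)) : IsCharacter L (blockChar B) := by
  have h : blockChar B = ∑ ψ : IrrCharacter L,
      (((if ψ ∈ B then charDegree (ψ : L → ℂ) else 0 : ℕ) : ℂ) • (ψ : L → ℂ)) := by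
    funext g
    simp only [blockChar, Finset.sum_apply, Pi.smul_apply, smul_eq_mul]
    refine Finset.sum_congr rfl fun ψ _ => ?_
    obtain ⟨d, -, hd⟩ := Chars.isIrrCharacter_exists_degree_pos ψ.2
    split_ifs
    · rw [charDegree, hd, Complex.natCast_re, Nat.floor_natCast]
    · simp
  rw [h]
  exact Chars.isCharacter_sum_irr _

theorem norm_le_degree {H : Type*} [Group H] [Finite H] {χ : H → ℂ} (h : IsCharacter H χ) (y : H) :
    ‖χ y‖ ≤ (χ 1).re := by
  obtain ⟨n, ρ, rfl⟩ := h
  have := Chars.norm_char_le ρ y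
  rw [Representation.char_one]
  simpa using this

theorem dvd_of_div_mem_ideal {p : ℕ} [Fact p.Prime] {M : Ideal AlgInt} [M.IsPrime]
    (hM : IsPModular p M) : ∀ (a t : ℕ), MemLocalIdeal M ((t : ℂ) / ((p ^ a : ℕ) : ℂ)) →
      p ^ (a + 1) ∣ t
  | 0, t, h => by
    simpa using (memLocalIdeal_natCast_iff hM t).1 (by simpa using h)
  | a + 1, t, h => by
    have hp : (p : ℂ) ≠ 0 := Nat.cast_ne_zero.2 (Fact.out : p.Prime).ne_zero
    have h1 : MemLocalIdeal M ((t : ℂ) / ((p ^ a : ℕ) : ℂ)) := by
      have e : (t : ℂ) / ((p ^ a : ℕ) : ℂ) = (p : ℂ) * ((t : ℂ) / ((p ^ (a + 1) : ℕ) : ℂ)) := by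
        push_cast
        field_simp
        ring
      rw [e]
      exact memLocalIdeal_mul_left (mem_localRing.1 (natCast_mem_localRing p)) h
    obtain ⟨c, rfl⟩ := dvd_of_div_mem_ideal hM a t h1
    have e : (((p ^ (a + 1) * c : ℕ) : ℂ)) / ((p ^ (a + 1) : ℕ) : ℂ) = (c : ℂ) := by
      push_cast
      field_simp
    rw [e] at h
    obtain ⟨d, rfl⟩ := (memLocalIdeal_natCast_iff hM c).1 h
    exact ⟨d, by ring⟩

/-- If the weighted sum of a block is as small as a `p`-subgroup allows, the block is trivial
on the `p`-regular elements. -/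
theorem blockChar_eq_one {p : ℕ} [hp : Fact p.Prime] {M : Ideal AlgInt} [M.IsPrime]
    (hM : IsPModular p M) {B : Set (IrrCharacter L)} (hB : IsPBlock M B)
    (htriv : Chars.trivialIrr L ∈ B) (Q : Subgroup L) (hQ : IsPGroup p Q)
    (hdeg : blockChar B 1 = (Nat.card Q : ℂ)) {y : L} (hy : ¬ p ∣ orderOf y) :
    blockChar B y = blockChar B 1 := by
  set f := blockChar B with hf
  set q : ℂ := (Nat.card Q : ℂ) with hq
  set n : ℂ := (Nat.card L : ℂ) with hn
  have hn0 : n ≠ 0 := Chars.natCard_ne_zero
  have hq0 : q ≠ 0 := Chars.natCard_ne_zero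
  have hQf : ∀ u : Q, f u = if u = 1 then q else 0 := by
    intro u
    split_ifs with h
    · subst h; simpa using hdeg
    · rw [hf, blockChar_eq_coeff, blockCoeff_eq_zero_of_pSingular hM hB, mul_zero]
      rw [orderOf_inv, orderOf_submonoid]
      obtain ⟨j, hj⟩ := (IsPGroup.iff_orderOf.1 hQ) u
      rw [hj]
      refine dvd_pow_self p ?_
      rintro rfl
      exact h (orderOf_eq_one_iff.1 (by simpa using hj))
  have hloc : ∀ g : L, f g / q ∈ localRing M := by
    intro g
    rw [hf, blockChar_eq_coeff, mul_div_right_comm]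
    refine Subring.mul_mem _ ?_ (mem_localRing.2 (memLocalRing_blockCoeff hB _))
    obtain ⟨c, hc⟩ := Q.card_subgroup_dvd_card
    rw [hc, Nat.cast_mul, hq, mul_div_cancel_left₀ _ (Chars.natCard_ne_zero)]
    exact natCast_mem_localRing c
  have hsum : ∑ z : L, f z = n := by
    have : ∀ ψ : IrrCharacter L, ∑ g : L, (ψ : L → ℂ) g =
        if ψ = Chars.trivialIrr L then n else 0 := by
      intro ψ
      have h1 := Chars.classInner_irr ψ (Chars.trivialIrr L)
      simp only [classInner, Chars.trivialIrr_apply, map_one, mul_one] at h1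
      rw [inv_mul_eq_iff_eq_mul₀ hn0] at h1
      rw [h1]
      split_ifs <;> simp [hn]
    simp only [hf, blockChar]
    rw [Finset.sum_comm]
    rw [Finset.sum_eq_single (Chars.trivialIrr L)]
    · simp [htriv, hn, Nat.card_eq_fintype_card]
    · intro ψ _ hψ
      by_cases hψB : ψ ∈ B
      · simp only [hψB, if_true, ← Finset.mul_sum, this, if_neg hψ, mul_zero]
      · simp [hψB]
    · simp
  -- every translate is a combination of the translates by `Q`
  have key : ∀ a b : L, q * f (a⁻¹ * b) =
      ∑ x : Q, f (a⁻¹ * x) * f ((x : L)⁻¹ * b) := by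
    have hconv : ∀ a b : L, ∑ z : L, f (a * z) * f (z⁻¹ * b) = n * f (a * b) :=
      fun a b => blockChar_conv B a b
    set S : L → ℂ := fun a => ∑ x : Q, f (a⁻¹ * x) * f ((x : L)⁻¹ * a) with hS
    set D : L → L → ℂ := fun a b => q * f (a⁻¹ * b) - ∑ x : Q, f (a⁻¹ * x) * f ((x : L)⁻¹ * b)
      with hD
    have hqc : conj q = q := map_natCast _ _
    have hconj : ∀ a b : L, conj (D a b) =
        q * f (b⁻¹ * a) - ∑ x : Q, f (b⁻¹ * x) * f ((x : L)⁻¹ * a) := by
      intro a b
      have hinv : ∀ c d : L, conj (f (c⁻¹ * d)) = f (d⁻¹ * c) := fun c d => by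
        rw [hf, ← blockChar_inv, mul_inv_rev, inv_inv]
      simp only [hD, map_sub, map_mul, map_sum, hqc, hinv]
      congr 1
      exact Finset.sum_congr rfl fun x _ => mul_comm _ _
    have hrow : ∀ a : L, ∑ b : L, D a b * conj (D a b) = q * n * (q ^ 2 - S a) := by
      intro a
      have t1 : ∑ b : L, (q * f (a⁻¹ * b)) * (q * f (b⁻¹ * a)) = q * q * (n * q) := by
        rw [← hdeg, show f 1 = f (a⁻¹ * a) by rw [inv_mul_cancel], ← hconv, Finset.mul_sum]
        refine Finset.sum_congr rfl fun b _ => ?_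
        rw [show f (a⁻¹ * a) = q by rw [inv_mul_cancel, hdeg]]
        ring
      have t2 : ∑ b : L, (q * f (a⁻¹ * b)) * ∑ x : Q, f (b⁻¹ * x) * f ((x : L)⁻¹ * a) =
          q * n * S a := by
        simp only [hS, Finset.mul_sum]
        rw [Finset.sum_comm]
        refine Finset.sum_congr rfl fun x _ => ?_
        calc _ = q * f ((x : L)⁻¹ * a) * ∑ b : L, f (a⁻¹ * b) * f (b⁻¹ * x) := by
              rw [Finset.mul_sum]; exact Finset.sum_congr rfl fun b _ => by ring
          _ = _ := by rw [hconv]; ring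
      have t3 : ∑ b : L, (∑ x : Q, f (a⁻¹ * x) * f ((x : L)⁻¹ * b)) * (q * f (b⁻¹ * a)) =
          q * n * S a := by
        simp only [hS, Finset.mul_sum, Finset.sum_mul]
        rw [Finset.sum_comm]
        refine Finset.sum_congr rfl fun x _ => ?_
        calc _ = q * f (a⁻¹ * x) * ∑ b : L, f ((x : L)⁻¹ * b) * f (b⁻¹ * a) := by
              rw [Finset.mul_sum]; exact Finset.sum_congr rfl fun b _ => by ring
          _ = _ := by rw [hconv]; ring
      have t4 : ∑ b : L, (∑ x : Q, f (a⁻¹ * x) * f ((x : L)⁻¹ * b)) *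
          (∑ x : Q, f (b⁻¹ * x) * f ((x : L)⁻¹ * a)) = q * n * S a := by
        simp only [hS, Finset.mul_sum, Finset.sum_mul]
        rw [Finset.sum_comm]
        refine (Finset.sum_congr rfl fun x _ => Finset.sum_comm).trans ?_
        have inner : ∀ x x' : Q, ∑ b : L, f ((x : L)⁻¹ * b) * f (b⁻¹ * x') =
            if x = x' then n * q else 0 := by
          intro x x'
          rw [hconv, ← Subgroup.coe_inv, ← Subgroup.coe_mul, hQf]
          by_cases h : x = x'
          · simp [h]
          · simp [h, inv_mul_eq_one]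
        refine (Finset.sum_comm).trans (Finset.sum_congr rfl fun x' _ => ?_)
        calc _ = ∑ x : Q, f (a⁻¹ * x') * f ((x : L)⁻¹ * a) *
              ∑ b : L, f ((x' : L)⁻¹ * b) * f (b⁻¹ * x) := by
              refine Finset.sum_congr rfl fun x _ => ?_
              rw [Finset.mul_sum]
              exact Finset.sum_congr rfl fun b _ => by ring
          _ = _ := by
              simp only [inner, mul_ite, mul_zero, Finset.sum_ite_eq, Finset.mem_univ, if_true]
              ring
      simp only [hconj]
      simp only [hD, sub_mul, mul_sub, Finset.sum_sub_distrib]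
      rw [t1, t2, t3, t4]
      ring
    have hSsum : ∑ a : L, S a = q * (n * q) := by
      simp only [hS]
      rw [Finset.sum_comm]
      have : ∀ x : Q, ∑ a : L, f (a⁻¹ * x) * f ((x : L)⁻¹ * a) = n * q := by
        intro x
        rw [← hdeg, show f 1 = f ((x : L)⁻¹ * x) by rw [inv_mul_cancel], ← hconv]
        exact Finset.sum_congr rfl fun b _ => mul_comm _ _
      simp only [this, Finset.sum_const, Finset.card_univ, nsmul_eq_mul, hq,
        Nat.card_eq_fintype_card]
    have htot : ∑ a : L, ∑ b : L, D a b * conj (D a b) = 0 := by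
      simp only [hrow, ← Finset.mul_sum, Finset.sum_sub_distrib, hSsum, Finset.sum_const,
        Finset.card_univ, nsmul_eq_mul, hn, Nat.card_eq_fintype_card]
      ring
    intro a b
    simp only [Complex.mul_conj, ← Complex.ofReal_sum, Complex.ofReal_eq_zero] at htot
    have h1 := (Finset.sum_eq_zero_iff_of_nonneg
      (fun c _ => Finset.sum_nonneg fun d _ => Complex.normSq_nonneg _)).1 htot a (Finset.mem_univ _)
    have h2 := (Finset.sum_eq_zero_iff_of_nonneg (fun d _ => Complex.normSq_nonneg _)).1 h1 b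
      (Finset.mem_univ _)
    exact sub_eq_zero.1 (Complex.normSq_eq_zero.1 h2)
  let a : L → Q → localRing M := fun z x => ⟨f (z⁻¹ * x) / q, hloc _⟩
  have hcoe : ∀ z (x : Q), ((a z x : localRing M) : ℂ) = f (z⁻¹ * x) / q := fun _ _ => rfl
  have haug : ∀ z, ∑ x : Q, a z x = 1 := by
    intro z
    apply Subtype.ext
    rw [AddSubmonoidClass.coe_finsetSum, OneMemClass.coe_one]
    simp only [hcoe, ← Finset.sum_div]
    rw [div_eq_one_iff_eq hq0]
    refine mul_left_cancel₀ hn0 ?_
    have hshift : ∀ c : L, ∑ b : L, f (c * b) = n := fun c =>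
      (Fintype.sum_equiv (Equiv.mulLeft c) _ _ fun b => rfl).trans hsum
    have h := Finset.sum_congr rfl fun b (_ : b ∈ Finset.univ) => key z b
    rw [← Finset.mul_sum, hshift, Finset.sum_comm] at h
    simp only [← Finset.mul_sum, hshift] at h
    rw [← Finset.sum_mul] at h
    rw [mul_comm n, mul_comm n]
    exact h.symm
  have hmul : ∀ y z : L, ∀ x : Q, a (y * z) x = ∑ u : Q, a y u * a z (u⁻¹ * x) := by
    intro y z x
    apply Subtype.ext
    rw [AddSubmonoidClass.coe_finsetSum]
    simp only [MulMemClass.coe_mul, hcoe]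
    have hk := key z (y⁻¹ * x)
    rw [← mul_assoc, ← mul_inv_rev] at hk
    have e1 : ∑ u : Q, f (y⁻¹ * u) / q * (f (z⁻¹ * (((u⁻¹ : Q) : L) * (x : L))) / q) =
        (∑ w : Q, f (z⁻¹ * w) * f ((w : L)⁻¹ * (y⁻¹ * x))) / (q * q) := by
      rw [Finset.sum_div]
      refine Fintype.sum_equiv ((Equiv.inv Q).trans (Equiv.mulRight x)) _ _ fun u => ?_
      simp only [Equiv.trans_apply, Equiv.inv_apply, Equiv.coe_mulRight]
      rw [show f (((u⁻¹ * x : Q) : L)⁻¹ * (y⁻¹ * x)) = f (y⁻¹ * u) from ?_]
      · push_cast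
        field_simp
      · rw [hf, blockChar_comm B]
        simp only [Subgroup.coe_mul, Subgroup.coe_inv, mul_inv_rev, inv_inv]
        congr 1
        group
    rw [e1, ← hk]
    field_simp
  haveI : CharP (Residue M) p := charP_residue hM
  haveI : CharP (MonoidAlgebra (Residue M) Q) p :=
    charP_of_injective_ringHom (f := MonoidAlgebra.singleOneRingHom (R := Residue M) (M := Q))
      (fun a b h => by simpa using congrArg (fun y => y.coeff 1) h) p
  let A : L →* MonoidAlgebra (Residue M) Q :=
    { toFun := fun z => ofFun fun x => IsLocalRing.residue _ (a z x)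
      map_one' := by
        ext x
        rw [coeff_ofFun, one_def, coeff_single, Finsupp.single_apply]
        have : a 1 x = if (1 : Q) = x then 1 else 0 := by
          apply Subtype.ext
          rw [hcoe, inv_one, one_mul, hQf]
          by_cases h : x = 1
          · subst h; simp [div_self hq0]
          · simp [h, Ne.symm h]
        rw [this]
        split_ifs <;> simp
      map_mul' := fun y z => by
        ext x
        rw [coeff_ofFun, coeff_mul_eq_sum, hmul, map_sum]
        simp [coeff_ofFun] }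
  have hone : ∀ z : L, ¬ p ∣ orderOf z → A z = 1 := by
    intro z hz
    haveI : ((⊤ : Subgroup Q)).Normal := inferInstance
    have hker : mapDomainRingHom (Residue M) (QuotientGroup.mk' (⊤ : Subgroup Q)) (A z - 1) = 0 := by
      rw [map_sub, map_one, sub_eq_zero]
      ext t
      have : ∀ w : Q, QuotientGroup.mk' (⊤ : Subgroup Q) w = t := fun w => by
        induction t using QuotientGroup.induction_on with
        | H v => exact (QuotientGroup.eq).2 (Subgroup.mem_top _)
      rw [show mapDomainRingHom (Residue M) (QuotientGroup.mk' (⊤ : Subgroup Q)) (A z) =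
        MonoidAlgebra.mapDomain (QuotientGroup.mk' (⊤ : Subgroup Q)) (A z) from rfl,
        Blocks.coeff_mapDomain_eq_sum]
      simp only [this, if_true]
      show ∑ x : Q, IsLocalRing.residue _ (a z x) = _
      rw [← map_sum, haug, map_one, one_def, coeff_single, Finsupp.single_apply,
        if_pos ((this 1).symm.trans (map_one _)).symm]
    obtain ⟨m, hm⟩ := isNilpotent_of_map_eq_zero (p := p) (⊤ : Subgroup Q)
      (fun w => by
        obtain ⟨j, hj⟩ := hQ w
        exact ⟨j, Subtype.ext (by simpa using hj)⟩) hker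
    have h1 : (A z) ^ p ^ m = 1 := by
      have h0 : (A z - 1) ^ p ^ m = 0 :=
        pow_eq_zero_of_le (Nat.lt_pow_self hp.out.one_lt).le hm
      rwa [sub_pow_char_pow_of_commute _ _ (Commute.one_right _), one_pow, sub_eq_zero] at h0
    have h2 : (A z) ^ orderOf z = 1 := by rw [← map_pow, pow_orderOf_eq_one, map_one]
    have hco : Nat.gcd (p ^ m) (orderOf z) = 1 :=
      Nat.Coprime.pow_left _ ((Nat.Prime.coprime_iff_not_dvd hp.out).2 hz)
    have := pow_gcd_eq_one.2 ⟨h1, h2⟩
    rwa [hco, pow_one] at this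
  have hreg : ∀ z : L, ¬ p ∣ orderOf z → MemLocalIdeal M (f z / q - 1) := by
    intro z hz
    have h := congrArg (fun t => t.coeff 1) (hone z⁻¹ (by rwa [orderOf_inv]))
    change IsLocalRing.residue _ (a z⁻¹ 1) = _ at h
    rw [one_def, coeff_single, Finsupp.single_eq_same, ← map_one (IsLocalRing.residue (localRing M))]
      at h
    have h' := residue_eq_iff.1 h
    simpa [hcoe] using h'
  -- the cyclic subgroup of `y`
  set Y := Subgroup.zpowers y with hY
  have hfc : IsCharacter L f := isCharacter_blockChar B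
  obtain ⟨m, hm⟩ := Chars.isCharacter_classInner_nat (G := Y)
    (Chars.isCharacter_restrict Y hfc) (Chars.irr_isCharacter (Chars.trivialIrr Y))
  simp only [classInner, Chars.trivialIrr_apply, map_one, mul_one] at hm
  rw [inv_mul_eq_iff_eq_mul₀ Chars.natCard_ne_zero] at hm
  have hYreg : ∀ z : Y, ¬ p ∣ orderOf (z : L) := by
    intro z hz
    obtain ⟨i, hi⟩ := Subgroup.mem_zpowers_iff.1 z.2
    exact hy (hz.trans (orderOf_dvd_of_mem_zpowers z.2))
  have hk : ((Nat.card Y : ℕ) : ℂ) * ((m : ℂ) / q - 1) = ∑ z : Y, (f z / q - 1) := by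
    rw [Finset.sum_sub_distrib, ← Finset.sum_div, hm, Finset.sum_const, Finset.card_univ,
      nsmul_eq_mul, mul_one, Nat.card_eq_fintype_card]
    ring
  have hYu : ¬ p ∣ Nat.card Y := by rwa [Nat.card_zpowers]
  have hid : MemLocalIdeal M ((m : ℂ) / q - 1) := by
    have h1 := memLocalIdeal_mul_left
      (mem_localRing.1 (inv_natCast_mem_localRing hM hYu))
      (hk ▸ memLocalIdeal_sum Finset.univ _ fun z _ => hreg _ (hYreg z))
    rwa [← mul_assoc, inv_mul_cancel₀ Chars.natCard_ne_zero, one_mul] at h1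
  have hre : ∀ z : Y, (f z).re ≤ (Nat.card Q : ℝ) := by
    intro z
    have := (Complex.re_le_norm _).trans (norm_le_degree hfc (z : L))
    rwa [show f 1 = q from hdeg, hq, Complex.natCast_re] at this
  have hmre : (Nat.card Y : ℝ) * (m : ℝ) = ∑ z : Y, (f z).re := by
    have := congrArg Complex.re hm
    simpa [Complex.re_sum] using this.symm
  have hle : m ≤ Nat.card Q := by
    have h1 : (Nat.card Y : ℝ) * (m : ℝ) ≤ (Nat.card Y : ℝ) * (Nat.card Q : ℝ) := by
      rw [hmre]
      refine (Finset.sum_le_sum fun z _ => hre z).trans ?_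
      simp [Nat.card_eq_fintype_card]
    exact_mod_cast le_of_mul_le_mul_left h1 (by exact_mod_cast Nat.card_pos)
  obtain ⟨e, he⟩ := IsPGroup.iff_card.1 hQ
  have hmq : m = Nat.card Q := by
    have h1 : MemLocalIdeal M (((Nat.card Q - m : ℕ) : ℂ) / ((p ^ e : ℕ) : ℂ)) := by
      rw [Nat.cast_sub hle, ← he, sub_div, div_self Chars.natCard_ne_zero]
      have h0 := memLocalIdeal_neg hid
      rw [neg_sub] at h0
      exact h0
    have h2 := dvd_of_div_mem_ideal hM e _ h1
    have h3 : Nat.card Q - m = 0 := by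
      refine Nat.eq_zero_of_dvd_of_lt h2 ?_
      calc Nat.card Q - m ≤ p ^ e := by omega
        _ < p ^ (e + 1) := Nat.pow_lt_pow_right hp.out.one_lt (by omega)
    omega
  have hall : ∀ z : Y, (f z).re = (Nat.card Q : ℝ) := fun z =>
    (Finset.sum_eq_sum_iff_of_le fun z _ => hre z).1
      (by rw [← hmre, hmq]; simp [Nat.card_eq_fintype_card]) z (Finset.mem_univ _)
  have hr := hall ⟨y, Subgroup.mem_zpowers y⟩
  have hnorm : ‖f y‖ ≤ (f 1).re := norm_le_degree hfc y
  rw [show f 1 = q from hdeg, hq, Complex.natCast_re] at hnorm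
  have him : (f y).im = 0 := by
    have h1 : ‖f y‖ ^ 2 ≤ (Nat.card Q : ℝ) ^ 2 := by gcongr
    rw [Complex.sq_norm, Complex.normSq_apply, hr] at h1
    nlinarith [mul_self_nonneg (f y).im]
  rw [show f 1 = q from hdeg]
  exact Complex.ext (by simpa [hq] using hr) (by simp [hq, him])

variable {G : Type u} [Group G] [Finite G]

theorem rep_restrict_irreducible {V : Type*} [AddCommGroup V] [Module ℂ V]
    (ρ : Representation ℂ G V) [hρ : ρ.IsIrreducible] (N : Subgroup G)
    (h : ∀ g : G, ∃ n : N, ρ g = ρ n) :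
    Representation.IsIrreducible (ρ.comp N.subtype : Representation ℂ N V) := by
  let e : Subrepresentation (ρ.comp N.subtype : Representation ℂ N V) ≃o Subrepresentation ρ :=
    { toFun := fun S => ⟨S.toSubmodule, fun g v hv => by
        obtain ⟨n, hn⟩ := h g
        rw [hn]
        exact S.apply_mem_toSubmodule n hv⟩
      invFun := fun S => ⟨S.toSubmodule, fun n v hv => S.apply_mem_toSubmodule (n : G) hv⟩
      left_inv := fun S => rfl
      right_inv := fun S => rfl
      map_rel_iff' := Iff.rfl }
  haveI : IsSimpleOrder (Subrepresentation ρ) := hρ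
  exact e.isSimpleOrder

/-- Characters of the principal block are trivial on `O_{p'}`. -/
theorem apply_pPrimeCore {p : ℕ} [Fact p.Prime] {M : Ideal AlgInt} (hM : IsPModular p M)
    {χ : IrrCharacter G} (hχ : χ ∈ principalBlock M G) (o : pPrimeCore p G) :
    (χ : G → ℂ) o = (χ : G → ℂ) 1 := by
  cases nonempty_fintype G
  haveI := Blocks.isPModular_isPrime hM
  haveI : (pPrimeCore p G).Normal := by
    haveI := PSolvable.pPrimeCore_characteristic (p := p) (G := G)
    infer_instance
  have hnd : ¬ p ∣ Nat.card (pPrimeCore p G) :=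
    ((Fact.out : p.Prime).coprime_iff_not_dvd).1 PSolvable.pPrimeCore_coprime.symm
  have h1 := Covering.constituent_of_sameBlock hM hnd
    (χ := Chars.trivialIrr G) (χ' := χ) hχ (θ := Chars.trivialIrr _)
    (by simp [classInner, Clifford.resFun, Nat.card_eq_fintype_card])
  refine Covering.eq_one_of_sum_ne_zero χ (fun h => h1 ?_) o
  simp [classInner, Clifford.resFun, h]

theorem pLengthLE_of_irreducible {p : ℕ} [hp : Fact p.Prime] {M : Ideal AlgInt}
    (hM : IsPModular p M) (P : Sylow p G)
    (h : ∀ χ ∈ principalBlock M G, IsIrrCharacter ↥(Subgroup.normalizer ((P : Subgroup G) : Set G))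
      (fun n : ↥(Subgroup.normalizer ((P : Subgroup G) : Set G)) => (χ : G → ℂ) n)) :
    PLengthLE p 1 G := by
  cases nonempty_fintype G
  haveI := Blocks.isPModular_isPrime hM
  set N := Subgroup.normalizer ((P : Subgroup G) : Set G) with hN
  set K := Subgroup.normalClosure ((P : Subgroup G) : Set G) with hK
  have hPK : (P : Subgroup G) ≤ K := Subgroup.le_normalClosure
  set Q : Subgroup K := (P : Subgroup G).subgroupOf K with hQdef
  have hQ : IsPGroup p Q := P.isPGroup'.comap_of_injective _ K.subtype_injective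
  have hBK : IsPBlock M (principalBlock M K) := BrauerMap.isPBlock_principalBlock M
  have hfix : ∀ ψ ∈ principalBlock M K, ∑ x : Q, (ψ : K → ℂ) x ≠ 0 →
      ψ = Chars.trivialIrr K := by
    intro ψ hψ hsum
    have hbel : BlockUnion.Below (principalBlock M G) (Chars.trivialIrr K) :=
      ⟨Chars.trivialIrr G, BrauerMap.trivialIrr_mem_principalBlock M,
        by simp [classInner, Clifford.resFun, Nat.card_eq_fintype_card]⟩
    obtain ⟨χ, hχ, hc⟩ := BlockUnion.below_of_covers hM (BrauerMap.isPBlock_principalBlock M) hBK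
      (BrauerMap.trivialIrr_mem_principalBlock M) hbel hψ
    have hres : IsCharacter K (Clifford.resFun K (χ : G → ℂ)) :=
      Chars.isCharacter_restrict K (Chars.irr_isCharacter χ)
    choose c hcc using fun φ : IrrCharacter K =>
      Chars.isCharacter_classInner_nat hres (Chars.irr_isCharacter φ)
    have hnat : ∀ φ : IrrCharacter K, ∃ t : ℕ, ∑ x : Q, (φ : K → ℂ) x = t := by
      intro φ
      obtain ⟨t, ht⟩ := Chars.isCharacter_classInner_nat (G := Q)
        (Chars.isCharacter_restrict Q (Chars.irr_isCharacter φ))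
        (Chars.irr_isCharacter (Chars.trivialIrr Q))
      simp only [classInner, Chars.trivialIrr_apply, map_one, mul_one] at ht
      rw [inv_mul_eq_iff_eq_mul₀ Chars.natCard_ne_zero] at ht
      exact ⟨Nat.card Q * t, by rw [Nat.cast_mul]; exact ht⟩
    choose t ht using hnat
    have htot : ∑ x : Q, (χ : G → ℂ) ((x : K) : G) = ((∑ φ, c φ * t φ : ℕ) : ℂ) := by
      have e := Chars.isCharacter_eq_sum_classInner hres
      have e' : ∀ x : Q, (χ : G → ℂ) ((x : K) : G) =
          ∑ φ : IrrCharacter K, (c φ : ℂ) * (φ : K → ℂ) x := by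
        intro x
        have := congrFun e (x : K)
        simp only [Finset.sum_apply, Pi.smul_apply, smul_eq_mul, hcc] at this
        exact this
      simp only [e']
      rw [Finset.sum_comm]
      simp only [← Finset.mul_sum, ht]
      push_cast
      rfl
    have hpos : (∑ φ, c φ * t φ) ≠ 0 := by
      intro h0
      rw [Finset.sum_eq_zero_iff] at h0
      have := h0 ψ (Finset.mem_univ _)
      rcases mul_eq_zero.1 this with h1 | h1
      · exact hc (by rw [hcc, h1, Nat.cast_zero])
      · exact hsum (by rw [ht, h1, Nat.cast_zero])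
    let χN : IrrCharacter N := ⟨_, h χ hχ⟩
    haveI : ((P : Subgroup G).subgroupOf N).Normal := Subgroup.normal_in_normalizer
    have hPN : (P : Subgroup G) ≤ N := Subgroup.le_normalizer
    have hsumN : ∑ x : (P : Subgroup G).subgroupOf N, (χN : N → ℂ) x ≠ 0 := by
      rw [show ∑ x : (P : Subgroup G).subgroupOf N, (χN : N → ℂ) x =
        ∑ x : Q, (χ : G → ℂ) ((x : K) : G) from
          Fintype.sum_equiv ((Subgroup.subgroupOfEquivOfLe hPN).trans
            (Subgroup.subgroupOfEquivOfLe hPK).symm).toEquiv _ _ fun x => rfl, htot]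
      exact_mod_cast hpos
    have hker := Covering.eq_one_of_sum_ne_zero χN hsumN
    obtain ⟨d, ρ, hρ, hρχ⟩ := χ.2
    have hKker : K ≤ MonoidHom.ker ρ := by
      refine Subgroup.normalClosure_le_normal fun x hx => ?_
      rw [SetLike.mem_coe, MonoidHom.mem_ker, Chars.rep_eq_one_iff, hρχ]
      exact hker ⟨⟨x, hPN hx⟩, hx⟩
    have hconst : ∀ k : K, (χ : G → ℂ) k = (χ : G → ℂ) 1 := fun k => by
      rw [← hρχ, ← Chars.rep_eq_one_iff]
      exact hKker k.2
    by_contra hne
    refine hc ?_
    have h1 : classInner (Chars.trivialIrr K : K → ℂ) (ψ : K → ℂ) = 0 :=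
      Chars.classInner_irr_of_ne (Ne.symm hne)
    rw [show Clifford.resFun K (χ : G → ℂ) =
      (χ : G → ℂ) 1 • (Chars.trivialIrr K : K → ℂ) from
        funext fun k => by simp [Clifford.resFun, hconst],
      Chars.classInner_smul_left, h1, mul_zero]
  have htrivK := BrauerMap.trivialIrr_mem_principalBlock (G := K) M
  have hdeg : blockChar (principalBlock M K) 1 = (Nat.card Q : ℂ) := by
    have hvan : ∀ u : Q, u ≠ 1 → blockChar (principalBlock M K) (u : K) = 0 := by
      intro u hu
      rw [blockChar_eq_coeff, blockCoeff_eq_zero_of_pSingular hM hBK, mul_zero]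
      rw [orderOf_inv, orderOf_submonoid]
      obtain ⟨j, hj⟩ := (IsPGroup.iff_orderOf.1 hQ) u
      rw [hj]
      refine dvd_pow_self p ?_
      rintro rfl
      exact hu (orderOf_eq_one_iff.1 (by simpa using hj))
    have e1 : ∑ u : Q, blockChar (principalBlock M K) (u : K) =
        blockChar (principalBlock M K) 1 := by
      rw [Finset.sum_eq_single (1 : Q) (fun u _ hu => hvan u hu) (by simp)]
      rfl
    rw [← e1]
    simp only [blockChar]
    rw [Finset.sum_comm, Finset.sum_eq_single (Chars.trivialIrr K)]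
    · simp [htrivK, Nat.card_eq_fintype_card]
    · intro ψ _ hψ
      by_cases hψB : ψ ∈ principalBlock M K
      · simp only [hψB, if_true, ← Finset.mul_sum]
        rw [not_not.1 (mt (hfix ψ hψB) hψ), mul_zero]
      · simp [hψB]
    · simp
  have hcore : ∀ y : K, ¬ p ∣ orderOf y → y ∈ pPrimeCore p K := by
    obtain ⟨d, ρ, hρ⟩ := isCharacter_blockChar (principalBlock M K)
    have hco : (Nat.card ρ.ker).Coprime p := by
      refine (hp.out.coprime_iff_not_dvd.2 fun hdvd => ?_).symm
      obtain ⟨z, hz⟩ := exists_prime_orderOf_dvd_card' p hdvd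
      have h1 : blockChar (principalBlock M K) (z : K) = blockChar (principalBlock M K) 1 := by
        rw [← hρ, ← Chars.rep_eq_one_iff]
        exact z.2
      rw [blockChar_eq_coeff, blockCoeff_eq_zero_of_pSingular hM hBK, mul_zero, hdeg] at h1
      · exact Chars.natCard_ne_zero h1.symm
      · rw [orderOf_inv, orderOf_submonoid, hz]
    intro y hy
    refine PSolvable.le_pPrimeCore hco ?_
    rw [MonoidHom.mem_ker, Chars.rep_eq_one_iff, hρ]
    exact blockChar_eq_one hM hBK htrivK Q hQ hdeg hy
  haveI hKn : K.Normal := Subgroup.normalClosure_normal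
  have hle : K ≤ pPrimePCore p G := by
    refine OddMax.Sec10.le_pPrimePCore_of_pow_mem fun x hx => ?_
    let x' : K := ⟨x, hx⟩
    refine ⟨(orderOf x').factorization p, ?_⟩
    have h1 : ¬ p ∣ orderOf (x' ^ p ^ (orderOf x').factorization p) := by
      rw [orderOf_pow, Nat.gcd_eq_right (Nat.ordProj_dvd _ _)]
      exact Nat.not_dvd_ordCompl hp.out (orderOf_pos x').ne'
    refine Components.map_pPrimeCore_le_of_subnormal (Subgroup.Normal.isSubnormal hKn)
      ⟨_, hcore _ h1, ?_⟩
    simp [x']
  rw [OddMax.Sec10.pLengthLE_one_iff]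
  refine ((hp.out.coprime_iff_not_dvd).2 fun hd => P.not_dvd_index ?_).symm
  exact hd.trans (Subgroup.index_dvd_of_le (hPK.trans hle))

/-- Let p be a prime, M a maximal ideal of the algebraic integers containing p, G a finite group, P a Sylow p-subgroup and N = N_G(P). Then G has p-length 1 (G = O_{p',p,p'}(G)) if and only if every irreducible character in the principal p-block of G restricts to an irreducible character of N. -/
theorem result {G : Type*} [Group G] [Finite G] (p : ℕ) [Fact p.Prime] (M : Ideal Cfsg.AlgInt) (hM : Cfsg.IsPModular p M) (P : Sylow p G) : Cfsg.PLengthLE p 1 G ↔ ∀ χ ∈ Cfsg.principalBlock M G, Cfsg.IsIrrCharacter ↥(Subgroup.normalizer ((P : Subgroup G) : Set G)) (fun n : ↥(Subgroup.normalizer ((P : Subgroup G) : Set G)) => (χ : G → ℂ) n) := by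
  cases nonempty_fintype G
  refine ⟨fun hlen χ hχ => ?_, pLengthLE_of_irreducible hM P⟩
  haveI := Blocks.isPModular_isPrime hM
  haveI : (pPrimePCore p G).Normal := PSolvable.pPrimePCore_normal
  haveI : (pPrimeCore p G).Normal := by
    haveI := PSolvable.pPrimeCore_characteristic (p := p) (G := G)
    infer_instance
  rw [OddMax.Sec10.pLengthLE_one_iff] at hlen
  set N := Subgroup.normalizer ((P : Subgroup G) : Set G) with hN
  set O := pPrimeCore p G with hO
  set K := pPrimePCore p G with hKdef
  have hPK : (P : Subgroup G) ≤ K := by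
    intro x hx
    have hcast : orderOf (QuotientGroup.mk' K x) = 1 := by
      have h1 : orderOf (QuotientGroup.mk' K x) ∣ orderOf x := orderOf_map_dvd _ x
      have h2 : orderOf (QuotientGroup.mk' K x) ∣ K.index := orderOf_dvd_natCard _
      obtain ⟨j, hj⟩ := (IsPGroup.iff_orderOf.1 P.isPGroup') ⟨x, hx⟩
      rw [Subgroup.orderOf_mk] at hj
      rw [hj] at h1
      exact Nat.eq_one_of_dvd_coprimes (Nat.Coprime.pow_right j hlen).symm h1 h2
    exact (QuotientGroup.eq_one_iff x).1 (orderOf_eq_one_iff.1 hcast)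
  have hOK : O ≤ K := PSolvable.pPrimeCore_le_pPrimePCore
  have hKeq : K ≤ O ⊔ (P : Subgroup G) := by
    rw [← Subgroup.relIndex_eq_one]
    have h1 : (O ⊔ (P : Subgroup G)).relIndex K ∣ O.relIndex K :=
      Subgroup.relIndex_dvd_of_le_left K le_sup_left
    have h2 : (O ⊔ (P : Subgroup G)).relIndex K ∣ (P : Subgroup G).index :=
      (Subgroup.relIndex_dvd_of_le_left K le_sup_right).trans
        ((Subgroup.relIndex_dvd_index_of_le hPK))
    have h3 : IsPGroup p (↥K ⧸ O.subgroupOf K) := by
      intro x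
      induction x using QuotientGroup.induction_on with
      | H y =>
        obtain ⟨j, hj⟩ := OddMax.Sec10.exists_pow_mem_pPrimeCore y.2
        refine ⟨j, ?_⟩
        rw [← QuotientGroup.mk_pow, QuotientGroup.eq_one_iff, Subgroup.mem_subgroupOf]
        simpa using hj
    obtain ⟨j, hj⟩ := IsPGroup.iff_card.1 h3
    rw [show O.relIndex K = p ^ j from hj] at h1
    refine Nat.eq_one_of_dvd_coprimes ?_ h1 h2
    exact Nat.Coprime.pow_left j (((Fact.out : p.Prime).coprime_iff_not_dvd).2 P.not_dvd_index)
  have htop : O ⊔ N = ⊤ := by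
    have h1 : N ⊔ K = ⊤ := by
      have := Sylow.normalizer_sup_eq_top (N := K) (P.subtype hPK)
      rwa [Sylow.coe_subtype, Subgroup.subgroupOf_map_subtype, inf_eq_left.2 hPK] at this
    refine top_le_iff.1 (h1 ▸ sup_le le_sup_right (hKeq.trans ?_))
    exact sup_le le_sup_left (Subgroup.le_normalizer.trans le_sup_right)
  obtain ⟨d, ρ, hρ, hρχ⟩ := χ.2
  refine ⟨d, ρ.comp N.subtype, rep_restrict_irreducible ρ N fun g => ?_, funext fun n => ?_⟩
  · have hg : g ∈ O ⊔ N := htop ▸ Subgroup.mem_top g
    obtain ⟨o, ho, n, hn, rfl⟩ := Subgroup.mem_sup_of_normal_left.1 hg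
    refine ⟨⟨n, hn⟩, ?_⟩
    have h1 : ρ o = 1 := by
      rw [Chars.rep_eq_one_iff, hρχ]
      exact apply_pPrimeCore hM hχ ⟨o, ho⟩
    rw [map_mul, h1, one_mul]
  · rw [← hρχ]
    rfl

end Cfsg.Agent.S4711
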