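import Cfsg.Statements.S4549
import Mathlib
import Cfsg.Agent.S4711
import Cfsg.Agent.S4491
import Cfsg.Agent.Lib.PowMap.Basic
import Cfsg.Agent.Lib.Transfer.Criteria
import Cfsg.Agent.Lib.Core.Nilpotent

set_option autoImplicit false
open Cfsg

namespace Cfsg.Agent.S4549

open Cfsg.Agent.Lib Cfsg.Agent.Lib.Blocks
open scoped Classical ComplexConjugate

universe u

variable {G : Type u} [Group G] [Finite G]

theorem coprime_of_pow (k : ℕ) (hk₁ : ∀ g : G, (∃ j : ℕ, orderOf g = 2 ^ j) → g ^ k = g ^ 3)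
    (hk₂ : ∀ g : G, Odd (orderOf g) → g ^ k = g) : k.Coprime (Nat.card G) := by
  refine Nat.coprime_of_dvd fun q hq hqk hqG => ?_
  haveI := Fact.mk hq
  obtain ⟨g, hg⟩ := exists_prime_orderOf_dvd_card' q hqG
  have h1 : g ^ k = 1 := orderOf_dvd_iff_pow_eq_one.1 (hg ▸ hqk)
  rcases hq.eq_two_or_odd' with rfl | hodd
  · have h2 := hk₁ g ⟨1, by rw [hg, pow_one]⟩
    have h3 := orderOf_dvd_iff_pow_eq_one.2 (h2.symm.trans h1)
    rw [hg] at h3
    omega
  · have h2 := hk₂ g (hg ▸ hodd)
    rw [h1] at h2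
    rw [← h2, orderOf_one] at hg
    exact hq.one_lt.ne hg

theorem pow_iterate_eq (k : ℕ) (hk₁ : ∀ g : G, (∃ j : ℕ, orderOf g = 2 ^ j) → g ^ k = g ^ 3)
    (hk₂ : ∀ g : G, Odd (orderOf g) → g ^ k = g) (g : G) :
    g ^ k ^ 2 ^ (Nat.card G).factorization 2 = g := by
  set e := (Nat.card G).factorization 2 with he
  have hg0 : orderOf g ≠ 0 := (orderOf_pos g).ne'
  set i := (orderOf g).factorization 2 with hi
  set m := orderOf g / 2 ^ i with hm
  have hprod : 2 ^ i * m = orderOf g := Nat.ordProj_mul_ordCompl_eq_self _ 2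
  have hm0 : m ≠ 0 := fun h => hg0 (by rw [← hprod, h, mul_zero])
  have hmodd : Odd m :=
    Nat.not_even_iff_odd.1 fun h => Nat.not_dvd_ordCompl Nat.prime_two hg0 h.two_dvd
  have hie : i ≤ e :=
    (Nat.factorization_le_iff_dvd hg0 Nat.card_pos.ne').2 (orderOf_dvd_natCard g) 2
  have h2 : k ≡ 3 [MOD 2 ^ i] := by
    have hord : orderOf (g ^ m) = 2 ^ i := by
      rw [orderOf_pow' _ hm0, Nat.gcd_eq_right (Dvd.intro_left _ hprod), ← hprod,
        Nat.mul_div_cancel _ (Nat.pos_of_ne_zero hm0)]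
    rw [← hord]
    exact pow_eq_pow_iff_modEq.1 (hk₁ _ ⟨i, hord⟩)
  have h1 : k ≡ 1 [MOD m] := by
    have hord : orderOf (g ^ 2 ^ i) = m := by
      rw [orderOf_pow' _ (by positivity), Nat.gcd_eq_right (Dvd.intro _ hprod), ← hprod,
        Nat.mul_div_cancel_left _ (by positivity)]
    rw [← hord]
    refine pow_eq_pow_iff_modEq.1 ?_
    rw [hk₂ _ (hord.symm ▸ hmodd), pow_one]
  have hA : k ^ 2 ^ e ≡ 1 [MOD 2 ^ i] := by
    refine (h2.pow _).trans ?_
    have h3 : Nat.Coprime 3 (2 ^ i) := Nat.Coprime.pow_right i (by norm_num)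
    have hdvd : Nat.totient (2 ^ i) ∣ 2 ^ e := by
      rcases Nat.eq_zero_or_pos i with h | h
      · simp [h]
      · rw [Nat.totient_prime_pow Nat.prime_two h]
        exact (mul_one (2 ^ (i - 1))).symm ▸ pow_dvd_pow 2 (by omega)
    obtain ⟨c, hc⟩ := hdvd
    rw [hc, pow_mul]
    simpa using (Nat.ModEq.pow_totient h3).pow c
  have hB : k ^ 2 ^ e ≡ 1 [MOD m] := by simpa using h1.pow (2 ^ e)
  have hco : Nat.Coprime (2 ^ i) m :=
    Nat.Coprime.pow_left i ((Nat.Prime.coprime_iff_not_dvd Nat.prime_two).2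
      (fun h => Nat.not_even_iff_odd.2 hmodd (even_iff_two_dvd.2 h)))
  have h := (Nat.modEq_and_modEq_iff_modEq_mul hco).1 ⟨hA, hB⟩
  rw [hprod] at h
  conv_rhs => rw [← pow_one g]
  exact pow_eq_pow_iff_modEq.2 h

/-- The weighted sum of the multiplicities of a character of `P` in the principal block is odd. -/
theorem sum_mult_odd {M : Ideal AlgInt} (hM : IsPModular 2 M) (P : Sylow 2 G) [Fintype G]
    (l : (P : Subgroup G) →* ℂˣ) (c : IrrCharacter G → ℕ)
    (hc : ∀ χ : IrrCharacter G, classInner (fun x : (P : Subgroup G) => (χ : G → ℂ) x)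
      (fun x : (P : Subgroup G) => (l x : ℂ)) = c χ) :
    Odd (∑ χ : IrrCharacter G,
      if χ ∈ principalBlock M G then charDegree (χ : G → ℂ) * c χ else 0) := by
  haveI := Blocks.isPModular_isPrime hM
  haveI : Fact (Nat.Prime 2) := ⟨Nat.prime_two⟩
  set B := principalBlock M G with hBdef
  have hB : IsPBlock M B := BrauerMap.isPBlock_principalBlock M
  set n := ∑ χ : IrrCharacter G, if χ ∈ B then charDegree (χ : G → ℂ) * c χ else 0 with hn
  set D := ∑ χ : IrrCharacter G, if χ ∈ B then charDegree (χ : G → ℂ) ^ 2 else 0 with hD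
  have hdeg : ∀ χ : IrrCharacter G, (χ : G → ℂ) 1 = (charDegree (χ : G → ℂ) : ℂ) := fun χ => by
    obtain ⟨d, -, hd⟩ := Chars.isIrrCharacter_exists_degree_pos χ.2
    rw [charDegree, hd, Complex.natCast_re, Nat.floor_natCast]
  have hDf : (D : ℂ) = S4711.blockChar B 1 := by
    rw [hD, S4711.blockChar, Nat.cast_sum]
    exact Finset.sum_congr rfl fun χ _ => by split_ifs <;> simp [hdeg, sq]
  have key : n * Nat.card (P : Subgroup G) = D := by
    have hvan : ∀ x : (P : Subgroup G), x ≠ 1 → S4711.blockChar B (x : G) = 0 := by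
      intro x hx
      rw [S4711.blockChar_eq_coeff, blockCoeff_eq_zero_of_pSingular hM hB, mul_zero]
      rw [orderOf_inv, orderOf_submonoid]
      obtain ⟨j, hj⟩ := (IsPGroup.iff_orderOf.1 P.isPGroup') x
      rw [hj]
      refine dvd_pow_self 2 ?_
      rintro rfl
      exact hx (orderOf_eq_one_iff.1 (by simpa using hj))
    apply Nat.cast_injective (R := ℂ)
    rw [Nat.cast_mul, hDf, hn, Nat.cast_sum, Finset.sum_mul]
    have e : ∑ x : (P : Subgroup G), S4711.blockChar B (x : G) * conj (l x : ℂ) =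
        S4711.blockChar B 1 := by
      rw [Finset.sum_eq_single (1 : (P : Subgroup G))
        (fun x _ hx => by rw [hvan x hx, zero_mul]) (by simp)]
      simp
    rw [← e]
    simp only [S4711.blockChar, Finset.sum_mul]
    rw [Finset.sum_comm]
    refine Finset.sum_congr rfl fun χ _ => ?_
    split_ifs
    · have h := hc χ
      rw [classInner, inv_mul_eq_iff_eq_mul₀ Chars.natCard_ne_zero] at h
      simp only [mul_assoc]
      rw [← Finset.mul_sum, h, hdeg, Nat.cast_mul]
      ring
    · simp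
  have hfac : D.factorization 2 = (Nat.card G).factorization 2 := by
    have h := S4491.result 2 M hM B hB
    have hdef : blockDefect 2 B = (Nat.card G).factorization 2 := by
      have h0 : charDegree (Chars.trivialIrr G : G → ℂ) = 1 := by simp [charDegree]
      have : sInf ((fun χ : IrrCharacter G => (charDegree (χ : G → ℂ)).factorization 2) '' B) = 0 :=
        Nat.le_zero.1 (Nat.sInf_le ⟨Chars.trivialIrr G,
          BrauerMap.trivialIrr_mem_principalBlock M, by simp [h0]⟩)
      simp [blockDefect, this]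
    rw [hdef] at h
    have e : ∑ᶠ χ ∈ B, charDegree (χ : G → ℂ) ^ 2 = D := by
      rw [hD, finsum_eq_sum_of_fintype]
      exact Finset.sum_congr rfl fun χ _ => by by_cases hχ : χ ∈ B <;> simp [hχ]
    rw [e] at h
    omega
  have hD0 : D ≠ 0 := by
    intro h0
    have := (Finset.sum_eq_zero_iff.1 h0) (Chars.trivialIrr G) (Finset.mem_univ _)
    simp [hBdef, BrauerMap.trivialIrr_mem_principalBlock, charDegree] at this
  obtain ⟨a, ha⟩ := IsPGroup.iff_card.1 P.isPGroup'
  have haG : a = (Nat.card G).factorization 2 := by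
    have := P.card_eq_multiplicity
    rw [ha] at this
    exact Nat.pow_right_injective le_rfl this
  refine Nat.not_even_iff_odd.1 fun hev => ?_
  have hdvd : 2 ^ (a + 1) ∣ D := by
    rw [← key, ha, pow_succ']
    exact Nat.mul_dvd_mul_right hev.two_dvd _
  have := (Nat.Prime.pow_dvd_iff_le_factorization Nat.prime_two hD0).1 hdvd
  omega

/-- A homomorphism to `±1` on a Sylow 2-subgroup is a constituent of a fixed member of odd
degree and odd multiplicity. -/
theorem exists_fixed_odd {M : Ideal AlgInt} (hM : IsPModular 2 M) (P : Sylow 2 G) [Fintype G]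
    (k : ℕ) (hk₁ : ∀ g : G, (∃ j : ℕ, orderOf g = 2 ^ j) → g ^ k = g ^ 3)
    (hk₂ : ∀ g : G, Odd (orderOf g) → g ^ k = g)
    (l : (P : Subgroup G) →* ℂˣ) (hl : ∀ x, l x ^ 2 = 1) :
    ∃ χ ∈ principalBlock M G, Odd (charDegree (χ : G → ℂ)) ∧
      (∀ g : G, (χ : G → ℂ) (g ^ k) = (χ : G → ℂ) g) ∧
      classInner (fun x : (P : Subgroup G) => (χ : G → ℂ) x)
        (fun x : (P : Subgroup G) => (l x : ℂ)) ≠ 0 := by
  haveI := Blocks.isPModular_isPrime hM
  choose c hc using fun χ : IrrCharacter G => Chars.isCharacter_classInner_nat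
    (Chars.isCharacter_restrict (P : Subgroup G) (Chars.irr_isCharacter χ))
    (Chars.irr_isCharacter (Chars.linIrr l))
  have hsum := sum_mult_odd hM P l c hc
  set B := principalBlock M G
  let w : IrrCharacter G → ℕ := fun χ => charDegree (χ : G → ℂ) * c χ
  rw [← Finset.sum_filter, Finset.odd_sum_iff_odd_card_odd, Finset.filter_filter] at hsum
  have hk := coprime_of_pow k hk₁ hk₂
  have hkP : (k : ℕ).Coprime (Nat.card (P : Subgroup G)) :=
    hk.coprime_dvd_right (Subgroup.card_subgroup_dvd_card _)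
  have hlk : ∀ x : (P : Subgroup G), l (x ^ k) = l x := by
    intro x
    have h3 : x ^ k = x ^ 3 := Subtype.ext (by
      obtain ⟨j, hj⟩ := (IsPGroup.iff_orderOf.1 P.isPGroup') x
      simpa using hk₁ (x : G) ⟨j, by rw [orderOf_submonoid, hj]⟩)
    rw [h3, map_pow, pow_succ, hl, one_mul]
  have hck : ∀ χ, c (PowMap.powIrr hk χ) = c χ := by
    intro χ
    apply Nat.cast_injective (R := ℂ)
    rw [← hc, ← hc]
    simp only [classInner]
    congr 1
    refine Fintype.sum_bijective (fun x : (P : Subgroup G) => x ^ k) (PowMap.bijective_pow hkP)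
      _ _ fun x => ?_
    show (PowMap.powIrr hk χ : G → ℂ) x * conj ((Chars.linIrr l : _ → ℂ) x) =
      (χ : G → ℂ) ((x ^ k : (P : Subgroup G)) : G) * conj ((Chars.linIrr l : _ → ℂ) (x ^ k))
    rw [PowMap.powIrr_apply]
    simp [Chars.linIrr, hlk]
  have hdk : ∀ χ, charDegree (PowMap.powIrr hk χ : G → ℂ) = charDegree (χ : G → ℂ) := fun χ => by
    simp only [charDegree, PowMap.powIrr_one_apply]
  let α := {χ : IrrCharacter G // χ ∈ B ∧ Odd (w χ)}
  let f : α → α := fun χ => ⟨PowMap.powIrr hk χ.1,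
    PowMap.powIrr_mem_principalBlock M hk χ.2.1, by simpa only [w, hck, hdk] using χ.2.2⟩
  have hiter : ∀ a, f^[2 ^ (Nat.card G).factorization 2] a = a := by
    intro a
    have hcoe : ∀ (n : ℕ), ((f^[n] a).1) = (PowMap.powIrr hk)^[n] a.1 := by
      intro n
      induction n with
      | zero => rfl
      | succ n ih => rw [Function.iterate_succ_apply', Function.iterate_succ_apply', ← ih]
    apply Subtype.ext
    rw [hcoe]
    apply Subtype.ext
    funext g
    rw [PowMap.powIrr_iterate, pow_iterate_eq k hk₁ hk₂]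
  have hmod := PowMap.even_card_sub_fixed f hiter
  have hα : Odd (Nat.card α) := by
    rw [Nat.card_eq_fintype_card, Fintype.card_subtype]
    exact hsum
  have hne : Nonempty {a : α // f a = a} := by
    by_contra h
    rw [not_nonempty_iff] at h
    rw [Nat.card_of_isEmpty (α := {a : α // f a = a}), Nat.modEq_zero_iff_dvd] at hmod
    exact Nat.not_even_iff_odd.2 hα (even_iff_two_dvd.2 hmod)
  obtain ⟨⟨⟨χ, hχB, hχw⟩, hfix⟩⟩ := hne
  refine ⟨χ, hχB, (Nat.odd_mul.1 hχw).1, fun g => ?_, ?_⟩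
  · have := congrArg (fun a : α => (a.1 : G → ℂ) g) hfix
    simpa [f] using this
  · exact fun h0 => Nat.cast_ne_zero.2 (Nat.odd_mul.1 hχw).2.pos.ne' ((hc χ).symm.trans h0)

/-- Homomorphisms to `±1` detect the Frattini subgroup of a 2-group. -/
theorem mem_frattini_of_forall {Q : Type*} [Group Q] [Finite Q] (hQ : IsPGroup 2 Q) {x : Q}
    (h : ∀ l : Q →* ℂˣ, (∀ y, l y ^ 2 = 1) → l x = 1) : x ∈ frattini Q := by
  haveI : Fact (Nat.Prime 2) := ⟨Nat.prime_two⟩
  rw [frattini, Order.radical, Subgroup.mem_iInf]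
  intro H
  rw [Subgroup.mem_iInf]
  intro hH
  have hidx : H.index = 2 := (Nilp.index_coatom_of_isPGroup hQ hH).2
  let l : Q →* ℂˣ :=
    { toFun := fun y => if y ∈ H then 1 else -1
      map_one' := if_pos H.one_mem
      map_mul' := fun a b => by
        have := Subgroup.mul_mem_iff_of_index_two hidx (a := a) (b := b)
        by_cases ha : a ∈ H <;> by_cases hb : b ∈ H <;> simp [this, ha, hb] }
  by_contra hx
  have h1 := h l fun y => by
    show (if y ∈ H then (1 : ℂˣ) else -1) ^ 2 = 1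
    split_ifs <;> simp
  change (if x ∈ H then (1 : ℂˣ) else -1) = 1 at h1
  rw [if_neg hx] at h1
  have := congrArg (fun u : ℂˣ => (u : ℂ)) h1
  norm_num at this

/-- Let G be a finite group and M a maximal ideal of the algebraic integers containing 2. Let k be a natural number with g ^ k = g ^ 3 for every 2-element g and g ^ k = g for every element g of odd order (such k exist); an irreducible character χ is unchanged by g ↦ g ^ k exactly when it is fixed by the field automorphism that cubes the 2-power roots of unity and fixes the roots of unity of odd order. Then G has a normal 2-complement if and only if every member χ of the principal 2-block of odd degree with χ (g ^ k) = χ g for all g has degree one. -/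
theorem result {G : Type*} [Group G] [Finite G] (M : Ideal Cfsg.AlgInt) (hM : Cfsg.IsPModular 2 M) (k : ℕ) (hk₁ : ∀ g : G, (∃ j : ℕ, orderOf g = 2 ^ j) → g ^ k = g ^ 3) (hk₂ : ∀ g : G, Odd (orderOf g) → g ^ k = g) : Cfsg.HasNormalPComplement 2 G ↔ ∀ χ ∈ Cfsg.principalBlock M G, Odd (Cfsg.charDegree (χ : G → ℂ)) → (∀ g : G, (χ : G → ℂ) (g ^ k) = (χ : G → ℂ) g) → Cfsg.charDegree (χ : G → ℂ) = 1 := by
  cases nonempty_fintype G
  haveI := Blocks.isPModular_isPrime hM
  haveI : Fact (Nat.Prime 2) := ⟨Nat.prime_two⟩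
  constructor
  · rintro ⟨P, K, hKn, hKc⟩ χ hχ hodd -
    obtain ⟨d, ρ, hρ, hρχ⟩ := χ.2
    have hKco : (Nat.card K).Coprime 2 := by
      rw [show Nat.card K = (P : Subgroup G).index from (by first | exact hKc.index_eq_card.symm | exact hKc.symm.index_eq_card.symm)]
      exact ((Nat.prime_two.coprime_iff_not_dvd).2 P.not_dvd_index).symm
    haveI := hKn
    have hKle : K ≤ pPrimeCore 2 G := PSolvable.le_pPrimeCore hKco
    have hirr : IsIrrCharacter (P : Subgroup G) (fun x : (P : Subgroup G) => (χ : G → ℂ) x) := by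
      refine ⟨d, ρ.comp (P : Subgroup G).subtype,
        S4711.rep_restrict_irreducible ρ (P : Subgroup G) fun g => ?_, funext fun n => ?_⟩
      · obtain ⟨⟨a, b⟩, hab, -⟩ := hKc.existsUnique g
        refine ⟨b, ?_⟩
        have h1 : ρ (a : G) = 1 := by
          rw [Chars.rep_eq_one_iff, hρχ]
          exact S4711.apply_pPrimeCore hM hχ ⟨a, hKle a.2⟩
        rw [← hab, map_mul, h1, one_mul]
      · rw [← hρχ]
        rfl
    obtain ⟨n, hn0, hn, hdvd⟩ := Chars.irr_degree_dvd_card (⟨_, hirr⟩ : IrrCharacter (P : Subgroup G))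
    obtain ⟨a, ha⟩ := IsPGroup.iff_card.1 P.isPGroup'
    rw [ha, Nat.dvd_prime_pow Nat.prime_two] at hdvd
    obtain ⟨j, -, rfl⟩ := hdvd
    have hdeg : charDegree (χ : G → ℂ) = 2 ^ j := by
      have h1 : (χ : G → ℂ) 1 = ((2 ^ j : ℕ) : ℂ) := hn
      rw [charDegree, h1, Complex.natCast_re, Nat.floor_natCast]
    rw [hdeg] at hodd ⊢
    rcases j with _ | j
    · rfl
    · exact absurd hodd (Nat.not_odd_iff_even.2 ⟨2 ^ j, by ring⟩)
  · intro h
    obtain ⟨P⟩ : Nonempty (Sylow 2 G) := inferInstance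
    refine Transfer.hasNormalPComplement_of_le_frattini P ?_
    rintro x ⟨hxR, hxP⟩
    refine ⟨⟨x, hxP⟩, mem_frattini_of_forall P.isPGroup' fun l hl => ?_, rfl⟩
    obtain ⟨χ, hχ, hodd, hfix, hne⟩ := exists_fixed_odd hM P k hk₁ hk₂ l hl
    have h1 : (χ : G → ℂ) 1 = 1 := by
      have h0 := h χ hχ hodd hfix
      obtain ⟨d, -, hd⟩ := Chars.isIrrCharacter_exists_degree_pos χ.2
      rw [charDegree, hd, Complex.natCast_re, Nat.floor_natCast] at h0
      rw [hd, h0, Nat.cast_one]
    obtain ⟨μ, hμ'⟩ := Chars.exists_hom_of_degree_one (Chars.irr_isCharacter χ) h1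
    have hμ : ∀ g, (χ : G → ℂ) g = (μ g : ℂ) := congrFun hμ'
    have hres : μ.comp (P : Subgroup G).subtype = l := by
      by_contra hne'
      refine hne ?_
      have : (fun y : (P : Subgroup G) => (χ : G → ℂ) y) =
          (Chars.linIrr (μ.comp (P : Subgroup G).subtype) : _ → ℂ) := by
        funext y
        simp [Chars.linIrr, hμ]
      rw [this]
      exact Chars.classInner_irr_of_ne (χ := Chars.linIrr (μ.comp (P : Subgroup G).subtype))
        (ψ := Chars.linIrr l) fun he => hne' (Chars.linIrr_injective he)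
    set m := Nat.card G / 2 ^ (Nat.card G).factorization 2 with hm
    have hmodd : Odd m :=
      Nat.not_even_iff_odd.1 fun he => Nat.not_dvd_ordCompl Nat.prime_two Nat.card_pos.ne' he.two_dvd
    have hker : Cfsg.pResidual 2 G ≤ ((powMonoidHom m).comp μ).ker := by
      rw [Transfer.pResidual_le_iff]
      intro g hg
      rw [MonoidHom.mem_ker, MonoidHom.comp_apply, powMonoidHom_apply, ← map_pow]
      have : orderOf g ∣ m := by
        refine (Nat.Coprime.pow_right ((Nat.card G).factorization 2) hg).dvd_of_dvd_mul_left ?_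
        rw [Nat.ordProj_mul_ordCompl_eq_self]
        exact orderOf_dvd_natCard g
      rw [orderOf_dvd_iff_pow_eq_one.1 this, map_one]
    have h2 := hker hxR
    rw [MonoidHom.mem_ker, MonoidHom.comp_apply, powMonoidHom_apply] at h2
    have h3 : μ x = l ⟨x, hxP⟩ := by rw [← hres]; rfl
    rw [h3] at h2
    obtain ⟨t, ht⟩ := hmodd
    rwa [ht, pow_succ, pow_mul, hl, one_pow, one_mul] at h2

end Cfsg.Agent.S4549
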