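import Cfsg.Statements.S4550
import Mathlib
import Cfsg.Agent.Lib.BlockCongr.Basic
import Cfsg.Agent.Lib.Blocks.BlockOrth
import Cfsg.Agent.Lib.PowMap.Basic

set_option autoImplicit false
open Cfsg

namespace Cfsg.Agent.S4550

open Cfsg.Agent.Lib Cfsg.Agent.Lib.Blocks Cfsg.Agent.Lib.BlockCongr Cfsg.Agent.Lib.PowMap

/-- The exponent `k` is prime to the group order and has `2`-power order on every element. -/
theorem exponent_facts {G : Type*} [Group G] [Finite G] (k : ℕ)
    (hk₁ : ∀ g : G, (∃ j : ℕ, orderOf g = 2 ^ j) → g ^ k = g ^ 3)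
    (hk₂ : ∀ g : G, Odd (orderOf g) → g ^ k = g) :
    k.Coprime (Nat.card G) ∧ ∀ g : G, g ^ k ^ 2 ^ (Nat.card G).factorization 2 = g := by
  constructor
  · by_contra h
    obtain ⟨q, hq, hqk, hqG⟩ := Nat.Prime.not_coprime_iff_dvd.mp h
    have := Fact.mk hq
    obtain ⟨g, hg⟩ := exists_prime_orderOf_dvd_card' q hqG
    have hgk : g ^ k = 1 := orderOf_dvd_iff_pow_eq_one.mp (hg ▸ hqk)
    have hne : g ≠ 1 := fun h1 => hq.ne_one (by rw [← hg, h1, orderOf_one])
    rcases hq.eq_two_or_odd' with rfl | hodd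
    · rw [hk₁ g ⟨1, by rw [hg, pow_one]⟩, pow_succ,
        show g ^ 2 = 1 by rw [← hg]; exact pow_orderOf_eq_one g, one_mul] at hgk
      exact hne hgk
    · rw [hk₂ g (hg ▸ hodd)] at hgk
      exact hne hgk
  · intro g
    set a := (Nat.card G).factorization 2
    obtain ⟨m, n, j, h1, h2, h3⟩ := exists_split Nat.prime_two g
    have hs : (g ^ m) ^ k ^ 2 ^ a = g ^ m := by
      have hsk : ∀ i, (g ^ m) ^ k ^ i = g ^ m := by
        intro i
        induction i with
        | zero => simp
        | succ i ih =>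
          rw [pow_succ, pow_mul, ih, hk₂ _ (Nat.odd_iff.mpr (Nat.two_dvd_ne_zero.mp h3))]
      exact hsk _
    have hu : (g ^ n) ^ k ^ 2 ^ a = g ^ n := by
      obtain ⟨i, -, hi⟩ := (Nat.dvd_prime_pow Nat.prime_two).mp (orderOf_dvd_of_pow_eq_one h1)
      have hk3 : k ≡ 3 [MOD orderOf (g ^ n)] := pow_eq_pow_iff_modEq.mp (hk₁ _ ⟨i, hi⟩)
      have hia : i ≤ a := (Nat.prime_two.pow_dvd_iff_le_factorization Nat.card_pos.ne').mp
        (hi ▸ orderOf_dvd_natCard _)
      have h3e : 3 ^ 2 ^ a ≡ 1 [MOD 2 ^ (a + 1)] := by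
        have := Nat.ModEq.pow_totient (x := 3) (n := 2 ^ (a + 1))
          ((Nat.coprime_primes Nat.prime_three Nat.prime_two).mpr (by norm_num) |>.pow_right _)
        rwa [Nat.totient_prime_pow_succ Nat.prime_two, show (2 : ℕ) - 1 = 1 from rfl, mul_one]
          at this
      have h3i : 3 ^ 2 ^ a ≡ 1 [MOD orderOf (g ^ n)] :=
        h3e.of_dvd (hi ▸ pow_dvd_pow 2 (by omega))
      conv_rhs => rw [← pow_one (g ^ n)]
      exact pow_eq_pow_iff_modEq.mpr ((hk3.pow _).trans h3i)
    calc g ^ k ^ 2 ^ a = (g ^ m * g ^ n) ^ k ^ 2 ^ a := by rw [← pow_add, h2]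
      _ = (g ^ m) ^ k ^ 2 ^ a * (g ^ n) ^ k ^ 2 ^ a := ((Commute.refl g).pow_pow m n).mul_pow _
      _ = g := by rw [hs, hu, ← pow_add, h2]

/-- Let G be a finite group of even order and M a maximal ideal of the algebraic integers containing 2. Let k be a natural number with g ^ k = g ^ 3 for every 2-element g and g ^ k = g for every element g of odd order (such k exist); an irreducible character χ is unchanged by g ↦ g ^ k exactly when it is fixed by the field automorphism that cubes the 2-power roots of unity and fixes the roots of unity of odd order. Then the number of members χ of the principal 2-block of odd degree with χ (g ^ k) = χ g for all g is even. -/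
theorem result {G : Type*} [Group G] [Finite G] (M : Ideal Cfsg.AlgInt) (hM : Cfsg.IsPModular 2 M) (hev : Even (Nat.card G)) (k : ℕ) (hk₁ : ∀ g : G, (∃ j : ℕ, orderOf g = 2 ^ j) → g ^ k = g ^ 3) (hk₂ : ∀ g : G, Odd (orderOf g) → g ^ k = g) : Even (Nat.card {χ : Cfsg.IrrCharacter G // χ ∈ Cfsg.principalBlock M G ∧ Odd (Cfsg.charDegree (χ : G → ℂ)) ∧ ∀ g : G, (χ : G → ℂ) (g ^ k) = (χ : G → ℂ) g}) := by
  classical
  have : M.IsPrime := isPModular_isPrime hM
  cases nonempty_fintype G
  obtain ⟨hcop, hper⟩ := exponent_facts k hk₁ hk₂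
  obtain ⟨u, hu⟩ := exists_prime_orderOf_dvd_card' (G := G) 2 (even_iff_two_dvd.mp hev)
  have hB : Cfsg.IsPBlock M (Cfsg.principalBlock M G) := ⟨Chars.trivialIrr G, rfl⟩
  set T : Set (Cfsg.IrrCharacter G) :=
    {χ | χ ∈ Cfsg.principalBlock M G ∧ Odd (Cfsg.charDegree (χ : G → ℂ))} with hT
  -- there is an even number of members of odd degree
  have hTeven : Nat.card T ≡ 0 [MOD 2] := by
    have h := weak_block_orth hM hB (g := 1) (h := u) (by simp) (by rw [hu])
    rw [finsum_mem_eq_toFinset_sum] at h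
    have h2 : Cfsg.MemLocalIdeal M ((∑ χ ∈ (Cfsg.principalBlock M G).toFinset,
        Cfsg.charDegree (χ : G → ℂ) ^ 2 : ℕ) : ℂ) := by
      have h3 : Cfsg.MemLocalIdeal M (∑ χ ∈ (Cfsg.principalBlock M G).toFinset,
          ((χ : G → ℂ) 1 * (starRingEnd ℂ) ((χ : G → ℂ) 1) -
            (χ : G → ℂ) 1 * (starRingEnd ℂ) ((χ : G → ℂ) u))) := by
        refine memLocalIdeal_sum _ _ fun χ _ => ?_
        rw [← mul_sub, ← map_sub]
        refine memLocalIdeal_mul_left
          (mem_localRing.mp (isIntegral_mem_localRing (Chars.irr_isIntegral χ 1))) ?_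
        rw [map_sub, ← Chars.irr_inv, ← Chars.irr_inv, inv_one]
        have := memLocalIdeal_neg (char_congr_one hM (Chars.irr_isCharacter χ) (g := u⁻¹) (j := 1)
          (by rw [pow_one, inv_pow, ← hu, pow_orderOf_eq_one, inv_one]))
        simpa using this
      rw [Finset.sum_sub_distrib, h, sub_zero] at h3
      push_cast
      convert h3 using 1
      refine Finset.sum_congr rfl fun χ _ => ?_
      rw [← charDegree_isCharacter (Chars.irr_isCharacter χ), Complex.conj_natCast, pow_two]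
    rw [memLocalIdeal_natCast_iff hM, ← ZMod.natCast_eq_zero_iff] at h2
    rw [Nat.modEq_zero_iff_dvd, ← ZMod.natCast_eq_zero_iff, Nat.card_eq_fintype_card,
      ← Set.toFinset_card]
    push_cast at h2
    rw [← h2, show T.toFinset = (Cfsg.principalBlock M G).toFinset.filter
        (fun χ : Cfsg.IrrCharacter G => Odd (Cfsg.charDegree (χ : G → ℂ))) by ext χ; simp [T],
      Finset.card_filter, Nat.cast_sum]
    refine Finset.sum_congr rfl fun χ _ => ?_
    by_cases ho : Odd (Cfsg.charDegree (χ : G → ℂ))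
    · rw [if_pos ho, Nat.cast_one, ZMod.natCast_eq_one_iff_odd.mpr ho, one_pow]
    · rw [if_neg ho, Nat.cast_zero,
        ZMod.natCast_eq_zero_iff_even.mpr (Nat.not_odd_iff_even.mp ho), zero_pow two_ne_zero]
  have hdeg : ∀ χ : Cfsg.IrrCharacter G,
      Cfsg.charDegree (powIrr hcop χ : G → ℂ) = Cfsg.charDegree (χ : G → ℂ) := fun χ => by
    unfold Cfsg.charDegree
    rw [powIrr_one_apply]
  let f : T → T := fun χ => ⟨powIrr hcop χ.1,
    powIrr_mem_principalBlock M hcop χ.2.1, (hdeg χ.1).symm ▸ χ.2.2⟩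
  have hf : ∀ χ : T, f^[2 ^ (Nat.card G).factorization 2] χ = χ := fun χ => by
    have hcomm : ∀ n (χ : T), (f^[n] χ).1 = (powIrr hcop)^[n] χ.1 := by
      intro n
      induction n with
      | zero => intro χ; rfl
      | succ n ih =>
        intro χ
        rw [Function.iterate_succ_apply', Function.iterate_succ_apply', ← ih]
    refine Subtype.ext (Subtype.ext (funext fun g => ?_))
    rw [hcomm, powIrr_iterate, hper]
  have h := (even_card_sub_fixed f hf).symm.trans hTeven
  rw [Nat.even_iff]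
  refine Eq.trans ?_ h
  congr 1
  refine Nat.card_congr
    { toFun := fun χ => ⟨⟨χ.1, χ.2.1, χ.2.2.1⟩, Subtype.ext (Subtype.ext (funext χ.2.2.2))⟩
      invFun := fun χ => ⟨χ.1.1, χ.1.2.1, χ.1.2.2,
        fun g => congrFun (congrArg Subtype.val (congrArg Subtype.val χ.2)) g⟩
      left_inv := fun _ => rfl
      right_inv := fun _ => rfl }

end Cfsg.Agent.S4550
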