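import Cfsg.Statements.S4551
import Cfsg.Agent.Lib.Contrib.BlockRestrict

set_option autoImplicit false
open Cfsg

namespace Cfsg.Agent.S4551

open Cfsg.Agent.Lib Cfsg.Agent.Lib.Blocks MonoidAlgebra

attribute [local instance] Classical.propDecidable

/-- Every coset has an orbit of length prime to `p` under `N`. -/
theorem exists_orbit {G : Type*} [Group G] [Finite G] (p : ℕ) [Fact p.Prime] (N : Subgroup G)
    [N.Normal] (hidx : ¬ p ∣ N.index) (P : Sylow p G)
    (hsup : N ⊔ Subgroup.centralizer ((P : Subgroup G) : Set G) = ⊤) (x : G ⧸ N) :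
    ∃ c : G, (c : G ⧸ N) = x ∧ ∃ S : Finset G, ¬ p ∣ S.card ∧
      (∀ s ∈ S, (s : G ⧸ N) = x) ∧ ∀ (n : N), ∀ s ∈ S, (n : G) * s * (n : G)⁻¹ ∈ S := by
  obtain ⟨g, rfl⟩ := QuotientGroup.mk_surjective x
  have hg : g ∈ (↑(N ⊔ Subgroup.centralizer ((P : Subgroup G) : Set G)) : Set G) := by
    rw [hsup]; trivial
  rw [Subgroup.normal_mul] at hg
  obtain ⟨n₀, hn₀, c, hc, rfl⟩ := hg
  have hPN : (P : Subgroup G) ≤ N := by
    intro a ha
    obtain ⟨k, hk⟩ := P.isPGroup' ⟨a, ha⟩
    have hk' : (a : G ⧸ N) ^ p ^ k = 1 := by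
      rw [← QuotientGroup.mk_pow, show a ^ p ^ k = 1 from congrArg Subtype.val hk]
      rfl
    rw [← QuotientGroup.eq_one_iff, ← orderOf_eq_one_iff]
    refine Nat.eq_one_of_dvd_coprimes (Nat.Coprime.pow_left k
      ((Fact.out : p.Prime).coprime_iff_not_dvd.2 hidx)) (orderOf_dvd_of_pow_eq_one hk') ?_
    rw [Subgroup.index]
    exact orderOf_dvd_natCard _
  refine ⟨c, ?_, ?_⟩
  · rw [QuotientGroup.mk_mul, (QuotientGroup.eq_one_iff n₀).2 hn₀, one_mul]
  haveI : Fintype N := Fintype.ofFinite _
  refine ⟨Finset.univ.image (fun n : N => (n : G) * c * (n : G)⁻¹), ?_, ?_, ?_⟩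
  · let act : MulAction N G := MulAction.compHom G ((MulAut.conj).comp N.subtype : N →* MulAut G)
    have hsmul : ∀ (n : N) (y : G), act.smul n y = (n : G) * y * (n : G)⁻¹ := fun _ _ => rfl
    have horb : ((Finset.univ.image (fun n : N => (n : G) * c * (n : G)⁻¹)) : Set G) =
        MulAction.orbit N c := by
      rw [Finset.coe_image, Finset.coe_univ, Set.image_univ]
      rfl
    rw [← Set.ncard_coe_finset, horb, ← MulAction.index_stabilizer]
    intro hp
    refine P.not_dvd_index ?_
    have hle : (P : Subgroup G).subgroupOf N ≤ MulAction.stabilizer N c := by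
      intro n hn
      show (n : G) * c * (n : G)⁻¹ = c
      rw [(Subgroup.mem_centralizer_iff.1 hc (n : G) hn), mul_inv_cancel_right]
    have h1 : (MulAction.stabilizer N c).index ∣ (P : Subgroup G).relIndex N :=
      Subgroup.index_dvd_of_le hle
    exact hp.trans (h1.trans (Subgroup.relIndex_dvd_index_of_le hPN))
  · intro s hs
    obtain ⟨n, -, rfl⟩ := Finset.mem_image.1 hs
    rw [QuotientGroup.mk_mul, QuotientGroup.mk_mul, QuotientGroup.mk_inv,
      (QuotientGroup.eq_one_iff (n : G)).2 n.2, QuotientGroup.mk_mul,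
      (QuotientGroup.eq_one_iff n₀).2 hn₀, one_mul, inv_one, mul_one]
  · intro n s hs
    obtain ⟨n', -, rfl⟩ := Finset.mem_image.1 hs
    exact Finset.mem_image.2 ⟨n * n', Finset.mem_univ _, by push_cast; group⟩

/-- Let N be a normal subgroup of the finite group G of index prime to p, P a Sylow p-subgroup of G with G = N·C_G(P), and M a maximal ideal of the algebraic integers containing p. Then restriction to N is a bijection from the principal p-block of G onto the principal p-block of N: every member of the principal block of G restricts to a member of the principal block of N, and every member of the principal block of N is the restriction of exactly one member of the principal block of G. -/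
theorem result {G : Type*} [Group G] [Finite G] (p : ℕ) [Fact p.Prime] (M : Ideal Cfsg.AlgInt) (hM : Cfsg.IsPModular p M) (N : Subgroup G) [N.Normal] (hidx : ¬ p ∣ N.index) (P : Sylow p G) (hsup : N ⊔ Subgroup.centralizer ((P : Subgroup G) : Set G) = ⊤) : (∀ χ ∈ Cfsg.principalBlock M G, ∃ θ ∈ Cfsg.principalBlock M ↥N, ∀ n : N, (χ : G → ℂ) n = (θ : N → ℂ) n) ∧ ∀ θ ∈ Cfsg.principalBlock M ↥N, ∃! χ : Cfsg.IrrCharacter G, χ ∈ Cfsg.principalBlock M G ∧ ∀ n : N, (χ : G → ℂ) n = (θ : N → ℂ) n := by
  haveI := hM.2.1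
  haveI : M.IsPrime := hM.2.1.isPrime
  haveI : Fintype G := Fintype.ofFinite _
  haveI : Fintype N := Fintype.ofFinite _
  haveI := charP_residue hM
  refine Contrib.restriction_bijective_of_le hM ?_
  rw [← Contrib.finrank_block (Contrib.isPBlock_principal (M := M) (G := G)),
    ← Contrib.finrank_block (Contrib.isPBlock_principal (M := M) (G := N))]
  refine Contrib.Supplement.finrank_le (p := p) N (map_mem_center (residue M) (blockIdem M _).2) ?_
    Contrib.aug_blockIdem Contrib.isNilpotent_principal_mul_sub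
    (exists_orbit p N hidx P hsup) hidx (map_mem_center (residue M) (blockIdem M _).2) ?_
    Contrib.isNilpotent_principal_mul_sub
  · exact (congrArg (toF M N) (congrArg Subtype.val (blockIdem_mul_self _))).symm.trans (map_mul _ _ _) |>.symm
  · exact (congrArg (toF M G) (congrArg Subtype.val (blockIdem_mul_self _))).symm.trans (map_mul _ _ _) |>.symm

end Cfsg.Agent.S4551
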