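import Cfsg.Statements.S4552
-- import your own Cfsg.Agent.* helpers here
import Cfsg.Agent.Lib.FreeInertiaHomocyclic
import Cfsg.Agent.Lib.NilBlock.Main
import Cfsg.Agent.Lib.FreeInertia.SignsTwo

set_option autoImplicit false
open Cfsg

namespace Cfsg.Agent.S4552

/-- Let B be a 2-block of the finite group G (relative to a maximal ideal M of the algebraic integers containing 2) whose defect group D is the direct product of two cyclic groups of the same order 2 ^ m, m ≥ 2. Then either B has 2-regular rank one and exactly 4 ^ m irreducible characters, or B has 2-regular rank three and exactly (4 ^ m + 8) / 3 irreducible characters. -/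
theorem result {G : Type*} [Group G] [Finite G] (M : Ideal Cfsg.AlgInt) (hM : Cfsg.IsPModular 2 M) (B : Set (Cfsg.IrrCharacter G)) (hB : Cfsg.IsPBlock M B) (D : Subgroup G) (hD : Cfsg.IsDefectGroup 2 M B D) (m : ℕ) (hm : 2 ≤ m) (hiso : Nonempty (D ≃* Multiplicative (ZMod (2 ^ m) × ZMod (2 ^ m)))) : (Cfsg.blockRank 2 B = 1 ∧ Nat.card B = 4 ^ m) ∨ (Cfsg.blockRank 2 B = 3 ∧ 3 * Nat.card B = 4 ^ m + 8) := by
  haveI := Fintype.ofFinite G
  haveI : Fact (Nat.Prime 2) := ⟨Nat.prime_two⟩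
  haveI : M.IsPrime := hM.2.1.isPrime
  obtain ⟨e⟩ := hiso
  obtain ⟨c, hmax⟩ := Lib.NilBlock.exists_maximal hM hB hD
  have hab : ∀ x ∈ D, ∀ y ∈ D, x * y = y * x := fun x hx y hy =>
    congrArg Subtype.val (e.injective (a₁ := ⟨x, hx⟩ * ⟨y, hy⟩) (a₂ := ⟨y, hy⟩ * ⟨x, hx⟩)
      (by rw [map_mul, map_mul, mul_comm]))
  have hne : ∃ w : D, w ≠ 1 := by
    have : Nontrivial D := e.toEquiv.nontrivial_congr.2 (by
      haveI : Fact (1 < 2 ^ m) := ⟨Nat.one_lt_two_pow (by omega)⟩
      exact Multiplicative.ofAdd.symm.nontrivial)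
    exact exists_ne 1
  exact Lib.FreeInertia.Homocyclic.invariants (b := ⟨D, c⟩) hM hmax (by omega) e hab
    (Lib.FreeInertia.hasSigns_two (b := ⟨D, c⟩) hM hmax hab
      (Lib.FreeInertia.Homocyclic.iner_facts (b := ⟨D, c⟩) hM hmax (by omega) e hab).2 rfl hne)

end Cfsg.Agent.S4552
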