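import Cfsg.Statements.S4553
import Mathlib
import Cfsg.Agent.Lib.Blocks.PrincipalSection
import Cfsg.Agent.Lib.Blocks.Covering
import Cfsg.Agent.Lib.PowMap.Basic
import Cfsg.Agent.Lib.DetHom
import Cfsg.Agent.Lib.CharExt.Obstruction
import Cfsg.Agent.Lib.CharExt.Characters
import Cfsg.Agent.Lib.Clifford.Gallagher
import Cfsg.Agent.Lib.Clifford.Restriction
import Cfsg.Agent.Lib.Transfer.PResidual
import Cfsg.Agent.Lib.GaloisChar.Basic

set_option autoImplicit false
open Cfsg

namespace Cfsg.Agent.S4553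

open Cfsg.Agent.Lib Cfsg.Agent.Lib.Blocks
open Cfsg.Agent.Lib.Clifford (conjFun resFun)
open scoped ComplexConjugate

theorem det_pow {G : Type*} [Group G] [Finite G] {k : ℕ} (hk : k.Coprime (Nat.card G))
    {χ : G → ℂ} (hχ : IsCharacter G χ) :
    DetHom.det (fun g => χ (g ^ k)) = DetHom.det χ ^ k := by
  obtain ⟨σ, hσ⟩ := GaloisChar.exists_ringEquiv_pow (m := Nat.card G) Nat.card_pos hk
  obtain ⟨n, ρ, rfl⟩ := hχ
  have hc : (fun g => ρ.character (g ^ k)) =
      (GaloisChar.galRep (σ : ℂ →+* ℂ) ρ).character := funext fun g => by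
    rw [GaloisChar.galRep_character]
    exact PowMap.char_pow_eq_gal (σ : ℂ →+* ℂ) hσ ⟨n, ρ, rfl⟩ g
  rw [hc]
  refine MonoidHom.ext fun g => Units.ext ?_
  rw [DetHom.det_eq, MonoidHom.pow_apply, Units.val_pow_eq_pow_val, DetHom.det_eq]
  show LinearMap.det (Matrix.toLin' ((LinearMap.toMatrix' (ρ g)).map (σ : ℂ →+* ℂ))) = _
  rw [LinearMap.det_toLin', ← RingHom.mapMatrix_apply, ← RingHom.map_det,
    LinearMap.det_toMatrix']
  refine hσ _ ?_
  rw [← map_pow, ← map_pow, pow_card_eq_one', map_one, map_one]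

theorem hom_pow_card_eq_one {G : Type*} [Group G] [Finite G] (μ : G →* ℂˣ) : μ ^ Nat.card G = 1 :=
  MonoidHom.ext fun g => by
    rw [MonoidHom.pow_apply, ← map_pow, pow_card_eq_one', map_one, MonoidHom.one_apply]

/-- Let G be a finite group, p a prime, P a Sylow p-subgroup, N the p-residual of G (the subgroup generated by the elements of order prime to p, the smallest normal subgroup with G/N a p-group), and M a maximal ideal of the algebraic integers containing p; suppose G/N is cyclic and nontrivial. Let k be a natural number with g ^ k = g ^ (1 + p) for every p-element g and g ^ k = g for every element g of order prime to p (so that χ (g ^ k) is the image of χ g under the field automorphism that raises p-power roots of unity to the power 1 + p and fixes the roots of unity of order prime to p). Then the number of members χ of the principal block of G of degree prime to p with χ (g ^ k) = χ g for all g equals p times the number of members θ of the principal block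 of N of degree prime to p that are invariant under conjugation by P and satisfy θ (n ^ k) = θ n for all n. -/
theorem result {G : Type*} [Group G] [Finite G] (p : ℕ) [Fact p.Prime] (M : Ideal Cfsg.AlgInt) (hM : Cfsg.IsPModular p M) (P : Sylow p G) (N : Subgroup G) [hN : N.Normal] (hNres : N = Cfsg.pResidual p G) (hcyc : IsCyclic (G ⧸ N)) (hnt : N ≠ ⊤) (k : ℕ) (hk₁ : ∀ g : G, (∃ j : ℕ, orderOf g = p ^ j) → g ^ k = g ^ (1 + p)) (hk₂ : ∀ g : G, Nat.Coprime (orderOf g) p → g ^ k = g) : Nat.card {χ : Cfsg.IrrCharacter G // χ ∈ Cfsg.principalBlock M G ∧ ¬ p ∣ Cfsg.charDegree (χ : G → ℂ) ∧ ∀ g : G, (χ : G → ℂ) (g ^ k) = (χ : G → ℂ) g} = p * Nat.card {θ : Cfsg.IrrCharacter ↥N // θ ∈ Cfsg.principalBlock M ↥N ∧ ¬ p ∣ Cfsg.charDegree (θ : ↥N → ℂ) ∧ (∀ x ∈ (P : Subgroup G), ∀ n : ↥N, (θ : ↥N → ℂ) ⟨x * n * x⁻¹, hN.conj_mem n n.2 x⟩ = (θ : ↥N → ℂ) n) ∧ ∀ n : ↥N, (θ : ↥N → ℂ) (n ^ k) = (θ : ↥N → ℂ) n} := by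
  classical
  cases nonempty_fintype G
  subst hNres
  set N := Cfsg.pResidual p G
  haveI : Fintype N := Fintype.ofFinite _
  have hp : p.Prime := Fact.out
  haveI : M.IsPrime := hM.2.1.isPrime
  haveI := hcyc
  obtain ⟨n, hn⟩ := Transfer.index_pResidual (G := G) (p := p)
  have hn0 : n ≠ 0 := fun h => hnt (Subgroup.index_eq_one.1 (by rw [hn, h, pow_zero]))
  have hk : k.Coprime (Nat.card G) := by
    by_contra h
    obtain ⟨q, hq, hqk, hqG⟩ := Nat.Prime.not_coprime_iff_dvd.mp h
    have := Fact.mk hq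
    obtain ⟨g, hg⟩ := exists_prime_orderOf_dvd_card' q hqG
    have hgk : g ^ k = 1 := orderOf_dvd_iff_pow_eq_one.mp (hg ▸ hqk)
    have hne : g ≠ 1 := fun h1 => hq.ne_one (by rw [← hg, h1, orderOf_one])
    by_cases hqp : q = p
    · subst hqp
      rw [hk₁ g ⟨1, by rw [hg, pow_one]⟩, pow_add, pow_one,
        orderOf_dvd_iff_pow_eq_one.1 hg.dvd, mul_one] at hgk
      exact hne hgk
    · rw [hk₂ g (hg ▸ (Nat.coprime_primes hq hp).2 hqp)] at hgk
      exact hne hgk
  let one : IrrCharacter G := ⟨fun _ => 1, Chars.isIrrCharacter_one⟩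
  let oneN : IrrCharacter N := ⟨fun _ => 1, Chars.isIrrCharacter_one⟩
  have hresone : resFun N (one : G → ℂ) = (oneN : N → ℂ) := rfl
  have honeN : classInner (resFun N (one : G → ℂ)) (oneN : N → ℂ) ≠ 0 := by
    rw [hresone, Chars.classInner_irr_self]; exact one_ne_zero
  have hblock : ∀ (χ : IrrCharacter G) (θ : IrrCharacter N), resFun N (χ : G → ℂ) = θ →
      (χ ∈ principalBlock M G ↔ θ ∈ principalBlock M N) := by
    intro χ θ hres
    have hcon : classInner (resFun N (χ : G → ℂ)) (θ : N → ℂ) ≠ 0 := by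
      rw [hres, Chars.classInner_irr_self]; exact one_ne_zero
    constructor
    · intro h
      obtain ⟨g, φ, hφ, hg⟩ := Covering.constituent_mem_conjClosure
        (PrincipalSection.isPBlock_principalBlock M N) (χ := one) (χ' := χ) h
        (θ := oneN) (sameBlock_refl _) honeN hcon
      have := Covering.sameBlock_conjFun g
        (show SameBlock M (oneN : N → ℂ) (φ : N → ℂ) from hφ)
      rw [hg] at this
      exact this
    · intro h
      exact Covering.sameBlock_of_common_block (χ := one) hM ⟨n, hn⟩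
        (show SameBlock M (oneN : N → ℂ) (θ : N → ℂ) from h) honeN hcon
  -- fixed p'-degree characters restrict to fixed invariant ones
  have hinvP : ∀ θ : IrrCharacter N, (∀ x ∈ (P : Subgroup G), ∀ m : N,
      (θ : N → ℂ) ⟨x * m * x⁻¹, hN.conj_mem m m.2 x⟩ = (θ : N → ℂ) m) →
      ∀ g : G, conjFun g (θ : N → ℂ) = θ := by
    intro θ h g
    funext m
    obtain ⟨a, ha, x, hx, rfl⟩ := Subgroup.mem_sup_of_normal_left.1
      (Transfer.pResidual_sup_sylow P ▸ Subgroup.mem_top g :
        g ∈ Cfsg.pResidual p G ⊔ (P : Subgroup G))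
    have e : MulAut.conjNormal (a * x) m = ⟨a, ha⟩ * ⟨x * m * x⁻¹, hN.conj_mem m m.2 x⟩ *
        (⟨a, ha⟩ : N)⁻¹ := Subtype.ext (by simp [mul_assoc])
    show (θ : N → ℂ) (MulAut.conjNormal (a * x) m) = _
    rw [e, Chars.irr_isClassFunction θ, h x hx]
  set SG := {χ : IrrCharacter G // χ ∈ principalBlock M G ∧ ¬ p ∣ charDegree (χ : G → ℂ) ∧
    ∀ g : G, (χ : G → ℂ) (g ^ k) = (χ : G → ℂ) g}
  set SN := {θ : IrrCharacter N // θ ∈ principalBlock M N ∧ ¬ p ∣ charDegree (θ : N → ℂ) ∧
    (∀ x ∈ (P : Subgroup G), ∀ m : N,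
      (θ : N → ℂ) ⟨x * m * x⁻¹, hN.conj_mem m m.2 x⟩ = (θ : N → ℂ) m) ∧
    ∀ m : N, (θ : N → ℂ) (m ^ k) = (θ : N → ℂ) m}
  have hdown : ∀ χ : SG, ∃ θ : SN, resFun N (χ.1 : G → ℂ) = (θ.1 : N → ℂ) := by
    rintro ⟨χ, hB, hdeg, hfix⟩
    obtain ⟨θ, hθ⟩ := Covering.exists_constituent (N := N) χ
    let T : Subgroup G :=
      { carrier := {g | conjFun g (θ : N → ℂ) = θ}
        one_mem' := Clifford.conjFun_one _
        mul_mem' := fun {a b} ha hb => by
          show conjFun (a * b) (θ : N → ℂ) = θ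
          rw [Clifford.conjFun_mul, ha, hb]
        inv_mem' := fun {a} ha => by
          show conjFun a⁻¹ (θ : N → ℂ) = θ
          conv_lhs => rw [← ha]
          rw [← Clifford.conjFun_mul, mul_inv_cancel, Clifford.conjFun_one] }
    have h1 := Clifford.apply_one_eq χ.2 θ.2 hθ T (fun g => Iff.rfl)
    obtain ⟨e, he⟩ := Chars.isCharacter_classInner_nat
      (Chars.isCharacter_restrict N (Chars.irr_isCharacter χ)) (Chars.irr_isCharacter θ)
    have he' : classInner (resFun N (χ : G → ℂ)) (θ : N → ℂ) = e := he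
    rw [he', ← (HeightZero.charDegree_eq χ).1, ← (HeightZero.charDegree_eq θ).1] at h1
    have h2 : charDegree (χ : G → ℂ) = e * (T.index * charDegree (θ : N → ℂ)) := by
      exact_mod_cast h1
    have hNT : N ≤ T := fun m hm => funext fun x => by
      show (θ : N → ℂ) (MulAut.conjNormal m x) = _
      rw [show MulAut.conjNormal m x = ⟨m, hm⟩ * x * (⟨m, hm⟩ : N)⁻¹ from
        Subtype.ext (by simp), Chars.irr_isClassFunction θ]
    have hT : T = ⊤ := by
      obtain ⟨i, -, hi⟩ := (Nat.dvd_prime_pow hp).1 (hn ▸ Subgroup.index_dvd_of_le hNT)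
      rcases i with _ | i
      · exact Subgroup.index_eq_one.1 (by rw [hi, pow_zero])
      · exact absurd (h2 ▸ (Dvd.dvd.mul_left ((hi ▸ dvd_pow_self p i.succ_ne_zero :
          p ∣ T.index).mul_right _) e)) hdeg
    have hinv : ∀ g : G, conjFun g (θ : N → ℂ) = θ := fun g =>
      (hT ▸ Subgroup.mem_top g : g ∈ T)
    have hres := Clifford.resFun_eq_smul_of_invariant χ.2 θ.2 hθ hinv
    rw [he'] at hres
    obtain ⟨R, hR⟩ : ∃ R : G → ℂ, IsIrrCharacter G R ∧ ∀ x : N, R x = (θ : N → ℂ) x := by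
      obtain ⟨m, τ, hτ, hτc⟩ := θ.2
      haveI := hτ
      refine CharExt.exists_irrCharacter_of_extension N τ _ hτc
        (CharExt.exists_extension_of_isCyclic N τ
          (CharExt.projG_surjective_of_char_invariant N τ _ hτc fun g x => ?_))
      exact congrFun (hinv g) x
    have hRres : resFun N R = (θ : N → ℂ) := funext hR.2
    obtain ⟨β, hβ⟩ := ((Clifford.gallagher hR.1 (hRres ▸ θ.2)).2.2 _ χ.2).1 (hRres ▸ hθ)
    have he1 : e = 1 := by
      have h3 := congrFun hres 1
      simp only [Clifford.resFun_apply, OneMemClass.coe_one, Pi.smul_apply, smul_eq_mul] at h3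
      rw [congrFun hβ 1, Pi.mul_apply,
        show (Chars.inflate N β : G → ℂ) 1 = (β : G ⧸ N → ℂ) 1 from rfl, ← OneMemClass.coe_one N,
        hR.2 1] at h3
      haveI : IsMulCommutative (G ⧸ N) := IsCyclic.isMulCommutative
      rw [Chars.irr_apply_one_of_comm β, mul_one] at h3
      have := mul_right_cancel₀ (Chars.irr_apply_one_ne_zero θ)
        ((one_mul _).trans h3)
      exact_mod_cast this.symm
    rw [he1, Nat.cast_one, one_smul] at hres
    refine ⟨⟨θ, (hblock χ θ hres).1 hB, fun h => hdeg (h2 ▸ (h.mul_left _).mul_left _),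
      fun x _ m => congrFun (hinv x) m, fun m => ?_⟩, hres⟩
    rw [← congrFun hres, ← congrFun hres]
    show (χ : G → ℂ) ((m ^ k : N) : G) = (χ : G → ℂ) m
    rw [SubgroupClass.coe_pow, hfix]
  choose down hdown' using hdown
  -- the fibres have p elements
  have hfib : ∀ θ : SN, Nat.card {χ : SG // down χ = θ} = p := by
    rintro ⟨θ, hθB, hθdeg, hθP, hθfix⟩
    have hinv := hinvP θ hθP
    obtain ⟨R, hR1, hR2⟩ : ∃ R : G → ℂ, IsIrrCharacter G R ∧ ∀ x : N, R x = (θ : N → ℂ) x := by
      obtain ⟨m, τ, hτ, hτc⟩ := θ.2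
      haveI := hτ
      refine CharExt.exists_irrCharacter_of_extension N τ _ hτc
        (CharExt.exists_extension_of_isCyclic N τ
          (CharExt.projG_surjective_of_char_invariant N τ _ hτc fun g x => ?_))
      exact congrFun (hinv g) x
    have hRres : resFun N R = (θ : N → ℂ) := funext hR2
    have hgal := Clifford.gallagher hR1 (hRres ▸ θ.2)
    haveI : IsMulCommutative (G ⧸ N) := IsCyclic.isMulCommutative
    -- every extension is a twist of R
    have hext : ∀ χ : IrrCharacter G, resFun N (χ : G → ℂ) = θ →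
        ∃ μ : G ⧸ N →* ℂˣ, ∀ g : G, (χ : G → ℂ) g = (μ g : ℂ) * R g := by
      intro χ hχ
      obtain ⟨β, hβ⟩ := (hgal.2.2 _ χ.2).1
        (by rw [hχ, hRres, Chars.classInner_irr_self]; exact one_ne_zero)
      obtain ⟨μ, hμ⟩ := Chars.exists_hom_of_degree_one (Chars.irr_isCharacter β)
        (Chars.irr_apply_one_of_comm β)
      refine ⟨μ, fun g => ?_⟩
      rw [congrFun hβ g, Pi.mul_apply, mul_comm]
      show (β : G ⧸ N → ℂ) (g : G ⧸ N) * _ = _
      rw [hμ]
    let twist : (G ⧸ N →* ℂˣ) → IrrCharacter G := fun μ =>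
      ⟨fun g => ((μ.comp (QuotientGroup.mk' N)) g : ℂ) * R g,
        Chars.isIrrCharacter_hom_mul _ hR1⟩
    have htwist : ∀ μ g, (twist μ : G → ℂ) g = (μ (g : G ⧸ N) : ℂ) * R g := fun _ _ => rfl
    have htres : ∀ μ, resFun N (twist μ : G → ℂ) = θ := fun μ => funext fun m => by
      show (twist μ : G → ℂ) m = _
      rw [htwist, (QuotientGroup.eq_one_iff (m : G)).2 m.2, map_one, Units.val_one, one_mul, hR2]
    have htinj : Function.Injective twist := by
      intro μ ν h
      have h' : (Chars.linIrr μ : IrrCharacter (G ⧸ N)) = Chars.linIrr ν :=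
        hgal.2.1 (funext fun g => (mul_comm (R g) (μ (g : G ⧸ N) : ℂ)).trans
          ((congrFun (congrArg Subtype.val h) g).trans (mul_comm _ _)))
      exact Chars.linIrr_injective h'
    -- the conjugate of R
    let Rk : IrrCharacter G := PowMap.powIrr hk ⟨R, hR1⟩
    obtain ⟨μ₀, hμ₀⟩ := hext Rk (funext fun m => by
      show R ((m : G) ^ k) = _
      rw [← SubgroupClass.coe_pow, hR2, hθfix])
    have hμ₀' : ∀ g : G, R (g ^ k) = (μ₀ g : ℂ) * R g := fun g => hμ₀ g
    -- elements of G/N are p-elements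
    have hpk : ∀ x : G ⧸ N, x ^ k = x ^ (1 + p) := by
      intro x
      obtain ⟨g, rfl⟩ := QuotientGroup.mk_surjective x
      obtain ⟨c, hcmem, hcN⟩ := Subgroup.mem_sup_of_normal_left.1
        (Transfer.pResidual_sup_sylow P ▸ Subgroup.mem_top g :
          g ∈ Cfsg.pResidual p G ⊔ (P : Subgroup G))
      obtain ⟨x, hx, hgx⟩ := hcN
      have hxg : (g : G ⧸ N) = (x : G ⧸ N) := by
        rw [← hgx, QuotientGroup.mk_mul, (QuotientGroup.eq_one_iff c).2 hcmem, one_mul]
      obtain ⟨j, hj⟩ := IsPGroup.iff_orderOf.1 P.isPGroup' ⟨x, hx⟩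
      rw [hxg, ← QuotientGroup.mk_pow, hk₁ x ⟨j, by rw [← hj, Subgroup.orderOf_mk]⟩,
        QuotientGroup.mk_pow]
    -- μ₀ is a p-th power
    have hμ₀p : ∃ ν : G ⧸ N →* ℂˣ, ν ^ p = μ₀ := by
      set d := charDegree (θ : N → ℂ)
      have hd : R 1 = d := by
        rw [(HeightZero.charDegree_eq θ).1, ← hR2 1, OneMemClass.coe_one]
      have hRc := Chars.isCharacter_of_isIrrCharacter hR1
      set α := DetHom.det R
      have hα : α ^ k = (μ₀.comp (QuotientGroup.mk' N)) ^ d * α := by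
        rw [← det_pow hk hRc, ← DetHom.det_hom_mul _ hRc hd]
        exact congrArg _ (funext hμ₀')
      -- the p-part of α lives on G/N
      set a := (Nat.card G).factorization p
      set g' := Nat.card G / p ^ a
      have hgg : p ^ a * g' = Nat.card G := Nat.ordProj_mul_ordCompl_eq_self _ p
      have hco : (p ^ a).Coprime g' :=
        (hp.coprime_iff_not_dvd.2 (Nat.not_dvd_ordCompl hp Nat.card_pos.ne')).pow_left a
      obtain ⟨e, he1, he2⟩ := Nat.chineseRemainder hco 1 0
      set αp := α ^ e with hαp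
      have hαpa : αp ^ p ^ a = 1 := by
        obtain ⟨l, hl⟩ := Nat.modEq_zero_iff_dvd.1 he2
        refine MonoidHom.ext fun g => ?_
        rw [hαp, MonoidHom.pow_apply, MonoidHom.pow_apply, ← pow_mul, hl,
          show g' * l * p ^ a = p ^ a * g' * l by ring, pow_mul, hgg, ← map_pow,
          pow_card_eq_one', map_one, one_pow, MonoidHom.one_apply]
      have hker : N ≤ αp.ker := by
        rw [Transfer.pResidual_le_iff]
        intro g hg
        rw [MonoidHom.mem_ker, ← orderOf_eq_one_iff]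
        refine Nat.eq_one_of_dvd_coprimes (hg.pow_right a) (orderOf_map_dvd αp g)
          (orderOf_dvd_of_pow_eq_one ?_)
        rw [← MonoidHom.pow_apply, hαpa, MonoidHom.one_apply]
      set ν := QuotientGroup.lift N αp hker
      have hν : ν.comp (QuotientGroup.mk' N) = αp := MonoidHom.ext fun _ => rfl
      have hquot : ∀ (ρ : G ⧸ N →* ℂˣ) (i j : ℕ), i ≡ j [MOD p ^ n] → ρ ^ i = ρ ^ j := by
        intro ρ i j hij
        refine MonoidHom.ext fun x => ?_
        rw [MonoidHom.pow_apply, MonoidHom.pow_apply]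
        refine pow_eq_pow_iff_modEq.2 (hij.of_dvd (orderOf_dvd_of_pow_eq_one ?_))
        rw [← hn, ← map_pow, Subgroup.index, pow_card_eq_one', map_one]
      have hνk : ν ^ k = ν ^ (1 + p) := MonoidHom.ext fun x => by
        rw [MonoidHom.pow_apply, MonoidHom.pow_apply, ← map_pow, ← map_pow, hpk]
      have h2 : ν * ν ^ p = μ₀ ^ (d * e) * ν := by
        refine MonoidHom.ext fun x => ?_
        rw [MonoidHom.mul_apply, MonoidHom.pow_apply, ← pow_succ', add_comm,
          ← MonoidHom.pow_apply, ← hνk]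
        obtain ⟨g, rfl⟩ := QuotientGroup.mk_surjective x
        have h3 := DFunLike.congr_fun (congrArg (· ^ e) hα) g
        simp only [MonoidHom.pow_apply, MonoidHom.mul_apply, MonoidHom.comp_apply] at h3 ⊢
        rw [show ν (g : G ⧸ N) = αp g from rfl, hαp, MonoidHom.pow_apply, ← pow_mul,
          mul_comm e k, pow_mul, h3, mul_pow, ← pow_mul]
        rfl
      rw [mul_comm ν, mul_right_cancel_iff] at h2
      have hde : (d * e).Coprime (p ^ n) := by
        refine Nat.Coprime.pow_right n (hp.coprime_iff_not_dvd.2 fun h => ?_).symm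
        rcases hp.dvd_mul.1 h with h | h
        · exact hθdeg h
        · have ha0 : a ≠ 0 := fun h0 => hn0 (by
            have h4 := Subgroup.index_dvd_card (Cfsg.pResidual p G)
            rw [hn] at h4
            have := (hp.pow_dvd_iff_le_factorization Nat.card_pos.ne').1 h4
            omega)
          have := Nat.modEq_zero_iff_dvd.2 h
          exact hp.ne_one (Nat.dvd_one.1 (Nat.modEq_zero_iff_dvd.1
            ((he1.of_dvd (dvd_pow_self p ha0)).symm.trans this)))
      obtain ⟨i, -, hi⟩ := Nat.exists_mul_mod_eq_one_of_coprime hde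
        (Nat.one_lt_pow hn0 hp.one_lt)
      refine ⟨ν ^ i, ?_⟩
      have e1 : (ν ^ i) ^ p = (ν ^ p) ^ i := MonoidHom.ext fun x => by
        simp only [MonoidHom.pow_apply, ← pow_mul, mul_comm p i]
      have e2 : (μ₀ ^ (d * e)) ^ i = μ₀ ^ (d * e * i) := MonoidHom.ext fun x => by
        simp only [MonoidHom.pow_apply, ← pow_mul]
      have e3 : μ₀ ^ 1 = μ₀ := MonoidHom.ext fun x => by simp
      rw [e1, h2, e2]
      conv_rhs => rw [← e3]
      refine hquot μ₀ _ _ ?_
      rw [Nat.ModEq, hi, Nat.mod_eq_of_lt (Nat.one_lt_pow hn0 hp.one_lt)]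
    obtain ⟨ν, hν⟩ := hμ₀p
    -- the fixed twists
    have hfixiff : ∀ μ : G ⧸ N →* ℂˣ,
        (∀ g : G, (twist μ : G → ℂ) (g ^ k) = (twist μ : G → ℂ) g) ↔ (μ * ν) ^ p = 1 := by
      intro μ
      have h1 : ∀ g : G, (twist μ : G → ℂ) (g ^ k) = (twist (μ ^ (1 + p) * μ₀) : G → ℂ) g := by
        intro g
        rw [htwist, htwist, hμ₀', QuotientGroup.mk_pow, hpk, map_pow, MonoidHom.mul_apply,
          MonoidHom.pow_apply, Units.val_mul, mul_assoc]
      simp only [h1]
      have h2 : (∀ g : G, (twist (μ ^ (1 + p) * μ₀) : G → ℂ) g = (twist μ : G → ℂ) g) ↔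
          μ ^ (1 + p) * μ₀ = μ :=
        ⟨fun h => htinj (Subtype.ext (funext h)), fun h g => by rw [h]⟩
      rw [h2]
      have e4 : μ ^ (1 + p) * μ₀ = μ * (μ * ν) ^ p := MonoidHom.ext fun x => by
        simp only [← hν, MonoidHom.mul_apply, MonoidHom.pow_apply, pow_add, pow_one, mul_pow,
          mul_assoc]
      rw [e4]
      exact ⟨fun h => MonoidHom.ext fun x => mul_eq_left.1 (DFunLike.congr_fun h x),
        fun h => by rw [h]; exact MonoidHom.ext fun x => by simp⟩
    have hcount : Nat.card {μ : G ⧸ N →* ℂˣ // (μ * ν) ^ p = 1} = p := by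
      rw [Nat.card_congr (Equiv.subtypeEquiv (Equiv.mulRight ν) (p := fun μ => (μ * ν) ^ p = 1)
        (q := fun μ : G ⧸ N →* ℂˣ => μ ^ p = 1) fun _ => Iff.rfl)]
      letI : CommGroup (G ⧸ N) := IsCyclic.commGroup
      obtain ⟨e⟩ := CommGroup.monoidHom_mulEquiv_of_hasEnoughRootsOfUnity (G ⧸ N) ℂ
      haveI : IsCyclic (G ⧸ N →* ℂˣ) := isCyclic_of_surjective e.symm e.symm.surjective
      have h := IsCyclic.card_powMonoidHom_ker (G ⧸ N →* ℂˣ) p
      have hc : Nat.card (G ⧸ N →* ℂˣ) = p ^ n := by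
        rw [Nat.card_congr e.toEquiv, ← hn]; rfl
      rw [hc, Nat.gcd_eq_right (dvd_pow_self p hn0)] at h
      exact (Nat.card_congr (Equiv.subtypeEquivRight fun μ => Iff.rfl)).trans h
    refine Eq.trans (Eq.symm ?_) hcount
    have hmem : ∀ μ : {μ : G ⧸ N →* ℂˣ // (μ * ν) ^ p = 1},
        twist μ.1 ∈ principalBlock M G ∧ ¬ p ∣ charDegree (twist μ.1 : G → ℂ) ∧
          ∀ g : G, (twist μ.1 : G → ℂ) (g ^ k) = (twist μ.1 : G → ℂ) g := fun μ =>
      ⟨(hblock _ θ (htres _)).2 hθB, by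
        rw [show charDegree (twist μ.1 : G → ℂ) = charDegree (θ : N → ℂ) by
          rw [charDegree, charDegree, ← congrFun (htres μ.1) 1]; rfl]
        exact hθdeg, (hfixiff _).2 μ.2⟩
    refine Nat.card_eq_of_bijective (fun μ =>
      (⟨⟨twist μ.1, hmem μ⟩, Subtype.ext (Subtype.ext ((hdown' _).symm.trans (htres _)))⟩ :
        {χ : SG // down χ = ⟨θ, hθB, hθdeg, hθP, hθfix⟩}))
      ⟨fun a b h => Subtype.ext (htinj (congrArg (fun z => z.1.1) h)), fun ⟨⟨χ, hχ⟩, hχθ⟩ => ?_⟩
    have hres : resFun N (χ : G → ℂ) = θ :=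
      (hdown' ⟨χ, hχ⟩).trans (congrArg (fun z : SN => (z.1 : N → ℂ)) hχθ)
    obtain ⟨μ, hμ⟩ := hext χ hres
    have hχμ : twist μ = χ := Subtype.ext (funext fun g => (hμ g).symm)
    exact ⟨⟨μ, (hfixiff μ).1 (hχμ ▸ hχ.2.2)⟩, Subtype.ext (Subtype.ext hχμ)⟩
  haveI : Fintype SN := Fintype.ofFinite _
  rw [← Nat.card_congr (Equiv.sigmaFiberEquiv down), Nat.card_sigma]
  rw [Finset.sum_congr rfl fun θ _ => hfib θ, Finset.sum_const, smul_eq_mul, Finset.card_univ,
    ← Nat.card_eq_fintype_card, mul_comm]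

end Cfsg.Agent.S4553
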