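import Cfsg.Statements.S4558
import Mathlib
import Cfsg.Agent.Lib.BlockCongr.Basic

set_option autoImplicit false
open Cfsg

namespace Cfsg.Agent.S4558

open Cfsg.Agent.Lib Cfsg.Agent.Lib.Blocks Cfsg.Agent.Lib.BlockCongr
/-- Let χ be a character of the finite group G and g an element of p-power order for the prime p. If χ g = 0, then p divides the degree of χ. -/
theorem result {G : Type*} [Group G] [Finite G] (p : ℕ) [Fact p.Prime] (χ : G → ℂ) (hχ : Cfsg.IsCharacter G χ) (g : G) (hg : ∃ j : ℕ, orderOf g = p ^ j) (h0 : χ g = 0) : p ∣ Cfsg.charDegree χ := by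
  obtain ⟨M, hM⟩ := Cfsg.Agent.Lib.CharCount.exists_isPModular p Fact.out
  have : M.IsPrime := isPModular_isPrime hM
  obtain ⟨j, hj⟩ := hg
  have h := char_congr_one hM hχ (g := g) (j := j) (by rw [← hj, pow_orderOf_eq_one])
  rw [h0, zero_sub] at h
  have h' := memLocalIdeal_neg h
  rw [neg_neg, ← charDegree_isCharacter hχ] at h'
  exact (memLocalIdeal_natCast_iff hM _).mp h'

end Cfsg.Agent.S4558
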