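import Cfsg.Statements.S4560
import Mathlib
import Cfsg.Agent.Lib.Chars.PermChar
import Cfsg.Agent.Lib.Chars.Indicator
import Cfsg.Agent.Lib.Chars.Ops
import Cfsg.Agent.Lib.Chars.Induced

set_option autoImplicit false
open Cfsg

namespace Cfsg.Agent.S4560

open Cfsg.Agent.Lib
open scoped ComplexConjugate

/-- The first index with the same value. -/
def pat {m : ℕ} {β : Type*} [DecidableEq β] (t : Fin m → β) : Fin m → Fin m := fun i =>
  (Finset.univ.filter fun j => t j = t i).min' ⟨i, by simp⟩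

theorem pat_spec {m : ℕ} {β : Type*} [DecidableEq β] (t : Fin m → β) (i : Fin m) :
    t (pat t i) = t i :=
  (Finset.mem_filter.1 (Finset.min'_mem (Finset.univ.filter fun j => t j = t i) _)).2

theorem pat_eq_iff {m : ℕ} {β : Type*} [DecidableEq β] (t : Fin m → β) (i j : Fin m) :
    pat t i = pat t j ↔ t i = t j := by
  constructor
  · intro h
    rw [← pat_spec t i, ← pat_spec t j, h]
  · intro h
    simp only [pat, h]

theorem pat_congr {m : ℕ} {β γ : Type*} [DecidableEq β] [DecidableEq γ] {t : Fin m → β}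
    {t' : Fin m → γ} (h : ∀ i j, t i = t j ↔ t' i = t' j) : pat t = pat t' := by
  funext i
  simp only [pat, h]

theorem pat_pat {m : ℕ} {β : Type*} [DecidableEq β] (t : Fin m → β) : pat (pat t) = pat t :=
  pat_congr fun i j => pat_eq_iff t i j

variable {n : ℕ} {G : Type*} [Group G] [Fintype G]

/-- Number of tuples moved by g as prescribed by w. -/
def twFix (σ : Equiv.Perm (Fin n)) {m : ℕ} (w : Equiv.Perm (Fin m)) : ℕ :=
  (Finset.univ.filter fun t : Fin m → Fin n => (fun i => σ (t i)) = fun i => t (w i)).card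

def patCount {m : ℕ} (w : Equiv.Perm (Fin m)) : ℕ :=
  (Finset.univ.filter fun v : Fin m → Fin m => pat v = v ∧ pat (fun i => v (w i)) = v).card

theorem exists_even_map (hn : 6 ≤ n) {m : ℕ} (hm : m ≤ 4) (t t' : Fin m → Fin n)
    (h : pat t = pat t') :
    ∃ σ : Equiv.Perm (Fin n), Equiv.Perm.sign σ = 1 ∧ ∀ i, σ (t i) = t' i := by
  classical
  have hk : ∀ i j, t i = t j ↔ t' i = t' j := fun i j => by
    rw [← pat_eq_iff t, h, pat_eq_iff]
  let fwd : {x // x ∈ Set.range t} → {x // x ∈ Set.range t'} := fun x =>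
    ⟨t' x.2.choose, Set.mem_range_self _⟩
  have hbij : Function.Bijective fwd := by
    refine ⟨fun x y hxy => ?_, fun y => ?_⟩
    · apply Subtype.ext
      rw [← x.2.choose_spec, ← y.2.choose_spec, hk]
      exact congrArg Subtype.val hxy
    · obtain ⟨i, hi⟩ := y.2
      refine ⟨⟨t i, Set.mem_range_self _⟩, Subtype.ext ?_⟩
      show t' _ = _
      rw [← hi, ← hk]
      exact (Set.mem_range_self i : t i ∈ Set.range t).choose_spec
  let σ : Equiv.Perm (Fin n) := (Equiv.ofBijective fwd hbij).extendSubtype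
  have hσ : ∀ i, σ (t i) = t' i := by
    intro i
    rw [show σ (t i) = (fwd ⟨t i, Set.mem_range_self _⟩ : Fin n) from
      Equiv.extendSubtype_apply_of_mem _ _ (Set.mem_range_self i)]
    show t' _ = _
    rw [← hk]
    exact (Set.mem_range_self i : t i ∈ Set.range t).choose_spec
  rcases Int.units_eq_one_or (Equiv.Perm.sign σ) with h1 | h1
  · exact ⟨σ, h1, hσ⟩
  · have hc : 1 < ((Finset.univ.image t')ᶜ).card := by
      rw [Finset.card_compl, Fintype.card_fin]
      have : (Finset.univ.image t').card ≤ 4 :=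
        Finset.card_image_le.trans (by rw [Finset.card_univ, Fintype.card_fin]; exact hm)
      omega
    obtain ⟨c, hc', d, hd', hcd⟩ := Finset.one_lt_card.1 hc
    refine ⟨Equiv.swap c d * σ, by rw [map_mul, Equiv.Perm.sign_swap hcd, h1]; rfl, fun i => ?_⟩
    rw [Equiv.Perm.mul_apply, hσ, Equiv.swap_apply_of_ne_of_ne]
    · exact fun h => Finset.mem_compl.1 hc' (h ▸ Finset.mem_image_of_mem t' (Finset.mem_univ i))
    · exact fun h => Finset.mem_compl.1 hd' (h ▸ Finset.mem_image_of_mem t' (Finset.mem_univ i))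

/-- Averages over a group mapping onto at least the alternating group. -/
theorem sum_twFix (hn : 6 ≤ n) (φ : G →* Equiv.Perm (Fin n))
    (hφ : ∀ σ, Equiv.Perm.sign σ = 1 → ∃ g, φ g = σ) {m : ℕ} (hm : m ≤ 4)
    (w : Equiv.Perm (Fin m)) :
    ∑ g : G, twFix (φ g) w = Fintype.card G * patCount w := by
  classical
  let cnt : (Fin m → Fin n) → (Fin m → Fin n) → ℕ := fun a b =>
    (Finset.univ.filter fun g : G => (fun i => φ g (a i)) = b).card
  have hcnt : ∀ a b c d : Fin m → Fin n, pat a = pat c → pat b = pat d →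
      cnt a b = cnt c d := by
    intro a b c d hac hbd
    obtain ⟨σ, hσ, hσa⟩ := exists_even_map hn hm a c hac
    obtain ⟨τ, hτ, hτb⟩ := exists_even_map hn hm b d hbd
    obtain ⟨s, rfl⟩ := hφ σ hσ
    obtain ⟨r, rfl⟩ := hφ τ hτ
    refine Finset.card_equiv ((Equiv.mulLeft r).trans (Equiv.mulRight s⁻¹)) fun g => ?_
    simp only [Finset.mem_filter, Finset.mem_univ, true_and, funext_iff, Equiv.trans_apply,
      Equiv.coe_mulLeft, Equiv.coe_mulRight, map_mul, map_inv, Equiv.Perm.mul_apply]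
    refine forall_congr' fun i => ?_
    rw [← hσa i, show (φ s)⁻¹ (φ s (a i)) = a i from (φ s).symm_apply_apply _, ← hτb i,
      (φ r).injective.eq_iff]
  have hpat : ∀ (g : G) (t : Fin m → Fin n), pat (fun i => φ g (t i)) = pat t := fun g t =>
    pat_congr fun i j => (φ g).injective.eq_iff
  unfold twFix
  simp only [Finset.card_filter]
  rw [Finset.sum_comm]
  simp only [← Finset.card_filter]
  rw [← Finset.sum_fiberwise Finset.univ (fun t : Fin m → Fin n => pat t)]
  rw [patCount, Finset.card_filter, Finset.mul_sum]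
  refine Finset.sum_congr rfl fun v _ => ?_
  by_cases hv : pat v = v ∧ pat (fun i => v (w i)) = v
  · rw [if_pos hv, mul_one]
    obtain ⟨e⟩ : Nonempty (Fin m ↪ Fin n) :=
      Function.Embedding.nonempty_of_card_le (by simp; omega)
    let t0 : Fin m → Fin n := fun i => e (v i)
    have ht0 : pat t0 = v :=
      (pat_congr (t := t0) (t' := v) fun i j => e.injective.eq_iff).trans hv.1
    rw [← Finset.card_univ, Finset.card_eq_sum_card_fiberwise (f := fun g => fun i => φ g (t0 i))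
      (t := Finset.univ.filter fun t : Fin m → Fin n => pat t = v)
      (fun g _ => Finset.mem_filter.2 ⟨Finset.mem_univ _, (hpat g t0).trans ht0⟩)]
    refine Finset.sum_congr rfl fun t ht => ?_
    rw [Finset.mem_filter] at ht
    refine hcnt t _ t0 t ?_ ?_
    · rw [ht.2, ht0]
    · rw [show pat (fun i => t (w i)) = pat (fun i => v (w i)) from
        pat_congr fun i j => by rw [← ht.2, pat_eq_iff], hv.2, ht.2]
  · rw [if_neg hv, mul_zero]
    refine Finset.sum_eq_zero fun t ht => ?_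
    rw [Finset.mem_filter] at ht
    rw [Finset.card_eq_zero, Finset.filter_eq_empty_iff]
    intro g _ hg
    refine hv ⟨by rw [← ht.2, pat_pat], ?_⟩
    rw [show pat (fun i => v (w i)) = pat (fun i => t (w i)) from
        pat_congr fun i j => by rw [← ht.2, pat_eq_iff], ← hg, hpat, ht.2]

/-- Direct sums of the prescribed permutations multiply. -/
theorem twFix_add (σ : Equiv.Perm (Fin n)) {a b : ℕ} (w₁ : Equiv.Perm (Fin a))
    (w₂ : Equiv.Perm (Fin b)) :
    twFix σ (finSumFinEquiv.permCongr (Equiv.sumCongr w₁ w₂)) = twFix σ w₁ * twFix σ w₂ := by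
  classical
  unfold twFix
  rw [← Finset.card_product]
  refine Finset.card_equiv (Fin.appendEquiv a b).symm fun t => ?_
  simp only [Finset.mem_filter, Finset.mem_univ, true_and, Finset.mem_product, funext_iff]
  constructor
  · intro h
    refine ⟨fun i => ?_, fun i => ?_⟩
    · simpa [Equiv.permCongr_apply, Fin.appendEquiv] using h (Fin.castAdd b i)
    · simpa [Equiv.permCongr_apply, Fin.appendEquiv] using h (Fin.natAdd a i)
  · intro h i
    refine Fin.addCases (fun j => ?_) (fun j => ?_) i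
    · simpa [Equiv.permCongr_apply, Fin.appendEquiv] using h.1 j
    · simpa [Equiv.permCongr_apply, Fin.appendEquiv] using h.2 j

/-- Fixed points. -/
def fx (σ : Equiv.Perm (Fin n)) : ℕ := (Finset.univ.filter fun x => σ x = x).card

theorem twFix_one (σ : Equiv.Perm (Fin n)) : twFix σ (1 : Equiv.Perm (Fin 1)) = fx σ :=
  Finset.card_equiv (Equiv.funUnique (Fin 1) (Fin n)) fun t => by
    simp [funext_iff]

theorem twFix_swap (σ : Equiv.Perm (Fin n)) :
    twFix σ (Equiv.swap (0 : Fin 2) 1) = fx (σ * σ) := by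
  refine Finset.card_bij' (fun t _ => t 0) (fun x _ => ![x, σ x]) ?_ ?_ ?_ ?_
  · intro t ht
    simp only [Finset.mem_filter, Finset.mem_univ, true_and, funext_iff, Fin.forall_fin_two,
      Equiv.swap_apply_left, Equiv.swap_apply_right] at ht ⊢
    rw [Equiv.Perm.mul_apply, ht.1, ht.2]
  · intro x hx
    have hx' : σ (σ x) = x := (Finset.mem_filter.1 hx).2
    simp [funext_iff, Fin.forall_fin_two, hx']
  · intro t ht
    simp only [Finset.mem_filter, Finset.mem_univ, true_and, funext_iff, Fin.forall_fin_two,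
      Equiv.swap_apply_left, Equiv.swap_apply_right] at ht
    funext i
    fin_cases i
    · rfl
    · simpa using ht.1
  · intro x _
    rfl

theorem moments (hn : 6 ≤ n) (φ : G →* Equiv.Perm (Fin n))
    (hφ : ∀ σ, Equiv.Perm.sign σ = 1 → ∃ g, φ g = σ) :
    (∑ g : G, fx (φ g) = Fintype.card G * 1) ∧
    (∑ g : G, fx (φ g) * fx (φ g) = Fintype.card G * 2) ∧
    (∑ g : G, fx (φ g) * fx (φ g) * fx (φ g) = Fintype.card G * 5) ∧
    (∑ g : G, fx (φ g) * fx (φ g) * fx (φ g) * fx (φ g) = Fintype.card G * 15) ∧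
    (∑ g : G, fx (φ g * φ g) = Fintype.card G * 2) ∧
    (∑ g : G, fx (φ g) * fx (φ g * φ g) = Fintype.card G * 3) ∧
    (∑ g : G, fx (φ g) * fx (φ g) * fx (φ g * φ g) = Fintype.card G * 7) ∧
    (∑ g : G, fx (φ g * φ g) * fx (φ g * φ g) = Fintype.card G * 7) := by
  have h := fun (m : ℕ) (hm : m ≤ 4) (w : Equiv.Perm (Fin m)) => sum_twFix hn φ hφ hm w
  let e1 : Equiv.Perm (Fin 1) := 1
  let s2 : Equiv.Perm (Fin 2) := Equiv.swap 0 1
  let ww : ∀ {a b : ℕ}, Equiv.Perm (Fin a) → Equiv.Perm (Fin b) → Equiv.Perm (Fin (a + b)) :=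
    fun w₁ w₂ => finSumFinEquiv.permCongr (Equiv.sumCongr w₁ w₂)
  have h1 := h 1 (by norm_num) e1
  have h2 := h 2 (by norm_num) (ww e1 e1)
  have h3 := h 3 (by norm_num) (ww (ww e1 e1) e1)
  have h4 := h 4 (by norm_num) (ww (ww (ww e1 e1) e1) e1)
  have h5 := h 2 (by norm_num) s2
  have h6 := h 3 (by norm_num) (ww e1 s2)
  have h7 := h 4 (by norm_num) (ww (ww e1 e1) s2)
  have h8 := h 4 (by norm_num) (ww s2 s2)
  simp only [ww, e1, s2, twFix_add, twFix_one, twFix_swap] at h1 h2 h3 h4 h5 h6 h7 h8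
  refine ⟨?_, ?_, ?_, ?_, ?_, ?_, ?_, ?_⟩
  · rw [h1]; congr 1
  · rw [h2]; congr 1
  · rw [h3]; congr 1
  · rw [h4]; congr 1
  · rw [h5]; congr 1
  · rw [h6]; congr 1
  · rw [h7]; congr 1
  · rw [h8]; congr 1

/-- The character of the partition (n-1,1). -/
noncomputable def chiStd (σ : Equiv.Perm (Fin n)) : ℂ := (fx σ : ℂ) - 1
/-- The character of the partition (n-2,2). -/
noncomputable def chiTwo (σ : Equiv.Perm (Fin n)) : ℂ :=
  ((fx σ : ℂ) * fx σ + fx (σ * σ)) / 2 - 2 * fx σ
/-- The character of the partition (n-2,1,1). -/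
noncomputable def chiAlt (σ : Equiv.Perm (Fin n)) : ℂ :=
  ((fx σ : ℂ) * fx σ - fx (σ * σ)) / 2 - fx σ + 1

theorem fx_eq_permChar (σ : Equiv.Perm (Fin n)) :
    (fx σ : ℂ) = (Nat.card (MulAction.fixedBy (Fin n) σ) : ℂ) := by
  unfold fx
  rw [Nat.card_eq_fintype_card, ← Fintype.card_subtype]
  exact congrArg Nat.cast (Fintype.card_congr (Equiv.refl _))

theorem isGeneralized_chars :
    IsGeneralizedCharacter (Equiv.Perm (Fin n)) chiStd ∧
      IsGeneralizedCharacter (Equiv.Perm (Fin n)) chiTwo ∧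
      IsGeneralizedCharacter (Equiv.Perm (Fin n)) chiAlt := by
  have hf : IsCharacter (Equiv.Perm (Fin n)) fun σ => (fx σ : ℂ) := by
    simp only [fx_eq_permChar]
    exact Chars.isCharacter_permChar (Fin n)
  have hone : IsGeneralizedCharacter (Equiv.Perm (Fin n)) fun _ => (1 : ℂ) :=
    Chars.isGeneralizedCharacter_of_isCharacter
      (Chars.isCharacter_of_isIrrCharacter Chars.isIrrCharacter_one)
  have hf' := Chars.isGeneralizedCharacter_of_isCharacter hf
  obtain ⟨d, ρ, hρ⟩ := hf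
  obtain ⟨s, a, hs, ha, h1, h2⟩ := Chars.exists_sym_alt ρ
  rw [hρ] at h1 h2
  refine ⟨Chars.isGeneralizedCharacter_sub hf' hone, ?_, ?_⟩
  · have h := Chars.isGeneralizedCharacter_sub (Chars.isGeneralizedCharacter_of_isCharacter hs)
      (Chars.isGeneralizedCharacter_add hf' hf')
    refine (funext fun σ => ?_ : chiTwo = _) ▸ h
    simp only [chiTwo, Pi.sub_apply, Pi.add_apply, h1 σ, h2 σ]
    ring
  · have h := Chars.isGeneralizedCharacter_add (Chars.isGeneralizedCharacter_sub
      (Chars.isGeneralizedCharacter_of_isCharacter ha) hf') hone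
    refine (funext fun σ => ?_ : chiAlt = _) ▸ h
    simp only [chiAlt, Pi.sub_apply, Pi.add_apply, h1 σ, h2 σ]
    ring

theorem norms (hn : 6 ≤ n) (φ : G →* Equiv.Perm (Fin n))
    (hφ : ∀ σ, Equiv.Perm.sign σ = 1 → ∃ g, φ g = σ) :
    classInner (fun g => chiStd (φ g)) (fun g => chiStd (φ g)) = 1 ∧
    classInner (fun g => chiTwo (φ g)) (fun g => chiTwo (φ g)) = 1 ∧
    classInner (fun g => chiAlt (φ g)) (fun g => chiAlt (φ g)) = 1 := by
  obtain ⟨h1, h2, h3, h4, h5, h6, h7, h8⟩ := moments hn φ hφ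
  have c1 := congrArg (Nat.cast (R := ℂ)) h1
  have c2 := congrArg (Nat.cast (R := ℂ)) h2
  have c3 := congrArg (Nat.cast (R := ℂ)) h3
  have c4 := congrArg (Nat.cast (R := ℂ)) h4
  have c5 := congrArg (Nat.cast (R := ℂ)) h5
  have c6 := congrArg (Nat.cast (R := ℂ)) h6
  have c7 := congrArg (Nat.cast (R := ℂ)) h7
  have c8 := congrArg (Nat.cast (R := ℂ)) h8
  push_cast at c1 c2 c3 c4 c5 c6 c7 c8
  have hG : (Fintype.card G : ℂ) ≠ 0 := Nat.cast_ne_zero.2 Fintype.card_ne_zero
  refine ⟨?_, ?_, ?_⟩ <;>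
    simp only [classInner, chiStd, chiTwo, chiAlt, map_sub, map_add, map_div₀, map_mul,
      Complex.conj_natCast, map_ofNat, map_one, Nat.card_eq_fintype_card] <;>
    rw [inv_mul_eq_iff_eq_mul₀ hG, mul_one]
  · calc _ = ∑ g : G, ((fx (φ g) : ℂ) * fx (φ g) - 2 * fx (φ g) + 1) :=
          Finset.sum_congr rfl fun g _ => by ring
      _ = _ := by
          simp only [Finset.sum_add_distrib, Finset.sum_sub_distrib, ← Finset.mul_sum, c1, c2,
            Finset.sum_const, Finset.card_univ, nsmul_eq_mul]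
          ring
  · calc _ = ∑ g : G, ((fx (φ g) : ℂ) * fx (φ g) * fx (φ g) * fx (φ g) / 4
          + (fx (φ g) : ℂ) * fx (φ g) * fx (φ g * φ g) / 2
          + (fx (φ g * φ g) : ℂ) * fx (φ g * φ g) / 4
          - 2 * ((fx (φ g) : ℂ) * fx (φ g) * fx (φ g))
          - 2 * ((fx (φ g) : ℂ) * fx (φ g * φ g))
          + 4 * ((fx (φ g) : ℂ) * fx (φ g))) :=
          Finset.sum_congr rfl fun g _ => by ring
      _ = _ := by
          simp only [Finset.sum_add_distrib, Finset.sum_sub_distrib, ← Finset.mul_sum,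
            ← Finset.sum_div, c2, c3, c4, c6, c7, c8]
          ring
  · calc _ = ∑ g : G, ((fx (φ g) : ℂ) * fx (φ g) * fx (φ g) * fx (φ g) / 4
          - (fx (φ g) : ℂ) * fx (φ g) * fx (φ g * φ g) / 2
          + (fx (φ g * φ g) : ℂ) * fx (φ g * φ g) / 4
          - (fx (φ g) : ℂ) * fx (φ g) * fx (φ g)
          + (fx (φ g) : ℂ) * fx (φ g * φ g)
          + 2 * ((fx (φ g) : ℂ) * fx (φ g))
          - 2 * (fx (φ g) : ℂ) - (fx (φ g * φ g) : ℂ) + 1) :=
          Finset.sum_congr rfl fun g _ => by ring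
      _ = _ := by
          simp only [Finset.sum_add_distrib, Finset.sum_sub_distrib, ← Finset.mul_sum,
            ← Finset.sum_div, c1, c2, c3, c4, c5, c6, c7, c8, Finset.sum_const, Finset.card_univ,
            nsmul_eq_mul]
          ring

/-- A degree-positive generalized character of norm 1 on both groups. -/
theorem exists_irr (hn : 6 ≤ n) {χ : Equiv.Perm (Fin n) → ℂ}
    (hgen : IsGeneralizedCharacter (Equiv.Perm (Fin n)) χ)
    (h1 : classInner χ χ = 1)
    (h2 : classInner (fun g : alternatingGroup (Fin n) => χ g)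
      (fun g : alternatingGroup (Fin n) => χ g) = 1)
    (hpos : 0 < (χ 1).re) :
    ∃ θ : IrrCharacter (alternatingGroup (Fin n)), ∃ ψ : IrrCharacter (Equiv.Perm (Fin n)),
      (∀ x : alternatingGroup (Fin n), (θ : alternatingGroup (Fin n) → ℂ) x = χ x) ∧
      ∀ σ, (ψ : Equiv.Perm (Fin n) → ℂ) σ = χ σ := by
  have key : ∀ {K : Type} [Group K] [Fintype K] {θ : K → ℂ}, IsGeneralizedCharacter K θ →
      classInner θ θ = 1 → 0 < (θ 1).re → IsIrrCharacter K θ := by
    intro K _ _ θ hg hn hp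
    rcases Chars.isGeneralizedCharacter_norm_one hg hn with h | h
    · exact h
    · obtain ⟨d, hd, hd'⟩ := Chars.isIrrCharacter_exists_degree_pos h
      rw [Pi.neg_apply, neg_eq_iff_eq_neg] at hd'
      rw [hd'] at hp
      simp only [Complex.neg_re, Complex.natCast_re] at hp
      have : (0 : ℝ) < d := by exact_mod_cast hd
      linarith
  have hres : IsGeneralizedCharacter (alternatingGroup (Fin n))
      (fun g : alternatingGroup (Fin n) => χ g) := by
    obtain ⟨a, b, ha, hb, rfl⟩ := hgen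
    exact ⟨_, _, Chars.isCharacter_restrict (alternatingGroup (Fin n)) ha,
      Chars.isCharacter_restrict (alternatingGroup (Fin n)) hb, rfl⟩
  exact ⟨⟨_, key hres h2 hpos⟩, ⟨_, key hgen h1 hpos⟩, fun _ => rfl, fun _ => rfl⟩

theorem exists_irr_three (hn : 6 ≤ n) (χ : Equiv.Perm (Fin n) → ℂ)
    (hχ : χ = chiStd ∨ χ = chiTwo ∨ χ = chiAlt) (x : alternatingGroup (Fin n)) (hx : χ x = 0) :
    ∃ θ : IrrCharacter (alternatingGroup (Fin n)),
      (θ : alternatingGroup (Fin n) → ℂ) x = 0 ∧ ∃ ψ : IrrCharacter (Equiv.Perm (Fin n)),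
        ∀ y : alternatingGroup (Fin n), (ψ : Equiv.Perm (Fin n) → ℂ) y =
          (θ : alternatingGroup (Fin n) → ℂ) y := by
  classical
  obtain ⟨hg1, hg2, hg3⟩ := isGeneralized_chars (n := n)
  have hS := norms hn (MonoidHom.id (Equiv.Perm (Fin n))) fun σ _ => ⟨σ, rfl⟩
  have hA := norms hn (alternatingGroup (Fin n)).subtype
    fun σ h => ⟨⟨σ, Equiv.Perm.mem_alternatingGroup.2 h⟩, rfl⟩
  have hfx1 : fx (1 : Equiv.Perm (Fin n)) = n := by simp [fx]
  have hn' : (6 : ℝ) ≤ n := by exact_mod_cast hn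
  obtain ⟨θ, ψ, hθ, hψ⟩ : ∃ θ : IrrCharacter (alternatingGroup (Fin n)),
      ∃ ψ : IrrCharacter (Equiv.Perm (Fin n)),
      (∀ x : alternatingGroup (Fin n), (θ : alternatingGroup (Fin n) → ℂ) x = χ x) ∧
      ∀ σ, (ψ : Equiv.Perm (Fin n) → ℂ) σ = χ σ := by
    rcases hχ with rfl | rfl | rfl
    · refine exists_irr hn hg1 hS.1 hA.1 ?_
      simp [chiStd, hfx1]; linarith
    · refine exists_irr hn hg2 hS.2.1 hA.2.1 ?_
      simp [chiTwo, hfx1]; nlinarith
    · refine exists_irr hn hg3 hS.2.2 hA.2.2 ?_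
      simp [chiAlt, hfx1]; nlinarith
  exact ⟨θ, by rw [hθ]; exact hx, ψ, fun y => by rw [hψ, hθ]⟩

theorem fx_eq (σ : Equiv.Perm (Fin n)) : fx σ = n - σ.cycleType.sum := by
  have h := Finset.card_compl σ.support
  rw [← Equiv.Perm.sum_cycleType, Fintype.card_fin] at h
  rw [← h, fx]
  congr 1
  ext x
  simp [Equiv.Perm.mem_support]

theorem fx_sq (σ : Equiv.Perm (Fin n)) (h2 : 2 ∉ σ.cycleType) : fx (σ * σ) = fx σ := by
  classical
  unfold fx
  congr 1
  ext x
  simp only [Finset.mem_filter, Finset.mem_univ, true_and]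
  refine ⟨fun h => ?_, fun h => by rw [Equiv.Perm.mul_apply, h, h]⟩
  by_contra hx
  have hc := Equiv.Perm.isCycle_cycleOf σ hx
  have hcx : σ.cycleOf x x = σ x := Equiv.Perm.cycleOf_apply_self σ x
  have hpow : σ.cycleOf x ^ 2 = 1 :=
    (hc.pow_eq_one_iff' (x := x) (by rw [hcx]; exact hx)).2 (by
      rw [Equiv.Perm.cycleOf_pow_apply_self, pow_two]; exact h)
  have hord : (σ.cycleOf x).support.card = 2 := by
    have hdvd := orderOf_dvd_of_pow_eq_one hpow
    rw [hc.orderOf] at hdvd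
    rcases (Nat.dvd_prime Nat.prime_two).1 hdvd with h' | h'
    · have := hc.two_le_card_support
      omega
    · exact h'
  refine h2 ?_
  rw [Equiv.Perm.cycleType_def, Multiset.mem_map]
  exact ⟨σ.cycleOf x,
    Finset.mem_def.1
    (Equiv.Perm.cycleOf_mem_cycleFactorsFinset_iff.2 (Equiv.Perm.mem_support.2 hx)), hord⟩

theorem exists_alt_cycleType (m : Multiset ℕ) (hs : m.sum ≤ n) (h2 : ∀ a ∈ m, 2 ≤ a)
    (hpar : Even (m.sum + Multiset.card m)) :
    ∃ x : alternatingGroup (Fin n), (x : Equiv.Perm (Fin n)).cycleType = m ∧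
      orderOf x = m.lcm := by
  obtain ⟨σ, hσ⟩ := (Equiv.Perm.exists_with_cycleType_iff (Fin n)).2
    ⟨by rw [Fintype.card_fin]; exact hs, h2⟩
  refine ⟨⟨σ, Equiv.Perm.mem_alternatingGroup.2 ?_⟩, hσ, ?_⟩
  · rw [Equiv.Perm.sign_of_cycleType, hσ]
    exact hpar.neg_one_pow
  · rw [Subgroup.orderOf_mk, ← Equiv.Perm.lcm_cycleType, hσ]

/-- For n ≥ 7 the alternating group on n letters has an irreducible character that vanishes at some 2-element and is the restriction of an irreducible character of the symmetric group, and an irreducible character that vanishes at some element of order 3 and is the restriction of an irreducible character of the symmetric group. -/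
theorem result (n : ℕ) (hn : 7 ≤ n) : (∃ χ : Cfsg.IrrCharacter (alternatingGroup (Fin n)), (∃ x : alternatingGroup (Fin n), (∃ j : ℕ, orderOf x = 2 ^ j) ∧ (χ : alternatingGroup (Fin n) → ℂ) x = 0) ∧ ∃ ψ : Cfsg.IrrCharacter (Equiv.Perm (Fin n)), ∀ x : alternatingGroup (Fin n), (ψ : Equiv.Perm (Fin n) → ℂ) x = (χ : alternatingGroup (Fin n) → ℂ) x) ∧ (∃ χ : Cfsg.IrrCharacter (alternatingGroup (Fin n)), (∃ y : alternatingGroup (Fin n), orderOf y = 3 ∧ (χ : alternatingGroup (Fin n) → ℂ) y = 0) ∧ ∃ ψ : Cfsg.IrrCharacter (Equiv.Perm (Fin n)), ∀ x : alternatingGroup (Fin n), (ψ : Equiv.Perm (Fin n) → ℂ) x = (χ : alternatingGroup (Fin n) → ℂ) x) := by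
  classical
  have hpow : ∀ {d : ℕ}, d ∣ 2 ^ 3 → ∃ j, d = 2 ^ j := fun h => by
    obtain ⟨j, -, hj⟩ := (Nat.dvd_prime_pow Nat.prime_two).1 h
    exact ⟨j, hj⟩
  have hfours : ∀ k : ℕ, 2 ≤ k → ∃ m : Multiset ℕ, m.sum = 4 * k ∧ (∀ a ∈ m, 4 ≤ a ∧ a ∣ 2 ^ 3) ∧
      Even (Multiset.card m) := by
    intro k hk
    rcases Nat.even_or_odd k with hev | hodd
    · exact ⟨Multiset.replicate k 4, by simp [mul_comm], fun a ha => by
        rw [Multiset.eq_of_mem_replicate ha]; norm_num, by simpa using hev⟩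
    · obtain ⟨l, rfl⟩ := hodd
      refine ⟨8 ::ₘ Multiset.replicate (2 * l - 1) 4, ?_, fun a ha => ?_, ?_⟩
      · simp only [Multiset.sum_cons, Multiset.sum_replicate, smul_eq_mul]; omega
      · rcases Multiset.mem_cons.1 ha with rfl | ha
        · norm_num
        · rw [Multiset.eq_of_mem_replicate ha]; norm_num
      · simp only [Multiset.card_cons, Multiset.card_replicate]
        rw [Nat.even_iff]; omega
  constructor
  · -- the 2-element
    rcases Nat.even_or_odd n with hev | hodd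
    · obtain ⟨k, e, hk, he⟩ : ∃ k e, 2 ≤ k ∧ n = 4 * k + e ∧ (e = 0 ∨ e = 2) := by
        obtain ⟨l, rfl⟩ := hev
        exact ⟨(l + l) / 4, (l + l) % 4, by omega, by omega, by omega⟩
      obtain ⟨m, hm1, hm2, hm3⟩ := hfours k hk
      obtain ⟨x, hx, hord⟩ := exists_alt_cycleType (n := n) m (by omega)
        (fun a ha => le_trans (by norm_num) (hm2 a ha).1)
        (Even.add ⟨2 * k, by omega⟩ hm3)
      have h1 : fx (x : Equiv.Perm (Fin n)) = e := by rw [fx_eq, hx]; omega
      have h2 : fx ((x : Equiv.Perm (Fin n)) * (x : Equiv.Perm (Fin n))) = e := by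
        rw [fx_sq _ fun h => ?_, h1]
        have := (hm2 2 (hx ▸ h)).1
        omega
      obtain ⟨χ, hχ, hx0⟩ : ∃ χ : Equiv.Perm (Fin n) → ℂ,
          (χ = chiStd ∨ χ = chiTwo ∨ χ = chiAlt) ∧ χ x = 0 := by
        rcases he.2 with rfl | rfl
        · exact ⟨chiTwo, Or.inr (Or.inl rfl), by simp [chiTwo, h1, h2]⟩
        · exact ⟨chiAlt, Or.inr (Or.inr rfl), by simp [chiAlt, h1, h2]; norm_num⟩
      obtain ⟨θ, hθ, hψ⟩ := exists_irr_three (by omega) χ hχ x hx0
      exact ⟨θ, ⟨x, hpow (hord ▸ Multiset.lcm_dvd.2 fun a ha => (hm2 a ha).2), hθ⟩, hψ⟩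
    · obtain ⟨l, hl⟩ := hodd
      obtain ⟨m, hm1, hm2, hm3⟩ : ∃ m : Multiset ℕ, m.sum = 2 * l ∧
          (∀ a ∈ m, 2 ≤ a ∧ a ∣ 2 ^ 3) ∧ Even (Multiset.card m) := by
        rcases Nat.even_or_odd l with hev | hodd
        · exact ⟨Multiset.replicate l 2, by simp [mul_comm], fun a ha => by
            rw [Multiset.eq_of_mem_replicate ha]; norm_num, by simpa using hev⟩
        · obtain ⟨j, rfl⟩ := hodd
          refine ⟨4 ::ₘ Multiset.replicate (2 * j - 1) 2, ?_, fun a ha => ?_, ?_⟩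
          · simp only [Multiset.sum_cons, Multiset.sum_replicate, smul_eq_mul]; omega
          · rcases Multiset.mem_cons.1 ha with rfl | ha
            · norm_num
            · rw [Multiset.eq_of_mem_replicate ha]; norm_num
          · simp only [Multiset.card_cons, Multiset.card_replicate]
            rw [Nat.even_iff]; omega
      obtain ⟨x, hx, hord⟩ := exists_alt_cycleType (n := n) m (by omega)
        (fun a ha => (hm2 a ha).1) (Even.add ⟨l, by omega⟩ hm3)
      have h1 : fx (x : Equiv.Perm (Fin n)) = 1 := by rw [fx_eq, hx]; omega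
      obtain ⟨θ, hθ, hψ⟩ := exists_irr_three (by omega) chiStd (Or.inl rfl) x
        (by simp [chiStd, h1])
      exact ⟨θ, ⟨x, hpow (hord ▸ Multiset.lcm_dvd.2 fun a ha => (hm2 a ha).2), hθ⟩, hψ⟩
  · -- the element of order 3
    obtain ⟨k, e, hk, hn', he⟩ : ∃ k e, 1 ≤ k ∧ n = 3 * k + e ∧ e < 3 :=
      ⟨n / 3, n % 3, by omega, by omega, Nat.mod_lt _ (by norm_num)⟩
    obtain ⟨x, hx, hord⟩ := exists_alt_cycleType (n := n) (Multiset.replicate k 3)
      (by simp; omega) (fun a ha => by rw [Multiset.eq_of_mem_replicate ha]; norm_num)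
      (by simp only [Multiset.sum_replicate, Multiset.card_replicate, smul_eq_mul]
          exact ⟨2 * k, by omega⟩)
    have hord3 : orderOf x = 3 := by
      rw [hord]
      apply Nat.dvd_antisymm
      · exact Multiset.lcm_dvd.2 fun a ha => (Multiset.eq_of_mem_replicate ha).dvd
      · exact Multiset.dvd_lcm (Multiset.mem_replicate.2 ⟨by omega, rfl⟩)
    have h1 : fx (x : Equiv.Perm (Fin n)) = e := by rw [fx_eq, hx]; simp; omega
    have h2 : fx ((x : Equiv.Perm (Fin n)) * (x : Equiv.Perm (Fin n))) = e := by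
      rw [fx_sq _ fun h => ?_, h1]
      rw [hx] at h
      exact absurd (Multiset.eq_of_mem_replicate h) (by norm_num)
    obtain ⟨χ, hχ, hx0⟩ : ∃ χ : Equiv.Perm (Fin n) → ℂ,
        (χ = chiStd ∨ χ = chiTwo ∨ χ = chiAlt) ∧ χ x = 0 := by
      interval_cases e
      · exact ⟨chiTwo, Or.inr (Or.inl rfl), by simp [chiTwo, h1, h2]⟩
      · exact ⟨chiStd, Or.inl rfl, by simp [chiStd, h1]⟩
      · exact ⟨chiAlt, Or.inr (Or.inr rfl), by simp [chiAlt, h1, h2]; norm_num⟩
    obtain ⟨θ, hθ, hψ⟩ := exists_irr_three (by omega) χ hχ x hx0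
    exact ⟨θ, ⟨x, hord3, hθ⟩, hψ⟩

end Cfsg.Agent.S4560
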