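import Cfsg.Statements.S4565
import Mathlib
import Cfsg.Agent.Lib.CharExt.Characters
import Cfsg.Agent.Lib.Clifford.Gallagher
import Cfsg.Agent.Lib.Chars.Induced
import Cfsg.Agent.Lib.Chars.Ops

set_option autoImplicit false
open Cfsg

namespace Cfsg.Agent.S4565

open Cfsg.Agent.Lib
open scoped ComplexConjugate

/-- Let χ be an irreducible character of the finite group H that is fully ramified over the normal subgroup Z: the restriction of χ to Z is e times an irreducible character of Z with e ^ 2 equal to the index of Z. If Z ≠ H, then H/Z has no cyclic subgroup that is its own centralizer. -/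
theorem result {H : Type*} [Group H] [Finite H] (Z : Subgroup H) [Z.Normal] (χ : Cfsg.IrrCharacter H) (hfr : ∃ (θ : Cfsg.IrrCharacter ↥Z) (e : ℕ), e ^ 2 = Z.index ∧ ∀ z : ↥Z, (χ : H → ℂ) z = (e : ℂ) * (θ : ↥Z → ℂ) z) (hZ : Z ≠ ⊤) (C : Subgroup (H ⧸ Z)) (hC : IsCyclic C) : Subgroup.centralizer (C : Set (H ⧸ Z)) ≠ C := by
  classical
  cases nonempty_fintype H
  intro hcent
  obtain ⟨θ, e, he2, heq⟩ := hfr
  haveI : Fintype ↥Z := Fintype.ofFinite _
  have hcl := Chars.irr_isClassFunction χ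
  have he0 : e ≠ 0 := fun h => Subgroup.index_ne_zero_of_finite (by rw [← he2, h]; rfl)
  have heC : (e : ℂ) ≠ 0 := Nat.cast_ne_zero.mpr he0
  have hinv : ∀ (g : H) (z : ↥Z),
      (θ : ↥Z → ℂ) ⟨g * z * g⁻¹, Subgroup.Normal.conj_mem ‹Z.Normal› z z.2 g⟩ = (θ : ↥Z → ℂ) z := by
    intro g z
    refine mul_left_cancel₀ heC ?_
    rw [← heq, ← heq]
    exact hcl z g
  -- the full ramification facts
  have hres : (fun z : ↥Z => (χ : H → ℂ) z) = (e : ℂ) • (θ : ↥Z → ℂ) := funext fun z => heq z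
  have hoff : ∀ g : H, g ∉ Z → (χ : H → ℂ) g = 0 := by
    intro g hg
    have h1 : ∑ x : H, Complex.normSq ((χ : H → ℂ) x) = (Nat.card H : ℝ) := by
      have h := Chars.classInner_irr_self χ
      rw [Cfsg.classInner, inv_mul_eq_iff_eq_mul₀ Chars.natCard_ne_zero, mul_one] at h
      have h' : ((∑ x : H, Complex.normSq ((χ : H → ℂ) x) : ℝ) : ℂ) = ((Nat.card H : ℝ) : ℂ) := by
        push_cast
        rw [← h]
        exact Finset.sum_congr rfl fun x _ => (Complex.mul_conj _).symm
      exact_mod_cast h'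
    have h2 : ∑ z : ↥Z, Complex.normSq ((χ : H → ℂ) z) = (Nat.card H : ℝ) := by
      have h := Chars.classInner_irr_self θ
      rw [Cfsg.classInner, inv_mul_eq_iff_eq_mul₀ Chars.natCard_ne_zero, mul_one] at h
      have h' : ((∑ z : ↥Z, Complex.normSq ((χ : H → ℂ) z) : ℝ) : ℂ) = ((Nat.card H : ℝ) : ℂ) := by
        push_cast
        have hcard : (Nat.card H : ℂ) = (e : ℂ) ^ 2 * (Nat.card ↥Z : ℂ) := by
          rw [← Nat.cast_pow, he2, ← Nat.cast_mul, Subgroup.index_mul_card]
        rw [hcard, ← h, Finset.mul_sum]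
        refine Finset.sum_congr rfl fun z _ => ?_
        rw [← Complex.mul_conj, heq, map_mul, Complex.conj_natCast]
        ring
      exact_mod_cast h'
    have h3 : ∑ x ∈ Finset.univ.filter (fun x => x ∈ Z), Complex.normSq ((χ : H → ℂ) x) =
        ∑ x : H, Complex.normSq ((χ : H → ℂ) x) := by
      rw [h1, ← h2]
      exact Finset.sum_subtype _ (by simp) _
    rw [← Finset.sum_filter_add_sum_filter_not Finset.univ (fun x => x ∈ Z), left_eq_add,
      Finset.sum_eq_zero_iff_of_nonneg (fun x _ => Complex.normSq_nonneg _)] at h3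
    exact Complex.normSq_eq_zero.mp (h3 g (by simp [hg]))
  have huniq : ∀ ψ : Cfsg.IrrCharacter H,
      Cfsg.classInner (fun z : ↥Z => (ψ : H → ℂ) z) (θ : ↥Z → ℂ) ≠ 0 → ψ = χ := by
    intro ψ hψ
    by_contra hne
    have h0 := Chars.classInner_irr_of_ne hne
    rw [Cfsg.classInner, mul_eq_zero, or_iff_right (inv_ne_zero Chars.natCard_ne_zero)] at h0
    apply hψ
    rw [Cfsg.classInner]
    refine mul_eq_zero_of_right _ (mul_left_cancel₀ heC ?_)
    rw [mul_zero, ← h0, ← Finset.sum_filter_add_sum_filter_not (s := Finset.univ)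
      (fun x : H => x ∈ Z), Finset.sum_eq_zero (s := Finset.univ.filter fun x => x ∉ Z)
      (fun x hx => by rw [hoff x (Finset.mem_filter.mp hx).2, map_zero, mul_zero]), add_zero,
      Finset.sum_subtype (Finset.univ.filter fun x => x ∈ Z) (p := fun x => x ∈ Z) (by simp),
      Finset.mul_sum]
    refine Finset.sum_congr rfl fun z _ => ?_
    rw [heq z, map_mul, Complex.conj_natCast]
    ring
  -- the preimage of C
  obtain ⟨c, hc⟩ := IsCyclic.exists_generator (α := C)
  obtain ⟨cH, hcH⟩ := QuotientGroup.mk'_surjective Z (c : H ⧸ Z)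
  set T : Subgroup H := C.comap (QuotientGroup.mk' Z) with hT
  haveI : Fintype ↥T := Fintype.ofFinite _
  have hZT : Z ≤ T := fun z hz => by
    rw [hT, Subgroup.mem_comap, QuotientGroup.mk'_apply, (QuotientGroup.eq_one_iff z).mpr hz]
    exact C.one_mem
  set N : Subgroup ↥T := Z.subgroupOf T with hN
  haveI hNn : N.Normal := Subgroup.normal_subgroupOf
  haveI : Fintype ↥N := Fintype.ofFinite _
  let f : ↥T →* ↥C := (QuotientGroup.mk' Z).subgroupComap C
  have hfker : f.ker = N := by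
    ext t
    rw [MonoidHom.mem_ker, hN, Subgroup.mem_subgroupOf, ← QuotientGroup.eq_one_iff]
    exact Subtype.ext_iff
  have hfsurj : Function.Surjective f :=
    (QuotientGroup.mk' Z).subgroupComap_surjective_of_surjective C (QuotientGroup.mk'_surjective Z)
  have hcyc : IsCyclic (↥T ⧸ N) :=
    isCyclic_of_surjective ((QuotientGroup.quotientMulEquivOfEq hfker).toMonoidHom.comp
      (QuotientGroup.quotientKerEquivOfSurjective f hfsurj).symm.toMonoidHom)
      ((QuotientGroup.quotientMulEquivOfEq hfker).surjective.comp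
        (QuotientGroup.quotientKerEquivOfSurjective f hfsurj).symm.surjective)
  haveI := hcyc
  -- extend θ
  let θN : ↥N → ℂ := fun n => (θ : ↥Z → ℂ) ⟨((n : ↥T) : H), n.2⟩
  have hθN : Cfsg.IsIrrCharacter ↥N θN :=
    Chars.isIrrCharacter_comp_mulEquiv (Subgroup.subgroupOfEquivOfLe hZT) θ.2
  obtain ⟨m, σ, hσirr, hσ⟩ := hθN
  haveI := hσirr
  obtain ⟨θh, hθh, hθhres⟩ := CharExt.exists_irrCharacter_of_extension N σ θN hσ
    (CharExt.exists_extension_of_isCyclic N σ
      (CharExt.projG_surjective_of_char_invariant N σ θN hσ fun g x =>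
        hinv (g : H) ⟨((x : ↥T) : H), x.2⟩))
  have hθhcl := Chars.isClassFunction_of_isCharacter (Chars.isCharacter_of_isIrrCharacter hθh)
  have hresN : Clifford.resFun N θh = θN := funext hθhres
  obtain ⟨hirr, hinj, -⟩ := Clifford.gallagher hθh (N := N)
    (by rw [hresN]; exact ⟨m, σ, hσirr, hσ⟩)
  let cT : ↥T := ⟨cH, by rw [hT, Subgroup.mem_comap, hcH]; exact c.2⟩
  haveI : Fintype (↥T ⧸ N) := Fintype.ofFinite _
  letI : CommGroup (↥T ⧸ N) := IsCyclic.commGroup
  -- the function supported on the coset of the generator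
  let F : ↥T → ℂ := fun t =>
    ∑ β : Cfsg.IrrCharacter (↥T ⧸ N), conj ((β : ↥T ⧸ N → ℂ) (cT : ↥T ⧸ N)) *
      (θh t * (β : ↥T ⧸ N → ℂ) (t : ↥T ⧸ N))
  have hFval : ∀ t : ↥T, F t = if (t : ↥T ⧸ N) = (cT : ↥T ⧸ N)
      then (Nat.card (Subgroup.centralizer ({(cT : ↥T ⧸ N)} : Set (↥T ⧸ N))) : ℂ) * θh t
      else 0 := by
    intro t
    have h := Chars.column_orthogonality_eq (t : ↥T ⧸ N) (cT : ↥T ⧸ N)
    rw [show F t = θh t * ∑ β : Cfsg.IrrCharacter (↥T ⧸ N), (β : ↥T ⧸ N → ℂ) (t : ↥T ⧸ N) *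
        conj ((β : ↥T ⧸ N → ℂ) (cT : ↥T ⧸ N)) by
      rw [Finset.mul_sum]; exact Finset.sum_congr rfl fun β _ => by ring, h, Chars.classIndicator]
    by_cases htc : (t : ↥T ⧸ N) = (cT : ↥T ⧸ N)
    · rw [if_pos htc, if_pos (htc ▸ IsConj.refl _)]
      ring
    · rw [if_neg htc, if_neg fun hc' => htc (isConj_iff_eq.mp hc').symm, mul_zero, mul_zero]
  have hFcl : Cfsg.IsClassFunction ↥T F := by
    intro g h
    have hq : ((h * g * h⁻¹ : ↥T) : ↥T ⧸ N) = (g : ↥T ⧸ N) := by
      rw [QuotientGroup.mk_mul, QuotientGroup.mk_mul, QuotientGroup.mk_inv, mul_comm (h : ↥T ⧸ N),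
        mul_inv_cancel_right]
    show (∑ β : Cfsg.IrrCharacter (↥T ⧸ N), _) = ∑ β : Cfsg.IrrCharacter (↥T ⧸ N), _
    rw [hq, hθhcl g h]
  -- the induced function is a multiple of χ
  have hmult : ∀ ψ : Cfsg.IrrCharacter H, ψ ≠ χ →
      Cfsg.classInner (Cfsg.indFun T F) (ψ : H → ℂ) = 0 := by
    intro ψ hne
    rw [Chars.classInner_indFun_left T F _ (Chars.irr_isClassFunction ψ)]
    obtain ⟨n, hn⟩ := Chars.isCharacter_exists_nat_decomp
      (Chars.isCharacter_restrict T (Chars.irr_isCharacter ψ))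
    have hF : F = ∑ β : Cfsg.IrrCharacter (↥T ⧸ N), conj ((β : ↥T ⧸ N → ℂ) (cT : ↥T ⧸ N)) •
        (θh * (Chars.inflate N β : ↥T → ℂ)) := by
      funext t
      simp only [F, Finset.sum_apply, Pi.smul_apply, smul_eq_mul, Pi.mul_apply]
      rfl
    rw [hF, Chars.classInner_sum_left]
    refine Finset.sum_eq_zero fun β _ => ?_
    rw [Chars.classInner_smul_left]
    refine mul_eq_zero_of_right _ ?_
    let η : Cfsg.IrrCharacter ↥T := ⟨θh * (Chars.inflate N β : ↥T → ℂ), hirr β⟩
    show Cfsg.classInner (η : ↥T → ℂ) _ = 0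
    rw [hn, Chars.classInner_sum_right, Finset.sum_eq_single η
      (fun η' _ h => by rw [Chars.classInner_smul_right, Chars.classInner_irr_of_ne h.symm,
        mul_zero]) (fun h => absurd (Finset.mem_univ η) h),
      Chars.classInner_smul_right, Chars.classInner_irr_self, mul_one, Complex.conj_natCast,
      Nat.cast_eq_zero]
    by_contra hnη
    apply hne (huniq ψ ?_)
    have hβ1 : (β : ↥T ⧸ N → ℂ) 1 = 1 := Chars.irr_apply_one_of_comm β
    have hz : ∀ z : ↥Z, (η : ↥T → ℂ) ⟨(z : H), hZT z.2⟩ = (θ : ↥Z → ℂ) z := by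
      intro z
      show θh ⟨(z : H), hZT z.2⟩ * (β : ↥T ⧸ N → ℂ) _ = _
      rw [(QuotientGroup.eq_one_iff _).mpr (show (⟨(z : H), hZT z.2⟩ : ↥T) ∈ N from z.2), hβ1,
        mul_one]
      exact hθhres ⟨⟨(z : H), hZT z.2⟩, z.2⟩
    have hdec : (fun z : ↥Z => (ψ : H → ℂ) z) =
        ∑ ρ : Cfsg.IrrCharacter ↥T, (n ρ : ℂ) • fun z : ↥Z => (ρ : ↥T → ℂ) ⟨(z : H), hZT z.2⟩ := by
      funext z
      have h := congrFun hn ⟨(z : H), hZT z.2⟩
      simp only [Finset.sum_apply, Pi.smul_apply] at h ⊢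
      exact h
    rw [hdec, Chars.classInner_sum_left]
    have hnat : ∀ ρ : Cfsg.IrrCharacter ↥T, ∃ k : ℕ, Cfsg.classInner
        (fun z : ↥Z => (ρ : ↥T → ℂ) ⟨(z : H), hZT z.2⟩) (θ : ↥Z → ℂ) = k := fun ρ =>
      Chars.isCharacter_classInner_nat
        (Chars.isCharacter_comp (Subgroup.inclusion hZT) (Chars.irr_isCharacter ρ))
        (Chars.irr_isCharacter θ)
    choose k hk using hnat
    simp only [Chars.classInner_smul_left, hk, ← Nat.cast_mul, ← Nat.cast_sum, Nat.cast_ne_zero]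
    intro h0
    rw [Finset.sum_eq_zero_iff] at h0
    have hkη : k η = 1 := by
      have h := hk η
      rw [show (fun z : ↥Z => (η : ↥T → ℂ) ⟨(z : H), hZT z.2⟩) = (θ : ↥Z → ℂ) from funext hz,
        Chars.classInner_irr_self] at h
      exact_mod_cast h.symm
    have := h0 η (Finset.mem_univ η)
    rw [hkη, mul_one] at this
    exact hnη this
  have hcZ : ∀ t : ↥T, (t : ↥T ⧸ N) = (cT : ↥T ⧸ N) → (t : H) ∉ Z := by
    intro t ht hz
    have h1 : (cT : ↥T ⧸ N) = 1 := ht.symm.trans ((QuotientGroup.eq_one_iff t).mpr hz)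
    have h2 : (c : H ⧸ Z) = 1 := by
      rw [← hcH, QuotientGroup.mk'_apply, QuotientGroup.eq_one_iff]
      exact (QuotientGroup.eq_one_iff cT).mp h1
    have hC : C = ⊥ := by
      rw [Subgroup.eq_bot_iff_forall]
      intro x hx
      obtain ⟨j, hj⟩ := hc ⟨x, hx⟩
      have := congrArg Subtype.val hj
      simp only [SubgroupClass.coe_zpow, h2, one_zpow] at this
      exact this.symm
    rw [hC, Subgroup.coe_bot] at hcent
    apply hZ
    rw [eq_top_iff]
    intro x _
    have hx : (x : H ⧸ Z) ∈ Subgroup.centralizer ({1} : Set (H ⧸ Z)) := by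
      rw [Subgroup.mem_centralizer_singleton_iff, mul_one, one_mul]
    rw [hcent, Subgroup.mem_bot, QuotientGroup.eq_one_iff] at hx
    exact hx
  -- some element of the coset carries a nonzero value
  obtain ⟨t, htc, htne⟩ : ∃ t : ↥T, (t : ↥T ⧸ N) = (cT : ↥T ⧸ N) ∧ θh t ≠ 0 := by
    by_contra hno
    push Not at hno
    have hzero : ∑ β : Cfsg.IrrCharacter (↥T ⧸ N), conj ((β : ↥T ⧸ N → ℂ) (cT : ↥T ⧸ N)) •
        ((⟨θh * (Chars.inflate N β : ↥T → ℂ), hirr β⟩ : Cfsg.IrrCharacter ↥T) : ↥T → ℂ) = 0 := by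
      funext t
      have h := hFval t
      simp only [Finset.sum_apply, Pi.smul_apply, smul_eq_mul, Pi.zero_apply]
      refine h.trans ?_
      split_ifs with ht
      · rw [hno t ht, mul_zero]
      · rfl
    have hli := Fintype.linearIndependent_iff.mp
      ((Chars.irr_linearIndependent (G := ↥T)).comp
        (fun β => ⟨θh * (Chars.inflate N β : ↥T → ℂ), hirr β⟩)
        (fun a b h => hinj (congrArg Subtype.val h))) _ hzero (Chars.trivialIrr _)
    simp at hli
  have hindval : Cfsg.indFun T F (t : H) = F t := by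
    rw [Cfsg.indFun]
    have h1 : ∀ g : H, Cfsg.extendByZero T F (g⁻¹ * (t : H) * g) = if g ∈ T then F t else 0 := by
      intro g
      split_ifs with hg
      · rw [Chars.extendByZero_of_mem _ (T.mul_mem (T.mul_mem (T.inv_mem hg) t.2) hg)]
        have := hFcl t (⟨g, hg⟩ : ↥T)⁻¹
        rw [inv_inv] at this
        exact this
      · by_cases hy : g⁻¹ * (t : H) * g ∈ T
        · rw [Chars.extendByZero_of_mem _ hy, hFval, if_neg]
          intro hyc
          apply hg
          have hq : ∀ s : ↥T, (s : ↥T ⧸ N) = (cT : ↥T ⧸ N) → ((s : H) : H ⧸ Z) = (c : H ⧸ Z) := by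
            intro s hs
            rw [← hcH, QuotientGroup.mk'_apply, QuotientGroup.eq]
            have h := (QuotientGroup.eq (s := N)).mp hs
            exact h
          have e1 := hq _ hyc
          have e2 := hq t htc
          simp only [QuotientGroup.mk_mul, QuotientGroup.mk_inv, e2] at e1
          rw [hT, Subgroup.mem_comap, QuotientGroup.mk'_apply, ← hcent, Subgroup.mem_centralizer_iff]
          intro x hx
          obtain ⟨j, hj⟩ := hc ⟨x, hx⟩
          have hj' : (c : H ⧸ Z) ^ j = x := congrArg Subtype.val hj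
          rw [← hj']
          have hcomm : Commute (g : H ⧸ Z) (c : H ⧸ Z) := by
            show (g : H ⧸ Z) * c = c * g
            conv_lhs => rw [← e1]
            group
          exact (hcomm.zpow_right j).symm
        · rw [Chars.extendByZero_of_not_mem _ hy]
    simp only [h1]
    rw [← Finset.sum_filter, Finset.sum_const, nsmul_eq_mul,
      ← Fintype.card_subtype, Fintype.card_eq_nat_card,
      inv_mul_cancel_left₀ Chars.natCard_ne_zero]
  have hzero : Cfsg.indFun T F (t : H) = 0 := by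
    rw [Chars.isClassFunction_apply_eq_sum_classInner (Chars.isClassFunction_indFun T F)]
    refine Finset.sum_eq_zero fun ψ _ => ?_
    by_cases hψ : ψ = χ
    · rw [hψ, hoff _ (hcZ t htc), mul_zero]
    · rw [hmult ψ hψ, zero_mul]
  rw [hindval, hFval, if_pos htc] at hzero
  exact htne ((mul_eq_zero.mp hzero).resolve_left (Nat.cast_ne_zero.mpr Nat.card_pos.ne'))

end Cfsg.Agent.S4565
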