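import Cfsg.Statements.S4566
import Mathlib
import Cfsg.Agent.Lib.Chars.Ops
import Cfsg.Agent.Lib.Chars.Completeness

set_option autoImplicit false
open Cfsg

namespace Cfsg.Agent.S4566

open Cfsg.Agent.Lib

/-- A character lying over a linear character of a central subgroup is multiplicative along it. -/
theorem apply_mul_central {G : Type*} [Group G] [Fintype G] (N : Subgroup G) [Fintype N]
    (hN : N ≤ Subgroup.center G) (ψ : Cfsg.IrrCharacter ↥N) (χ : Cfsg.IrrCharacter G)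
    (hover : Cfsg.classInner (fun n : ↥N => (χ : G → ℂ) n) (ψ : ↥N → ℂ) ≠ 0) (g : G) (n : ↥N) :
    (χ : G → ℂ) (g * n) = (χ : G → ℂ) g * (ψ : ↥N → ℂ) n := by
  obtain ⟨d, ρ, hρ, hρχ⟩ := χ.2
  have hsc : ∀ m : ↥N, ∃ c : ℂ, ρ (m : G) = c • (1 : Module.End ℂ (Fin d → ℂ)) := fun m =>
    Chars.exists_scalar_of_commute ρ _ fun h => by
      show ρ (m : G) * ρ h = ρ h * ρ (m : G)
      rw [← map_mul, ← map_mul, Subgroup.mem_center_iff.mp (hN m.2) h]
  choose lam hlam using hsc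
  have : Nontrivial (Fin d → ℂ) := Chars.nontrivial_of_isIrreducible ρ
  have hone : (1 : Module.End ℂ (Fin d → ℂ)) ≠ 0 := one_ne_zero
  have hmul : ∀ a b : ↥N, lam (a * b) = lam a * lam b := fun a b => by
    apply smul_left_injective ℂ hone
    show lam (a * b) • (1 : Module.End ℂ (Fin d → ℂ)) = (lam a * lam b) • 1
    rw [← hlam, Subgroup.coe_mul, map_mul, hlam, hlam, smul_mul_smul_comm, one_mul]
  have hlam1 : lam 1 = 1 := by
    apply smul_left_injective ℂ hone
    show lam 1 • (1 : Module.End ℂ (Fin d → ℂ)) = (1 : ℂ) • 1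
    rw [← hlam, Subgroup.coe_one, map_one, one_smul]
  let f : ↥N →* ℂ := { toFun := lam, map_one' := hlam1, map_mul' := hmul }
  have hval : ∀ (h : G) (m : ↥N), (χ : G → ℂ) (h * m) = (χ : G → ℂ) h * lam m := fun h m => by
    rw [← hρχ]
    show LinearMap.trace ℂ _ (ρ (h * m)) = LinearMap.trace ℂ _ (ρ h) * lam m
    rw [map_mul, hlam, mul_smul_comm, mul_one, map_smul, smul_eq_mul, mul_comm]
  let l : Cfsg.IrrCharacter ↥N := Chars.linIrr f.toHomUnits
  have hl : (fun m : ↥N => (χ : G → ℂ) m) = (χ : G → ℂ) 1 • (l : ↥N → ℂ) := by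
    funext m
    have := hval 1 m
    rw [one_mul] at this
    rw [this, Pi.smul_apply, smul_eq_mul]
    rfl
  rw [hl, Chars.classInner_smul_left] at hover
  have heq : l = ψ := by
    by_contra hne
    exact hover (by rw [Chars.classInner_irr_of_ne hne, mul_zero])
  rw [hval, ← heq]
  rfl

/-- Let N be a central subgroup of the finite group G, ψ a faithful irreducible (hence degree-one) character of N, and χ an irreducible character of G whose restriction to N contains ψ. If g ∈ G and some x ∈ G has commutator x⁻¹ g⁻¹ x g in N but different from 1, then χ g = 0. -/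
theorem result {G : Type*} [Group G] [Fintype G] (N : Subgroup G) [Fintype N] (hN : N ≤ Subgroup.center G) (ψ : Cfsg.IrrCharacter ↥N) (hfaith : ∀ n : ↥N, (ψ : ↥N → ℂ) n = (ψ : ↥N → ℂ) 1 → n = 1) (χ : Cfsg.IrrCharacter G) (hover : Cfsg.classInner (fun n : ↥N => (χ : G → ℂ) n) (ψ : ↥N → ℂ) ≠ 0) (g x : G) (hcomm : x⁻¹ * g⁻¹ * x * g ∈ N) (hne : x⁻¹ * g⁻¹ * x * g ≠ 1) : (χ : G → ℂ) g = 0 := by
  obtain ⟨c, hc⟩ : ∃ c : ↥N, (c : G) = x⁻¹ * g⁻¹ * x * g := ⟨⟨_, hcomm⟩, rfl⟩
  have h1 := apply_mul_central N hN ψ χ hover (x⁻¹ * g * x) c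
  have h2 : x⁻¹ * g * x * (c : G) = g := by rw [hc]; group
  have h3 : (χ : G → ℂ) (x⁻¹ * g * x) = (χ : G → ℂ) g := by
    have := Chars.irr_isClassFunction χ g x⁻¹
    rwa [inv_inv] at this
  rw [h2, h3] at h1
  by_contra hg
  have h4 : (ψ : ↥N → ℂ) c = 1 := mul_left_cancel₀ hg (by rw [mul_one]; exact h1.symm)
  have h5 := apply_mul_central N hN ψ χ hover 1 (1 : ↥N)
  rw [one_mul, Subgroup.coe_one] at h5
  have h6 : (ψ : ↥N → ℂ) 1 = 1 :=
    mul_left_cancel₀ (Chars.irr_apply_one_ne_zero χ) (by rw [mul_one]; exact h5.symm)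
  apply hne
  rw [← hc, hfaith c (h4.trans h6.symm), Subgroup.coe_one]

end Cfsg.Agent.S4566
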