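import Cfsg.Statements.S4567
import Mathlib
import Cfsg.Agent.S4566
import Cfsg.Agent.Lib.Chars.Ops
import Cfsg.Agent.Lib.Chars.Induced
import Cfsg.Agent.Lib.Chars.Completeness

set_option autoImplicit false
open Cfsg

namespace Cfsg.Agent.S4567

open Cfsg.Agent.Lib
open scoped ComplexConjugate

/-- A coset is special when commutators with it landing in N are trivial. -/
def Special {G : Type*} [Group G] (N : Subgroup G) (g : G) : Prop :=
  ∀ x : G, x⁻¹ * g⁻¹ * x * g ∈ N → x * g = g * x

theorem special_mul {G : Type*} [Group G] (N : Subgroup G) (hN : N ≤ Subgroup.center G) {g n : G}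
    (hn : n ∈ N) (h : Special N g) : Special N (g * n) := by
  have hc : ∀ y : G, y * n = n * y := Subgroup.mem_center_iff.mp (hN hn)
  intro x hx
  have he : x⁻¹ * (g * n)⁻¹ * x * (g * n) = x⁻¹ * g⁻¹ * x * g := by
    calc x⁻¹ * (g * n)⁻¹ * x * (g * n) = x⁻¹ * n⁻¹ * (g⁻¹ * x * g * n) := by group
      _ = x⁻¹ * n⁻¹ * (n * (g⁻¹ * x * g)) := by rw [hc (g⁻¹ * x * g)]
      _ = x⁻¹ * g⁻¹ * x * g := by group
  rw [← mul_assoc, h x (he ▸ hx), mul_assoc, hc x, ← mul_assoc]

theorem special_conj {G : Type*} [Group G] (N : Subgroup G) [N.Normal] {g : G} (c : G)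
    (h : Special N g) : Special N (c * g * c⁻¹) := by
  intro x hx
  have h1 := h (c⁻¹ * x * c) (by
    have := Subgroup.Normal.conj_mem ‹N.Normal› _ hx c⁻¹
    convert this using 1
    group)
  calc x * (c * g * c⁻¹) = c * ((c⁻¹ * x * c) * g) * c⁻¹ := by group
    _ = c * (g * (c⁻¹ * x * c)) * c⁻¹ := by rw [h1]
    _ = c * g * c⁻¹ * x := by group

theorem special_of_isConj {G : Type*} [Group G] (N : Subgroup G) [N.Normal]
    (hN : N ≤ Subgroup.center G) {g h : G} (hc : IsConj (g : G ⧸ N) (h : G ⧸ N))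
    (hs : Special N g) : Special N h := by
  obtain ⟨c, hc⟩ := isConj_iff.mp hc
  obtain ⟨c, rfl⟩ := QuotientGroup.mk'_surjective N c
  have hm : (c * g * c⁻¹)⁻¹ * h ∈ N := by
    rw [← QuotientGroup.eq]
    simpa using hc
  have := special_mul N hN hm (special_conj N c hs)
  rwa [mul_inv_cancel_left] at this

/-- The weighted orbit count: each special element contributes the reciprocal of class size
times the order of N. -/
theorem index_centralizer_of_special {G : Type*} [Group G] (N : Subgroup G) [N.Normal]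
    (hN : N ≤ Subgroup.center G) {g : G} (hs : Special N g) :
    (Subgroup.centralizer ({(g : G ⧸ N)} : Set (G ⧸ N))).index =
      (Subgroup.centralizer ({g} : Set G)).index := by
  rw [← Subgroup.index_comap_of_surjective _ (QuotientGroup.mk'_surjective N)]
  congr 1
  ext x
  rw [Subgroup.mem_comap, Subgroup.mem_centralizer_singleton_iff,
    Subgroup.mem_centralizer_singleton_iff]
  constructor
  · intro h
    refine hs x ?_
    rw [QuotientGroup.mk'_apply] at h
    rw [← QuotientGroup.eq_one_iff]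
    show (x : G ⧸ N)⁻¹ * (g : G ⧸ N)⁻¹ * (x : G ⧸ N) * (g : G ⧸ N) = 1
    rw [mul_assoc, h]
    group
  · intro h
    rw [QuotientGroup.mk'_apply, ← QuotientGroup.mk_mul, ← QuotientGroup.mk_mul, h]

open Classical in
/-- The projection of column values onto the characters over ψ. -/
theorem sum_conj_mul_eq {G : Type*} [Group G] [Fintype G] (N : Subgroup G) [Fintype N]
    (hN : N ≤ Subgroup.center G) (ψ : Cfsg.IrrCharacter ↥N) (χ : Cfsg.IrrCharacter G) (g : G) :
    Cfsg.classInner (fun n : ↥N => (χ : G → ℂ) (g * n)) (ψ : ↥N → ℂ) =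
      if Cfsg.classInner (fun n : ↥N => (χ : G → ℂ) n) (ψ : ↥N → ℂ) ≠ 0
        then (χ : G → ℂ) g else 0 := by
  obtain ⟨ψ', hψ'⟩ : ∃ ψ' : Cfsg.IrrCharacter ↥N,
      Cfsg.classInner (fun n : ↥N => (χ : G → ℂ) n) (ψ' : ↥N → ℂ) ≠ 0 := by
    by_contra hne
    push Not at hne
    refine Chars.irr_apply_one_ne_zero χ ?_
    have := Chars.isClassFunction_apply_eq_sum_classInner
      (Chars.isClassFunction_of_isCharacter (Chars.isCharacter_restrict N (Chars.irr_isCharacter χ)))
      (1 : ↥N)
    simp only [hne, zero_mul, Finset.sum_const_zero, Subgroup.coe_one] at this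
    exact this
  have hm := fun h => S4566.apply_mul_central N hN ψ' χ hψ' h
  have h1 : (fun n : ↥N => (χ : G → ℂ) n) = (χ : G → ℂ) 1 • (ψ' : ↥N → ℂ) := by
    funext n
    simpa using hm 1 n
  rw [show (fun n : ↥N => (χ : G → ℂ) (g * n)) = (χ : G → ℂ) g • (ψ' : ↥N → ℂ) from
    funext fun n => hm g n, h1, Chars.classInner_smul_left, Chars.classInner_smul_left]
  by_cases he : ψ' = ψ
  · subst he
    rw [Chars.classInner_irr_self, mul_one, mul_one, if_pos (Chars.irr_apply_one_ne_zero χ)]
  · rw [Chars.classInner_irr_of_ne he, mul_zero, mul_zero, if_neg (not_not.mpr rfl)]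

/-- Let N be a central subgroup of the finite group G and ψ a faithful irreducible (hence degree-one) character of N. Call a coset g N special when every x ∈ G whose commutator x⁻¹ g⁻¹ x g lies in N actually commutes with g (this depends only on the coset). Then the number of irreducible characters of G whose restriction to N contains ψ equals the number of conjugacy classes of G/N consisting of special cosets. -/
theorem result {G : Type*} [Group G] [Fintype G] (N : Subgroup G) [N.Normal] [Fintype N] (hN : N ≤ Subgroup.center G) (ψ : Cfsg.IrrCharacter ↥N) (hfaith : ∀ n : ↥N, (ψ : ↥N → ℂ) n = (ψ : ↥N → ℂ) 1 → n = 1) : Nat.card {χ : Cfsg.IrrCharacter G // Cfsg.classInner (fun n : ↥N => (χ : G → ℂ) n) (ψ : ↥N → ℂ) ≠ 0} = Nat.card {C : ConjClasses (G ⧸ N) // ∃ g : G, ConjClasses.mk (g : G ⧸ N) = C ∧ ∀ x : G, x⁻¹ * g⁻¹ * x * g ∈ N → x * g = g * x} := by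
  classical
  set P : Cfsg.IrrCharacter G → Prop := fun χ =>
    Cfsg.classInner (fun n : ↥N => (χ : G → ℂ) n) (ψ : ↥N → ℂ) ≠ 0
  set Q : ConjClasses (G ⧸ N) → Prop := fun C => ∃ g : G, ConjClasses.mk (g : G ⧸ N) = C ∧
    ∀ x : G, x⁻¹ * g⁻¹ * x * g ∈ N → x * g = g * x
  haveI : Fintype (G ⧸ N) := Fintype.ofFinite _
  haveI : Fintype (ConjClasses (G ⧸ N)) := Fintype.ofFinite _
  have hψ1 : (ψ : ↥N → ℂ) 1 = 1 := by
    have : IsMulCommutative ↥N := ⟨⟨fun a b => Subtype.ext
      (Subgroup.mem_center_iff.mp (hN b.2) a)⟩⟩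
    exact Chars.irr_apply_one_of_comm ψ
  -- column sums over the characters above ψ
  have hcol : ∀ g : G, ∑ χ ∈ Finset.univ.filter P, (χ : G → ℂ) g * conj ((χ : G → ℂ) g) =
      if Special N g then
        (Nat.card (Subgroup.centralizer ({g} : Set G)) : ℂ) / (Nat.card N : ℂ) else 0 := by
    intro g
    split_ifs with hg
    · have h1 : ∀ χ : Cfsg.IrrCharacter G, (if P χ then (χ : G → ℂ) g * conj ((χ : G → ℂ) g) else 0)
          = (Nat.card N : ℂ)⁻¹ * ∑ n : ↥N,
            ((χ : G → ℂ) (g * n) * conj ((χ : G → ℂ) g)) * conj ((ψ : ↥N → ℂ) n) := by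
        intro χ
        have h := sum_conj_mul_eq N hN ψ χ g
        rw [Cfsg.classInner] at h
        calc (if P χ then (χ : G → ℂ) g * conj ((χ : G → ℂ) g) else 0)
            = (if P χ then (χ : G → ℂ) g else 0) * conj ((χ : G → ℂ) g) := by
              split_ifs <;> simp
          _ = _ := by
              rw [← h, mul_assoc, Finset.sum_mul]
              congr 1
              exact Finset.sum_congr rfl fun n _ => by ring
      rw [Finset.sum_filter, Finset.sum_congr rfl fun χ _ => h1 χ, ← Finset.mul_sum,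
        Finset.sum_comm, Finset.sum_eq_single (1 : ↥N) (fun n _ hn => ?_)
          (fun h => absurd (Finset.mem_univ _) h)]
      · rw [Subgroup.coe_one, mul_one, ← Finset.sum_mul,
          Chars.column_orthogonality_of_isConj (IsConj.refl g), hψ1, map_one, mul_one,
          inv_mul_eq_div]
      · rw [← Finset.sum_mul, Chars.column_orthogonality_of_not_isConj (fun hc => hn ?_), zero_mul]
        obtain ⟨c, hc⟩ := isConj_iff.mp hc
        have hcn := Subgroup.mem_center_iff.mp (hN n.2)
        have hc2 : c * g * c⁻¹ = g * (n : G)⁻¹ := by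
          calc c * g * c⁻¹ = c * g * (n * c⁻¹) * (n : G)⁻¹ := by rw [← hcn]; group
            _ = c * (g * n) * c⁻¹ * (n : G)⁻¹ := by group
            _ = g * (n : G)⁻¹ := by rw [hc]
        have hmem : c⁻¹⁻¹ * g⁻¹ * c⁻¹ * g ∈ N := by
          have h3 : c⁻¹⁻¹ * g⁻¹ * c⁻¹ * g = (n : G) := by
            calc c⁻¹⁻¹ * g⁻¹ * c⁻¹ * g = (c * g * c⁻¹)⁻¹ * g := by group
              _ = (n : G) := by rw [hc2]; group
          exact h3 ▸ n.2
        have h4 := hg c⁻¹ hmem
        have h5 : c * g * c⁻¹ = g := by rw [mul_assoc, ← h4, mul_inv_cancel_left]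
        rw [h5, left_eq_mul, inv_eq_one] at hc2
        exact Subtype.ext hc2
    · refine Finset.sum_eq_zero fun χ hχ => ?_
      simp only [Special, not_forall] at hg
      obtain ⟨x, hx, hne⟩ := hg
      rw [S4566.result N hN ψ hfaith χ (Finset.mem_filter.mp hχ).2 g x hx ?_, zero_mul]
      intro h
      apply hne
      calc x * g = g * x * (x⁻¹ * g⁻¹ * x * g) := by group
        _ = g * x := by rw [h, mul_one]
  have hS : (Nat.card {χ : Cfsg.IrrCharacter G // P χ} : ℂ) =
      ∑ g : G, if Special N g then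
        ((Subgroup.centralizer ({g} : Set G)).index * Nat.card N : ℂ)⁻¹ else 0 := by
    have h1 : ∀ χ : Cfsg.IrrCharacter G,
        (Nat.card G : ℂ)⁻¹ * ∑ g : G, (χ : G → ℂ) g * conj ((χ : G → ℂ) g) = 1 :=
      fun χ => Chars.classInner_irr_self χ
    rw [Nat.card_eq_fintype_card, Fintype.card_subtype, Finset.card_eq_sum_ones, Nat.cast_sum]
    push_cast
    rw [Finset.sum_congr rfl fun χ _ => (h1 χ).symm, ← Finset.mul_sum, Finset.sum_comm,
      Finset.mul_sum]
    refine Finset.sum_congr rfl fun g _ => ?_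
    rw [hcol g]
    split_ifs
    · have hm : (Nat.card G : ℂ) = ((Subgroup.centralizer ({g} : Set G)).index : ℂ) *
          (Nat.card (Subgroup.centralizer ({g} : Set G)) : ℂ) := by
        exact_mod_cast (Chars.index_centralizer_mul_card g).symm
      have := Chars.card_centralizer_ne_zero g
      rw [hm]
      field_simp
    · rw [mul_zero]
  have hQ : (Nat.card {C : ConjClasses (G ⧸ N) // Q C} : ℂ) =
      ∑ g : G, if Special N g then
        ((Subgroup.centralizer ({g} : Set G)).index * Nat.card N : ℂ)⁻¹ else 0 := by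
    rw [← Finset.sum_fiberwise Finset.univ (fun g : G => ConjClasses.mk (g : G ⧸ N)),
      Nat.card_eq_fintype_card, Fintype.card_subtype, Finset.card_eq_sum_ones, Nat.cast_sum,
      Finset.sum_filter]
    push_cast
    refine Finset.sum_congr rfl fun C _ => ?_
    split_ifs with hC
    · obtain ⟨g₀, rfl, hg₀⟩ := hC
      have hsp : ∀ g : G, ConjClasses.mk (g : G ⧸ N) = ConjClasses.mk (g₀ : G ⧸ N) →
          Special N g := fun g hg => special_of_isConj N hN
        (ConjClasses.mk_eq_mk_iff_isConj.mp hg).symm hg₀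
      have hidx : ∀ g : G, ConjClasses.mk (g : G ⧸ N) = ConjClasses.mk (g₀ : G ⧸ N) →
          (Subgroup.centralizer ({g} : Set G)).index =
            (Subgroup.centralizer ({(g₀ : G ⧸ N)} : Set (G ⧸ N))).index := by
        intro g hg
        rw [← index_centralizer_of_special N hN (hsp g hg), ← Chars.card_conjClass_eq_index,
          ← Chars.card_conjClass_eq_index]
        have hc := ConjClasses.mk_eq_mk_iff_isConj.mp hg
        exact Nat.card_congr (Equiv.subtypeEquivRight fun x =>
          ⟨fun hx => hc.symm.trans hx, fun hx => hc.trans hx⟩)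
      rw [Finset.sum_congr rfl (g := fun _ => ((Subgroup.centralizer
          ({(g₀ : G ⧸ N)} : Set (G ⧸ N))).index * Nat.card N : ℂ)⁻¹) (fun g hg => ?_),
        Finset.sum_const, nsmul_eq_mul]
      · have hcard : (Finset.univ.filter fun g : G =>
            ConjClasses.mk (g : G ⧸ N) = ConjClasses.mk (g₀ : G ⧸ N)).card =
            Nat.card N * (Subgroup.centralizer ({(g₀ : G ⧸ N)} : Set (G ⧸ N))).index := by
          rw [← Fintype.card_subtype, ← Nat.card_eq_fintype_card,
            ← Chars.card_conjClass_eq_index, ← Nat.card_prod]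
          refine Nat.card_congr ((Equiv.subtypeEquivRight fun g => ?_).trans
            (QuotientGroup.preimageMkEquivSubgroupProdSet N {x | IsConj (g₀ : G ⧸ N) x}))
          rw [ConjClasses.mk_eq_mk_iff_isConj]
          exact ⟨fun h => h.symm, fun h => IsConj.symm h⟩
        rw [hcard]
        have hn : (Nat.card N : ℂ) ≠ 0 := Nat.cast_ne_zero.mpr Nat.card_pos.ne'
        have hi : ((Subgroup.centralizer ({(g₀ : G ⧸ N)} : Set (G ⧸ N))).index : ℂ) ≠ 0 :=
          Nat.cast_ne_zero.mpr Subgroup.index_ne_zero_of_finite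
        push_cast
        field_simp
      · rw [Finset.mem_filter] at hg
        rw [if_pos (hsp g hg.2), hidx g hg.2]
    · refine (Finset.sum_eq_zero fun g hg => ?_).symm
      rw [Finset.mem_filter] at hg
      rw [if_neg fun h : Special N g => hC ⟨g, hg.2, h⟩]
  exact_mod_cast hS.trans hQ.symm

end Cfsg.Agent.S4567
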