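import Cfsg.Statements.S4569
import Cfsg.Agent.Lib.SixteenNine.Count

set_option autoImplicit false
open Cfsg

namespace Cfsg.Agent.S4569

/-- Let G be a finite group whose Sylow 2-subgroup P is elementary abelian of order 16, suppose the centralizer of P has index 9 in its normalizer, and let M be a maximal ideal of the algebraic integers containing 2. Then the principal 2-block contains exactly 16 irreducible characters and has 2-regular rank 9. -/
theorem result {G : Type*} [Group G] [Finite G] (M : Ideal Cfsg.AlgInt) (hM : Cfsg.IsPModular 2 M) (P : Sylow 2 G) (hcard : Nat.card P = 16) (hel : ∀ x : P, x ^ 2 = 1) (he : (Subgroup.centralizer ((P : Subgroup G) : Set G)).relIndex (Subgroup.normalizer ((P : Subgroup G) : Set G)) = 9) : Nat.card (Cfsg.principalBlock M G) = 16 ∧ Cfsg.blockRank 2 (Cfsg.principalBlock M G) = 9 := by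
  haveI := Cfsg.Agent.Lib.Blocks.isPModular_isPrime hM
  haveI : Fact (Nat.Prime 2) := ⟨Nat.prime_two⟩
  cases nonempty_fintype G
  refine Cfsg.Agent.Lib.SixteenNine.invariants hM P hcard (fun w => ?_) (fun x hx y hy => ?_) ?_
  · exact congrArg Subtype.val (hel w)
  · have h : ∀ z : (P : Subgroup G), z⁻¹ = z := fun z =>
      inv_eq_of_mul_eq_one_right (by rw [← sq]; exact hel z)
    have hc : (⟨x, hx⟩ : (P : Subgroup G)) * ⟨y, hy⟩ = ⟨y, hy⟩ * ⟨x, hx⟩ := by
      rw [← h (⟨x, hx⟩ * ⟨y, hy⟩), mul_inv_rev, h, h]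
    exact congrArg Subtype.val hc
  · rw [Cfsg.Agent.Lib.SixteenNine.card_autImage]
    exact he

end Cfsg.Agent.S4569
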