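import Cfsg.Statements.S4573
import Cfsg.Agent.Lib.MGroup.Wreath
import Cfsg.Agent.Lib.Supersolvable.Schmidt
import Cfsg.Agent.S0176


set_option autoImplicit false
universe u
open Cfsg

namespace Cfsg.Agent.S4573

open Cfsg.Agent.Lib

/-- Every finite solvable group embeds in a finite M-group. -/
theorem exists_embedding : ∀ (n : ℕ) (G : Type u) [Group G] [Finite G],
    Group.IsSolvable G → Nat.card G = n →
    ∃ (M : Type u) (_ : Group M) (_ : Fintype M), MGroup.IsMonomialGroup M ∧
      ∃ f : G →* M, Function.Injective f := by
  intro n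
  induction n using Nat.strong_induction_on with
  | _ n ih =>
    intro G _ _ hsolv hn
    classical
    rcases subsingleton_or_nontrivial G with hs | hs
    · have := Fintype.ofFinite G
      exact ⟨G, inferInstance, inferInstance,
        fun χ hχ => Cfsg.Agent.S0176.result χ hχ, MonoidHom.id G, Function.injective_id⟩
    · obtain ⟨N, hN, hp⟩ := Supersolvable.exists_normal_prime_index G
      have : Fact N.index.Prime := ⟨hp⟩
      have hlt : Nat.card N < n := by
        rw [← hn, ← N.card_mul_index]
        exact lt_mul_of_one_lt_right Nat.card_pos hp.one_lt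
      obtain ⟨A, iA, iA', hA, f, hf⟩ := ih _ hlt N inferInstance rfl
      let _ := iA
      let _ := iA'
      have := Fintype.ofFinite (G ⧸ N)
      have := Fintype.ofFinite (RegularWreathProduct A (G ⧸ N))
      let s : G ⧸ N → G := Quotient.out
      have hs' : ∀ x, (s x : G ⧸ N) = x := fun x => Quotient.out_eq x
      have hmem : ∀ (g : G) (x : G ⧸ N), (s x)⁻¹ * g * s ((g : G ⧸ N)⁻¹ * x) ∈ N := fun g x => by
        rw [← QuotientGroup.eq_one_iff]
        simp only [QuotientGroup.mk_mul, QuotientGroup.mk_inv, hs']
        group
      let φ : G →* RegularWreathProduct A (G ⧸ N) := MonoidHom.mk'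
        (fun g => ⟨fun x => f ⟨_, hmem g x⟩, (g : G ⧸ N)⟩) fun g h => by
          refine RegularWreathProduct.ext (funext fun x => ?_) (QuotientGroup.mk_mul N g h)
          simp only [RegularWreathProduct.mul_left, Pi.mul_apply]
          rw [← map_mul]
          congr 1
          apply Subtype.ext
          simp [QuotientGroup.mk_mul, mul_assoc]
      refine ⟨RegularWreathProduct A (G ⧸ N), inferInstance, inferInstance,
        MGroup.isMonomialGroup_wreath (p := N.index) (Subgroup.index_eq_card N).symm hA, φ, ?_⟩
      rw [injective_iff_map_eq_one]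
      intro g hg
      have hg1 : (g : G ⧸ N) = 1 := congrArg RegularWreathProduct.right hg
      have h1 : f ⟨_, hmem g 1⟩ = 1 := congrFun (congrArg RegularWreathProduct.left hg) 1
      have h2 := congrArg Subtype.val ((injective_iff_map_eq_one f).mp hf _ h1)
      simp only [hg1, inv_one, mul_one, OneMemClass.coe_one] at h2
      calc g = s 1 * ((s 1)⁻¹ * g * s 1) * (s 1)⁻¹ := by group
        _ = 1 := by rw [h2]; simp


/-- Every finite solvable group is isomorphic to a subgroup of a finite M-group, a group each of whose irreducible characters is induced from a homomorphism of some subgroup into ℂˣ. -/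
theorem result {G : Type u} [Group G] [Finite G] (hsolv : Group.IsSolvable G) : ∃ (M : Type u) (_ : Group M) (_ : Fintype M), (∀ χ : M → ℂ, Cfsg.IsIrrCharacter M χ → (∃ (H : Subgroup M) (lam : ↥H →* ℂˣ), χ = Cfsg.indFun H (fun h => (lam h : ℂ)))) ∧ ∃ f : G →* M, Function.Injective f := by
  obtain ⟨M, i1, i2, hM, f, hf⟩ := exists_embedding (Nat.card G) G hsolv rfl
  exact ⟨M, i1, i2, hM, f, hf⟩

end Cfsg.Agent.S4573
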