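import Cfsg.Statements.S4574
import Mathlib
import Cfsg.Agent.Lib.GaloisPos.Basic
import Cfsg.Agent.Lib.Chars.Integral

set_option autoImplicit false
open Cfsg

namespace Cfsg.Agent.S4574

/-- Let χ be an irreducible character of the finite group G, of degree d, and let Z(χ) be the set of elements g with |χ g| = d (the centre of χ). Then χ vanishes on at least (d ^ 2 - 1) · |Z(χ)| elements of G, with equality when every value |χ g| is 0, 1 or d. -/
theorem result {G : Type*} [Group G] [Fintype G] [DecidableEq G] (χ : G → ℂ) (hχ : Cfsg.IsIrrCharacter G χ) : (Cfsg.charDegree χ ^ 2 - 1) * (Finset.univ.filter (fun g : G => ‖χ g‖ = (Cfsg.charDegree χ : ℝ))).card ≤ (Finset.univ.filter (fun g : G => χ g = 0)).card ∧ ((∀ g : G, ‖χ g‖ = 0 ∨ ‖χ g‖ = 1 ∨ ‖χ g‖ = (Cfsg.charDegree χ : ℝ)) → (Cfsg.charDegree χ ^ 2 - 1) * (Finset.univ.filter (fun g : G => ‖χ g‖ = (Cfsg.charDegree χ : ℝ))).card = (Finset.univ.filter (fun g : G => χ g = 0)).card) := by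
  classical
  obtain ⟨n, ρ, hρ, rfl⟩ := hχ
  have hd : Cfsg.charDegree ρ.character = n := by
    simp [Cfsg.charDegree, Representation.char_one]
  rw [hd]
  set Z := Finset.univ.filter (fun g : G => ‖ρ.character g‖ = (n : ℝ)) with hZ
  set V := Finset.univ.filter (fun g : G => ρ.character g = 0) with hV
  have hn : 0 < n := by
    have := Cfsg.Agent.Lib.Chars.finrank_pos_of_isIrreducible ρ
    simpa using this
  have hpow : ∀ (k : ℕ) (g : G), g ∈ Z → g ^ k ∈ Z := by
    intro k g hg
    simp only [hZ, Finset.mem_filter, Finset.mem_univ, true_and] at hg ⊢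
    obtain ⟨w, hw⟩ := (Cfsg.Agent.Lib.Chars.norm_char_eq_iff ρ g).mp (by simpa using hg)
    have := (Cfsg.Agent.Lib.Chars.norm_char_eq_iff ρ (g ^ k)).mpr ⟨w ^ k, by
      rw [map_pow, hw, smul_pow]; simp [← Module.End.one_eq_id]⟩
    simpa using this
  set S := Finset.univ \ Z with hS
  have hclosed : ∀ k : ℕ, k.Coprime (Nat.card G) → ∀ g ∈ S, g ^ k ∈ S := by
    intro k hk g hg
    simp only [hS, Finset.mem_sdiff, Finset.mem_univ, true_and] at hg ⊢
    intro h
    obtain ⟨j, hj⟩ := exists_pow_eq_self_of_coprime (hk.coprime_dvd_right (orderOf_dvd_natCard g))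
    exact hg (hj ▸ hpow j _ h)
  have hchar : Cfsg.IsCharacter G ρ.character := ⟨n, ρ, rfl⟩
  have hle := Cfsg.Agent.Lib.GaloisPos.card_ne_zero_le_sum_normSq hchar S hclosed
  have htot : ∑ g : G, Complex.normSq (ρ.character g) = (Nat.card G : ℝ) := by
    have h1 := Cfsg.Agent.Lib.Chars.classInner_self_of_irreducible ρ
    simp only [Cfsg.classInner, Complex.mul_conj] at h1
    rw [← Complex.ofReal_sum, inv_mul_eq_iff_eq_mul₀
      (Nat.cast_ne_zero.mpr Nat.card_pos.ne'), mul_one] at h1
    exact_mod_cast h1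
  have hZsum : ∑ g ∈ Z, Complex.normSq (ρ.character g) = (Z.card : ℝ) * (n : ℝ) ^ 2 := by
    rw [Finset.sum_congr rfl (g := fun _ => (n : ℝ) ^ 2) fun g hg => by
      rw [Complex.normSq_eq_norm_sq, (Finset.mem_filter.mp hg).2], Finset.sum_const, nsmul_eq_mul]
  have hsplit : ∑ g ∈ S, Complex.normSq (ρ.character g) + (Z.card : ℝ) * (n : ℝ) ^ 2 =
      (Nat.card G : ℝ) := by
    rw [← hZsum, hS, Finset.sum_sdiff (Finset.subset_univ Z), htot]
  have hVS : S.filter (fun g => ρ.character g = 0) = V := by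
    ext g
    simp only [hS, hV, hZ, Finset.mem_filter, Finset.mem_sdiff, Finset.mem_univ, true_and,
      and_iff_right_iff_imp]
    intro h h'
    rw [h, norm_zero] at h'
    exact hn.ne' (by exact_mod_cast h'.symm)
  have hcard : ((S.filter fun g => ρ.character g ≠ 0).card : ℝ) + V.card + Z.card = Nat.card G := by
    have h1 := Finset.card_filter_add_card_filter_not (s := S) (p := fun g => ρ.character g = 0)
    rw [hVS] at h1
    have h2 := Finset.card_sdiff_add_card_eq_card (Finset.subset_univ Z)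
    rw [Finset.card_univ, ← Nat.card_eq_fintype_card, ← hS, ← h1] at h2
    rw [← h2]
    push_cast
    ring
  have hn1 : 1 ≤ n ^ 2 := Nat.one_le_pow _ _ hn
  refine ⟨?_, fun hall => ?_⟩
  · rw [← Nat.cast_le (α := ℝ), Nat.cast_mul, Nat.cast_sub hn1]
    push_cast
    nlinarith
  · have heq : ∑ g ∈ S, Complex.normSq (ρ.character g) =
        ((S.filter fun g => ρ.character g ≠ 0).card : ℝ) := by
      rw [Finset.card_filter, Nat.cast_sum]
      refine Finset.sum_congr rfl fun g hg => ?_
      simp only [hS, hZ, Finset.mem_sdiff, Finset.mem_filter, Finset.mem_univ, true_and] at hg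
      rcases hall g with h | h | h
      · rw [norm_eq_zero] at h
        simp [h]
      · have hne : ρ.character g ≠ 0 := fun h0 => by simp [h0] at h
        rw [if_pos hne, Complex.normSq_eq_norm_sq, h]
        norm_num
      · exact absurd h hg
    rw [← Nat.cast_inj (R := ℝ), Nat.cast_mul, Nat.cast_sub hn1]
    push_cast
    nlinarith

end Cfsg.Agent.S4574
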