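import Cfsg.Statements.S4580
import Mathlib
import Cfsg.Agent.Lib.BlockCongr.Basic
import Cfsg.Agent.Lib.Clifford.Gallagher
import Cfsg.Agent.Lib.Chars.Ops

open scoped ComplexConjugate

set_option autoImplicit false
open Cfsg

namespace Cfsg.Agent.S4580

/-- Let N be a normal subgroup of the finite group G, M a maximal ideal of the algebraic integers containing 2, and θ a real-valued irreducible character of N of odd degree that extends to G (some irreducible character of G restricts to θ). Then θ has an extension to G lying in the principal 2-block of G. -/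
theorem result {G : Type*} [Group G] [Finite G] (N : Subgroup G) [N.Normal] (M : Ideal Cfsg.AlgInt) (hM : Cfsg.IsPModular 2 M) (θ : Cfsg.IrrCharacter N) (hreal : ∀ n : N, ((θ : N → ℂ) n).im = 0) (hodd : Odd (Cfsg.charDegree (θ : N → ℂ))) (hext : ∃ η : Cfsg.IrrCharacter G, ∀ n : N, (η : G → ℂ) n = (θ : N → ℂ) n) :
    ∃ η : Cfsg.IrrCharacter G, (∀ n : N, (η : G → ℂ) n = (θ : N → ℂ) n) ∧ η ∈ Cfsg.principalBlock M G := by
  classical
  haveI : M.IsPrime := hM.2.1.isPrime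
  cases nonempty_fintype G
  haveI : Fintype N := Fintype.ofFinite N
  obtain ⟨η, hη⟩ := hext
  have hres : Cfsg.Agent.Lib.Clifford.resFun N (η : G → ℂ) = (θ : N → ℂ) := funext hη
  have hres' : Cfsg.Agent.Lib.Clifford.resFun N (Cfsg.Agent.Lib.Chars.irrConj η : G → ℂ) =
      (θ : N → ℂ) := funext fun n => by
    rw [Cfsg.Agent.Lib.Clifford.resFun_apply, Cfsg.Agent.Lib.Chars.irrConj_apply, hη,
      Complex.conj_eq_iff_im]
    exact hreal n
  have hη1 : (η : G → ℂ) 1 = (θ : N → ℂ) 1 := hη 1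
  obtain ⟨-, -, hgal⟩ := Cfsg.Agent.Lib.Clifford.gallagher (N := N) η.2 (by rw [hres]; exact θ.2)
  obtain ⟨β, hβ⟩ := (hgal _ (Cfsg.Agent.Lib.Chars.irrConj η).2).mp
    (by rw [hres', hres, Cfsg.Agent.Lib.Chars.classInner_irr_self]; exact one_ne_zero)
  have hβ1 : (Cfsg.Agent.Lib.Chars.inflate N β : G → ℂ) 1 = 1 := by
    have h1 := congrFun hβ 1
    rw [Pi.mul_apply, Cfsg.Agent.Lib.Chars.irrConj_apply] at h1
    have hθ1 : conj ((η : G → ℂ) 1) = (η : G → ℂ) 1 := by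
      rw [hη1, Complex.conj_eq_iff_im]; exact hreal 1
    rw [hθ1] at h1
    exact (mul_eq_left₀ (Cfsg.Agent.Lib.Chars.irr_apply_one_ne_zero η)).mp h1.symm
  obtain ⟨φ, hφ⟩ := Cfsg.Agent.Lib.Chars.exists_hom_of_degree_one
    (Cfsg.Agent.Lib.Chars.irr_isCharacter _) hβ1
  have hφN : ∀ n : N, φ n = 1 := fun n => by
    refine Units.ext ?_
    have h1 : (Cfsg.Agent.Lib.Chars.inflate N β : G → ℂ) n = (φ n : ℂ) := congrFun hφ n
    rw [← h1, Units.val_one, Cfsg.Agent.Lib.Clifford.inflate_apply_mem]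
    exact hβ1
  have hconj : ∀ g, conj ((η : G → ℂ) g) = (η : G → ℂ) g * (φ g : ℂ) := fun g => by
    have := congrFun hβ g
    rwa [Pi.mul_apply, hφ, Cfsg.Agent.Lib.Chars.irrConj_apply] at this
  -- split the order of the twist into its two parts
  obtain ⟨k, m, hm, hkm⟩ := Nat.exists_eq_two_pow_mul_odd (n := Nat.card G) Nat.card_pos.ne'
  obtain ⟨j, hj⟩ : ∃ j, m + 1 = 2 * j := even_iff_two_dvd.mp (Odd.add_one hm)
  let μ : G →* ℂˣ := φ ^ j
  refine ⟨⟨fun g => (μ g : ℂ) * (η : G → ℂ) g,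
    Cfsg.Agent.Lib.Chars.isIrrCharacter_hom_mul μ η.2⟩, fun n => ?_, ?_⟩
  · show (μ n : ℂ) * (η : G → ℂ) n = _
    rw [MonoidHom.pow_apply, hφN, one_pow, Units.val_one, one_mul, hη]
  · set χ : Cfsg.IrrCharacter G := ⟨fun g => (μ g : ℂ) * (η : G → ℂ) g,
      Cfsg.Agent.Lib.Chars.isIrrCharacter_hom_mul μ η.2⟩
    have hdeg : Odd (Cfsg.charDegree (χ : G → ℂ)) := by
      have h1 : (χ : G → ℂ) 1 = (θ : N → ℂ) 1 := by
        show (μ 1 : ℂ) * (η : G → ℂ) 1 = _
        rw [map_one, Units.val_one, one_mul, hη1]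
      rwa [show Cfsg.charDegree (χ : G → ℂ) = Cfsg.charDegree (θ : N → ℂ) by
        simp only [Cfsg.charDegree, h1]]
    refine Cfsg.Agent.Lib.BlockCongr.sameBlock_one_of_inv_invariant hM χ (fun z => ?_)
      (Cfsg.Agent.Lib.BlockCongr.fix_of_odd_degree hM χ hdeg)
    have hz : (χ : G → ℂ) z⁻¹ = (χ : G → ℂ) z * (((φ z ^ m)⁻¹ : ℂˣ) : ℂ) := by
      rw [Cfsg.Agent.Lib.Chars.irr_inv]
      show conj ((μ z : ℂ) * (η : G → ℂ) z) = (μ z : ℂ) * (η : G → ℂ) z * _
      rw [map_mul, hconj, ← Complex.inv_eq_conj (Cfsg.Agent.Lib.Chars.norm_hom_apply μ z),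
        ← Units.val_inv_eq_inv_val]
      have h2 : (μ z)⁻¹ * φ z = μ z * (φ z ^ m)⁻¹ := by
        simp only [μ, MonoidHom.pow_apply]
        rw [eq_mul_inv_iff_mul_eq, mul_assoc, ← pow_succ', inv_mul_eq_iff_eq_mul, ← pow_add, hj,
          two_mul]
      calc ((μ z)⁻¹ : ℂˣ) * ((η : G → ℂ) z * (φ z : ℂ))
          = (η : G → ℂ) z * (((μ z)⁻¹ * φ z : ℂˣ) : ℂ) := by push_cast; ring
        _ = _ := by rw [h2]; push_cast; ring
    rw [show Cfsg.centralChar (χ : G → ℂ) z⁻¹ - Cfsg.centralChar (χ : G → ℂ) z =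
        Cfsg.centralChar (χ : G → ℂ) z * ((((φ z ^ m)⁻¹ : ℂˣ) : ℂ) - 1) by
      rw [Cfsg.centralChar, Cfsg.centralChar, hz,
        Cfsg.Agent.Lib.BlockCongr.centralizer_inv_eq]
      ring]
    refine Cfsg.Agent.Lib.Blocks.memLocalIdeal_mul_left
      (Cfsg.Agent.Lib.BlockCongr.memLocalRing_centralChar M χ z)
      (Cfsg.Agent.Lib.Blocks.memLocalIdeal_sub_one_of_pow_eq_one hM (k := k) ?_)
    rw [← Units.val_pow_eq_pow_val, inv_pow, ← pow_mul, mul_comm m, ← hkm, ← map_pow,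
      pow_card_eq_one', map_one, inv_one, Units.val_one]

end Cfsg.Agent.S4580
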