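import Cfsg.Statements.S4581
import Mathlib
import Cfsg.Agent.Lib.OddRealMcKay.Main
import Cfsg.Agent.Lib.PGroup.Frattini

set_option autoImplicit false
open Cfsg

namespace Cfsg.Agent.S4581

/-- Let G be a finite solvable group, P a Sylow 2-subgroup and N its normalizer. Then G and N have the same number of real-valued irreducible characters of odd degree; and every odd-degree irreducible character of G is real-valued exactly when the derived subgroup of P equals the Frattini subgroup of P and P is its own normalizer in G. -/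
theorem result {G : Type*} [Group G] [Finite G] [Group.IsSolvable G] (P : Sylow 2 G) :
    Nat.card {χ : Cfsg.IrrCharacter G // (∀ g : G, ((χ : G → ℂ) g).im = 0) ∧ Odd (Cfsg.charDegree (χ : G → ℂ))} =
      Nat.card {ψ : Cfsg.IrrCharacter (Subgroup.normalizer ((P : Subgroup G) : Set G)) // (∀ g, ((ψ : Subgroup.normalizer ((P : Subgroup G) : Set G) → ℂ) g).im = 0) ∧ Odd (Cfsg.charDegree (ψ : Subgroup.normalizer ((P : Subgroup G) : Set G) → ℂ))} ∧
    ((∀ χ : Cfsg.IrrCharacter G, Odd (Cfsg.charDegree (χ : G → ℂ)) → ∀ g : G, ((χ : G → ℂ) g).im = 0) ↔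
      (commutator (P : Subgroup G) = frattini (P : Subgroup G) ∧ Subgroup.normalizer ((P : Subgroup G) : Set G) = (P : Subgroup G))) := by
  obtain ⟨h1, h2⟩ := Lib.OddReal.goal_of_solvable G P
  rw [← Lib.OddReal.card_RO, ← Lib.OddReal.card_RO]
  refine ⟨h1, ?_⟩
  have hA : (∀ χ : Cfsg.IrrCharacter G, Odd (Cfsg.charDegree (χ : G → ℂ)) →
      ∀ g : G, ((χ : G → ℂ) g).im = 0) ↔ Lib.OddReal.AllReal G :=
    forall_congr' fun χ => imp_congr_right fun _ => (Lib.OddReal.isRealFun_iff_im _).symm
  rw [hA, h2]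
  constructor
  · rintro ⟨hN, hsq⟩
    exact ⟨le_antisymm (Lib.PFrattini.commutator_le_frattini P.2)
      (Lib.PFrattini.frattini_le le_rfl ((Lib.OddReal.card_range_sq _).mp hsq)), hN⟩
  · rintro ⟨hc, hN⟩
    refine ⟨hN, (Lib.OddReal.card_range_sq _).mpr fun x => ?_⟩
    rw [hc]
    exact Lib.PFrattini.pow_mem_frattini P.2 x

end Cfsg.Agent.S4581
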