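import Cfsg.Statements.S4582
import Mathlib
import Cfsg.Agent.Lib.RealExtension.Linear

set_option autoImplicit false
open Cfsg

namespace Cfsg.Agent.S4582

/-- Let N be a normal subgroup of the finite group G, P a Sylow 2-subgroup of G and Q = P ∩ N. Suppose that P/QP' and Q/Q' are elementary abelian (every square of an element of P lies in the subgroup generated by Q and the derived subgroup of P, and every square of an element of Q lies in the derived subgroup of Q), and that the commutator factor group N/N' has odd order. Then P/P' is elementary abelian. -/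
theorem result {G : Type*} [Group G] [Finite G] (N : Subgroup G) [N.Normal] (P : Sylow 2 G)
    (hP : ∀ x ∈ (P : Subgroup G), x ^ 2 ∈ ((P : Subgroup G) ⊓ N) ⊔ ⁅(P : Subgroup G), (P : Subgroup G)⁆)
    (hQ : ∀ x ∈ (P : Subgroup G) ⊓ N, x ^ 2 ∈ ⁅(P : Subgroup G) ⊓ N, (P : Subgroup G) ⊓ N⁆)
    (hodd : Odd (Nat.card (Abelianization N))) :
    ∀ x ∈ (P : Subgroup G), x ^ 2 ∈ ⁅(P : Subgroup G), (P : Subgroup G)⁆ := by
  classical
  intro x hx
  have hcomm : (commutator (P : Subgroup G)).map (P : Subgroup G).subtype =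
      ⁅(P : Subgroup G), (P : Subgroup G)⁆ := by
    rw [commutator_def, Subgroup.map_commutator, ← MonoidHom.range_eq_map, Subgroup.range_subtype]
  by_contra hne
  have hne' : (⟨x, hx⟩ : (P : Subgroup G)) ^ 2 ∉ commutator (P : Subgroup G) := fun h =>
    hne (hcomm ▸ ⟨_, h, rfl⟩)
  obtain ⟨f, hf⟩ := CommGroup.exists_apply_ne_one_of_hasEnoughRootsOfUnity
    (Abelianization (P : Subgroup G)) ℂ
    (a := Abelianization.of ((⟨x, hx⟩ : (P : Subgroup G)) ^ 2))
    (fun h => hne' ((QuotientGroup.eq_one_iff _).mp h))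
  let lam : (P : Subgroup G) →* ℂˣ := f.comp Abelianization.of
  -- the normal subgroup inside `N P`
  let L : Subgroup G := N ⊔ (P : Subgroup G)
  let N' : Subgroup L := N.subgroupOf L
  let P' : Subgroup L := (P : Subgroup G).subgroupOf L
  haveI : N'.Normal := inferInstance
  let toQ : ↥(P' ⊓ N') →* ↥((P : Subgroup G) ⊓ N) :=
    { toFun := fun q => ⟨((q : L) : G), q.2.1, q.2.2⟩
      map_one' := rfl
      map_mul' := fun _ _ => rfl }
  let lamQ : ↥((P : Subgroup G) ⊓ N) →* ℂˣ := lam.comp (Subgroup.inclusion inf_le_left)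
  have hlam2 : ∀ q, lamQ q * lamQ q = 1 := fun q => by
    have h1 := hQ q q.2
    have h2 : ⁅(P : Subgroup G) ⊓ N, (P : Subgroup G) ⊓ N⁆ =
        (commutator ↥((P : Subgroup G) ⊓ N)).map ((P : Subgroup G) ⊓ N).subtype := by
      rw [commutator_def, Subgroup.map_commutator, ← MonoidHom.range_eq_map, Subgroup.range_subtype]
    rw [h2] at h1
    obtain ⟨y, hy, hyq⟩ := h1
    have : y = q * q := Subtype.ext (by simpa [sq] using hyq)
    rw [← map_mul, ← this]
    exact MonoidHom.mem_ker.mp (Abelianization.commutator_subset_ker lamQ hy)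
  have hP' : IsPGroup 2 P' := P.isPGroup'.of_equiv (Subgroup.subgroupOfEquivOfLe le_sup_right).symm
  have hgen : N' ⊔ P' = ⊤ := by
    rw [← Subgroup.subgroupOf_sup le_sup_left le_sup_right, Subgroup.subgroupOf_self]
  have hidx : Odd ((P' ⊓ N').relIndex N') := by
    rw [Subgroup.inf_relIndex_right, Subgroup.relIndex_subgroupOf le_sup_left,
      Nat.odd_iff, ← Nat.two_dvd_ne_zero]
    intro hd
    refine P.not_dvd_index (hd.trans ?_)
    have e1 := Subgroup.relIndex_mul_relIndex ((P : Subgroup G) ⊓ N) (P : Subgroup G) L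
      inf_le_left le_sup_right
    have e2 := Subgroup.relIndex_mul_relIndex ((P : Subgroup G) ⊓ N) N L inf_le_right le_sup_left
    rw [Subgroup.inf_relIndex_left, ← e2, Subgroup.inf_relIndex_right,
      show N.relIndex L = N.relIndex (P : Subgroup G) from Subgroup.relIndex_sup_left _ _, mul_comm] at e1
    have e3 : (P : Subgroup G).relIndex L = (P : Subgroup G).relIndex N :=
      mul_right_cancel₀ (Subgroup.index_ne_zero_of_finite (H := N.subgroupOf (P : Subgroup G))) e1
    rw [← e3]
    exact Subgroup.relIndex_dvd_index_of_le le_sup_right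
  have hab : Odd (Nat.card (Abelianization N')) := by
    rwa [Nat.card_congr (MulEquiv.abelianizationCongr
      (Subgroup.subgroupOfEquivOfLe (le_sup_left : N ≤ L))).toEquiv]
  obtain ⟨μ, hμ2, hμ⟩ := Cfsg.Agent.Lib.RealExtension.exists_real_extension N' hP' hidx hgen hab
    (lamQ.comp toQ) (fun q => hlam2 (toQ q)) (fun y hy q q' h => by
      have h' : Subgroup.inclusion inf_le_left (toQ q') = (⟨(y : G), hy⟩ : (P : Subgroup G)) *
          Subgroup.inclusion inf_le_left (toQ q) * (⟨(y : G), hy⟩ : (P : Subgroup G))⁻¹ :=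
        Subtype.ext (congrArg (fun z : L => (z : G)) h)
      show lam _ = lam _
      rw [h', map_mul, map_mul, mul_comm (lam _) (lam (Subgroup.inclusion inf_le_left (toQ q))),
        mul_assoc, ← map_mul, mul_inv_cancel, map_one, mul_one])
  let μP : (P : Subgroup G) →* ℂˣ :=
    μ.comp (Subgroup.subgroupOfEquivOfLe (le_sup_right : (P : Subgroup G) ≤ L)).symm.toMonoidHom
  let β : (P : Subgroup G) →* ℂˣ := lam / μP
  have hker : (((P : Subgroup G) ⊓ N) ⊔ ⁅(P : Subgroup G), (P : Subgroup G)⁆) ≤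
      β.ker.map (P : Subgroup G).subtype := by
    refine sup_le (fun q hq => ⟨⟨q, hq.1⟩, ?_, rfl⟩) ?_
    · show β ⟨q, hq.1⟩ = 1
      rw [MonoidHom.div_apply, div_eq_one]
      exact (hμ ⟨⟨q, (le_sup_right : (P : Subgroup G) ≤ L) hq.1⟩, hq.1, hq.2⟩).symm
    · rw [← hcomm]
      exact Subgroup.map_mono (Abelianization.commutator_subset_ker β)
  obtain ⟨y, hy, hyx⟩ := hker (hP x hx)
  have hyeq : y = (⟨x, hx⟩ : (P : Subgroup G)) ^ 2 := Subtype.ext (by simpa using hyx)
  have h1 : β y = 1 := hy
  rw [hyeq, MonoidHom.div_apply, div_eq_one] at h1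
  refine hf ?_
  show lam _ = 1
  rw [h1, map_pow, sq]
  exact hμ2 _

end Cfsg.Agent.S4582
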