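import Cfsg.Statements.S4583
import Cfsg.Agent.Lib.Blocks.RegOrth
import Cfsg.Agent.Lib.Blocks.Kulshammer
import Cfsg.Agent.Lib.BrauerMap.RepKernel
import Cfsg.Agent.Lib.BrauerMap.Principal
import Cfsg.Agent.Lib.Chars.Induced
import Cfsg.Agent.Lib.Chars.Ops

set_option autoImplicit false
open Cfsg

namespace Cfsg.Agent.S4583

open Cfsg.Agent.Lib
open Cfsg.Agent.Lib.Blocks
open Cfsg.Agent.Lib.Blocks.HeightZero
open scoped ComplexConjugate

open Classical in
/-- Products into a normal subgroup of a `p`-element and a `p`-regular element stay inside it. -/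
theorem both_mem {G : Type*} [Group G] (N : Subgroup G) [N.Normal] {p : ℕ} [Fact p.Prime]
    {x y : G} (hx : ∃ k : ℕ, orderOf x = p ^ k) (hy : ¬ p ∣ orderOf y) (hxy : x * y ∈ N) :
    x ∈ N ∧ y ∈ N := by
  obtain ⟨k, hk⟩ := hx
  have hinv : (x : G ⧸ N) = (y : G ⧸ N)⁻¹ := eq_inv_of_mul_eq_one_left
    (by rw [← QuotientGroup.mk_mul]; exact (QuotientGroup.eq_one_iff _).2 hxy)
  have h1 : orderOf (x : G ⧸ N) ∣ p ^ k := hk ▸ orderOf_map_dvd (QuotientGroup.mk' N) x
  have h2 : orderOf (x : G ⧸ N) ∣ orderOf y := by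
    rw [hinv, orderOf_inv]; exact orderOf_map_dvd (QuotientGroup.mk' N) y
  have h3 : orderOf (x : G ⧸ N) = 1 :=
    Nat.eq_one_of_dvd_coprimes
      (((Fact.out : p.Prime).coprime_iff_not_dvd.2 hy).pow_left k) h1 h2
  rw [orderOf_eq_one_iff, QuotientGroup.eq_one_iff] at h3
  exact ⟨h3, by simpa using N.mul_mem (N.inv_mem h3) hxy⟩

/-- The principal idempotents of a group and of a normal subgroup agree on the subgroup, up to the
ratio of the numbers of `p`-regular elements, modulo the local ideal. -/
theorem coeff_congr {G : Type*} [Group G] [Finite G] (N : Subgroup G) [N.Normal] {p : ℕ}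
    [Fact p.Prime] {M : Ideal AlgInt} [M.IsPrime] (hM : IsPModular p M) (n : N) :
    MemLocalIdeal M
      ((Nat.card {y : G // ¬ p ∣ orderOf y} : ℂ) * blockCoeff (principalBlock M G) (n : G) -
        (Nat.card {y : N // ¬ p ∣ orderOf y} : ℂ) * blockCoeff (principalBlock M N) n) := by
  classical
  cases nonempty_fintype G
  cases nonempty_fintype N
  by_cases hn : p ∣ orderOf n
  · rw [blockCoeff_eq_zero_of_pSingular hM (BrauerMap.isPBlock_principalBlock (G := G) M)
        (by rwa [Subgroup.orderOf_coe]),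
      blockCoeff_eq_zero_of_pSingular hM (BrauerMap.isPBlock_principalBlock (G := N) M) hn]
    simpa using memLocalIdeal_zero
  have hnG : ¬ p ∣ orderOf (n : G) := by rwa [Subgroup.orderOf_coe]
  have hG := kulshammer hM (regOrth_holds hM) (weakOrth_holds hM) (n : G) hnG
  have hN := kulshammer hM (regOrth_holds hM) (weakOrth_holds hM) n hn
  have hcount : Nat.card {xy : G × G // (∃ k : ℕ, orderOf xy.1 = p ^ k) ∧ ¬ p ∣ orderOf xy.2 ∧
      xy.1 * xy.2 = n} = Nat.card {xy : N × N // (∃ k : ℕ, orderOf xy.1 = p ^ k) ∧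
        ¬ p ∣ orderOf xy.2 ∧ xy.1 * xy.2 = n} :=
    Nat.card_congr
      { toFun := fun t =>
          have h := both_mem N t.2.1 t.2.2.1 (t.2.2.2.symm ▸ n.2)
          ⟨(⟨t.1.1, h.1⟩, ⟨t.1.2, h.2⟩), by simpa only [Subgroup.orderOf_mk] using t.2.1,
            by simpa only [Subgroup.orderOf_mk] using t.2.2.1, Subtype.ext t.2.2.2⟩
        invFun := fun t => ⟨(t.1.1, t.1.2), by simpa only [Subgroup.orderOf_coe] using t.2.1,
          by simpa only [Subgroup.orderOf_coe] using t.2.2.1,
          congrArg Subtype.val t.2.2.2⟩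
        left_inv := fun _ => rfl
        right_inv := fun _ => rfl }
  rw [hcount] at hG
  have hR : ∀ (T : Type _) [Group T] [Finite T],
      (Nat.card {y : T // ¬ p ∣ orderOf y} : ℂ) ≠ 0 := by
    intro T _ _
    haveI : Nonempty {y : T // ¬ p ∣ orderOf y} :=
      ⟨⟨1, by simp [(Fact.out : p.Prime).ne_one]⟩⟩
    exact_mod_cast Nat.card_pos.ne'
  have h := memLocalIdeal_sub
    (memLocalIdeal_mul_left (mem_localRing.1 (natCast_mem_localRing
      (Nat.card {y : G // ¬ p ∣ orderOf y}))) hG)
    (memLocalIdeal_mul_left (mem_localRing.1 (natCast_mem_localRing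
      (Nat.card {y : N // ¬ p ∣ orderOf y}))) hN)
  rw [mul_sub, mul_sub, mul_div_cancel₀ _ (hR G), mul_div_cancel₀ _ (hR N)] at h
  simpa using h

/-- Let N be a normal subgroup of the finite group G, p a prime, M a maximal ideal of the algebraic integers containing p, and P a Sylow p-subgroup of G. Let θ be an irreducible character of N of degree prime to p lying in the principal p-block of N, and suppose θ extends to the subgroup NP (some irreducible character of NP restricts to θ). Then some irreducible character χ of G of degree prime to p in the principal p-block of G lies over θ (θ is a constituent of the restriction of χ to N). -/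
theorem result {G : Type*} [Group G] [Finite G] (N : Subgroup G) [N.Normal] (p : ℕ) [Fact p.Prime] (M : Ideal Cfsg.AlgInt) (hM : Cfsg.IsPModular p M) (P : Sylow p G)
    (θ : Cfsg.IrrCharacter N) (hθ : θ ∈ Cfsg.principalBlock M N) (hdeg : ¬ p ∣ Cfsg.charDegree (θ : N → ℂ))
    (hext : ∃ η : Cfsg.IrrCharacter ↥(N ⊔ (P : Subgroup G)), ∀ n : N, (η : ↥(N ⊔ (P : Subgroup G)) → ℂ) (Subgroup.inclusion le_sup_left n) = (θ : N → ℂ) n) :
    ∃ χ : Cfsg.IrrCharacter G, χ ∈ Cfsg.principalBlock M G ∧ ¬ p ∣ Cfsg.charDegree (χ : G → ℂ) ∧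
      haveI := Fintype.ofFinite N; Cfsg.classInner (fun n : N => (χ : G → ℂ) n) (θ : N → ℂ) ≠ 0 := by
  classical
  haveI := isPModular_isPrime hM
  cases nonempty_fintype G
  set H : Subgroup G := N ⊔ (P : Subgroup G) with hH
  cases nonempty_fintype H
  let FN := Fintype.ofFinite N
  obtain ⟨η, hη⟩ := hext
  let B : Set (IrrCharacter G) := principalBlock M G
  have hB : IsPBlock M B := ⟨⟨_, Chars.isIrrCharacter_one⟩, rfl⟩
  set RG : ℂ := (Nat.card {y : G // ¬ p ∣ orderOf y} : ℂ)
  set RN : ℂ := (Nat.card {y : N // ¬ p ∣ orderOf y} : ℂ) with hRN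
  -- elements of `H` outside `N` are `p`-singular
  have hsing : ∀ h : H, (h : G) ∉ N → p ∣ orderOf (h : G) := by
    intro h hh
    have hle : H ≤ ((P : Subgroup G).map (QuotientGroup.mk' N)).comap (QuotientGroup.mk' N) := by
      refine sup_le (fun n hn => ?_) (Subgroup.le_comap_map _ _)
      rw [Subgroup.mem_comap, QuotientGroup.mk'_apply, (QuotientGroup.eq_one_iff n).2 hn]
      exact one_mem _
    obtain ⟨k, hk⟩ := IsPGroup.iff_orderOf.1 (P.isPGroup'.map (QuotientGroup.mk' N))
      ⟨QuotientGroup.mk' N (h : G), Subgroup.mem_comap.1 (hle h.2)⟩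
    rw [← Subgroup.orderOf_coe] at hk
    rcases k.eq_zero_or_pos with rfl | hk0
    · rw [pow_zero, orderOf_eq_one_iff] at hk
      exact absurd ((QuotientGroup.eq_one_iff (h : G)).1 hk) hh
    · exact ((hk ▸ dvd_pow_self p hk0.ne' : p ∣ orderOf (QuotientGroup.mk' N (h : G)))).trans
        (orderOf_map_dvd _ _)
  -- the block part of the induced character at `1`
  have hsum : ∑ χ : IrrCharacter G, (if χ ∈ B then (χ : G → ℂ) 1 *
      classInner (η : H → ℂ) (fun h : H => (χ : G → ℂ) h) else 0) =
      (H.index : ℂ) * ∑ n : N, (θ : N → ℂ) n * blockCoeff B (n : G) := by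
    have h1 : ∑ h : H, (η : H → ℂ) h * blockCoeff B (h : G) =
        ∑ n : N, (θ : N → ℂ) n * blockCoeff B (n : G) := by
      refine (Fintype.sum_of_injective (Subgroup.inclusion (le_sup_left : N ≤ H))
        (Subgroup.inclusion_injective _) _ _ (fun h hh => ?_) (fun n => ?_)).symm
      · rw [blockCoeff_eq_zero_of_pSingular hM hB (hsing h fun hN => hh ⟨⟨_, hN⟩, rfl⟩),
          mul_zero]
      · rw [hη]; rfl
    rw [← h1, Finset.mul_sum]
    simp only [blockCoeff_eq_sum, Finset.mul_sum]
    rw [Finset.sum_comm]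
    refine Finset.sum_congr rfl fun χ _ => ?_
    by_cases hχ : χ ∈ B
    · simp only [if_pos hχ, classInner, Finset.mul_sum]
      refine Finset.sum_congr rfl fun h _ => ?_
      have hc : (Nat.card G : ℂ) = (H.index : ℂ) * (Nat.card H : ℂ) := by
        rw [← H.index_mul_card]; push_cast; ring
      have hi : (H.index : ℂ) ≠ 0 := Nat.cast_ne_zero.2 Subgroup.index_ne_zero_of_finite
      rw [hc]
      field_simp
      simp only [hH]
      ring
    · simp [if_neg hχ]
  -- it is a unit modulo `M`
  have htot : ∑ n : N, (θ : N → ℂ) n * blockCoeff (principalBlock M N) n = (θ : N → ℂ) 1 := by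
    have h := omega_idemC (principalBlock M N) θ
    rw [if_pos hθ, omega_eq_sum] at h
    simp only [idemC, coeff_ofFun] at h
    calc _ = (∑ n : N, blockCoeff (principalBlock M N) n * ((θ : N → ℂ) n / (θ : N → ℂ) 1)) *
        (θ : N → ℂ) 1 := by
          rw [Finset.sum_mul]
          refine Finset.sum_congr rfl fun n _ => ?_
          have := Chars.irr_apply_one_ne_zero θ
          field_simp
      _ = _ := by
          convert one_mul ((θ : N → ℂ) 1) using 2
  have hcong : MemLocalIdeal M (RG * (∑ n : N, (θ : N → ℂ) n * blockCoeff B (n : G)) -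
      RN * (θ : N → ℂ) 1) := by
    rw [← htot, Finset.mul_sum, Finset.mul_sum, ← Finset.sum_sub_distrib]
    refine memLocalIdeal_sum _ _ fun n _ => ?_
    convert memLocalIdeal_mul_left (mem_localRing.1 (isIntegral_mem_localRing
      (Chars.isCharacter_isIntegral (Chars.irr_isCharacter θ) n))) (coeff_congr N hM n) using 1
    ring
  have hθ1 : (θ : N → ℂ) 1 = (charDegree (θ : N → ℂ) : ℂ) :=
    BrauerMap.charDegree_cast (Chars.irr_isCharacter θ)
  have hne : ¬ MemLocalIdeal M (∑ n : N, (θ : N → ℂ) n * blockCoeff B (n : G)) := by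
    intro hbad
    have h := memLocalIdeal_sub
      (memLocalIdeal_mul_left (mem_localRing.1 (natCast_mem_localRing
        (Nat.card {y : G // ¬ p ∣ orderOf y}))) hbad) hcong
    rw [sub_sub_cancel, hθ1, hRN, ← Nat.cast_mul, memLocalIdeal_natCast_iff hM,
      (Fact.out : p.Prime).dvd_mul] at h
    rcases h with h | h
    · refine not_memLocalIdeal_regPairing (G := N) (χ := ⟨_, Chars.isIrrCharacter_one⟩)
        (η := ⟨_, Chars.isIrrCharacter_one⟩) hM (regOrth_holds hM) (blockHeight_trivial N)
        (Blocks.sameBlock_refl _) ?_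
      have h' := (memLocalIdeal_natCast_iff hM _).2 h
      convert h' using 1
      rw [regPairing, Nat.card_eq_fintype_card, Fintype.card_subtype, Finset.card_filter]
      push_cast
      refine Finset.sum_congr rfl fun x _ => ?_
      by_cases h2 : p ∣ orderOf x <;> simp [regWeight, h2]
    · exact hdeg h
  have hindex : ¬ p ∣ H.index := fun h =>
    P.not_dvd_index (h.trans (Subgroup.index_dvd_of_le le_sup_right))
  -- some summand is a unit
  obtain ⟨χ, hχB, hχu⟩ : ∃ χ ∈ B, ¬ MemLocalIdeal M ((χ : G → ℂ) 1 *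
      classInner (η : H → ℂ) (fun h : H => (χ : G → ℂ) h)) := by
    by_contra hno
    push Not at hno
    have h : MemLocalIdeal M ((H.index : ℂ) *
        ∑ n : N, (θ : N → ℂ) n * blockCoeff B (n : G)) := by
      rw [← hsum]
      refine memLocalIdeal_sum _ _ fun χ _ => ?_
      by_cases hχ : χ ∈ B
      · rw [if_pos hχ]; exact hno χ hχ
      · rw [if_neg hχ]; exact memLocalIdeal_zero
    have hu : ¬ MemLocalIdeal M (H.index : ℂ) := fun h' =>
      hindex ((memLocalIdeal_natCast_iff hM _).1 h')
    refine hne ?_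
    have := memLocalIdeal_mul_left (inv_mem_localRing (natCast_mem_localRing _) hu) h
    rwa [inv_mul_cancel_left₀ (Nat.cast_ne_zero.2 Subgroup.index_ne_zero_of_finite)] at this
  obtain ⟨m, hm⟩ := Chars.isCharacter_classInner_nat (Chars.irr_isCharacter η)
    (Chars.isCharacter_restrict H (Chars.irr_isCharacter χ))
  rw [hm, BrauerMap.charDegree_cast (Chars.irr_isCharacter χ), ← Nat.cast_mul,
    memLocalIdeal_natCast_iff hM, (Fact.out : p.Prime).dvd_mul, not_or] at hχu
  refine ⟨χ, hχB, hχu.1, ?_⟩
  intro h0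
  obtain ⟨c, hc⟩ := Chars.isCharacter_exists_nat_decomp
    (Chars.isCharacter_restrict H (Chars.irr_isCharacter χ))
  have hcη : c η = m := by
    have h1 : classInner (fun h : H => (χ : G → ℂ) h) (η : H → ℂ) = (c η : ℂ) := by
      rw [hc, Chars.classInner_sum_smul_irr]
    rw [← Chars.conj_classInner, hm] at h1
    exact_mod_cast (by simpa using h1.symm : (c η : ℂ) = (m : ℂ))
  have hψ : ∀ ψ : IrrCharacter H, ∃ k : ℕ, classInner
      (fun n : N => (ψ : H → ℂ) (Subgroup.inclusion le_sup_left n)) (θ : N → ℂ) = k := fun ψ =>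
    Chars.isCharacter_classInner_nat
      (Chars.isCharacter_comp (Subgroup.inclusion le_sup_left) (Chars.irr_isCharacter ψ))
      (Chars.irr_isCharacter θ)
  choose k hk using hψ
  have hkη : k η = 1 := by
    have h1 := hk η
    rw [show (fun n : N => (η : H → ℂ) (Subgroup.inclusion le_sup_left n)) = (θ : N → ℂ) from
      funext hη, Chars.classInner_irr_self] at h1
    exact_mod_cast h1.symm
  have hres : classInner (fun n : N => (χ : G → ℂ) n) (θ : N → ℂ) =
      ((∑ ψ : IrrCharacter H, c ψ * k ψ : ℕ) : ℂ) := by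
    have h1 : (fun n : N => (χ : G → ℂ) n) = ∑ ψ : IrrCharacter H, (c ψ : ℂ) •
        (fun n : N => (ψ : H → ℂ) (Subgroup.inclusion le_sup_left n)) := by
      funext n
      have h2 := congrFun hc (Subgroup.inclusion le_sup_left n)
      simpa [Finset.sum_apply] using h2
    rw [h1, Chars.classInner_sum_left]
    push_cast
    exact Finset.sum_congr rfl fun ψ _ => by rw [Chars.classInner_smul_left, hk]
  rw [hres, Nat.cast_eq_zero, Finset.sum_eq_zero_iff] at h0
  have := h0 η (Finset.mem_univ _)
  rw [hkη, mul_one, hcη] at this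
  exact hχu.2 (by simp [this])

end Cfsg.Agent.S4583
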