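import Cfsg.Statements.S4586
import Mathlib

open scoped commutatorElement


set_option autoImplicit false
open Cfsg

namespace Cfsg.Agent.S4586

theorem comm_mem {Q : Type*} [Group Q] (A : Subgroup Q) [A.Normal] (x : Q) (a : A) :
    ⁅x, (a : Q)⁆ ∈ A := by
  rw [commutatorElement_def]
  exact A.mul_mem (Subgroup.Normal.conj_mem inferInstance _ a.2 _) (A.inv_mem a.2)

/-- The hom `a ↦ ⁅x, a⁆` on an abelian normal subgroup. -/
def commHom {Q : Type*} [Group Q] (A : Subgroup Q) [A.Normal]
    (hA : ∀ a ∈ A, ∀ b ∈ A, a * b = b * a) (x : Q) : A →* Q :=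
  MonoidHom.mk' (fun a => ⁅x, (a : Q)⁆) fun a b => by
    rw [Subgroup.coe_mul, show ⁅x, (a : Q) * b⁆ = ⁅x, (a : Q)⁆ * ((a : Q) * ⁅x, (b : Q)⁆ * (a : Q)⁻¹) by
      simp only [commutatorElement_def]; group]
    rw [hA a a.2 _ (comm_mem A x b), mul_inv_cancel_right]

theorem range_commHom {Q : Type*} [Group Q] (A : Subgroup Q) [A.Normal]
    (hA : ∀ a ∈ A, ∀ b ∈ A, a * b = b * a) (x : Q)
    (gen : ∀ y : Q, ∃ k : ℤ, ∃ a ∈ A, y = x ^ k * a) :
    (commHom A hA x).range = commutator Q := by
  set K := (commHom A hA x).range with hK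
  have hKA : ∀ y ∈ K, y ∈ A := by rintro _ ⟨a, rfl⟩; exact comm_mem A x a
  have hx : ∀ k : ℤ, ∀ y ∈ K, x ^ k * y * (x ^ k)⁻¹ ∈ K := by
    rintro k _ ⟨a, rfl⟩
    exact ⟨⟨x ^ k * a * (x ^ k)⁻¹, Subgroup.Normal.conj_mem inferInstance _ a.2 _⟩, by
      show ⁅x, x ^ k * (a : Q) * (x ^ k)⁻¹⁆ = x ^ k * ⁅x, (a : Q)⁆ * (x ^ k)⁻¹
      simp only [commutatorElement_def]; group⟩
  have hKn : K.Normal := by
    refine ⟨fun y hy z => ?_⟩
    obtain ⟨k, a, ha, rfl⟩ := gen z
    have : a * y * a⁻¹ = y := by rw [hA a ha y (hKA y hy), mul_inv_cancel_right]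
    have e : x ^ k * a * y * (x ^ k * a)⁻¹ = x ^ k * (a * y * a⁻¹) * (x ^ k)⁻¹ := by group
    rw [e, this]
    exact hx k y hy
  refine le_antisymm ?_ ?_
  · rintro _ ⟨a, rfl⟩
    exact Subgroup.commutator_mem_commutator (Subgroup.mem_top x) (Subgroup.mem_top (a : Q))
  · rw [commutator_def, Subgroup.commutator_le]
    intro u _ v _
    rw [← QuotientGroup.eq_one_iff, ← QuotientGroup.mk'_apply, map_commutatorElement,
      commutatorElement_eq_one_iff_commute]
    obtain ⟨k, a, ha, rfl⟩ := gen u
    obtain ⟨l, b, hb, rfl⟩ := gen v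
    have hax : ∀ c ∈ A, Commute (QuotientGroup.mk' K x) (QuotientGroup.mk' K c) := by
      intro c hc
      rw [← commutatorElement_eq_one_iff_commute, ← map_commutatorElement]
      exact (QuotientGroup.eq_one_iff _).mpr ⟨⟨c, hc⟩, rfl⟩
    have hab : Commute (QuotientGroup.mk' K a) (QuotientGroup.mk' K b) :=
      Commute.map (hA a ha b hb) _
    simp only [map_mul, map_zpow]
    exact (((Commute.refl _).zpow_zpow _ _).mul_right ((hax b hb).zpow_left _)).mul_left
      (((hax a ha).symm.zpow_right _).mul_right hab)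

/-- For `N` normal of prime index and `x ∉ N`: `[P:P']·#N' = p·c(x)`. -/
theorem index_commutator_mul {P : Type*} [Group P] [Finite P] (p : ℕ) [Fact p.Prime]
    (N : Subgroup P) [N.Normal] (hN : N.index = p) (x : P) (hx : x ∉ N) :
    (commutator P).index * Nat.card (commutator N) =
      p * Nat.card {n : N // x * n * x⁻¹ * (n : P)⁻¹ ∈ (commutator N).map N.subtype} := by
  classical
  set D := (commutator N).map N.subtype with hD
  have hDeq : D = ⁅N, N⁆ := by rw [hD, map_commutator_eq, Subgroup.range_subtype]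
  have : D.Normal := by rw [hDeq]; infer_instance
  have hsurj : Function.Surjective (QuotientGroup.mk' D) := QuotientGroup.mk'_surjective D
  set A := N.map (QuotientGroup.mk' D) with hA'
  have : A.Normal := Subgroup.Normal.map inferInstance _ hsurj
  have hA : ∀ a ∈ A, ∀ b ∈ A, a * b = b * a := by
    rintro _ ⟨a, ha, rfl⟩ _ ⟨b, hb, rfl⟩
    show Commute (QuotientGroup.mk' D a) (QuotientGroup.mk' D b)
    rw [← commutatorElement_eq_one_iff_commute, ← map_commutatorElement]
    exact (QuotientGroup.eq_one_iff _).mpr (hDeq ▸ Subgroup.commutator_mem_commutator ha hb)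
  have gen : ∀ y, ∃ k : ℤ, ∃ a ∈ A, y = (QuotientGroup.mk' D x) ^ k * a := by
    intro y
    obtain ⟨y, rfl⟩ := hsurj y
    have hc : Nat.card (P ⧸ N) = p := hN
    have h1 : (x : P ⧸ N) ≠ 1 := fun h => hx ((QuotientGroup.eq_one_iff x).mp h)
    have h2 := zpowers_eq_top_of_prime_card hc h1
    obtain ⟨k, hk⟩ := Subgroup.mem_zpowers_iff.mp (h2 ▸ Subgroup.mem_top (y : P ⧸ N))
    refine ⟨k, QuotientGroup.mk' D ((x ^ k)⁻¹ * y), Subgroup.mem_map_of_mem _ ?_, by simp⟩
    rw [← QuotientGroup.eq_one_iff, QuotientGroup.mk_mul, QuotientGroup.mk_inv,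
      QuotientGroup.mk_zpow, hk, inv_mul_cancel]
  set f := (QuotientGroup.mk' D).subgroupMap N with hf
  set φ := (commHom A hA (QuotientGroup.mk' D x)).comp f with hφ
  have hker : Nat.card φ.ker = Nat.card {n : N // x * n * x⁻¹ * (n : P)⁻¹ ∈ D} := by
    refine Nat.card_congr (Equiv.subtypeEquivRight fun n => ?_)
    show φ n = 1 ↔ _
    have e : φ n = QuotientGroup.mk' D ⁅x, (n : P)⁆ := by
      rw [map_commutatorElement]; rfl
    rw [e]
    exact QuotientGroup.eq_one_iff _
  have hDc : D ≤ commutator P := by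
    rw [hDeq]; exact Subgroup.commutator_mono le_top le_top
  have hr : φ.range = (commutator P).map (QuotientGroup.mk' D) := by
    rw [hφ, MonoidHom.range_comp, MonoidHom.range_eq_top.mpr (MonoidHom.subgroupMap_surjective _ N),
      ← MonoidHom.range_eq_map, range_commHom A hA _ gen, commutator_def, commutator_def,
      Subgroup.map_commutator, Subgroup.map_top_of_surjective _ hsurj]
  have hidx : φ.range.index = (commutator P).index := by
    rw [hr]; exact Subgroup.index_map_eq _ hsurj (by simpa using hDc)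
  have e2 : φ.range.index * Nat.card φ.range = D.index := by
    rw [Subgroup.index_mul_card]; rfl
  have e3 : D.index * Nat.card D = p * Nat.card N := by
    rw [Subgroup.index_mul_card, ← hN, Subgroup.index_mul_card]
  have e4 : Nat.card D = Nat.card (commutator N) :=
    Subgroup.card_map_of_injective N.subtype_injective
  have e5 : Nat.card φ.ker * Nat.card φ.range = Nat.card N := by
    rw [← Subgroup.index_ker, Subgroup.card_mul_index]
  rw [← hidx, ← hker, ← e4]
  have hr : 0 < Nat.card φ.range := Nat.card_pos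
  apply Nat.eq_of_mul_eq_mul_left hr
  rw [← mul_assoc, mul_comm (Nat.card φ.range) φ.range.index, e2, e3, ← e5]
  ring

/-- Let p be a prime, P a finite p-group and N a normal subgroup of P of index p. For x ∈ P write c(x) for the number of elements n of N whose commutator x n x⁻¹ n⁻¹ lies in the derived subgroup N' (so c(x)/#N' is the order of the centralizer of x acting on N/N'). Then [P : P'] = p² if and only if c(x) = p·#N' for every x ∈ P outside N, and also if and only if c(x) = p·#N' for some x ∈ P outside N. -/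
theorem result {P : Type*} [Group P] [Finite P] (p : ℕ) [Fact p.Prime] (hP : IsPGroup p P) (N : Subgroup P) [N.Normal] (hN : N.index = p) :
    ((commutator P).index = p ^ 2 ↔ ∀ x : P, x ∉ N →
        Nat.card {n : N // x * n * x⁻¹ * (n : P)⁻¹ ∈ (commutator N).map N.subtype} = p * Nat.card (commutator N)) ∧
    ((commutator P).index = p ^ 2 ↔ ∃ x : P, x ∉ N ∧
        Nat.card {n : N // x * n * x⁻¹ * (n : P)⁻¹ ∈ (commutator N).map N.subtype} = p * Nat.card (commutator N)) := by
  have hP' := hP
  obtain ⟨x0, hx0⟩ : ∃ x : P, x ∉ N := by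
    by_contra h
    push Not at h
    have : N = ⊤ := eq_top_iff.mpr fun x _ => h x
    rw [this, Subgroup.index_top] at hN
    exact (Fact.out : p.Prime).one_lt.ne hN
  have hpos : 0 < p := (Fact.out : p.Prime).pos
  have key : ∀ x : P, x ∉ N → ((commutator P).index = p ^ 2 ↔
      Nat.card {n : N // x * n * x⁻¹ * (n : P)⁻¹ ∈ (commutator N).map N.subtype} = p * Nat.card (commutator N)) := by
    intro x hx
    have h := index_commutator_mul p N hN x hx
    have hk : 0 < Nat.card (commutator N) := Nat.card_pos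
    constructor
    · intro h2
      rw [h2, sq, mul_assoc] at h
      exact (Nat.eq_of_mul_eq_mul_left hpos h).symm
    · intro h2
      rw [h2, ← mul_assoc, ← sq] at h
      exact Nat.eq_of_mul_eq_mul_right hk h
  refine ⟨⟨fun h x hx => (key x hx).mp h, fun h => (key x0 hx0).mpr (h x0 hx0)⟩,
    ⟨fun h => ⟨x0, hx0, (key x0 hx0).mp h⟩, fun ⟨x, hx, hc⟩ => (key x hx).mpr hc⟩⟩

end Cfsg.Agent.S4586
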