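import Cfsg.Statements.S4584
import Mathlib
import Cfsg.Agent.S4586

open scoped commutatorElement


set_option autoImplicit false
open Cfsg

namespace Cfsg.Agent.S4584

theorem dvd_prime_pow_cases {p n m : ℕ} (hp : p.Prime) (h : m ∣ p ^ n) : ∃ i, i ≤ n ∧ m = p ^ i :=
  (Nat.dvd_prime_pow hp).mp h

theorem center_index_facts {P : Type*} [Group P] [Finite P] (p : ℕ) [Fact p.Prime]
    (hP : Nat.card P = p ^ 4) (hna : ¬ IsMulCommutative P) :
    ∃ i, 2 ≤ i ∧ i ≤ 3 ∧ (Subgroup.center P).index = p ^ i := by
  have hp : p.Prime := Fact.out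
  have hpg : IsPGroup p P := IsPGroup.of_card hP
  have : Nontrivial P := by
    rw [← Finite.one_lt_card_iff_nontrivial, hP]; exact Nat.one_lt_pow (by norm_num) hp.one_lt
  obtain ⟨i, hi, he⟩ := (Nat.dvd_prime_pow hp).mp (hP ▸ (Subgroup.center P).index_dvd_card)
  refine ⟨i, ?_, ?_, he⟩
  · by_contra h
    apply hna
    have : IsCyclic (P ⧸ Subgroup.center P) := by
      have hc : Nat.card (P ⧸ Subgroup.center P) = p ^ i := he
      interval_cases i
      · have : Subsingleton (P ⧸ Subgroup.center P) := (Nat.card_eq_one_iff_unique.mp (by simpa using hc)).1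
        infer_instance
      · exact isCyclic_of_prime_card (p := p) (by simpa using hc)
    exact isMulCommutative_of_isCyclic_quotient_center_self P
  · by_contra h
    have h4 : i = 4 := by omega
    subst h4
    have := hpg.center_nontrivial
    have h1 := Subgroup.index_mul_card (Subgroup.center P)
    rw [he, hP] at h1
    have h2 : Nat.card (Subgroup.center P) = 1 :=
      Nat.eq_of_mul_eq_mul_left (pow_pos hp.pos 4) (by rw [mul_one]; exact h1)
    exact absurd h2 (Finite.one_lt_card_iff_nontrivial.mpr this).ne'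

theorem card_commutator_of_center_index {P : Type*} [Group P] [Finite P] (p : ℕ) [Fact p.Prime]
    (hP : Nat.card P = p ^ 4) (h : (Subgroup.center P).index = p ^ 2) :
    Nat.card (commutator P) = p := by
  classical
  have hp : p.Prime := Fact.out
  obtain ⟨a, ha⟩ : ∃ a : P, a ∉ Subgroup.center P := by
    by_contra hh
    push Not at hh
    rw [(Subgroup.eq_top_iff' _).mpr hh, Subgroup.index_top] at h
    exact absurd h.symm (Nat.one_lt_pow (by norm_num) hp.one_lt).ne'
  set A := Subgroup.center P ⊔ Subgroup.zpowers a with hA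
  have hZA : Subgroup.center P < A :=
    lt_of_le_of_ne le_sup_left fun e => ha (e ▸ (le_sup_right : Subgroup.zpowers a ≤ A) (Subgroup.mem_zpowers a))
  have hAab : ∀ u ∈ A, ∀ v ∈ A, u * v = v * u := by
    have hle : A ≤ Subgroup.centralizer {a} := by
      refine sup_le (Subgroup.center_le_centralizer _) (Subgroup.zpowers_le.mpr ?_)
      exact Subgroup.mem_centralizer_singleton_iff.mpr rfl
    have hle2 : A ≤ Subgroup.centralizer (A : Set P) := by
      refine sup_le (Subgroup.center_le_centralizer _) (Subgroup.zpowers_le.mpr ?_)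
      intro u hu
      exact Subgroup.mem_centralizer_singleton_iff.mp (hle hu)
    intro u hu v hv
    exact (hle2 hu v hv).symm
  have hne : A ≠ ⊤ := by
    intro e
    have hcc : ∀ u : P, u ∈ Subgroup.center P := fun u => Subgroup.mem_center_iff.mpr fun v =>
      (hAab v (e ▸ Subgroup.mem_top v) u (e ▸ Subgroup.mem_top u))
    exact ha (hcc a)
  have hidx : A.index = p := by
    have h1 : A.index ∣ p ^ 2 := h ▸ Subgroup.index_dvd_of_le hZA.le
    obtain ⟨i, hi, he⟩ := (Nat.dvd_prime_pow hp).mp h1
    interval_cases i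
    · exact absurd (Subgroup.index_eq_one.mp (by simpa using he)) hne
    · simpa using he
    · exact absurd (he.trans h.symm) (Subgroup.index_strictAnti hZA).ne
  have hAn : A.Normal := Subgroup.normal_of_index_eq_minFac_card (by
    rw [hidx, hP, hp.pow_minFac (by norm_num)])
  obtain ⟨x, hx⟩ : ∃ x : P, x ∉ A := by
    by_contra hh
    push Not at hh
    exact hne (eq_top_iff.mpr fun y _ => hh y)
  have hform := S4586.index_commutator_mul p A hidx x hx
  have hc1 : commutator A = ⊥ := by
    rw [commutator_def, eq_bot_iff, Subgroup.commutator_le]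
    intro u _ v _
    rw [Subgroup.mem_bot, commutatorElement_eq_one_iff_commute]
    exact Subtype.ext (hAab u u.2 v v.2)
  have hset : Nat.card {n : A // x * n * x⁻¹ * (n : P)⁻¹ ∈ (commutator A).map A.subtype} =
      Nat.card (Subgroup.center P) := by
    refine Nat.card_congr ⟨fun n => ⟨n.1.1, ?_⟩, fun z => ⟨⟨z.1, hZA.le z.2⟩, ?_⟩, fun n => rfl, fun z => rfl⟩
    · have h1 : x * n.1 * x⁻¹ * (n.1 : P)⁻¹ ∈ (⊥ : Subgroup A).map A.subtype := hc1 ▸ n.2
      rw [Subgroup.map_bot, Subgroup.mem_bot, mul_inv_eq_one, mul_inv_eq_iff_eq_mul] at h1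
      have hle : A ⊔ Subgroup.zpowers x ≤ Subgroup.centralizer {(n.1 : P)} := by
        refine sup_le (fun u hu => Subgroup.mem_centralizer_singleton_iff.mpr (hAab u hu _ n.1.2))
          (Subgroup.zpowers_le.mpr (Subgroup.mem_centralizer_singleton_iff.mpr h1))
      have htop : A ⊔ Subgroup.zpowers x = ⊤ := by
        refine (Subgroup.index_eq_one.mp ?_)
        have hlt : A < A ⊔ Subgroup.zpowers x := lt_of_le_of_ne le_sup_left fun e =>
          hx (e ▸ (le_sup_right : Subgroup.zpowers x ≤ A ⊔ Subgroup.zpowers x) (Subgroup.mem_zpowers x))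
        have h2 := Subgroup.index_dvd_of_le hlt.le
        rw [hidx] at h2
        rcases (Nat.dvd_prime hp).mp h2 with h3 | h3
        · exact h3
        · exact absurd (h3.trans hidx.symm) (Subgroup.index_strictAnti hlt).ne
      rw [htop] at hle
      exact Subgroup.mem_center_iff.mpr fun v =>
        Subgroup.mem_centralizer_singleton_iff.mp (hle (Subgroup.mem_top v))
    · have : x * z.1 * x⁻¹ * (z.1)⁻¹ = 1 := by
        rw [Subgroup.mem_center_iff.mp z.2 x]; group
      show x * z.1 * x⁻¹ * (z.1)⁻¹ ∈ _
      rw [this]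
      exact Subgroup.one_mem _
  rw [hset, hc1, Subgroup.card_bot, mul_one] at hform
  have hz : Nat.card (Subgroup.center P) = p ^ 2 := by
    have h1 := Subgroup.index_mul_card (Subgroup.center P)
    rw [h, hP, show p ^ 4 = p ^ 2 * p ^ 2 by ring] at h1
    exact Nat.eq_of_mul_eq_mul_left (pow_pos hp.pos 2) h1
  have h2 := Subgroup.index_mul_card (commutator P)
  rw [hform, hz, hP, show p ^ 4 = p * p ^ 2 * p by ring] at h2
  exact Nat.eq_of_mul_eq_mul_left (Nat.mul_pos hp.pos (pow_pos hp.pos 2)) h2

theorem center_index_of_card_commutator {P : Type*} [Group P] [Finite P] (p : ℕ) [Fact p.Prime]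
    (hP : Nat.card P = p ^ 4) (h : Nat.card (commutator P) = p) :
    (Subgroup.center P).index = p ^ 2 := by
  classical
  have hp : p.Prime := Fact.out
  have hna : ¬ IsMulCommutative P := by
    intro hc
    have h0 : commutator P = ⊥ := by
      rw [commutator_def, eq_bot_iff, Subgroup.commutator_le]
      intro u _ v _
      rw [Subgroup.mem_bot, commutatorElement_eq_one_iff_commute]
      exact hc.is_comm.comm u v
    rw [h0, Subgroup.card_bot] at h
    exact hp.one_lt.ne h
  obtain ⟨i, hi2, hi3, hi⟩ := center_index_facts p hP hna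
  interval_cases i
  · exact hi
  exfalso
  have hC : ∀ x : P, x ∉ Subgroup.center P → (Subgroup.centralizer {x}).index = p := by
    intro x hx
    have hinj : (Subgroup.centralizer {x}).index ≤ p := by
      rw [Subgroup.index, ← h]
      refine Nat.card_le_card_of_injective
        (fun q => (⟨⁅q.out, x⁆, Subgroup.commutator_mem_commutator (Subgroup.mem_top _) (Subgroup.mem_top _)⟩ : commutator P)) ?_
      intro q r hqr
      have e : ⁅q.out, x⁆ = ⁅r.out, x⁆ := congrArg Subtype.val hqr
      simp only [commutatorElement_def, mul_left_inj] at e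
      rw [← q.out_eq, ← r.out_eq]
      refine QuotientGroup.eq.mpr ?_
      rw [Subgroup.mem_centralizer_singleton_iff]
      calc q.out⁻¹ * r.out * x = q.out⁻¹ * (r.out * x * r.out⁻¹) * r.out := by group
        _ = q.out⁻¹ * (q.out * x * q.out⁻¹) * r.out := by rw [e]
        _ = x * (q.out⁻¹ * r.out) := by group
    obtain ⟨j, hj, he⟩ := (Nat.dvd_prime_pow hp).mp (hP ▸ (Subgroup.centralizer {x}).index_dvd_card)
    rcases Nat.lt_trichotomy j 1 with hj1 | hj1 | hj1
    · have : Subgroup.centralizer {x} = ⊤ := Subgroup.index_eq_one.mp (by rw [he]; simp [Nat.lt_one_iff.mp hj1])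
      exact absurd (Subgroup.mem_center_iff.mpr fun v =>
        Subgroup.mem_centralizer_singleton_iff.mp (this ▸ Subgroup.mem_top v)) hx
    · rw [he, hj1, pow_one]
    · exact absurd (he ▸ hinj) (not_le.mpr (lt_of_eq_of_lt (pow_one p).symm (Nat.pow_lt_pow_right hp.one_lt hj1)))
  obtain ⟨x, hx⟩ : ∃ x : P, x ∉ Subgroup.center P := by
    by_contra hh
    push Not at hh
    rw [(Subgroup.eq_top_iff' _).mpr hh, Subgroup.index_top] at hi
    exact absurd hi.symm (Nat.one_lt_pow (by norm_num) hp.one_lt).ne'
  set Cx := Subgroup.centralizer {x} with hCx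
  obtain ⟨y, hy⟩ : ∃ y : P, y ∉ Cx := by
    by_contra hh
    push Not at hh
    have h1 := hC x hx
    rw [← hCx, (Subgroup.eq_top_iff' _).mpr hh, Subgroup.index_top] at h1
    exact hp.one_lt.ne h1
  have hyz : y ∉ Subgroup.center P := fun hz => hy (Subgroup.center_le_centralizer _ hz)
  set D := Cx ⊓ Subgroup.centralizer {y} with hD
  have hxC : x ∈ Cx := Subgroup.mem_centralizer_singleton_iff.mpr rfl
  have hxD : x ∉ D := fun hh => hy (Subgroup.mem_centralizer_singleton_iff.mpr
    (Subgroup.mem_centralizer_singleton_iff.mp hh.2).symm)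
  have hlt : D < Cx := lt_of_le_of_ne inf_le_left fun e => hxD (e ▸ hxC)
  have hDle : D.index ≤ p ^ 2 := by
    refine le_trans Subgroup.index_inf_le ?_
    rw [hC x hx, hC y hyz, sq]
  have hDge : D.index = p ^ 2 := by
    obtain ⟨j, hj, he⟩ := (Nat.dvd_prime_pow hp).mp (hP ▸ D.index_dvd_card)
    have h1 : p < D.index := by
      rw [← hC x hx]; exact Subgroup.index_strictAnti hlt
    rw [he] at h1 hDle ⊢
    have h2 : 1 < j := (Nat.pow_lt_pow_iff_right hp.one_lt).mp (by simpa using h1)
    have h3 : j ≤ 2 := (Nat.pow_le_pow_iff_right hp.one_lt).mp hDle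
    rw [show j = 2 by omega]
  have hDcard : Nat.card D = p ^ 2 := by
    have h1 := Subgroup.index_mul_card D
    rw [hDge, hP, show p ^ 4 = p ^ 2 * p ^ 2 by ring] at h1
    exact Nat.eq_of_mul_eq_mul_left (pow_pos hp.pos 2) h1
  have hDab := IsPGroup.isMulCommutative_of_card_eq_prime_sq hDcard
  have hDZ : D ≤ Subgroup.center P := by
    intro d hd
    by_contra hdz
    have h1 : D ⊔ Subgroup.zpowers x ≤ Subgroup.centralizer {d} := by
      refine sup_le (fun u hu => Subgroup.mem_centralizer_singleton_iff.mpr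
        (congrArg Subtype.val (hDab.is_comm.comm (⟨u, hu⟩ : D) ⟨d, hd⟩))) (Subgroup.zpowers_le.mpr ?_)
      exact Subgroup.mem_centralizer_singleton_iff.mpr (Subgroup.mem_centralizer_singleton_iff.mp hd.1).symm
    have h2 : D ⊔ Subgroup.zpowers x ≤ Cx := sup_le inf_le_left (Subgroup.zpowers_le.mpr hxC)
    have h3 : (D ⊔ Subgroup.zpowers x).index = p := by
      have hlt' : D < D ⊔ Subgroup.zpowers x := lt_of_le_of_ne le_sup_left fun e =>
        hxD (e ▸ (le_sup_right : Subgroup.zpowers x ≤ D ⊔ Subgroup.zpowers x) (Subgroup.mem_zpowers x))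
      have d1 := Subgroup.index_dvd_of_le hlt'.le
      have d2 := Subgroup.index_dvd_of_le h2
      rw [hC x hx] at d2
      obtain ⟨j, hj, he⟩ := (Nat.dvd_prime_pow hp).mp (hDge ▸ d1)
      interval_cases j
      · rw [he, pow_zero, Nat.dvd_one] at d2; exact absurd d2 hp.one_lt.ne'
      · simpa using he
      · exact absurd (he.trans hDge.symm) (Subgroup.index_strictAnti hlt').ne
    have h4 : D ⊔ Subgroup.zpowers x = Cx := by
      refine le_antisymm h2 (not_not.mp fun hh => ?_)
      exact (Subgroup.index_strictAnti (lt_of_le_of_ne h2 fun e => hh e.ge)).ne' (h3.trans (hC x hx).symm)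
    have h5 : y ∈ Subgroup.centralizer {d} := Subgroup.mem_centralizer_singleton_iff.mpr
      (Subgroup.mem_centralizer_singleton_iff.mp hd.2).symm
    have h6 : Cx ≤ Subgroup.centralizer {d} := h4 ▸ h1
    have h7 : Cx = Subgroup.centralizer {d} := by
      refine le_antisymm h6 (not_not.mp fun hh => ?_)
      exact (Subgroup.index_strictAnti (lt_of_le_of_ne h6 fun e => hh e.ge)).ne' ((hC x hx).trans (hC d hdz).symm)
    exact hy (h7 ▸ h5)
  have h8 := Subgroup.index_antitone hDZ
  rw [hi, hDge] at h8
  exact absurd h8 (not_le.mpr (Nat.pow_lt_pow_right hp.one_lt (by norm_num)))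

/-- Let p be a prime and P a group of order p^4. Then the derived subgroup P' has order p if and only if the centre Z(P) has index p^2 in P. -/
theorem result {P : Type*} [Group P] [Finite P] (p : ℕ) [Fact p.Prime] (hP : Nat.card P = p ^ 4) :
    Nat.card (commutator P) = p ↔ (Subgroup.center P).index = p ^ 2 := by
  have hp : p.Prime := Fact.out
  constructor
  · intro h
    exact center_index_of_card_commutator p hP h
  · intro h
    exact card_commutator_of_center_index p hP h

end Cfsg.Agent.S4584
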