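import Cfsg.Statements.S4585
import Mathlib
import Cfsg.Agent.S4584

open scoped commutatorElement


set_option autoImplicit false
open Cfsg

namespace Cfsg.Agent.S4585

theorem central_of_normal_prime {P : Type*} [Group P] [Finite P] (p : ℕ) [Fact p.Prime]
    (hpg : IsPGroup p P) (N : Subgroup P) [N.Normal] (hc : Nat.card N = p) : N ≤ Subgroup.center P := by
  intro n hn
  rw [Subgroup.mem_center_iff]
  intro u
  let f : P →* MulAut N := MulAut.conjNormal
  have hf : f u = 1 := by
    obtain ⟨k, hk⟩ := hpg u
    have h1 : (f u) ^ p ^ k = 1 := by rw [← map_pow, hk, map_one]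
    have hcyc : IsCyclic N := isCyclic_of_prime_card hc
    have h2 : (f u) ^ (p - 1) = 1 := by
      have := pow_card_eq_one' (x := f u)
      rwa [IsCyclic.card_mulAut, hc, Nat.totient_prime (Fact.out : p.Prime)] at this
    have hco : Nat.Coprime (p ^ k) (p - 1) := by
      refine Nat.Coprime.pow_left k ((Nat.Prime.coprime_iff_not_dvd Fact.out).mpr fun hd => ?_)
      have h2 := (Fact.out : p.Prime).two_le
      exact absurd (Nat.le_of_dvd (by omega) hd) (by omega)
    have := pow_gcd_eq_one.mpr ⟨h1, h2⟩
    simpa [hco] using this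
  have h3 := congrArg (fun g : MulAut N => ((g ⟨n, hn⟩ : N) : P)) hf
  simp only [f, MulAut.conjNormal_apply, MulAut.one_apply] at h3
  exact (eq_mul_inv_iff_mul_eq.mp h3.symm).symm

theorem commutator_card_dvd {P : Type*} [Group P] [Finite P] (p : ℕ) [Fact p.Prime]
    (hP : Nat.card P = p ^ 4) (hi : (Subgroup.center P).index = p ^ 3) :
    Nat.card (commutator P) ∣ p ^ 2 := by
  have hp : p.Prime := Fact.out
  have hpg : IsPGroup p P := IsPGroup.of_card hP
  have : Group.IsNilpotent P := hpg.isNilpotent
  obtain ⟨i, hi4, he⟩ := (Nat.dvd_prime_pow hp).mp (hP ▸ (commutator P).card_subgroup_dvd_card)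
  rcases le_or_gt i 2 with h | h
  · rw [he]; exact pow_dvd_pow p h
  exfalso
  have hidx := Subgroup.index_mul_card (commutator P)
  rw [hP, he] at hidx
  have : IsCyclic (P ⧸ commutator P) := by
    interval_cases i
    · have hc : Nat.card (P ⧸ commutator P) = p := Nat.eq_of_mul_eq_mul_right (pow_pos hp.pos 3)
        (by rw [← Subgroup.index]; rw [hidx]; ring)
      exact isCyclic_of_prime_card hc
    · have hc : Nat.card (P ⧸ commutator P) = 1 := Nat.eq_of_mul_eq_mul_right (pow_pos hp.pos 4)
        (by rw [← Subgroup.index]; rw [hidx]; ring)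
      have := (Nat.card_eq_one_iff_unique.mp hc).1
      infer_instance
  set K := ⁅commutator P, (⊤ : Subgroup P)⁆ with hK
  have : IsMulCommutative (P ⧸ K) := by
    have hker : (QuotientGroup.lift K (QuotientGroup.mk' (commutator P))
        (by rw [QuotientGroup.ker_mk']; exact Subgroup.commutator_le_left _ _)).ker ≤ Subgroup.center (P ⧸ K) := by
      intro q hq
      obtain ⟨u, rfl⟩ := QuotientGroup.mk'_surjective K q
      rw [Subgroup.mem_center_iff]
      intro v
      obtain ⟨v, rfl⟩ := QuotientGroup.mk'_surjective K v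
      refine Eq.symm ?_
      show Commute _ _
      rw [← commutatorElement_eq_one_iff_commute, ← map_commutatorElement]
      exact (QuotientGroup.eq_one_iff _).mpr (Subgroup.commutator_mem_commutator
        ((QuotientGroup.eq_one_iff u).mp hq) (Subgroup.mem_top v))
    exact MonoidHom.isMulCommutative_of_isCyclic_of_ker_le_center _ hker
  have hle : commutator P ≤ K := by
    rw [commutator_def, Subgroup.commutator_le]
    intro u _ v _
    rw [← QuotientGroup.eq_one_iff, ← QuotientGroup.mk'_apply, map_commutatorElement,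
      commutatorElement_eq_one_iff_commute]
    exact this.is_comm.comm _ _
  set L := fun n => Subgroup.lowerCentralSeries (⊤ : Subgroup P) n with hL
  have hL1 : L 1 = commutator P := Subgroup.top_lowerCentralSeries_one
  have hall : ∀ k, L (k + 1) = L 1 := by
    intro k
    induction k with
    | zero => rfl
    | succ k ih =>
      show ⁅L (k + 1), _⁆ = L 1
      rw [ih, hL1]
      exact le_antisymm (Subgroup.commutator_le_left _ _) hle
  obtain ⟨n, hn⟩ := Subgroup.nilpotent_iff_lowerCentralSeries.mp (inferInstance : Group.IsNilpotent P)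
  have h1 : L (n + 1) = ⊥ := le_bot_iff.mp (hn ▸ Subgroup.lowerCentralSeries_antitone _ (Nat.le_succ n))
  rw [hall, hL1] at h1
  rw [h1, Subgroup.card_bot] at he
  exact absurd he (Nat.one_lt_pow (by omega) hp.one_lt).ne

/-- Let p be a prime and P a group of order p^4. Then P' has index p^2 in P if and only if P has maximal nilpotency class, that is, nilpotency class exactly 3. -/
theorem result {P : Type*} [Group P] [Finite P] (p : ℕ) [Fact p.Prime] (hP : Nat.card P = p ^ 4) :
    (commutator P).index = p ^ 2 ↔ Group.nilpotencyClass P = 3 := by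
  classical
  have hp : p.Prime := Fact.out
  have hpg : IsPGroup p P := IsPGroup.of_card hP
  have : Group.IsNilpotent P := hpg.isNilpotent
  have hcase : ∀ m : ℕ, m ∣ p ^ 4 → ∃ i, i ≤ 4 ∧ m = p ^ i := fun m hm => (Nat.dvd_prime_pow hp).mp hm
  have hP'2 : Nat.card (commutator P) ∣ p ^ 2 := by
    by_cases hna : IsMulCommutative P
    · have h0 : commutator P = ⊥ := by
        rw [commutator_def, eq_bot_iff, Subgroup.commutator_le]
        intro u _ v _
        rw [Subgroup.mem_bot, commutatorElement_eq_one_iff_commute]
        exact hna.is_comm.comm u v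
      rw [h0, Subgroup.card_bot]; exact one_dvd _
    obtain ⟨i, hi2, hi3, hi⟩ := S4584.center_index_facts p hP hna
    interval_cases i
    · rw [S4584.card_commutator_of_center_index p hP hi]; exact dvd_pow_self p two_ne_zero
    · exact commutator_card_dvd p hP hi
  set L := fun n => Subgroup.lowerCentralSeries (⊤ : Subgroup P) n with hL
  have hL1 : L 1 = commutator P := Subgroup.top_lowerCentralSeries_one
  have hL2 : L 2 = ⁅commutator P, ⊤⁆ := by
    show Subgroup.lowerCentralSeries (⊤ : Subgroup P) 2 = _
    rw [← hL1]; rfl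
  have hZiff : L 2 = ⊥ ↔ commutator P ≤ Subgroup.center P := by
    rw [hL2, Subgroup.commutator_eq_bot_iff_le_centralizer, Subgroup.coe_top, Subgroup.centralizer_univ]
  have hlt : L 2 ≠ ⊥ → L 2 < L 1 := by
    intro h2
    refine lt_of_le_of_ne (Subgroup.lowerCentralSeries_antitone _ (by norm_num)) fun e => h2 ?_
    have hall : ∀ k, L (k + 1) = L 1 := by
      intro k
      induction k with
      | zero => rfl
      | succ k ih =>
        show ⁅L (k + 1), _⁆ = L 1
        rw [ih]; exact e
    obtain ⟨n, hn⟩ := Subgroup.nilpotent_iff_lowerCentralSeries.mp (inferInstance : Group.IsNilpotent P)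
    have : L (n + 1) = ⊥ := le_bot_iff.mp (hn ▸ Subgroup.lowerCentralSeries_antitone _ (Nat.le_succ n))
    rw [e, ← hall n]; exact this
  have hL3 : L 3 = ⊥ := by
    by_cases h2 : L 2 = ⊥
    · exact le_bot_iff.mp (h2 ▸ Subgroup.lowerCentralSeries_antitone _ (by norm_num))
    have hn : (L 2).Normal := by rw [hL2]; infer_instance
    have hc : Nat.card (L 2) = p := by
      obtain ⟨i, hi, he⟩ := (Nat.dvd_prime_pow hp).mp
        ((Subgroup.card_dvd_of_le (hlt h2).le).trans (hL1 ▸ hP'2))
      interval_cases i
      · exact absurd (Subgroup.eq_bot_of_card_eq _ (by simpa using he)) h2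
      · simpa using he
      · have h3 := Nat.le_of_dvd (pow_pos hp.pos 2) (hL1 ▸ hP'2 : Nat.card (L 1) ∣ p ^ 2)
        exact absurd (Subgroup.eq_of_le_of_card_ge (hlt h2).le (he ▸ h3)) (hlt h2).ne
    show ⁅L 2, _⁆ = ⊥
    rw [Subgroup.commutator_eq_bot_iff_le_centralizer, Subgroup.coe_top, Subgroup.centralizer_univ]
    exact central_of_normal_prime p hpg (L 2) hc
  have hle3 : Group.nilpotencyClass P ≤ 3 :=
    Subgroup.lowerCentralSeries_eq_bot_iff_nilpotencyClass_le.mp hL3
  have h2iff : L 2 = ⊥ ↔ Group.nilpotencyClass P ≤ 2 :=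
    Subgroup.lowerCentralSeries_eq_bot_iff_nilpotencyClass_le
  have hcardidx := Subgroup.index_mul_card (commutator P)
  rw [hP] at hcardidx
  constructor
  · intro h
    have hc : Nat.card (commutator P) = p ^ 2 := by
      rw [h, show p ^ 4 = p ^ 2 * p ^ 2 by ring] at hcardidx
      exact Nat.eq_of_mul_eq_mul_left (pow_pos hp.pos 2) hcardidx
    have hne : L 2 ≠ ⊥ := by
      intro h2
      have hle := Subgroup.card_dvd_of_le (hZiff.mp h2)
      have hna : ¬ IsMulCommutative P := by
        intro hna
        have h0 : commutator P = ⊥ := by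
          rw [commutator_def, eq_bot_iff, Subgroup.commutator_le]
          intro u _ v _
          rw [Subgroup.mem_bot, commutatorElement_eq_one_iff_commute]
          exact hna.is_comm.comm u v
        rw [h0, Subgroup.card_bot] at hc
        exact absurd hc.symm (Nat.one_lt_pow (by norm_num) hp.one_lt).ne'
      obtain ⟨i, hi2, hi3, hi⟩ := S4584.center_index_facts p hP hna
      interval_cases i
      · rw [S4584.card_commutator_of_center_index p hP hi] at hc
        exact absurd hc (ne_of_lt (lt_of_eq_of_lt (pow_one p).symm (Nat.pow_lt_pow_right hp.one_lt (by norm_num))))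
      · have h1 := Subgroup.index_mul_card (Subgroup.center P)
        rw [hi, hP, show p ^ 4 = p ^ 3 * p by ring] at h1
        rw [hc, Nat.eq_of_mul_eq_mul_left (pow_pos hp.pos 3) h1] at hle
        exact absurd (Nat.le_of_dvd hp.pos hle) (not_le.mpr (lt_of_eq_of_lt (pow_one p).symm (Nat.pow_lt_pow_right hp.one_lt (by norm_num))))
    have := mt h2iff.mpr hne
    omega
  · intro h
    have hne : ¬ commutator P ≤ Subgroup.center P := fun hh => by
      have := h2iff.mp (hZiff.mpr hh); omega
    obtain ⟨i, hi, he⟩ := (Nat.dvd_prime_pow hp).mp hP'2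
    interval_cases i
    · exact absurd ((Subgroup.eq_bot_of_card_eq _ (by simpa using he)) ▸ bot_le) hne
    · exact absurd (central_of_normal_prime p hpg _ (by simpa using he)) hne
    · rw [he, show p ^ 4 = p ^ 2 * p ^ 2 by ring] at hcardidx
      exact Nat.eq_of_mul_eq_mul_right (pow_pos hp.pos 2) hcardidx

end Cfsg.Agent.S4585
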