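import Cfsg.Statements.S4591
import Mathlib
import Cfsg.Prelude.Def_Blocks
import Cfsg.Agent.Lib.BrauerMap.OrbitSum
import Cfsg.Agent.Lib.BrauerMap.RepKernel
import Cfsg.Agent.Lib.Chars.Induced
import Cfsg.Agent.Lib.Chars.Integral
import Cfsg.Agent.Lib.Chars.Ops
import Cfsg.Agent.Lib.Blocks.ClassAlgebra
import Cfsg.Agent.Lib.Clifford.CharExtension
import Cfsg.Agent.Lib.Clifford.LinearExtension
import Cfsg.Agent.Lib.Transfer.Criteria
import Cfsg.Agent.Lib.CharExt.CentralDegree

open Cfsg.Agent.Lib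
open scoped commutatorElement ComplexConjugate


set_option autoImplicit false
open Cfsg

namespace Cfsg.Agent.S4591

universe u

variable {G : Type u} [Group G]

theorem not_isIntegral_div (p : ℕ) [hp : Fact p.Prime] {d : ℕ} (hd : ¬ p ∣ d) {a : ℂ}
    (ha : IsIntegral ℤ a) : (d : ℂ) + (p : ℂ) * a ≠ 0 := by
  intro h
  refine hd (CharExt.dvd_of_mul_eq_natCast_of_isIntegral ha.neg hp.out.ne_zero ?_)
  rw [mul_neg, eq_comm]
  exact eq_neg_of_add_eq_zero_left h

/-- `N` with `C_N(P) = 1` and `P'` fix a vector, so their core acts trivially. -/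
theorem core_acts_trivially [Finite G] (p : ℕ) [Fact p.Prime] (P : Sylow p G) (N : Subgroup G) [N.Normal]
    (hN : N ⊓ Subgroup.centralizer ((P : Subgroup G) : Set G) = ⊥)
    {n : ℕ} (ρ : Representation ℂ G (Fin n → ℂ)) [ρ.IsIrreducible]
    (hd : ¬ p ∣ Module.finrank ℂ (Fin n → ℂ)) (g : G)
    (hg : g ∈ (N ⊔ ⁅(P : Subgroup G), (P : Subgroup G)⁆).normalCore) : ρ g = 1 := by
  classical
  have := Fintype.ofFinite G
  -- `N` acts trivially
  have hNtriv : ∀ x : N, ρ x = 1 := by
    refine BrauerMap.acts_trivially_of_sum_ne_zero ρ N fun h0 => ?_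
    letI : MulAction (P : Subgroup G) N :=
      MulAction.compHom N (MulAut.conjNormal.comp (P : Subgroup G).subtype : (P : Subgroup G) →* MulAut N)
    obtain ⟨a, ha, hsum⟩ := BrauerMap.exists_sum_eq_sum_fixed_add (X := N) P.isPGroup'
      (fun x : N => ρ.character (x : G))
      (fun b x => by
        show ρ.character ((MulAut.conjNormal (b : G) x : N) : G) = _
        rw [MulAut.conjNormal_apply, Representation.char_conj])
      (fun x => Chars.char_isIntegral ρ _)
    have hfix : Finset.univ.filter (· ∈ MulAction.fixedPoints (P : Subgroup G) N) = {(1 : N)} := by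
      ext x
      simp only [Finset.mem_filter, Finset.mem_univ, true_and, Finset.mem_singleton]
      constructor
      · intro hx
        have h1 : (x : G) ∈ N ⊓ Subgroup.centralizer ((P : Subgroup G) : Set G) := by
          refine ⟨x.2, Subgroup.mem_centralizer_iff.mpr fun b hb => ?_⟩
          have h2 := congrArg Subtype.val (hx ⟨b, hb⟩)
          change ((MulAut.conjNormal b x : N) : G) = x at h2
          rw [MulAut.conjNormal_apply] at h2
          exact mul_inv_eq_iff_eq_mul.mp h2
        rw [hN, Subgroup.mem_bot] at h1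
        exact Subtype.ext h1
      · rintro rfl b
        exact map_one (MulAut.conjNormal (b : G))
    rw [h0, hfix, Finset.sum_singleton, Subgroup.coe_one, Representation.char_one] at hsum
    exact not_isIntegral_div p hd ha hsum.symm
  -- a vector fixed by `P'`
  set Q := ⁅(P : Subgroup G), (P : Subgroup G)⁆ with hQ
  have hQP : Q ≤ (P : Subgroup G) := Subgroup.commutator_le_self _
  have hQsum : ∑ x : Q, ρ x ≠ 0 := by
    intro h0
    have hch : Cfsg.IsCharacter (P : Subgroup G) (fun x : (P : Subgroup G) => ρ.character (x : G)) :=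
      Chars.isCharacter_restrict _ ⟨n, ρ, rfl⟩
    obtain ⟨ψ, hψ, hψd⟩ := BrauerMap.exists_constituent_not_dvd (p := p) hch
      (D := Module.finrank ℂ (Fin n → ℂ)) (by simp) hd
    obtain ⟨k, hk⟩ := IsPGroup.iff_card.mp P.isPGroup'
    have hd1 : Cfsg.charDegree (ψ : ↥(P : Subgroup G) → ℂ) = 1 := by
      obtain ⟨j, -, hj⟩ := (Nat.dvd_prime_pow (Fact.out : p.Prime)).mp
        (hk ▸ BrauerMap.charDegree_irr_dvd_card ψ)
      rcases Nat.eq_zero_or_pos j with rfl | hpos
      · simpa using hj
      · exact absurd (hj ▸ dvd_pow_self p hpos.ne') hψd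
    obtain ⟨φ, hφ⟩ := Chars.exists_hom_of_degree_one (Chars.irr_isCharacter ψ)
      (by rw [BrauerMap.charDegree_cast (Chars.irr_isCharacter ψ), hd1, Nat.cast_one])
    obtain ⟨m, hm⟩ := Chars.isCharacter_exists_nat_decomp hch
    let ι : Q →* (P : Subgroup G) := Subgroup.inclusion hQP
    have hnat : ∀ χ : Cfsg.IrrCharacter (P : Subgroup G),
        ∃ c : ℕ, ∑ x : Q, (χ : ↥(P : Subgroup G) → ℂ) (ι x) = (c : ℂ) := by
      intro χ
      obtain ⟨c, hc⟩ := Chars.isCharacter_classInner_nat
        (Chars.isCharacter_comp ι (Chars.irr_isCharacter χ)) (Chars.irr_isCharacter (Chars.trivialIrr Q))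
      refine ⟨Nat.card Q * c, ?_⟩
      have hne : (Nat.card Q : ℂ) ≠ 0 := Nat.cast_ne_zero.mpr Nat.card_pos.ne'
      rw [Nat.cast_mul, ← hc, Cfsg.classInner, mul_inv_cancel_left₀ hne]
      simp
    choose c hc using hnat
    have htot : (0 : ℂ) = ∑ χ : Cfsg.IrrCharacter (P : Subgroup G), (m χ : ℂ) * (c χ : ℂ) := by
      have h1 : ∑ x : Q, ρ.character (x : G) = 0 := by
        have := BrauerMap.sum_character_mul ρ Q 1
        simpa [h0] using this
      rw [← h1]
      simp only [← hc, Finset.mul_sum]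
      rw [Finset.sum_comm]
      refine Finset.sum_congr rfl fun x _ => ?_
      have := congrFun hm (ι x)
      simpa [Finset.sum_apply, ι] using this
    have htot' : ∑ χ : Cfsg.IrrCharacter (P : Subgroup G), m χ * c χ = 0 := by exact_mod_cast htot.symm
    have hz := (Finset.sum_eq_zero_iff.mp htot') ψ (Finset.mem_univ _)
    have hmψ : m ψ ≠ 0 := fun h => hψ (by rw [hm, Chars.classInner_sum_smul_irr, h, Nat.cast_zero])
    have hφQ : ∀ x : Q, (ψ : ↥(P : Subgroup G) → ℂ) (ι x) = 1 := by
      intro x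
      rw [hφ]
      have hx : Q ≤ (φ.ker).map (P : Subgroup G).subtype := by
        rw [hQ, ← Subgroup.map_subtype_commutator]
        exact Subgroup.map_mono (Abelianization.commutator_subset_ker φ)
      obtain ⟨y, hy, hyx⟩ := hx x.2
      have : ι x = y := Subtype.ext hyx.symm
      show ((φ (ι x) : ℂˣ) : ℂ) = 1
      rw [this, MonoidHom.mem_ker.mp hy, Units.val_one]
    have hcψ : (c ψ : ℂ) = (Nat.card Q : ℂ) := by
      rw [← hc, Finset.sum_congr rfl fun x _ => hφQ x]
      simp
    have : c ψ = Nat.card Q := by exact_mod_cast hcψ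
    rcases mul_eq_zero.mp hz with h | h
    · exact hmψ h
    · exact Nat.card_pos.ne' (this ▸ h)
  obtain ⟨w, hw⟩ : ∃ w, (∑ x : Q, ρ x) w ≠ 0 := by
    by_contra h
    push Not at h
    exact hQsum (LinearMap.ext h)
  set v := (∑ x : Q, ρ x) w with hv
  set L := (N ⊔ Q).normalCore with hL
  let stab : Subgroup G :=
    { carrier := {g | ρ g v = v}
      one_mem' := by simp
      mul_mem' := fun {a b} ha hb => by
        show ρ (a * b) v = v
        rw [map_mul, Module.End.mul_apply, hb, ha]
      inv_mem' := fun {a} ha => by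
        show ρ a⁻¹ v = v
        conv_lhs => rw [← ha, ← Module.End.mul_apply, ← map_mul, inv_mul_cancel, map_one, Module.End.one_apply] }
  have hle : L ≤ stab := by
    refine (Subgroup.normalCore_le _).trans (sup_le (fun x hx => ?_) fun y hy => ?_)
    · show ρ x v = v
      rw [hNtriv ⟨x, hx⟩, Module.End.one_apply]
    · show ρ y v = v
      rw [hv, ← Module.End.mul_apply, Finset.mul_sum]
      congr 1
      exact Fintype.sum_equiv (Equiv.mulLeft (⟨y, hy⟩ : Q)) _ _ fun x => by simp
  let W : Subrepresentation ρ := ⟨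
    { carrier := {u | ∀ x ∈ L, ρ x u = u}
      add_mem' := fun {a b} ha hb x hx => by rw [map_add, ha x hx, hb x hx]
      zero_mem' := fun x _ => map_zero _
      smul_mem' := fun c a ha x hx => by rw [map_smul, ha x hx] },
    fun h u hu x hx => by
      have h1 : h⁻¹ * x * h ∈ L := by
        simpa using (inferInstance : L.Normal).conj_mem x hx h⁻¹
      calc ρ x (ρ h u) = ρ (h * (h⁻¹ * x * h)) u := by
            rw [← Module.End.mul_apply, ← map_mul]; congr 2; group
        _ = ρ h u := by rw [map_mul, Module.End.mul_apply, hu _ h1]⟩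
  have hW : W = ⊤ := by
    rcases (‹ρ.IsIrreducible› : ρ.IsIrreducible).eq_bot_or_eq_top W with h | h
    · exfalso
      have hvW : v ∈ W.toSubmodule := fun x hx => hle hx
      rw [h] at hvW
      exact hw ((Submodule.mem_bot ℂ).mp hvW)
    · exact h
  refine LinearMap.ext fun u => ?_
  have hu : u ∈ W.toSubmodule := by rw [hW]; exact Submodule.mem_top
  exact hu g hg

/-- Invariance of a class function of `M` under the join with a subgroup. -/
theorem invariant_sup [Finite G] (M R : Subgroup G) [M.Normal] (θ : M → ℂ)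
    (hθ : Cfsg.IsClassFunction M θ) (hR : ∀ r ∈ R, ∀ m : M, θ (MulAut.conjNormal r m) = θ m) :
    ∀ g ∈ M ⊔ R, ∀ m : M, θ (MulAut.conjNormal g m) = θ m := by
  let S : Subgroup G :=
    { carrier := {g | ∀ m : M, θ (MulAut.conjNormal g m) = θ m}
      one_mem' := fun m => by simp
      mul_mem' := fun {a b} ha hb m => by
        rw [map_mul, MulAut.mul_apply, ha, hb]
      inv_mem' := fun {a} ha m => by
        have := ha (MulAut.conjNormal a⁻¹ m)
        rw [← MulAut.mul_apply, ← map_mul, mul_inv_cancel, map_one, MulAut.one_apply] at this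
        exact this.symm }
  have hle : M ⊔ R ≤ S := by
    refine sup_le (fun x hx m => ?_) hR
    rw [← hθ m ⟨x, hx⟩]
    rfl
  exact hle

/-- A nontrivial `P`-invariant irreducible character of degree prime to `p` of a normal
`p'`-subgroup `M` gives an irreducible character of `G` of degree prime to `p` nontrivial on `M`. -/
theorem exists_nontrivial_on [Finite G] (p : ℕ) [Fact p.Prime] (P : Sylow p G) (M : Subgroup G)
    [M.Normal] (hM : ¬ p ∣ Nat.card M) (θ : Cfsg.IrrCharacter M)
    (hθ1 : θ ≠ Chars.trivialIrr M)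
    (hinv : ∀ r ∈ (P : Subgroup G), ∀ m : M, (θ : M → ℂ) (MulAut.conjNormal r m) = (θ : M → ℂ) m) :
    ∃ χ : Cfsg.IrrCharacter G, ¬ p ∣ Cfsg.charDegree (χ : G → ℂ) ∧
      ∃ m : M, (χ : G → ℂ) (m : G) ≠ (χ : G → ℂ) 1 := by
  classical
  have := Fintype.ofFinite G
  set H := M ⊔ (P : Subgroup G) with hH
  set M' := M.subgroupOf H with hM'
  let e : M' ≃* M := Subgroup.subgroupOfEquivOfLe le_sup_left
  set θ' : M' → ℂ := fun x => (θ : M → ℂ) (e x) with hθ'
  have hθ'irr : Cfsg.IsIrrCharacter M' θ' := Chars.isIrrCharacter_comp_mulEquiv e θ.2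
  obtain ⟨d, hd0, hd, hdvd⟩ := Chars.irr_degree_dvd_card θ
  have hd' : θ' 1 = (d : ℂ) := by simp [θ', hd]
  have hpd : ¬ p ∣ d := fun h => hM (h.trans hdvd)
  obtain ⟨k, hk⟩ := IsPGroup.iff_card.mp P.isPGroup'
  have hidx : ∃ j, M'.index = p ^ j := by
    have h1 : M'.index ∣ p ^ k := by
      rw [← hk]
      show M.relIndex H ∣ _
      rw [hH, Subgroup.relIndex_sup_left]
      exact Subgroup.relIndex_dvd_card _ _
    obtain ⟨j, -, hj⟩ := (Nat.dvd_prime_pow (Fact.out : p.Prime)).mp h1
    exact ⟨j, hj⟩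
  obtain ⟨j, hj⟩ := hidx
  have hinv' : ∀ (g : H) (x : M'), θ' ⟨g * x * g⁻¹, (inferInstance : M'.Normal).conj_mem (x : H) x.2 g⟩ = θ' x := by
    intro g x
    have := invariant_sup M (P : Subgroup G) (θ : M → ℂ) (Chars.irr_isClassFunction θ) hinv g g.2 (e x)
    show (θ : M → ℂ) (e _) = (θ : M → ℂ) (e x)
    exact (congrArg (θ : M → ℂ) (Subtype.ext rfl)).trans this
  obtain ⟨f, hf⟩ := Clifford.exists_detHom hθ'irr
  have hfinv : ∀ (g : H) (x : M'), f ⟨g * x * g⁻¹, (inferInstance : M'.Normal).conj_mem (x : H) x.2 g⟩ = f x := by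
    intro g x
    obtain ⟨k', σ, hσ, hσθ⟩ := hθ'irr
    let c : M' →* M' := (MulAut.conjNormal g : MulAut M').toMonoidHom
    have hchar : Representation.character (σ.comp c : Representation ℂ M' _) = σ.character := by
      funext y
      rw [hσθ]
      show σ.character (c y) = θ' y
      rw [hσθ]
      exact (congrArg θ' (Subtype.ext rfl)).trans (hinv' g y)
    obtain ⟨E⟩ := Clifford.equiv_of_char_eq σ (σ.comp c : Representation ℂ M' _) hchar.symm
    have h1 : ∀ y, (f y : ℂ) = LinearMap.det (σ y) := by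
      intro y
      rw [← congrFun hf y, ← hσθ, Clifford.detChar_character σ ⟨k', σ, rfl⟩]
    refine Units.ext ?_
    rw [h1, h1, Clifford.det_equiv E x]
    rfl
  have hcopf : Nat.Coprime M'.index (orderOf f) := by
    rw [hj]
    refine Nat.Coprime.pow_left _ ((Fact.out : p.Prime).coprime_iff_not_dvd.mpr fun h => hM ?_)
    refine h.trans ?_
    rw [← Nat.card_congr e.toEquiv]
    refine orderOf_dvd_of_pow_eq_one (MonoidHom.ext fun y => ?_)
    rw [MonoidHom.pow_apply, MonoidHom.one_apply, ← map_pow, pow_card_eq_one', map_one]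
  obtain ⟨μ, hμ, -⟩ := Clifford.exists_linear_extension_coprime f hfinv hcopf
  obtain ⟨η, hη, hres, -⟩ := Clifford.exists_char_extension hθ'irr hinv' hd'
    (by rw [hj]; exact Nat.Coprime.pow_left _ ((Fact.out : p.Prime).coprime_iff_not_dvd.mpr hpd))
    μ (fun x => by rw [hμ, hf])
  have hη1 : η 1 = (d : ℂ) := by
    rw [← hd']
    simpa using hres 1
  have hind : Cfsg.IsCharacter G (Cfsg.indFun H η) :=
    Chars.isCharacter_indFun H (Chars.isCharacter_of_isIrrCharacter hη)
  have hpH : ¬ p ∣ H.index * d := by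
    rw [(Fact.out : p.Prime).dvd_mul]
    exact not_or.mpr ⟨fun h => P.not_dvd_index (h.trans (Subgroup.index_dvd_of_le le_sup_right)), hpd⟩
  obtain ⟨χ, hχ, hχd⟩ := BrauerMap.exists_constituent_not_dvd (p := p) hind
    (D := H.index * d) (by rw [Chars.indFun_one_eq, hη1, Nat.cast_mul]) hpH
  refine ⟨χ, hχd, ?_⟩
  by_contra hcon
  push Not at hcon
  apply hχ
  obtain ⟨n, ρ, hρ, hρχ⟩ := χ.2
  have hρM : ∀ m : M, ρ (m : G) = 1 := fun m => by
    refine (Chars.char_eq_finrank_iff ρ (m : G)).mp ?_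
    rw [hρχ, hcon m, ← hρχ, Representation.char_one]
  obtain ⟨k', τ, hτ, hτη⟩ := hη
  have hτM : ¬ ∀ x : M', τ x = 1 := by
    intro h
    apply hθ1
    have hconst : ∀ x : M', θ' x = θ' 1 := fun x => by
      rw [← hres x, ← hres 1, ← hτη, Representation.character, Representation.character, h x, h 1]
    have hcθ : ∀ m : M, (θ : M → ℂ) m = (d : ℂ) := fun m => by
      have := hconst (e.symm m)
      rw [hd'] at this
      simpa [θ'] using this
    have h0 := Chars.classInner_irr_self θ
    by_contra hne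
    have h1 := Chars.classInner_irr_of_ne hne
    simp only [Cfsg.classInner, hcθ, Chars.trivialIrr_apply, map_one, mul_one, Finset.sum_const,
      Finset.card_univ, nsmul_eq_mul, Fintype.card_eq_nat_card] at h1
    rcases mul_eq_zero.mp h1 with h2 | h2
    · exact inv_ne_zero (Nat.cast_ne_zero.mpr Nat.card_pos.ne') h2
    · rcases mul_eq_zero.mp h2 with h3 | h3
      · exact Nat.card_pos.ne' (by exact_mod_cast h3)
      · exact hd0.ne' (by exact_mod_cast h3)
  rw [Chars.classInner_indFun_left H η _ (Chars.irr_isClassFunction χ)]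
  have hsum0 : ∑ y : H, η y * conj ((χ : G → ℂ) (y : G)) = 0 := by
    have h1 : ∀ x : M', ∑ y : H, η y * conj ((χ : G → ℂ) (y : G)) =
        ∑ y : H, η ((x : H) * y) * conj ((χ : G → ℂ) (y : G)) := by
      intro x
      refine (Fintype.sum_equiv (Equiv.mulLeft (x : H)) _ _ fun y => ?_).symm
      have hx := hρM ⟨((x : H) : G), x.2⟩
      show η _ * _ = η ((x : H) * y) * conj ((χ : G → ℂ) (((x : H) * y : H) : G))
      rw [← hρχ, Representation.character, Representation.character, Subgroup.coe_mul, map_mul, hx, one_mul]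
    have h2 : (Fintype.card M' : ℂ) * ∑ y : H, η y * conj ((χ : G → ℂ) (y : G)) = 0 := by
      rw [← nsmul_eq_mul, ← Finset.card_univ, ← Finset.sum_const,
        Finset.sum_congr rfl fun x _ => h1 x, Finset.sum_comm]
      refine Finset.sum_eq_zero fun y _ => ?_
      rw [← Finset.sum_mul, ← hτη, BrauerMap.sum_character_mul_eq_zero τ M' hτM, zero_mul]
    exact (mul_eq_zero.mp h2).resolve_left (Nat.cast_ne_zero.mpr Fintype.card_ne_zero)
  simp only [Cfsg.classInner]
  rw [hsum0, mul_zero]

theorem kernel_subset [Fintype G] (p : ℕ) [Fact p.Prime] (P : Sylow p G) (N : Subgroup G) [N.Normal]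
    (_hN : N ⊓ Subgroup.centralizer ((P : Subgroup G) : Set G) = ⊥)
    (hmax : ∀ L : Subgroup G, L.Normal → L ⊓ Subgroup.centralizer ((P : Subgroup G) : Set G) = ⊥ → L ≤ N)
    {g : G} (hg : ∀ χ : Cfsg.IrrCharacter G, ¬ p ∣ Cfsg.charDegree (χ : G → ℂ) → (χ : G → ℂ) g = (χ : G → ℂ) 1) :
    g ∈ (N ⊔ ⁅(P : Subgroup G), (P : Subgroup G)⁆).normalCore := by
  classical
  let K : Subgroup G :=
    { carrier := {x | ∀ (n : ℕ) (ρ : Representation ℂ G (Fin n → ℂ)), ρ.IsIrreducible →
        ¬ p ∣ Module.finrank ℂ (Fin n → ℂ) → ρ x = 1}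
      one_mem' := fun n ρ _ _ => map_one ρ
      mul_mem' := fun {a b} ha hb n ρ h1 h2 => by rw [map_mul, ha n ρ h1 h2, hb n ρ h1 h2, mul_one]
      inv_mem' := fun {a} ha n ρ h1 h2 => by
        have : ρ a⁻¹ * ρ a = 1 := by rw [← map_mul, inv_mul_cancel, map_one]
        rwa [ha n ρ h1 h2, mul_one] at this }
  have : K.Normal := ⟨fun x hx y n ρ h1 h2 => by
    rw [map_mul, map_mul, hx n ρ h1 h2, mul_one, ← map_mul, mul_inv_cancel, map_one]⟩
  have hgK : g ∈ K := fun n ρ h1 h2 => by
    have hc := hg ⟨ρ.character, n, ρ, h1, rfl⟩ (by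
      rwa [BrauerMap.charDegree_of_eq_natCast (Representation.char_one ρ)])
    exact (Chars.char_eq_finrank_iff ρ g).mp (hc.trans (Representation.char_one ρ))
  have hKval : ∀ (χ : Cfsg.IrrCharacter G), ¬ p ∣ Cfsg.charDegree (χ : G → ℂ) → ∀ x ∈ K, ∀ y,
      (χ : G → ℂ) (y * x) = (χ : G → ℂ) y := by
    intro χ hχ x hx y
    obtain ⟨n, ρ, hρ, hρχ⟩ := χ.2
    have hd : ¬ p ∣ Module.finrank ℂ (Fin n → ℂ) := by
      rwa [← hρχ, BrauerMap.charDegree_of_eq_natCast (Representation.char_one ρ)] at hχ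
    rw [← hρχ, Representation.character, Representation.character, map_mul, hx n ρ hρ hd, mul_one]
  set P' := ⁅(P : Subgroup G), (P : Subgroup G)⁆ with hP'
  -- `K ∩ P ≤ P'`
  have hKP : ∀ x ∈ K, x ∈ (P : Subgroup G) → x ∈ P' := by
    intro x hxK hxP
    by_contra hx'
    have hx'' : (Abelianization.of (⟨x, hxP⟩ : (P : Subgroup G))) ≠ 1 := by
      intro h
      apply hx'
      rw [hP', ← Subgroup.map_subtype_commutator]
      exact ⟨_, (QuotientGroup.eq_one_iff _).mp h, rfl⟩
    obtain ⟨φ, hφ⟩ := CommGroup.exists_apply_ne_one_of_hasEnoughRootsOfUnity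
      (Abelianization (P : Subgroup G)) ℂ hx''
    let lam : (P : Subgroup G) →* ℂˣ := φ.comp Abelianization.of
    have hchar : Cfsg.IsCharacter G (Cfsg.indFun (P : Subgroup G) (fun y => (lam y : ℂ))) :=
      Chars.isCharacter_indFun _ (Chars.isCharacter_hom lam)
    obtain ⟨χ, hχ, hχd⟩ := BrauerMap.exists_constituent_not_dvd (p := p) hchar
      (D := (P : Subgroup G).index) (by rw [Chars.indFun_one_eq]; simp) P.not_dvd_index
    apply hχ
    rw [Chars.classInner_indFun_left _ _ _ (Chars.irr_isClassFunction χ)]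
    set S := ∑ y : (P : Subgroup G), (lam y : ℂ) * conj ((χ : G → ℂ) (y : G)) with hS
    have hshift : S = (lam ⟨x, hxP⟩ : ℂ) * S := by
      rw [hS, Finset.mul_sum]
      refine (Fintype.sum_equiv (Equiv.mulRight (⟨x, hxP⟩ : (P : Subgroup G))) _ _ fun y => ?_).symm
      simp only [Equiv.coe_mulRight, Subgroup.coe_mul, map_mul, Units.val_mul]
      rw [hKval χ hχd x hxK]
      ring
    have hS0 : S = 0 := by
      by_contra hne
      refine hφ (Units.ext ?_)
      exact (mul_eq_right₀ hne).mp hshift.symm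
    simp only [Cfsg.classInner]
    rw [← hS, hS0, mul_zero]
  -- Tate in `H = K P`
  set H := K ⊔ (P : Subgroup G) with hH
  let PH : Sylow p H := P.subtype le_sup_right
  have hPHcoe : (PH : Subgroup H) = (P : Subgroup G).subgroupOf H := rfl
  have hres : Cfsg.pResidual p H ≤ K.subgroupOf H := by
    refine Transfer.pResidual_le_of_isPGroup_quotient _ ?_
    obtain ⟨k, hk⟩ := IsPGroup.iff_card.mp P.isPGroup'
    have h1 : (K.subgroupOf H).index ∣ p ^ k := by
      rw [← hk]
      show K.relIndex H ∣ _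
      rw [hH, Subgroup.relIndex_sup_left]
      exact Subgroup.relIndex_dvd_card _ _
    obtain ⟨j, -, hj⟩ := (Nat.dvd_prime_pow (Fact.out : p.Prime)).mp h1
    exact IsPGroup.of_card (n := j) hj
  have hnc : Cfsg.HasNormalPComplement p H := by
    refine Transfer.hasNormalPComplement_of_le_frattini PH fun x hx => ?_
    obtain ⟨hx1, hx2⟩ := hx
    have hxP : (x : G) ∈ (P : Subgroup G) := hx2
    have h3 := hKP (x : G) (hres hx1) hxP
    rw [hP', ← Subgroup.map_subtype_commutator] at h3
    obtain ⟨y, hy, hyx⟩ := h3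
    let e : (P : Subgroup G) ≃* (PH : Subgroup H) := (Subgroup.subgroupOfEquivOfLe le_sup_right).symm
    have hey : e y ∈ frattini (PH : Subgroup H) := by
      refine Transfer.commutator_le_frattini_of_isPGroup PH.2 ?_
      have h4 : (commutator (P : Subgroup G)).map e.toMonoidHom ≤ commutator (PH : Subgroup H) := by
        rw [commutator_def, commutator_def, Subgroup.map_commutator]
        exact Subgroup.commutator_mono le_top le_top
      exact h4 (Subgroup.mem_map_of_mem e.toMonoidHom hy)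
    exact ⟨e y, hey, Subtype.ext hyx⟩
  set M := (Cfsg.pResidual p H).map H.subtype with hM
  have hMp : ¬ p ∣ Nat.card M := by
    rw [hM, Subgroup.card_map_of_injective H.subtype_injective]
    exact Transfer.hasNormalPComplement_iff.mp hnc
  have hMK : M ≤ K := by
    rintro _ ⟨y, hy, rfl⟩
    exact hres hy
  have hMn : M.Normal := by
    refine ⟨fun y hy z => ?_⟩
    have hle : Cfsg.pResidual p H ≤ (M.comap (MulAut.conj z).toMonoidHom).comap H.subtype := by
      refine Transfer.pResidual_le_iff.mpr fun w hw => ?_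
      have hwK : (w : G) ∈ K := hres (Transfer.mem_pResidual_of_coprime hw)
      have hzw : z * (w : G) * z⁻¹ ∈ H := (le_sup_left : K ≤ H) (Subgroup.Normal.conj_mem inferInstance _ hwK z)
      show z * (w : G) * z⁻¹ ∈ M
      refine Transfer.mem_map_pResidual_of_coprime hzw ?_
      have e1 : z * (w : G) * z⁻¹ = MulAut.conj z (w : G) := rfl
      rwa [e1, MulEquiv.orderOf_eq, Subgroup.orderOf_coe]
    obtain ⟨w, hw, rfl⟩ := hy
    exact hle hw
  have hMN : M ≤ N := by
    refine hmax M hMn ((Subgroup.eq_bot_iff_forall _).mpr fun c hc => ?_)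
    by_contra hc1
    obtain ⟨hcM, hcC⟩ := hc
    have hc1' : (⟨c, hcM⟩ : M) ≠ 1 := fun h => hc1 (congrArg Subtype.val h)
    let act : ↥(P : Subgroup G) → Cfsg.IrrCharacter M → Cfsg.IrrCharacter M := fun a θ =>
      ⟨fun m => (θ : M → ℂ) (MulAut.conjNormal (a : G)⁻¹ m),
        Chars.isIrrCharacter_comp_mulEquiv (MulAut.conjNormal (a : G)⁻¹ : MulAut M) θ.2⟩
    letI : MulAction (P : Subgroup G) (Cfsg.IrrCharacter M) :=
      { smul := act
        one_smul := fun θ => Subtype.ext (funext fun m => by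
          show (θ : M → ℂ) (MulAut.conjNormal (((1 : (P : Subgroup G)) : G))⁻¹ m) = _
          rw [Subgroup.coe_one, inv_one, map_one, MulAut.one_apply])
        mul_smul := fun a b θ => Subtype.ext (funext fun m => by
          show (θ : M → ℂ) (MulAut.conjNormal ((a * b : (P : Subgroup G)) : G)⁻¹ m) =
            (θ : M → ℂ) (MulAut.conjNormal (b : G)⁻¹ (MulAut.conjNormal (a : G)⁻¹ m))
          rw [Subgroup.coe_mul, mul_inv_rev, map_mul, MulAut.mul_apply]) }
    have hfc : ∀ (a : (P : Subgroup G)), MulAut.conjNormal (a : G)⁻¹ (⟨c, hcM⟩ : M) = ⟨c, hcM⟩ := by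
      intro a
      refine Subtype.ext ?_
      rw [MulAut.conjNormal_apply]
      show (a : G)⁻¹ * c * ((a : G)⁻¹)⁻¹ = c
      rw [Subgroup.mem_centralizer_iff.mp hcC _ ((P : Subgroup G).inv_mem a.2), mul_inv_cancel_right]
    obtain ⟨a, ha, hsum⟩ := BrauerMap.exists_sum_eq_sum_fixed_add (X := Cfsg.IrrCharacter M) P.isPGroup'
      (fun θ : Cfsg.IrrCharacter M => (θ : M → ℂ) 1 * (θ : M → ℂ) ⟨c, hcM⟩)
      (fun b θ => by
        show (θ : M → ℂ) (MulAut.conjNormal (b : G)⁻¹ 1) * (θ : M → ℂ) (MulAut.conjNormal (b : G)⁻¹ ⟨c, hcM⟩) = _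
        rw [map_one, hfc])
      (fun θ => (Chars.irr_isIntegral θ 1).mul (Chars.irr_isIntegral θ _))
    rw [Blocks.sum_irr_degree_mul, if_neg hc1'] at hsum
    have hex : ∃ θ ∈ MulAction.fixedPoints (P : Subgroup G) (Cfsg.IrrCharacter M), θ ≠ Chars.trivialIrr M := by
      by_contra hcon
      push Not at hcon
      have hfix : Finset.univ.filter (· ∈ MulAction.fixedPoints (P : Subgroup G) (Cfsg.IrrCharacter M)) =
          {Chars.trivialIrr M} := by
        ext θ
        simp only [Finset.mem_filter, Finset.mem_univ, true_and, Finset.mem_singleton]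
        refine ⟨hcon θ, ?_⟩
        rintro rfl b
        exact Subtype.ext (funext fun m => rfl)
      rw [hfix, Finset.sum_singleton] at hsum
      simp only [Chars.trivialIrr_apply, mul_one] at hsum
      refine not_isIntegral_div p (d := 1) (Fact.out : p.Prime).not_dvd_one ha ?_
      rw [Nat.cast_one]
      exact hsum.symm
    obtain ⟨θ, hθ, hθ1⟩ := hex
    obtain ⟨χ, hχ, m, hm⟩ := exists_nontrivial_on p P M hMp θ hθ1 (fun r hr m => by
      have h1 := congrFun (congrArg Subtype.val (hθ ⟨r⁻¹, (P : Subgroup G).inv_mem hr⟩)) m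
      change (θ : M → ℂ) (MulAut.conjNormal (r⁻¹)⁻¹ m) = _ at h1
      rwa [inv_inv] at h1)
    exact hm (by simpa using hKval χ hχ (m : G) (hMK m.2) 1)
  show ∀ z : G, z * g * z⁻¹ ∈ N ⊔ P'
  intro z
  have hy : z * g * z⁻¹ ∈ K := Subgroup.Normal.conj_mem inferInstance _ hgK z
  have hzH : (⟨z * g * z⁻¹, (le_sup_left : K ≤ H) hy⟩ : H) ∈ Cfsg.pResidual p H ⊔ (PH : Subgroup H) := by
    rw [Transfer.pResidual_sup_sylow]; exact Subgroup.mem_top _
  have : (Cfsg.pResidual p H).Normal := Transfer.pResidual_normal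
  rw [← SetLike.mem_coe, Subgroup.normal_mul] at hzH
  obtain ⟨w, hw, b, hb, hwb⟩ := hzH
  have hwbG : (w : G) * (b : G) = z * g * z⁻¹ := congrArg Subtype.val hwb
  have hwM : (w : G) ∈ M := ⟨w, hw, rfl⟩
  have hbK : (b : G) ∈ K := by
    have : (b : G) = (w : G)⁻¹ * (z * g * z⁻¹) := by rw [← hwbG, inv_mul_cancel_left]
    rw [this]
    exact K.mul_mem (K.inv_mem (hMK hwM)) hy
  rw [← hwbG]
  exact Subgroup.mul_mem _ ((le_sup_left : N ≤ N ⊔ P') (hMN hwM)) ((le_sup_right : P' ≤ N ⊔ P') (hKP _ hbK hb))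

/-- Let G be a finite group, p a prime and P a Sylow p-subgroup, and let N be the largest normal subgroup of G in which P has trivial centralizer (N is normal with C_N(P) = 1 and contains every normal subgroup with that property). Then the intersection of the kernels of the irreducible characters of G of degree prime to p is the normal core in G of the subgroup N·P' (P' the derived subgroup of P). In particular, when G has no nontrivial normal subgroup of order prime to p, that intersection is the normal core of P'. -/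
theorem result {G : Type*} [Group G] [Finite G] (p : ℕ) [Fact p.Prime] (P : Sylow p G) (N : Subgroup G) [N.Normal]
    (hN : N ⊓ Subgroup.centralizer ((P : Subgroup G) : Set G) = ⊥)
    (hmax : ∀ L : Subgroup G, L.Normal → L ⊓ Subgroup.centralizer ((P : Subgroup G) : Set G) = ⊥ → L ≤ N) :
    {g : G | ∀ χ : Cfsg.IrrCharacter G, ¬ p ∣ Cfsg.charDegree (χ : G → ℂ) → (χ : G → ℂ) g = (χ : G → ℂ) 1} =
      ((N ⊔ ⁅(P : Subgroup G), (P : Subgroup G)⁆).normalCore : Set G) := by
  classical
  have := Fintype.ofFinite G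
  refine Set.Subset.antisymm ?_ ?_
  · intro g hg
    exact kernel_subset p P N hN hmax hg
  · intro g hg χ hχ
    obtain ⟨n, ρ, hρ, hchar⟩ := χ.2
    have hdeg : (χ : G → ℂ) 1 = (Module.finrank ℂ (Fin n → ℂ) : ℂ) := by rw [← hchar, Representation.char_one]
    have hg1 := core_acts_trivially p P N hN ρ (by
      rwa [← BrauerMap.charDegree_of_eq_natCast hdeg]) g hg
    rw [hdeg, ← hchar]
    exact (Chars.char_eq_finrank_iff ρ g).mpr (by rw [hg1]; rfl)

end Cfsg.Agent.S4591
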