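import Cfsg.Statements.S4602
import Mathlib
import Cfsg.Agent.Lib.PSolvable.HallHigman
import Cfsg.Agent.Lib.SylowNormalizing.Basic

open Cfsg.Agent.Lib Cfsg.Agent.Lib.SylowNormalizing


set_option autoImplicit false
open Cfsg

namespace Cfsg.Agent.S4602

/-- In `G/O_{p'}` no nontrivial Sylow `q` is normalized by a Sylow `p`. -/
theorem quotient_sylow_eq_bot {G : Type*} [Group G] [Finite G] (p q : ℕ) [Fact p.Prime] [Fact q.Prime]
    (hpq : p ≠ q) (hsolv : Cfsg.IsPSolvable p G)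
    (P : Sylow p (G ⧸ Cfsg.pPrimeCore p G)) (Q : Sylow q (G ⧸ Cfsg.pPrimeCore p G))
    (h : (P : Subgroup (G ⧸ Cfsg.pPrimeCore p G)) ≤ Subgroup.normalizer ((Q : Subgroup (G ⧸ Cfsg.pPrimeCore p G)) : Set _)) :
    (Q : Subgroup (G ⧸ Cfsg.pPrimeCore p G)) = ⊥ := by
  set U := Cfsg.pCore p (G ⧸ Cfsg.pPrimeCore p G) with hU
  have hUp : IsPGroup p U := PSolvable.pCore_isPGroup
  have hdis : Disjoint (Q : Subgroup (G ⧸ Cfsg.pPrimeCore p G)) U :=
    IsPGroup.disjoint_of_ne q p hpq.symm _ _ Q.isPGroup' hUp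
  have hQC : (Q : Subgroup (G ⧸ Cfsg.pPrimeCore p G)) ≤ Subgroup.centralizer (U : Set _) := by
    intro y hy u hu
    have hu' := h (PSolvable.pCore_le_sylow P hu)
    refine (Subgroup.mem_bot.mp ?_ : u * y * u⁻¹ * y⁻¹ = 1) |> fun e => by
      rwa [mul_inv_eq_one, mul_inv_eq_iff_eq_mul] at e
    rw [← hdis.eq_bot]
    refine ⟨Subgroup.mul_mem _ ((Subgroup.mem_normalizer_iff.mp hu' y).mp hy) (Subgroup.inv_mem _ hy), ?_⟩
    have : u * (y * u⁻¹ * y⁻¹) ∈ U :=
      U.mul_mem hu (Subgroup.Normal.conj_mem inferInstance _ (U.inv_mem hu) y)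
    simpa [mul_assoc] using this
  have hCU : Subgroup.centralizer (U : Set (G ⧸ Cfsg.pPrimeCore p G)) ≤ U :=
    PSolvable.centralizer_pCore_le_of_isPSolvable (PSolvable.isPSolvable_quotient hsolv _)
      PSolvable.pPrimeCore_quotient_eq_bot
  exact (hdis.eq_bot_of_le (hQC.trans hCU))

/-- Let G be a finite p-solvable group and q a prime different from p. Some Sylow p-subgroup of G normalizes some Sylow q-subgroup of G if and only if q does not divide the order of G/O_{p'}(G), the quotient by the largest normal subgroup of order prime to p. -/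
theorem result {G : Type*} [Group G] [Finite G] (p q : ℕ) [Fact p.Prime] [Fact q.Prime] (hpq : p ≠ q) (hsolv : Cfsg.IsPSolvable p G) :
    (∃ (P : Sylow p G) (Q : Sylow q G), (P : Subgroup G) ≤ Subgroup.normalizer ((Q : Subgroup G) : Set G)) ↔ ¬ q ∣ (Cfsg.pPrimeCore p G).index := by
  rw [exists_normalizing_iff]
  set K := Cfsg.pPrimeCore p G with hK
  constructor
  · intro hn hd
    obtain ⟨P, Q, hPQ⟩ := exists_normalizing_iff.mpr hn
    set f := QuotientGroup.mk' K with hf
    have hfs : Function.Surjective f := QuotientGroup.mk'_surjective K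
    have hN : (P.mapSurjective hfs : Subgroup (G ⧸ K)) ≤
        Subgroup.normalizer ((Q.mapSurjective hfs : Subgroup (G ⧸ K)) : Set (G ⧸ K)) := by
      rintro _ ⟨x, hx, rfl⟩
      refine Subgroup.le_normalizer_map f ⟨x, hPQ hx, rfl⟩
    have hbot := quotient_sylow_eq_bot p q hpq hsolv (P.mapSurjective hfs) (Q.mapSurjective hfs) hN
    have h1 := (Q.mapSurjective hfs).not_dvd_index
    rw [hbot, Subgroup.index_bot] at h1
    exact h1 hd
  · intro hq hd
    obtain ⟨Q⟩ : Nonempty (Sylow q G) := inferInstance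
    have hQK : (Q : Subgroup G) ≤ K := by
      intro x hx
      rw [← QuotientGroup.eq_one_iff]
      obtain ⟨j, hj⟩ := IsPGroup.iff_orderOf.mp Q.isPGroup' ⟨x, hx⟩
      rw [← Subgroup.orderOf_coe] at hj
      have h1 : orderOf (x : G ⧸ K) ∣ q ^ j := hj ▸ orderOf_map_dvd (QuotientGroup.mk' K) x
      have h2 : orderOf (x : G ⧸ K) ∣ Nat.card (G ⧸ K) := orderOf_dvd_natCard _
      have hco : Nat.Coprime (q ^ j) (Nat.card (G ⧸ K)) :=
        Nat.Coprime.pow_left j ((Fact.out : q.Prime).coprime_iff_not_dvd.mpr hq)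
      exact orderOf_eq_one_iff.mp (Nat.dvd_one.mp (hco ▸ Nat.dvd_gcd h1 h2))
    exact PSolvable.pPrimeCore_not_dvd (G := G) (p := p) (hd.trans (card_sylow_dvd_card_normal Q K hQK))

end Cfsg.Agent.S4602
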