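import Cfsg.Statements.S4601
import Mathlib
import Cfsg.Agent.S4602
import Cfsg.Agent.Lib.SylowNormalizing.Basic

open Cfsg.Agent.Lib Cfsg.Agent.Lib.SylowNormalizing


set_option autoImplicit false
open Cfsg

namespace Cfsg.Agent.S4601

universe u

theorem exists_normal_q {G : Type*} [Group G] [Finite G] [Nontrivial G] (q : ℕ) [Fact q.Prime]
    (hs : Cfsg.IsPSolvable q G) :
    ∃ N : Subgroup G, N.Normal ∧ N ≠ ⊥ ∧ (IsPGroup q N ∨ (Nat.card N).Coprime q) := by
  obtain ⟨n, S, h0, hl, hm, hn, hS⟩ := hs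
  classical
  by_contra hcon
  push Not at hcon
  have : ∀ i, S i = ⊥ := by
    intro i
    induction i using Fin.induction with
    | zero => exact h0
    | succ i ih =>
      by_contra hne
      obtain ⟨h1, h2⟩ := hcon (S i.succ) (hn _) hne
      have := hS i
      rw [ih, Subgroup.relIndex_bot_left] at this
      rcases this with ⟨m, hm⟩ | hc
      · exact h1 (IsPGroup.of_card hm)
      · exact h2 hc
  exact top_ne_bot (hl.symm.trans (this _))

theorem centralizes_invariant_sylow (p q : ℕ) [Fact p.Prime] [Fact q.Prime] (hpq : p ≠ q)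
    (G : Type u) [Group G] [Finite G] (N : Subgroup G) [N.Normal] (hNc : (Nat.card N).Coprime q)
    (P₀ : Sylow p N) (y : G) (hy : ∃ k : ℕ, orderOf y = q ^ k)
    (hfix : ∀ u ∈ (P₀ : Subgroup N), MulAut.conjNormal y u ∈ (P₀ : Subgroup N))
    (hc : ¬ p ∣ (Subgroup.centralizer ({y} : Set G)).index) :
    ∀ u ∈ (P₀ : Subgroup N), (u : G) * y = y * u := by
  classical
  set C := (Subgroup.centralizer ({y} : Set G)).subgroupOf N with hC
  have hidx : ¬ p ∣ C.index := fun hd => hc (hd.trans (by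
    set D := Subgroup.centralizer ({y} : Set G)
    have h1 := Subgroup.relIndex_mul_relIndex (D ⊓ N) D (D ⊔ N) inf_le_left le_sup_left
    have h2 := Subgroup.relIndex_mul_relIndex (D ⊓ N) N (D ⊔ N) inf_le_right le_sup_right
    rw [Subgroup.relIndex_sup_right, Subgroup.inf_relIndex_right] at h2
    rw [Subgroup.inf_relIndex_left, ← h2, mul_comm] at h1
    have h3 := Nat.eq_of_mul_eq_mul_right (Nat.pos_of_ne_zero Subgroup.index_ne_zero_of_finite) h1
    show D.relIndex N ∣ D.index
    rw [← h3]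
    exact Subgroup.relIndex_dvd_index_of_le le_sup_left))
  obtain ⟨S⟩ : Nonempty (Sylow p C) := inferInstance
  have hpg : IsPGroup p ((S : Subgroup C).map C.subtype) := S.isPGroup'.map _
  have hni : ¬ p ∣ ((S : Subgroup C).map C.subtype).index := by
    rw [Subgroup.index_map_subtype, (Fact.out : p.Prime).dvd_mul]
    exact not_or.mpr ⟨S.not_dvd_index, hidx⟩
  obtain ⟨k, hk⟩ := MulAction.exists_smul_eq N P₀ (hpg.toSylow hni)
  set P₁ := ((P₀ : Subgroup N).map N.subtype) with hP₁
  set W := Subgroup.normalizer (P₁ : Set G) ⊓ (N ⊔ Subgroup.zpowers y) with hW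
  have hyW : y ∈ W := by
    refine ⟨?_, (le_sup_right : Subgroup.zpowers y ≤ N ⊔ Subgroup.zpowers y) (Subgroup.mem_zpowers y)⟩
    have hfin : (P₁ : Set G).Finite := Set.toFinite _
    refine Subgroup.mem_normalizer_iff.mpr fun z => ⟨?_, ?_⟩
    · rintro ⟨u, hu, rfl⟩
      exact ⟨MulAut.conjNormal y u, hfix u hu, by simp⟩
    · intro hz
      have hsub : (fun w => y * w * y⁻¹) '' (P₁ : Set G) ⊆ (P₁ : Set G) := by
        rintro _ ⟨_, ⟨u, hu, rfl⟩, rfl⟩
        exact ⟨MulAut.conjNormal y u, hfix u hu, by simp⟩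
      have heq := Set.eq_of_subset_of_ncard_le hsub (by
        rw [Set.ncard_image_of_injective]
        intro a b hab; simpa using hab) hfin
      rw [← SetLike.mem_coe, ← heq] at hz
      obtain ⟨w, hw, hwz⟩ := hz
      have : w = z := by simpa using hwz
      exact this ▸ hw
  have hyfix : ∀ w ∈ ((hpg.toSylow hni : Sylow p N) : Subgroup N), (w : G) * y = y * w := by
    rintro _ ⟨v, -, rfl⟩
    exact Subgroup.mem_centralizer_singleton_iff.mp v.2
  have hP1' : ∀ u ∈ (P₀ : Subgroup N), ((k : G) * u * (k : G)⁻¹) * y = y * ((k : G) * u * (k : G)⁻¹) := by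
    intro u hu
    have := hyfix (k * u * k⁻¹) (hk ▸ ⟨u, hu, rfl⟩)
    simpa using this
  set z := (k : G)⁻¹ * y * k with hz
  have hzc : ∀ u ∈ (P₀ : Subgroup N), (u : G) * z = z * u := by
    intro u hu
    calc (u : G) * z = (k : G)⁻¹ * ((k : G) * u * (k : G)⁻¹ * y) * k := by rw [hz]; group
      _ = (k : G)⁻¹ * (y * ((k : G) * u * (k : G)⁻¹)) * k := by rw [hP1' u hu]
      _ = z * u := by rw [hz]; group
  have hzW : z ∈ W := by
    refine ⟨Subgroup.mem_normalizer_iff.mpr fun w => ⟨?_, ?_⟩, ?_⟩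
    · rintro ⟨u, hu, rfl⟩
      refine ⟨u, hu, ?_⟩
      simp [← hzc u hu]
    · rintro ⟨u, hu, e⟩
      refine ⟨u, hu, ?_⟩
      have h1 : z * w * z⁻¹ = z * u * z⁻¹ := by
        rw [← hzc u hu, mul_inv_cancel_right]; exact e.symm
      simpa using (mul_left_cancel (mul_right_cancel h1)).symm
    · have hkW : (k : G) ∈ N ⊔ Subgroup.zpowers y := (le_sup_left : N ≤ _) k.2
      exact Subgroup.mul_mem _ (Subgroup.mul_mem _ (Subgroup.inv_mem _ hkW)
        ((le_sup_right : Subgroup.zpowers y ≤ _) (Subgroup.mem_zpowers y))) hkW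
  obtain ⟨j, hj⟩ := hy
  have hYW : Subgroup.zpowers y ≤ W := Subgroup.zpowers_le.mpr hyW
  have hYp : IsPGroup q (Subgroup.zpowers y) := IsPGroup.of_card (n := j) (by rw [Nat.card_zpowers, hj])
  have hrel : ¬ q ∣ (Subgroup.zpowers y).relIndex W := by
    intro hd
    have hd2 := hd.trans (Dvd.intro _ (Subgroup.relIndex_mul_relIndex _ W (N ⊔ Subgroup.zpowers y) hYW inf_le_right))
    have hco : (Nat.card N).Coprime (Nat.card (Subgroup.zpowers y)) := by
      rw [Nat.card_zpowers, hj]; exact hNc.pow_right j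
    have h1 : N.relIndex (N ⊔ Subgroup.zpowers y) = Nat.card (Subgroup.zpowers y) := by
      rw [Subgroup.relIndex_sup_left, ← Subgroup.inf_relIndex_right,
        Subgroup.inf_eq_bot_of_coprime hco, Subgroup.relIndex_bot_left]
    have h2 := Subgroup.relIndex_mul_relIndex ⊥ N (N ⊔ Subgroup.zpowers y) bot_le le_sup_left
    have h3 := Subgroup.relIndex_mul_relIndex ⊥ (Subgroup.zpowers y) (N ⊔ Subgroup.zpowers y) bot_le le_sup_right
    rw [Subgroup.relIndex_bot_left, Subgroup.relIndex_bot_left] at h2 h3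
    rw [h1, ← h3, mul_comm] at h2
    have h4 := Nat.eq_of_mul_eq_mul_left (Nat.card_pos) h2
    rw [← h4] at hd2
    exact (Nat.Prime.coprime_iff_not_dvd Fact.out).mp hNc.symm hd2
  let Y : Sylow q W := IsPGroup.toSylow (P := (Subgroup.zpowers y).comap W.subtype)
    (hYp.comap_of_injective W.subtype W.subtype_injective) hrel
  have hzp : IsPGroup q (Subgroup.zpowers (⟨z, hzW⟩ : W)) := by
    refine IsPGroup.of_card (n := j) ?_
    rw [Nat.card_zpowers, ← Subgroup.orderOf_coe, ← hj]
    show orderOf z = _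
    have e : z = MulAut.conj (k : G)⁻¹ y := by simp [hz]
    rw [e]
    exact MulEquiv.orderOf_eq _ _
  obtain ⟨T, hT⟩ := hzp.exists_le_sylow
  obtain ⟨m, hm⟩ := MulAction.exists_smul_eq W Y T
  have hzT : (⟨z, hzW⟩ : W) ∈ ((m • Y : Sylow q W) : Subgroup W) := hm ▸ hT (Subgroup.mem_zpowers _)
  obtain ⟨v, hv, hvz⟩ := hzT
  have hvz' : (m : G) * v * (m : G)⁻¹ = z := by simpa using congrArg Subtype.val hvz
  obtain ⟨i, hi⟩ := Subgroup.mem_zpowers_iff.mp (show (v : G) ∈ Subgroup.zpowers y from hv)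
  have himg : (QuotientGroup.mk' N z) = QuotientGroup.mk' N y := by
    simp [hz, (QuotientGroup.eq_one_iff (k : G)).mpr k.2]
  have hmy : (m : G) ∈ N ⊔ Subgroup.zpowers y := m.2.2
  have hmim : QuotientGroup.mk' N (m : G) ∈ Subgroup.zpowers (QuotientGroup.mk' N y) := by
    have hle : (N ⊔ Subgroup.zpowers y).map (QuotientGroup.mk' N) ≤ Subgroup.zpowers (QuotientGroup.mk' N y) := by
      rw [Subgroup.map_sup, MonoidHom.map_zpowers, (Subgroup.map_eq_bot_iff N).mpr (QuotientGroup.ker_mk' N).ge, bot_sup_eq]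
    exact hle (Subgroup.mem_map_of_mem _ hmy)
  have hvy : (v : G) = y := by
    have h1 : QuotientGroup.mk' N (v : G) = QuotientGroup.mk' N y := by
      obtain ⟨l, hl⟩ := Subgroup.mem_zpowers_iff.mp hmim
      have h2 := congrArg (QuotientGroup.mk' N) hvz'
      rw [himg, map_mul, map_mul, map_inv, ← hl, ← hi, map_zpow] at h2
      rw [← hi, map_zpow]
      rwa [(((Commute.refl _).zpow_zpow l i)).eq, mul_inv_cancel_right] at h2
    rw [← hi]
    have h3 : y ^ (i - 1) ∈ N ⊓ Subgroup.zpowers y := by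
      refine ⟨(QuotientGroup.eq_one_iff _).mp ?_, Subgroup.mem_zpowers_iff.mpr ⟨_, rfl⟩⟩
      rw [← hi] at h1
      rw [QuotientGroup.mk_zpow, zpow_sub_one]
      simp only [map_zpow, QuotientGroup.mk'_apply] at h1
      rw [h1, mul_inv_cancel]
    rw [Subgroup.inf_eq_bot_of_coprime (by rw [Nat.card_zpowers, hj]; exact hNc.pow_right j),
      Subgroup.mem_bot, zpow_sub_one, mul_inv_eq_one] at h3
    exact h3
  intro u hu
  -- `m y m⁻¹ = z` centralizes `P₀`, and `m` normalizes `P₀`
  obtain ⟨w, hw, hwe⟩ := (Subgroup.mem_normalizer_iff.mp m.2.1 (u : G)).mp ⟨u, hu, rfl⟩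
  have h5 := hzc w hw
  rw [← hvz', hvy] at h5
  have hwe' : (w : G) = (m : G) * u * (m : G)⁻¹ := hwe
  rw [hwe'] at h5
  calc (u : G) * y = (m : G)⁻¹ * ((m : G) * u * (m : G)⁻¹ * ((m : G) * y * (m : G)⁻¹)) * m := by group
    _ = (m : G)⁻¹ * ((m : G) * y * (m : G)⁻¹ * ((m : G) * u * (m : G)⁻¹)) * m := by rw [h5]
    _ = y * u := by group

theorem not_dvd_card_sylow (p q : ℕ) [Fact p.Prime] [Fact q.Prime] (hpq : p ≠ q)
    (G : Type u) [Group G] [Finite G] (hs : Cfsg.IsPSolvable q G)
    (h : ∀ y : G, (∃ k : ℕ, orderOf y = q ^ k) → ¬ p ∣ (Subgroup.centralizer ({y} : Set G)).index) :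
    ¬ p ∣ Nat.card (Sylow q G) := by
  induction hn : Nat.card G using Nat.strong_induction_on generalizing G with
  | _ n ih =>
  rcases subsingleton_or_nontrivial G with hG | hG
  · intro hd
    have : Subsingleton (Sylow q G) := ⟨fun a b => Sylow.ext (Subsingleton.elim _ _)⟩
    rw [Nat.card_unique] at hd
    exact (Fact.out : p.Prime).not_dvd_one hd
  obtain ⟨N, hN, hN1, hNq⟩ := exists_normal_q q hs
  obtain ⟨Q⟩ : Nonempty (Sylow q G) := inferInstance
  set f := QuotientGroup.mk' N with hf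
  have hfs : Function.Surjective f := QuotientGroup.mk'_surjective N
  have hlt : Nat.card (G ⧸ N) < n := by
    have h1 := N.index_mul_card
    have h2 : 1 < Nat.card N := (Subgroup.one_lt_card_iff_ne_bot N).mpr hN1
    have h3 : 0 < N.index := Nat.pos_of_ne_zero Subgroup.index_ne_zero_of_finite
    have h4 := (Nat.lt_mul_iff_one_lt_right h3).mpr h2
    rw [h1, hn] at h4
    exact h4
  have hq := ih _ hlt (G ⧸ N) (PSolvable.isPSolvable_quotient hs N) (class_hyp_quotient h N) rfl
  rw [card_sylow_eq_index (Q.mapSurjective hfs)] at hq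
  set H := (Q : Subgroup G) ⊔ N with hH
  have hpre : (Q.mapSurjective hfs : Subgroup (G ⧸ N)).comap f = H := by
    show ((Q : Subgroup G).map f).comap f = _
    rw [Subgroup.comap_map_eq, QuotientGroup.ker_mk']
  have hidxH : (Subgroup.normalizer (H : Set G)).index =
      (Subgroup.normalizer ((Q.mapSurjective hfs : Subgroup (G ⧸ N)) : Set (G ⧸ N))).index := by
    rw [← hpre, ← Subgroup.comap_normalizer_eq_of_surjective _ hfs,
      Subgroup.index_comap_of_surjective _ hfs]
  have hQN : Subgroup.normalizer ((Q : Subgroup G) : Set G) ≤ Subgroup.normalizer (H : Set G) := by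
    intro x hx
    rw [← hpre, ← Subgroup.comap_normalizer_eq_of_surjective _ hfs]
    exact Subgroup.le_normalizer_map f ⟨x, hx, rfl⟩
  rw [card_sylow_eq_index Q, ← Subgroup.relIndex_mul_index hQN,
    (Fact.out : p.Prime).dvd_mul, not_or]
  refine ⟨?_, hidxH ▸ hq⟩
  rw [relIndex_normalizer Q (le_sup_left : (Q : Subgroup G) ≤ (Q : Subgroup G) ⊔ N), ← hH]
  rcases hNq with hNp | hNc
  · have : H = (Q : Subgroup G) := sup_eq_left.mpr (hNp.le_sylow_of_normal Q)
    rw [this, Subgroup.relIndex_eq_one.mpr Subgroup.le_normalizer]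
    exact (Fact.out : p.Prime).not_dvd_one
  · -- a `Q`-invariant Sylow `p` of `N`, centralized by `Q`
    have hQNn : (Q : Subgroup G) ≤ Subgroup.normalizer (N : Set G) := by
      rw [Subgroup.normalizer_eq_top]; exact le_top
    let φ : (Q : Subgroup G) →* MulAut N := MulAut.conjNormal.comp (Q : Subgroup G).subtype
    letI : MulAction (Q : Subgroup G) (Sylow p N) := MulAction.compHom _ φ
    have hqn : ¬ q ∣ Nat.card (Sylow p N) := fun hd => by
      obtain ⟨P₀⟩ : Nonempty (Sylow p N) := inferInstance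
      rw [card_sylow_eq_index P₀] at hd
      exact (Nat.Prime.coprime_iff_not_dvd Fact.out).mp hNc.symm (hd.trans (Subgroup.index_dvd_card _))
    obtain ⟨P₀, hP₀⟩ := Q.isPGroup'.nonempty_fixed_point_of_prime_not_dvd_card (Sylow p N) hqn
    have hcen : ∀ y ∈ (Q : Subgroup G), ∀ u ∈ (P₀ : Subgroup N), (u : G) * y = y * u := by
      intro y hy
      exact centralizes_invariant_sylow p q hpq G N hNc P₀ y
        (IsPGroup.iff_orderOf.mp Q.isPGroup' ⟨y, hy⟩ |>.imp fun k hk => by rwa [← Subgroup.orderOf_coe] at hk)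
        (fun u hu => by
          have e := congrArg (fun S : Sylow p N => (S : Subgroup N)) (hP₀ ⟨y, hy⟩)
          rw [← e]
          exact ⟨u, hu, rfl⟩) (h y (IsPGroup.iff_orderOf.mp Q.isPGroup' ⟨y, hy⟩ |>.imp fun k hk => by rwa [← Subgroup.orderOf_coe] at hk))
    set R := (Q : Subgroup G) ⊔ (P₀ : Subgroup N).map N.subtype with hR
    have hRN : R ≤ Subgroup.normalizer ((Q : Subgroup G) : Set G) := by
      refine sup_le Subgroup.le_normalizer ?_
      rintro _ ⟨u, hu, rfl⟩
      rw [Subgroup.mem_normalizer_iff]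
      intro z
      constructor
      · intro hz; simpa [hcen z hz u hu] using hz
      · intro hz
        have := hcen _ hz u hu
        simp [mul_assoc] at this
        simpa [this, mul_assoc] using hz
    have hRH : R ≤ H := sup_le le_sup_left ((Subgroup.map_subtype_le _).trans le_sup_right)
    intro hd
    have hd' : p ∣ R.relIndex H := hd.trans (Subgroup.relIndex_dvd_of_le_left H hRN)
    have h2 : R.relIndex H ∣ ((P₀ : Subgroup N).map N.subtype).relIndex H :=
      Subgroup.relIndex_dvd_of_le_left H le_sup_right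
    rw [← Subgroup.relIndex_mul_relIndex ((P₀ : Subgroup N).map N.subtype) N H (Subgroup.map_subtype_le _) le_sup_right,
      hH, Subgroup.relIndex_sup_right] at h2
    have h3 := hd'.trans h2
    rcases (Fact.out : p.Prime).dvd_mul.mp h3 with h4 | h4
    · have e : ((P₀ : Subgroup N).map N.subtype).subgroupOf N = (P₀ : Subgroup N) :=
        Subgroup.comap_map_eq_self_of_injective N.subtype_injective _
      rw [Subgroup.relIndex, e] at h4
      exact P₀.not_dvd_index h4
    · obtain ⟨k, hk⟩ := IsPGroup.iff_card.mp Q.isPGroup'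
      have h5 := h4.trans (Subgroup.relIndex_dvd_card _ _)
      rw [hk] at h5
      exact hpq ((Nat.prime_dvd_prime_iff_eq Fact.out Fact.out).mp ((Fact.out : p.Prime).dvd_of_dvd_pow h5))

/-- Let p and q be primes and G a finite group that is p-solvable or q-solvable, in which no q-element has conjugacy class size divisible by p. Then some Sylow p-subgroup of G normalizes some Sylow q-subgroup of G. -/
theorem result {G : Type*} [Group G] [Finite G] (p q : ℕ) [Fact p.Prime] [Fact q.Prime] (hsolv : Cfsg.IsPSolvable p G ∨ Cfsg.IsPSolvable q G)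
    (h : ∀ y : G, (∃ k : ℕ, orderOf y = q ^ k) → ¬ p ∣ (Subgroup.centralizer ({y} : Set G)).index) :
    ∃ (P : Sylow p G) (Q : Sylow q G), (P : Subgroup G) ≤ Subgroup.normalizer ((Q : Subgroup G) : Set G) := by
  rcases eq_or_ne p q with hpq | hpq
  · subst hpq
    obtain ⟨P⟩ : Nonempty (Sylow p G) := inferInstance
    exact ⟨P, P, Subgroup.le_normalizer⟩
  rcases hsolv with hs | hs
  · refine (S4602.result p q hpq hs).mpr fun hd => ?_
    set K := Cfsg.pPrimeCore p G
    obtain ⟨y, hy⟩ := exists_prime_orderOf_dvd_card' (G := G ⧸ K) q hd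
    obtain ⟨P, hP⟩ : ∃ P : Sylow p (G ⧸ K), (P : Subgroup (G ⧸ K)) ≤ Subgroup.centralizer {y} := by
      have hc := class_hyp_quotient h K y ⟨1, by rw [hy, pow_one]⟩
      obtain ⟨P₀⟩ : Nonempty (Sylow p (Subgroup.centralizer ({y} : Set (G ⧸ K)))) := inferInstance
      obtain ⟨P, hP⟩ := (P₀.isPGroup'.map (Subgroup.centralizer {y}).subtype).exists_le_sylow
      refine ⟨P, ?_⟩
      have h1 : ¬ p ∣ ((P₀ : Subgroup (Subgroup.centralizer ({y} : Set (G ⧸ K)))).map (Subgroup.centralizer {y}).subtype).index := by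
        rw [Subgroup.index_map_subtype, (Fact.out : p.Prime).dvd_mul]
        exact not_or.mpr ⟨P₀.not_dvd_index, hc⟩
      rw [show (P : Subgroup (G ⧸ K)) = _ from (le_antisymm ?_ hP)]
      · exact Subgroup.map_subtype_le _
      · refine not_not.mp fun hne => ?_
        have hlt := lt_of_le_of_ne hP fun e => hne e.ge
        have hmul := Subgroup.relIndex_mul_index hlt.le
        obtain ⟨i, -, hi⟩ := (Nat.dvd_prime_pow Fact.out).mp
          (P.card_eq_multiplicity ▸ Subgroup.relIndex_dvd_card _ (P : Subgroup (G ⧸ K)))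
        rcases Nat.eq_zero_or_pos i with rfl | hpos
        · exact hne (Subgroup.relIndex_eq_one.mp (by simpa using hi))
        · exact h1 (hmul ▸ Dvd.dvd.mul_right (hi ▸ dvd_pow_self p hpos.ne') _)
    set U := Cfsg.pCore p (G ⧸ K)
    have hyU : y ∈ U := PSolvable.centralizer_pCore_le_of_isPSolvable
      (PSolvable.isPSolvable_quotient hs _) PSolvable.pPrimeCore_quotient_eq_bot
      (fun u hu => Subgroup.mem_centralizer_singleton_iff.mp (hP (PSolvable.pCore_le_sylow P hu)))
    obtain ⟨j, hj⟩ := IsPGroup.iff_orderOf.mp PSolvable.pCore_isPGroup ⟨y, hyU⟩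
    rw [← Subgroup.orderOf_coe] at hj
    simp only [hy] at hj
    rcases Nat.eq_zero_or_pos j with rfl | hpos
    · exact (Fact.out : q.Prime).one_lt.ne' (by simpa using hj)
    · exact hpq ((Nat.prime_dvd_prime_iff_eq Fact.out Fact.out).mp (hj ▸ dvd_pow_self p hpos.ne'))
  · exact exists_normalizing_iff.mpr (not_dvd_card_sylow p q hpq G hs h)

end Cfsg.Agent.S4601
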