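import Cfsg.Statements.S4604
import Mathlib
import Cfsg.Agent.Lib.PowerCongr.Basic

open Cfsg.Agent.Lib.PowerCongr

set_option autoImplicit false
open Cfsg

namespace Cfsg.Agent.S4604

/-- Let G be a finite group, p a prime and p^a the p-part of the order of G. Let x, y ∈ G and let x′, y′ be their p-regular parts: x′ has order prime to p, commutes with x·x′⁻¹, and x·x′⁻¹ has p-power order (likewise for y). Then x′ and y′ are conjugate in G if and only if for every irreducible character χ of G the algebraic integer χ(x)^(p^a) − χ(y)^(p^a) is p times an algebraic integer. -/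
theorem result {G : Type*} [Group G] [Finite G] (p : ℕ) [Fact p.Prime] (x y x' y' : G)
    (hx : (∃ k : ℕ, orderOf (x * x'⁻¹) = p ^ k) ∧ Commute (x * x'⁻¹) x' ∧ ¬ p ∣ orderOf x')
    (hy : (∃ k : ℕ, orderOf (y * y'⁻¹) = p ^ k) ∧ Commute (y * y'⁻¹) y' ∧ ¬ p ∣ orderOf y') :
    IsConj x' y' ↔ ∀ χ : Cfsg.IrrCharacter G, ∃ γ : Cfsg.AlgInt,
      (χ : G → ℂ) x ^ (p ^ (Nat.card G).factorization p) - (χ : G → ℂ) y ^ (p ^ (Nat.card G).factorization p) = (p : ℂ) * (γ : ℂ) := by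
  have hp := (Fact.out : p.Prime)
  cases nonempty_fintype G
  set a := (Nat.card G).factorization p
  have hpow : ∀ {z z' : G}, (∃ k : ℕ, orderOf (z * z'⁻¹) = p ^ k) → Commute (z * z'⁻¹) z' →
      z ^ p ^ a = z' ^ p ^ a := by
    intro z z' ⟨k, hk⟩ hc
    have hle : k ≤ a := (hp.pow_dvd_iff_le_factorization Nat.card_pos.ne').mp
      (hk ▸ orderOf_dvd_natCard _)
    have h1 : (z * z'⁻¹) ^ p ^ a = 1 :=
      orderOf_dvd_iff_pow_eq_one.mp (hk ▸ pow_dvd_pow p hle)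
    conv_lhs => rw [show z = z * z'⁻¹ * z' by group]
    rw [hc.mul_pow, h1, one_mul]
  have hreg : ∀ {z : G}, ¬ p ∣ orderOf z → ¬ p ∣ orderOf (z ^ p ^ a) := fun hz hd =>
    hz (hd.trans (orderOf_pow_dvd _))
  have hχ : ∀ (χ : Cfsg.IrrCharacter G), CongrMod p ((χ : G → ℂ) x ^ p ^ a)
      ((χ : G → ℂ) (x' ^ p ^ a)) ∧ CongrMod p ((χ : G → ℂ) y ^ p ^ a) ((χ : G → ℂ) (y' ^ p ^ a)) :=
    fun χ => ⟨hpow hx.1 hx.2.1 ▸ pow_congr hp a (Cfsg.Agent.Lib.Chars.irr_isCharacter χ) x,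
      hpow hy.1 hy.2.1 ▸ pow_congr hp a (Cfsg.Agent.Lib.Chars.irr_isCharacter χ) y⟩
  constructor
  · intro hc χ
    have he : (χ : G → ℂ) (x' ^ p ^ a) = (χ : G → ℂ) (y' ^ p ^ a) :=
      (Cfsg.Agent.Lib.Chars.isConj_iff_irr.mp (hc.pow _)) χ
    exact congrMod_trans (he ▸ (hχ χ).1) (congrMod_symm (hχ χ).2)
  · intro h
    have hc : IsConj (x' ^ p ^ a) (y' ^ p ^ a) := isConj_of_congrMod (hreg hx.2.2) (hreg hy.2.2)
      fun χ => congrMod_trans (congrMod_symm (hχ χ).1) (congrMod_trans (h χ) (hχ χ).2)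
    have hcop : Nat.Coprime (p ^ a) (orderOf ((x', y') : G × G)) := by
      rw [Prod.orderOf]
      exact Nat.Coprime.pow_left a (Nat.Coprime.coprime_dvd_right (Nat.lcm_dvd_mul _ _)
        ((hp.coprime_iff_not_dvd.mpr hx.2.2).mul_right (hp.coprime_iff_not_dvd.mpr hy.2.2)))
    obtain ⟨m, hm⟩ := exists_pow_eq_self_of_coprime hcop
    simp only [Prod.ext_iff, Prod.pow_fst, Prod.pow_snd] at hm
    exact hm.1 ▸ hm.2 ▸ hc.pow m

end Cfsg.Agent.S4604
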