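import Cfsg.Statements.S4606
import Cfsg.Agent.Lib.Blocks.SubsectionCount
import Cfsg.Agent.Lib.BrauerMap.PrincipalNilpotent
import Cfsg.Agent.Lib.BrauerPairs.Principal
import Cfsg.Agent.Lib.BrauerPairs.Block
import Mathlib
-- import your own Cfsg.Agent.* helpers here

set_option autoImplicit false
open Cfsg

namespace Cfsg.Agent.S4606

/-- A class meets a p-subgroup in an elementary abelian set when `G` is p-solvable. -/
theorem commute_of_isPSolvable {G : Type*} [Group G] [Finite G] {p : ℕ} [Fact p.Prime]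
    (hG : Cfsg.IsPSolvable p G) {D : Subgroup G} (hD : IsPGroup p D) {u : G} (hu : u ∈ D)
    (hu1 : u ≠ 1) (hcl : ∀ v ∈ D, v ≠ 1 → IsConj v u) : ∀ d ∈ D, ∀ e ∈ D, d * e = e * d := by
  classical
  obtain ⟨n, H, h0, hn, hmono, hnorm, hfac⟩ := hG
  obtain ⟨i, hi, hi'⟩ : ∃ i : Fin n, u ∉ H i.castSucc ∧ u ∈ H i.succ := by
    by_contra hne
    push Not at hne
    have : ∀ j : Fin (n + 1), u ∉ H j := Fin.induction (by rw [h0]; simpa using hu1) hne
    exact this (Fin.last n) (by rw [hn]; trivial)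
  haveI := hnorm i.castSucc
  set N := H i.castSucc with hN
  have hup : ∃ k : ℕ, orderOf u = p ^ k := by
    obtain ⟨k, hk⟩ := IsPGroup.iff_orderOf.1 hD ⟨u, hu⟩
    exact ⟨k, by rwa [Subgroup.orderOf_mk] at hk⟩
  obtain ⟨m, hm⟩ : ∃ m : ℕ, N.relIndex (H i.succ) = p ^ m := by
    rcases hfac i with h | h
    · exact h
    exfalso
    obtain ⟨k, hk⟩ := hup
    have h1 : (⟨u, hi'⟩ : H i.succ) ^ (N.subgroupOf (H i.succ)).index ∈ N.subgroupOf (H i.succ) :=
      Subgroup.pow_index_mem _ _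
    rw [← Subgroup.relIndex, Subgroup.mem_subgroupOf, SubmonoidClass.coe_pow] at h1
    have hc : (N.relIndex (H i.succ)).Coprime (orderOf u) := by
      rw [hk]; exact Nat.Coprime.pow_right k h
    obtain ⟨l, hl⟩ := exists_pow_eq_self_of_coprime (x := u) hc
    exact hi (by rw [← hl]; exact N.pow_mem h1 l)
  obtain ⟨W, ⟨hWn, hNW, hWH, huW⟩, hmin⟩ := exists_minimal_of_wellFoundedLT
    (fun W : Subgroup G => W.Normal ∧ N ≤ W ∧ W ≤ H i.succ ∧ u ∈ W)
    ⟨H i.succ, hnorm _, hmono (Fin.castSucc_le_succ i), le_rfl, hi'⟩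
  haveI := hWn
  set V := ⁅W, W⁆ ⊔ N with hV
  have hVW : V ≤ W := sup_le (Subgroup.commutator_le_self W) hNW
  have huV : u ∉ V := by
    intro huV
    have hWV : W ≤ V := hmin ⟨inferInstance, le_sup_right, hVW.trans hWH, huV⟩ hVW
    have hQp : IsPGroup p (W ⧸ N.subgroupOf W) := by
      have hd : (N.subgroupOf W).index ∣ p ^ m := by
        rw [← hm]
        exact Dvd.intro_left _ (by rw [mul_comm]; exact Subgroup.relIndex_mul_relIndex N W _ hNW hWH)
      obtain ⟨j, -, hj⟩ := (Nat.dvd_prime_pow (Fact.out : p.Prime)).1 hd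
      exact IsPGroup.of_card (n := j) (by rw [← hj]; rfl)
    haveI := hQp.isNilpotent
    have htop : commutator (W ⧸ N.subgroupOf W) = ⊤ := by
      rw [eq_top_iff]
      intro q _
      induction q using QuotientGroup.induction_on with
      | _ w =>
        obtain ⟨c, hc, y, hy, hcy⟩ := Subgroup.mem_sup_of_normal_right.1 (hWV w.2)
        obtain ⟨c', hc', rfl⟩ : ∃ c' ∈ commutator W, (c' : G) = c := by
          rw [← Subgroup.map_subtype_commutator] at hc
          exact Subgroup.mem_map.1 hc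
        have hq : (QuotientGroup.mk w : W ⧸ N.subgroupOf W) = QuotientGroup.mk c' := by
          rw [QuotientGroup.eq, Subgroup.mem_subgroupOf]
          have : ((w⁻¹ * c' : W) : G) = y⁻¹ := by
            rw [Subgroup.coe_mul, Subgroup.coe_inv, ← hcy]; group
          rw [this]
          exact N.inv_mem hy
        have hmap : commutator (W ⧸ N.subgroupOf W) =
            (commutator W).map (QuotientGroup.mk' (N.subgroupOf W)) := by
          rw [commutator_def, commutator_def, Subgroup.map_commutator,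
            Subgroup.map_top_of_surjective _ (QuotientGroup.mk'_surjective _)]
        rw [hq, hmap]
        exact ⟨c', hc', rfl⟩
    rcases subsingleton_or_nontrivial (W ⧸ N.subgroupOf W) with hs | hs
    · exact hi (Subgroup.mem_subgroupOf.1
        ((QuotientGroup.eq_one_iff (⟨u, huW⟩ : W)).1 (Subsingleton.elim _ _)))
    · exact (IsSolvable.commutator_lt_top_of_nontrivial (W ⧸ N.subgroupOf W)).ne htop
  intro d hd e he
  by_contra hne
  have hDW : ∀ v ∈ D, v ∈ W := fun v hv => by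
    rcases eq_or_ne v 1 with rfl | hv1
    · exact W.one_mem
    obtain ⟨g, hg⟩ := isConj_iff.1 (hcl v hv hv1)
    have := hWn.conj_mem _ huW g⁻¹
    rwa [← hg, show g⁻¹ * (g * v * g⁻¹) * g⁻¹⁻¹ = v by group] at this
  have hcomm : d * e * d⁻¹ * e⁻¹ ≠ 1 := fun h => hne (by
    rw [mul_inv_eq_one, mul_inv_eq_iff_eq_mul] at h; exact h)
  obtain ⟨g, hg⟩ := isConj_iff.1 (hcl _
    (D.mul_mem (D.mul_mem (D.mul_mem hd he) (D.inv_mem hd)) (D.inv_mem he)) hcomm)
  refine huV ?_
  rw [← hg]
  exact (inferInstance : V.Normal).conj_mem _ (Subgroup.mem_sup_left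
    (Subgroup.commutator_mem_commutator (hDW d hd) (hDW e he))) g

/-- The p'-elements of a group with normal p-complement `N` lie in `N`. -/
theorem mem_of_not_dvd_orderOf {K : Type*} [Group K] [Finite K] {p : ℕ} [Fact p.Prime]
    {N : Subgroup K} [N.Normal] {P : Sylow p K} (hc : N.IsComplement' (P : Subgroup K)) {t : K}
    (ht : ¬ p ∣ orderOf t) : t ∈ N := by
  have h1 := Subgroup.pow_index_mem N t
  rw [hc.symm.index_eq_card, Sylow.card_eq_multiplicity] at h1
  obtain ⟨l, hl⟩ := exists_pow_eq_self_of_coprime (x := t)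
    (((Fact.out : p.Prime).coprime_iff_not_dvd.2 ht).pow_left ((Nat.card K).factorization p))
  rw [← hl]
  exact N.pow_mem h1 l

/-- A p'-element normalizing `D` and centralizing `u` with p-nilpotent centralizer commutes with
`C_D(u)`. -/
theorem commute_of_fix {G : Type*} [Group G] [Finite G] {p : ℕ} [Fact p.Prime] {D : Subgroup G}
    (hD : IsPGroup p D) {u : G}
    (hn : Cfsg.HasNormalPComplement p (Subgroup.centralizer ({u} : Set G))) {t : G}
    (ht : ¬ p ∣ orderOf t) (htD : ∀ d ∈ D, t * d * t⁻¹ ∈ D) (htu : t * u = u * t) {r : G}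
    (hr : r ∈ D) (hru : r * u = u * r) : t * r = r * t := by
  obtain ⟨P, N, hNn, hc⟩ := hn
  haveI := hNn
  let C := Subgroup.centralizer ({u} : Set G)
  let t' : C := ⟨t, Subgroup.mem_centralizer_singleton_iff.2 htu⟩
  let r' : C := ⟨r, Subgroup.mem_centralizer_singleton_iff.2 hru⟩
  have htN : t' ∈ N := mem_of_not_dvd_orderOf hc (by
    rw [show orderOf t' = orderOf t from (Subgroup.orderOf_coe t').symm]; exact ht)
  have hxN : t' * r' * t'⁻¹ * r'⁻¹ ∈ N := by
    rw [mul_assoc, mul_assoc, ← mul_assoc r']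
    exact N.mul_mem htN (hNn.conj_mem _ (N.inv_mem htN) r')
  have hxD : t * r * t⁻¹ * r⁻¹ ∈ D := D.mul_mem (htD r hr) (D.inv_mem hr)
  have hcop : p.Coprime (Nat.card N) := by
    rw [(Fact.out : p.Prime).coprime_iff_not_dvd, ← hc.index_eq_card]
    exact P.not_dvd_index
  obtain ⟨k, hk⟩ := IsPGroup.iff_orderOf.1 hD ⟨_, hxD⟩
  rw [Subgroup.orderOf_mk] at hk
  have h2 : orderOf (t * r * t⁻¹ * r⁻¹) ∣ Nat.card N := by
    have := Subgroup.orderOf_dvd_natCard N hxN
    rwa [← Subgroup.orderOf_coe] at this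
  have h3 : orderOf (t * r * t⁻¹ * r⁻¹) = 1 :=
    Nat.eq_one_of_dvd_coprimes (hcop.pow_left k) (dvd_of_eq hk) h2
  rw [orderOf_eq_one_iff, mul_inv_eq_one, mul_inv_eq_iff_eq_mul] at h3
  exact h3


/-- Let G be a finite group, p a prime, M a maximal ideal of the algebraic integers containing p, and B a p-block of G with defect group D. Suppose the number of irreducible characters in B exceeds the p-regular rank of B (the number of irreducible Brauer characters in B) by exactly one. If B is the principal block, or if G is p-solvable, then D is elementary abelian. -/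
theorem result {G : Type*} [Group G] [Finite G] (p : ℕ) [Fact p.Prime] (M : Ideal Cfsg.AlgInt) (hM : Cfsg.IsPModular p M) (B : Set (Cfsg.IrrCharacter G)) (hB : Cfsg.IsPBlock M B) (D : Subgroup G) (hD : Cfsg.IsDefectGroup p M B D)
    (hk : Nat.card B = Cfsg.blockRank p B + 1) (hB0 : B = Cfsg.principalBlock M G ∨ Cfsg.IsPSolvable p G) :
    Cfsg.IsElementaryAbelian p D := by
  classical
  haveI : M.IsPrime := hM.2.1.isPrime
  have hp : p.Prime := Fact.out
  have hDp : IsPGroup p D := by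
    obtain ⟨g, -, P, rfl⟩ := hD
    exact P.isPGroup'.map _
  by_cases hbot : D = ⊥
  · subst hbot
    exact ⟨⟨⟨fun a b => Subsingleton.elim _ _⟩⟩, fun a ha => by simp [Subgroup.mem_bot.1 ha]⟩
  obtain ⟨u₀, hu₀, hu₀1⟩ := (Subgroup.bot_or_exists_ne_one D).resolve_left hbot
  have key := fun {u : G} (hu : u ∈ D) (hu1 : u ≠ 1) =>
    Lib.Blocks.SubsectionCount.of_card_eq_succ hM hB hD hk hDp hu hu1
  have hexp : ∀ a ∈ D, a ^ p = 1 := by
    intro a ha
    obtain ⟨j, hj⟩ := IsPGroup.iff_orderOf.1 hDp ⟨a, ha⟩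
    rw [Subgroup.orderOf_mk] at hj
    rcases eq_or_ne a 1 with rfl | ha1
    · simp
    obtain ⟨i, rfl⟩ : ∃ i, j = i + 1 := by
      refine Nat.exists_eq_succ_of_ne_zero fun h => ha1 ?_
      rwa [h, pow_zero, orderOf_eq_one_iff] at hj
    have hb : orderOf (a ^ p ^ i) = p := by
      rw [orderOf_pow' a (pow_ne_zero i hp.ne_zero), hj,
        Nat.gcd_eq_right (pow_dvd_pow p (Nat.le_succ i)), pow_succ,
        Nat.mul_div_cancel_left _ (pow_pos hp.pos i)]
    have hne : a ^ p ^ i ≠ 1 := fun h => hp.ne_one (by rw [← hb, h, orderOf_one])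
    obtain ⟨c, hc⟩ := isConj_iff.1 ((key ha ha1).2 _ (D.pow_mem ha _) hne)
    rw [← hc, conj_pow, orderOf_dvd_iff_pow_eq_one.1 hb.dvd]
    simp
  refine ⟨⟨⟨fun a b => Subtype.ext ?_⟩⟩, hexp⟩
  rcases hB0 with rfl | hps
  swap
  · exact commute_of_isPSolvable hps hDp hu₀ hu₀1 (key hu₀ hu₀1).2 a a.2 b b.2
  by_cases hp2 : p = 2
  · subst hp2
    have hinv : ∀ x ∈ D, x⁻¹ = x := fun x hx => by
      rw [inv_eq_iff_mul_eq_one, ← pow_two]; exact hexp x hx
    show (a : G) * b = b * a
    calc (a : G) * b = ((a : G) * b)⁻¹ := (hinv _ (D.mul_mem a.2 b.2)).symm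
      _ = b * a := by rw [mul_inv_rev, hinv _ b.2, hinv _ a.2]
  have hnc : ∀ {u : G}, u ∈ D → u ≠ 1 →
      Cfsg.HasNormalPComplement p (Subgroup.centralizer ({u} : Set G)) := by
    intro u hu hu1
    obtain ⟨j, hj⟩ := IsPGroup.iff_orderOf.1 hDp ⟨u, hu⟩
    rw [Subgroup.orderOf_mk] at hj
    have hle := Lib.Blocks.SubsectionCount.blockRank_le_sectionRank (p := p)
      (Lib.Blocks.SubsectionCount.isInducedBlock_principal hM ⟨j, hj⟩)
    rw [(key hu hu1).1] at hle
    exact Lib.BrauerMap.hasNormalPComplement_of_blockRank_eq_one hM (le_antisymm hle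
      (Lib.KleinBlock.blockRank_pos hp (Lib.BrauerMap.isPBlock_principalBlock M)))
  -- the defect group is a Sylow subgroup
  obtain ⟨S₀⟩ : Nonempty (Sylow p G) := inferInstance
  obtain ⟨x, hx⟩ := Lib.Blocks.isDefectGroup_conjugate hM hB
    (Lib.BrauerPairs.isDefectGroup_of_isMaximal hM (a := Lib.BrauerPairs.principalPair M (S₀ : Subgroup G))
      (Lib.BrauerPairs.isMaximal_principalPair hM S₀)) hD
  let S : Sylow p G := MulAut.conj x • S₀
  have hS : (S : Subgroup G) = D := by rw [hx]; rfl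
  -- a central element and an element inverting it
  haveI : Nontrivial D := (Subgroup.nontrivial_iff_ne_bot D).2 hbot
  obtain ⟨⟨z, hz⟩, hzc, hz1⟩ := (Subgroup.bot_or_exists_ne_one (Subgroup.center D)).resolve_left
    ((Subgroup.nontrivial_iff_ne_bot _).1 hDp.center_nontrivial)
  have hz1' : z ≠ 1 := fun h => hz1 (Subtype.ext h)
  have hzcomm : ∀ d ∈ D, d * z = z * d := fun d hd =>
    congrArg Subtype.val (Subgroup.mem_center_iff.1 hzc ⟨d, hd⟩)
  obtain ⟨g, hg⟩ := isConj_iff.1 ((key hz hz1').2 z⁻¹ (D.inv_mem hz) (inv_ne_one.2 hz1'))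
  obtain ⟨n, hn, hnz⟩ := S.conj_eq_normalizer_conj_of_mem_centralizer z⁻¹ g⁻¹
    (Subgroup.mem_centralizer_iff.2 fun d hd => by
      have hd' : d ∈ D := hS ▸ hd
      exact ((Commute.inv_right (hzcomm d hd'))).eq)
    (by
      rw [inv_inv, hg]
      exact Subgroup.mem_centralizer_iff.2 fun d hd => hzcomm d (hS ▸ hd))
  rw [inv_inv, hg] at hnz
  have hnz' : n * z * n⁻¹ = z⁻¹ := by
    have := congrArg (fun w => n * w * n⁻¹) hnz
    simpa [mul_assoc] using this
  set l := ordProj[2] (orderOf n) with hl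
  set m := ordCompl[2] (orderOf n) with hm
  have hnpos : orderOf n ≠ 0 := (orderOf_pos n).ne'
  have hmodd : Odd m := by
    rw [Nat.odd_iff]
    have := Nat.not_dvd_ordCompl Nat.prime_two hnpos
    rw [← hm] at this
    omega
  set t := n ^ m with htdef
  have ht : ¬ p ∣ orderOf t := by
    have hd : orderOf t ∣ l := orderOf_dvd_of_pow_eq_one (by
      rw [htdef, ← pow_mul, mul_comm, hl, hm, Nat.ordProj_mul_ordCompl_eq_self, pow_orderOf_eq_one])
    intro h
    exact hp2 ((Nat.prime_dvd_prime_iff_eq hp Nat.prime_two).1 (hp.dvd_of_dvd_pow (h.trans hd)))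
  have hnpow : ∀ i : ℕ, n ^ i * z * (n ^ i)⁻¹ = if Even i then z else z⁻¹ := by
    intro i
    induction i with
    | zero => simp
    | succ i ih =>
      rw [pow_succ', mul_inv_rev, show n * n ^ i * z * ((n ^ i)⁻¹ * n⁻¹) =
        n * (n ^ i * z * (n ^ i)⁻¹) * n⁻¹ by group, ih]
      by_cases hi : Even i
      · rw [if_pos hi, if_neg (by simp [Nat.even_add_one, hi]), hnz']
      · rw [if_neg hi, if_pos (by simp [Nat.even_add_one, hi]),
          show n * z⁻¹ * n⁻¹ = (n * z * n⁻¹)⁻¹ by group, hnz', inv_inv]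
  have htz : t * z * t⁻¹ = z⁻¹ := by
    rw [htdef, hnpow, if_neg (Nat.not_even_iff_odd.2 hmodd)]
  have htt : t * t * z = z * (t * t) := by
    have := hnpow (m + m)
    rw [if_pos (Even.add_self m), pow_add, ← htdef] at this
    exact mul_inv_eq_iff_eq_mul.1 this
  have htN : t ∈ Subgroup.normalizer (D : Set G) := by
    rw [← hS, htdef]; exact pow_mem hn _
  have htD : ∀ d ∈ D, t * d * t⁻¹ ∈ D := fun d hd =>
    (Subgroup.mem_normalizer_iff.1 htN d).1 hd
  have ht2 : ¬ p ∣ orderOf (t * t) := fun h => ht (h.trans (by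
    rw [← pow_two]; exact orderOf_pow_dvd 2))
  have httD : ∀ d ∈ D, t * t * d * (t * t)⁻¹ ∈ D := fun d hd => by
    rw [show t * t * d * (t * t)⁻¹ = t * (t * d * t⁻¹) * t⁻¹ by group]
    exact htD _ (htD d hd)
  have hzz : z⁻¹ ≠ z := fun h => by
    have h2 : orderOf z ∣ 2 := orderOf_dvd_of_pow_eq_one (by
      rw [pow_two]; nth_rewrite 1 [← h]; exact inv_mul_cancel z)
    have h1 : orderOf z = p := orderOf_eq_prime (hexp z hz) hz1'
    rw [h1] at h2
    exact hp2 ((Nat.prime_dvd_prime_iff_eq hp Nat.prime_two).1 h2)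
  let φ : D →* D := MonoidHom.mk' (fun d => ⟨t * d * t⁻¹, htD d d.2⟩)
    fun d e => Subtype.ext (show t * (d * e) * t⁻¹ = t * d * t⁻¹ * (t * e * t⁻¹) by group)
  have hfree : MonoidHom.FixedPointFree φ := by
    intro d hd
    by_contra hd1
    have hdu : t * (d : G) = d * t := mul_inv_eq_iff_eq_mul.1 (congrArg Subtype.val hd)
    have h1 : t * z = z * t := commute_of_fix hDp
      (hnc d.2 fun h => hd1 (Subtype.ext h)) ht htD hdu hz (hzcomm d d.2).symm
    rw [mul_inv_eq_iff_eq_mul, h1] at htz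
    exact hzz (mul_right_cancel htz).symm
  have hinv : Function.Involutive φ := by
    intro d
    refine Subtype.ext ?_
    show t * (t * d * t⁻¹) * t⁻¹ = d
    have h1 : t * t * (d : G) = d * (t * t) := commute_of_fix hDp (hnc hz hz1') ht2 httD htt
      d.2 (hzcomm d d.2)
    rw [show t * (t * (d : G) * t⁻¹) * t⁻¹ = t * t * d * (t * t)⁻¹ by group, h1, mul_inv_cancel_right]
  exact congrArg Subtype.val (hfree.commute_all_of_involutive hinv a b).eq

end Cfsg.Agent.S4606
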