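import Cfsg.Statements.S4609
import Cfsg.Agent.Lib.SmallAbelianDefect.Block
import Cfsg.Agent.Lib.HeightPSolv.Principal
import Cfsg.Agent.Lib.PGroup.Frattini
import Cfsg.Agent.S4607
import Cfsg.Agent.S4733


set_option autoImplicit false
open Cfsg

namespace Cfsg.Agent.S4609

open Cfsg.Agent.Lib
open scoped Classical

/-- A block has a member trivial on any normal `p`-subgroup. -/
theorem exists_mem_trivial {G : Type*} [Group G] [Finite G] {p : ℕ} [Fact p.Prime]
    {M : Ideal AlgInt} [M.IsPrime] (hM : IsPModular p M) {W : Subgroup G} [W.Normal]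
    (hW : IsPGroup p W) {e : Set (IrrCharacter G)} (he : IsPBlock M e) :
    ∃ θ ∈ e, ∀ z ∈ W, (θ : G → ℂ) z = (θ : G → ℂ) 1 := by
  cases nonempty_fintype G
  by_contra hno
  push Not at hno
  have h0 : ∀ χ ∈ e, ∑ z : W, (χ : G → ℂ) z = 0 := fun χ hχ => by
    by_contra h
    obtain ⟨z, hz, hne⟩ := hno χ hχ
    exact hne (Blocks.Covering.eq_one_of_sum_ne_zero χ h ⟨z, hz⟩)
  have hsum : ∑ z : W, blockCoeff e (z : G) = 0 := by
    simp only [Blocks.blockCoeff_eq_sum, ← Finset.mul_sum]
    rw [Finset.sum_comm]
    refine mul_eq_zero_of_right _ (Finset.sum_eq_zero fun χ _ => ?_)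
    by_cases hχ : χ ∈ e
    · simp only [if_pos hχ]
      rw [← Finset.mul_sum, ← map_sum, h0 χ hχ, map_zero, mul_zero]
    · simp [if_neg hχ]
  rw [Finset.sum_eq_single (1 : W)] at hsum
  · obtain ⟨χ₀, hχ₀⟩ := Blocks.isPBlock_nonempty he
    rw [OneMemClass.coe_one, Blocks.blockCoeff_eq_sum, mul_eq_zero,
      inv_eq_zero, Nat.cast_eq_zero] at hsum
    rcases hsum with h | h
    · exact Nat.card_pos.ne' h
    · have h' : ((∑ χ : IrrCharacter G,
          if χ ∈ e then charDegree (χ : G → ℂ) * charDegree (χ : G → ℂ) else 0 : ℕ) : ℂ) = 0 := by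
        rw [← h, Nat.cast_sum]
        refine Finset.sum_congr rfl fun χ _ => ?_
        rw [(Blocks.exists_degree_eq χ).1]
        by_cases hχ : χ ∈ e <;> simp [hχ]
      rw [Nat.cast_eq_zero, Finset.sum_eq_zero_iff] at h'
      have := h' χ₀ (Finset.mem_univ _)
      rw [if_pos hχ₀, mul_self_eq_zero] at this
      exact (Blocks.exists_degree_eq χ₀).2.1 this
  · intro z _ hz
    refine Blocks.blockCoeff_eq_zero_of_pSingular hM he ?_
    obtain ⟨k, hk⟩ := IsPGroup.iff_orderOf.1 hW z
    rw [Subgroup.orderOf_coe, hk]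
    refine dvd_pow_self p fun hk0 => hz ?_
    rwa [hk0, pow_zero, orderOf_eq_one_iff] at hk
  · exact fun h => absurd (Finset.mem_univ _) h

/-- A block with at most three characters of height zero has a defect group of at most three
elements, if the group is normal. -/
theorem natCard_le_three_of_normal {G : Type*} [Group G] [Finite G] {p : ℕ} [Fact p.Prime]
    {M : Ideal AlgInt} [M.IsPrime] (hM : IsPModular p M) {b : Set (IrrCharacter G)}
    (hb : IsPBlock M b) {D : Subgroup G} [D.Normal] (hD : IsDefectGroup p M b D)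
    (h3 : Nat.card {ψ : IrrCharacter G // ψ ∈ b ∧ blockHeight p b (ψ : G → ℂ) = 0} ≤ 3) :
    Nat.card D ≤ 3 := by
  have hp : p.Prime := Fact.out
  have hDp : IsPGroup p D := Blocks.isPGroup_of_isDefectGroup hD
  set W : Subgroup G := ⁅D, D⁆ with hWdef
  have hWD : W ≤ D := Subgroup.commutator_le_self D
  obtain ⟨χ₀, hχ₀, hker⟩ := exists_mem_trivial hM (hDp.to_le hWD) hb
  obtain ⟨ψ₀, hψ₀⟩ := Chars.exists_irr_quotient W χ₀ hker
  set bq := blockOf M (ψ₀ : G ⧸ W → ℂ) with hbqdef
  have hbq : IsPBlock M bq := Blocks.isPBlock_blockOf ψ₀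
  have hinf : ∀ φ ∈ bq, Chars.inflate W φ ∈ b := by
    intro φ hφ
    have h := HeightPSolv.sameBlock_inflate W (Blocks.mem_blockOf.1 hφ)
    rw [show (fun g : G => (ψ₀ : G ⧸ W → ℂ) g) = (χ₀ : G → ℂ) from funext hψ₀] at h
    obtain ⟨θ₀, hθ₀⟩ := id hb
    rw [hθ₀, Blocks.mem_blockOf] at hχ₀ ⊢
    exact Blocks.sameBlock_trans hχ₀ h
  set V : Subgroup (G ⧸ W) := D.map (QuotientGroup.mk' W) with hVdef
  haveI : V.Normal := Subgroup.Normal.map inferInstance _ (QuotientGroup.mk'_surjective W)
  have hVp : IsPGroup p V := hDp.map _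
  have hVab : ∀ x ∈ V, ∀ y ∈ V, x * y = y * x := by
    rintro _ ⟨x, hx, rfl⟩ _ ⟨y, hy, rfl⟩
    rw [← map_mul, ← map_mul, QuotientGroup.mk'_apply, QuotientGroup.mk'_apply, QuotientGroup.eq]
    have h : (y⁻¹ * x⁻¹ * y⁻¹⁻¹ * x⁻¹⁻¹) ∈ W :=
      Subgroup.commutator_mem_commutator (inv_mem hy) (inv_mem hx)
    simpa [mul_assoc] using h
  have hcard : Nat.card V * Nat.card W = Nat.card D := by
    let f : D →* G ⧸ W := (QuotientGroup.mk' W).comp D.subtype
    have hr : f.range = V := by rw [MonoidHom.range_comp, Subgroup.range_subtype]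
    have hk : f.ker = W.subgroupOf D := by
      rw [← MonoidHom.comap_ker, QuotientGroup.ker_mk']; rfl
    rw [← hr, ← Nat.card_congr (QuotientGroup.quotientKerEquivRange f).toEquiv,
      ← Nat.card_congr (Subgroup.subgroupOfEquivOfLe hWD).toEquiv, ← hk,
      ← Subgroup.card_eq_card_quotient_mul_card_subgroup]
  have hDv : (Nat.card D).factorization p = blockDefect p b := by
    rw [Blocks.card_defectGroup hM hb hD, hp.factorization_pow, Finsupp.single_eq_same]
  have hsplit : (Nat.card D).factorization p =
      (Nat.card V).factorization p + (Nat.card W).factorization p := by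
    rw [← hcard, Nat.factorization_mul Nat.card_pos.ne' Nat.card_pos.ne', Finsupp.add_apply]
  have hGq : (Nat.card G).factorization p =
      (Nat.card (G ⧸ W)).factorization p + (Nat.card W).factorization p := by
    rw [← Finsupp.add_apply, ← Nat.factorization_mul Nat.card_pos.ne' Nat.card_pos.ne',
      ← Subgroup.card_eq_card_quotient_mul_card_subgroup]
  have hdegeq : ∀ φ : IrrCharacter (G ⧸ W),
      charDegree (Chars.inflate W φ : G → ℂ) = charDegree (φ : G ⧸ W → ℂ) := fun φ => rfl
  -- the defect of the quotient block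
  obtain ⟨Dq, hDq⟩ := Blocks.exists_isDefectGroup (p := p) hbq
  have hVDq : V ≤ Dq := Blocks.normal_le_defectGroup hM hVp hbq hDq
  have hdq : blockDefect p bq ≤ (Nat.card V).factorization p := by
    obtain ⟨φ, hφ, hh⟩ := Blocks.exists_height_zero (p := p) hbq
    have h1 := Blocks.factorization_degree_add_blockDefect hM hb (hinf φ hφ)
    have h2 := Blocks.factorization_degree_add_blockDefect hM hbq hφ
    rw [hdegeq] at h1
    omega
  have hDqV : V = Dq := by
    refine Subgroup.eq_of_le_of_card_ge hVDq ?_
    rw [Blocks.card_defectGroup hM hbq hDq]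
    obtain ⟨n, hn⟩ := IsPGroup.iff_card.1 hVp
    rw [hn, hp.factorization_pow, Finsupp.single_eq_same] at hdq
    rw [hn]
    exact Nat.pow_le_pow_right hp.pos hdq
  have hzero : ∀ φ ∈ bq, blockHeight p b (Chars.inflate W φ : G → ℂ) = 0 := by
    intro φ hφ
    obtain ⟨d, hd0, hd, hdvd⟩ := KGV.exists_degree_dvd_index V hVab φ
    have hcd : charDegree (φ : G ⧸ W → ℂ) = d := by simp [charDegree, hd]
    have h1 := Blocks.factorization_degree_add_blockDefect hM hb (hinf φ hφ)
    have h5 : (Nat.card (G ⧸ W)).factorization p =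
        V.index.factorization p + (Nat.card V).factorization p := by
      rw [← Finsupp.add_apply, ← Nat.factorization_mul Subgroup.index_ne_zero_of_finite
        Nat.card_pos.ne', V.index_mul_card]
    have h6 : d.factorization p ≤ V.index.factorization p :=
      (Nat.factorization_le_iff_dvd hd0.ne' Subgroup.index_ne_zero_of_finite).2 hdvd p
    rw [hdegeq, hcd] at h1
    omega
  have hk : Nat.card bq ≤ 3 := by
    refine le_trans (Nat.card_le_card_of_injective
      (fun φ : bq => (⟨Chars.inflate W φ, hinf _ φ.2, hzero _ φ.2⟩ :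
        {ψ : IrrCharacter G // ψ ∈ b ∧ blockHeight p b (ψ : G → ℂ) = 0}))
      fun a c h => Subtype.ext (Chars.inflate_injective W (congrArg Subtype.val h))) h3
  cases nonempty_fintype (G ⧸ W)
  have hV3 : Nat.card V ≤ 3 :=
    SmallAbelianDefect.natCard_le_three_of_normal_abelian hM hbq (hDqV ▸ hDq) hVab hk
  -- `D` is cyclic, hence `W` is trivial
  have hCW : Nat.card (commutator D) = Nat.card W := by
    rw [hWdef, ← Subgroup.map_subtype_commutator, Subgroup.card_map_of_injective D.subtype_injective]
  have hcyc : IsCyclic D := by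
    have hΦ : commutator D ≤ frattini D := PFrattini.commutator_le_frattini hDp
    have hix : (commutator D).index = Nat.card V := by
      have h := (commutator D).index_mul_card
      rw [hCW, ← hcard] at h
      exact Nat.eq_of_mul_eq_mul_right Nat.card_pos h
    by_cases h1 : (commutator D) = ⊤
    · have h : (⊥ : Subgroup D) ⊔ frattini D = ⊤ := by rw [bot_sup_eq, eq_top_iff, ← h1]; exact hΦ
      haveI : Subsingleton D :=
        Subgroup.subsingleton_iff.1 (subsingleton_of_bot_eq_top (frattini_nongenerating h))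
      exact isCyclic_of_subsingleton
    · obtain ⟨x, -, hx⟩ := SetLike.exists_of_lt (lt_top_iff_ne_top.2 h1)
      refine ⟨⟨x, fun y => ?_⟩⟩
      have h : Subgroup.zpowers x ⊔ frattini D = ⊤ := by
        refine eq_top_iff.2 (le_trans ?_ (sup_le_sup_left hΦ _))
        set K := Subgroup.zpowers x ⊔ commutator D
        have hK1 : K.index * (commutator D).relIndex K = (commutator D).index := by
          rw [mul_comm]; exact Subgroup.relIndex_mul_index le_sup_right
        have hne : (commutator D).relIndex K ≠ 1 := fun hr => hx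
          (Subgroup.relIndex_eq_one.1 hr (le_sup_left (b := commutator D) (Subgroup.mem_zpowers x)))
        have hK0 : K.index ≠ 0 := Subgroup.index_ne_zero_of_finite
        have hR0 : (commutator D).relIndex K ≠ 0 := fun h0 => by
          rw [h0, mul_zero] at hK1
          exact Subgroup.index_ne_zero_of_finite hK1.symm
        rw [hix] at hK1
        have : K.index = 1 := by
          by_contra hne1
          have : 2 * 2 ≤ K.index * (commutator D).relIndex K :=
            Nat.mul_le_mul (by omega) (by omega)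
          omega
        rw [Subgroup.index_eq_one] at this
        exact this.ge
      have htop : Subgroup.zpowers x = ⊤ := frattini_nongenerating h
      exact Subgroup.mem_zpowers_iff.1 (htop.ge (Subgroup.mem_top y))
  have hW1 : W = ⊥ := by
    haveI := hcyc
    refine (Subgroup.commutator_eq_bot_iff_le_centralizer).2 fun x hx => ?_
    refine Subgroup.mem_centralizer_iff.2 fun y hy => ?_
    exact congrArg Subtype.val ((IsCyclic.commGroup (α := D)).mul_comm ⟨y, hy⟩ ⟨x, hx⟩)
  have hW' : Nat.card W = 1 := by rw [hW1, Subgroup.card_bot]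
  rw [hW', mul_one] at hcard
  omega

/-- Let G be a finite group, p a prime, M a maximal ideal of the algebraic integers containing p, and B a p-block of G with defect group D containing exactly three irreducible characters. Suppose the number of height-zero characters of B equals the number of height-zero characters of its Brauer correspondent b, the block of N_G(D) with defect group D inducing B (as the Alperin–McKay conjecture predicts). Then D has order 3. -/
theorem result {G : Type*} [Group G] [Finite G] (p : ℕ) [Fact p.Prime] (M : Ideal Cfsg.AlgInt) (hM : Cfsg.IsPModular p M) (B : Set (Cfsg.IrrCharacter G)) (hB : Cfsg.IsPBlock M B) (D : Subgroup G) (hD : Cfsg.IsDefectGroup p M B D) (hk : Nat.card B = 3)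
    (b : Set (Cfsg.IrrCharacter (Subgroup.normalizer (D : Set G)))) (hbB : Cfsg.IsInducedBlock M (Subgroup.normalizer (D : Set G)) b B)
    (hbD : Cfsg.IsDefectGroup p M b (D.subgroupOf (Subgroup.normalizer (D : Set G))))
    (hAM : Nat.card {χ : Cfsg.IrrCharacter G // χ ∈ B ∧ Cfsg.blockHeight p B (χ : G → ℂ) = 0} =
           Nat.card {ψ : Cfsg.IrrCharacter (Subgroup.normalizer (D : Set G)) // ψ ∈ b ∧ Cfsg.blockHeight p b (ψ : Subgroup.normalizer (D : Set G) → ℂ) = 0}) :
    Nat.card D = 3 := by
  haveI := Cfsg.Agent.Lib.Blocks.isPModular_isPrime hM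
  have hp : p.Prime := Fact.out
  obtain ⟨hb, -⟩ := id hbB
  haveI : (D.subgroupOf (Subgroup.normalizer (D : Set G))).Normal := Subgroup.normal_in_normalizer
  have h3 : Nat.card {ψ : IrrCharacter (Subgroup.normalizer (D : Set G)) //
      ψ ∈ b ∧ blockHeight p b (ψ : Subgroup.normalizer (D : Set G) → ℂ) = 0} ≤ 3 := by
    rw [← hAM, ← hk]
    haveI : Finite B := Nat.finite_of_card_ne_zero (by omega)
    exact Nat.card_le_card_of_injective (fun χ => (⟨χ.1, χ.2.1⟩ : B))
      fun a c h => Subtype.ext (congrArg (fun x : B => x.1) h)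
  have h := natCard_le_three_of_normal hM hb hbD h3
  rw [Nat.card_congr (Subgroup.subgroupOfEquivOfLe Subgroup.le_normalizer).toEquiv] at h
  have hcard := Cfsg.Agent.Lib.Blocks.card_defectGroup hM hB hD
  have h1 : Nat.card D ≠ 1 := fun h1 => by
    rw [hcard] at h1
    have h0 : blockDefect p B = 0 :=
      Nat.pow_right_injective hp.two_le (h1.trans (pow_zero p).symm)
    have := ((S4733.result p M hM B hB).2.1.1 h0).1
    omega
  have h2 : Nat.card D ≠ 2 := fun h2 => by
    have := (S4607.result p M hM B hB D hD).2 h2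
    omega
  have : 0 < Nat.card D := Nat.card_pos
  omega

end Cfsg.Agent.S4609
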