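import Cfsg.Statements.S4611
import Mathlib
import Cfsg.Agent.Lib.HeightPSolv.Principal
import Cfsg.Agent.Lib.SolvableCore.Basic
import Cfsg.Agent.Lib.PSolvable.Core

set_option autoImplicit false
open Cfsg

namespace Cfsg.Agent.S4611

theorem mem_principalBlock_of_trivial {G : Type*} [Group G] [Finite G] [Group.IsSolvable G]
    {p : ℕ} {M : Ideal Cfsg.AlgInt} (hM : Cfsg.IsPModular p M) {χ : Cfsg.IrrCharacter G}
    (h : ∀ x ∈ Cfsg.pPrimeCore p G, (χ : G → ℂ) x = (χ : G → ℂ) 1) :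
    χ ∈ Cfsg.principalBlock M G := by
  haveI := Fact.mk hM.1
  haveI := hM.2.1.isPrime
  haveI := Cfsg.Agent.Lib.PSolvable.pPrimeCore_characteristic (G := G) (p := p)
  obtain ⟨ψ, hψ⟩ := Cfsg.Agent.Lib.Chars.exists_irr_quotient (Cfsg.pPrimeCore p G) χ h
  have hC := Cfsg.Agent.Lib.SolvableCore.centralizer_pCore_le
    (G := G ⧸ Cfsg.pPrimeCore p G) inferInstance
    Cfsg.Agent.Lib.PSolvable.pPrimeCore_quotient_eq_bot
  haveI := Cfsg.Agent.Lib.PSolvable.pCore_characteristic (G := G ⧸ Cfsg.pPrimeCore p G) (p := p)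
  have h1 := Cfsg.Agent.Lib.HeightPSolv.sameBlock_inflate (Cfsg.pPrimeCore p G)
    (Cfsg.Agent.Lib.HeightPSolv.sameBlock_of_centralizer_le hM _
      Cfsg.Agent.Lib.PSolvable.pCore_isPGroup hC (Cfsg.Agent.Lib.Chars.trivialIrr _) ψ)
  show Cfsg.SameBlock M (fun _ : G => (1 : ℂ)) (χ : G → ℂ)
  rw [show (χ : G → ℂ) = fun g : G => (ψ : _ → ℂ) (g : G ⧸ Cfsg.pPrimeCore p G) from
    funext fun g => (hψ g).symm]
  exact h1
/-- Let G be a finite solvable group and π a nonempty set of primes, each dividing the order of G; fix for each p in π a maximal ideal M p of the algebraic integers containing p. Then the only irreducible character lying in the principal p-block for every p in π is the principal character if and only if G is generated by the subgroups O_{p'}(G), p in π (the largest normal subgroups of order prime to p). -/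
theorem result {G : Type*} [Group G] [Finite G] [Group.IsSolvable G] (π : Set ℕ) (hπ : ∀ p ∈ π, p.Prime ∧ p ∣ Nat.card G) (hne : π.Nonempty) (M : ℕ → Ideal Cfsg.AlgInt) (hM : ∀ p ∈ π, Cfsg.IsPModular p (M p)) :
    (∀ χ : Cfsg.IrrCharacter G, (∀ p ∈ π, χ ∈ Cfsg.principalBlock (M p) G) → (χ : G → ℂ) = fun _ => 1) ↔
      ⨆ p ∈ π, Cfsg.pPrimeCore p G = ⊤ := by
  classical
  cases nonempty_fintype G
  set J := ⨆ p ∈ π, Cfsg.pPrimeCore p G with hJ
  haveI : J.Normal := by
    refine ⟨fun x hx g => ?_⟩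
    have hle : J ≤ J.comap (MulAut.conj g).toMonoidHom := by
      refine iSup₂_le fun p hp y hy => ?_
      haveI := Cfsg.Agent.Lib.PSolvable.pPrimeCore_characteristic (G := G) (p := p)
      exact Subgroup.mem_iSup_of_mem p (Subgroup.mem_iSup_of_mem hp
        ((inferInstance : (Cfsg.pPrimeCore p G).Normal).conj_mem y hy g))
    exact hle hx
  constructor
  · intro h
    by_contra hne
    haveI : Nontrivial (G ⧸ J) := by
      obtain ⟨x, hx⟩ : ∃ x, x ∉ J := by
        by_contra hall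
        exact hne (eq_top_iff.mpr fun x _ => not_not.mp fun hx => hall ⟨x, hx⟩)
      exact ⟨⟨x, 1, fun e => hx ((QuotientGroup.eq_one_iff x).mp e)⟩⟩
    letI : Fintype (G ⧸ J) := Fintype.ofFinite _
    obtain ⟨ψ, hψ⟩ : ∃ ψ : Cfsg.IrrCharacter (G ⧸ J),
        (ψ : G ⧸ J → ℂ) ≠ fun _ => 1 := by
      by_contra hall
      push Not at hall
      obtain ⟨q, hq⟩ := exists_ne (1 : G ⧸ J)
      have hc : IsConj q 1 := Cfsg.Agent.Lib.Chars.isConj_iff_irr.mpr fun χ => by rw [hall χ]
      exact hq (isConj_one_left.mp hc)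
    refine hψ (funext fun q => ?_)
    obtain ⟨g, rfl⟩ := QuotientGroup.mk'_surjective J q
    have h1 := h (Cfsg.Agent.Lib.Chars.inflate J ψ) fun p hp =>
      mem_principalBlock_of_trivial (hM p hp) fun x hx => by
        have hxJ : x ∈ J := Subgroup.mem_iSup_of_mem p (Subgroup.mem_iSup_of_mem hp hx)
        show (ψ : G ⧸ J → ℂ) x = (ψ : G ⧸ J → ℂ) ((1 : G) : G ⧸ J)
        rw [(QuotientGroup.eq_one_iff x).mpr hxJ, QuotientGroup.mk_one]
    exact congrFun h1 g
  · intro hJtop χ hχ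
    obtain ⟨n, ρ, hρ, hχρ⟩ := χ.2
    have hker : J ≤ MonoidHom.ker ρ := by
      refine iSup₂_le fun p hp x hx => ?_
      haveI := Fact.mk (hM p hp).1
      haveI := Cfsg.Agent.Lib.PSolvable.pPrimeCore_characteristic (G := G) (p := p)
      have := Cfsg.Agent.Lib.HeightPSolv.apply_eq_one_of_mem_principalBlock (hM p hp)
        (Cfsg.pPrimeCore p G) Cfsg.Agent.Lib.PSolvable.pPrimeCore_not_dvd (hχ p hp) hx
      rw [MonoidHom.mem_ker, Cfsg.Agent.Lib.Chars.rep_eq_one_iff, hχρ]
      exact this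
    have hconst : ∀ g, (χ : G → ℂ) g = (χ : G → ℂ) 1 := fun g => by
      have hg : ρ g = 1 := hker (by rw [hJtop]; trivial)
      rw [← hχρ]
      exact (Cfsg.Agent.Lib.Chars.rep_eq_one_iff ρ g).mp hg
    have h1 := Cfsg.Agent.Lib.Chars.classInner_irr χ (Cfsg.Agent.Lib.Chars.trivialIrr G)
    by_contra hne
    rw [if_neg fun e => hne (congrArg Subtype.val e)] at h1
    simp only [Cfsg.classInner, show ∀ g, (Cfsg.Agent.Lib.Chars.trivialIrr G : G → ℂ) g = 1
      from fun _ => rfl, map_one, mul_one, hconst, Finset.sum_const, nsmul_eq_mul] at h1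
    rcases mul_eq_zero.mp h1 with h2 | h2
    · simp [Nat.card_pos.ne'] at h2
    · rcases mul_eq_zero.mp h2 with h3 | h3
      · simp at h3
      · exact Cfsg.Agent.Lib.Chars.irr_apply_one_ne_zero χ h3

end Cfsg.Agent.S4611
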