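import Cfsg.Statements.S4613
import Mathlib
import Cfsg.Agent.Lib.FixSylow.Linear
import Cfsg.Agent.Lib.FixSylow.Symplectic
import Cfsg.Agent.Lib.FixSylow.Unitary
import Cfsg.Agent.Lib.FixSylow.Orthogonal
import Cfsg.Agent.Lib.FixSylow.Exceptional
import Cfsg.Agent.Lib.FixSylow.Twisted
import Cfsg.Agent.Lib.FixSylow.Suzuki
-- import your own Cfsg.Agent.* helpers here

set_option autoImplicit false
open Cfsg

namespace Cfsg.Agent.S4613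


/-- Let G be a finite simple group of Lie type in characteristic p and α an automorphism of G of order prime to p that fixes some Sylow p-subgroup of G elementwise. Then α is the identity. -/
theorem result {G : Type*} [Group G] [Finite G] [IsSimpleGroup G] (p : ℕ) [Fact p.Prime] (hG : Cfsg.IsLieTypeChar p G) (α : MulAut G) (hα : ¬ p ∣ orderOf α) (U : Sylow p G) (hfix : ∀ x ∈ (U : Subgroup G), α x = x) : α = 1 := by
  classical
  suffices h : Lib.FixSylow.Rigid p G from h α hα U hfix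
  rcases hG with ⟨F, _, _, _, n, hn, -, ⟨e⟩⟩ | ⟨F, _, _, _, m, hm, -, ⟨e⟩⟩ |
    ⟨F, _, _, _, n, q, hF, hn, hex, ⟨e⟩⟩ | ⟨F, _, _, _, m, hm, hodd, ⟨e⟩⟩ |
    ⟨F, _, _, _, m, hm, ⟨e⟩⟩ | ⟨F, _, _, _, m, a, b, hm, hab, ⟨e⟩⟩ |
    ⟨F, _, _, _, h⟩ | ⟨K, _, _, _, q, hq, h⟩ | ⟨rfl, h⟩ | ⟨rfl, h⟩ | ⟨rfl, h⟩
  · haveI := e.symm.isSimpleGroup
    exact (Lib.FixSylow.Linear.rigid F n hn).of_equiv e
  · haveI := e.symm.isSimpleGroup
    exact (Lib.FixSylow.Symplectic.rigid F m hm).of_equiv e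
  · exact (Lib.FixSylow.Unitary.rigid F n q hF hn hex).of_equiv e
  · exact (Lib.FixSylow.Orthogonal.rigid_odd F m hm hodd).of_equiv e
  · exact (Lib.FixSylow.Orthogonal.rigid_plus F m (by omega)).of_equiv e
  · exact (Lib.FixSylow.Orthogonal.rigid_minus F m hm a b hab).of_equiv e
  · rcases h with ⟨-, ⟨e⟩⟩ | ⟨⟨e⟩⟩ | ⟨⟨e⟩⟩ | ⟨⟨e⟩⟩ | ⟨⟨e⟩⟩
    · exact (Lib.FixSylow.rigid_chev ⟨Lib.Chev.checked_G2, Lib.Chev.descent_G2⟩ Lib.Chev.conn_G2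
        (le_of_eq rfl)).of_equiv e
    · exact (Lib.FixSylow.rigid_chev ⟨Lib.Chev.checked_F4, Lib.Chev.descent_F4⟩ Lib.Chev.conn_F4
        (by decide)).of_equiv e
    · exact (Lib.FixSylow.rigid_chev ⟨Lib.Chev.checked_E6, Lib.Chev.descent_E6⟩ Lib.Chev.conn_E6
        (by decide)).of_equiv e
    · exact (Lib.FixSylow.rigid_chev ⟨Lib.Chev.checked_E7, Lib.Chev.descent_E7⟩ Lib.Chev.conn_E7
        (by decide)).of_equiv e
    · exact (Lib.FixSylow.rigid_chev ⟨Lib.Chev.checked_E8, Lib.Chev.descent_E8⟩ Lib.Chev.conn_E8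
        (by decide)).of_equiv e
  · rcases h with ⟨hK, ⟨e⟩⟩ | ⟨hK, ⟨e⟩⟩
    · exact (Lib.FixSylow.rigid_twistedE6 hq hK).of_equiv e
    · exact (Lib.FixSylow.rigid_twistedD4 hq hK).of_equiv e
  · obtain ⟨F, _, _, m, hm, hF, ⟨e⟩⟩ := h
    exact (Lib.FixSylow.rigid_sz ⟨hm, hF⟩).of_equiv e
  · obtain ⟨K, _, _, m, -, hK, ⟨e⟩⟩ := h
    exact (Lib.FixSylow.rigid_twistedF4 hK).of_equiv e
  · obtain ⟨K, _, _, m, -, hK, ⟨e⟩⟩ := h
    exact (Lib.FixSylow.rigid_twistedG2 hK).of_equiv e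

end Cfsg.Agent.S4613
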