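import Cfsg.Statements.S4620
import Mathlib
import Cfsg.Agent.Lib.PSolvable.Core
import Cfsg.Agent.Lib.MinimalNormal

set_option autoImplicit false
open scoped Pointwise
open Cfsg

namespace Cfsg.Agent.S4620

/-- The Sylow subgroups are trivial intersection sets. -/
def TISylows (p : ℕ) (A : Type*) [Group A] : Prop :=
  ∀ S : Sylow p A, ∀ x ∈ (S : Subgroup A), x ≠ 1 → ∀ k : A, k * x * k⁻¹ ∈ (S : Subgroup A) →
    k ∈ Subgroup.normalizer ((S : Subgroup A) : Set A)

theorem tiSylows_of_one {A : Type*} [Group A] [Finite A] {p : ℕ} [Fact p.Prime] (P : Sylow p A)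
    (hTI : ∀ g : A, g ∉ Subgroup.normalizer ((P : Subgroup A) : Set A) →
      (P : Subgroup A) ⊓ (MulAut.conj g • (P : Subgroup A)) = ⊥) : TISylows p A := by
  intro S x hx hx1 k hk
  obtain ⟨c, hc⟩ := MulAction.exists_smul_eq A P S
  have hS : ∀ y, y ∈ (S : Subgroup A) ↔ c⁻¹ * y * c ∈ (P : Subgroup A) := by
    intro y
    rw [← hc]
    constructor
    · rintro ⟨u, hu, rfl⟩
      show c⁻¹ * (c * u * c⁻¹) * c ∈ (P : Subgroup A)
      rw [show c⁻¹ * (c * u * c⁻¹) * c = u by group]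
      exact hu
    · intro hu
      exact ⟨_, hu, by simp [mul_assoc]⟩
  have h1 : c⁻¹ * k * c ∈ Subgroup.normalizer ((P : Subgroup A) : Set A) := by
    by_contra hn
    have h2 : c⁻¹ * (k * x * k⁻¹) * c ∈
        (P : Subgroup A) ⊓ (MulAut.conj (c⁻¹ * k * c) • (P : Subgroup A)) :=
      ⟨(hS _).mp hk, ⟨c⁻¹ * x * c, (hS _).mp hx, by simp [mul_assoc]⟩⟩
    rw [hTI _ hn, Subgroup.mem_bot] at h2
    apply hx1
    calc x = k⁻¹ * c * (c⁻¹ * (k * x * k⁻¹) * c) * c⁻¹ * k := by group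
      _ = 1 := by rw [h2]; group
  refine Subgroup.mem_normalizer_iff.mpr fun y => ?_
  rw [hS, hS, Subgroup.mem_normalizer_iff.mp h1 (c⁻¹ * y * c),
    show c⁻¹ * k * c * (c⁻¹ * y * c) * (c⁻¹ * k * c)⁻¹ = c⁻¹ * (k * y * k⁻¹) * c by group]

theorem tiSylows_subgroup {A : Type*} [Group A] [Finite A] {p : ℕ} [Fact p.Prime]
    (h : TISylows p A) (N : Subgroup A) : TISylows p N := by
  intro Q x hx hx1 k hk
  obtain ⟨S, hS⟩ := (Q.isPGroup'.map N.subtype).exists_le_sylow
  have hQ : (S : Subgroup A).comap N.subtype = (Q : Subgroup N) :=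
    Q.is_maximal' (S.isPGroup'.comap_of_injective _ N.subtype_injective)
      fun y hy => hS ⟨y, hy, rfl⟩
  have h1 := h S (x : A) (hS ⟨x, hx, rfl⟩) (fun e => hx1 (Subtype.ext e)) (k : A)
    (hS ⟨_, hk, by simp⟩)
  refine Subgroup.mem_normalizer_iff.mpr fun y => ?_
  rw [← hQ]
  exact Subgroup.mem_normalizer_iff.mp h1 (y : A)

theorem normal_pGroup_eq_bot {A : Type*} [Group A] {p : ℕ} (hOp : Cfsg.pCore p A = ⊥)
    {X : Subgroup A} (hX : X.Normal) (hp : IsPGroup p X) : X = ⊥ :=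
  le_bot_iff.mp (hOp ▸ le_sSup ⟨hX, hp⟩)

theorem normal_coprime_eq_bot {A : Type*} [Group A] {p : ℕ} (hOp' : Cfsg.pPrimeCore p A = ⊥)
    {X : Subgroup A} (hX : X.Normal) (hp : (Nat.card X).Coprime p) : X = ⊥ :=
  le_bot_iff.mp (hOp' ▸ le_sSup ⟨hX, hp⟩)

theorem exists_orderOf_eq_of_normal {A : Type*} [Group A] [Finite A] {p : ℕ} [Fact p.Prime]
    (hOp' : Cfsg.pPrimeCore p A = ⊥) {M : Subgroup A} (hM : M.Normal) (hne : M ≠ ⊥) :
    ∃ x ∈ M, orderOf x = p := by
  have hd : p ∣ Nat.card M := by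
    by_contra hnd
    exact hne (normal_coprime_eq_bot hOp' hM
      (((Fact.out : p.Prime).coprime_iff_not_dvd.mpr hnd).symm))
  obtain ⟨x, hx⟩ := exists_prime_orderOf_dvd_card' (G := M) p hd
  exact ⟨x, x.2, by rw [Subgroup.orderOf_coe, hx]⟩

theorem not_commute {A : Type*} [Group A] [Finite A] {p : ℕ} [Fact p.Prime]
    (hOp : Cfsg.pCore p A = ⊥) (hOp' : Cfsg.pPrimeCore p A = ⊥) (hTI : TISylows p A)
    {M K : Subgroup A} (hM : M.Normal) (hK : K.Normal) (hM1 : M ≠ ⊥) (hK1 : K ≠ ⊥)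
    (hc : ∀ m ∈ M, ∀ k ∈ K, m * k = k * m) : False := by
  obtain ⟨x, hxM, hx⟩ := exists_orderOf_eq_of_normal hOp' hM hM1
  obtain ⟨y, hyK, hy⟩ := exists_orderOf_eq_of_normal hOp' hK hK1
  have hp := (Fact.out : p.Prime)
  obtain ⟨S, hS⟩ := (IsPGroup.of_card (G := Subgroup.zpowers x) (n := 1)
    (by rw [Nat.card_zpowers, hx, pow_one])).exists_le_sylow
  have hxS : x ∈ (S : Subgroup A) := hS (Subgroup.mem_zpowers x)
  have hx1 : x ≠ 1 := fun e => hp.ne_one (by rw [← hx, e, orderOf_one])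
  have hKS : ∀ k ∈ K, k ∈ Subgroup.normalizer ((S : Subgroup A) : Set A) := fun k hk =>
    hTI S x hxS hx1 k (by rwa [← hc x hxM k hk, mul_inv_cancel_right])
  have hel : ∀ k ∈ K, ∀ n : ℕ, k ^ p ^ n = 1 → k ∈ (S : Subgroup A) := by
    intro k hk n hn
    obtain ⟨j, -, hj⟩ := (Nat.dvd_prime_pow hp).mp (orderOf_dvd_of_pow_eq_one hn)
    have hP : IsPGroup p (Subgroup.zpowers k) :=
      IsPGroup.of_card (n := j) (by rw [Nat.card_zpowers, hj])
    have h1 : IsPGroup p (Subgroup.zpowers k ⊔ (S : Subgroup A) : Subgroup A) :=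
      hP.to_sup_of_normal_right' S.isPGroup' (Subgroup.zpowers_le.mpr (hKS k hk))
    rw [← S.is_maximal' h1 le_sup_right]
    exact Subgroup.mem_sup_left (Subgroup.mem_zpowers k)
  have hX : (K ⊓ (S : Subgroup A)).Normal := ⟨fun z hz a => by
    refine ⟨hK.conj_mem z hz.1 a, ?_⟩
    obtain ⟨n, hn⟩ := S.isPGroup' ⟨z, hz.2⟩
    refine hel _ (hK.conj_mem z hz.1 a) n ?_
    rw [conj_pow, show z ^ p ^ n = 1 from congrArg Subtype.val hn]
    group⟩
  have hbot := normal_pGroup_eq_bot hOp hX (S.isPGroup'.to_le inf_le_right)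
  have hy' : y ∈ K ⊓ (S : Subgroup A) :=
    ⟨hyK, hel y hyK 1 (by rw [pow_one, ← hy, pow_orderOf_eq_one])⟩
  rw [hbot, Subgroup.mem_bot] at hy'
  exact hp.ne_one (by rw [← hy, hy', orderOf_one])

theorem exists_unique_minimal {A : Type*} [Group A] [Finite A] [Nontrivial A] {p : ℕ} [Fact p.Prime]
    (hOp : Cfsg.pCore p A = ⊥) (hOp' : Cfsg.pPrimeCore p A = ⊥) (hTI : TISylows p A) :
    ∃ N : Subgroup A, N.Normal ∧ N ≠ ⊥ ∧ ∀ K : Subgroup A, K.Normal → K ≠ ⊥ → N ≤ K := by
  obtain ⟨N, hN, hN1, -, hmin⟩ := Cfsg.Agent.Lib.MinimalNormal.exists_minimal_normal_le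
    (G := A) (M := ⊤) inferInstance top_ne_bot
  refine ⟨N, hN, hN1, fun K hK hK1 => ?_⟩
  rcases hmin (N ⊓ K) inferInstance inf_le_left with h | h
  · refine (not_commute hOp hOp' hTI hN hK hN1 hK1 fun m hm k hk => ?_).elim
    exact Subgroup.commute_of_normal_of_disjoint N K hN hK (disjoint_iff.mpr h) m k hm hk
  · exact inf_eq_left.mp h
/-- Let H be a finite group with no nontrivial normal p-subgroup and no nontrivial normal subgroup of order prime to p, whose Sylow p-subgroup P is nontrivial and a trivial-intersection set (P meets its conjugates by elements outside N_H(P) trivially). Then H has a unique minimal normal subgroup N; N is non-abelian simple with trivial centralizer in H (so H embeds in Aut(N)), and a Sylow p-subgroup of N is again a nontrivial trivial-intersection set in N. -/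
theorem result {H : Type*} [Group H] [Finite H] (p : ℕ) [Fact p.Prime] (hOp : Cfsg.pCore p H = ⊥) (hOp' : Cfsg.pPrimeCore p H = ⊥) (P : Sylow p H) (hP1 : (P : Subgroup H) ≠ ⊥)
    (hTI : ∀ g : H, g ∉ Subgroup.normalizer ((P : Subgroup H) : Set H) → (P : Subgroup H) ⊓ (MulAut.conj g • (P : Subgroup H)) = ⊥) :
    ∃ N : Subgroup H, N.Normal ∧ N ≠ ⊥ ∧ (∀ K : Subgroup H, K.Normal → K ≠ ⊥ → N ≤ K) ∧
      IsSimpleGroup N ∧ ¬ IsMulCommutative N ∧ Subgroup.centralizer (N : Set H) = ⊥ ∧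
      ∀ Q : Sylow p N, (Q : Subgroup N) ≠ ⊥ ∧
        ∀ n : N, n ∉ Subgroup.normalizer ((Q : Subgroup N) : Set N) → (Q : Subgroup N) ⊓ (MulAut.conj n • (Q : Subgroup N)) = ⊥ := by
  haveI : Nontrivial H := by
    obtain ⟨x, -, hx⟩ := (Subgroup.ne_bot_iff_exists_ne_one).mp hP1 |>.elim
      fun x hx => (⟨x.1, x.2, fun e => hx (Subtype.ext e)⟩ : ∃ x : H, x ∈ (P : Subgroup H) ∧ x ≠ 1)
    exact ⟨⟨x, 1, hx⟩⟩
  have hti := tiSylows_of_one P hTI
  obtain ⟨N, hN, hN1, hmin⟩ := exists_unique_minimal hOp hOp' hti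
  haveI := hN
  haveI : Nontrivial N := (Subgroup.nontrivial_iff_ne_bot N).mpr hN1
  have hNp : Cfsg.pCore p N = ⊥ := by
    haveI := Cfsg.Agent.Lib.PSolvable.pCore_characteristic (G := N) (p := p)
    refine (Subgroup.map_eq_bot_iff_of_injective _ N.subtype_injective).mp ?_
    exact normal_pGroup_eq_bot hOp ConjAct.normal_of_characteristic_of_normal
      ((Cfsg.Agent.Lib.PSolvable.pCore_isPGroup).map _)
  have hNp' : Cfsg.pPrimeCore p N = ⊥ := by
    haveI := Cfsg.Agent.Lib.PSolvable.pPrimeCore_characteristic (G := N) (p := p)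
    refine (Subgroup.map_eq_bot_iff_of_injective _ N.subtype_injective).mp ?_
    refine normal_coprime_eq_bot hOp' ConjAct.normal_of_characteristic_of_normal ?_
    rw [Subgroup.card_map_of_injective N.subtype_injective]
    exact Cfsg.Agent.Lib.PSolvable.pPrimeCore_coprime
  have htiN := tiSylows_subgroup hti N
  refine ⟨N, hN, hN1, hmin, ?_, ?_, ?_, ?_⟩
  · obtain ⟨L, hL, hL1, hLmin⟩ := exists_unique_minimal hNp hNp' htiN
    have hLc : L.Characteristic := by
      refine Subgroup.characteristic_iff_le_map.mpr fun φ => hLmin _ ?_ ?_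
      · exact Subgroup.Normal.map hL φ.toMonoidHom φ.surjective
      · exact fun e => hL1 ((Subgroup.map_eq_bot_iff_of_injective _ φ.injective).mp e)
    haveI := hLc
    have hle : N ≤ L.map N.subtype := hmin _ ConjAct.normal_of_characteristic_of_normal
      fun e => hL1 ((Subgroup.map_eq_bot_iff_of_injective _ N.subtype_injective).mp e)
    have hLtop : L = ⊤ := by
      refine eq_top_iff.mpr fun n _ => ?_
      obtain ⟨l, hl, hln⟩ := hle n.2
      rwa [← show l = n from Subtype.ext hln]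
    exact { eq_bot_or_eq_top_of_normal := fun K hK => by
              by_cases hK1 : K = ⊥
              · exact Or.inl hK1
              · exact Or.inr (top_le_iff.mp (hLtop ▸ hLmin K hK hK1)) }
  · intro hc
    refine not_commute hOp hOp' hti hN hN hN1 hN1 fun m hm k hk => ?_
    exact congrArg Subtype.val (hc.is_comm.comm (⟨m, hm⟩ : N) ⟨k, hk⟩)
  · by_contra hC
    exact not_commute hOp hOp' hti hN inferInstance hN1 hC fun m hm k hk =>
      Subgroup.mem_centralizer_iff.mp hk m hm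
  · intro Q
    refine ⟨fun hQ => ?_, fun n hn => ?_⟩
    · obtain ⟨x, -, hx⟩ := exists_orderOf_eq_of_normal hNp' (M := ⊤) inferInstance top_ne_bot
      obtain ⟨S, hS⟩ := (IsPGroup.of_card (G := Subgroup.zpowers x) (n := 1)
        (by rw [Nat.card_zpowers, hx, pow_one])).exists_le_sylow
      obtain ⟨c, rfl⟩ := MulAction.exists_smul_eq N Q S
      have := hS (Subgroup.mem_zpowers x)
      rw [Sylow.coe_subgroup_smul, hQ, Subgroup.smul_bot, Subgroup.mem_bot] at this
      exact (Fact.out : p.Prime).ne_one (by rw [← hx, this, orderOf_one])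
    · refine le_bot_iff.mp fun y hy => ?_
      obtain ⟨hy1, u, hu, hyu⟩ := hy
      by_contra hy0
      have hu1 : u ≠ 1 := fun e => hy0 (by
        rw [← hyu, e]
        show n * (1 : N) * n⁻¹ ∈ (⊥ : Subgroup N)
        simp)
      apply hn
      refine htiN Q u hu hu1 n ?_
      rw [show n * u * n⁻¹ = y from hyu]
      exact hy1

end Cfsg.Agent.S4620
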