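import Cfsg.Statements.S4621
import Cfsg.Agent.Lib.DolfiPair71.Primitive
import Cfsg.Agent.Lib.DolfiPair71.ImprimWrap
import Cfsg.Agent.Lib.DolfiPair71.Three

set_option autoImplicit false
open Cfsg

namespace Cfsg.Agent.S4621

/-- Let F be a finite field of odd characteristic, V a finite-dimensional vector space over F, and G a finite solvable group acting faithfully and linearly on V with the order of G coprime to the number of vectors of V. Then there are two vectors x, y ∈ V such that the only element of G fixing both x and y is the identity. -/
theorem result {F : Type*} [Field F] [Fintype F] (hF : ringChar F ≠ 2) {V : Type*} [AddCommGroup V] [Module F V] [FiniteDimensional F V] [Finite V]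
    {G : Type*} [Group G] [Finite G] [Group.IsSolvable G] (ρ : Representation F G V) (hfaith : Function.Injective ρ) (hcop : (Nat.card G).Coprime (Nat.card V)) :
    ∃ x y : V, ∀ g : G, ρ g x = x → ρ g y = y → g = 1 := by
  exact Cfsg.Agent.DP71.Imprim.dolfi_linear
    (Cfsg.Agent.DP71.primitiveOK_of_three Cfsg.Agent.DP71.threeOK) ρ hfaith hcop

end Cfsg.Agent.S4621
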