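import Cfsg.Statements.S4623
import Cfsg.Agent.Lib.SymSylow.Generators


set_option autoImplicit false
open Cfsg

namespace Cfsg.Agent.S4623

open Cfsg.Agent.Lib.SymSylow

theorem closure_preimage_top {G : Type*} [Group G] {H : Subgroup G} {X : Set G}
    (h : Subgroup.closure X = H) : Subgroup.closure ((↑) ⁻¹' X : Set H) = ⊤ := by
  subst h
  exact Subgroup.closure_closure_coe_preimage


/-- For every prime p and every n, a Sylow p-subgroup P of the symmetric group on n letters has P/P' elementary abelian (the p-th power of every element of P lies in the derived subgroup of P), and the same holds for a Sylow p-subgroup of the alternating group on n letters. -/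
theorem result (p : ℕ) [Fact p.Prime] (n : ℕ) (P : Sylow p (Equiv.Perm (Fin n))) (Q : Sylow p (alternatingGroup (Fin n))) :
    (∀ x : (P : Subgroup (Equiv.Perm (Fin n))), x ^ p ∈ commutator (P : Subgroup (Equiv.Perm (Fin n)))) ∧
    (∀ x : (Q : Subgroup (alternatingGroup (Fin n))), x ^ p ∈ commutator (Q : Subgroup (alternatingGroup (Fin n)))) := by
  classical
  have hp : p.Prime := Fact.out
  refine ⟨?_, ?_⟩
  · obtain ⟨X, hX, hXc⟩ := exists_goodGens_sylow p P
    intro x
    refine pow_mem_commutator (X := (Subtype.val : ↥(P : Subgroup (Equiv.Perm (Fin n))) → Equiv.Perm (Fin n)) ⁻¹' X) ?_ ?_ x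
    · exact closure_preimage_top hXc
    · intro y hy
      exact Subtype.ext (by simpa using hX.1 _ hy)
  · let ι := (alternatingGroup (Fin n)).subtype
    have hQp : IsPGroup p ((Q : Subgroup (alternatingGroup (Fin n))).map ι) := Q.isPGroup'.map ι
    obtain ⟨P', hP'⟩ := hQp.exists_le_sylow
    obtain ⟨X, hX, hXc⟩ := exists_goodGens_sylow p P'
    have hle : ((P' : Subgroup (Equiv.Perm (Fin n))).comap ι) ≤ (Q : Subgroup (alternatingGroup (Fin n))) := by
      refine (Q.is_maximal' (P'.isPGroup'.comap_of_injective ι Subtype.coe_injective) ?_).le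
      exact Subgroup.map_le_iff_le_comap.mp hP'
    intro x
    refine pow_mem_commutator
      (X := {y : (Q : Subgroup (alternatingGroup (Fin n))) | y ^ p = 1}) ?_ (fun y hy => hy) x
    rw [eq_top_iff]
    rintro ⟨⟨y, hya⟩, hyQ⟩ -
    have hy1 : y ∈ Subgroup.closure X ⊓ (Equiv.Perm.sign : Equiv.Perm (Fin n) →* ℤˣ).ker := by
      refine ⟨?_, hya⟩
      rw [hXc]
      exact hP' ⟨⟨y, hya⟩, hyQ, rfl⟩
    have hy2 := even_le_closure (p := p) Equiv.Perm.sign hX.1 hX.2 hy1
    let κ : (Q : Subgroup (alternatingGroup (Fin n))) →* Equiv.Perm (Fin n) :=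
      ι.comp (Subgroup.subtype _)
    have hsub : Subgroup.closure {y | y ∈ Subgroup.closure X ⊓
        (Equiv.Perm.sign : Equiv.Perm (Fin n) →* ℤˣ).ker ∧ y ^ p = 1} ≤
        (Subgroup.closure {y : (Q : Subgroup (alternatingGroup (Fin n))) | y ^ p = 1}).map κ := by
      rw [MonoidHom.map_closure]
      refine Subgroup.closure_mono ?_
      rintro z ⟨⟨hz, hza⟩, hzp⟩
      rw [hXc] at hz
      refine ⟨⟨⟨z, hza⟩, hle hz⟩, ?_, rfl⟩
      exact Subtype.ext (Subtype.ext (by simpa using hzp))
    obtain ⟨w, hw, hwy⟩ := hsub hy2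
    have : w = ⟨⟨y, hya⟩, hyQ⟩ := Subtype.ext (Subtype.ext hwy)
    exact this ▸ hw

end Cfsg.Agent.S4623
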