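import Cfsg.Statements.S4625
import Cfsg.Agent.Lib.SylowTwoSq.Chev
import Cfsg.Agent.Lib.SylowTwoSq.Suzuki
import Cfsg.Agent.Lib.SylowTwoSq.Unitary
import Cfsg.Agent.Lib.SylowTwoSq.Orthogonal
import Cfsg.Agent.Lib.SylowTwoSq.OrthogonalMinus
import Cfsg.Agent.Lib.SylowTwoSq.Graph
import Cfsg.Agent.Lib.SylowTwoSq.F4Class

set_option autoImplicit false
open Cfsg

namespace Cfsg.Agent.S4625

/-- Let G be a finite simple group of Lie type in characteristic 2, not counting the Tits group ²F₄(2)′. Then a Sylow 2-subgroup P of G has P/P' elementary abelian: the square of every element of P lies in the derived subgroup of P. -/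
theorem result {G : Type*} [Group G] [Finite G] [IsSimpleGroup G] (hG : Cfsg.IsLieTypeChar 2 G) (P : Sylow 2 G) :
    ∀ x : (P : Subgroup G), x ^ 2 ∈ commutator (P : Subgroup G) := by
  suffices h : Lib.SylowTwoSq.SqGood G from h P
  rcases hG with ⟨F, _, _, _, n, hn, -, ⟨e⟩⟩ | ⟨F, _, _, _, m, -, -, ⟨e⟩⟩ |
    ⟨F, _, _, _, n, q, hF, -, -, ⟨e⟩⟩ | ⟨F, _, _, _, m, -, hodd, -⟩ |
    ⟨F, _, _, _, m, hm, ⟨e⟩⟩ | ⟨F, _, _, _, m, a, b, hm, hab, ⟨e⟩⟩ |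
    ⟨F, _, _, _, h⟩ | ⟨K, _, _, _, q, hq, h⟩ | ⟨-, h⟩ | ⟨-, h⟩ | ⟨h, -⟩
  · exact ((Lib.SylowTwoSq.sqGood_SL n).quotient _).of_equiv e.symm
  · exact ((Lib.SylowTwoSq.sqGood_Sp m).quotient _).of_equiv e.symm
  · exact ((Lib.SylowTwoSq.sqGood_SU hF n).quotient _).of_equiv e.symm
  · obtain ⟨f, -, hf⟩ := FiniteField.card F 2
    rw [hf, Nat.odd_pow_iff f.ne_zero] at hodd
    exact absurd hodd (by decide)
  · obtain ⟨k, rfl⟩ : ∃ k, m = k + 3 := ⟨m - 3, by omega⟩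
    exact ((Lib.SylowTwoSq.sqGood_OmegaPlus k).quotient _).of_equiv e.symm
  · obtain ⟨k, rfl⟩ : ∃ k, m = k + 4 := ⟨m - 4, by omega⟩
    have hs : Lib.SylowTwoSq.SqGood ↥(Omega F (quadFormMinus (k + 4 - 1) F a b)) :=
      Lib.SylowTwoSq.sqGood_OmegaMinus k a b hab
    exact (hs.quotient _).of_equiv e.symm
  · rcases h with ⟨-, ⟨e⟩⟩ | ⟨⟨e⟩⟩ | ⟨⟨e⟩⟩ | ⟨⟨e⟩⟩ | ⟨⟨e⟩⟩ <;>
      exact (Lib.SylowTwoSq.sqGood_chev (by simp)).of_equiv e.symm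
  · rcases h with ⟨hK, ⟨e⟩⟩ | ⟨hK, ⟨e⟩⟩
    · exact (Lib.SylowTwoSq.sqGood_twistedE6 hq hK).of_equiv e.symm
    · exact (Lib.SylowTwoSq.sqGood_twistedD4 hq hK).of_equiv e.symm
  · obtain ⟨F, _, _, m, hm, hF, ⟨e⟩⟩ := h
    exact (Lib.SylowTwoSq.sqGood_Sz ⟨hm, hF⟩).of_equiv e.symm
  · obtain ⟨K, _, _, m, hm, hK, ⟨e⟩⟩ := h
    haveI : Fact (Nat.Prime 2) := ⟨Nat.prime_two⟩
    haveI : CharP K 2 := charP_of_card_eq_prime_pow hK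
    exact (Lib.SylowTwoSq.sqGood_twistedF4 hm hK).of_equiv e.symm
  · exact absurd h (by norm_num)

end Cfsg.Agent.S4625
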