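import Cfsg.Statements.S4633
import Mathlib
import Cfsg.Agent.Lib.BrauerPairs.StabIndex
import Cfsg.Agent.Lib.BrauerPairs.Local
import Cfsg.Agent.Lib.BrauerPairs.Block
import Cfsg.Agent.Lib.Blocks.DefectProps
import Cfsg.Agent.Lib.Blocks.HeightZero

set_option autoImplicit false
open Cfsg

namespace Cfsg.Agent.S4633

open Cfsg.Agent.Lib Cfsg.Agent.Lib.BrauerPairs
open Cfsg.Agent.Lib.Blocks (mem_localRing)

universe u

variable {G : Type u} [Group G] [Finite G] {p : ℕ} [Fact p.Prime] {M : Ideal AlgInt} [M.IsPrime]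

/-- With an abelian defect group P and a block of the centralizer inducing B, the stabilizer of
that block has index prime to p over the centralizer. -/
theorem not_dvd_relIndex (hM : IsPModular p M) {B : Set (IrrCharacter G)} (hB : IsPBlock M B)
    {P : Subgroup G} (hPD : IsDefectGroup p M B P) (hab : P ≤ Subgroup.centralizer (P : Set G))
    {c : Set (IrrCharacter (Subgroup.centralizer (P : Set G)))}
    (hc : IsInducedBlock M (Subgroup.centralizer (P : Set G)) c B) (T : Subgroup G)
    (hT : ∀ g : G, g ∈ T ↔ (g ∈ Subgroup.normalizer (P : Set G) ∧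
      StabilizesBlock (Subgroup.centralizer (P : Set G)) c g))
    [hn : ((Subgroup.centralizer (P : Set G)).subgroupOf T).Normal] :
    ¬ p ∣ (Subgroup.centralizer (P : Set G)).relIndex T := by
  classical
  cases nonempty_fintype G
  haveI : Fintype (Subgroup.centralizer (P : Set G)) := Fintype.ofFinite _
  have hPp : IsPGroup p P := Blocks.isPGroup_of_isDefectGroup hPD
  let a : BrauerPairIdx G := ⟨P, c⟩
  have hap : IsPair p M a := ⟨hPp, hc.1⟩
  have hTeq : T = pairStab hap.2 := by
    ext g
    rw [mem_pairStab_iff_stabilizesBlock hap.2, hT]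
  have hcore : BrauerMap.core a.1 ≤ T := hTeq ▸ core_le_pairStab hap.2
  have hCT : (Subgroup.centralizer (P : Set G)) ≤ T := le_sup_right.trans hcore
  have hPT : P ≤ T := le_sup_left.trans hcore
  obtain ⟨F, hF, hFc⟩ := exists_block_of_le_pairStab hM hap hcore hTeq.le
  -- (P, c) is a pair of B
  have hpairB : IsBrauerPairOf p M B P c := by
    refine ⟨hap, hB, fun ξ hξ => ?_⟩
    obtain ⟨χ, hχ⟩ := Blocks.isPBlock_nonempty hB
    have h := Blocks.HeightZero.eval_congr_induced (f := blockCoeff B)
      (fun g h => by simp only [blockCoeff, Chars.irr_isClassFunction _ g h])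
      (fun g => Blocks.memLocalRing_blockCoeff hB g) hc hξ hχ
    rw [Blocks.Covering.sum_blockCoeff_eq_ite B χ, if_pos hχ] at h
    rw [brauerOmega, finsum_eq_sum_of_fintype]
    exact h
  -- it is maximal
  have hmax : IsMaximalBrauerPair p M B P c := by
    refine ⟨hpairB, fun R g hg hle => ?_⟩
    have hPR : P ≤ R := pairLE_fst_le (a := (⟨P, c⟩ : BrauerPairIdx G))
      (b := (⟨R, g⟩ : BrauerPairIdx G)) hle
    obtain ⟨y, hy, hne⟩ := exists_unit_of_isBrauerPairOf hM hg
    obtain ⟨D, hD, hRD⟩ := Blocks.exists_isDefectGroup_ge hM hB hg.1.1 hy hne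
    refine (Subgroup.eq_of_le_of_card_ge hPR ((Subgroup.card_le_of_le hRD).trans ?_)).symm
    rw [Blocks.card_defectGroup hM hB hD, Blocks.card_defectGroup hM hB hPD]
  obtain ⟨D, hD⟩ := Blocks.exists_isDefectGroup (p := p) hF
  haveI : (P.subgroupOf T).Normal := (Subgroup.normal_subgroupOf_iff_le_normalizer hPT).2
    fun t ht => ((hT t).1 ht).1
  have hPD' : P.subgroupOf T ≤ D := Blocks.normal_le_defectGroup hM
    (hPp.of_equiv (Subgroup.subgroupOfEquivOfLe hPT).symm) hF hD
  obtain ⟨x, -, hx⟩ := exists_conj_card_le_stab hM (b := a) hmax hpairB hTeq hFc hD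
  have hDeq : P.subgroupOf T = D := Subgroup.eq_of_le_of_card_ge hPD' ((hx.trans
    (Subgroup.card_le_of_le inf_le_left)).trans
    (Nat.card_congr (Subgroup.subgroupOfEquivOfLe hPT).toEquiv).ge)
  -- the idempotent of F is that of the image of c
  let e : (Subgroup.centralizer (P : Set G)).subgroupOf T ≃* (Subgroup.centralizer (P : Set G)) := Subgroup.subgroupOfEquivOfLe hCT
  set f : Set (IrrCharacter ((Subgroup.centralizer (P : Set G)).subgroupOf T)) := Chars.irrCongr e '' c with hfdef
  have hf : IsPBlock M f := BrauerMap.isPBlock_image_irrCongr e hc.1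
  have hc' : ∀ n : (Subgroup.centralizer (P : Set G)).subgroupOf T, blockCoeff F (n : T) = blockCoeff f n := fun n => by
    rw [hFc, hfdef, BrauerMap.blockCoeff_image_irrCongr]
    exact BrauerMap.subgroupBlockCoeff_of_mem (Subgroup.centralizer (P : Set G)) c (e n)
  have h0 : ∀ g ∉ (Subgroup.centralizer (P : Set G)).subgroupOf T, blockCoeff F g = 0 := fun g hg => by
    rw [hFc]
    exact coeffFun_of_notMem fun h => hg h
  have h := (not_dvd_index_of_supported hM hF hf hc' h0 hD).1
  rw [sup_eq_right.2 (hDeq ▸ fun q hq => hab hq)] at h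
  exact h

/-- Let B be a block of the finite group G relative to a maximal ideal M of the algebraic integers containing the prime p, with a nontrivial cyclic defect group P. Let c be a block of C_G(P) inducing B and T the stabilizer of c in N_G(P) (the elements of N_G(P) conjugating c to itself); T contains C_G(P). Then T/C_G(P) is cyclic of order dividing p − 1, and it acts freely on the non-identity elements of P: an element of T fixing some non-identity element of P under conjugation lies in C_G(P). -/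
theorem result {G : Type*} [Group G] [Finite G] (p : ℕ) [Fact p.Prime] (M : Ideal Cfsg.AlgInt) (hM : Cfsg.IsPModular p M) (B : Set (Cfsg.IrrCharacter G)) (hB : Cfsg.IsPBlock M B) (P : Subgroup G) (hPD : Cfsg.IsDefectGroup p M B P) (hP1 : P ≠ ⊥) (hcyc : IsCyclic P) (c : Set (Cfsg.IrrCharacter (Subgroup.centralizer (P : Set G)))) (hc : Cfsg.IsInducedBlock M (Subgroup.centralizer (P : Set G)) c B) (T : Subgroup G) (hT : ∀ g : G, g ∈ T ↔ (g ∈ Subgroup.normalizer (P : Set G) ∧ Cfsg.StabilizesBlock (Subgroup.centralizer (P : Set G)) c g)) [hn : ((Subgroup.centralizer (P : Set G)).subgroupOf T).Normal] : IsCyclic (T ⧸ (Subgroup.centralizer (P : Set G)).subgroupOf T) ∧ (Subgroup.centralizer (P : Set G)).relIndex T ∣ p - 1 ∧ ∀ g ∈ T, ∀ x ∈ P, x ≠ 1 → g * x * g⁻¹ = x → g ∈ Subgroup.centralizer (P : Set G) := by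
  classical
  haveI : M.IsPrime := hM.2.1.isPrime
  have hp : p.Prime := Fact.out
  have hPp : IsPGroup p P := Blocks.isPGroup_of_isDefectGroup hPD
  have hab : P ≤ (Subgroup.centralizer (P : Set G)) := by
    intro x hx
    rw [Subgroup.mem_centralizer_iff]
    intro y hy
    obtain ⟨z, hz⟩ := hcyc.exists_generator
    obtain ⟨i, hi⟩ := hz ⟨x, hx⟩
    obtain ⟨j, hj⟩ := hz ⟨y, hy⟩
    have : (⟨y, hy⟩ : P) * ⟨x, hx⟩ = ⟨x, hx⟩ * ⟨y, hy⟩ := by
      rw [← hi, ← hj]; exact (Commute.zpow_zpow_self z j i).eq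
    exact congrArg Subtype.val this
  have hrel : ¬ p ∣ (Subgroup.centralizer (P : Set G)).relIndex T := not_dvd_relIndex hM hB hPD hab hc T hT
  obtain ⟨n, hn'⟩ := IsPGroup.iff_card.1 hPp
  let φ : T →* MulAut P := P.normalizerMonoidHom.comp
    (Subgroup.inclusion (fun t ht => ((hT t).1 ht).1 : T ≤ Subgroup.normalizer (P : Set G)))
  have hker : φ.ker = (Subgroup.centralizer (P : Set G)).subgroupOf T := by
    ext t
    rw [MonoidHom.mem_ker, MonoidHom.comp_apply, ← MonoidHom.mem_ker,
      Subgroup.normalizerMonoidHom_ker]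
    rfl
  let e : MulAut P ≃* (ZMod (Nat.card P))ˣ := IsCyclic.mulAutMulEquiv P
  have hrange : Nat.card φ.range = (Subgroup.centralizer (P : Set G)).relIndex T := by
    rw [← Subgroup.index_ker, hker]; rfl
  have hn0 : n ≠ 0 := fun h => hP1 (Subgroup.card_eq_one.1 (by rw [hn', h, pow_zero]))
  have hcardAut : Nat.card (MulAut P) = p ^ (n - 1) * (p - 1) := by
    haveI : NeZero (Nat.card P) := ⟨Nat.card_pos.ne'⟩
    rw [Nat.card_congr e.toEquiv, Nat.card_eq_fintype_card, ZMod.card_units_eq_totient, hn',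
      Nat.totient_prime_pow hp (Nat.pos_of_ne_zero hn0)]
  have hdvd : (Subgroup.centralizer (P : Set G)).relIndex T ∣ p - 1 := by
    have h := Subgroup.card_subgroup_dvd_card φ.range
    rw [hrange, hcardAut] at h
    exact ((hp.coprime_iff_not_dvd.2 hrel).symm.pow_right (n - 1)).dvd_of_dvd_mul_left h
  refine ⟨?_, hdvd, fun g hg x hx hx1 hfix => ?_⟩
  · have hQ : IsCyclic φ.range := by
      rcases hp.eq_two_or_odd' with rfl | hodd
      · have h1 : Nat.card φ.range = 1 := by
          rw [hrange]; exact Nat.dvd_one.1 hdvd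
        haveI := (Nat.card_eq_one_iff_unique.1 h1).1
        exact isCyclic_of_subsingleton
      · have hne2 : p ≠ 2 := fun h => by subst h; exact absurd hodd (by decide)
        haveI : IsCyclic (ZMod (Nat.card P))ˣ := by
          rw [hn']; exact ZMod.isCyclic_units_of_prime_pow p hp hne2 n
        exact isCyclic_of_injective (e.toMonoidHom.comp φ.range.subtype)
          (e.injective.comp Subtype.val_injective)
    have e2 : T ⧸ (Subgroup.centralizer (P : Set G)).subgroupOf T ≃* φ.range :=
      (QuotientGroup.quotientMulEquivOfEq hker.symm).trans (QuotientGroup.quotientKerEquivRange φ)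
    exact isCyclic_of_injective e2.toMonoidHom e2.injective
  · set ψ := φ ⟨g, hg⟩ with hψ
    haveI := hcyc
    obtain ⟨m, hm⟩ := MonoidHom.map_cyclic ψ.toMonoidHom
    have hm' : ∀ y : P, ψ y = y ^ m := hm
    have hord : orderOf ψ ∣ p - 1 := by
      refine (orderOf_dvd_natCard (⟨ψ, ⟨_, rfl⟩⟩ : φ.range) |> fun h => ?_)
      rw [← Subgroup.orderOf_coe, hrange] at h
      exact h.trans hdvd
    -- the multiplier is 1 mod p
    have hpm : (p : ℤ) ∣ m - 1 := by
      have h1 : (⟨x, hx⟩ : P) ^ (m - 1) = 1 := by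
        rw [zpow_sub_one, ← hm', mul_inv_eq_one]
        exact Subtype.ext hfix
      obtain ⟨k, hk⟩ := IsPGroup.iff_orderOf.1 hPp ⟨x, hx⟩
      rcases k with _ | k
      · have hxone : (⟨x, hx⟩ : P) = 1 := orderOf_eq_one_iff.1 (by simpa using hk)
        exact absurd (congrArg Subtype.val hxone) hx1
      · have h2 := orderOf_dvd_iff_zpow_eq_one.2 h1
        rw [hk] at h2
        exact (Int.natCast_dvd_natCast.2 (dvd_pow_self p k.succ_ne_zero)).trans h2
    have hpow : ∀ (i : ℕ) (y : P), (ψ ^ i) y = y ^ (m ^ i) := by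
      intro i
      induction i with
      | zero => intro y; simp
      | succ i ih =>
        intro y
        rw [pow_succ, MulAut.mul_apply, hm', map_zpow, ih, ← zpow_mul, pow_succ]
    have hψn : ψ ^ p ^ n = 1 := by
      ext y
      rw [hpow, MulAut.one_apply]
      refine congrArg Subtype.val ?_
      conv_rhs => rw [← zpow_one y]
      rw [← mul_inv_eq_one, ← zpow_neg, ← zpow_add, ← orderOf_dvd_iff_zpow_eq_one]
      have h := dvd_sub_pow_of_dvd_sub (R := ℤ) (a := m) (b := 1) hpm n
      rw [one_pow] at h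
      have hy : orderOf y ∣ p ^ (n + 1) :=
        (orderOf_dvd_natCard y).trans (hn' ▸ pow_dvd_pow p n.le_succ)
      exact (Int.natCast_dvd_natCast.2 hy).trans (by push_cast; exact h)
    have h1 : ψ = 1 := orderOf_eq_one_iff.1 (Nat.eq_one_of_dvd_coprimes
      (((hp.coprime_iff_not_dvd.2 (Nat.not_dvd_of_pos_of_lt (Nat.sub_pos_of_lt hp.one_lt)
        (Nat.sub_lt hp.pos one_pos))).pow_left n)) (orderOf_dvd_of_pow_eq_one hψn) hord)
    have : (⟨g, hg⟩ : T) ∈ φ.ker := h1
    rw [hker] at this
    exact this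

end Cfsg.Agent.S4633
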