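import Cfsg.Statements.S4634
import Cfsg.Agent.Lib.FreeInertia.CyclicIsometry
import Cfsg.Agent.Lib.BrauerPairs.KernelCore

open Cfsg.Agent.Lib

set_option autoImplicit false
open Cfsg

namespace Cfsg.Agent.S4634

/-- Let B be a block of the finite group G relative to a maximal ideal M of the algebraic integers containing the prime p, with a nontrivial cyclic defect group P, let c be a block of C_G(P) inducing B, T the stabilizer of c in N_G(P) and e the index of C_G(P) in T. Let F be any finite group of order #P · e having a cyclic subgroup Q of order #P that is its own centralizer (F is then the semidirect product of Q by a cyclic group of order e acting faithfully). Then there is a perfect isometry from the set of all irreducible characters of F onto B whose signs agree on all the characters of F that do not contain Q in their kernel. -/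
theorem result {G : Type*} [Group G] [Finite G] (p : ℕ) [Fact p.Prime] (M : Ideal Cfsg.AlgInt) (hM : Cfsg.IsPModular p M) (B : Set (Cfsg.IrrCharacter G)) (hB : Cfsg.IsPBlock M B) (P : Subgroup G) (hPD : Cfsg.IsDefectGroup p M B P) (hP1 : P ≠ ⊥) (hcyc : IsCyclic P) (c : Set (Cfsg.IrrCharacter (Subgroup.centralizer (P : Set G)))) (hc : Cfsg.IsInducedBlock M (Subgroup.centralizer (P : Set G)) c B) (T : Subgroup G) (hT : ∀ g : G, g ∈ T ↔ (g ∈ Subgroup.normalizer (P : Set G) ∧ Cfsg.StabilizesBlock (Subgroup.centralizer (P : Set G)) c g)) (e : ℕ) (he : (Subgroup.centralizer (P : Set G)).relIndex T = e) (F : Type*) [Group F] [Finite F] (hF : Nat.card F = Nat.card P * e) (Q : Subgroup F) (hQ : IsCyclic Q) (hQcard : Nat.card Q = Nat.card P) (hQC : Subgroup.centralizer (Q : Set F) = Q) : ∃ (I : Cfsg.IrrCharacter F → Cfsg.IrrCharacter G) (ε : Cfsg.IrrCharacter F → ℤ), Cfsg.IsPerfectIsometry p M (Set.univ : Set (Cfsg.IrrCharacter F)) B I ε ∧ ∀ η η' : Cfsg.IrrCharacter F, (∃ x ∈ Q, (η : F → ℂ) x ≠ (η : F → ℂ) 1) → (∃ x ∈ Q, (η' : F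 → ℂ) x ≠ (η' : F → ℂ) 1) → ε η = ε η' := by
  cases nonempty_fintype G
  cases nonempty_fintype F
  haveI := Blocks.isPModular_isPrime hM
  have hPp : IsPGroup p P := Blocks.isPGroup_of_isDefectGroup hPD
  have hmax : IsMaximalBrauerPair p M B P c :=
    BrauerPairs.KernelCore.isMaximal_of_defectGroup hM (a := ⟨P, c⟩)
      (BrauerPairs.isBrauerPairOf_of_isInducedBlock hPp hc) hPD
  have hTeq : T = BrauerPairs.pairStab (a := ⟨P, c⟩) hmax.1.1.2 := Subgroup.ext fun g =>
    (hT g).trans (BrauerPairs.mem_pairStab_iff_stabilizesBlock (a := ⟨P, c⟩) hmax.1.1.2).symm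
  haveI := hQ
  exact FreeInertia.exists_isometry_of_isCyclic (b := (⟨P, c⟩ : BrauerPairIdx G)) hM hmax hcyc hP1
    (by rw [hF, ← he, hTeq]) hQcard hQC

end Cfsg.Agent.S4634
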