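import Cfsg.Statements.S4636
import Mathlib


set_option autoImplicit false
open scoped Pointwise
open Cfsg

namespace Cfsg.Agent.S4636

/-- Let P be a nontrivial cyclic p-subgroup of the finite group G and Z its subgroup of order p. For every x outside N_G(Z), P meets its conjugate xPx⁻¹ trivially; consequently N_G(Q) ≤ N_G(Z) for every nontrivial subgroup Q of P. -/
theorem result {G : Type*} [Group G] [Finite G] (p : ℕ) [Fact p.Prime] (P : Subgroup G) (hP : IsPGroup p P) (hP1 : P ≠ ⊥) (hcyc : IsCyclic P) (Z : Subgroup G) (hZ : Z ≤ P) (hZcard : Nat.card Z = p) : (∀ x : G, x ∉ Subgroup.normalizer (Z : Set G) → P ⊓ MulAut.conj x • P = ⊥) ∧ ∀ Q : Subgroup G, Q ≤ P → Q ≠ ⊥ → Subgroup.normalizer (Q : Set G) ≤ Subgroup.normalizer (Z : Set G) := by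
  classical
  have uniq : ∀ A : Subgroup G, A ≤ P → A ≠ ⊥ → Z ≤ A := by
    intro A hA hA1
    obtain ⟨k, hk⟩ := (hP.to_le hA).exists_card_eq
    have hk0 : k ≠ 0 := fun h => hA1 (Subgroup.eq_bot_of_card_eq _ (by simpa [h] using hk))
    obtain ⟨a, ha⟩ := exists_prime_orderOf_dvd_card' (G := A) p (hk ▸ dvd_pow_self p hk0)
    intro z hz
    have hcard : Nat.card (Subgroup.zpowers (a : G)) = Nat.card Z := by
      rw [Nat.card_zpowers, Subgroup.orderOf_coe, ha, hZcard]
    have e1 : (Subgroup.zpowers (a : G)).subgroupOf P = Z.subgroupOf P := by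
      have := hcyc
      let := Fintype.ofFinite P
      have aux : ∀ A : Subgroup G, A ≤ P → Nat.card A = p →
          ((A.subgroupOf P : Set P).toFinset) = Finset.univ.filter (fun u : P => u ^ p = 1) := by
        intro A hA hc
        have hc' : Nat.card (A.subgroupOf P) = p := by
          rw [Nat.card_congr (Subgroup.subgroupOfEquivOfLe hA).toEquiv, hc]
        refine Finset.eq_of_subset_of_card_le (fun u hu => ?_) ?_
        · simp only [Set.mem_toFinset, SetLike.mem_coe] at hu
          simp only [Finset.mem_filter, Finset.mem_univ, true_and]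
          have h1 : (⟨u, hu⟩ : A.subgroupOf P) ^ p = 1 := by
            rw [← hc']; exact pow_card_eq_one'
          simpa using congrArg Subtype.val h1
        · rw [← Set.ncard_eq_toFinset_card', ← Nat.card_coe_set_eq]
          exact le_trans (IsCyclic.card_pow_eq_one_le (Fact.out : p.Prime).pos) hc'.ge
      apply SetLike.coe_injective
      apply Set.toFinset_inj.mp
      rw [aux _ (Subgroup.zpowers_le.mpr (hA a.2))
        (by rw [Nat.card_zpowers, Subgroup.orderOf_coe, ha]), aux Z hZ hZcard]
    have e2 : (⟨z, hZ hz⟩ : P) ∈ (Subgroup.zpowers (a : G)).subgroupOf P := by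
      rw [e1]; exact hz
    exact Subgroup.zpowers_le.mpr a.2 e2
  have nmem : ∀ x : G, MulAut.conj x • Z ≤ Z → x ∈ Subgroup.normalizer (Z : Set G) := by
    intro x hx
    have he : MulAut.conj x • Z = Z := Subgroup.eq_of_le_of_card_ge hx (le_of_eq (Nat.card_congr (Subgroup.equivSMul (MulAut.conj x) Z).toEquiv))
    rw [Subgroup.mem_normalizer_iff]
    intro y
    conv_rhs => rw [← he]
    exact (Subgroup.smul_mem_pointwise_smul_iff (a := MulAut.conj x) (S := Z) (x := y)).symm
  have key : ∀ (x : G) (A : Subgroup G), A ≤ P → A ≠ ⊥ → MulAut.conj x • A ≤ P →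
      x ∈ Subgroup.normalizer (Z : Set G) := by
    intro x A hA hA1 hAx
    apply nmem
    have h1 : MulAut.conj x • Z ≤ P :=
      le_trans (Subgroup.pointwise_smul_le_pointwise_smul_iff.mpr (uniq A hA hA1)) hAx
    have hne : MulAut.conj x • Z ≠ ⊥ := by
      intro h
      have h2 := congrArg (fun H : Subgroup G => (MulAut.conj x)⁻¹ • H) h
      simp at h2
      rw [h2, Subgroup.card_bot] at hZcard
      exact (Fact.out : p.Prime).one_lt.ne hZcard
    have h3 := uniq _ h1 hne
    exact le_of_eq (Subgroup.eq_of_le_of_card_ge h3 (le_of_eq (Nat.card_congr (Subgroup.equivSMul (MulAut.conj x) Z).toEquiv).symm)).symm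
  refine ⟨fun x hx => by_contra fun hne => hx ?_, fun Q hQ hQ1 g hg => key g Q hQ hQ1 ?_⟩
  · refine key x ((MulAut.conj x)⁻¹ • (P ⊓ MulAut.conj x • P)) ?_ ?_ ?_
    · exact Subgroup.subset_pointwise_smul_iff.mp inf_le_right |>.trans le_rfl
    · intro h
      have h2 := congrArg (fun H : Subgroup G => MulAut.conj x • H) h
      simp at h2
      exact hne h2
    · simp
  · rintro y ⟨z, hz, rfl⟩
    exact hQ ((Subgroup.mem_normalizer_iff.mp hg z).mp hz)

end Cfsg.Agent.S4636
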