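import Cfsg.Statements.S4639
import Cfsg.Agent.Lib.FreeInertia.Rows
import Cfsg.Agent.Lib.FreeInertia.SignsTwo

open Cfsg.Agent.Lib

set_option autoImplicit false
open Cfsg

namespace Cfsg.Agent.S4639

/-- Let B be a block of the finite group G relative to a maximal ideal M of the algebraic integers containing the prime p, with a nontrivial commutative defect group P. Let c be a block of C_G(P) inducing B, T the stabilizer of c in N_G(P) and e the index of C_G(P) in T. Suppose that T/C_G(P) is commutative (all commutators of elements of T lie in C_G(P)) and acts freely on the non-identity elements of P (an element of T fixing a non-identity element of P under conjugation lies in C_G(P)). Then B has at most e + (#P − 1)/e irreducible characters and p-regular rank at most e; equality holds in the first bound exactly when it holds in the second; and both equalities hold when e ≤ 3. -/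
theorem result {G : Type*} [Group G] [Finite G] (p : ℕ) [Fact p.Prime] (M : Ideal Cfsg.AlgInt) (hM : Cfsg.IsPModular p M) (B : Set (Cfsg.IrrCharacter G)) (hB : Cfsg.IsPBlock M B) (P : Subgroup G) (hPD : Cfsg.IsDefectGroup p M B P) (hP1 : P ≠ ⊥) (hPab : ∀ x ∈ P, ∀ y ∈ P, x * y = y * x) (c : Set (Cfsg.IrrCharacter (Subgroup.centralizer (P : Set G)))) (hc : Cfsg.IsInducedBlock M (Subgroup.centralizer (P : Set G)) c B) (T : Subgroup G) (hT : ∀ g : G, g ∈ T ↔ (g ∈ Subgroup.normalizer (P : Set G) ∧ Cfsg.StabilizesBlock (Subgroup.centralizer (P : Set G)) c g)) (e : ℕ) (he : (Subgroup.centralizer (P : Set G)).relIndex T = e) (hEab : ∀ g ∈ T, ∀ h ∈ T, g * h * g⁻¹ * h⁻¹ ∈ Subgroup.centralizer (P : Set G)) (hfree : ∀ g ∈ T, ∀ x ∈ P, x ≠ 1 → g * x * g⁻¹ = x → g ∈ Subgroup.centralizer (P : Set G)) : Nat.card B ≤ e + (Nat.card P - 1) / e ∧ Cfsg.blockRank p B ≤ e ∧ (Nat.card B = e + (Nat.card P - 1) / e ↔ Cfsg.blockRank p B = e) ∧ (e ≤ 3 → Nat.card B = e + (Nat.card P - 1) / e ∧ Cfsg.blockRank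 p B = e) := by
  cases nonempty_fintype G
  haveI := Blocks.isPModular_isPrime hM
  have hPp : IsPGroup p P := Blocks.isPGroup_of_isDefectGroup hPD
  have hmax : IsMaximalBrauerPair p M B P c :=
    BrauerPairs.KernelCore.isMaximal_of_defectGroup hM (a := ⟨P, c⟩)
      (BrauerPairs.isBrauerPairOf_of_isInducedBlock hPp hc) hPD
  have hmem : ∀ g : G, g ∈ T ↔ g ∈ BrauerPairs.pairStab (a := ⟨P, c⟩) hmax.1.1.2 := fun g =>
    (hT g).trans (BrauerPairs.mem_pairStab_iff_stabilizesBlock (a := ⟨P, c⟩) hmax.1.1.2).symm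
  have hIsFree : FreeInertia.IsFree (⟨P, c⟩ : BrauerPairIdx G) := fun y hy x hx hx1 hfix =>
    hfree y ((hmem y).2 ((AbelianStar.inStab_iff hmax.1.1.2).1 hy)) x hx hx1 hfix
  have hTN : T ≤ Subgroup.normalizer (P : Set G) := fun g hg => ((hT g).1 hg).1
  let f : T →* MulAut P := (Subgroup.normalizerMonoidHom P).comp (Subgroup.inclusion hTN)
  have hf : ∀ (g : T) (x : P), ((f g x : P) : G) = (g : G) * (x : G) * (g : G)⁻¹ := fun g x => rfl
  have hrange : f.range = FreeInertia.iner (b := (⟨P, c⟩ : BrauerPairIdx G)) hmax.1.1.2 := by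
    ext α
    constructor
    · rintro ⟨g, rfl⟩
      exact Fusion.mem_autInducedBy.2 ⟨g, (hmem g).1 g.2, hf g⟩
    · intro h
      obtain ⟨g, hg, hgα⟩ := Fusion.mem_autInducedBy.1 h
      exact ⟨⟨g, (hmem g).2 hg⟩, MulEquiv.ext fun x => Subtype.ext ((hf _ x).trans (hgα x).symm)⟩
  have hker : f.ker = (Subgroup.centralizer (P : Set G)).subgroupOf T := by
    ext g
    rw [MonoidHom.mem_ker, Subgroup.mem_subgroupOf, Subgroup.mem_centralizer_iff]
    constructor
    · intro h x hx
      have h1 := hf g ⟨x, hx⟩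
      rw [h] at h1
      exact eq_mul_inv_iff_mul_eq.1 (show x = (g : G) * x * (g : G)⁻¹ from h1)
    · intro h
      refine MulEquiv.ext fun x => Subtype.ext ((hf g x).trans ?_)
      rw [MulAut.one_apply, ← h (x : G) x.2, mul_inv_cancel_right]
  have hecard : Nat.card (FreeInertia.iner (b := (⟨P, c⟩ : BrauerPairIdx G)) hmax.1.1.2) = e := by
    rw [← hrange, ← he, Subgroup.relIndex, ← hker, Subgroup.index_ker]
  have hP1' : ∃ w : P, w ≠ 1 := by
    obtain ⟨x, hx, hx1⟩ := P.bot_or_exists_ne_one.resolve_left hP1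
    exact ⟨⟨x, hx⟩, fun h => hx1 (congrArg Subtype.val h)⟩
  obtain ⟨h1, h2, h3⟩ := FreeInertia.counts (b := (⟨P, c⟩ : BrauerPairIdx G)) hM hmax hPab hIsFree
    (FreeInertia.hasSigns (b := (⟨P, c⟩ : BrauerPairIdx G)) hM hmax hPab hIsFree hP1') hP1'
  rw [hecard] at h1 h2 h3
  change Nat.card B ≤ e + (Nat.card P - 1) / e at h1
  change Nat.card B = blockRank p B + (Nat.card P - 1) / e at h2
  change e ≤ 3 → Nat.card B = e + (Nat.card P - 1) / e at h3
  refine ⟨h1, by omega, by omega, fun h => ?_⟩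
  have := h3 h
  exact ⟨this, by omega⟩

end Cfsg.Agent.S4639
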