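import Cfsg.Statements.S4640
import Cfsg.Agent.Lib.BrauerPairs.AbelianDefectRestrict

open Cfsg.Agent


set_option autoImplicit false
open Cfsg

namespace Cfsg.Agent.S4640

/-- Let N be a normal subgroup of the finite group G of index a power of the prime p, M a maximal ideal of the algebraic integers containing p, b a block of N stabilized by every element of G, and B a block of G covering b (some member of B has a member of b as a constituent of its restriction to N). Suppose that B has a commutative defect group P. Then G = NP and P ∩ N is a defect group of b; every member of B restricts to a member of b; every member of b is the restriction of exactly [G : N] members of B; B contains exactly [G : N] times as many irreducible characters as b; and B and b have the same p-regular rank. -/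
theorem result {G : Type*} [Group G] [Fintype G] (p : ℕ) [Fact p.Prime] (M : Ideal Cfsg.AlgInt) (hM : Cfsg.IsPModular p M) (N : Subgroup G) [N.Normal] [Fintype N] (hNi : ∃ k : ℕ, N.index = p ^ k) (b : Set (Cfsg.IrrCharacter N)) (hb : Cfsg.IsPBlock M b) (hstab : ∀ g : G, Cfsg.StabilizesBlock N b g) (B : Set (Cfsg.IrrCharacter G)) (hB : Cfsg.IsPBlock M B) (hcov : ∃ χ ∈ B, ∃ θ ∈ b, Cfsg.classInner (fun n : N => (χ : G → ℂ) n) (θ : N → ℂ) ≠ 0) (P : Subgroup G) (hPD : Cfsg.IsDefectGroup p M B P) (hPab : ∀ x ∈ P, ∀ y ∈ P, x * y = y * x) : N ⊔ P = ⊤ ∧ Cfsg.IsDefectGroup p M b ((P ⊓ N).subgroupOf N) ∧ (∀ χ ∈ B, ∃ θ ∈ b, ∀ n : N, (χ : G → ℂ) n = (θ : N → ℂ) n) ∧ (∀ θ ∈ b, Nat.card {χ : Cfsg.IrrCharacter G // χ ∈ B ∧ ∀ n : N, (χ : G → ℂ) n = (θ : N → ℂ) n} = N.index) ∧ Nat.card B = N.index * Nat.card b ∧ Cfsg.blockRank p B = Cfsg.blockRank p b := by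
  classical
  haveI := hM.2.1.isPrime
  obtain ⟨χ₀, hχ₀, θ₀, hθ₀, hcon₀⟩ := hcov
  have hco : ∀ g, blockCoeff B g = subgroupBlockCoeff N b g :=
    Lib.BrauerPairs.AbelianDefectRestrict.blockCoeff_eq_of_covers hM hNi hb hstab hB hχ₀ hθ₀ hcon₀
  obtain ⟨hNP, hD⟩ := Lib.Blocks.Graded.defectGroup_of_stable hM hNi hb hstab hB hco hPD
  have hcl : Lib.Blocks.Covering.conjClosure b = b := by
    refine Set.ext fun φ => ⟨?_, Lib.Blocks.Covering.mem_conjClosure_self⟩
    rintro ⟨a, θ, hθ, ha⟩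
    obtain ⟨θ', hθ', hcc⟩ := (hstab a⁻¹).2 θ hθ
    have : φ = θ' := Subtype.ext (funext fun n => by
      rw [← ha, Lib.Clifford.conjFun]
      exact (hcc _ n (by simp [mul_assoc])).symm)
    rwa [this]
  -- restriction
  have hres : ∀ χ ∈ B, ∃ θ ∈ b, Lib.Clifford.resFun N (χ : G → ℂ) = (θ : N → ℂ) := by
    intro χ hχ
    obtain ⟨θ, hθ⟩ :=
      Lib.BrauerPairs.AbelianDefectRestrict.exists_restrict_eq hM hNi hB hPD hPab hNP hχ
    refine ⟨θ, hcl ▸ Lib.Blocks.Covering.constituent_mem_conjClosure hb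
      (Lib.Blocks.sameBlock_of_mem hB hχ₀ hχ) hθ₀ hcon₀ ?_, hθ⟩
    rw [hθ, Lib.Chars.classInner_irr_self]
    exact one_ne_zero
  -- the characters over a member of b
  have hover : ∀ θ ∈ b, ∀ χ : IrrCharacter G,
      classInner (Lib.Clifford.resFun N (χ : G → ℂ)) (θ : N → ℂ) ≠ 0 ↔
        (χ ∈ B ∧ ∀ n : N, (χ : G → ℂ) n = (θ : N → ℂ) n) := by
    intro θ hθ χ
    refine ⟨fun h => ?_, fun h => ?_⟩
    · have hmem : χ ∈ B := Lib.Blocks.mem_of_sameBlock hB hχ₀
        (Lib.Blocks.Covering.sameBlock_of_common_block hM hNi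
          (Lib.Blocks.sameBlock_of_mem hb hθ₀ hθ) hcon₀ h)
      obtain ⟨θ', -, he⟩ := hres χ hmem
      rw [he, Lib.Chars.classInner_irr] at h
      obtain rfl : θ' = θ := by
        by_contra hne
        exact h (if_neg hne)
      exact ⟨hmem, fun n => congrFun he n⟩
    · rw [show Lib.Clifford.resFun N (χ : G → ℂ) = (θ : N → ℂ) from funext h.2,
        Lib.Chars.classInner_irr_self]
      exact one_ne_zero
  have hcount : ∀ θ ∈ b, Nat.card {χ : IrrCharacter G // χ ∈ B ∧
      ∀ n : N, (χ : G → ℂ) n = (θ : N → ℂ) n} = N.index := by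
    intro θ hθ
    obtain ⟨m, hm⟩ := Lib.Chars.isCharacter_exists_nat_decomp
      (Lib.Chars.isCharacter_indFun N (Lib.Chars.irr_isCharacter θ))
    have hmul : ∀ χ : IrrCharacter G, (m χ : ℂ) * (χ : G → ℂ) 1 =
        if χ ∈ B ∧ ∀ n : N, (χ : G → ℂ) n = (θ : N → ℂ) n then (θ : N → ℂ) 1 else 0 := by
      intro χ
      have h1 : (m χ : ℂ) = classInner (θ : N → ℂ) (Lib.Clifford.resFun N (χ : G → ℂ)) := by
        rw [← Lib.Chars.classInner_sum_smul_irr (fun χ => (m χ : ℂ)) χ, ← hm,
          Lib.Chars.classInner_indFun_left N _ _ (Lib.Chars.irr_isClassFunction χ)]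
        rfl
      split_ifs with h
      · rw [h1, show Lib.Clifford.resFun N (χ : G → ℂ) = (θ : N → ℂ) from funext h.2,
          Lib.Chars.classInner_irr_self, one_mul]
        simpa using h.2 1
      · rw [h1, ← Lib.Chars.conj_classInner, not_ne_iff.1 (mt (hover θ hθ χ).1 h), map_zero,
          zero_mul]
    have h2 := congrFun hm 1
    rw [Lib.Chars.indFun_one_eq, Finset.sum_apply] at h2
    simp only [Pi.smul_apply, smul_eq_mul, hmul, Finset.sum_ite, Finset.sum_const_zero, add_zero,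
      Finset.sum_const, nsmul_eq_mul] at h2
    have h3 := mul_right_cancel₀ (Lib.Chars.irr_apply_one_ne_zero θ) h2
    rw [Nat.card_eq_fintype_card, Fintype.card_subtype]
    exact_mod_cast h3.symm
  choose r hr hr' using hres
  refine ⟨hNP, hD, fun χ hχ => ⟨r χ hχ, hr χ hχ, fun n => congrFun (hr' χ hχ) n⟩, hcount, ?_, ?_⟩
  · -- counting
    let e : (B : Type _) ≃ Σ θ : b, {χ : IrrCharacter G // χ ∈ B ∧
        ∀ n : N, (χ : G → ℂ) n = ((θ : IrrCharacter N) : N → ℂ) n} :=
      { toFun := fun χ => ⟨⟨r χ.1 χ.2, hr χ.1 χ.2⟩, χ.1, χ.2, fun n => congrFun (hr' χ.1 χ.2) n⟩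
        invFun := fun x => ⟨x.2.1, x.2.2.1⟩
        left_inv := fun χ => rfl
        right_inv := fun ⟨⟨θ, hθ⟩, χ, hχ, hn⟩ => by
          obtain rfl : r χ hχ = θ := Subtype.ext (funext fun n =>
            ((congrFun (hr' χ hχ) n).symm.trans (hn n)))
          rfl }
    rw [Nat.card_congr e, Nat.card_sigma, Finset.sum_congr rfl fun θ _ => hcount θ.1 θ.2,
      Finset.sum_const, Finset.card_univ, Fintype.card_eq_nat_card, smul_eq_mul, mul_comm]
  · -- rank
    let E : (N → ℂ) →ₗ[ℂ] (G → ℂ) :=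
      { toFun := fun f g => if h : g ∈ N then f ⟨g, h⟩ else 0
        map_add' := fun f f' => funext fun g => by by_cases h : g ∈ N <;> simp [h]
        map_smul' := fun c f => funext fun g => by by_cases h : g ∈ N <;> simp [h] }
    have hE : Function.Injective E := fun f f' h => funext fun n => by
      simpa [E] using congrFun h (n : G)
    have hkey : ∀ (χ : IrrCharacter G) (θ : IrrCharacter N),
        (∀ n : N, (χ : G → ℂ) n = (θ : N → ℂ) n) →
        E (pRegularPart p (θ : N → ℂ)) = pRegularPart p (χ : G → ℂ) := by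
      intro χ θ h
      funext g
      rw [Lib.BrauerFeit.pRegularPart_apply]
      by_cases hg : g ∈ N
      · simp [E, hg, Lib.BrauerFeit.pRegularPart_apply, Subgroup.orderOf_mk, ← h]
      · have : p ∣ orderOf g := by
          by_contra hp
          exact hg (Lib.Blocks.Covering.mem_of_pRegular_of_index N hNi hp)
        simp [E, hg, this]
    have himg : (fun χ : IrrCharacter G => pRegularPart p (χ : G → ℂ)) '' B =
        E '' ((fun θ : IrrCharacter N => pRegularPart p (θ : N → ℂ)) '' b) := by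
      ext f
      constructor
      · rintro ⟨χ, hχ, rfl⟩
        exact ⟨_, ⟨r χ hχ, hr χ hχ, rfl⟩, hkey χ _ fun n => congrFun (hr' χ hχ) n⟩
      · rintro ⟨_, ⟨θ, hθ, rfl⟩, rfl⟩
        have hpos : 0 < Nat.card {χ : IrrCharacter G // χ ∈ B ∧
            ∀ n : N, (χ : G → ℂ) n = (θ : N → ℂ) n} :=
          (hcount θ hθ).symm ▸ Nat.pos_of_ne_zero Subgroup.FiniteIndex.index_ne_zero
        obtain ⟨⟨χ, hχ, hn⟩⟩ := (Nat.card_pos_iff.1 hpos).1
        exact ⟨χ, hχ, (hkey χ θ hn).symm⟩
    rw [blockRank, blockRank, himg, ← Submodule.map_span]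
    exact (Submodule.equivMapOfInjective E hE _).finrank_eq.symm

end Cfsg.Agent.S4640
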