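import Cfsg.Statements.S4641
-- import your own Cfsg.Agent.* helpers here
import Cfsg.Agent.Lib.BlockAlg.Brauer
import Cfsg.Agent.Lib.BrauerFeit.DefectGroup
import Cfsg.Agent.S4491

set_option autoImplicit false
open Cfsg

namespace Cfsg.Agent.S4641

/-- Let B be a block of the finite group G relative to a maximal ideal M of the algebraic integers containing the prime p, let p^a be the p-part of the order of G and p^d the order of a defect group D of B, and let g be the greatest common divisor of the degrees of the members of B. Then the p-part of g is exactly p^(a−d), and writing g = p^(a−d)·u there is a positive integer v, prime to p and at least the p-regular rank of B (its number of irreducible Brauer characters), with Σ_{χ ∈ B} χ(1)² = p^(2a−d)·u²·v. -/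
theorem result {G : Type*} [Group G] [Finite G] (p : ℕ) [Fact p.Prime] (M : Ideal Cfsg.AlgInt) (hM : Cfsg.IsPModular p M) (B : Set (Cfsg.IrrCharacter G)) (hB : Cfsg.IsPBlock M B) (D : Subgroup G) (hD : Cfsg.IsDefectGroup p M B D) (a d : ℕ) (ha : (Nat.card G).factorization p = a) (hd : Nat.card D = p ^ d) (g : ℕ) (hg1 : ∀ χ ∈ B, g ∣ Cfsg.charDegree (χ : G → ℂ)) (hg2 : ∀ g' : ℕ, (∀ χ ∈ B, g' ∣ Cfsg.charDegree (χ : G → ℂ)) → g' ∣ g) : g.factorization p = a - d ∧ ∃ v : ℕ, 0 < v ∧ ¬ p ∣ v ∧ Cfsg.blockRank p B ≤ v ∧ ∑ᶠ χ ∈ B, Cfsg.charDegree (χ : G → ℂ) ^ 2 = p ^ (2 * a - d) * (g / p ^ (a - d)) ^ 2 * v := by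
  classical
  let : Fintype G := Fintype.ofFinite G
  have := hM.2.1
  have : M.IsPrime := Ideal.IsMaximal.isPrime inferInstance
  have hp : p.Prime := Fact.out
  have hne := Lib.Blocks.isPBlock_nonempty hB
  have hdef : blockDefect p B = d := Nat.pow_right_injective hp.two_le
    ((Lib.BrauerFeit.card_defectGroup hM hB hD).symm.trans hd)
  obtain ⟨χ₀, hχ₀, h0⟩ := Lib.BrauerFeit.exists_height_zero (p := p) hne
  have hval : ∀ χ ∈ B, (charDegree (χ : G → ℂ)).factorization p + d =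
      a + blockHeight p B (χ : G → ℂ) := fun χ hχ => by
    rw [← hdef, Lib.BrauerFeit.factorization_add_defect hχ, ha]
  have hda : d ≤ a := by
    rw [← hdef, ← ha]
    exact Nat.sub_le _ _
  have hdeg : ∀ χ : IrrCharacter G, charDegree (χ : G → ℂ) ≠ 0 := fun χ =>
    (Lib.Blocks.HeightZero.charDegree_eq χ).2
  have hg0 : g ≠ 0 := fun h => hdeg χ₀ (Nat.eq_zero_of_zero_dvd (h ▸ hg1 χ₀ hχ₀))
  have hgp : g.factorization p = a - d := by
    refine le_antisymm ?_ ?_
    · refine le_trans ((Nat.factorization_le_iff_dvd hg0 (hdeg χ₀)).2 (hg1 χ₀ hχ₀) p) ?_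
      have := hval χ₀ hχ₀
      omega
    · refine (hp.pow_dvd_iff_le_factorization hg0).1 (hg2 _ fun χ hχ => ?_)
      refine (hp.pow_dvd_iff_le_factorization (hdeg χ)).2 ?_
      have := hval χ hχ
      omega
  refine ⟨hgp, ?_⟩
  set u := g / p ^ (a - d) with hu
  have hgu : g = p ^ (a - d) * u := by
    rw [hu, ← hgp, Nat.ordProj_mul_ordCompl_eq_self]
  have hup : ¬ p ∣ u := by
    rw [hu, ← hgp]
    exact Nat.not_dvd_ordCompl hp hg0
  have hu0 : 0 < u := Nat.pos_of_ne_zero fun h => hup (h ▸ dvd_zero p)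
  obtain ⟨dd, r, φ, -, -, hc, -, hpos, hH, hN, hsum⟩ :=
    Lib.BlockAlg.exists_brauer_data hM hB
  set S := ∑ χ ∈ B.toFinset, charDegree (χ : G → ℂ) ^ 2 with hS
  have hSfin : ∑ᶠ χ ∈ B, charDegree (χ : G → ℂ) ^ 2 = S := finsum_mem_eq_toFinset_sum _ _
  have hSv : S.factorization p = 2 * a - d := by
    rw [← hSfin, S4491.result p M hM B hB, ha, hdef]
  have hS0 : S ≠ 0 := by
    refine (lt_of_lt_of_le (pow_pos (Nat.pos_of_ne_zero (hdeg χ₀)) 2) (Finset.single_le_sum
      (f := fun χ : IrrCharacter G => charDegree (χ : G → ℂ) ^ 2) (fun _ _ => Nat.zero_le _)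
      (Set.mem_toFinset.2 hχ₀))).ne'
  have hgd : ∀ b, g ∣ dd b := by
    intro b
    obtain ⟨c, hcb⟩ := hc b
    have h1 := congrFun hcb 1
    rw [(hpos b).2.1, Finset.sum_apply] at h1
    have h2 : (dd b : ℤ) = ∑ χ ∈ B.toFinset, c χ * (charDegree (χ : G → ℂ) : ℤ) := by
      rw [← Int.cast_inj (α := ℂ)]
      push_cast
      rw [h1]
      refine Finset.sum_congr rfl fun χ _ => ?_
      rw [Pi.smul_apply, smul_eq_mul, Lib.BrauerFeit.pRegularPart_apply, orderOf_one,
        if_neg hp.not_dvd_one, (Lib.Blocks.HeightZero.charDegree_eq χ).1]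
    rw [← Int.natCast_dvd_natCast, h2]
    exact Finset.dvd_sum fun χ hχ => dvd_mul_of_dvd_right
      (Int.natCast_dvd_natCast.2 (hg1 χ (Set.mem_toFinset.1 hχ))) _
  have hr : ∀ b, p ^ a * u ∣ r b := by
    intro b
    obtain ⟨P⟩ : Nonempty (Sylow p G) := inferInstance
    refine ((Nat.Coprime.pow_left a (hp.coprime_iff_not_dvd.2 hup))).mul_dvd_of_dvd_of_dvd ?_
      ((Dvd.intro_left _ hgu.symm).trans (hN g hgd b))
    have := hH b P P.isPGroup'
    rwa [P.card_eq_multiplicity, ha] at this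
  have hpow : p ^ (2 * a - d) * u ^ 2 = p ^ (a - d) * u * (p ^ a * u) := by
    rw [show 2 * a - d = (a - d) + a by omega, pow_add]
    ring
  have hdiv : p ^ (2 * a - d) * u ^ 2 ∣ S := by
    rw [← hsum, hpow, ← hgu]
    exact Finset.dvd_sum fun b _ => Nat.mul_dvd_mul (hgd b) (hr b)
  obtain ⟨v, hv⟩ := hdiv
  have hv0 : v ≠ 0 := fun h => hS0 (by rw [hv, h, mul_zero])
  refine ⟨v, Nat.pos_of_ne_zero hv0, fun hpv => ?_, ?_, hSfin.trans hv⟩
  · have h3 : p ^ (2 * a - d + 1) ∣ S := by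
      rw [hv, pow_succ, mul_assoc]
      exact Nat.mul_dvd_mul_left _ (dvd_mul_of_dvd_right hpv _)
    have h4 := (hp.pow_dvd_iff_le_factorization hS0).1 h3
    omega
  · refine Nat.le_of_mul_le_mul_left ?_
      (Nat.mul_pos (pow_pos hp.pos (2 * a - d)) (pow_pos hu0 2))
    rw [← hv, ← hsum]
    refine le_of_eq_of_le ?_ (Finset.sum_le_sum fun b _ => Nat.mul_le_mul
      (Nat.le_of_dvd (hpos b).1 (hgd b)) (Nat.le_of_dvd (hpos b).2.2 (hr b)))
    rw [hpow, ← hgu, Finset.sum_const, Finset.card_univ, Fintype.card_fin, smul_eq_mul, mul_comm]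

end Cfsg.Agent.S4641
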