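import Cfsg.Statements.S4642
import Mathlib
import Cfsg.Agent.Lib.InvariantCore.Block
import Cfsg.Agent.Lib.Glauberman.PGroup
import Cfsg.Agent.Lib.Blocks.InducedBlock
import Cfsg.Agent.Lib.Coprime.Basic
import Cfsg.Agent.Lib.PSolvable.CoprimeQuot

set_option autoImplicit false
open Cfsg

namespace Cfsg.Agent.S4642

open Cfsg.Agent.Lib Cfsg.Agent.Lib.Blocks MonoidAlgebra
open scoped ComplexConjugate

/-- In a group with a self-centralising normal p-subgroup the centralizer of a p-subgroup has the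
same property. -/
theorem centralizer_pCore_centralizer {H : Type*} [Group H] [Finite H] {p : ℕ} [Fact p.Prime]
    (V R : Subgroup H) [V.Normal] (hV : IsPGroup p V) (hR : IsPGroup p R)
    (hCV : Subgroup.centralizer (V : Set H) ≤ V) :
    Subgroup.centralizer (Cfsg.pCore p (Subgroup.centralizer (R : Set H)) :
        Set (Subgroup.centralizer (R : Set H))) ≤
      Cfsg.pCore p (Subgroup.centralizer (R : Set H)) := by
  haveI := PSolvable.pCore_characteristic (p := p) (G := Subgroup.centralizer (R : Set H))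
  refine PSolvable.le_pCore fun z => ?_
  obtain ⟨a, b, hb, hn⟩ := Nat.exists_eq_pow_mul_and_not_dvd (orderOf_pos z).ne' p
    (Fact.out : p.Prime).ne_one
  refine ⟨a, ?_⟩
  set w := z ^ p ^ a with hw
  have hwo : orderOf w = b := by
    rw [hw, orderOf_pow, hn, Nat.gcd_eq_right (Dvd.intro b rfl),
      Nat.mul_div_cancel_left _ (pow_pos (Fact.out : p.Prime).pos a)]
  let g : H := ((w : Subgroup.centralizer (R : Set H)) : H)
  have hgo : orderOf g = b := by
    rw [← hwo, ← Subgroup.orderOf_coe w, ← Subgroup.orderOf_coe (w : Subgroup.centralizer (R : Set H))]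
  have hnorm : ∀ X : Subgroup H, X ≤ Subgroup.normalizer (V : Set H) := fun X x _ =>
    Subgroup.mem_normalizer_iff.2 fun v => ⟨fun hv => (inferInstance : V.Normal).conj_mem v hv x,
      fun hv => by simpa [mul_assoc] using (inferInstance : V.Normal).conj_mem _ hv x⁻¹⟩
  have hgC : g ∈ Subgroup.centralizer (R : Set H) := (w : Subgroup.centralizer (R : Set H)).2
  have h1 : Subgroup.zpowers g ≤ Subgroup.centralizer (V : Set H) := by
    refine Coprime.thompson_PxQ hR ?_ hV ?_ (hnorm R) (hnorm _) ?_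
    · rw [Nat.card_zpowers, hgo]
      exact ((Fact.out : p.Prime).coprime_iff_not_dvd.2 hb).symm
    · rw [Subgroup.le_centralizer_iff, Subgroup.zpowers_le]
      exact hgC
    · intro v hv
      rw [Subgroup.mem_centralizer_iff]
      rintro _ ⟨i, rfl⟩
      have hvc : (⟨v, hv.2⟩ : Subgroup.centralizer (R : Set H)) ∈
          Cfsg.pCore p (Subgroup.centralizer (R : Set H)) := by
        haveI : (V.subgroupOf (Subgroup.centralizer (R : Set H))).Normal :=
          Subgroup.normal_subgroupOf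
        refine PSolvable.le_pCore (N := V.subgroupOf (Subgroup.centralizer (R : Set H)))
          (hV.comap_of_injective _ (Subgroup.subtype_injective _)) ?_
        exact hv.1
      have h2 : Commute g v := (congrArg Subtype.val
        (Subgroup.mem_centralizer_iff.1 w.2 _ hvc)).symm
      exact (h2.zpow_left i).eq
  have h2 : g ∈ V := hCV (h1 (Subgroup.mem_zpowers g))
  obtain ⟨j, hj⟩ := IsPGroup.iff_orderOf.1 hV ⟨g, h2⟩
  rw [Subgroup.orderOf_mk, hgo] at hj
  rcases Nat.eq_zero_or_pos j with rfl | hj0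
  · exact orderOf_eq_one_iff.1 (by rw [hwo, hj, pow_zero])
  · exact absurd (hj ▸ dvd_pow_self p hj0.ne') hb

/-- Below an invariant character θ of a p'-group, exactly one character of the centralizer of a
p-group of operators has multiplicity prime to p. -/
theorem eq_of_not_dvd_mult {G : Type*} [Group G] [Finite G] {p : ℕ} [Fact p.Prime]
    (K R : Subgroup G) [hK : K.Normal] [Fintype K] (hKp : ¬ p ∣ Nat.card K) (hR : IsPGroup p R)
    (θ : IrrCharacter K) (hinv : ∀ (g : G) (n : K),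
      (θ : K → ℂ) ⟨g * n * g⁻¹, hK.conj_mem n n.2 g⟩ = (θ : K → ℂ) n)
    [Fintype (K.subgroupOf (Subgroup.centralizer (R : Set G)))]
    (φ φ' : IrrCharacter (K.subgroupOf (Subgroup.centralizer (R : Set G)))) {k k' : ℕ}
    (hk : classInner (fun x : K.subgroupOf (Subgroup.centralizer (R : Set G)) =>
      (θ : K → ℂ) ⟨((x : Subgroup.centralizer (R : Set G)) : G), x.2⟩) (φ : _ → ℂ) = k)
    (hk' : classInner (fun x : K.subgroupOf (Subgroup.centralizer (R : Set G)) =>
      (θ : K → ℂ) ⟨((x : Subgroup.centralizer (R : Set G)) : G), x.2⟩) (φ' : _ → ℂ) = k')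
    (hkp : ¬ p ∣ k) (hkp' : ¬ p ∣ k') : φ = φ' := by
  classical
  cases nonempty_fintype G
  let C : Subgroup G := K ⊓ Subgroup.centralizer (R : Set G)
  haveI := Fintype.ofFinite C
  let e : C ≃* K.subgroupOf (Subgroup.centralizer (R : Set G)) :=
    { toFun := fun x => ⟨⟨x, x.2.2⟩, x.2.1⟩
      invFun := fun x => ⟨((x : Subgroup.centralizer (R : Set G)) : G), x.2,
        (x : Subgroup.centralizer (R : Set G)).2⟩
      left_inv := fun _ => rfl
      right_inv := fun _ => rfl
      map_mul' := fun _ _ => rfl }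
  have hnorm : ∀ s ∈ R, Glauberman.Normalises s K := fun s _ g =>
    ⟨fun h => hK.conj_mem g h s, fun h => by simpa [mul_assoc] using hK.conj_mem _ h s⁻¹⟩
  obtain ⟨f, hf⟩ := Glauberman.exists_pCorr p (S := R) (G := K) (C := C) hR inf_le_left hnorm hKp rfl
  have hθ : Glauberman.IsInv R (θ : K → ℂ) := fun s _ g g' h =>
    (congrArg (θ : K → ℂ) (Subtype.ext h)).trans (hinv s g)
  obtain ⟨β, hβ⟩ := hf.surj θ hθ
  have key : ∀ (ψ : IrrCharacter (K.subgroupOf (Subgroup.centralizer (R : Set G)))) (m : ℕ),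
      classInner (fun x : K.subgroupOf (Subgroup.centralizer (R : Set G)) =>
        (θ : K → ℂ) ⟨((x : Subgroup.centralizer (R : Set G)) : G), x.2⟩) (ψ : _ → ℂ) = m →
      ¬ p ∣ m → (fun x : C => (ψ : _ → ℂ) (e x)) = (β : C → ℂ) := by
    intro ψ m hm hmp
    let γ : IrrCharacter C :=
      ⟨fun x => (ψ : _ → ℂ) (e x), Chars.isIrrCharacter_comp_mulEquiv e ψ.2⟩
    have hc : Glauberman.charMult (Glauberman.resSub inf_le_left (θ : K → ℂ)) (γ : C → ℂ) = m := by
      refine Glauberman.charMult_eq_of ?_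
      rw [← hm]
      exact Chars.classInner_comp_of_surjective e.toMonoidHom e.surjective
        (fun x : K.subgroupOf (Subgroup.centralizer (R : Set G)) =>
          (θ : K → ℂ) ⟨((x : Subgroup.centralizer (R : Set G)) : G), x.2⟩) (ψ : _ → ℂ)
    have h := hf.eq_of_not_dvd (β := β) (γ := γ) (by rw [hβ, hc]; exact hmp)
    exact congrArg Subtype.val h
  have h := (key φ k hk hkp).trans (key φ' k' hk' hkp').symm
  refine Subtype.ext (funext fun x => ?_)
  simpa using congrFun h (e.symm x)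

/-- Let G be a finite group, p a prime, M a maximal ideal of the algebraic integers containing p, K the largest normal subgroup of G of order prime to p, and L the preimage in G of the largest normal p-subgroup of G/K. Let Q be a Sylow p-subgroup of L and suppose C_G(Q) ≤ L. Let θ be an irreducible character of K invariant under conjugation by every element of G, and let B be the set of irreducible characters of G whose restriction to K contains θ. Then B is a block of G, every Sylow p-subgroup of G is a defect group of B, and B is of principal type: for every p-subgroup R of G exactly one block of C_G(R) induces B. -/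
theorem result {G : Type*} [Group G] [Fintype G] (p : ℕ) [Fact p.Prime] (M : Ideal Cfsg.AlgInt) (hM : Cfsg.IsPModular p M) (K : Subgroup G) (hK : K = Cfsg.pPrimeCore p G) [Fintype K] (L : Subgroup G) (hL : L = Cfsg.pPrimePCore p G) (Q : Subgroup G) (hQL : Q ≤ L) (hQp : IsPGroup p Q) (hQS : ¬ p ∣ Q.relIndex L) (hCQ : Subgroup.centralizer (Q : Set G) ≤ L) (θ : Cfsg.IrrCharacter K) (hθ : ∀ g : G, Cfsg.IsConjCharOf K g (θ : K → ℂ) (θ : K → ℂ)) (B : Set (Cfsg.IrrCharacter G)) (hBdef : ∀ χ : Cfsg.IrrCharacter G, χ ∈ B ↔ Cfsg.classInner (fun k : K => (χ : G → ℂ) k) (θ : K → ℂ) ≠ 0) : Cfsg.IsPBlock M B ∧ (∀ S : Sylow p G, Cfsg.IsDefectGroup p M B S) ∧ ∀ R : Subgroup G, IsPGroup p R → ∃! f : Set (Cfsg.IrrCharacter (Subgroup.centralizer (R : Set G))), Cfsg.IsInducedBlock M (Subgroup.centralizer (R : Set G)) f B := by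
  classical
  haveI := isPModular_isPrime hM
  have hp : p.Prime := Fact.out
  haveI hKn : K.Normal := by
    haveI := PSolvable.pPrimeCore_characteristic (p := p) (G := G)
    exact hK ▸ inferInstance
  haveI hLn : L.Normal := hL ▸ PSolvable.pPrimePCore_normal
  have hKp : ¬ p ∣ Nat.card K := hK ▸ PSolvable.pPrimeCore_not_dvd
  have hKL : K ≤ L := hK ▸ hL ▸ PSolvable.pPrimeCore_le_pPrimePCore
  have hinv : ∀ (g : G) (n : K),
      (θ : K → ℂ) ⟨g * n * g⁻¹, hKn.conj_mem n n.2 g⟩ = (θ : K → ℂ) n :=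
    fun g n => hθ g n _ rfl
  let f := QuotientGroup.mk' K
  have hfL : L.map f = Cfsg.pCore p (G ⧸ K) := by
    subst hK hL
    exact PSolvable.map_mk'_pPrimePCore
  have hfQ : Q.map f = Cfsg.pCore p (G ⧸ K) := by
    rw [← hfL]
    refine le_antisymm (Subgroup.map_mono hQL) (Subgroup.relIndex_eq_one.1 ?_)
    have hpg : IsPGroup p (L.map f) := hfL ▸ PSolvable.pCore_isPGroup
    obtain ⟨m, hm⟩ := IsPGroup.iff_card.1 hpg
    have h1 : (Q.map f).relIndex (L.map f) ∣ p ^ m := hm ▸ Subgroup.relIndex_dvd_card _ _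
    obtain ⟨i, -, hi⟩ := (Nat.dvd_prime_pow hp).1 h1
    rcases Nat.eq_zero_or_pos i with rfl | hi0
    · simpa using hi
    · refine absurd ?_ hQS
      have hker : f.ker ≤ L := by rw [QuotientGroup.ker_mk']; exact hKL
      have h2 : (Q.map f).relIndex (L.map f) ∣ Q.relIndex L := by
        rw [Subgroup.relIndex_map_map, sup_eq_left.2 hker]
        exact Subgroup.relIndex_dvd_of_le_left _ le_sup_left
      exact ((hi ▸ dvd_pow_self p hi0.ne' : p ∣ (Q.map f).relIndex (L.map f))).trans h2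
  have hcov : ∀ l ∈ L, ∃ u ∈ Q, u⁻¹ * l ∈ K := by
    intro l hl
    have h : f l ∈ Q.map f := by
      rw [hfQ, ← hfL]
      exact Subgroup.mem_map_of_mem f hl
    obtain ⟨u, hu, hul⟩ := h
    exact ⟨u, hu, QuotientGroup.eq.1 hul⟩
  obtain ⟨χ₀, hχ₀, hχ₀p⟩ := InvariantCore.exists_not_dvd_over K hKp θ hinv
  have hBeq : B = blockOf M (χ₀ : G → ℂ) := Set.ext fun χ =>
    ⟨fun h => InvariantCore.sameBlock_over hM K L hKp hKL Q hQp hQL hcov hCQ θ hinv χ₀ χ hχ₀
      ((hBdef χ).1 h),
     fun h => (hBdef χ).2 (Covering.constituent_of_sameBlock hM hKp h hχ₀)⟩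
  have hB : IsPBlock M B := hBeq ▸ isPBlock_blockOf χ₀
  have hχ₀B : χ₀ ∈ B := (hBdef χ₀).2 hχ₀
  have hsyl := InvariantCore.defectGroups_eq_sylow hM hB hχ₀B hχ₀p
  refine ⟨hB, hsyl.1, fun R hR => ?_⟩
  let H := Subgroup.centralizer (R : Set G)
  let : Fintype H := Fintype.ofFinite _
  have hHR : Subgroup.centralizer (R : Set G) ≤ H := le_rfl
  have hHN : H ≤ Subgroup.normalizer (R : Set G) := Subgroup.centralizer_le_normalizer _
  -- induction from the centralizer is the Brauer map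
  have hres : ∀ z : RCenter M G, resR M H z = brR M R H hHN z := fun z =>
    Subtype.ext (MonoidAlgebra.ext (Finsupp.ext fun h => by
      have h2 : (h : G) ∈ Subgroup.centralizer ((⊥ : Subgroup G) : Set G) := by
        simp [Subgroup.mem_centralizer_iff]
      rw [coe_brR, coe_brR, coeff_trunc, coeff_trunc, if_pos h2, if_pos h.2]))
  have hindiff : ∀ (c : Set (IrrCharacter H)) (ξ : IrrCharacter H) (χ : IrrCharacter G),
      IsInducedBlock M H c B → ξ ∈ c → χ ∈ B →
        ∀ z : RCenter M G, omegaBar M ξ (brR M R H hHN z) = omegaBar M χ z := by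
    intro c ξ χ hc hξ hχ z
    haveI : Fintype (ConjClasses G) := Fintype.ofFinite _
    rw [← brPhi_apply hM hR hHR hHN ξ, omegaBar_eq_sum χ z]
    conv_lhs => rw [rcenter_eq_sum z]
    simp only [map_sum, Algebra.smul_def, map_mul, brPhi_algebraMap]
    refine Finset.sum_congr rfl fun d _ => ?_
    rw [brPhi_apply, ← hres, (memLocalIdeal_induced_sub_iff H ξ χ _).1 (hc.2.2 ξ hξ χ hχ _)]
  -- existence
  obtain ⟨S, hRS⟩ := hR.exists_le_sylow
  obtain ⟨g₀, hg₀, hg₀S⟩ := isDefectGroup_iff.1 (hsyl.1 S)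
  have hg₀R : g₀ ∈ Subgroup.centralizer (R : Set G) :=
    Subgroup.centralizer_le hRS (le_centralizer_singleton_iff.1 hg₀S.2.1)
  obtain ⟨ξ₁, hξ₁⟩ := exists_brPhi_eq hM hR hHR hHN hB hg₀R hg₀.2.1 hχ₀B
  have hind₁ : IsInducedBlock M H (blockOf M (ξ₁ : H → ℂ)) B := by
    refine ⟨isPBlock_blockOf ξ₁, hB, fun ξ hξ χ hχ g => ?_⟩
    rw [memLocalIdeal_induced_sub_iff, hres,
      omegaBar_eq_of_sameBlock (sameBlock_of_mem (isPBlock_blockOf ξ₁) hξ (mem_blockOf_self ξ₁)),
      ← omegaBar_eq_of_sameBlock (sameBlock_of_mem hB hχ₀B hχ), ← brPhi_apply hM hR hHR hHN, hξ₁]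
  refine ⟨_, hind₁, fun c hc => ?_⟩
  obtain ⟨ξ, hξ⟩ := isPBlock_nonempty hc.1
  refine isPBlock_eq_of_mem hc.1 (isPBlock_blockOf ξ₁) hξ ?_
  -- the local structure of the centralizer
  let K0 : Subgroup H := K.subgroupOf H
  haveI hK0n : K0.Normal := Subgroup.normal_subgroupOf
  let : Fintype K0 := Fintype.ofFinite _
  have hK0p : ¬ p ∣ Nat.card K0 := fun h => hKp (h.trans (Subgroup.card_comap_dvd_of_injective K
    H.subtype H.subtype_injective))
  have hCH : H.map f = Subgroup.centralizer ((R.map f : Subgroup (G ⧸ K)) : Set (G ⧸ K)) :=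
    (PSolvable.centralizer_map_mk' K ((hp.coprime_iff_not_dvd.2 hKp).symm) hR).symm
  let Cq := Subgroup.centralizer ((R.map f : Subgroup (G ⧸ K)) : Set (G ⧸ K))
  let F : H →* Cq := (f.comp H.subtype).codRestrict Cq fun h => hCH.le (Subgroup.mem_map_of_mem f h.2)
  have hF : Function.Surjective F := by
    rintro ⟨y, hy⟩
    obtain ⟨h, hh, rfl⟩ := (hCH.ge hy : y ∈ H.map f)
    exact ⟨⟨h, hh⟩, rfl⟩
  have hVC : Subgroup.centralizer (Cfsg.pCore p (G ⧸ K) : Set (G ⧸ K)) ≤ Cfsg.pCore p (G ⧸ K) := by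
    rw [← hfQ, PSolvable.centralizer_map_mk' K ((hp.coprime_iff_not_dvd.2 hKp).symm) hQp]
    exact (Subgroup.map_mono hCQ).trans (hfL.trans hfQ.symm).le
  have hO : Subgroup.centralizer (Cfsg.pCore p Cq : Set Cq) ≤ Cfsg.pCore p Cq := by
    haveI := PSolvable.pCore_characteristic (p := p) (G := G ⧸ K)
    exact centralizer_pCore_centralizer (Cfsg.pCore p (G ⧸ K)) (R.map f) PSolvable.pCore_isPGroup
      (hR.map f) hVC
  haveI := PSolvable.pCore_characteristic (p := p) (G := Cq)
  let LH : Subgroup H := (Cfsg.pCore p Cq).comap F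
  haveI hLHn : LH.Normal := Subgroup.Normal.comap inferInstance F
  have hK0L : K0 ≤ LH := fun h hh => by
    show F h ∈ Cfsg.pCore p Cq
    rw [show F h = 1 from Subtype.ext ((QuotientGroup.eq_one_iff _).2 hh)]
    exact one_mem _
  obtain ⟨PQ⟩ : Nonempty (Sylow p LH) := inferInstance
  let QH : Subgroup H := (PQ : Subgroup LH).map LH.subtype
  have hQH : IsPGroup p QH := PQ.isPGroup'.map _
  have hQHL : QH ≤ LH := Subgroup.map_subtype_le _
  let FO : LH →* Cfsg.pCore p Cq := (F.comp LH.subtype).codRestrict _ fun h => h.2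
  have hFO : Function.Surjective FO := by
    rintro ⟨y, hy⟩
    obtain ⟨h, rfl⟩ := hF y
    exact ⟨⟨h, hy⟩, rfl⟩
  have hFOP : (PQ : Subgroup LH).map FO = ⊤ :=
    ((PQ.mapSurjective hFO).is_maximal' (PSolvable.pCore_isPGroup.to_subgroup ⊤) le_top).symm
  have hcovH : ∀ l ∈ LH, ∃ u ∈ QH, u⁻¹ * l ∈ K0 := by
    intro l hl
    obtain ⟨u, hu, hul⟩ := (hFOP.ge (Subgroup.mem_top (FO ⟨l, hl⟩)) :
      FO ⟨l, hl⟩ ∈ (PQ : Subgroup LH).map FO)
    have e1 : (QuotientGroup.mk ((u : H) : G) : G ⧸ K) = QuotientGroup.mk (l : G) :=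
      congrArg Subtype.val (congrArg Subtype.val hul)
    have e2 := QuotientGroup.eq.1 e1
    exact ⟨u, ⟨u, hu, rfl⟩, e2⟩
  have hcentH : Subgroup.centralizer (QH : Set H) ≤ LH := by
    intro h hh
    refine hO (Subgroup.mem_centralizer_iff.2 fun y hy => ?_)
    obtain ⟨u, hu, hul⟩ := (hFOP.ge (Subgroup.mem_top (⟨y, hy⟩ : Cfsg.pCore p Cq)) :
      (⟨y, hy⟩ : Cfsg.pCore p Cq) ∈ (PQ : Subgroup LH).map FO)
    have e : F (u : H) = y := congrArg Subtype.val hul
    rw [← e, ← map_mul, ← map_mul,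
      show (u : H) * h = h * u from Subgroup.mem_centralizer_iff.1 hh _ ⟨u, hu, rfl⟩]
  -- the idempotent of θ and its image
  obtain ⟨E, hEθ, hover⟩ := InvariantCore.exists_coreExt K L hKp hKL Q hQp hQL hcov θ hinv
  let e : RCenter M G :=
    ⟨InvariantCore.beta M hM hKp E 1, InvariantCore.beta_one_mem_center M hM hKp E⟩
  have he : omegaBar M χ₀ e = 1 := by
    rw [omegaBar_apply, show omegaR M χ₀ e = 1 from Subtype.ext ?_, map_one]
    rw [coe_omegaR, omega_eq_sum, OneMemClass.coe_one]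
    have hcard : (Nat.card K : ℂ) ≠ 0 := Nat.cast_ne_zero.2 Nat.card_pos.ne'
    have h1 := E.conv 1 (one_mem L) 1 (one_mem L)
    simp only [one_mul, mul_one] at h1
    rw [div_mul_cancel₀ _ E.ne] at h1
    calc _ = (Nat.card K : ℂ)⁻¹ * ∑ x : G, if x ∈ K then E.f x * E.f x⁻¹ else 0 := by
          rw [Finset.mul_sum]
          refine Finset.sum_congr rfl fun x _ => ?_
          simp only [coeff_mapRingHom, Subring.coe_subtype, e, InvariantCore.coe_coeff_beta,
            inv_one, one_mul]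
          split_ifs with hx
          · rw [hover χ₀ hχ₀ x hx]
            have := E.ne
            field_simp
          · simp
      _ = 1 := by rw [h1, inv_mul_cancel₀ hcard]
  obtain ⟨d, hd0, hd, -⟩ := Chars.irr_degree_dvd_card θ
  let rθ : K0 → ℂ := fun x => (θ : K → ℂ) ⟨((x : H) : G), x.2⟩
  have hrθ : IsCharacter K0 rθ :=
    Chars.isCharacter_comp (((H.subtype.comp K0.subtype)).codRestrict K fun x => x.2)
      (Chars.irr_isCharacter θ)
  have hmult : ∀ (ζ : IrrCharacter H) (φ : IrrCharacter K0),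
      omegaBar M ζ (brR M R H hHN e) = 1 →
      classInner (Clifford.resFun K0 (ζ : H → ℂ)) (φ : K0 → ℂ) ≠ 0 →
      ∃ k : ℕ, classInner rθ (φ : K0 → ℂ) = k ∧ ¬ p ∣ k := by
    intro ζ φ h1 hφ
    obtain ⟨k, hk⟩ := Chars.isCharacter_classInner_nat hrθ (Chars.irr_isCharacter φ)
    refine ⟨k, hk, fun hpk => ?_⟩
    obtain ⟨m, hm0, hm, hmdvd⟩ := Chars.irr_degree_dvd_card φ
    have hmp : ¬ p ∣ m := fun h => hK0p (h.trans hmdvd)
    have hval : (omegaR M ζ (brR M R H hHN e) : ℂ) =
        (Nat.card K : ℂ)⁻¹ * d * ((Nat.card K0 : ℂ) * k) / m := by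
      rw [coe_omegaR, omega_eq_sum]
      have hco : ∀ h : H, (toC M H (brR M R H hHN e : MonoidAlgebra (localRing M) H)).coeff h =
          if h ∈ K0 then (Nat.card K : ℂ)⁻¹ * d * E.f ((h : G))⁻¹ else 0 := by
        intro h
        simp only [coeff_mapRingHom, Subring.coe_subtype, coe_brR, coeff_trunc, e]
        rw [if_pos h.2, InvariantCore.coe_coeff_beta]
        simp only [inv_one, one_mul]
        have h1' : E.f 1 = (d : ℂ) := (hEθ 1).trans hd
        rw [h1']
        rfl
      have hcf : IsClassFunction H (fun h : H => if h ∈ K0 then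
          (Nat.card K : ℂ)⁻¹ * d * E.f ((h : G))⁻¹ else 0) := by
        intro a b
        refine if_congr ?_ ?_ rfl
        · exact ⟨fun h => by simpa [mul_assoc] using hK0n.conj_mem _ h b⁻¹,
            fun h => hK0n.conj_mem a h b⟩
        · push_cast
          rw [show ((b : G) * a * (b : G)⁻¹)⁻¹ = (b : G) * (a : G)⁻¹ * (b : G)⁻¹ by group, E.conj]
      have hsum := Covering.sum_normal_mul_div_eq hcf ζ φ hφ
      simp only [hco]
      rw [Covering.sum_eq_sum_normal (N := K0) (f := fun h : H => (if h ∈ K0 then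
          (Nat.card K : ℂ)⁻¹ * d * E.f ((h : G))⁻¹ else 0) * ((ζ : H → ℂ) h / (ζ : H → ℂ) 1))
        (fun h hh => by rw [if_neg hh, zero_mul])]
      simp only [← mul_div_assoc]
      rw [hsum]
      simp only [SetLike.coe_mem, if_true, hm, ← Finset.sum_div, mul_assoc, ← Finset.mul_sum]
      congr 1
      congr 2
      have hk' := congrArg conj hk
      rw [map_natCast] at hk'
      rw [← hk', classInner, map_mul, map_inv₀, map_natCast, map_sum,
        mul_inv_cancel_left₀ (Nat.cast_ne_zero.2 Nat.card_pos.ne')]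
      refine Finset.sum_congr rfl fun x _ => ?_
      rw [map_mul, Complex.conj_conj]
      congr 1
      have e1 : E.f ((((x : H) : G))⁻¹) = (θ : K → ℂ) (⟨((x : H) : G), x.2⟩ : K)⁻¹ :=
        hEθ (⟨((x : H) : G), x.2⟩ : K)⁻¹
      rw [e1, Chars.irr_inv]
    rw [omegaBar_apply] at h1
    have h0 : residue M (omegaR M ζ (brR M R H hHN e)) = 0 := by
      rw [residue_eq_zero_iff, hval]
      have := memLocalIdeal_mul_left (M := M)
        (x := (Nat.card K : ℂ)⁻¹ * d * ((Nat.card K0 : ℂ) * (m : ℂ)⁻¹)) (y := (k : ℂ))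
        (mem_localRing.1 (mul_mem (mul_mem (inv_natCast_mem_localRing hM hKp)
          (natCast_mem_localRing d)) (mul_mem (natCast_mem_localRing _)
          (inv_natCast_mem_localRing hM hmp))))
        ((memLocalIdeal_natCast_iff hM k).2 hpk)
      convert this using 1
      field_simp
    exact one_ne_zero (h1.symm.trans h0)
  obtain ⟨φ, hφ⟩ := Covering.exists_constituent (N := K0) ξ
  obtain ⟨φ₁, hφ₁⟩ := Covering.exists_constituent (N := K0) ξ₁
  have hξe : omegaBar M ξ (brR M R H hHN e) = 1 := (hindiff c ξ χ₀ hc hξ hχ₀B e).trans he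
  have hξ₁e : omegaBar M ξ₁ (brR M R H hHN e) = 1 :=
    (hindiff _ ξ₁ χ₀ hind₁ (mem_blockOf_self ξ₁) hχ₀B e).trans he
  have huniq : ∀ φ' : IrrCharacter K0,
      (∃ ζ : IrrCharacter H, omegaBar M ζ (brR M R H hHN e) = 1 ∧
        classInner (Clifford.resFun K0 (ζ : H → ℂ)) (φ' : K0 → ℂ) ≠ 0) → φ' = φ := by
    rintro φ' ⟨ζ, h1, h2⟩
    obtain ⟨k, hk, hkp⟩ := hmult ξ φ hξe hφ
    obtain ⟨k', hk', hkp'⟩ := hmult ζ φ' h1 h2
    exact eq_of_not_dvd_mult K R hKp hR θ hinv φ' φ hk' hk hkp' hkp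
  have hφinv : ∀ (g : H) (n : K0),
      (φ : K0 → ℂ) ⟨g * n * g⁻¹, hK0n.conj_mem n n.2 g⟩ = (φ : K0 → ℂ) n := by
    intro g n
    have h := huniq ⟨Clifford.conjFun g (φ : K0 → ℂ), Clifford.isIrrCharacter_conjFun g φ.2⟩
      ⟨ξ, hξe, by
        rw [Clifford.classInner_resFun_conjFun (Chars.irr_isClassFunction ξ)]; exact hφ⟩
    have := congrFun (congrArg Subtype.val h) n
    refine Eq.trans ?_ this
    simp only [Clifford.conjFun]
  have hφ₁' := huniq φ₁ ⟨ξ₁, hξ₁e, hφ₁⟩
  subst hφ₁'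
  exact InvariantCore.sameBlock_over hM K0 LH hK0p hK0L QH hQH hQHL hcovH hcentH φ₁ hφinv ξ₁ ξ hφ₁ hφ

end Cfsg.Agent.S4642
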