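import Cfsg.Statements.S4644
import Cfsg.Agent.Lib.AbelianStar.Main

open Cfsg.Agent.Lib


set_option autoImplicit false
open Cfsg

namespace Cfsg.Agent.S4644

/-- Let B be a block of the finite group G relative to a maximal ideal M of the algebraic integers containing the prime p, with a commutative defect group P; let c be a block of C_G(P) inducing B and T the stabilizer of c in N_G(P). Let u be an element of P fixed under conjugation by every element of T, H = C_G(u) (so C_G(P) ≤ H), and f the block of H induced by c inside H. Then B and f have the same p-regular rank and the same number of irreducible characters. -/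
theorem result {G : Type*} [Group G] [Finite G] (p : ℕ) [Fact p.Prime] (M : Ideal Cfsg.AlgInt) (hM : Cfsg.IsPModular p M) (B : Set (Cfsg.IrrCharacter G)) (hB : Cfsg.IsPBlock M B) (P : Subgroup G) (hPD : Cfsg.IsDefectGroup p M B P) (hPab : ∀ x ∈ P, ∀ y ∈ P, x * y = y * x) (c : Set (Cfsg.IrrCharacter (Subgroup.centralizer (P : Set G)))) (hc : Cfsg.IsInducedBlock M (Subgroup.centralizer (P : Set G)) c B) (T : Subgroup G) (hT : ∀ g : G, g ∈ T ↔ (g ∈ Subgroup.normalizer (P : Set G) ∧ Cfsg.StabilizesBlock (Subgroup.centralizer (P : Set G)) c g)) (u : G) (hu : u ∈ P) (huT : ∀ g ∈ T, g * u * g⁻¹ = u) (H : Subgroup G) (hH : H = Subgroup.centralizer ({u} : Set G)) (f : Set (Cfsg.IrrCharacter H)) (hf : Cfsg.IsInducedBlockIn M H (Subgroup.centralizer (P : Set G)) c f) : Cfsg.blockRank p B = Cfsg.blockRank p f ∧ Nat.card B = Nat.card f := by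
  cases nonempty_fintype G
  haveI := Blocks.isPModular_isPrime hM
  have hPp : IsPGroup p P := Blocks.isPGroup_of_isDefectGroup hPD
  have hmax : IsMaximalBrauerPair p M B P c :=
    BrauerPairs.KernelCore.isMaximal_of_defectGroup hM (a := ⟨P, c⟩)
      (BrauerPairs.isBrauerPairOf_of_isInducedBlock hPp hc) hPD
  have hfix : AbelianStar.IsFixed (⟨P, c⟩ : BrauerPairIdx G) u := fun y hy =>
    huT y ((hT y).2 ((BrauerPairs.mem_pairStab_iff_stabilizesBlock (a := ⟨P, c⟩) hmax.1.1.2).1
      ((AbelianStar.inStab_iff hmax.1.1.2).1 hy)))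
  obtain rfl : H = Subgroup.centralizer ((NilBlock.bu p M (⟨P, c⟩ : BrauerPairIdx G) u).1 : Set G) := by
    rw [hH, NilBlock.centralizer_bu]
  obtain rfl : f = (NilBlock.bu p M (⟨P, c⟩ : BrauerPairIdx G) u).2 :=
    AbelianStar.isInducedBlockIn_unique hf
      (AbelianStar.isInducedBlockIn_bu (b := ⟨P, c⟩) hM hmax hPab hu)
  exact ⟨AbelianStar.blockRank_eq_blockRank_bu (b := ⟨P, c⟩) hM hmax hPab hu hfix,
    AbelianStar.card_eq_card_bu (b := ⟨P, c⟩) hM hmax hPab hu hfix⟩

end Cfsg.Agent.S4644
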