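import Cfsg.Statements.S4645
import Cfsg.Agent.Lib.NilBlock.Main
import Cfsg.Agent.Lib.BrauerPairs.CyclicInertia

open Cfsg.Agent.Lib


set_option autoImplicit false
open Cfsg

namespace Cfsg.Agent.S4645

/-- Let B be a block of the finite group G relative to a maximal ideal M of the algebraic integers containing the prime p, with a nontrivial cyclic defect group P; let c be a block of C_G(P) inducing B and T the stabilizer of c in N_G(P). Let Q be a nontrivial subgroup of P (so C_G(P) ≤ C_G(Q)), f the block of C_G(Q) induced by c inside C_G(Q), and T' the stabilizer of f in N_G(Q). Then T' = T·C_G(Q), the index of C_G(Q) in T' equals the index of C_G(P) in T, f has p-regular rank 1, and f is a nilpotent block of C_G(Q). -/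
theorem result {G : Type*} [Group G] [Finite G] (p : ℕ) [Fact p.Prime] (M : Ideal Cfsg.AlgInt) (hM : Cfsg.IsPModular p M) (B : Set (Cfsg.IrrCharacter G)) (hB : Cfsg.IsPBlock M B) (P : Subgroup G) (hPD : Cfsg.IsDefectGroup p M B P) (hP1 : P ≠ ⊥) (hcyc : IsCyclic P) (c : Set (Cfsg.IrrCharacter (Subgroup.centralizer (P : Set G)))) (hc : Cfsg.IsInducedBlock M (Subgroup.centralizer (P : Set G)) c B) (T : Subgroup G) (hT : ∀ g : G, g ∈ T ↔ (g ∈ Subgroup.normalizer (P : Set G) ∧ Cfsg.StabilizesBlock (Subgroup.centralizer (P : Set G)) c g)) (Q : Subgroup G) (hQP : Q ≤ P) (hQ1 : Q ≠ ⊥) (f : Set (Cfsg.IrrCharacter (Subgroup.centralizer (Q : Set G)))) (hf : Cfsg.IsInducedBlockIn M (Subgroup.centralizer (Q : Set G)) (Subgroup.centralizer (P : Set G)) c f) (T' : Subgroup G) (hT' : ∀ g : G, g ∈ T' ↔ (g ∈ Subgroup.normalizer (Q : Set G) ∧ Cfsg.StabilizesBlock (Subgroup.centralizer (Q : Set G)) f g)) : T' = T ⊔ Subgroup.centralizer (Q : Set G) ∧ (Subgroup.centralizer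 (Q : Set G)).relIndex T' = (Subgroup.centralizer (P : Set G)).relIndex T ∧ Cfsg.blockRank p f = 1 ∧ Cfsg.IsNilpotentBlock p M f := by
  cases nonempty_fintype G
  haveI := Blocks.isPModular_isPrime hM
  have hPp : IsPGroup p P := Blocks.isPGroup_of_isDefectGroup hPD
  have hmax : IsMaximalBrauerPair p M B P c :=
    BrauerPairs.KernelCore.isMaximal_of_defectGroup hM (a := ⟨P, c⟩)
      (BrauerPairs.isBrauerPairOf_of_isInducedBlock hPp hc) hPD
  have hab : ∀ x ∈ P, ∀ y ∈ P, x * y = y * x := fun x hx y hy => by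
    letI := hcyc.commGroup
    exact congrArg Subtype.val (mul_comm (⟨x, hx⟩ : P) ⟨y, hy⟩)
  have hle : BrauerPairs.PairLE p M ⟨Q, f⟩ ⟨P, c⟩ := Relation.ReflTransGen.single
    (BrauerPairs.LocalInertial.normalSubpair hM
      (BrauerPairs.le_centralizer_of_comm hab hQP) hQP hPp hmax.1.1.2 hf)
  have hTmem : ∀ g : G, g ∈ T ↔ g ∈ BrauerPairs.pairStab (a := ⟨P, c⟩) hmax.1.1.2 := fun g =>
    (hT g).trans (BrauerPairs.mem_pairStab_iff_stabilizesBlock (a := ⟨P, c⟩) hmax.1.1.2).symm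
  have hfree : ∀ g ∈ T, g ∈ Subgroup.centralizer (Q : Set G) →
      g ∈ Subgroup.centralizer (P : Set G) := fun g hg hgQ =>
    BrauerPairs.CyclicInertia.mem_centralizer_of_stab (b := ⟨P, c⟩) hM hmax hcyc hQP hQ1
      ((hTmem g).1 hg) hgQ
  have hnorm : ∀ g ∈ T, g ∈ Subgroup.normalizer (Q : Set G) := fun g hg =>
    BrauerPairs.CyclicInertia.mem_normalizer_of_stab (b := ⟨P, c⟩) hmax hcyc hQP ((hTmem g).1 hg)
  have hTT : T ≤ T' := fun g hg => (hT' g).2 ((BrauerPairs.mem_pairStab_iff_stabilizesBlock (a := ⟨Q, f⟩) hf.2.1).1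
    (BrauerPairs.conjPair_eq_of_stab hM hmax.1.1 hle ((hTmem g).1 hg) (hnorm g hg)))
  have hCT : Subgroup.centralizer (Q : Set G) ≤ T' := fun g hg => (hT' g).2
    ⟨Subgroup.centralizer_le_normalizer _ hg, BrauerMap.stabilizesBlock_of_mem f hg⟩
  have hfac : ∀ x ∈ T', ∃ y ∈ T, ∃ d ∈ Subgroup.centralizer (Q : Set G), x = y * d := by
    intro x hx
    obtain ⟨y, hy, d, hd, hxy⟩ := BrauerPairs.exists_factor_of_comm (b := ⟨P, c⟩) (a := ⟨Q, f⟩) hM
      hmax hab hle (x := x) ((BrauerPairs.mem_pairStab_iff_stabilizesBlock (a := ⟨Q, f⟩) hf.2.1).2 ((hT' x).1 hx))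
    exact ⟨y, (hTmem y).2 hy, d, hd, hxy⟩
  have hnil : IsNilpotentBlock p M f :=
    (BrauerPairs.LocalInertial.isNilpotentBlock_iff hM hab hQP hmax hf).2
      fun g hgQ hgN hst => hfree g ((hT g).2 ⟨hgN, hst⟩) hgQ
  refine ⟨le_antisymm (fun x hx => ?_) (sup_le hTT hCT), ?_, ?_, hnil⟩
  · obtain ⟨y, hy, d, hd, rfl⟩ := hfac x hx
    exact mul_mem (Subgroup.mem_sup_left hy) (Subgroup.mem_sup_right hd)
  · rw [show (Subgroup.centralizer (Q : Set G)).relIndex T' =
      ((Subgroup.centralizer (Q : Set G)).subgroupOf T').index from rfl,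
      BrauerPairs.centralizer_index_eq hCT hTT (fun g hg => ((hT' g).1 hg).1) hfac,
      ← Subgroup.inf_relIndex_right]
    congr 1
    refine le_antisymm (fun g hg => hfree g hg.2 hg.1) (le_inf (BrauerMap.centralizer_anti hQP) ?_)
    exact fun g hg => (hT g).2
      ⟨Subgroup.centralizer_le_normalizer _ hg, BrauerMap.stabilizesBlock_of_mem c hg⟩
  · haveI := Fintype.ofFinite (Subgroup.centralizer (Q : Set G))
    exact NilBlock.blockRank_eq_one hM hnil

end Cfsg.Agent.S4645
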