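import Cfsg.Statements.S4649
import Cfsg.Agent.Lib.CyclicBlock.RankOne
import Cfsg.Agent.Lib.BrauerPairs.NilpotentLocal

open Cfsg.Agent.Lib

set_option autoImplicit false
open Cfsg

namespace Cfsg.Agent.S4649

/-- A block with cyclic defect group, of a finite group relative to a maximal ideal M of the algebraic integers containing the prime p, is nilpotent if and only if its p-regular rank is 1 (it has a unique irreducible Brauer character). -/
theorem result {G : Type*} [Group G] [Finite G] (p : ℕ) [Fact p.Prime] (M : Ideal Cfsg.AlgInt) (hM : Cfsg.IsPModular p M) (B : Set (Cfsg.IrrCharacter G)) (hB : Cfsg.IsPBlock M B) (P : Subgroup G) (hPD : Cfsg.IsDefectGroup p M B P) (hcyc : IsCyclic P) : Cfsg.IsNilpotentBlock p M B ↔ Cfsg.blockRank p B = 1 := by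
  cases nonempty_fintype G
  haveI := Blocks.isPModular_isPrime hM
  obtain ⟨c, hmax⟩ := NilBlock.exists_maximal hM hB hPD
  refine ⟨fun hnil => NilBlock.blockRank_eq_one hM hnil, fun hl => ?_⟩
  have hab : ∀ x ∈ P, ∀ z ∈ P, x * z = z * x := fun x hx z hz => by
    haveI := hcyc
    letI : CommGroup P := IsCyclic.commGroup
    exact congrArg Subtype.val (mul_comm (⟨x, hx⟩ : P) ⟨z, hz⟩)
  refine (BrauerPairs.isNilpotentBlock_iff_of_comm (b := ⟨P, c⟩) hM hmax hab).2 fun x hxN hxst => ?_
  exact CyclicBlock.mem_centralizer_of_rank_one (b := ⟨P, c⟩) hM hmax hPD hcyc hl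
    ((AbelianStar.inStab_iff hmax.1.1.2).2
      ((BrauerPairs.mem_pairStab_iff_stabilizesBlock (a := ⟨P, c⟩) hmax.1.1.2).2 ⟨hxN, hxst⟩))

end Cfsg.Agent.S4649
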