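import Cfsg.Statements.S4650
import Cfsg.Agent.Lib.BrauerPairs.LocalInertial

open Cfsg.Agent


set_option autoImplicit false
open Cfsg

namespace Cfsg.Agent.S4650

/-- Let B be a block of the finite group G relative to a maximal ideal M of the algebraic integers containing the prime p, with a nontrivial commutative defect group P; let c be a block of C_G(P) inducing B and T the stabilizer of c in N_G(P). Then T/C_G(P) acts freely on the non-identity elements of P (an element of T fixing a non-identity element of P under conjugation lies in C_G(P)) if and only if, for every nontrivial subgroup Q of P, the block of C_G(Q) induced by c inside C_G(Q) is a nilpotent block of C_G(Q). -/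
theorem result {G : Type*} [Group G] [Finite G] (p : ℕ) [Fact p.Prime] (M : Ideal Cfsg.AlgInt) (hM : Cfsg.IsPModular p M) (B : Set (Cfsg.IrrCharacter G)) (hB : Cfsg.IsPBlock M B) (P : Subgroup G) (hPD : Cfsg.IsDefectGroup p M B P) (hPab : ∀ x ∈ P, ∀ y ∈ P, x * y = y * x) (hP1 : P ≠ ⊥) (c : Set (Cfsg.IrrCharacter (Subgroup.centralizer (P : Set G)))) (hc : Cfsg.IsInducedBlock M (Subgroup.centralizer (P : Set G)) c B) (T : Subgroup G) (hT : ∀ g : G, g ∈ T ↔ (g ∈ Subgroup.normalizer (P : Set G) ∧ Cfsg.StabilizesBlock (Subgroup.centralizer (P : Set G)) c g)) : (∀ g ∈ T, ∀ x ∈ P, x ≠ 1 → g * x * g⁻¹ = x → g ∈ Subgroup.centralizer (P : Set G)) ↔ ∀ Q : Subgroup G, Q ≤ P → Q ≠ ⊥ → ∀ f : Set (Cfsg.IrrCharacter (Subgroup.centralizer (Q : Set G))), Cfsg.IsInducedBlockIn M (Subgroup.centralizer (Q : Set G)) (Subgroup.centralizer (P : Set G)) c f → Cfsg.IsNilpotentBlock p M f := by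
  haveI := hM.2.1.isPrime
  have hP : IsPGroup p P := by
    obtain ⟨g, hg, hgD⟩ := Lib.Blocks.isDefectGroup_iff.1 hPD
    exact hgD.1
  have hmax : IsMaximalBrauerPair p M B P c :=
    Lib.BrauerPairs.KernelCore.isMaximal_of_defectGroup hM (a := ⟨P, c⟩)
      (Lib.BrauerPairs.isBrauerPairOf_of_isInducedBlock hP hc) hPD
  constructor
  · intro h Q hQP hQ1 f hf
    refine (Lib.BrauerPairs.LocalInertial.isNilpotentBlock_iff hM hPab hQP hmax hf).2
      fun g hgC hgN hst => ?_
    obtain ⟨x, hx, hx1⟩ := (Q.bot_or_exists_ne_one).resolve_left hQ1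
    refine h g ((hT g).2 ⟨hgN, hst⟩) x (hQP hx) hx1 ?_
    rw [← Subgroup.mem_centralizer_iff.1 hgC x hx, mul_inv_cancel_right]
  · intro h g hg x hx hx1 hgx
    have hQP : Subgroup.zpowers x ≤ P := Subgroup.zpowers_le.2 hx
    obtain ⟨f, hf⟩ := Lib.BrauerPairs.LocalInertial.exists_induced hM hPab hQP hP hc.1
    have hnil := h _ hQP (Subgroup.zpowers_ne_bot.2 hx1) f hf
    have hgC : g ∈ Subgroup.centralizer (Subgroup.zpowers x : Set G) := by
      rw [Lib.BrauerPairs.centralizer_zpowers, Subgroup.mem_centralizer_singleton_iff]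
      exact mul_inv_eq_iff_eq_mul.1 hgx
    exact (Lib.BrauerPairs.LocalInertial.isNilpotentBlock_iff hM hPab hQP hmax hf).1 hnil g hgC
      ((hT g).1 hg).1 ((hT g).1 hg).2

end Cfsg.Agent.S4650
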