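import Cfsg.Statements.S4651
import Cfsg.Agent.Lib.Blocks.ChainCount
import Mathlib

set_option autoImplicit false
open Cfsg

namespace Cfsg.Agent.S4651

/-- An alternating-sum identity over chains of p-subgroups (the character-count form behind the chain reformulation of Alperin's weight conjecture, which holds unconditionally for the difference k − l). Let b be a block of the finite group G relative to a maximal ideal M of the algebraic integers containing the prime p. Consider the nonempty chains s = {Q_0 < Q_1 < ⋯ < Q_m} of nontrivial p-subgroups of G in which every member is normal in the largest member; let N_G(s) be the intersection of the normalizers of the members (the stabilizer of the chain), and let b_s be the set of irreducible characters of N_G(s) lying in blocks of N_G(s) that induce b. Then #G · (k(b) − l(b)) equals the sum over all such chains s of (−1)^m · #N_G(s) · (k(b_s) − l(b_s)), where k counts irreducible characters and l is the p-regular rank; equivalently,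 k(b) − l(b) is the alternating sum of k(b_s) − l(b_s) over representatives of the conjugacy classes of such chains. -/
theorem result {G : Type*} [Group G] [Finite G] (p : ℕ) [Fact p.Prime] (M : Ideal Cfsg.AlgInt) (hM : Cfsg.IsPModular p M) (b : Set (Cfsg.IrrCharacter G)) (hb : Cfsg.IsPBlock M b) : (Nat.card G : ℤ) * ((Nat.card b : ℤ) - (Cfsg.blockRank p b : ℤ)) = ∑ᶠ s ∈ {s : Finset (Subgroup G) | s.Nonempty ∧ (∀ Q ∈ s, ∀ R ∈ s, Q ≤ R ∨ R ≤ Q) ∧ (∀ Q ∈ s, Q ≠ ⊥ ∧ IsPGroup p Q) ∧ ∃ T ∈ s, ∀ Q ∈ s, Q ≤ T ∧ T ≤ Subgroup.normalizer ((Q : Subgroup G) : Set G)}, (-1 : ℤ) ^ (s.card - 1) * (Nat.card (((⨅ Q ∈ s, Subgroup.normalizer ((Q : Subgroup G) : Set G) : Subgroup G))) : ℤ) * ((Nat.card {ψ : Cfsg.IrrCharacter (((⨅ Q ∈ s, Subgroup.normalizer ((Q : Subgroup G) : Set G) : Subgroup G))) | ∃ β : Set (Cfsg.IrrCharacter (((⨅ Q ∈ s, Subgroup.normalizer ((Q : Subgroup G) : Set G) : Subgroup G)))), ψ ∈ β ∧ Cfsg.IsInducedBlock M (((⨅ Q ∈ s, Subgroup.normalizer ((Q : Subgroup G) : Set G) : Subgroup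 G))) β b} : ℤ) - (Cfsg.blockRank p {ψ : Cfsg.IrrCharacter (((⨅ Q ∈ s, Subgroup.normalizer ((Q : Subgroup G) : Set G) : Subgroup G))) | ∃ β : Set (Cfsg.IrrCharacter (((⨅ Q ∈ s, Subgroup.normalizer ((Q : Subgroup G) : Set G) : Subgroup G)))), ψ ∈ β ∧ Cfsg.IsInducedBlock M (((⨅ Q ∈ s, Subgroup.normalizer ((Q : Subgroup G) : Set G) : Subgroup G))) β b} : ℤ)) := by
  classical
  haveI := Cfsg.Agent.Lib.Blocks.isPModular_isPrime hM
  haveI := Fintype.ofFinite G
  let C : Set (Finset (Subgroup G)) := {s | Cfsg.Agent.Lib.ChainSum.IsNChain p s}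
  show _ = ∑ᶠ s ∈ C, _
  rw [finsum_mem_eq_finite_toFinset_sum _ (Set.toFinite C)]
  have hset : ∀ K : Subgroup G, {ψ : Cfsg.IrrCharacter K | ∃ β : Set (Cfsg.IrrCharacter K),
      ψ ∈ β ∧ Cfsg.IsInducedBlock M K β b} =
      {ψ : Cfsg.IrrCharacter K | Cfsg.Agent.Lib.Blocks.ChainCount.Lies M b K ψ} := by
    intro K
    ext ψ
    constructor
    · rintro ⟨β, hψ, hβ⟩
      show Cfsg.IsInducedBlock M K _ b
      rw [← Cfsg.Agent.Lib.Blocks.eq_blockOf_of_mem hβ.1 hψ]
      exact hβ
    · exact fun h => ⟨_, Cfsg.Agent.Lib.Blocks.mem_blockOf_self ψ, h⟩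
  apply Int.cast_injective (α := ℂ)
  push_cast
  refine (Cfsg.Agent.Lib.Blocks.ChainCount.chain_identity hM hb (Set.toFinite C).toFinset
    (fun s => by simp [C])).trans (Finset.sum_congr rfl fun s _ => ?_)
  simp only [hset]
  rw [mul_assoc]
  rfl

end Cfsg.Agent.S4651
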