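import Cfsg.Statements.S4652
import Mathlib
import Cfsg.Agent.Lib.BrauerMap.Principal

open Cfsg.Agent.Lib


set_option autoImplicit false
open Cfsg

namespace Cfsg.Agent.S4652

/-- Fix a prime p and a maximal ideal M of the algebraic integers containing p. The defect groups of the principal p-block of a finite group G are exactly the Sylow p-subgroups of G: a subgroup D is a defect group of the principal block if and only if D is a Sylow p-subgroup. -/
theorem result {G : Type*} [Group G] [Fintype G] (p : ℕ) [Fact p.Prime] (M : Ideal Cfsg.AlgInt) (hM : Cfsg.IsPModular p M) (D : Subgroup G) : Cfsg.IsDefectGroup p M (Cfsg.principalBlock M G) D ↔ ∃ S : Sylow p G, (S : Subgroup G) = D := by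
  classical
  have hpr : M.IsPrime := Blocks.isPModular_isPrime hM
  set B := Cfsg.principalBlock M G with hBdef
  have hB : Cfsg.IsPBlock M B := BrauerMap.isPBlock_principalBlock M
  have h1B : Chars.trivialIrr G ∈ B := BrauerMap.trivialIrr_mem_principalBlock M
  have hω : ∀ χ ∈ B, ∀ g : G, Cfsg.MemLocalIdeal M (Cfsg.centralChar (χ : G → ℂ) g) ↔
      p ∣ (Subgroup.centralizer ({g} : Set G)).index := by
    intro χ hχ g
    rw [← Blocks.memLocalIdeal_natCast_iff hM, ← BrauerMap.centralChar_one]
    have h := hχ g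
    exact ⟨fun hh => by simpa using Blocks.memLocalIdeal_add h hh,
      fun hh => by simpa using Blocks.memLocalIdeal_sub hh h⟩
  constructor
  · rintro ⟨g, ⟨-, -, hg⟩, S, rfl⟩
    have hidx : ¬ p ∣ (Subgroup.centralizer ({g} : Set G)).index := fun hd =>
      hg _ h1B ((hω _ h1B g).mpr hd)
    have hni : ¬ p ∣ ((S : Subgroup (Subgroup.centralizer ({g} : Set G))).map (Subgroup.centralizer ({g} : Set G)).subtype).index := by
      rw [Subgroup.index_map_subtype, (Fact.out : p.Prime).dvd_mul]
      exact not_or.mpr ⟨S.not_dvd_index, hidx⟩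
    exact ⟨(S.isPGroup'.map _).toSylow hni, rfl⟩
  · rintro ⟨S, rfl⟩
    obtain ⟨g, hg1, hg2⟩ : ∃ g : G, ¬ Cfsg.MemLocalIdeal M (Cfsg.blockCoeff B g) ∧
        ¬ p ∣ (Subgroup.centralizer ({g} : Set G)).index := by
      by_contra hcon
      push Not at hcon
      have := Fintype.ofFinite (ConjClasses G)
      have h := Blocks.omegaBar_blockIdem hB (Chars.trivialIrr G)
      rw [Blocks.omegaBar_eq_sum, if_pos h1B, Finset.sum_eq_zero] at h
      · exact zero_ne_one h
      intro c _
      by_cases hc : Cfsg.MemLocalIdeal M (Cfsg.blockCoeff B (Blocks.classRep c))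
      · rw [(Blocks.residue_eq_zero_iff).mpr (by rw [Blocks.coe_coeff_blockIdem]; exact hc), zero_mul]
      · rw [(Blocks.omegaBar_classSumR_eq_zero_iff _ _).mpr, mul_zero]
        exact (hω _ h1B _).mpr (hcon _ hc)
    obtain ⟨x, hx, hxP⟩ := BrauerMap.exists_conj_mem_centralizer_sylow S hg2
    have hcoe : Cfsg.blockCoeff B x = Cfsg.blockCoeff B g := by
      obtain ⟨c, rfl⟩ := isConj_iff.mp hx
      exact Blocks.blockCoeff_conj B g c
    have hle : (S : Subgroup G) ≤ Subgroup.centralizer ({x} : Set G) := fun u hu =>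
      Subgroup.mem_centralizer_singleton_iff.mpr (Subgroup.mem_centralizer_iff.mp hxP u hu)
    refine ⟨x, ⟨Blocks.memLocalRing_blockCoeff hB x, hcoe ▸ hg1, fun χ hχ => ?_⟩, S.subtype hle, ?_⟩
    · rw [hω χ hχ x]
      exact fun hd => S.not_dvd_index (hd.trans (Subgroup.index_dvd_of_le hle))
    · rw [Sylow.coe_subtype, Subgroup.subgroupOf_map_subtype, inf_eq_left.mpr hle]

end Cfsg.Agent.S4652
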