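import Cfsg.Statements.S4662
import Cfsg.Agent.Lib.BrauerPairs.Local
import Mathlib

set_option autoImplicit false
open Cfsg Cfsg.Agent.Lib Cfsg.Agent.Lib.BrauerPairs

namespace Cfsg.Agent.S4662

/-- Fix a prime p and a maximal ideal M of the algebraic integers containing p. Let (P, e) be a maximal Brauer pair of the p-block B of the finite group G, Q ≤ P, and f the p-block of C_G(Q) with (Q, f) ≤ (P, e). Let T be the stabilizer of f in N_G(Q). Then the idempotent of f is a block idempotent of T, and N_P(Q) is contained in a defect group of that block of T; moreover for some x in G the conjugate pair (x Q x⁻¹, conjugate of f) again lies below (P, e) and, with T' the stabilizer of the conjugate of f in N_G(x Q x⁻¹), N_P(x Q x⁻¹) is a defect group of the block of T' whose idempotent is that of the conjugate of f. -/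
theorem result {G : Type*} [Group G] [Fintype G] (p : ℕ) [Fact p.Prime] (M : Ideal Cfsg.AlgInt) (hM : Cfsg.IsPModular p M) (B : Set (Cfsg.IrrCharacter G)) (P Q : Subgroup G) (e : Set (Cfsg.IrrCharacter (Subgroup.centralizer (P : Set G)))) (f : Set (Cfsg.IrrCharacter (Subgroup.centralizer (Q : Set G)))) (hmax : Cfsg.IsMaximalBrauerPair p M B P e) (hQP : Q ≤ P) (hf : Cfsg.IsPBlock M f) (hle : Cfsg.SubpairLE p M Q f P e) (T : Subgroup G) (hT : ∀ y : G, y ∈ T ↔ y ∈ Subgroup.normalizer (Q : Set G) ∧ Cfsg.StabilizesBlock (Subgroup.centralizer (Q : Set G)) f y) : (∃ F : Set (Cfsg.IrrCharacter T), Cfsg.IsPBlock M F ∧ (∀ t : T, Cfsg.blockCoeff F t = Cfsg.subgroupBlockCoeff (Subgroup.centralizer (Q : Set G)) f (t : G)) ∧ ∃ D : Subgroup T, Cfsg.IsDefectGroup p M F D ∧ (P ⊓ Subgroup.normalizer (Q : Set G)).subgroupOf T ≤ D) ∧ ∃ x : G, Cfsg.SubpairLE p M (Q.map (MulAut.conj x).toMonoidHom) (Cfsg.conjBlock Q x f) P e ∧ ∀ (T' : Subgroup G), (∀ y : G, y ∈ T' ↔ y ∈ Subgroup.normalizer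 ((Q.map (MulAut.conj x).toMonoidHom) : Set G) ∧ Cfsg.StabilizesBlock (Subgroup.centralizer ((Q.map (MulAut.conj x).toMonoidHom) : Set G)) (Cfsg.conjBlock Q x f) y) → ∃ F' : Set (Cfsg.IrrCharacter T'), Cfsg.IsPBlock M F' ∧ (∀ t : T', Cfsg.blockCoeff F' t = Cfsg.subgroupBlockCoeff (Subgroup.centralizer ((Q.map (MulAut.conj x).toMonoidHom) : Set G)) (Cfsg.conjBlock Q x f) (t : G)) ∧ Cfsg.IsDefectGroup p M F' ((P ⊓ Subgroup.normalizer ((Q.map (MulAut.conj x).toMonoidHom) : Set G)).subgroupOf T') := by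
  haveI := Blocks.isPModular_isPrime hM
  have hb : IsPair p M (⟨P, e⟩ : BrauerPairIdx G) := hmax.1.1
  set a : BrauerPairIdx G := ⟨Q, f⟩ with hadef
  have ha : IsPair p M a := BrauerMap.isBrauerPair_of_subpairLE hle hb
  have hTa : T = pairStab (a := a) hf := by
    ext y; rw [hT, mem_pairStab_iff_stabilizesBlock (a := a) hf]
  obtain ⟨F, hF, hFc⟩ := exists_block_of_le_pairStab hM ha (T := T)
    (hTa ▸ core_le_pairStab (a := a) hf) hTa.le
  refine ⟨⟨F, hF, hFc, exists_defect_ge_inf_normalizer hM hb hle hf hTa hF hFc⟩, ?_⟩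
  obtain ⟨x, hx, hxm⟩ := exists_max_conj (a := a) (b := ⟨P, e⟩) hf hle
    (fun c => Nat.card ↥(P ⊓ Subgroup.normalizer (c.1 : Set G)))
  refine ⟨x, hx, fun T' hT' => ?_⟩
  have hf' := isPBlock_conjPair (a := a) hf x
  have ha' : IsPair p M (conjPair x a) := BrauerMap.isBrauerPair_of_subpairLE hx hb
  have hTa' : T' = pairStab hf' := by
    ext y; rw [hT', mem_pairStab_iff_stabilizesBlock hf']; rfl
  obtain ⟨F', hF', hFc'⟩ := exists_block_of_le_pairStab hM ha' (T := T')
    (hTa' ▸ core_le_pairStab hf') hTa'.le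
  exact ⟨F', hF', hFc', (isDefectGroup_inf_normalizer_iff hM hmax hx hf' hTa' hF' hFc').2 hxm⟩

end Cfsg.Agent.S4662
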