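import Cfsg.Statements.S4664
import Cfsg.Agent.Lib.Blocks.CentralKernel
import Cfsg.Agent.Lib.Chars.PResidualDegree
import Mathlib

set_option autoImplicit false
open Cfsg

namespace Cfsg.Agent.S4664

/-- Fix a prime p and a maximal ideal M of the algebraic integers containing p, and let B be a p-block of the finite group G. Let m be the p'-part of the order of G and η = exp(2πi/m). Then every coefficient of the idempotent of B lies in the cyclotomic field ℚ(η). -/
theorem result {G : Type*} [Group G] [Fintype G] (p : ℕ) [Fact p.Prime] (M : Ideal Cfsg.AlgInt) (hM : Cfsg.IsPModular p M) (B : Set (Cfsg.IrrCharacter G)) (hB : Cfsg.IsPBlock M B) (g : G) : Cfsg.blockCoeff B g ∈ IntermediateField.adjoin ℚ ({Complex.exp (2 * Real.pi * Complex.I / ((Nat.card G / p ^ (Nat.card G).factorization p : ℕ) : ℂ))} : Set ℂ) := by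
  classical
  haveI := Cfsg.Agent.Lib.Blocks.isPModular_isPrime hM
  set K := IntermediateField.adjoin ℚ ({Complex.exp (2 * Real.pi * Complex.I / ((Nat.card G / p ^ (Nat.card G).factorization p : ℕ) : ℂ))} : Set ℂ) with hK
  by_cases hg : p ∣ orderOf g
  · rw [Cfsg.Agent.Lib.Blocks.blockCoeff_eq_zero_of_pSingular hM hB hg]
    exact zero_mem K
  set m := Nat.card G / p ^ (Nat.card G).factorization p with hm
  have hm0 : m ≠ 0 := (Nat.ordCompl_pos p Nat.card_pos.ne').ne'
  have hζ := Complex.isPrimitiveRoot_exp m hm0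
  have hgm : g⁻¹ ^ m = 1 := by
    rw [inv_pow, inv_eq_one]
    refine orderOf_dvd_iff_pow_eq_one.1 ?_
    have hco : Nat.Coprime (orderOf g) (p ^ (Nat.card G).factorization p) :=
      (((Fact.out : p.Prime).coprime_iff_not_dvd.2 hg).symm).pow_right _
    refine hco.dvd_of_dvd_mul_left ?_
    rw [hm, Nat.ordProj_mul_ordCompl_eq_self]
    exact orderOf_dvd_natCard g
  rw [Cfsg.Agent.Lib.Blocks.blockCoeff_eq_sum]
  refine mul_mem (inv_mem (natCast_mem K _)) (sum_mem fun χ _ => ?_)
  split_ifs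
  · rw [(Cfsg.Agent.Lib.Chars.charDegree_spec χ).2, ← Cfsg.Agent.Lib.Chars.irr_inv]
    refine mul_mem (natCast_mem K _) ?_
    obtain ⟨n, ρ, hρ, hχ⟩ := χ.2
    rw [← hχ]
    obtain ⟨ι, _, b, μ, hμ, hb⟩ := Cfsg.Agent.Lib.Chars.exists_eigenbasis ρ g⁻¹
    rw [show ρ.character g⁻¹ = ∑ i, μ i from
      Cfsg.Agent.Lib.Chars.trace_eq_sum_of_eigenbasis _ b μ hb]
    refine sum_mem fun i _ => ?_
    haveI : NeZero m := ⟨hm0⟩
    have hroot : μ i ^ m = 1 := by
      obtain ⟨k, hk⟩ : orderOf g⁻¹ ∣ m := orderOf_dvd_iff_pow_eq_one.2 hgm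
      rw [hk, pow_mul, hμ i, one_pow]
    obtain ⟨j, -, hj⟩ := hζ.eq_pow_of_pow_eq_one hroot
    rw [← hj]
    exact pow_mem (IntermediateField.subset_adjoin _ _ (Set.mem_singleton _)) j
  · exact zero_mem K

end Cfsg.Agent.S4664
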