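import Cfsg.Statements.S4665
import Cfsg.Agent.Lib.CharCount.Basic
import Mathlib

set_option autoImplicit false
open Cfsg

namespace Cfsg.Agent.S4665

/-- Fix a prime p, a maximal ideal M of the algebraic integers containing p, and a p-block B of the finite group G, and let p^a be the p-part of the order of G. Let χ be an integer combination of the irreducible characters in B. If the function that agrees with χ on p-regular elements and vanishes on p-singular elements is again an integer combination of the irreducible characters in B, then p^a divides χ(1). -/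
theorem result {G : Type*} [Group G] [Fintype G] (p : ℕ) [Fact p.Prime] (M : Ideal Cfsg.AlgInt) (hM : Cfsg.IsPModular p M) (B : Set (Cfsg.IrrCharacter G)) (hB : Cfsg.IsPBlock M B) (χ : G → ℂ) (hχ : (∃ n : Cfsg.IrrCharacter G → ℤ, ∀ g : G, χ g = ∑ᶠ ψ ∈ B, (n ψ : ℂ) * (ψ : G → ℂ) g)) (h0 : (∃ n : Cfsg.IrrCharacter G → ℤ, ∀ g : G, Cfsg.pRegularPart p χ g = ∑ᶠ ψ ∈ B, (n ψ : ℂ) * (ψ : G → ℂ) g)) : ∃ k : ℤ, χ 1 = (p ^ (Nat.card G).factorization p : ℂ) * k := by
  classical
  obtain ⟨n, hn⟩ := h0
  obtain ⟨P⟩ : Nonempty (Sylow p G) := inferInstance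
  choose m hm using fun ψ : Cfsg.IrrCharacter G =>
    Cfsg.Agent.Lib.CharCount.exists_nat_sum_subgroup ψ (P : Subgroup G)
  have h1 : ∀ y : (P : Subgroup G), Cfsg.pRegularPart p χ (y : G) = if y = 1 then χ 1 else 0 := by
    intro y
    unfold Cfsg.pRegularPart Cfsg.IsPRegular
    by_cases hy : y = 1
    · subst hy
      simp [(Fact.out : p.Prime).ne_one]
    · obtain ⟨k, hk⟩ := IsPGroup.iff_orderOf.1 P.isPGroup' y
      have hk0 : k ≠ 0 := fun h => hy (orderOf_eq_one_iff.1 (by rw [hk, h, pow_zero]))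
      rw [if_neg hy, if_neg]
      rw [Subgroup.orderOf_coe, hk, not_not]
      exact dvd_pow_self p hk0
  refine ⟨∑ ψ ∈ B.toFinset, n ψ * (m ψ : ℤ), ?_⟩
  calc χ 1 = ∑ y : (P : Subgroup G), Cfsg.pRegularPart p χ (y : G) := by simp [h1]
    _ = ∑ y : (P : Subgroup G), ∑ ψ ∈ B.toFinset, (n ψ : ℂ) * (ψ : G → ℂ) y := by
        refine Finset.sum_congr rfl fun y _ => ?_
        rw [hn, finsum_mem_eq_toFinset_sum]
    _ = _ := by
        rw [Finset.sum_comm]
        push_cast
        rw [Finset.mul_sum]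
        refine Finset.sum_congr rfl fun ψ _ => ?_
        rw [← Finset.mul_sum, hm ψ, P.card_eq_multiplicity]
        push_cast
        ring

end Cfsg.Agent.S4665
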