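import Cfsg.Statements.S4666
import Cfsg.Agent.Lib.BrauerFeit.Orth
import Cfsg.Agent.Lib.BrauerFeit.RegGen
import Mathlib

set_option autoImplicit false
open Cfsg

namespace Cfsg.Agent.S4666

/-- Fix a prime p and a maximal ideal M of the algebraic integers containing p, and a p-block B of the finite group G of defect d. For every integer combination χ of the irreducible characters in B, p^d times the function that agrees with χ on p-regular elements and vanishes elsewhere is again an integer combination of the irreducible characters in B. -/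
theorem result {G : Type*} [Group G] [Fintype G] (p : ℕ) [Fact p.Prime] (M : Ideal Cfsg.AlgInt) (hM : Cfsg.IsPModular p M) (B : Set (Cfsg.IrrCharacter G)) (hB : Cfsg.IsPBlock M B) (χ : G → ℂ) (hχ : (∃ n : Cfsg.IrrCharacter G → ℤ, ∀ g : G, χ g = ∑ᶠ ψ ∈ B, (n ψ : ℂ) * (ψ : G → ℂ) g)) : (∃ n : Cfsg.IrrCharacter G → ℤ, ∀ g : G, (p ^ Cfsg.blockDefect p B : ℂ) * Cfsg.pRegularPart p χ g = ∑ᶠ ψ ∈ B, (n ψ : ℂ) * (ψ : G → ℂ) g) := by
  classical
  haveI := Cfsg.Agent.Lib.Blocks.isPModular_isPrime hM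
  obtain ⟨n, hn⟩ := hχ
  obtain ⟨m, hm, -, -, -, -, -⟩ := Cfsg.Agent.Lib.BrauerFeit.exists_int_matrix hM
    (Cfsg.Agent.Lib.BrauerFeit.regOrth hM) (Cfsg.Agent.Lib.BrauerFeit.regGen p) hB
  refine ⟨fun ψ => ∑ φ ∈ B.toFinset, n φ * m φ ψ, fun g => ?_⟩
  have h1 : Cfsg.pRegularPart p χ g =
      ∑ φ ∈ B.toFinset, (n φ : ℂ) * Cfsg.pRegularPart p (φ : G → ℂ) g := by
    simp only [Cfsg.Agent.Lib.BrauerFeit.pRegularPart_apply]
    by_cases hg : p ∣ orderOf g
    · simp [hg]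
    · simp only [if_neg hg]
      rw [hn g, finsum_mem_eq_toFinset_sum]
  rw [h1, Finset.mul_sum, finsum_mem_eq_toFinset_sum]
  simp only [Int.cast_sum, Int.cast_mul, Finset.sum_mul]
  rw [Finset.sum_comm (s := B.toFinset) (t := B.toFinset)
    (f := fun ψ φ => (n φ : ℂ) * (m φ ψ : ℂ) * (ψ : G → ℂ) g)]
  refine Finset.sum_congr rfl fun φ hφ => ?_
  rw [Cfsg.Agent.Lib.BrauerFeit.pRegularPart_eq_finsum (Cfsg.Agent.Lib.BrauerFeit.regOrth hM) hB
    (Set.mem_toFinset.1 hφ), finsum_mem_eq_toFinset_sum, Finset.mul_sum, Finset.mul_sum]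
  refine Finset.sum_congr rfl fun ψ _ => ?_
  rw [← hm φ (Set.mem_toFinset.1 hφ) ψ]
  ring

end Cfsg.Agent.S4666
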