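import Cfsg.Statements.S4668
import Cfsg.Agent.Lib.BrauerMap.NormalP
import Cfsg.Agent.Lib.Coprime.Basic
import Cfsg.Agent.Lib.Blocks.BlockOrth
import Mathlib

set_option autoImplicit false
open Cfsg Cfsg.Agent.Lib

namespace Cfsg.Agent.S4668

/-- Fix a prime p and a maximal ideal M of the algebraic integers containing p. Let Q₀ < Q₁ < ⋯ < Q_m be a strictly increasing chain of p-subgroups of the finite group G and N the intersection of their normalizers. Then every block idempotent of N is supported on C_G(Q_m): for every p-block E of N, the idempotent coefficient of E vanishes at every element of N outside C_G(Q_m). -/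
theorem result {G : Type*} [Group G] [Fintype G] (p : ℕ) [Fact p.Prime] (M : Ideal Cfsg.AlgInt) (hM : Cfsg.IsPModular p M) (m : ℕ) (Q : Fin (m + 1) → Subgroup G) (hQ : StrictMono Q) (hQp : ∀ i, IsPGroup p (Q i)) (N : Subgroup G) (hN : ∀ g : G, g ∈ N ↔ ∀ i, g ∈ Subgroup.normalizer (Q i : Set G)) (E : Set (Cfsg.IrrCharacter N)) (hE : Cfsg.IsPBlock M E) (n : N) (hn : (n : G) ∉ Subgroup.centralizer (Q (Fin.last m) : Set G)) : Cfsg.blockCoeff E n = 0 := by
  classical
  haveI := Blocks.isPModular_isPrime hM
  by_contra hne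
  have hreg : ¬ p ∣ orderOf n := fun h => hne (Blocks.blockCoeff_eq_zero_of_pSingular hM hE h)
  have key : ∀ W : Subgroup G, W ≤ N → IsPGroup p W →
      (∀ g ∈ N, g ∈ Subgroup.normalizer (W : Set G)) → (n : G) ∈ Subgroup.centralizer (W : Set G) := by
    intro W hW hWp hWn
    haveI : (W.subgroupOf N).Normal :=
      (Subgroup.normal_subgroupOf_iff_le_normalizer hW).2 fun g hg => hWn g hg
    refine Subgroup.mem_centralizer_iff.2 fun w hw => ?_
    by_contra h
    exact hne (BrauerMap.blockCoeff_eq_zero_of_notMem_centralizer hM (P := W.subgroupOf N)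
      (hWp.of_equiv (Subgroup.subgroupOfEquivOfLe hW).symm) hE fun hc =>
      h (congrArg Subtype.val (Subgroup.mem_centralizer_iff.1 hc ⟨w, hW hw⟩ hw)))
  refine hn (Fin.induction (motive := fun i => (n : G) ∈ Subgroup.centralizer (Q i : Set G)) ?_ ?_
    (Fin.last m))
  · exact key (Q 0) (fun x hx => (hN x).2 fun i =>
      Subgroup.le_normalizer ((hQ.monotone (Fin.zero_le i)) hx)) (hQp 0)
      fun g hg => (hN g).1 hg 0
  · intro i hi
    have hlt : i.castSucc < i.succ := Fin.castSucc_lt_succ
    set W := Q i.succ ⊓ Subgroup.centralizer (Q i.castSucc : Set G) with hW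
    have hWN : W ≤ N := fun x hx => (hN x).2 fun j => by
      rcases le_or_gt i.succ j with h | h
      · exact Subgroup.le_normalizer (hQ.monotone h hx.1)
      · exact Subgroup.centralizer_le_normalizer _
          (Subgroup.mem_centralizer_iff.2 fun y hy => Subgroup.mem_centralizer_iff.1 hx.2 y
            (hQ.monotone (Fin.le_castSucc_iff.2 h) hy))
    have hWc := key W hWN ((hQp i.succ).to_le inf_le_left) fun g hg => by
      have h1 := (hN g).1 hg i.succ
      have h2 := BrauerMap.normalizer_le_normalizer_centralizer' _ ((hN g).1 hg i.castSucc)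
      rw [Subgroup.mem_normalizer_iff] at h1 h2 ⊢
      exact fun x => and_congr (h1 x) (h2 x)
    have hU := Coprime.thompson_PxQ (p := p) (U := Q i.succ) (P := Q i.castSucc)
      (Q := Subgroup.zpowers (n : G)) (hQp _) (by
        rw [Nat.card_zpowers, Subgroup.orderOf_coe]
        exact ((Nat.Prime.coprime_iff_not_dvd Fact.out).2 hreg).symm) (hQp _)
      (fun x hx => Subgroup.mem_centralizer_iff.2 fun y hy => by
        obtain ⟨k, rfl⟩ := Subgroup.mem_zpowers_iff.1 hy
        exact ((show Commute (n : G) x from
          (Subgroup.mem_centralizer_iff.1 hi x hx).symm).zpow_left k))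
      ((hQ.monotone hlt.le).trans Subgroup.le_normalizer)
      (Subgroup.zpowers_le.2 ((hN n).1 n.2 i.succ))
      (fun x hx => Subgroup.mem_centralizer_iff.2 fun y hy => by
        obtain ⟨k, rfl⟩ := Subgroup.mem_zpowers_iff.1 hy
        exact ((show Commute (n : G) x from
          (Subgroup.mem_centralizer_iff.1 hWc x hx).symm).zpow_left k))
    exact hU (Subgroup.mem_zpowers _)

end Cfsg.Agent.S4668
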