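import Cfsg.Statements.S4674
import Cfsg.Agent.Lib.Blocks.HarrisKnorr

set_option autoImplicit false
open Cfsg

namespace Cfsg.Agent.S4674

open Cfsg.Agent.Lib
open Cfsg.Agent.Lib.Blocks
open Cfsg.Agent.Lib.Blocks.ResidueAlgebra
open Cfsg.Agent.Lib.Blocks.HarrisKnorr
open scoped ComplexConjugate

/-- A block of `H` covers a block of the normal subgroup `L` exactly when the product of their
idempotents survives modulo `M`. -/
theorem covers_iff {G : Type*} [Group G] [Finite G] {p : ℕ} [Fact p.Prime] {M : Ideal AlgInt}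
    [M.IsPrime] {H L : Subgroup G} [Fintype L] (hle : L ≤ H) [(L.subgroupOf H).Normal]
    {c : Set (IrrCharacter H)} (hc : IsPBlock M c) {e : Set (IrrCharacter L)}
    (he : IsPBlock M e) :
    (∃ ψ ∈ c, ∃ ξ ∈ e, classInner (fun l : L => (ψ : H → ℂ) (Subgroup.inclusion hle l))
      (ξ : L → ℂ) ≠ 0) ↔ redBlock hc * redBlock he ≠ 0 := by
  classical
  haveI := Fintype.ofFinite H
  haveI := Fintype.ofFinite (L.subgroupOf H)
  set σ := Subgroup.subgroupOfEquivOfLe hle
  have he' : IsPBlock M (Chars.irrCongr σ '' e) := BrauerMap.isPBlock_image_irrCongr σ he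
  have hemb : BrauerMap.blockG he =
      BrauerMap.emb H.subtype (BrauerMap.blockG (G := H) (H := L.subgroupOf H) he') := by
    ext g
    rw [BrauerMap.coe_coeff_blockG]
    by_cases hg : g ∈ H
    · rw [show g = H.subtype ⟨g, hg⟩ from rfl,
        BrauerMap.coeff_emb_apply H.subtype_injective, BrauerMap.coe_coeff_blockG]
      by_cases hgL : g ∈ L
      · rw [show (⟨g, hg⟩ : H) = ((⟨⟨g, hg⟩, hgL⟩ : L.subgroupOf H) : H) from rfl,
          BrauerMap.subgroupBlockCoeff_of_mem, BrauerMap.blockCoeff_image_irrCongr]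
        exact BrauerMap.subgroupBlockCoeff_of_mem L e (σ ⟨⟨g, hg⟩, hgL⟩)
      · rw [BrauerMap.subgroupBlockCoeff_of_notMem _ _ (show H.subtype ⟨g, hg⟩ ∉ L from hgL),
          BrauerMap.subgroupBlockCoeff_of_notMem _ _
            (show (⟨g, hg⟩ : H) ∉ L.subgroupOf H from hgL)]
    · rw [BrauerMap.coeff_emb_of_notMem _ _ (by rwa [Subgroup.range_subtype]),
        BrauerMap.subgroupBlockCoeff_of_notMem _ _ fun h => hg (hle h), ZeroMemClass.coe_zero]
  have hne : redBlock hc * redBlock he ≠ 0 ↔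
      toF M H ((blockIdem M hc : MonoidAlgebra (localRing M) H) *
        BrauerMap.blockG (G := H) (H := L.subgroupOf H) he') ≠ 0 := by
    have h : redBlock hc * redBlock he = MonoidAlgebra.mapDomainRingHom (Residue M) H.subtype
        (toF M H ((blockIdem M hc : MonoidAlgebra (localRing M) H) *
          BrauerMap.blockG (G := H) (H := L.subgroupOf H) he')) := by
      rw [redBlock, redBlock, hemb, BrauerMap.blockG, ← map_mul, ← map_mul, BrauerMap.toF_emb]
    rw [h]
    refine not_congr ⟨fun h0 => ?_, fun h0 => by rw [h0, map_zero]⟩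
    exact MonoidAlgebra.mapDomain_injective H.subtype_injective (by simpa using h0)
  have hinner : ∀ (ψ : IrrCharacter H) (ξ : IrrCharacter L),
      classInner (Clifford.resFun (L.subgroupOf H) (ψ : H → ℂ))
        (Chars.irrCongr σ ξ : L.subgroupOf H → ℂ) =
      classInner (fun l : L => (ψ : H → ℂ) (Subgroup.inclusion hle l)) (ξ : L → ℂ) := by
    intro ψ ξ
    rw [classInner, classInner, Nat.card_congr σ.toEquiv]
    refine congrArg _ (Fintype.sum_equiv σ.toEquiv _ _ fun x => ?_)
    rw [BrauerMap.irrCongr_apply]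
    rfl
  rw [hne]
  constructor
  · rintro ⟨ψ, hψ, ξ, hξ, h⟩
    exact Graded.mul_ne_zero_of_covers hc he' hψ ⟨ξ, hξ, rfl⟩ (by rwa [hinner])
  · intro h
    obtain ⟨ψ, hψ, _, ⟨ξ, hξ, rfl⟩, h'⟩ := Graded.covers_of_mul_ne_zero hc he' h
    exact ⟨ψ, hψ, ξ, hξ, by rwa [← hinner]⟩

/-- Fix a prime p and a maximal ideal M of the algebraic integers containing p. Let N be a normal subgroup of the finite group G, Q a p-subgroup of N, H = N_G(Q) and L = H ∩ N = N_N(Q). Let d be a p-block of N with defect group Q and e the p-block of L with defect group Q that induces d inside N (its Brauer correspondent). Then block induction from H to G is a bijection from the p-blocks of H covering e onto the p-blocks of G covering d: every block of H covering e induces exactly one block of G, and that block covers d; and every block of G covering d is induced by exactly one block of H covering e. -/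
theorem result {G : Type*} [Group G] [Fintype G] (p : ℕ) [Fact p.Prime] (M : Ideal Cfsg.AlgInt) (hM : Cfsg.IsPModular p M) (N : Subgroup G) [N.Normal] [Fintype N] (Q : Subgroup G) (hQ : IsPGroup p Q) (hQN : Q ≤ N) [Fintype ↥(Subgroup.normalizer (Q : Set G) ⊓ N)] (d : Set (Cfsg.IrrCharacter N)) (hd : Cfsg.IsPBlock M d) (hdQ : Cfsg.IsDefectGroup p M d (Q.subgroupOf N)) (e : Set (Cfsg.IrrCharacter ↥(Subgroup.normalizer (Q : Set G) ⊓ N))) (he : Cfsg.IsPBlock M e) (heQ : Cfsg.IsDefectGroup p M e (Q.subgroupOf (Subgroup.normalizer (Q : Set G) ⊓ N))) (hed : Cfsg.IsInducedBlockIn M N (Subgroup.normalizer (Q : Set G) ⊓ N) e d) : (∀ c : Set (Cfsg.IrrCharacter ↥(Subgroup.normalizer (Q : Set G))), Cfsg.IsPBlock M c → (∃ ψ ∈ c, ∃ ξ ∈ e, Cfsg.classInner (fun l : ↥(Subgroup.normalizer (Q : Set G) ⊓ N) => (ψ : ↥(Subgroup.normalizer (Q : Set G)) → ℂ) (Subgroup.inclusion inf_le_left l)) (ξ : ↥(Subgroup.normalizer (Q : Set G) ⊓ N) → ℂ) ≠ 0) → ∃! B : Set (Cfsg.IrrCharacter G), Cfsg.IsInducedBlock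 M (Subgroup.normalizer (Q : Set G)) c B ∧ (∃ χ ∈ B, ∃ θ ∈ d, Cfsg.classInner (fun n : N => (χ : G → ℂ) n) (θ : N → ℂ) ≠ 0)) ∧ (∀ B : Set (Cfsg.IrrCharacter G), Cfsg.IsPBlock M B → (∃ χ ∈ B, ∃ θ ∈ d, Cfsg.classInner (fun n : N => (χ : G → ℂ) n) (θ : N → ℂ) ≠ 0) → ∃! c : Set (Cfsg.IrrCharacter ↥(Subgroup.normalizer (Q : Set G))), (Cfsg.IsPBlock M c ∧ ∃ ψ ∈ c, ∃ ξ ∈ e, Cfsg.classInner (fun l : ↥(Subgroup.normalizer (Q : Set G) ⊓ N) => (ψ : ↥(Subgroup.normalizer (Q : Set G)) → ℂ) (Subgroup.inclusion inf_le_left l)) (ξ : ↥(Subgroup.normalizer (Q : Set G) ⊓ N) → ℂ) ≠ 0) ∧ Cfsg.IsInducedBlock M (Subgroup.normalizer (Q : Set G)) c B) := by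
  classical
  haveI := isPModular_isPrime hM
  have hLH : Subgroup.normalizer (Q : Set G) ⊓ N ≤ Subgroup.normalizer (Q : Set G) := inf_le_left
  haveI hLn : ((Subgroup.normalizer (Q : Set G) ⊓ N).subgroupOf (Subgroup.normalizer (Q : Set G))).Normal := by
    rw [Subgroup.inf_subgroupOf_left]
    infer_instance
  have hQL : Q ≤ Subgroup.normalizer (Q : Set G) ⊓ N := le_inf Subgroup.le_normalizer hQN
  have hbr : cut Q (redBlock hd) = redBlock he := cut_redBlock hM hQ hQN hd he heQ hed
  have hdN : redBlock hd ∈ fixedF M Q := fixedF_anti hQN (redBlock_mem_fixedF hd)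
  refine ⟨fun c hc hcov => ?_, fun B hB hcov => ?_⟩
  · have hne := (covers_iff (p := p) hLH hc he).1 hcov
    obtain ⟨B, hcB⟩ := inducedBlockDefined hM hQ Subgroup.le_normalizer
      (Subgroup.centralizer_le_normalizer _) le_rfl hc
    refine ⟨B, ⟨hcB, ?_⟩, fun B' hB' => isInducedBlock_unique hB'.1 hcB⟩
    refine Graded.covers_of_mul_ne_zero hcB.2.1 hd fun h0 => hne ?_
    have h1 := congrArg (fun z => redBlock hc * cut Q z) h0
    simp only [map_mul, cut_zero, mul_zero] at h1
    rwa [cut_mul hM hQ (center_mem_fixedF _ Q) hdN, hbr, ← mul_assoc,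
      mul_cut_eq hM hQ hc hcB.2.1 hcB] at h1
  · obtain ⟨χ, hχ, θ, hθ, hcon⟩ := hcov
    set z := toF M G (blockIdem M hB : MonoidAlgebra (localRing M) G) with hz
    have hne : z * redBlock hd ≠ 0 := by
      rw [hz, redBlock, ← map_mul]
      exact Graded.mul_ne_zero_of_covers hB hd hχ hθ hcon
    have hne2 : cut Q z * redBlock he ≠ 0 := by
      intro h0
      rw [← hbr, ← cut_mul hM hQ (center_mem_fixedF _ Q) hdN] at h0
      refine hne ?_
      rw [hz, redBlock, ← map_mul]
      have hEN : BrauerMap.blockG hd ∈ BrauerMap.fixedRing M N :=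
        BrauerMap.blockG_mem_fixedRing hd fun _ hs => BrauerMap.stabilizesBlock_of_mem d hs
      refine Graded.eq_zero_of_trunc_eq_zero hM hd hdQ
        (mul_mem (BrauerMap.center_le_fixedRing _ (blockIdem M hB).2) hEN) (congrArg _ ?_) ?_ ?_
      · have hcomm : BrauerMap.blockG hd * (blockIdem M hB : MonoidAlgebra (localRing M) G) =
            (blockIdem M hB : MonoidAlgebra (localRing M) G) * BrauerMap.blockG hd :=
          Subalgebra.mem_center_iff.1 (blockIdem M hB).2 _
        rw [mul_assoc, ← mul_assoc (BrauerMap.blockG hd), hcomm, mul_assoc _ _ (BrauerMap.blockG hd),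
          BrauerMap.blockG_mul_self, ← mul_assoc, ← MulMemClass.coe_mul, blockIdem_mul_self]
      · rw [mul_assoc, BrauerMap.blockG_mul_self]
      · intro x hx
        rw [Subgroup.map_subgroupOf_eq_of_le hQN] at hx
        have h := congrArg (fun a => a.coeff x) h0
        rw [coeff_cut, if_pos hx] at h
        simpa [hz, redBlock, ← map_mul] using h
    haveI : Fintype (BrauerMap.Blks M (Subgroup.normalizer (Q : Set G))) := Fintype.ofFinite _
    obtain ⟨⟨c, hc⟩, hc0⟩ : ∃ c : BrauerMap.Blks M (Subgroup.normalizer (Q : Set G)),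
        redBlock c.2 * (cut Q z * redBlock he) ≠ 0 := by
      by_contra hall
      push Not at hall
      refine hne2 ?_
      have h1 : ∑ c : BrauerMap.Blks M (Subgroup.normalizer (Q : Set G)), redBlock c.2 = 1 := by
        simp only [redBlock, ← map_sum, BrauerMap.sum_blockG, map_one]
      rw [← one_mul (cut Q z * redBlock he), ← h1, Finset.sum_mul]
      exact Finset.sum_eq_zero fun c _ => hall c
    have hzc : redBlock hc * cut Q z ≠ 0 := fun h => hc0 (by rw [← mul_assoc, h, zero_mul])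
    have hce : redBlock hc * redBlock he ≠ 0 := fun h => hc0 (by
      rw [← mul_assoc, ← mul_comm_of_suppIn (cut_mem_fixedF le_rfl (center_mem_fixedF _ (Subgroup.normalizer (Q : Set G))))
        (suppIn_redBlock hc), mul_assoc, h, mul_zero])
    have hcB := induces_of_mul_cut_ne_zero hM hQ hc hB hzc
    refine ⟨c, ⟨⟨hc, (covers_iff (p := p) hLH hc he).2 hce⟩, hcB⟩, fun c' hc' => ?_⟩
    obtain ⟨⟨hc'b, hc'cov⟩, hc'B⟩ := hc'
    exact eq_of_induces hM hQ hQN hd hdQ he heQ hed hc'b hc
      ((covers_iff (p := p) hLH hc'b he).1 hc'cov) hce hB hc'B hcB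

end Cfsg.Agent.S4674
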