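import Cfsg.Statements.S4682
import Cfsg.Agent.Lib.BrauerPairs.Abelian
import Mathlib

set_option autoImplicit false
open Cfsg Cfsg.Agent.Lib Cfsg.Agent.Lib.BrauerPairs

namespace Cfsg.Agent.S4682

/-- Fix a prime p and a maximal ideal M of the algebraic integers containing p, a p-block B of the finite group G with maximal Brauer pair (P, e), P abelian, and a Brauer pair (Q, f) ≤ (P, e). Let T_Q be the stabilizer of f in N_G(Q) and T_P the stabilizer of e in N_G(P). Then every element of T_Q is a product of an element of T_P and an element of C_G(Q); and the index of C_G(Q) in T_Q equals the index of T_P ∩ C_G(Q) in T_P ∩ N_G(Q). -/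
theorem result {G : Type*} [Group G] [Fintype G] (p : ℕ) [Fact p.Prime] (M : Ideal Cfsg.AlgInt) (hM : Cfsg.IsPModular p M) (B : Set (Cfsg.IrrCharacter G)) (P : Subgroup G) (e : Set (Cfsg.IrrCharacter (Subgroup.centralizer (P : Set G)))) (hmax : Cfsg.IsMaximalBrauerPair p M B P e) (hab : ∀ x ∈ P, ∀ y ∈ P, x * y = y * x) (Q : Subgroup G) (f : Set (Cfsg.IrrCharacter (Subgroup.centralizer (Q : Set G)))) (hQP : Q ≤ P) (hf : Cfsg.IsPBlock M f) (hle : Cfsg.SubpairLE p M Q f P e) (TQ : Subgroup G) (hTQ : ∀ y : G, y ∈ TQ ↔ y ∈ Subgroup.normalizer (Q : Set G) ∧ Cfsg.StabilizesBlock (Subgroup.centralizer (Q : Set G)) f y) (TP : Subgroup G) (hTP : ∀ y : G, y ∈ TP ↔ y ∈ Subgroup.normalizer (P : Set G) ∧ Cfsg.StabilizesBlock (Subgroup.centralizer (P : Set G)) e y) : (∀ x ∈ TQ, ∃ y ∈ TP, ∃ c ∈ Subgroup.centralizer (Q : Set G), x = y * c) ∧ ((Subgroup.centralizer (Q : Set G)).subgroupOf TQ).index = ((TP ⊓ Subgroup.centralizer (Q : Set G)).subgroupOf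 (TP ⊓ Subgroup.normalizer (Q : Set G))).index := by
  haveI := Blocks.isPModular_isPrime hM
  set a : BrauerPairIdx G := ⟨Q, f⟩ with ha
  set b : BrauerPairIdx G := ⟨P, e⟩ with hb
  have hbp : IsPair p M b := hmax.1.1
  have hTQ' : ∀ y, y ∈ TQ ↔ y ∈ pairStab (a := a) hf := fun y =>
    (hTQ y).trans (mem_pairStab_iff_stabilizesBlock (a := a) hf).symm
  have hTP' : ∀ y, y ∈ TP ↔ y ∈ pairStab (a := b) hbp.2 := fun y =>
    (hTP y).trans (mem_pairStab_iff_stabilizesBlock (a := b) hbp.2).symm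
  have hCT : Subgroup.centralizer (Q : Set G) ≤ TQ := fun y hy =>
    (hTQ' y).2 (core_le_pairStab (a := a) hf (Subgroup.mem_sup_right hy))
  have h1 : ∀ x ∈ TQ, ∃ y ∈ TP, ∃ c ∈ Subgroup.centralizer (Q : Set G), x = y * c := by
    intro x hx
    obtain ⟨y, hy, c, hc, h⟩ := exists_factor_of_comm hM (b := b) hmax hab (a := a) hle ((hTQ' x).1 hx)
    exact ⟨y, (hTP' y).2 hy, c, hc, h⟩
  refine ⟨h1, ?_⟩
  have hK : TP ⊓ Subgroup.normalizer (Q : Set G) ≤ TQ := fun y hy =>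
    (hTQ' y).2 (conjPair_eq_of_stab hM hbp (a := a) hle ((hTP' y).1 hy.1) hy.2)
  rw [centralizer_index_eq hCT hK (fun y hy => ((hTQ y).1 hy).1) (fun x hx => ?_)]
  · show _ = (TP ⊓ Subgroup.centralizer (Q : Set G)).relIndex (TP ⊓ Subgroup.normalizer (Q : Set G))
    rw [← Subgroup.inf_relIndex_right (Subgroup.centralizer (Q : Set G)),
      ← Subgroup.inf_relIndex_right (TP ⊓ Subgroup.centralizer (Q : Set G))]
    congr 1
    ext y
    simp only [Subgroup.mem_inf]
    tauto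
  · obtain ⟨y, hy, c, hc, h⟩ := h1 x hx
    refine ⟨y, ⟨hy, ?_⟩, c, hc, h⟩
    have hy' : y = x * c⁻¹ := by rw [h]; group
    rw [hy']
    exact Subgroup.mul_mem _ ((hTQ x).1 hx).1 (Subgroup.inv_mem _ (Subgroup.centralizer_le_normalizer _ hc))

end Cfsg.Agent.S4682
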