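import Cfsg.Statements.S4691
import Cfsg.Agent.Lib.HeightPSolv.PrincipalPairs
import Cfsg.Agent.Lib.Transfer.Criteria
import Mathlib

set_option autoImplicit false
open Cfsg

namespace Cfsg.Agent.S4691

/-- Fix a prime p and a maximal ideal M of the algebraic integers containing p. A finite group G has a normal p-complement if and only if its principal p-block is nilpotent. -/
theorem result {G : Type*} [Group G] [Fintype G] (p : ℕ) [Fact p.Prime] (M : Ideal Cfsg.AlgInt) (hM : Cfsg.IsPModular p M) : Cfsg.HasNormalPComplement p G ↔ Cfsg.IsNilpotentBlock p M (Cfsg.principalBlock M G) := by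
  classical
  haveI := Cfsg.Agent.Lib.Blocks.isPModular_isPrime hM
  rw [Cfsg.Agent.Lib.Transfer.hasNormalPComplement_iff_locallyPTrivial]
  have hp : p.Prime := Fact.out
  constructor
  · intro h
    refine ⟨Cfsg.Agent.Lib.BrauerMap.isPBlock_principalBlock M, fun Q e hQ x hx _ hreg => ?_⟩
    exact h Q hQ.1.1 x hx ((hp.coprime_iff_not_dvd.2 hreg).symm)
  · intro h Q hQ g hg hgo
    exact h.2 Q _ (Cfsg.Agent.Lib.HeightPSolv.isBrauerPairOf_principalBlock hM hQ) g hg
      (Cfsg.Agent.Lib.HeightPSolv.stabilizesBlock_principalBlock Q hg)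
      (hp.coprime_iff_not_dvd.1 hgo.symm)

end Cfsg.Agent.S4691
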