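import Cfsg.Statements.S4702
import Cfsg.Agent.Lib.Perm.SharplyThree
import Cfsg.Agent.Lib.Perm.ZassenhausPGL
import Cfsg.Agent.Lib.Perm.ZassenhausBasics
import Mathlib

set_option autoImplicit false
open Cfsg

namespace Cfsg.Agent.S4702

/-- Let G be a triply transitive permutation group on a finite set of odd size m ≥ 3 in which only the identity fixes three or more points. Then m = 2^a + 1 for some a ≥ 1 and G is isomorphic to SL(2, 2^a). -/
theorem result {α : Type*} [Fintype α] [DecidableEq α] (hm : 3 ≤ Fintype.card α) (hodd : Odd (Fintype.card α)) (G : Subgroup (Equiv.Perm α)) (h3 : MulAction.IsMultiplyPretransitive G α 3) (hfix : ∀ g : G, 3 ≤ Nat.card (MulAction.fixedBy α g) → g = 1) : ∃ a : ℕ, 1 ≤ a ∧ Fintype.card α = 2 ^ a + 1 ∧ ∃ (F : Type) (_ : Field F) (_ : Fintype F), Fintype.card F = 2 ^ a ∧ Nonempty (G ≃* Matrix.SpecialLinearGroup (Fin 2) F) := by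
  classical
  open Cfsg.Agent.Lib.Perm in
  have hsharp : ∀ x : Fin 3 ↪ α, MulAction.stabilizer G x = ⊥ := by
    intro x
    rw [eq_bot_iff]
    intro g hg
    rw [Subgroup.mem_bot]
    refine hfix g ?_
    have hg' : ∀ i, g • x i = x i := fun i => DFunLike.congr_fun (MulAction.mem_stabilizer_iff.1 hg) i
    refine le_trans ?_ (Nat.card_le_card_of_injective
      (fun i => (⟨x i, hg' i⟩ : MulAction.fixedBy α g)) fun i j h => x.injective (congrArg Subtype.val h))
    simp
  open Cfsg.Agent.Lib.Perm in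
  obtain ⟨P, o, e, s, T, ℓ, j, hT, hℓ, hj, hc, hexp, ho, he, heo, hsp, hso, hse, hss, hs1⟩ :=
    SharplyThree.exists_setup (G := G) h3 hsharp hm
  have hℓ2 : ℓ = 2 := by
    by_contra h
    have h1 : Odd (ℓ ^ j) := (hℓ.odd_of_ne_two h).pow
    rw [hc] at hodd
    obtain ⟨a, ha⟩ := hodd
    obtain ⟨b, hb⟩ := h1
    omega
  subst hℓ2
  open Cfsg.Agent.Lib.Perm in
  have h2 := SharplyThree.two_pretransitive h3 hm
  open Cfsg.Agent.Lib.Perm in
  have hG := SharplyThree.fixAtMostTwo hsharp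
  open Cfsg.Agent.Lib.Perm in
  have huniq : Nat.card (MulAction.fixedBy α s) = 1 := by
    have h1 := Zassenhaus.card_fixedBy_mod_two (Ω := α) hss
    have h2' := Zassenhaus.card_fixedBy_le_two hG (Ω := α) hs1
    rw [Nat.odd_iff.1 hodd] at h1
    omega
  open Cfsg.Agent.Lib.Perm in
  have hffree : MonoidHom.FixedPointFree (SharplyThree.swapAut hsp hso) := by
    intro h hh
    have hh' : s * (h : G) * s⁻¹ = h := congrArg Subtype.val hh
    have hmove : s • ((h : G) • e) = (h : G) • e := by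
      rw [← mul_smul, mul_inv_eq_iff_eq_mul.mp hh', mul_smul, hse]
    haveI := (Nat.card_eq_one_iff_unique.1 huniq).1
    have he' : (h : G) • e = e :=
      congrArg Subtype.val (Subsingleton.elim (⟨_, hmove⟩ : MulAction.fixedBy α s) ⟨e, hse⟩)
    obtain ⟨a1, a2⟩ := Subgroup.mem_inf.mp h.2
    exact Subtype.ext (hG _ P o e (Ne.symm ho) (Ne.symm heo) (Ne.symm he) a1 a2 he')
  open Cfsg.Agent.Lib.Perm in
  have hinv : ∀ h ∈ MulAction.stabilizer G P ⊓ MulAction.stabilizer G o, s * h * s⁻¹ = h⁻¹ :=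
    fun h hh => congrArg Subtype.val (congrFun (hffree.coe_eq_inv_of_involutive
      (SharplyThree.swapAut_involutive hsp hso hss)) ⟨h, hh⟩)
  open Cfsg.Agent.Lib.Perm in
  obtain ⟨K, iK, iF, hK, ⟨iso⟩⟩ := ZassenhausPGL.exists_mulEquiv_PGL h2 hG hT ho he heo
    (ZassenhausBasics.comm_of_inverted hinv)
    (SharplyThree.card_stab_two h3 hsharp (Ne.symm ho) hm) hsp hso hse
    (fun h hh => hinv _ (mul_mem hh hh))
  refine ⟨j, hj, hc, K, iK, iF, by omega, ?_⟩
  have hchar : CharP K 2 := by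
    obtain ⟨q, hq⟩ := CharP.exists K
    haveI := hq
    obtain ⟨n, hqp, hn⟩ := FiniteField.card K q
    have hKc : Fintype.card K = 2 ^ j := by omega
    have : q = 2 := (Nat.prime_dvd_prime_iff_eq hqp Nat.prime_two).1
      (hqp.dvd_of_dvd_pow (by rw [← hKc, hn]; exact dvd_pow_self q n.ne_zero))
    exact this ▸ hq
  haveI := hchar
  have hinj : Function.Injective (Matrix.SpecialLinearGroup.toPGL :
      Matrix.SpecialLinearGroup (Fin 2) K →* Matrix.ProjGenLinGroup (Fin 2) K) := by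
    rw [← MonoidHom.ker_eq_bot_iff, Matrix.SpecialLinearGroup.toPGL_ker, eq_bot_iff]
    intro g hg
    obtain ⟨r, hr, hrg⟩ := Matrix.SpecialLinearGroup.mem_center_iff.1 hg
    rw [Subgroup.mem_bot]
    refine Subtype.ext ?_
    rw [Fintype.card_fin] at hr
    have h1 : r = 1 := CharTwo.sq_inj.1 (hr.trans (one_pow 2).symm)
    rw [← hrg, h1, map_one]
    rfl
  haveI : Finite (Matrix.ProjGenLinGroup (Fin 2) K) :=
    Finite.of_surjective _ Matrix.ProjGenLinGroup.mk_surjective
  have hbij : Function.Bijective (Matrix.SpecialLinearGroup.toPGL :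
      Matrix.SpecialLinearGroup (Fin 2) K →* Matrix.ProjGenLinGroup (Fin 2) K) :=
    (Nat.bijective_iff_injective_and_card _).2 ⟨hinj, (Cfsg.Agent.Lib.LinGroup.card_PGL_eq_card_SL 2).symm⟩
  exact ⟨iso.trans (MulEquiv.ofBijective _ hbij).symm⟩

end Cfsg.Agent.S4702
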