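import Cfsg.Statements.S4705
import Cfsg.Agent.S4701
import Cfsg.Agent.Lib.SingleColumn.Main
import Cfsg.Agent.Lib.Perm.ZassenhausPGL

set_option autoImplicit false
open Cfsg

namespace Cfsg.Agent.S4705

open Cfsg.Agent.Lib

/-- Let G be a finite group with centre Z and p > 5 a prime such that a Sylow p-subgroup of G has order p and is not normal. If G has a faithful irreducible character of degree p − 2, then p = 2^a + 1 for some a and G is isomorphic to the direct product of SL(2, 2^a) with Z. -/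
theorem result {G : Type*} [Group G] [Finite G] (p : ℕ) [Fact p.Prime] (hp : 5 < p) (P : Sylow p G) (hP : Nat.card P = p) (hnn : ¬ (P : Subgroup G).Normal) (ζ : G → ℂ) (hζ : Cfsg.IsIrrCharacter G ζ) (hfaith : ∀ g : G, ζ g = ζ 1 → g = 1) (hdeg : Cfsg.charDegree ζ = p - 2) : ∃ (a : ℕ) (F : Type) (_ : Field F) (_ : Fintype F), p = 2 ^ a + 1 ∧ Fintype.card F = 2 ^ a ∧ Nonempty (G ≃* Matrix.SpecialLinearGroup (Fin 2) F × Subgroup.center G) := by
  classical
  letI : Fintype G := Fintype.ofFinite G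
  have hpp := (Fact.out : p.Prime)
  have hdeg' : ζ 1 = ((p - 2 : ℕ) : ℂ) := by
    obtain ⟨n, hn⟩ := Chars.isCharacter_exists_degree (Chars.isCharacter_of_isIrrCharacter hζ)
    rw [charDegree, hn, Complex.natCast_re, Nat.floor_natCast] at hdeg
    rw [hn, hdeg]
  obtain ⟨K, hcard, hperf, hcen, hQ, hinf, hprod⟩ :=
    SingleColumn.exists_tight_factor P hp hP hnn ⟨ζ, hζ⟩ hdeg' hfaith
  obtain ⟨n, rfl⟩ : ∃ n, p = n + 6 := ⟨p - 6, by omega⟩
  simp only [show n + 6 - 1 = n + 5 by omega, show n + 6 - 2 = n + 4 by omega] at hcard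
  have h2 : ∀ N : Subgroup K, N.Normal → Nat.card N ≠ 2 := fun N hN h2 => by
    obtain ⟨z, hz1, hz⟩ := (Nat.card_eq_two_iff' (1 : N)).mp h2
    have hmem : (z : K) ∈ Subgroup.center K := by
      refine Subgroup.mem_center_iff.mpr fun g => ?_
      have hgz : (⟨g * z * g⁻¹, hN.conj_mem _ z.2 g⟩ : N) = z := hz _ fun e => by
        have := congrArg (Subtype.val : N → K) e
        simp only [OneMemClass.coe_one, conj_eq_one_iff] at this
        exact hz1 (Subtype.ext this)
      exact mul_inv_eq_iff_eq_mul.mp (congrArg (Subtype.val : N → K) hgz)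
    rw [hcen, Subgroup.mem_bot] at hmem
    exact hz1 (Subtype.ext hmem)
  have hbig : Nat.card K < (n + 6) ^ 3 := by rw [hcard]; nlinarith
  obtain ⟨Q⟩ : Nonempty (Sylow (n + 6) K) := inferInstance
  rcases Cfsg.Agent.S4701.result hperf (n + 6)
    (hcard ▸ Dvd.dvd.mul_right (dvd_mul_right _ _) _) hbig Q (hQ Q) h2 with
    ⟨F, hF, hFf, hFc, -, ⟨e⟩⟩ | ⟨m, F, hF, hFf, hFc, hm, -, ⟨e⟩⟩
  · exfalso
    have hodd : Odd (Fintype.card F) := hFc ▸ hpp.odd_of_ne_two (by omega)
    have h := Perm.ZassenhausPGL.card_PSL_two (K := F) hodd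
    rw [← Nat.card_congr e.toEquiv, hcard, hFc, show n + 6 - 1 = n + 5 by omega] at h
    have h' : (n + 6) * (n + 5) * (2 * (n + 4)) = (n + 6) * (n + 5) * (n + 6 + 1) :=
      (by linear_combination h)
    have := Nat.eq_of_mul_eq_mul_left (by positivity) h'
    omega
  refine ⟨m, F, hF, hFf, hm, hFc, ⟨?_⟩⟩
  let f : K × Subgroup.center G →* G :=
    { toFun := fun a => (a.1 : G) * (a.2 : G)
      map_one' := by simp
      map_mul' := fun a b => by
        simp only [Prod.fst_mul, Prod.snd_mul, Subgroup.coe_mul]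
        rw [mul_assoc, mul_assoc, ← mul_assoc (b.1 : G), Subgroup.mem_center_iff.mp a.2.2 (b.1 : G),
          mul_assoc] }
  have hinj : Function.Injective f := by
    rw [← MonoidHom.ker_eq_bot_iff, Subgroup.eq_bot_iff_forall]
    rintro ⟨a, b⟩ h
    have h' : (a : G) * (b : G) = 1 := MonoidHom.mem_ker.mp h
    have ha : (a : G) = 1 := by
      have : (a : G) ∈ K ⊓ Subgroup.center G :=
        Subgroup.mem_inf.mpr ⟨a.2, by rw [eq_inv_of_mul_eq_one_left h']; exact inv_mem b.2⟩
      rwa [hinf, Subgroup.mem_bot] at this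
    rw [ha, one_mul] at h'
    exact Prod.ext (Subtype.ext ha) (Subtype.ext h')
  have hsurj : Function.Surjective f := fun g => by
    obtain ⟨k, hk, z, hz, rfl⟩ := hprod g
    exact ⟨(⟨k, hk⟩, ⟨z, hz⟩), rfl⟩
  exact (MulEquiv.ofBijective f ⟨hinj, hsurj⟩).symm.trans (e.prodCongr (MulEquiv.refl _))

end Cfsg.Agent.S4705
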