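import Cfsg.Statements.S4706
import Cfsg.Agent.S4702
import Cfsg.Agent.Lib.Blocks.FrobeniusSylow.TwoPrimeDegree

set_option autoImplicit false
open Cfsg

namespace Cfsg.Agent.S4706

/-- Let p > 2 be a prime and G a permutation group on p letters whose Sylow p-subgroup P has normalizer of order 2p. Then either P is normal in G, or p − 1 = 2^a for some a and G is isomorphic to SL(2, 2^a). -/
theorem result {α : Type*} [Fintype α] [DecidableEq α] {p : ℕ} [Fact p.Prime] (hp : 2 < p) (hα : Fintype.card α = p) (G : Subgroup (Equiv.Perm α)) (P : Sylow p G) (hN : Nat.card (Subgroup.normalizer ((P : Subgroup G) : Set G)) = 2 * p) : (P : Subgroup G).Normal ∨ ∃ (a : ℕ) (F : Type) (_ : Field F) (_ : Fintype F), p = 2 ^ a + 1 ∧ Fintype.card F = 2 ^ a ∧ Nonempty (G ≃* Matrix.SpecialLinearGroup (Fin 2) F) := by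
  classical
  have hpp := (Fact.out : p.Prime)
  by_cases hp3 : p = 3
  · refine Or.inl (Subgroup.normalizer_eq_top_iff.1 (Subgroup.eq_top_of_card_eq _ ?_))
    have h1 := Subgroup.card_subgroup_dvd_card G
    have e : Nat.card α = 3 := by rw [Nat.card_eq_fintype_card, hα, hp3]
    rw [Nat.card_perm, e, show Nat.factorial 3 = 2 * 3 by rfl] at h1
    have h2 : 2 * p ∣ Nat.card G := hN ▸ Subgroup.card_subgroup_dvd_card _
    rw [hp3] at h2
    exact (hN.trans (congrArg (2 * ·) hp3)).trans (Nat.dvd_antisymm h2 h1)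
  · have hp4 : p ≠ 4 := fun e => absurd (e ▸ hpp) (by norm_num)
    rcases Cfsg.Agent.Lib.Blocks.FrobeniusSylow.normal_or_sharply_three_transitive (by omega) hα P hN
      with h | ⟨h3, hfix⟩
    · exact Or.inl h
    · obtain ⟨a, -, hm, F, iF, iF', hF, hiso⟩ :=
        Cfsg.Agent.S4702.result (by omega) (hα ▸ hpp.odd_of_ne_two (by omega)) G h3 hfix
      exact Or.inr ⟨a, F, iF, iF', hα ▸ hm, hF, hiso⟩

end Cfsg.Agent.S4706
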