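import Cfsg.Statements.S4709
import Cfsg.Agent.Lib.Blocks.FrobeniusSylow.Main

set_option autoImplicit false
open Cfsg

namespace Cfsg.Agent.S4709

open Cfsg.Agent.Lib Cfsg.Agent.Lib.Blocks Cfsg.Agent.Lib.Blocks.FrobeniusSylow

/-- Let p be a prime, M a maximal ideal of the algebraic integers containing p, and G a finite group with a nontrivial abelian Sylow p-subgroup P; put N = N_G(P), C = C_G(P). Suppose N/C is cyclic of order m with 1 < m < #P − 1 (C has index m in N and N is generated by C and one element), and C_G(y) ∩ N = C for every non-identity y ∈ P. Put r = (#P − 1)/m. Then there is s ≤ m such that the principal p-block is the disjoint union of a set X of s characters containing the principal character and a set Y of r characters, with integers a_χ ≠ 0 (χ ∈ X), d and a sign δ = ±1, such that: every χ ∈ X takes the value a_χ at every element whose p-part is a non-identity element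 of P; there is a map ζ from the non-principal linear characters ψ of P onto Y, constant on N-conjugacy classes, with ζ_ψ(z) = d + δ·Σ ψ'(y) for every z whose p-part y is a non-identity element of P, the sum running over the N-conjugates ψ' of ψ; (d − δ)^2 + (r − 1) d^2 + Σ_{χ ∈ X} a_χ^2 = m + 1; all members of Y agree on p-regular elements; and (r d − δ) η(g) + Σ_{χ ∈ X} a_χ χ(g) = 0 for every η ∈ Y and every p-regular g. -/
theorem result {G : Type*} [Group G] [Finite G] (p : ℕ) [Fact p.Prime] (M : Ideal Cfsg.AlgInt) (hM : Cfsg.IsPModular p M) (P : Sylow p G) (hab : IsMulCommutative P) (hP1 : Nat.card P ≠ 1) (m : ℕ) (hm1 : 1 < m) (hm2 : m + 1 < Nat.card P) (hCN : (Subgroup.centralizer ((P : Subgroup G) : Set G)).relIndex (Subgroup.normalizer ((P : Subgroup G) : Set G)) = m) (hcyc : ∃ g : G, g ∈ Subgroup.normalizer ((P : Subgroup G) : Set G) ∧ Subgroup.centralizer ((P : Subgroup G) :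 Set G) ⊔ Subgroup.zpowers g = Subgroup.normalizer ((P : Subgroup G) : Set G)) (hfrob : ∀ y : G, y ∈ (P : Subgroup G) → y ≠ 1 → Subgroup.centralizer ({y} : Set G) ⊓ Subgroup.normalizer ((P : Subgroup G) : Set G) = Subgroup.centralizer ((P : Subgroup G) : Set G)) : ∃ (s : ℕ) (X Y : Set (Cfsg.IrrCharacter G)), s ≤ m ∧ Cfsg.principalBlock M G = X ∪ Y ∧ Disjoint X Y ∧ Nat.card X = s ∧ Nat.card Y = (Nat.card P - 1) / m ∧ (∃ χ₁ ∈ X, (χ₁ : G → ℂ) = fun _ => 1) ∧ ∃ (a : Cfsg.IrrCharacter G → ℤ) (d δ : ℤ) (ζ : (↥(P : Subgroup G) →* ℂˣ) → Cfsg.IrrCharacter G), (δ = 1 ∨ δ = -1) ∧ (∀ χ ∈ X, a χ ≠ 0 ∧ ∀ z y : G, Cfsg.IsPPart p z y → y ∈ (P : Subgroup G) → y ≠ 1 → (χ : G → ℂ) z = (a χ : ℂ)) ∧ (∀ ψ : ↥(P : Subgroup G) →* ℂˣ, ψ ≠ 1 → ζ ψ ∈ Y) ∧ (∀ η ∈ Y, ∃ ψ : ↥(P : Subgroup G) →* ℂˣ, ψ ≠ 1 ∧ ζ ψ = η) ∧ (∀ ψ ψ' : ↥(P : Subgroup G) →* ℂˣ, ψ ≠ 1 → (∃ n : G, n ∈ Subgroup.normalizer ((P : Subgroup G) : Set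 G) ∧ ∀ w w' : ↥(P : Subgroup G), (w' : G) = n * w * n⁻¹ → ψ' w' = ψ w) → ζ ψ' = ζ ψ) ∧ (∀ ψ : ↥(P : Subgroup G) →* ℂˣ, ψ ≠ 1 → ∀ (z : G) (y : ↥(P : Subgroup G)), Cfsg.IsPPart p z (y : G) → (y : G) ≠ 1 → (ζ ψ : G → ℂ) z = (d : ℂ) + (δ : ℂ) * ∑ᶠ ψ' ∈ {ψ' : ↥(P : Subgroup G) →* ℂˣ | ∃ n : G, n ∈ Subgroup.normalizer ((P : Subgroup G) : Set G) ∧ ∀ w w' : ↥(P : Subgroup G), (w' : G) = n * w * n⁻¹ → ψ' w' = ψ w}, ((ψ' y : ℂˣ) : ℂ)) ∧ ((d - δ) ^ 2 + ((Nat.card P - 1) / m - 1 : ℤ) * d ^ 2 + ∑ᶠ χ ∈ X, a χ ^ 2 = (m : ℤ) + 1) ∧ (∀ η ∈ Y, ∀ η' ∈ Y, ∀ g : G, ¬ p ∣ orderOf g → (η : G → ℂ) g = (η' : G → ℂ) g) ∧ (∀ η ∈ Y, ∀ g : G, ¬ p ∣ orderOf g → ((((Nat.card P - 1) / m : ℕ) : ℂ) * d - δ) * (η : G → ℂ) g + ∑ᶠ χ ∈ X, (a χ : ℂ) * (χ : G → ℂ) g = 0) := by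
  classical
  have := Blocks.isPModular_isPrime hM
  have h : Data P m := ⟨fun a ha b hb => congrArg Subtype.val (hab.is_comm.comm ⟨a, ha⟩ ⟨b, hb⟩), hCN, hfrob⟩
  let : Fintype G := Fintype.ofFinite _
  let : Fintype (autP P) := Fintype.ofFinite _
  let : Fintype (↥(P : Subgroup G) →* ℂˣ) := Fintype.ofFinite _
  obtain ⟨X, Y, a, d, δ, ζ, hδ, hcongr, hYmem, hYex, hB, hXY, ⟨htX, hta⟩, hX, hY, hcard, hnorm, hagree,
    hreg, -⟩ := exists_shape hM h hm2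
  have hr : (Nat.card P - 1) / m = Y.card := by
    rw [show Nat.card P = Y.card * m + 1 from hcard.symm, Nat.add_sub_cancel,
      Nat.mul_div_cancel _ (by omega)]
  have hrZ : (((Nat.card P : ℕ) : ℤ) - 1) / (m : ℤ) = (Y.card : ℤ) := by
    rw [show Nat.card P = Y.card * m + 1 from hcard.symm]
    push_cast
    rw [add_sub_cancel_right, Int.mul_ediv_cancel _ (by omega)]
  have hY2 : 2 ≤ Y.card := by
    have : Y.card * m + 1 = Nat.card P := hcard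
    rcases Nat.lt_or_ge Y.card 2 with hlt | hge
    · interval_cases hc : Y.card <;> omega
    · exact hge
  have hs : X.card ≤ m := by
    have h1 : (X.card : ℤ) ≤ ∑ χ ∈ X, a χ ^ 2 := by
      rw [Finset.card_eq_sum_ones]
      push_cast
      exact Finset.sum_le_sum fun χ hχ => Int.add_one_le_iff.2 (pow_two_pos_of_ne_zero (hX χ hχ).1)
    have h2 : (1 : ℤ) ≤ (d - δ) ^ 2 + ((Y.card : ℤ) - 1) * d ^ 2 := by
      have hr1 : (1 : ℤ) ≤ (Y.card : ℤ) - 1 := by omega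
      by_cases hd : d = δ
      · rcases hδ with e | e <;> rw [hd, e] <;> ring_nf <;> omega
      · have : 0 < (d - δ) ^ 2 := by have := sub_ne_zero.2 hd; positivity
        have : 0 ≤ ((Y.card : ℤ) - 1) * d ^ 2 := by positivity
        linarith
    omega
  refine ⟨X.card, (X : Set (IrrCharacter G)), (Y : Set (IrrCharacter G)), hs, ?_,
    Finset.disjoint_coe.2 hXY, by simp, by rw [hr]; simp, ⟨_, htX, rfl⟩, a, d, δ, ζ, hδ,
    fun χ hχ => ⟨(hX χ hχ).1, fun z y hzy hy hy1 => ?_⟩, hYmem, hYex,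
    fun ψ ψ' _ hR => hcongr ψ ψ' ((sameOrbit_iff ψ ψ').1 hR),
    fun ψ hψ z y hzy hy1 => ?_, ?_, hagree, fun η hη g hg => ?_⟩
  · ext χ
    exact hB χ
  · rw [apply_of_isPPart hM h hzy hy1 ((hB χ).2 (Or.inl hχ))]
    exact (hX χ hχ).2 ⟨y, hy⟩ fun e => hy1 (congrArg Subtype.val e)
  · rw [apply_of_isPPart hM h hzy hy1 ((hB _).2 (Or.inr (hYmem ψ hψ))),
      hY ψ hψ y fun e => hy1 (congrArg Subtype.val e), finsum_orbit h hψ y]
  · rw [finsum_mem_coe_finset, hrZ]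
    exact hnorm
  · rw [finsum_mem_coe_finset, hr]
    exact hreg η hη g hg

end Cfsg.Agent.S4709
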