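import Cfsg.Statements.S4712
-- import your own Cfsg.Agent.* helpers here
import Cfsg.Agent.Lib.BlockAlg.SectionTrace
import Cfsg.Agent.Lib.Chars.PowerPerm
import Cfsg.Agent.Lib.NilBlock.Counting

set_option autoImplicit false
open Cfsg

namespace Cfsg.Agent.S4712

open Cfsg.Agent.Lib
open scoped ComplexConjugate

/-- One exponent generating the exponents congruent to one modulo the part prime to `p`. -/
theorem exists_gen (p : ℕ) [Fact p.Prime] (hodd : p ≠ 2) {N : ℕ} (hN : 0 < N) :
    ∃ k : ℕ, Nat.Coprime k N ∧ k ≡ 1 [MOD N / p ^ N.factorization p] ∧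
      ∀ k' : ℕ, Nat.Coprime k' N → k' ≡ 1 [MOD N / p ^ N.factorization p] →
        ∃ j : ℕ, k' ≡ k ^ j [MOD N] := by
  have hp : p.Prime := Fact.out
  set a := N.factorization p
  set m := N / p ^ a with hm
  have hNm : p ^ a * m = N := Nat.ordProj_mul_ordCompl_eq_self N p
  have hcop : Nat.Coprime (p ^ a) m :=
    (Nat.coprime_ordCompl hp hN.ne').pow_left a
  have : NeZero (p ^ a) := ⟨(pow_pos hp.pos a).ne'⟩
  have hcyc : IsCyclic (ZMod (p ^ a))ˣ := ZMod.isCyclic_units_of_prime_pow p hp hodd a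
  obtain ⟨g, hg⟩ := hcyc.exists_generator
  obtain ⟨k, hk1, hk2⟩ := Nat.chineseRemainder hcop (g : ZMod (p ^ a)).val 1
  have hkg : (k : ZMod (p ^ a)) = (g : ZMod (p ^ a)) := by
    rw [(ZMod.natCast_eq_natCast_iff _ _ _).2 hk1, ZMod.natCast_zmod_val]
  refine ⟨k, ?_, hk2, fun k' hk' hk'2 => ?_⟩
  · rw [← hNm]
    refine Nat.Coprime.mul_right ((ZMod.isUnit_iff_coprime k (p ^ a)).1 (hkg ▸ g.isUnit)) ?_
    show Nat.gcd k m = 1
    rw [Nat.ModEq.gcd_eq hk2, Nat.gcd_one_left]
  · have hu : Nat.Coprime k' (p ^ a) := hk'.coprime_dvd_right ⟨m, hNm.symm⟩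
    obtain ⟨j, hj⟩ : ∃ j : ℕ, g ^ j = ZMod.unitOfCoprime k' hu :=
      (IsOfFinOrder.mem_powers_iff_mem_zpowers (isOfFinOrder_of_finite g)).2 (hg _)
    refine ⟨j, ?_⟩
    rw [← hNm]
    refine (Nat.modEq_and_modEq_iff_modEq_mul hcop).1 ⟨?_, ?_⟩
    · rw [← ZMod.natCast_eq_natCast_iff, Nat.cast_pow, hkg]
      have h := congrArg (fun v : (ZMod (p ^ a))ˣ => (v : ZMod (p ^ a))) hj
      simpa using h.symm
    · refine hk'2.trans ?_
      simpa using (hk2.pow j).symm

/-- Let p be an odd prime, M a maximal ideal of the algebraic integers containing p, G a finite group of order n with p-part p^a, and B a p-block of G. Call an irreducible character χ p-rational when χ(g^k) = χ(g) for every g and every k coprime to n with k ≡ 1 modulo n/p^a (χ is fixed by the Galois automorphisms fixing the roots of unity of order prime to p). Then the number of p-rational irreducible characters in B is at least the p-regular rank of B (the number of irreducible Brauer characters in B). -/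
theorem result {G : Type*} [Group G] [Finite G] (p : ℕ) [Fact p.Prime] (hodd : p ≠ 2) (M : Ideal Cfsg.AlgInt) (hM : Cfsg.IsPModular p M) (B : Set (Cfsg.IrrCharacter G)) (hB : Cfsg.IsPBlock M B) : Cfsg.blockRank p B ≤ Nat.card {χ : Cfsg.IrrCharacter G // χ ∈ B ∧ ∀ k : ℕ, Nat.Coprime k (Nat.card G) → k ≡ 1 [MOD Nat.card G / p ^ (Nat.card G).factorization p] → ∀ g : G, (χ : G → ℂ) (g ^ k) = (χ : G → ℂ) g} := by
  classical
  let : Fintype G := Fintype.ofFinite G
  have := hM.2.1
  have : M.IsPrime := Ideal.IsMaximal.isPrime inferInstance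
  have hp : p.Prime := Fact.out
  set N := Nat.card G with hN
  obtain ⟨k, hkN, hk1, hgen⟩ := exists_gen p hodd (N := N) Nat.card_pos
  obtain ⟨π, hπ⟩ := Chars.exists_powPerm (G := G) hkN
  have hreg : ∀ c : G, ¬ p ∣ orderOf c → c ^ k = c := fun c hc => by
    conv_rhs => rw [← pow_one c]
    refine pow_eq_pow_iff_modEq.2 (Nat.ModEq.of_dvd ?_ hk1)
    refine Nat.Coprime.dvd_of_dvd_mul_left
      ((hp.coprime_iff_not_dvd.2 hc).symm.pow_right (N.factorization p)) ?_
    rw [Nat.ordProj_mul_ordCompl_eq_self]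
    exact orderOf_dvd_natCard c
  -- membership in the block
  have hπreg : ∀ χ : IrrCharacter G, pRegularPart p (π χ : G → ℂ) = pRegularPart p (χ : G → ℂ) :=
    fun χ => funext fun g => by
      rw [BrauerFeit.pRegularPart_apply, BrauerFeit.pRegularPart_apply]
      split_ifs with hg
      · rfl
      · rw [hπ, hreg g hg]
  have hπB : ∀ χ ∈ B, π χ ∈ B := by
    intro χ hχ
    by_contra hno
    have h0 := BrauerFeit.regCoef_eq_zero_of_not_mem (BrauerFeit.regOrth hM) hB hχ hno
    rw [← BrauerFeit.classInner_pRegularPart_pRegularPart, hπreg] at h0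
    have h1 := congrFun (BlockAlg.classInner_self_eq_zero_iff h0) 1
    rw [BrauerFeit.pRegularPart_apply, orderOf_one, if_neg hp.not_dvd_one] at h1
    exact Chars.irr_apply_one_ne_zero χ h1
  -- the trace of the permutation
  have hfix : ∀ χ : IrrCharacter G, (∀ k' : ℕ, Nat.Coprime k' N →
      k' ≡ 1 [MOD N / p ^ N.factorization p] → ∀ g : G, (χ : G → ℂ) (g ^ k') = (χ : G → ℂ) g) ↔
      π χ = χ := by
    intro χ
    constructor
    · exact fun h => Subtype.ext (funext fun g => by rw [hπ]; exact h k hkN hk1 g)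
    · intro h k' hk' hk'2 g
      obtain ⟨j, hj⟩ := hgen k' hk' hk'2
      rw [pow_eq_pow_iff_modEq.2 (Nat.ModEq.of_dvd (orderOf_dvd_natCard g) hj)]
      clear hj
      induction j generalizing g with
      | zero => simp
      | succ j ih =>
        rw [pow_succ', pow_mul, ih (g ^ k)]
        conv_rhs => rw [← h, hπ]
  have hcount : ((Nat.card G : ℕ) : ℂ) * (Nat.card {χ : IrrCharacter G // χ ∈ B ∧ ∀ k' : ℕ,
      Nat.Coprime k' N → k' ≡ 1 [MOD N / p ^ N.factorization p] →
        ∀ g : G, (χ : G → ℂ) (g ^ k') = (χ : G → ℂ) g} : ℂ) =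
      ∑ g : G, ∑ χ ∈ B.toFinset, (χ : G → ℂ) (g ^ k) * conj ((χ : G → ℂ) g) := by
    rw [Finset.sum_comm, Nat.card_eq_fintype_card (α := {χ : IrrCharacter G // _}),
      Fintype.card_subtype]
    rw [show Finset.univ.filter (fun χ : IrrCharacter G => χ ∈ B ∧ ∀ k' : ℕ,
      Nat.Coprime k' N → k' ≡ 1 [MOD N / p ^ N.factorization p] →
        ∀ g : G, (χ : G → ℂ) (g ^ k') = (χ : G → ℂ) g) =
      B.toFinset.filter (fun χ => π χ = χ) by ext χ; simp [hfix χ]]
    rw [← Finset.sum_boole, Finset.mul_sum]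
    refine Finset.sum_congr rfl fun χ _ => ?_
    rw [← Chars.classInner_irr, classInner, ← mul_assoc, mul_inv_cancel₀ Chars.natCard_ne_zero,
      one_mul]
    exact Finset.sum_congr rfl fun g _ => by rw [hπ]
  rw [NilBlock.sum_eq_sum_sections (p := p)] at hcount
  have h1mem : (1 : G) ∈ NilBlock.pElems p G := NilBlock.mem_pElems.2 ⟨0, by simp⟩
  rw [← Finset.add_sum_erase _ _ h1mem] at hcount
  -- the regular elements
  have hone : (∑ c : Subgroup.centralizer (Subgroup.zpowers (1 : G) : Set G),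
      if p ∣ orderOf c then 0 else ∑ χ ∈ B.toFinset,
        (χ : G → ℂ) ((1 * (c : G)) ^ k) * conj ((χ : G → ℂ) (1 * (c : G)))) =
      (Nat.card G : ℂ) * (blockRank p B : ℂ) := by
    have htop : Subgroup.centralizer (Subgroup.zpowers (1 : G) : Set G) = ⊤ :=
      (Subgroup.eq_top_iff' _).2 fun g => by
        rw [BrauerPairs.centralizer_zpowers, Subgroup.mem_centralizer_singleton_iff, mul_one, one_mul]
    rw [BrauerFeit.blockRank_eq_sum_regCoef hM hB, Finset.mul_sum]
    simp only [BrauerFeit.regCoef, classInner, ← mul_assoc, mul_inv_cancel₀ Chars.natCard_ne_zero,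
      one_mul]
    rw [Finset.sum_comm (s := B.toFinset)]
    refine Finset.sum_bij' (fun c _ => (c : G)) (fun g _ => ⟨g, htop.ge (Subgroup.mem_top g)⟩)
      (fun _ _ => Finset.mem_univ _) (fun _ _ => Finset.mem_univ _) (fun _ _ => rfl)
      (fun _ _ => rfl) fun c _ => ?_
    simp only [BrauerFeit.pRegularPart_apply, Subgroup.orderOf_coe]
    split_ifs with hc
    · simp
    · rw [hreg c (by rwa [Subgroup.orderOf_coe])]
  rw [hone] at hcount
  -- the singular sections
  have hsec : ∀ v ∈ (NilBlock.pElems p G).erase 1, ∃ n : ℕ,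
      (∑ c : Subgroup.centralizer (Subgroup.zpowers v : Set G),
        if p ∣ orderOf c then 0 else ∑ χ ∈ B.toFinset,
          (χ : G → ℂ) ((v * (c : G)) ^ k) * conj ((χ : G → ℂ) (v * (c : G)))) = n := by
    intro v hv
    obtain ⟨i, hi⟩ := NilBlock.mem_pElems.1 (Finset.mem_of_mem_erase hv)
    set C := Subgroup.centralizer (Subgroup.zpowers v : Set G) with hCdef
    have hC : C = Subgroup.centralizer ({v} : Set G) := BrauerPairs.centralizer_zpowers v
    have hcomm : ∀ c : C, Commute v (c : G) := fun c =>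
      (show Commute (c : G) v from Subgroup.mem_centralizer_singleton_iff.1 (hC.le c.2)).symm
    have hvk : ∃ i : ℕ, orderOf (v ^ k) = p ^ i := by
      obtain ⟨i', -, hi'⟩ := (Nat.dvd_prime_pow hp).1 (hi ▸ orderOf_pow_dvd (x := v) k)
      exact ⟨i', hi'⟩
    have hexp : ∀ c : C, ¬ p ∣ orderOf c → (v * (c : G)) ^ k = v ^ k * c := fun c hc => by
      rw [(hcomm c).mul_pow, hreg c (by rwa [Subgroup.orderOf_coe])]
    by_cases hcj : IsConj v (v ^ k)
    · obtain ⟨h, hh⟩ := isConj_iff.1 hcj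
      obtain ⟨j, hj⟩ : ∃ j : ℕ, (v ^ k) ^ j = v := by
        have hco : Nat.Coprime k (orderOf v) := hkN.coprime_dvd_right (orderOf_dvd_natCard v)
        exact exists_pow_eq_self_of_coprime hco
      have hto : ∀ c : C, h⁻¹ * (c : G) * h⁻¹⁻¹ ∈ C := fun c => hC.ge (by
        rw [Subgroup.mem_centralizer_singleton_iff]
        have h1 : Commute (c : G) (h * v * h⁻¹) := hh ▸ (hcomm c).symm.pow_right k
        calc h⁻¹ * (c : G) * h⁻¹⁻¹ * v = h⁻¹ * ((c : G) * (h * v * h⁻¹)) * h := by group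
          _ = h⁻¹ * ((h * v * h⁻¹) * (c : G)) * h := by rw [h1.eq]
          _ = v * (h⁻¹ * (c : G) * h⁻¹⁻¹) := by group)
      have hfrom : ∀ c : C, h * (c : G) * h⁻¹ ∈ C := fun c => hC.ge (by
        rw [Subgroup.mem_centralizer_singleton_iff]
        have h1 : Commute (h * (c : G) * h⁻¹) (v ^ k) := by
          rw [← hh]
          exact (Commute.conj_iff h).2 (hcomm c).symm
        have h2 := h1.pow_right j
        rwa [hj] at h2)
      let γ : C ≃* C :=
        { toFun := fun c => ⟨_, hto c⟩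
          invFun := fun c => ⟨_, hfrom c⟩
          left_inv := fun c => Subtype.ext (by show h * (h⁻¹ * (c : G) * h⁻¹⁻¹) * h⁻¹ = c; group)
          right_inv := fun c => Subtype.ext (by show h⁻¹ * (h * (c : G) * h⁻¹) * h⁻¹⁻¹ = c; group)
          map_mul' := fun c d => Subtype.ext (by
            show h⁻¹ * ((c : G) * d) * h⁻¹⁻¹ = h⁻¹ * (c : G) * h⁻¹⁻¹ * (h⁻¹ * (d : G) * h⁻¹⁻¹)
            group) }
      obtain ⟨n, hn⟩ := BlockAlg.exists_nat_section_trace hM hB ⟨i, hi⟩ hC γ
      refine ⟨n, Eq.trans (Finset.sum_congr rfl fun c _ => ?_) hn⟩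
      split_ifs with hc
      · rfl
      refine Finset.sum_congr rfl fun χ _ => ?_
      congr 1
      rw [hexp c hc, ← Chars.irr_isClassFunction χ (v * (γ c : G)) h]
      refine congrArg (χ : G → ℂ) ?_
      show v ^ k * (c : G) = h * (v * (h⁻¹ * (c : G) * h⁻¹⁻¹)) * h⁻¹
      rw [← hh]
      group
    · refine ⟨0, ?_⟩
      rw [Nat.cast_zero]
      refine Finset.sum_eq_zero fun c _ => ?_
      split_ifs with hc
      · rfl
      have hc' : ¬ p ∣ orderOf (c : G) := by rwa [Subgroup.orderOf_coe]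
      have h := Blocks.block_orth_conj hM hB
        (Blocks.Sections.isPPart_mul p hvk ((hcomm c).pow_left k) hc')
        (Blocks.Sections.isPPart_mul p ⟨i, hi⟩ (hcomm c) hc') fun h => hcj h.symm
      rw [finsum_mem_eq_toFinset_sum] at h
      rw [hexp c hc]
      exact h
  choose! n hn using hsec
  rw [Finset.sum_congr rfl hn, ← Nat.cast_mul, ← Nat.cast_mul, ← Nat.cast_sum, ← Nat.cast_add,
    Nat.cast_inj] at hcount
  exact Nat.le_of_mul_le_mul_left (hcount ▸ Nat.le_add_right _ _) Nat.card_pos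

end Cfsg.Agent.S4712
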