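import Cfsg.Statements.S4715
import Cfsg.Agent.Lib.Elem69.HeightInertia
-- import your own Cfsg.Agent.* helpers here

set_option autoImplicit false
open Cfsg

namespace Cfsg.Agent.S4715

/-- Let p be a prime, M a maximal ideal of the algebraic integers containing p, B a p-block of the finite group G with defect group D of order p^d, H = D·C_G(D), b a block of H inducing B, T the stabilizer of b in N_G(D) and e = [T : H] the inertial index of B; let n be the integer with p^n ≤ e < p^(n+1) and p^c the order of the centre of D. Then every irreducible character in B has height h with h + c ≤ n + d. -/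
theorem result {G : Type*} [Group G] [Finite G] (p : ℕ) [Fact p.Prime] (M : Ideal Cfsg.AlgInt) (hM : Cfsg.IsPModular p M) (B : Set (Cfsg.IrrCharacter G)) (hB : Cfsg.IsPBlock M B) (D : Subgroup G) (hBD : Cfsg.IsDefectGroup p M B D) (d : ℕ) (hDd : Nat.card D = p ^ d) (H : Subgroup G) (hH : H = D ⊔ Subgroup.centralizer (D : Set G)) (b : Set (Cfsg.IrrCharacter H)) (hind : Cfsg.IsInducedBlock M H b B) (T : Subgroup G) (hT : ∀ g : G, g ∈ T ↔ (g ∈ Subgroup.normalizer (D : Set G) ∧ ∀ θ ∈ b, ∀ θ' : Cfsg.IrrCharacter H, (∀ h h' : H, (h' : G) = g * h * g⁻¹ → (θ' : H → ℂ) h' = (θ : H → ℂ) h) → θ' ∈ b)) (e : ℕ) (he : H.relIndex T = e) (n : ℕ) (hn : p ^ n ≤ e ∧ e < p ^ (n + 1)) (c : ℕ) (hc : Nat.card (Subgroup.center D) = p ^ c) : ∀ χ ∈ B, Cfsg.blockHeight p B (χ : G → ℂ) + c ≤ n + d := by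
  classical
  haveI := Cfsg.Agent.Lib.Blocks.isPModular_isPrime hM
  cases nonempty_fintype G
  obtain ⟨a, ha1, ha, hbc⟩ := Cfsg.Agent.Lib.Elem69.HeightInertia.exists_pair_of_inducing hM
    (Cfsg.Agent.Lib.Blocks.isPGroup_of_isDefectGroup hBD) hH hind
  subst ha1
  have hmax := Cfsg.Agent.Lib.BrauerPairs.KernelCore.isMaximal_of_defectGroup hM ha hBD
  have hd : Cfsg.blockDefect p B = d := Nat.pow_right_injective (Fact.out : p.Prime).two_le
    ((Cfsg.Agent.Lib.BrauerFeit.card_defectGroup hM hB hBD).symm.trans hDd)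
  have hHT : H ≤ T := fun x hx => (hT x).2
    ⟨(hH.le.trans (sup_le Subgroup.le_normalizer (Subgroup.centralizer_le_normalizer _))) hx,
      fun θ hθ θ' h => Cfsg.Agent.Lib.Elem69.HeightInertia.mem_block_of_mem hx hθ h⟩
  intro χ hχ
  have hmain := Cfsg.Agent.Lib.Elem69.HeightInertia.card_center_mul_pow_le hM hmax hH hHT
    (fun x hx => (hT x).2 ⟨((Cfsg.Agent.Lib.BrauerPairs.mem_pairStab_iff ha.1.2).1 hx).1,
      fun θ hθ θ' h => Cfsg.Agent.Lib.Elem69.HeightInertia.mem_block_of_stab ha.1.2 hH hbc hx hθ h⟩)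
    hχ
  rw [he, hd, hc, ← pow_add] at hmain
  have hlt : p ^ (c + Cfsg.blockHeight p B (χ : G → ℂ)) < p ^ (n + 1 + d) := by
    rw [pow_add p (n + 1)]
    exact hmain.trans_lt (Nat.mul_lt_mul_of_pos_right hn.2 (pow_pos (Fact.out : p.Prime).pos d))
  have := (Nat.pow_lt_pow_iff_right (Fact.out : p.Prime).one_lt).1 hlt
  omega

end Cfsg.Agent.S4715
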