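import Cfsg.Statements.S4718
import Cfsg.Agent.Lib.BrauerFeit.Orth
import Cfsg.Agent.Lib.BrauerFeit.RegGen
import Cfsg.Agent.Lib.BrauerFeit.Landau
import Mathlib

set_option autoImplicit false
universe u
open Cfsg

namespace Cfsg.Agent.S4718

/-- Let p be a prime and a a natural number. There is a bound N such that every finite group whose Sylow p-subgroups have order p^a and whose only p-block (relative to a maximal ideal of the algebraic integers containing p) is the principal block has order at most N. -/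
theorem result (p : ℕ) [Fact p.Prime] (a : ℕ) : ∃ N : ℕ, ∀ (G : Type u) [Group G] [Finite G] (M : Ideal Cfsg.AlgInt), Cfsg.IsPModular p M → (Nat.card G).factorization p = a → (∀ B : Set (Cfsg.IrrCharacter G), Cfsg.IsPBlock M B → B = Cfsg.principalBlock M G) → Nat.card G ≤ N := by
  obtain ⟨N, hN⟩ :=
    Cfsg.Agent.Lib.BrauerFeit.exists_bound_card_of_classNumber.{u} ((p ^ a) ^ 2 / 4 + 1)
  refine ⟨N, fun G _ _ M hM hA hone => hN G ?_⟩
  classical
  haveI := Fintype.ofFinite G
  haveI := Cfsg.Agent.Lib.Blocks.isPModular_isPrime hM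
  rw [← Cfsg.Agent.Lib.Chars.card_irrCharacter]
  have hB : Cfsg.IsPBlock M (Cfsg.principalBlock M G) :=
    Cfsg.Agent.Lib.Blocks.isPBlock_blockOf (Cfsg.Agent.Lib.Chars.trivialIrr G)
  have hall : ∀ χ : Cfsg.IrrCharacter G, χ ∈ Cfsg.principalBlock M G := fun χ => by
    rw [← hone _ (Cfsg.Agent.Lib.Blocks.isPBlock_blockOf χ)]
    exact Cfsg.Agent.Lib.Blocks.mem_blockOf_self χ
  refine le_trans (Nat.card_congr (Equiv.subtypeUnivEquiv hall).symm).le ?_
  refine le_trans (Cfsg.Agent.Lib.BrauerFeit.card_le hM (Cfsg.Agent.Lib.BrauerFeit.regOrth hM)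
    (Cfsg.Agent.Lib.BrauerFeit.regGen p) hB) ?_
  gcongr
  · exact (Fact.out : p.Prime).one_le
  · rw [← hA]
    exact Nat.sub_le _ _

end Cfsg.Agent.S4718
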