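import Cfsg.Statements.S4720
import Cfsg.Agent.Lib.Blocks.PrincipalInner
import Mathlib

set_option autoImplicit false
open Cfsg Cfsg.Agent

namespace Cfsg.Agent.S4720

/-- Let p be a prime, M a maximal ideal of the algebraic integers containing p, P a p-subgroup of the finite group G, N a subgroup with P ≤ N ≤ N_G(P), and U a nonempty subset of P normalized by N such that an element of U and an element of P that are conjugate in G are already conjugate in N, and such that λ(C_G(y)) = w·#C_N(y) for every y ∈ U with one rational number w, where λ(X) denotes the sum of the squares of the degrees of the irreducible characters in the principal p-block of X. For a complex function θ on P and χ in the principal block of G put a_χ(θ) = #P⁻¹ Σ_{y ∈ P} χ(y) θ(y⁻¹). Then for generalized characters θ, η of P with θ vanishing outside U, Σ_χ a_χ(θ)·conj(a_χ(η)) = (w/#P²)·Σ_{y ∈ P} θ(y)·conj(Σ_{x ∈ N} η(x y x⁻¹)) (η extended by zero off P; the conjugates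 lie in P), the first sum over the principal p-block of G. -/
theorem result {G : Type*} [Group G] [Finite G] (p : ℕ) [Fact p.Prime] (M : Ideal Cfsg.AlgInt) (hM : Cfsg.IsPModular p M) (P : Subgroup G) (hP : IsPGroup p P) (N : Subgroup G) (hPN : P ≤ N) (hNN : N ≤ Subgroup.normalizer (P : Set G)) (U : Set G) (hUne : U.Nonempty) (hUP : U ⊆ (P : Set G)) (hUN : ∀ n ∈ N, ∀ u ∈ U, n * u * n⁻¹ ∈ U) (hfus : ∀ u ∈ U, ∀ g : G, g * u * g⁻¹ ∈ (P : Set G) → ∃ n ∈ N, n * u * n⁻¹ = g * u * g⁻¹) (w : ℚ) (hw : ∀ y ∈ U, ((∑ᶠ ψ ∈ Cfsg.principalBlock M ↥(Subgroup.centralizer ({y} : Set G)), Cfsg.charDegree (ψ : ↥(Subgroup.centralizer ({y} : Set G)) → ℂ) ^ 2) : ℚ) = w * Nat.card ↥(N ⊓ Subgroup.centralizer ({y} : Set G))) (θ η : ↥P → ℂ) (hθ : Cfsg.IsGeneralizedCharacter ↥P θ) (hη : Cfsg.IsGeneralizedCharacter ↥P η) (hθU : ∀ y : ↥P, (y : G) ∉ U → θ y = 0) : ∑ᶠ χ ∈ Cfsg.principalBlock M G, ((Nat.card ↥P : ℂ)⁻¹ * ∑ᶠ y : ↥P, (χ : G → ℂ) (y : G) * θ y⁻¹) * (starRingEnd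 ℂ) ((Nat.card ↥P : ℂ)⁻¹ * ∑ᶠ y : ↥P, (χ : G → ℂ) (y : G) * η y⁻¹) = ((w : ℂ) / ((Nat.card ↥P : ℂ) ^ 2)) * ∑ᶠ y : ↥P, θ y * (starRingEnd ℂ) (∑ᶠ x : ↥N, Cfsg.extendByZero P η ((x : G) * (y : G) * (x : G)⁻¹)) := by
  classical
  haveI := Lib.Blocks.isPModular_isPrime hM
  cases nonempty_fintype G
  haveI : Fintype ↥P := Fintype.ofFinite _
  haveI : Fintype ↥N := Fintype.ofFinite _
  refine (Lib.Blocks.PrincipalInner.sum_mult_mul_conj hM hP θ η).trans ?_
  simp only [finsum_eq_sum_of_fintype (α := ↥P), finsum_eq_sum_of_fintype (α := ↥N)]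
  rw [div_eq_mul_inv, ← inv_pow, mul_comm ((w : ℂ)), mul_assoc]
  congr 1
  rw [Finset.mul_sum]
  refine Finset.sum_congr rfl fun y _ => ?_
  by_cases hyU : (y : G) ∈ U
  swap
  · simp [hθU y hyU]
  rw [mul_left_comm]
  congr 1
  have hyp : ∃ k : ℕ, orderOf (y : G) = p ^ k := by
    obtain ⟨k, hk⟩ := IsPGroup.iff_orderOf.1 hP y
    exact ⟨k, by rw [Subgroup.orderOf_coe, hk]⟩
  set lam : ℕ := ∑ᶠ ψ ∈ Cfsg.principalBlock M ↥(Subgroup.centralizer ({(y : G)} : Set G)),
    Cfsg.charDegree (ψ : ↥(Subgroup.centralizer ({(y : G)} : Set G)) → ℂ) ^ 2 with hlamdef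
  have hlam : (lam : ℂ) = (w : ℂ) * Nat.card ↥(N ⊓ Subgroup.centralizer ({(y : G)} : Set G)) := by
    have h := congrArg (fun q : ℚ => (q : ℂ)) (hw y hyU)
    rw [hlamdef, finsum_mem_eq_toFinset_sum]
    rw [finsum_mem_eq_toFinset_sum] at h
    push_cast at h ⊢
    exact h
  have hS : ∀ z : ↥P, ∑ᶠ χ ∈ Cfsg.principalBlock M G,
      (χ : G → ℂ) (y : G)⁻¹ * starRingEnd ℂ ((χ : G → ℂ) (z : G)⁻¹) =
        if IsConj (y : G) (z : G) then (lam : ℂ) else 0 := by
    intro z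
    have hyi : ∃ k : ℕ, orderOf (y : G)⁻¹ = p ^ k := by rw [orderOf_inv]; exact hyp
    split_ifs with hc
    · obtain ⟨c, hcz⟩ := isConj_iff.1 hc
      have hz : ∀ χ : Cfsg.IrrCharacter G, (χ : G → ℂ) (z : G)⁻¹ = (χ : G → ℂ) (y : G)⁻¹ := by
        intro χ
        rw [← hcz, show (c * (y : G) * c⁻¹)⁻¹ = c * (y : G)⁻¹ * c⁻¹ by group,
          Lib.Chars.irr_isClassFunction χ]
      simp only [hz]
      refine (Lib.Blocks.PrincipalInner.sum_principal_sq hM hyi ?_).trans rfl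
      refine Subgroup.ext fun g => ?_
      simp only [Subgroup.mem_centralizer_singleton_iff]
      exact ⟨fun h => (show Commute g (y : G) from h).inv_right.eq,
        fun h => by simpa using (show Commute g (y : G)⁻¹ from h).inv_right.eq⟩
    · refine Lib.Blocks.PrincipalInner.sum_principal_conj_eq_zero hM hyi ?_ fun h => hc ?_
      · obtain ⟨k, hk⟩ := IsPGroup.iff_orderOf.1 hP z
        exact ⟨k, by rw [orderOf_inv, Subgroup.orderOf_coe, hk]⟩
      · obtain ⟨c, hcz⟩ := isConj_iff.1 h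
        refine isConj_iff.2 ⟨c, inv_injective ?_⟩
        rw [← hcz]
        group
  simp only [hS, map_sum, Finset.mul_sum]
  have hnorm : ∀ x : ↥N, (x : G) * (y : G) * (x : G)⁻¹ ∈ P := fun x => hUP (hUN x x.2 y hyU)
  rw [← Finset.sum_fiberwise (Finset.univ : Finset ↥N)
    (fun x : ↥N => (⟨_, hnorm x⟩ : ↥P))]
  refine Finset.sum_congr rfl fun z _ => ?_
  refine Eq.trans ?_ (Finset.sum_congr rfl (g := fun _ => (w : ℂ) * starRingEnd ℂ (η z))
    (fun (x : ↥N) hx => by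
      rw [← (Finset.mem_filter.1 hx).2]
      exact congrArg (fun t => (w : ℂ) * starRingEnd ℂ t)
        (Subtype.val_injective.extend_apply η 0 (⟨_, hnorm x⟩ : ↥P)))).symm
  rw [Finset.sum_const, nsmul_eq_mul]
  by_cases hc : IsConj (y : G) (z : G)
  · obtain ⟨g, hg⟩ := isConj_iff.1 hc
    obtain ⟨n₀, hn₀, hn⟩ := hfus y hyU g (by rw [hg]; exact z.2)
    rw [hg] at hn
    rw [if_pos hc, hlam, ← Fintype.card_subtype, ← Nat.card_eq_fintype_card]
    rw [Nat.card_congr (α := {x : ↥N // (⟨_, hnorm x⟩ : ↥P) = z})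
      (β := ↥(N ⊓ Subgroup.centralizer ({(y : G)} : Set G)))
      { toFun := fun x => ⟨n₀⁻¹ * x.1, N.mul_mem (N.inv_mem hn₀) x.1.2,
          Subgroup.mem_centralizer_singleton_iff.2 (by
            have h1 : (x.1 : G) * (y : G) * (x.1 : G)⁻¹ = (z : G) := congrArg Subtype.val x.2
            have h2 : (x.1 : G) * (y : G) = (z : G) * (x.1 : G) := by rw [← h1]; group
            calc n₀⁻¹ * (x.1 : G) * (y : G) = n₀⁻¹ * ((z : G) * (x.1 : G)) := by
                  rw [mul_assoc, h2]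
              _ = (y : G) * (n₀⁻¹ * (x.1 : G)) := by rw [← hn]; group)⟩
        invFun := fun c => ⟨⟨n₀ * c, N.mul_mem hn₀ c.2.1⟩, Subtype.ext (by
            have h1 := Subgroup.mem_centralizer_singleton_iff.1 c.2.2
            show n₀ * (c : G) * (y : G) * (n₀ * (c : G))⁻¹ = (z : G)
            rw [mul_assoc n₀, h1, ← hn]
            group)⟩
        left_inv := fun x => Subtype.ext (Subtype.ext (by simp))
        right_inv := fun c => Subtype.ext (by simp) }]
    ring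
  · rw [if_neg hc, mul_zero, Finset.card_eq_zero.2, Nat.cast_zero, zero_mul]
    refine Finset.filter_eq_empty_iff.2 fun {x} _ hxz => hc (isConj_iff.2 ⟨x, ?_⟩)
    exact congrArg Subtype.val hxz

end Cfsg.Agent.S4720
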