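import Cfsg.Statements.S4721
import Cfsg.Agent.Lib.Blocks.FrobeniusSylow.ThreeInvolution

set_option autoImplicit false
open Cfsg

namespace Cfsg.Agent.S4721

open Cfsg.Agent.Lib Cfsg.Agent.Lib.Blocks Cfsg.Agent.Lib.Blocks.FrobeniusSylow

/-- Let p be a prime, M a maximal ideal of the algebraic integers containing p, and G a finite group with a nontrivial abelian Sylow p-subgroup P, N = N_G(P), C = C_G(P), such that N/C is cyclic of order 3, #P > 4, and C_G(y) ∩ N = C for every non-identity y ∈ P. Then the principal p-block is the disjoint union of a set X of exactly 3 characters containing the principal character and a set Y of (#P − 1)/3 characters, with signs a_χ = ±1 (χ ∈ X, a = 1 at the principal character) and δ = ±1 such that every χ ∈ X takes the value a_χ at every element whose p-part is a non-identity element of P, and there is a map ζ from the non-principal linear characters of P onto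 Y, constant on N-conjugacy classes, with ζ_ψ(z) = δ·Σ ψ'(y) over the N-orbit of ψ, for z with p-part y ≠ 1 in P. If moreover G has an involution lying in no proper normal subgroup of G, then exactly two of the three numbers −δ and a_χ (χ ∈ X non-principal) equal −1, and the product of the degrees of the two non-principal members of X and of any member of Y is a perfect square. -/
theorem result {G : Type*} [Group G] [Finite G] (p : ℕ) [Fact p.Prime] (M : Ideal Cfsg.AlgInt) (hM : Cfsg.IsPModular p M) (P : Sylow p G) (hab : IsMulCommutative P) (hP1 : Nat.card P ≠ 1) (hCN : (Subgroup.centralizer ((P : Subgroup G) : Set G)).relIndex (Subgroup.normalizer ((P : Subgroup G) : Set G)) = 3) (hcyc : ∃ g : G, g ∈ Subgroup.normalizer ((P : Subgroup G) : Set G) ∧ Subgroup.centralizer ((P : Subgroup G) : Set G) ⊔ Subgroup.zpowers g = Subgroup.normalizer ((P : Subgroup G) : Set G)) (hm2 : 3 + 1 < Nat.card P)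 (hfrob : ∀ y : G, y ∈ (P : Subgroup G) → y ≠ 1 → Subgroup.centralizer ({y} : Set G) ⊓ Subgroup.normalizer ((P : Subgroup G) : Set G) = Subgroup.centralizer ((P : Subgroup G) : Set G)) : ∃ (X Y : Set (Cfsg.IrrCharacter G)), Cfsg.principalBlock M G = X ∪ Y ∧ Disjoint X Y ∧ Nat.card X = 3 ∧ Nat.card Y = (Nat.card P - 1) / 3 ∧ (∃ χ₁ ∈ X, (χ₁ : G → ℂ) = fun _ => 1) ∧ ∃ (a : Cfsg.IrrCharacter G → ℤ) (δ : ℤ) (ζ : (↥(P : Subgroup G) →* ℂˣ) → Cfsg.IrrCharacter G), (δ = 1 ∨ δ = -1) ∧ (∀ χ ∈ X, (a χ = 1 ∨ a χ = -1) ∧ ∀ z y : G, Cfsg.IsPPart p z y → y ∈ (P : Subgroup G) → y ≠ 1 → (χ : G → ℂ) z = (a χ : ℂ)) ∧ (∀ ψ : ↥(P : Subgroup G) →* ℂˣ, ψ ≠ 1 → ζ ψ ∈ Y) ∧ (∀ η ∈ Y, ∃ ψ : ↥(P : Subgroup G) →* ℂˣ, ψ ≠ 1 ∧ ζ ψ = η) ∧ (∀ ψ ψ' : ↥(P : Subgroup G) →* ℂˣ, ψ ≠ 1 → (∃ n : G, n ∈ Subgroup.normalizer ((P : Subgroup G) : Set G) ∧ ∀ w w' : ↥(P : Subgroup G), (w' : G) = n * w * n⁻¹ → ψ' w' = ψ w) → ζ ψ' = ζ ψ) ∧ (∀ ψ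 : ↥(P : Subgroup G) →* ℂˣ, ψ ≠ 1 → ∀ (z : G) (y : ↥(P : Subgroup G)), Cfsg.IsPPart p z (y : G) → (y : G) ≠ 1 → (ζ ψ : G → ℂ) z = (δ : ℂ) * ∑ᶠ ψ' ∈ {ψ' : ↥(P : Subgroup G) →* ℂˣ | ∃ n : G, n ∈ Subgroup.normalizer ((P : Subgroup G) : Set G) ∧ ∀ w w' : ↥(P : Subgroup G), (w' : G) = n * w * n⁻¹ → ψ' w' = ψ w}, ((ψ' y : ℂˣ) : ℂ)) ∧ ((∃ t : G, orderOf t = 2 ∧ ∀ K : Subgroup G, K.Normal → t ∈ K → K = ⊤) → Nat.card {χ : Cfsg.IrrCharacter G // χ ∈ X ∧ (χ : G → ℂ) ≠ (fun _ => 1) ∧ a χ = -1} + (if δ = 1 then 1 else 0) = 2 ∧ ∀ η ∈ Y, IsSquare (Cfsg.charDegree (η : G → ℂ) * ∏ᶠ χ ∈ {χ : Cfsg.IrrCharacter G | χ ∈ X ∧ (χ : G → ℂ) ≠ fun _ => 1}, Cfsg.charDegree (χ : G → ℂ))) := by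
  classical
  have := Blocks.isPModular_isPrime hM
  have h : Data P 3 := ⟨fun a ha b hb => congrArg Subtype.val (hab.is_comm.comm ⟨a, ha⟩ ⟨b, hb⟩), hCN, hfrob⟩
  let : Fintype G := Fintype.ofFinite _
  let : Fintype (autP P) := Fintype.ofFinite _
  let : Fintype (↥(P : Subgroup G) →* ℂˣ) := Fintype.ofFinite _
  obtain ⟨X, Y, a, δ, ζ, hδ, hcongr, hYmem, hYex, hB, hXY, ⟨htX, hta⟩, hXc, hX, hζ, hcard, hdec⟩ :=
    exists_shape_three hM h hm2
  have htriv : ∀ χ : IrrCharacter G, (χ : G → ℂ) ≠ (fun _ => 1) ↔ χ ≠ Chars.trivialIrr G := fun χ =>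
    ⟨fun hne e => hne (by rw [e]; rfl), fun hne e => hne (Subtype.ext e)⟩
  refine ⟨(X : Set (IrrCharacter G)), (Y : Set (IrrCharacter G)), ?_, Finset.disjoint_coe.2 hXY,
    by simp [hXc], ?_, ⟨_, htX, rfl⟩, a, δ, ζ, hδ, fun χ hχ => ⟨(hX χ hχ).1, fun z y hzy hy hy1 => ?_⟩,
    hYmem, hYex, fun ψ ψ' _ hR => hcongr ψ ψ' ((sameOrbit_iff ψ ψ').1 hR),
    fun ψ hψ z y hzy hy1 => ?_, ?_⟩
  · ext χ
    exact hB χ
  · rw [show (Nat.card P - 1) / 3 = Y.card by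
      rw [show Nat.card P = Y.card * 3 + 1 from hcard.symm]; omega]
    simp
  · rw [apply_of_isPPart hM h hzy hy1 ((hB χ).2 (Or.inl hχ))]
    exact (hX χ hχ).2 ⟨y, hy⟩ fun e => hy1 (congrArg Subtype.val e)
  · rw [apply_of_isPPart hM h hzy hy1 ((hB _).2 (Or.inr (hYmem ψ hψ))),
      hζ ψ hψ y fun e => hy1 (congrArg Subtype.val e), finsum_orbit h hψ y]
  · rintro ⟨t, ht, hgen⟩
    obtain ⟨hcount, hsq⟩ := involution_signs hM h hm2 hδ hYex hXY hYmem htX hta hXc hX hζ hcard hdec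
      ht hgen
    have hset : {χ : Cfsg.IrrCharacter G | χ ∈ (X : Set (IrrCharacter G)) ∧ (χ : G → ℂ) ≠ fun _ => 1} =
        ((X.erase (Chars.trivialIrr G) : Finset _) : Set (IrrCharacter G)) := by
      ext χ
      simp only [Set.mem_ofPred_eq, Finset.mem_coe, Finset.mem_erase, htriv χ]
      exact and_comm
    refine ⟨?_, fun η hη => ?_⟩
    · rw [show Nat.card {χ : Cfsg.IrrCharacter G //
          χ ∈ (X : Set (IrrCharacter G)) ∧ (χ : G → ℂ) ≠ (fun _ => 1) ∧ a χ = -1} =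
          ((X.erase (Chars.trivialIrr G)).filter fun χ => a χ = -1).card from ?_]
      · exact hcount
      · rw [Nat.card_eq_fintype_card, Fintype.card_subtype]
        congr 1
        ext χ
        simp only [Finset.mem_filter, Finset.mem_univ, true_and, Finset.mem_coe, Finset.mem_erase,
          htriv χ]
        exact ⟨fun ⟨p1, p2, p3⟩ => ⟨⟨p2, p1⟩, p3⟩, fun ⟨⟨p2, p1⟩, p3⟩ => ⟨p1, p2, p3⟩⟩
    · rw [hset, finprod_mem_coe_finset]
      exact hsq η hη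

end Cfsg.Agent.S4721
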