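import Cfsg.Statements.S4723
import Cfsg.Agent.Lib.Blocks.StableCharacter
import Cfsg.Agent.Lib.BrauerMap.BlockConj
import Mathlib

set_option autoImplicit false
open Cfsg

namespace Cfsg.Agent.S4723

/-- Let p be a prime, M a maximal ideal of the algebraic integers containing p, H a normal subgroup of the finite group G and b a p-block of H. Let T be the stabilizer of b in G. Then b contains a character θ of height zero whose own stabilizer in G (the elements g with θ(g h g⁻¹) = θ(h) for all h ∈ H) has index prime to p in T, i.e. contains a Sylow p-subgroup of T. -/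
theorem result {G : Type*} [Group G] [Finite G] (p : ℕ) [Fact p.Prime] (M : Ideal Cfsg.AlgInt) (hM : Cfsg.IsPModular p M) (H : Subgroup G) [H.Normal] (b : Set (Cfsg.IrrCharacter ↥H)) (hb : Cfsg.IsPBlock M b) (T : Subgroup G) (hT : (∀ g : G, g ∈ T ↔ ∀ θ ∈ b, ∀ θ' : Cfsg.IrrCharacter ↥H, (∀ h h' : ↥H, (h' : G) = g * h * g⁻¹ → (θ' : ↥H → ℂ) h' = (θ : ↥H → ℂ) h) → θ' ∈ b)) : ∃ θ ∈ b, Cfsg.blockHeight p b (θ : ↥H → ℂ) = 0 ∧ ∃ S : Subgroup G, S ≤ T ∧ (∀ g : G, g ∈ S ↔ (g ∈ T ∧ ∀ h h' : ↥H, (h' : G) = g * h * g⁻¹ → (θ : ↥H → ℂ) h' = (θ : ↥H → ℂ) h)) ∧ ¬ p ∣ S.relIndex T := by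
  classical
  haveI := Cfsg.Agent.Lib.Blocks.isPModular_isPrime hM
  haveI := Fintype.ofFinite G
  have hHT : H ≤ T := by
    intro g hg
    rw [hT]
    intro θ hθ θ' h
    have e : θ' = θ := Subtype.ext (funext fun k => by
      have h1 := h (⟨g, hg⟩⁻¹ * k * ⟨g, hg⟩) k (by simp [mul_assoc])
      rw [h1]
      have h2 := Cfsg.Agent.Lib.Chars.irr_isClassFunction θ k (⟨g, hg⟩⁻¹)
      rwa [inv_inv] at h2)
    exact e ▸ hθ
  haveI := Fintype.ofFinite T
  haveI := Fintype.ofFinite (H.subgroupOf T)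
  let e : H.subgroupOf T ≃* H := Subgroup.subgroupOfEquivOfLe hHT
  let σ := Cfsg.Agent.Lib.Chars.irrCongr e
  have hconj : ∀ (g : T) (θ θ' : Cfsg.IrrCharacter H),
      ((σ θ' : H.subgroupOf T → ℂ) = Cfsg.Agent.Lib.Clifford.conjFun g (σ θ : H.subgroupOf T → ℂ)) ↔
        ∀ h h' : H, (h' : G) = ((g : G)⁻¹) * h * ((g : G)⁻¹)⁻¹ →
          (θ' : H → ℂ) h' = (θ : H → ℂ) h := by
    intro g θ θ'
    constructor
    · intro he h h' hh
      have h1 := congrFun he (e.symm h')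
      simp only [σ, Cfsg.Agent.Lib.Clifford.conjFun, Cfsg.Agent.Lib.BrauerMap.irrCongr_apply,
        MulEquiv.apply_symm_apply] at h1
      rw [h1]
      refine congrArg _ (Subtype.ext ?_)
      show (g : G) * (h' : G) * (g : G)⁻¹ = h
      rw [hh]; group
    · intro he
      funext n
      simp only [σ, Cfsg.Agent.Lib.Clifford.conjFun, Cfsg.Agent.Lib.BrauerMap.irrCongr_apply]
      refine he _ _ ?_
      show ((n : T) : G) = (g : G)⁻¹ * ((g : G) * ((n : T) : G) * (g : G)⁻¹) * ((g : G)⁻¹)⁻¹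
      group
  have hbT : Cfsg.IsPBlock M (σ '' b) := Cfsg.Agent.Lib.BrauerMap.isPBlock_image_irrCongr e hb
  obtain ⟨η, ⟨θ, hθb, rfl⟩, hht, hidx⟩ :=
    Cfsg.Agent.Lib.Blocks.StableChar.exists_height_zero_stable (p := p) hM hbT (by
      rintro g _ ⟨θ, hθ, rfl⟩ φ hφ
      refine ⟨σ.symm φ, ?_, σ.apply_symm_apply φ⟩
      exact (hT _).1 (T.inv_mem g.2) θ hθ (σ.symm φ)
        ((hconj g θ (σ.symm φ)).1 (by rw [σ.apply_symm_apply]; exact hφ)))
  refine ⟨θ, hθb, ?_, (Cfsg.Agent.Lib.Blocks.StableChar.inertia (σ θ : H.subgroupOf T → ℂ)).map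
    T.subtype, Subgroup.map_subtype_le _, fun g => ?_, ?_⟩
  · have hdeg : ∀ φ : Cfsg.IrrCharacter H, Cfsg.charDegree (σ φ : H.subgroupOf T → ℂ) =
        Cfsg.charDegree (φ : H → ℂ) := fun φ => by
      simp [σ, Cfsg.charDegree]
    simpa [Cfsg.blockHeight, Set.image_image, hdeg] using hht
  · constructor
    · rintro ⟨k, hk, rfl⟩
      refine ⟨k.2, fun h h' hh => ?_⟩
      refine (hconj k⁻¹ θ θ).1 ?_ h h' (by simpa using hh)
      exact ((Cfsg.Agent.Lib.Blocks.StableChar.mem_inertia).1 (inv_mem hk)).symm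
    · rintro ⟨hg, hh⟩
      refine ⟨⟨g, hg⟩, ?_, rfl⟩
      rw [← inv_inv (⟨g, hg⟩ : T)]
      refine inv_mem (Cfsg.Agent.Lib.Blocks.StableChar.mem_inertia.2 ?_)
      exact ((hconj (⟨g, hg⟩⁻¹) θ θ).2 fun h h' e1 => hh h h' (by simpa using e1)).symm
  · rwa [Subgroup.relIndex, Subgroup.subgroupOf,
      Subgroup.comap_map_eq_self_of_injective T.subtype_injective]

end Cfsg.Agent.S4723
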