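import Cfsg.Statements.S4725
import Cfsg.Agent.Lib.BrauerFeit.RegularPart
import Cfsg.Agent.Lib.Chars.Induced
import Mathlib

set_option autoImplicit false
open Cfsg

namespace Cfsg.Agent.S4725

/-- Let p be a prime, M a maximal ideal of the algebraic integers containing p, H a subgroup of the finite group G, and b a p-block of H inducing the p-block B of G, with b and B of the same defect. Then for every height-zero ζ ∈ b there is a height-zero χ ∈ B whose multiplicity in the character induced from ζ is not divisible by p. -/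
theorem result {G : Type*} [Group G] [Fintype G] (p : ℕ) [Fact p.Prime] (M : Ideal Cfsg.AlgInt) (hM : Cfsg.IsPModular p M) (H : Subgroup G) (b : Set (Cfsg.IrrCharacter ↥H)) (B : Set (Cfsg.IrrCharacter G)) (hind : Cfsg.IsInducedBlock M H b B) (hdef : Cfsg.blockDefect p b = Cfsg.blockDefect p B) (ζ : Cfsg.IrrCharacter ↥H) (hζ : ζ ∈ b) (hζ0 : Cfsg.blockHeight p b (ζ : ↥H → ℂ) = 0) : ∃ χ ∈ B, Cfsg.blockHeight p B (χ : G → ℂ) = 0 ∧ ∃ a : ℕ, Cfsg.classInner (Cfsg.indFun H (ζ : ↥H → ℂ)) (χ : G → ℂ) = (a : ℂ) ∧ ¬ p ∣ a := by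
  classical
  haveI := Cfsg.Agent.Lib.Blocks.isPModular_isPrime hM
  have hp : p.Prime := hM.1
  obtain ⟨χ₀, hχ₀⟩ := Cfsg.Agent.Lib.Blocks.HeightZero.isPBlock_nonempty hind.2.1
  have hf : Cfsg.IsClassFunction G (Cfsg.blockCoeff B) :=
    fun g h => Cfsg.Agent.Lib.Blocks.blockCoeff_conj B g h
  have key := Cfsg.Agent.Lib.Blocks.HeightZero.eval_congr_induced hf
    (fun g => Cfsg.Agent.Lib.Blocks.memLocalRing_blockCoeff hind.2.1 g) hind hζ hχ₀
  have hone : ∑ g : G, Cfsg.blockCoeff B g * (χ₀ : G → ℂ) g / (χ₀ : G → ℂ) 1 = 1 := by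
    have h := Cfsg.Agent.Lib.Blocks.omega_idemC B χ₀
    rw [if_pos hχ₀, Cfsg.Agent.Lib.Blocks.omega_eq_sum] at h
    rw [← h]
    simp [Cfsg.Agent.Lib.Blocks.idemC, mul_div_assoc]
  rw [hone] at key
  -- multiplicities
  have hmul : ∀ χ : Cfsg.IrrCharacter G, ∃ a : ℕ,
      Cfsg.classInner (Cfsg.indFun H (ζ : ↥H → ℂ)) (χ : G → ℂ) = (a : ℂ) := fun χ =>
    Cfsg.Agent.Lib.Chars.isCharacter_classInner_nat
      (Cfsg.Agent.Lib.Chars.isCharacter_indFun _ (Cfsg.Agent.Lib.Chars.irr_isCharacter ζ))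
      (Cfsg.Agent.Lib.Chars.irr_isCharacter χ)
  choose a ha using hmul
  obtain ⟨hz, hz0⟩ := Cfsg.Agent.Lib.Blocks.HeightZero.charDegree_eq ζ
  set N : ℕ := ∑ χ ∈ B.toFinset, Cfsg.charDegree (χ : G → ℂ) * a χ with hN
  have hsum : (∑ h : H, Cfsg.blockCoeff B h * (ζ : H → ℂ) h / (ζ : H → ℂ) 1) =
      ((Nat.card H * N : ℕ) : ℂ) / ((Nat.card G * Cfsg.charDegree (ζ : H → ℂ) : ℕ) : ℂ) := by
    have hH : (Nat.card H : ℂ) ≠ 0 := Nat.cast_ne_zero.2 Nat.card_pos.ne'
    have hG : (Nat.card G : ℂ) ≠ 0 := Nat.cast_ne_zero.2 Nat.card_pos.ne'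
    have hterm : ∀ χ : Cfsg.IrrCharacter G,
        ∑ h : H, (ζ : H → ℂ) h * (starRingEnd ℂ) ((χ : G → ℂ) h) = (Nat.card H : ℂ) * (a χ : ℂ) := by
      intro χ
      rw [← ha χ, Cfsg.Agent.Lib.Chars.classInner_indFun_left H _ _
        (Cfsg.Agent.Lib.Chars.irr_isClassFunction χ), Cfsg.classInner]
      field_simp
    rw [← Finset.sum_div, Nat.cast_mul, Nat.cast_mul, hz, ← div_div]
    congr 1
    calc ∑ h : H, Cfsg.blockCoeff B h * (ζ : H → ℂ) h
        = ∑ h : H, ∑ χ ∈ B.toFinset, (Nat.card G : ℂ)⁻¹ *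
            ((χ : G → ℂ) 1 * ((ζ : H → ℂ) h * (starRingEnd ℂ) ((χ : G → ℂ) h))) := by
          refine Finset.sum_congr rfl fun h _ => ?_
          rw [Cfsg.blockCoeff, finsum_mem_eq_toFinset_sum, Finset.mul_sum, Finset.sum_mul]
          exact Finset.sum_congr rfl fun χ _ => by ring
      _ = ∑ χ ∈ B.toFinset, (Nat.card G : ℂ)⁻¹ * ((χ : G → ℂ) 1 * ((Nat.card H : ℂ) * a χ)) := by
          rw [Finset.sum_comm]
          refine Finset.sum_congr rfl fun χ _ => ?_
          rw [← Finset.mul_sum, ← Finset.mul_sum, hterm χ]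
      _ = _ := by
          rw [hN, Nat.cast_sum, Finset.mul_sum, Finset.sum_div]
          refine Finset.sum_congr rfl fun χ _ => ?_
          rw [Nat.cast_mul, (Cfsg.Agent.Lib.Blocks.HeightZero.charDegree_eq χ).1]
          field_simp
  rw [hsum] at key
  have hN0 : N ≠ 0 := by
    intro h0
    rw [h0, mul_zero, Nat.cast_zero, zero_div, zero_sub] at key
    exact Cfsg.Agent.Lib.Blocks.not_memLocalIdeal_one
      (by simpa using Cfsg.Agent.Lib.Blocks.memLocalIdeal_neg key)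
  have hden : Nat.card G * Cfsg.charDegree (ζ : H → ℂ) ≠ 0 := mul_ne_zero Nat.card_pos.ne' hz0
  have hv : (Nat.card H * N).factorization p ≤
      (Nat.card G * Cfsg.charDegree (ζ : H → ℂ)).factorization p := by
    by_contra hlt
    have h := Cfsg.Agent.Lib.Blocks.memLocalIdeal_natCast_div hM hden (not_le.1 hlt)
    exact Cfsg.Agent.Lib.Blocks.not_memLocalIdeal_one
      (by simpa using Cfsg.Agent.Lib.Blocks.memLocalIdeal_sub h key)
  rw [Nat.factorization_mul Nat.card_pos.ne' hN0, Nat.factorization_mul Nat.card_pos.ne' hz0,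
    Finsupp.add_apply, Finsupp.add_apply] at hv
  have hbz := Cfsg.Agent.Lib.BrauerFeit.factorization_add_defect (p := p) hζ
  rw [hζ0] at hbz
  have hex : ∃ χ ∈ B, ¬ p ^ (N.factorization p + 1) ∣ Cfsg.charDegree (χ : G → ℂ) * a χ := by
    by_contra hall
    push_neg at hall
    have : p ^ (N.factorization p + 1) ∣ N :=
      Finset.dvd_sum fun χ hχ => hall χ (Set.mem_toFinset.1 hχ)
    have := (hp.pow_dvd_iff_le_factorization hN0).1 this
    omega
  obtain ⟨χ, hχ, hnd⟩ := hex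
  have hc0 := (Cfsg.Agent.Lib.Blocks.HeightZero.charDegree_eq χ).2
  have hbχ := Cfsg.Agent.Lib.BrauerFeit.factorization_add_defect (p := p) hχ
  refine ⟨χ, hχ, ?_, a χ, ha χ, fun hpa => hnd ?_⟩
  · by_contra hh
    exact hnd (dvd_mul_of_dvd_left ((hp.pow_dvd_iff_le_factorization hc0).2 (by omega)) _)
  · have h1 : p ^ ((Cfsg.charDegree (χ : G → ℂ)).factorization p + 1) ∣
        Cfsg.charDegree (χ : G → ℂ) * a χ := by
      rw [pow_succ]
      exact mul_dvd_mul (Nat.ordProj_dvd _ p) hpa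
    exact (pow_dvd_pow p (by omega)).trans h1

end Cfsg.Agent.S4725
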