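import Cfsg.Statements.S4728
import Cfsg.Agent.Lib.BrauerPairs.KernelCore


set_option autoImplicit false
open Cfsg

namespace Cfsg.Agent.S4728

open Cfsg.Agent Cfsg.Agent.Lib.BrauerPairs.KernelCore


/-- Let p be a prime, π a set of primes containing p, M a maximal ideal of the algebraic integers containing p, B a p-block of the finite group G with defect group D, and B₁ the block of N_G(D) with defect group D inducing B. Let D₀ be a p-subgroup, H₀ = D₀·C_G(D₀), and b a block of H₀ inducing B. Write O_π'(X) for the largest normal subgroup of X whose order has no prime divisor in π. Suppose that O_π'(C_G(D₀)) is a normal Hall π'-subgroup of C_G(D₀) (it contains every element of C_G(D₀) whose order has no prime divisor in π) and that every element of it lies in the kernel of every member of b. Then every element of O_π'(N_G(D)) lies in the kernel of every member of B₁. -/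
theorem result {G : Type*} [Group G] [Finite G] (p : ℕ) [Fact p.Prime] (M : Ideal Cfsg.AlgInt) (hM : Cfsg.IsPModular p M) (π : Set ℕ) (hpπ : p ∈ π) (B : Set (Cfsg.IrrCharacter G)) (hB : Cfsg.IsPBlock M B) (D : Subgroup G) (hBD : Cfsg.IsDefectGroup p M B D) (B₁ : Set (Cfsg.IrrCharacter ↥(Subgroup.normalizer (D : Set G)))) (hB₁ : Cfsg.IsInducedBlock M (Subgroup.normalizer (D : Set G)) B₁ B) (hB₁D : Cfsg.IsDefectGroup p M B₁ (D.subgroupOf (Subgroup.normalizer (D : Set G)))) (D₀ : Subgroup G) (hD₀ : IsPGroup p D₀) (H₀ : Subgroup G) (hH₀ : H₀ = D₀ ⊔ Subgroup.centralizer (D₀ : Set G)) (b : Set (Cfsg.IrrCharacter ↥H₀)) (hb : Cfsg.IsInducedBlock M H₀ b B) (hcompl : ∀ x : ↥(Subgroup.centralizer (D₀ : Set G)), (∀ q : ℕ, q.Prime → q ∣ orderOf x → q ∉ π) → x ∈ Cfsg.piCore {q | q ∉ π} ↥(Subgroup.centralizer (D₀ : Set G))) (hkerb : ∀ x : ↥(Subgroup.centralizer (D₀ : Set G)), x ∈ Cfsg.piCore {q | q ∉ π} ↥(Subgroup.centralizer (D₀ : Set G))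 → ∀ θ ∈ b, ∀ h : ↥H₀, (h : G) = (x : G) → (θ : ↥H₀ → ℂ) h = (θ : ↥H₀ → ℂ) 1) : ∀ n : ↥(Subgroup.normalizer (D : Set G)), n ∈ Cfsg.piCore {q | q ∉ π} ↥(Subgroup.normalizer (D : Set G)) → n ∈ Cfsg.blockKer B₁ := by
  classical
  haveI := Lib.Blocks.isPModular_isPrime hM
  have hle₀ : D₀ ≤ H₀ := hH₀ ▸ le_sup_left
  have hC₀ : Subgroup.centralizer (D₀ : Set G) ≤ H₀ := hH₀ ▸ le_sup_right
  haveI hn₀ : (D₀.subgroupOf H₀).Normal :=
    (Subgroup.normal_subgroupOf_iff_le_normalizer hle₀).2 (hH₀ ▸ core_le_normalizer D₀)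
  have hQ₀ := Subgroup.map_subgroupOf_eq_of_le hle₀
  obtain ⟨e, he⟩ := exists_pair_at_normal hM hb.1 (P := D₀.subgroupOf H₀)
    (hD₀.of_equiv (Subgroup.subgroupOfEquivOfLe hle₀).symm)
  haveI : (coreAt π (D₀.subgroupOf H₀) : Subgroup H₀).Normal :=
    Subgroup.normalizer_eq_top_iff.1 (top_le_iff.1
      ((Subgroup.normalizer_eq_top (H := D₀.subgroupOf H₀)).ge.trans
        (normalizer_le_normalizer_coreAt _)))
  have hkerX : KerCore π (⟨D₀.subgroupOf H₀, e⟩ : Cfsg.BrauerPairIdx H₀) := by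
    rw [kerCore_iff_killsOn, killsOn_iff_blockKer hM he (coreAt π (D₀.subgroupOf H₀))
      (not_dvd_card_coreAt hM.1 hpπ _)]
    rintro θ hθ _ ⟨c, hc, rfl⟩
    refine hkerb ((centEquivSub hQ₀ hC₀).symm c) ?_ θ hθ (c : H₀) rfl
    rw [← Lib.PiCore.map_piCore_equiv (centEquivSub hQ₀ hC₀).symm]
    exact ⟨c, hc, rfl⟩
  have hpair := isBrauerPairOf_push hQ₀ hC₀ hM hb he
  obtain ⟨m, hm, hmle⟩ := Lib.BrauerPairs.exists_isMaximal_above hM hpair
  obtain ⟨-, hkm⟩ := kerCore_up hM hpπ hmle hcompl ((kerCore_push_iff hQ₀ hC₀).2 hkerX)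
  have hQ := Subgroup.map_subgroupOf_eq_of_le (Subgroup.le_normalizer (H := D))
  have hC := Subgroup.centralizer_le_normalizer (D : Set G)
  obtain ⟨e₁, he₁⟩ := exists_pair_at_defectGroup hM hB₁.1 hB₁D
  have hpair₁ := isBrauerPairOf_push hQ hC hM hB₁ he₁
  have hmax := isMaximal_of_defectGroup hM hpair₁ hBD
  obtain ⟨x, hx⟩ := Lib.BrauerPairs.exists_conj_pairLE_max hM hmax hm.1
  have heq := eq_of_pairLE_of_card hM hx (by
    rw [Lib.BrauerPairs.conjPair_fst, Lib.BrauerPairs.card_map_conj]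
    exact Lib.BrauerPairs.card_le_of_isMaximal hM hm hpair₁)
  have hk₁ := (kerCore_push_iff hQ hC).1 (heq ▸ kerCore_conj hkm x)
  intro n hn χ hχ
  exact (killsOn_iff_blockKer hM he₁ _ fun h => (Lib.PiCore.isPiNumber_piCore (π := {q | q ∉ π}) p hM.1 h) hpπ).1
    (killsOn_piCore_of_kerCore hk₁) χ hχ n hn

end Cfsg.Agent.S4728
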