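import Cfsg.Statements.S4729
import Cfsg.Agent.Lib.Chars.Integral
import Cfsg.Agent.Lib.Blocks.LocalRing
import Mathlib

set_option autoImplicit false
open Cfsg

namespace Cfsg.Agent.S4729

/-- Let p be a prime, M a maximal ideal of the algebraic integers containing p, G a finite perfect group and P a Sylow p-subgroup. If the principal p-block of G contains a faithful irreducible character of degree less than 2p, then the centralizer of P is a p-group. -/
theorem result {G : Type*} [Group G] [Finite G] (p : ℕ) [Fact p.Prime] (M : Ideal Cfsg.AlgInt) (hM : Cfsg.IsPModular p M) (hperf : commutator G = ⊤) (P : Sylow p G) (χ : Cfsg.IrrCharacter G) (hχ : χ ∈ Cfsg.principalBlock M G) (hfaith : ∀ g : G, (χ : G → ℂ) g = (χ : G → ℂ) 1 → g = 1) (hdeg : Cfsg.charDegree (χ : G → ℂ) < 2 * p) : IsPGroup p ↥(Subgroup.centralizer ((P : Subgroup G) : Set G)) := by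
  classical
  have := Fintype.ofFinite G
  have : M.IsPrime := Cfsg.Agent.Lib.Blocks.isPModular_isPrime hM
  have hp : p.Prime := Fact.out
  obtain ⟨d, ρ, hirr, hρ⟩ := χ.2
  have hdim : Cfsg.charDegree (χ : G → ℂ) = d := by
    rw [← hρ, Cfsg.charDegree, ρ.char_one, Complex.natCast_re, Nat.floor_natCast,
      Module.finrank_fin_fun]
  rw [hdim] at hdeg
  have h1 : (χ : G → ℂ) 1 = d := by rw [← hρ, ρ.char_one, Module.finrank_fin_fun]
  have hd0 : (d : ℂ) ≠ 0 := by rw [← h1]; exact Cfsg.Agent.Lib.Chars.irr_apply_one_ne_zero χ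
  -- values of χ at elements of C(P)
  have hval : ∀ y ∈ Subgroup.centralizer ((P : Subgroup G) : Set G),
      Cfsg.MemLocalIdeal M ((χ : G → ℂ) y - d) := by
    intro y hy
    have hle : (P : Subgroup G) ≤ Subgroup.centralizer ({y} : Set G) := fun z hz =>
      Subgroup.mem_centralizer_singleton_iff.2 (Subgroup.mem_centralizer_iff.1 hy z hz)
    have hk : ¬ p ∣ (Subgroup.centralizer ({y} : Set G)).index := fun h =>
      P.not_dvd_index (h.trans (Subgroup.index_dvd_of_le hle))
    have hne : ((Subgroup.centralizer ({y} : Set G)).index : ℂ) ≠ 0 :=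
      Nat.cast_ne_zero.2 Subgroup.index_ne_zero_of_finite
    have hω : Cfsg.MemLocalIdeal M (Cfsg.centralChar (fun _ : G => (1 : ℂ)) y -
        Cfsg.centralChar (χ : G → ℂ) y) := hχ y
    have := Cfsg.Agent.Lib.Blocks.memLocalIdeal_mul_left
      (Cfsg.Agent.Lib.Blocks.mem_localRing.1 (neg_mem (mul_mem
        (Cfsg.Agent.Lib.Blocks.inv_natCast_mem_localRing hM hk)
        (Cfsg.Agent.Lib.Blocks.natCast_mem_localRing d)))) hω
    convert this using 1
    unfold Cfsg.centralChar
    rw [h1]
    field_simp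
    ring
  -- the determinant is trivial
  have hdet : ∀ g : G, LinearMap.det (ρ g) = 1 := by
    let f : G →* ℂˣ := ((LinearMap.det (M := Fin d → ℂ) (A := ℂ)).comp ρ).toHomUnits
    intro g
    have hg : g ∈ f.ker := (Abelianization.commutator_subset_ker f) (hperf ▸ Subgroup.mem_top g)
    exact congrArg Units.val (MonoidHom.mem_ker.1 hg)
  intro ⟨x, hx⟩
  suffices hreg : ∀ y ∈ Subgroup.centralizer ((P : Subgroup G) : Set G), ¬ p ∣ orderOf y → y = 1 by
    obtain ⟨k, hk⟩ : ∃ k, p ^ (orderOf x).factorization p = k := ⟨_, rfl⟩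
    refine ⟨(orderOf x).factorization p, Subtype.ext ?_⟩
    refine hreg _ (Subgroup.pow_mem _ hx _) ?_
    rw [SubgroupClass.coe_pow, orderOf_pow_of_dvd (pow_ne_zero _ hp.ne_zero) (Nat.ordProj_dvd _ _)]
    exact Nat.not_dvd_ordCompl hp (orderOf_pos x).ne'
  intro y hy hyp
  obtain ⟨ι, _, bb, μ, hm, hb⟩ := Cfsg.Agent.Lib.Chars.exists_eigenbasis ρ y
  set m := orderOf y with hmdef
  have hm0 : m ≠ 0 := (orderOf_pos y).ne'
  have hcard : Fintype.card ι = d := by
    rw [← Module.finrank_eq_card_basis bb, Module.finrank_fin_fun]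
  have hpow : ∀ (j : ℕ) (i : ι), (ρ (y ^ j)) (bb i) = μ i ^ j • bb i := by
    intro j i
    induction j with
    | zero => simp
    | succ j ih => rw [pow_succ, map_mul, Module.End.mul_apply, hb i, map_smul, ih, smul_smul,
        pow_succ']
  have hchar : ∀ j : ℕ, (χ : G → ℂ) (y ^ j) = ∑ i, μ i ^ j := fun j => by
    rw [← hρ]
    exact Cfsg.Agent.Lib.Chars.trace_eq_sum_of_eigenbasis _ bb _ (hpow j)
  -- multiplicity of a nontrivial eigenvalue
  have hmult : ∀ i₀, μ i₀ ≠ 1 → p ∣ (Finset.univ.filter fun i => μ i = μ i₀).card := by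
    intro i₀ hi₀
    have hz0 : μ i₀ ≠ 0 := fun h => by
      have := hm i₀
      rw [h, zero_pow hm0] at this
      exact zero_ne_one this
    have hgeom : ∀ w : ℂ, w ^ m = 1 → (∑ j ∈ Finset.range m, w ^ j) = if w = 1 then (m : ℂ) else 0 := by
      intro w hw
      split_ifs with h
      · simp [h]
      · rw [geom_sum_eq h, hw, sub_self, zero_div]
    have hinvint : IsIntegral ℤ (μ i₀)⁻¹ :=
      IsIntegral.of_pow (Nat.pos_of_ne_zero hm0) (by rw [inv_pow, hm i₀, inv_one]; exact isIntegral_one)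
    have hI : Cfsg.MemLocalIdeal M (∑ j ∈ Finset.range m, (μ i₀)⁻¹ ^ j * ((∑ i, μ i ^ j) - d)) :=
      Cfsg.Agent.Lib.Blocks.memLocalIdeal_sum _ _ fun j _ =>
        Cfsg.Agent.Lib.Blocks.memLocalIdeal_mul_left
          (Cfsg.Agent.Lib.Blocks.mem_localRing.1
            (Cfsg.Agent.Lib.Blocks.isIntegral_mem_localRing (hinvint.pow j)))
          (by rw [← hchar j]; exact hval _ (Subgroup.pow_mem _ hy j))
    have heq : (∑ j ∈ Finset.range m, (μ i₀)⁻¹ ^ j * ((∑ i, μ i ^ j) - d)) =
        ((m * (Finset.univ.filter fun i => μ i = μ i₀).card : ℕ) : ℂ) := by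
      simp only [mul_sub, Finset.mul_sum, ← mul_pow, Finset.sum_sub_distrib, ← Finset.sum_mul]
      rw [Finset.sum_comm, hgeom _ (by rw [inv_pow, hm i₀, inv_one]),
        if_neg (fun h => hi₀ (inv_eq_one.1 h)), zero_mul, sub_zero,
        Finset.sum_congr rfl fun i _ => hgeom ((μ i₀)⁻¹ * μ i) (by
          rw [mul_pow, inv_pow, hm i₀, hm i, inv_one, one_mul])]
      simp only [inv_mul_eq_one₀ hz0, eq_comm (a := μ i₀)]
      rw [← Finset.sum_filter, Finset.sum_const, nsmul_eq_mul]
      push_cast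
      ring
    rw [heq, Cfsg.Agent.Lib.Blocks.memLocalIdeal_natCast_iff hM] at hI
    exact (hp.dvd_mul.1 hI).resolve_left hyp
  have hall : ∀ i, μ i = 1 := by
    by_contra hcon
    push Not at hcon
    obtain ⟨i₀, hi₀⟩ := hcon
    set S := Finset.univ.filter fun i => μ i = μ i₀ with hS
    have hSpos : 0 < S.card := Finset.card_pos.2 ⟨i₀, by simp [hS]⟩
    have hSle : S.card ≤ d := hcard ▸ Finset.card_le_univ S
    have hSp : S.card = p := by
      obtain ⟨k, hk⟩ := hmult i₀ hi₀
      rw [← hS] at hk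
      rcases k with _ | _ | k
      · simp [hk] at hSpos
      · simpa using hk
      · exfalso
        have : p * 2 ≤ S.card := by rw [hk]; exact Nat.mul_le_mul_left p (by omega)
        omega
    have hrest : ∀ i, i ∉ S → μ i = 1 := by
      intro i hi
      by_contra h1i
      obtain ⟨k, hk⟩ := hmult i h1i
      set T := Finset.univ.filter fun j => μ j = μ i with hT
      have hdisj : Disjoint S T := by
        refine Finset.disjoint_left.2 fun j hj hj' => hi ?_
        rw [hS, Finset.mem_filter] at hj ⊢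
        rw [hT, Finset.mem_filter] at hj'
        exact ⟨Finset.mem_univ _, by rw [← hj'.2, hj.2]⟩
      have hTpos : 0 < T.card := Finset.card_pos.2 ⟨i, by simp [hT]⟩
      have hle : (S ∪ T).card ≤ d := hcard ▸ Finset.card_le_univ _
      rw [Finset.card_union_of_disjoint hdisj] at hle
      have : p ≤ T.card := Nat.le_of_dvd hTpos ⟨k, hk⟩
      omega
    have hprod : ∏ i, μ i = 1 := by
      rw [← hdet y]
      symm
      rw [← LinearMap.det_toMatrix bb, show LinearMap.toMatrix bb bb (ρ y) = Matrix.diagonal μ from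
        Matrix.ext fun i j => by
          rw [LinearMap.toMatrix_apply, hb j, map_smul, bb.repr_self]
          by_cases hij : i = j
          · subst hij; simp
          · simp [hij, Ne.symm hij], Matrix.det_diagonal]
    have hprod2 : ∏ i, μ i = μ i₀ ^ p := by
      rw [← Finset.prod_filter_mul_prod_filter_not Finset.univ (fun i => μ i = μ i₀), ← hS,
        Finset.prod_congr rfl (g := fun _ => μ i₀) (fun i hi => (Finset.mem_filter.1 hi).2),
        Finset.prod_const, hSp, Finset.prod_eq_one (fun i hi => hrest i (fun h => by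
          rw [hS, Finset.mem_filter] at h
          exact (Finset.mem_filter.1 hi).2 h.2)), mul_one]
    have h1 : μ i₀ ^ p = 1 := hprod2.symm.trans hprod
    have h2 := pow_gcd_eq_one.2 ⟨h1, hm i₀⟩
    rw [(hp.coprime_iff_not_dvd.2 hyp).gcd_eq_one, pow_one] at h2
    exact hi₀ h2
  refine hfaith y ?_
  rw [h1, ← pow_one y, hchar 1]
  simp [hall, hcard]

end Cfsg.Agent.S4729
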