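import Cfsg.Statements.S4730
import Cfsg.Agent.Lib.CharCount.DefectZero
import Cfsg.Agent.Lib.Burnside.Core
import Cfsg.Agent.Lib.Blocks.Idempotent
import Mathlib

set_option autoImplicit false
open Cfsg

namespace Cfsg.Agent.S4730

/-- Let p be a prime, M a maximal ideal of the algebraic integers containing p, and G a finite group with trivial centre, Sylow p-subgroup P of order p^a and centre Z(P) of order p^b. If χ is a faithful irreducible character of G whose degree is a power of p, then the p-block of χ has defect at most a − b; in particular, if P is abelian then χ lies in a block of defect zero. -/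
theorem result {G : Type*} [Group G] [Finite G] (p : ℕ) [Fact p.Prime] (M : Ideal Cfsg.AlgInt) (hM : Cfsg.IsPModular p M) (hZ : Subgroup.center G = ⊥) (P : Sylow p G) (a b : ℕ) (ha : Nat.card P = p ^ a) (hb : Nat.card (Subgroup.center ↥(P : Subgroup G)) = p ^ b) (χ : Cfsg.IrrCharacter G) (hfaith : ∀ g : G, (χ : G → ℂ) g = (χ : G → ℂ) 1 → g = 1) (n : ℕ) (hdeg : Cfsg.charDegree (χ : G → ℂ) = p ^ n) : Cfsg.blockDefect p (Cfsg.blockOf M (χ : G → ℂ)) ≤ a - b ∧ (IsMulCommutative ↥(P : Subgroup G) → Cfsg.blockDefect p (Cfsg.blockOf M (χ : G → ℂ)) = 0) := by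
  classical
  have := Fintype.ofFinite G
  have : M.IsPrime := Cfsg.Agent.Lib.Blocks.isPModular_isPrime hM
  have hp : p.Prime := Fact.out
  set Z := (Subgroup.center ↥(P : Subgroup G)).map (P : Subgroup G).subtype with hZdef
  have hZcard : Nat.card Z = p ^ b := by
    rw [← hb]
    exact (Nat.card_congr (Subgroup.equivMapOfInjective _ _ (Subgroup.subtype_injective _)).toEquiv).symm
  have hA : (Nat.card G).factorization p = a := by
    have h := P.card_eq_multiplicity
    rw [ha] at h
    exact (Nat.pow_right_injective hp.two_le h).symm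
  have hidx : ∀ x ∈ Z, ¬ p ∣ (Subgroup.centralizer ({x} : Set G)).index := by
    rintro x ⟨w, hw, rfl⟩ hdvd
    have hle : (P : Subgroup G) ≤ Subgroup.centralizer ({(w : G)} : Set G) := fun y hy =>
      Subgroup.mem_centralizer_singleton_iff.2
        (congrArg Subtype.val (Subgroup.mem_center_iff.1 hw ⟨y, hy⟩))
    exact P.not_dvd_index (hdvd.trans (Subgroup.index_dvd_of_le hle))
  have hvan : ∀ x ∈ Z, x ≠ 1 → (χ : G → ℂ) x = 0 := by
    intro x hx hx1
    obtain ⟨d, ρ, hirr, hρ⟩ := χ.2
    have hd : Module.finrank ℂ (Fin d → ℂ) = p ^ n := by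
      rw [← hdeg, ← hρ, Cfsg.charDegree, ρ.char_one, Complex.natCast_re, Nat.floor_natCast]
    have hcop : (Nat.card {y : G // IsConj x y}).Coprime (Module.finrank ℂ (Fin d → ℂ)) := by
      rw [hd, Cfsg.Agent.Lib.Chars.card_conjClass_eq_index]
      exact Nat.Coprime.pow_right n (hp.coprime_iff_not_dvd.2 (hidx x hx)).symm
    rcases @Cfsg.Agent.Lib.Burnside.char_eq_zero_or_scalar _ _ _ _ _ _ _ ρ hirr x hcop with h | ⟨c, hc⟩
    · rw [← hρ]; exact h
    · exfalso
      apply hx1
      rw [← Subgroup.mem_bot, ← hZ, Subgroup.mem_center_iff]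
      intro g
      have h2 : ρ ((g * x) * (x * g)⁻¹) = 1 := by
        have hgx : ρ (g * x) = ρ (x * g) := by
          rw [map_mul, map_mul, hc, mul_smul_comm, smul_mul_assoc, mul_one, one_mul]
        rw [map_mul, hgx, ← map_mul, mul_inv_cancel, map_one]
      exact mul_inv_eq_one.1 (hfaith _ (by
        rw [← hρ]
        show LinearMap.trace ℂ _ (ρ _) = LinearMap.trace ℂ _ (ρ 1)
        rw [h2, MonoidHom.map_one ρ]))
  have key : ∀ ψ ∈ Cfsg.blockOf M (χ : G → ℂ), b ≤ (Cfsg.charDegree (ψ : G → ℂ)).factorization p := by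
    intro ψ hψ
    by_contra hlt
    obtain ⟨hd1, hd0⟩ : ((Cfsg.charDegree (ψ : G → ℂ) : ℕ) : ℂ) = (ψ : G → ℂ) 1 ∧
        Cfsg.charDegree (ψ : G → ℂ) ≠ 0 := by
      obtain ⟨k, hk, he⟩ := Cfsg.Agent.Lib.Chars.isIrrCharacter_exists_degree_pos ψ.2
      have : Cfsg.charDegree (ψ : G → ℂ) = k := by simp [Cfsg.charDegree, he]
      exact ⟨by rw [this, he], by omega⟩
    have : Fintype Z := Fintype.ofFinite _
    obtain ⟨m, hm⟩ := Cfsg.Agent.Lib.CharCount.exists_nat_sum_subgroup ψ Z
    have hsum : Cfsg.MemLocalIdeal M (∑ y : Z, (ψ : G → ℂ) y / (ψ : G → ℂ) 1 - 1) := by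
      rw [← Finset.sum_erase_add _ _ (Finset.mem_univ (1 : Z)), OneMemClass.coe_one,
        div_self (Cfsg.Agent.Lib.Chars.irr_apply_one_ne_zero ψ), add_sub_cancel_right]
      refine Cfsg.Agent.Lib.Blocks.memLocalIdeal_sum _ _ fun y hy => ?_
      have hy1 : (y : G) ≠ 1 := fun h => (Finset.ne_of_mem_erase hy) (Subtype.ext h)
      have hω : Cfsg.MemLocalIdeal M (Cfsg.centralChar (ψ : G → ℂ) y) := by
        have h := Cfsg.Agent.Lib.Blocks.memLocalIdeal_neg (hψ (y : G))
        have h0 : Cfsg.centralChar (χ : G → ℂ) (y : G) = 0 := by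
          simp [Cfsg.centralChar, hvan y y.2 hy1]
        rw [h0, zero_sub, neg_neg] at h
        exact h
      have hk := hidx y y.2
      have hne : ((Subgroup.centralizer ({(y : G)} : Set G)).index : ℂ) ≠ 0 :=
        Nat.cast_ne_zero.2 Subgroup.index_ne_zero_of_finite
      have := Cfsg.Agent.Lib.Blocks.memLocalIdeal_mul_left
        (Cfsg.Agent.Lib.Blocks.mem_localRing.1 (Cfsg.Agent.Lib.Blocks.inv_natCast_mem_localRing hM hk)) hω
      convert this using 1
      unfold Cfsg.centralChar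
      field_simp
    have hbad : Cfsg.MemLocalIdeal M (∑ y : Z, (ψ : G → ℂ) y / (ψ : G → ℂ) 1) := by
      rw [← Finset.sum_div, hm, ← hd1, hZcard]
      rcases Nat.eq_zero_or_pos m with h0 | h0
      · subst h0
        simp only [Nat.cast_zero, mul_zero, zero_div]
        exact Cfsg.Agent.Lib.Blocks.memLocalIdeal_zero
      · rw [← Nat.cast_mul]
        refine Cfsg.Agent.Lib.Blocks.memLocalIdeal_natCast_div hM hd0 ?_
        rw [Nat.factorization_mul (pow_ne_zero _ hp.ne_zero) h0.ne', Finsupp.add_apply,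
          hp.factorization_pow, Finsupp.single_eq_same]
        omega
    refine Cfsg.Agent.Lib.Blocks.not_memLocalIdeal_one (M := M) ?_
    have := Cfsg.Agent.Lib.Blocks.memLocalIdeal_sub hbad hsum
    simpa using this
  have h1 : Cfsg.blockDefect p (Cfsg.blockOf M (χ : G → ℂ)) ≤ a - b := by
    unfold Cfsg.blockDefect
    rw [hA]
    refine Nat.sub_le_sub_left ?_ a
    refine le_csInf ⟨_, χ, Cfsg.Agent.Lib.Blocks.mem_blockOf_self χ, rfl⟩ ?_
    rintro _ ⟨ψ, hψ, rfl⟩
    exact key ψ hψ
  refine ⟨h1, fun hab => ?_⟩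
  have hba : b = a := by
    have htop : Subgroup.center ↥(P : Subgroup G) = ⊤ :=
      top_le_iff.1 fun z _ => Subgroup.mem_center_iff.2 fun g => hab.is_comm.comm g z
    rw [htop, Subgroup.card_top, ha] at hb
    exact (Nat.pow_right_injective hp.two_le hb).symm
  omega

end Cfsg.Agent.S4730
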