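import Cfsg.Statements.S4731
import Cfsg.Agent.Lib.BrauerFeit.Orth
import Mathlib

set_option autoImplicit false
open Cfsg

namespace Cfsg.Agent.S4731

/-- Let p ≠ q be primes, M_p and M_q maximal ideals of the algebraic integers containing p and q respectively, and G a finite group with no element of order pq; let q^b be the q-part of the order of G. For a p-block B_p (relative to M_p), a q-block B_q (relative to M_q) and a p-singular element y, the sum of χ(1)χ(y) over the irreducible characters χ lying in both B_p and B_q is q^b times an algebraic integer. -/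
theorem result {G : Type*} [Group G] [Finite G] (p q : ℕ) [Fact p.Prime] [Fact q.Prime] (hpq : p ≠ q) (Mp Mq : Ideal Cfsg.AlgInt) (hMp : Cfsg.IsPModular p Mp) (hMq : Cfsg.IsPModular q Mq) (hno : ∀ g : G, orderOf g ≠ p * q) (b : ℕ) (hb : (Nat.card G).factorization q = b) (Bp : Set (Cfsg.IrrCharacter G)) (hBp : Cfsg.IsPBlock Mp Bp) (Bq : Set (Cfsg.IrrCharacter G)) (hBq : Cfsg.IsPBlock Mq Bq) (y : G) (hy : p ∣ orderOf y) : ∃ ω : Cfsg.AlgInt, ∑ᶠ χ ∈ Bp ∩ Bq, (Cfsg.charDegree (χ : G → ℂ) : ℂ) * (χ : G → ℂ) y = (q : ℂ) ^ b * (ω : ℂ) := by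
  classical
  haveI := Fintype.ofFinite G
  haveI := Cfsg.Agent.Lib.Blocks.isPModular_isPrime hMp
  haveI := Cfsg.Agent.Lib.Blocks.isPModular_isPrime hMq
  set a : Cfsg.IrrCharacter G → ℂ := fun χ => if χ ∈ Bp then (χ : G → ℂ) y else 0 with ha
  set F : G → ℂ := ∑ χ : Cfsg.IrrCharacter G, a χ • (χ : G → ℂ) with hF
  have hFq : ∀ x : G, q ∣ orderOf x → F x = 0 := by
    intro x hx
    have hxp : ¬ p ∣ orderOf x := fun hp' => by
      have hpq' : p * q ∣ orderOf x :=
        ((Nat.coprime_primes Fact.out Fact.out).2 hpq).mul_dvd_of_dvd_of_dvd hp' hx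
      refine hno (x ^ (orderOf x / (p * q))) ?_
      rw [orderOf_pow_of_dvd (Nat.div_pos (Nat.le_of_dvd (orderOf_pos x) hpq')
        (Nat.pos_of_ne_zero (mul_ne_zero (Fact.out : p.Prime).ne_zero (Fact.out : q.Prime).ne_zero))).ne'
        (Nat.div_dvd_of_dvd hpq'), Nat.div_div_self hpq' (orderOf_pos x).ne']
    have hw := Cfsg.Agent.Lib.Blocks.weak_block_orth hMp hBp (g := x) (h := y⁻¹) hxp
      (by rwa [orderOf_inv])
    rw [finsum_mem_eq_toFinset_sum] at hw
    rw [hF, Finset.sum_apply]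
    calc ∑ χ : Cfsg.IrrCharacter G, (a χ • (χ : G → ℂ)) x
        = ∑ χ ∈ Bp.toFinset, (χ : G → ℂ) x * (starRingEnd ℂ) ((χ : G → ℂ) y⁻¹) := by
          rw [← Finset.sum_subset (Finset.subset_univ Bp.toFinset) fun χ _ hχ => by
            rw [Pi.smul_apply, smul_eq_mul, ha]
            simp only
            rw [if_neg (by simpa using hχ), zero_mul]]
          refine Finset.sum_congr rfl fun χ hχ => ?_
          rw [Pi.smul_apply, smul_eq_mul, ha]
          simp only
          rw [if_pos (Set.mem_toFinset.1 hχ), Cfsg.Agent.Lib.Chars.irr_inv χ y, Complex.conj_conj,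
            mul_comm]
      _ = 0 := hw
  have hFreg : F = ∑ χ : Cfsg.IrrCharacter G, a χ • Cfsg.pRegularPart q (χ : G → ℂ) := by
    funext x
    rw [Finset.sum_apply]
    by_cases hx : q ∣ orderOf x
    · rw [hFq x hx]
      refine (Finset.sum_eq_zero fun χ _ => ?_).symm
      rw [Pi.smul_apply, Cfsg.Agent.Lib.BrauerFeit.pRegularPart_apply, if_pos hx, smul_zero]
    · rw [hF, Finset.sum_apply]
      refine Finset.sum_congr rfl fun χ _ => ?_
      rw [Pi.smul_apply, Pi.smul_apply, Cfsg.Agent.Lib.BrauerFeit.pRegularPart_apply, if_neg hx]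
  have haψ : ∀ ψ : Cfsg.IrrCharacter G,
      a ψ = ∑ χ : Cfsg.IrrCharacter G, a χ * Cfsg.Agent.Lib.BrauerFeit.regCoef q χ ψ := by
    intro ψ
    have h1 : Cfsg.classInner F (ψ : G → ℂ) = a ψ := Cfsg.Agent.Lib.Chars.classInner_sum_smul_irr a ψ
    rw [← h1, hFreg, Cfsg.Agent.Lib.Chars.classInner_sum_left]
    exact Finset.sum_congr rfl fun χ _ => Cfsg.Agent.Lib.Chars.classInner_smul_left _ _ _
  set H : G → ℂ := fun x => ∑ ψ ∈ Bq.toFinset, a ψ * (ψ : G → ℂ) x with hH
  have hHreg : ∀ x, H x = ∑ χ ∈ Bq.toFinset, a χ * Cfsg.pRegularPart q (χ : G → ℂ) x := by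
    intro x
    rw [hH]
    simp only
    rw [Finset.sum_congr rfl fun ψ _ => by rw [haψ ψ, Finset.sum_mul], Finset.sum_comm,
      ← Finset.sum_subset (Finset.subset_univ Bq.toFinset)]
    · refine Finset.sum_congr rfl fun χ hχ => ?_
      rw [Cfsg.Agent.Lib.BrauerFeit.pRegularPart_eq_finsum
        (Cfsg.Agent.Lib.BrauerFeit.regOrth hMq) hBq (Set.mem_toFinset.1 hχ),
        finsum_mem_eq_toFinset_sum, Finset.mul_sum]
      exact Finset.sum_congr rfl fun ψ _ => mul_assoc _ _ _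
    · intro χ _ hχ
      refine Finset.sum_eq_zero fun ψ hψ => ?_
      rw [Cfsg.Agent.Lib.BrauerFeit.regCoef_comm, Cfsg.Agent.Lib.BrauerFeit.regCoef_eq_zero_of_not_mem
        (Cfsg.Agent.Lib.BrauerFeit.regOrth hMq) hBq (Set.mem_toFinset.1 hψ) (by simpa using hχ),
        mul_zero, zero_mul]
  obtain ⟨Q⟩ : Nonempty (Sylow q G) := inferInstance
  haveI : Fintype (Q : Subgroup G) := Fintype.ofFinite _
  choose m hm using fun χ : Cfsg.IrrCharacter G =>
    Cfsg.Agent.Lib.CharCount.exists_nat_sum_subgroup χ (Q : Subgroup G)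
  have hw : IsIntegral ℤ (∑ ψ ∈ Bq.toFinset, a ψ * (m ψ : ℂ)) := by
    refine IsIntegral.sum _ fun ψ _ => IsIntegral.mul ?_ (isIntegral_algebraMap (x := ((m ψ : ℕ) : ℤ)))
    rw [ha]
    simp only
    split_ifs
    · exact Cfsg.Agent.Lib.Chars.irr_isIntegral ψ y
    · exact isIntegral_zero
  refine ⟨⟨_, hw⟩, ?_⟩
  have hQsum : ∑ u : (Q : Subgroup G), H u = H 1 := by
    rw [Finset.sum_eq_single (1 : (Q : Subgroup G))]
    · rfl
    · intro u _ hu
      rw [hHreg]
      refine Finset.sum_eq_zero fun χ _ => ?_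
      obtain ⟨k, hk⟩ := IsPGroup.iff_orderOf.1 Q.isPGroup' u
      rw [Cfsg.Agent.Lib.BrauerFeit.pRegularPart_apply, if_pos, mul_zero]
      rw [Subgroup.orderOf_coe, hk]
      refine dvd_pow_self q fun h => hu (orderOf_eq_one_iff.1 (by rw [hk, h, pow_zero]))
    · exact fun h => absurd (Finset.mem_univ _) h
  have hH1 : H 1 = (q : ℂ) ^ b * ∑ ψ ∈ Bq.toFinset, a ψ * (m ψ : ℂ) := by
    rw [← hQsum, hH]
    simp only
    rw [Finset.sum_comm, Finset.mul_sum]
    refine Finset.sum_congr rfl fun ψ _ => ?_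
    rw [← Finset.mul_sum, hm ψ, Q.card_eq_multiplicity, hb]
    push_cast
    ring
  show _ = (q : ℂ) ^ b * ∑ ψ ∈ Bq.toFinset, a ψ * (m ψ : ℂ)
  rw [← hH1, hH, finsum_mem_eq_toFinset_sum]
  simp only
  rw [← Finset.sum_subset (show (Bp ∩ Bq).toFinset ⊆ Bq.toFinset from fun ψ hψ =>
    Set.mem_toFinset.2 (Set.mem_toFinset.1 hψ).2)]
  · refine Finset.sum_congr rfl fun ψ hψ => ?_
    rw [ha]
    simp only
    rw [if_pos (Set.mem_toFinset.1 hψ).1, (Cfsg.Agent.Lib.Blocks.HeightZero.charDegree_eq ψ).1]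
    ring
  · intro ψ hψ hψ'
    rw [ha]
    simp only
    rw [if_neg (fun h => hψ' (Set.mem_toFinset.2 ⟨h, Set.mem_toFinset.1 hψ⟩)), zero_mul]

end Cfsg.Agent.S4731
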