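import Cfsg.Statements.S4732
import Mathlib
import Cfsg.Agent.Lib.JordanModular55.Main

set_option autoImplicit false
universe u v
open Cfsg

namespace Cfsg.Agent.S4732

/-- Let p be a prime. There is a function f of two natural-number arguments such that every finite group G admitting a faithful representation of degree n over a field of characteristic p, with Sylow p-subgroups of order p^m, has a normal abelian subgroup A with [G : A] < f(m, n). -/
theorem result (p : ℕ) [Fact p.Prime] : ∃ f : ℕ → ℕ → ℕ, ∀ (G : Type u) [Group G] [Finite G] (F : Type v) [Field F] [CharP F p] (n : ℕ) (ρ : Representation F G (Fin n → F)), Function.Injective ρ → ∀ m : ℕ, (Nat.card G).factorization p = m → ∃ A : Subgroup G, A.Normal ∧ IsMulCommutative A ∧ A.index < f m n := by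
  choose b hb using fun m n : ℕ => Cfsg.Agent.Lib.JordanModular55.exists_linearBound.{u, v} p m n
  refine ⟨fun m n => (b m n).factorial + 1, fun G _ _ F _ _ n ρ hρ m hm => ?_⟩
  classical
  let K := AlgebraicClosure F
  haveI : CharP K p := charP_of_injective_algebraMap (algebraMap F K).injective p
  let j : Module.End F (Fin n → F) →* Module.End K (Fin n → K) :=
    (Matrix.toLinAlgEquiv' : Matrix (Fin n) (Fin n) K ≃ₐ[K] _).toRingEquiv.toMonoidHom.comp
      ((algebraMap F K).mapMatrix.toMonoidHom.comp
        (Matrix.toLinAlgEquiv' : Matrix (Fin n) (Fin n) F ≃ₐ[F] _).symm.toRingEquiv.toMonoidHom)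
  have hj : Function.Injective j := by
    intro x y h
    have h1 := (Matrix.toLinAlgEquiv' : Matrix (Fin n) (Fin n) K ≃ₐ[K] _).injective h
    have h2 := Matrix.map_injective (algebraMap F K).injective h1
    exact (Matrix.toLinAlgEquiv' : Matrix (Fin n) (Fin n) F ≃ₐ[F] _).symm.injective h2
  let ρ' : G →* Module.End K (Fin n → K) := j.comp ρ
  obtain ⟨A, hA, hi⟩ := hb m n G K (Fin n → K) ρ' (by simp) (hj.comp hρ) hm.le
  refine ⟨A.normalCore, A.normalCore_normal, ⟨⟨fun x y => Subtype.ext
    (hA x (A.normalCore_le x.2) y (A.normalCore_le y.2))⟩⟩, Nat.lt_succ_of_le ?_⟩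
  rw [Subgroup.normalCore_eq_ker]
  rw [Subgroup.index_ker]
  refine (Subgroup.card_le_card_group _).trans ?_
  rw [Nat.card_perm]
  exact Nat.factorial_le hi

end Cfsg.Agent.S4732
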