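import Cfsg.Statements.S4734
import Cfsg.Agent.Lib.BrauerPairs.KernelCore


set_option autoImplicit false
open Cfsg

namespace Cfsg.Agent.S4734

open Cfsg.Agent Cfsg.Agent.Lib.BrauerPairs.KernelCore


/-- Let p be a prime, π a set of primes containing p, M a maximal ideal of the algebraic integers containing p, B a p-block of the finite group G with defect group D, and B₁ the block of N_G(D) with defect group D inducing B. Write O_π'(X) for the largest normal subgroup of X whose order has no prime divisor in π, and suppose every element of O_π'(N_G(D)) lies in the kernel of every member of B₁. Let G₀ be a subgroup and B₀ a block of G₀ with defect group D₀ such that C_G(D₀) ≤ G₀ and B₀ induces B. Then every element of O_π'(G₀) lies in the kernel of every member of B₀. -/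
theorem result {G : Type*} [Group G] [Finite G] (p : ℕ) [Fact p.Prime] (M : Ideal Cfsg.AlgInt) (hM : Cfsg.IsPModular p M) (π : Set ℕ) (hpπ : p ∈ π) (B : Set (Cfsg.IrrCharacter G)) (hB : Cfsg.IsPBlock M B) (D : Subgroup G) (hBD : Cfsg.IsDefectGroup p M B D) (B₁ : Set (Cfsg.IrrCharacter ↥(Subgroup.normalizer (D : Set G)))) (hB₁ : Cfsg.IsInducedBlock M (Subgroup.normalizer (D : Set G)) B₁ B) (hB₁D : Cfsg.IsDefectGroup p M B₁ (D.subgroupOf (Subgroup.normalizer (D : Set G)))) (hker : ∀ n : ↥(Subgroup.normalizer (D : Set G)), n ∈ Cfsg.piCore {q | q ∉ π} ↥(Subgroup.normalizer (D : Set G)) → n ∈ Cfsg.blockKer B₁) (G₀ : Subgroup G) (B₀ : Set (Cfsg.IrrCharacter ↥G₀)) (hB₀ : Cfsg.IsInducedBlock M G₀ B₀ B) (D₀ : Subgroup ↥G₀) (hD₀ : Cfsg.IsDefectGroup p M B₀ D₀) (hC : Subgroup.centralizer ((D₀.map G₀.subtype : Subgroup G) : Set G) ≤ G₀) : ∀ x : ↥G₀, x ∈ Cfsg.piCore {q | q ∉ π} ↥G₀ → x ∈ Cfsg.blockKer B₀ := by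
  classical
  haveI := Lib.Blocks.isPModular_isPrime hM
  have hQ := Subgroup.map_subgroupOf_eq_of_le (Subgroup.le_normalizer (H := D))
  have hC' := Subgroup.centralizer_le_normalizer (D : Set G)
  obtain ⟨e₁, he₁⟩ := exists_pair_at_defectGroup hM hB₁.1 hB₁D
  have hk₁ : KerCore π (⟨D.subgroupOf _, e₁⟩ :
      Cfsg.BrauerPairIdx ↥(Subgroup.normalizer (D : Set G))) := by
    refine kerCore_of_killsOn_piCore ?_ ((killsOn_iff_blockKer hM he₁ _
      fun h => (Lib.PiCore.isPiNumber_piCore (π := {q | q ∉ π}) p hM.1 h) hpπ).2 fun χ hχ n hn => hker n hn χ hχ)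
    exact Subgroup.normal_in_normalizer
  have hmax := isMaximal_of_defectGroup hM (isBrauerPairOf_push hQ hC' hM hB₁ he₁) hBD
  obtain ⟨e₀, he₀⟩ := exists_pair_at_defectGroup hM hB₀.1 hD₀
  have hpair := isBrauerPairOf_push (rfl : D₀.map G₀.subtype = D₀.map G₀.subtype) hC hM hB₀ he₀
  obtain ⟨x, hx⟩ := Lib.BrauerPairs.exists_conj_pairLE_max hM hmax hpair
  have hk₀ := (kerCore_push_iff rfl hC).1
    (kerCore_of_conj _ hpair.1.2 x (kerCore_down hM hpπ hx ((kerCore_push_iff hQ hC').2 hk₁)))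
  intro n hn χ hχ
  exact (killsOn_iff_blockKer hM he₀ _ fun h => (Lib.PiCore.isPiNumber_piCore (π := {q | q ∉ π}) p hM.1 h) hpπ).1
    (killsOn_piCore_of_kerCore hk₀) χ hχ n hn

end Cfsg.Agent.S4734
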