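import Cfsg.Statements.S4735
import Cfsg.Agent.Lib.HeightPSolv.Lambda
import Cfsg.Agent.Lib.PSolvable.Core
import Mathlib

set_option autoImplicit false
open Cfsg

namespace Cfsg.Agent.S4735

/-- Let p be a prime, M a maximal ideal of the algebraic integers containing p, G a finite group, H = O_p'(G) and Ḡ = G/H. For x ∈ G write λ(G, x) for the sum of |χ(x)|^2 over the irreducible characters χ in the principal p-block of G. Then λ(G, x) is a positive integer, λ(G, x) = λ(Ḡ, x̄) where x̄ is the image of x, and λ(G, x) ≤ #C_Ḡ(x̄). Moreover λ(G, 1) = [G : H] if and only if the principal block is the only p-block of Ḡ. -/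
theorem result {G : Type*} [Group G] [Finite G] (p : ℕ) [Fact p.Prime] (M : Ideal Cfsg.AlgInt) (hM : Cfsg.IsPModular p M) (x : G) : (∃ n : ℕ, 0 < n ∧ ∑ᶠ χ ∈ Cfsg.principalBlock M G, Complex.normSq ((χ : G → ℂ) x) = n) ∧ ∑ᶠ χ ∈ Cfsg.principalBlock M G, Complex.normSq ((χ : G → ℂ) x) = ∑ᶠ ψ ∈ Cfsg.principalBlock M (G ⧸ Cfsg.pPrimeCore p G), Complex.normSq ((ψ : G ⧸ Cfsg.pPrimeCore p G → ℂ) (QuotientGroup.mk x)) ∧ ∑ᶠ χ ∈ Cfsg.principalBlock M G, Complex.normSq ((χ : G → ℂ) x) ≤ (Nat.card ↥(Subgroup.centralizer ({(QuotientGroup.mk x : G ⧸ Cfsg.pPrimeCore p G)} : Set (G ⧸ Cfsg.pPrimeCore p G))) : ℝ) ∧ ((∑ᶠ χ ∈ Cfsg.principalBlock M G, Cfsg.charDegree (χ : G → ℂ) ^ 2) = (Cfsg.pPrimeCore p G).index ↔ ∀ B : Set (Cfsg.IrrCharacter (G ⧸ Cfsg.pPrimeCore p G)), Cfsg.IsPBlock M B → B = Cfsg.principalBlock M (G ⧸ Cfsg.pPrimeCore p G)) := by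
  classical
  haveI := Cfsg.Agent.Lib.Blocks.isPModular_isPrime hM
  cases nonempty_fintype G
  have hNp : ¬ p ∣ Nat.card (Cfsg.pPrimeCore p G) := Cfsg.Agent.Lib.PSolvable.pPrimeCore_not_dvd
  have heq := Cfsg.Agent.Lib.HeightPSolv.principalBlock_eq_image_inflate hM _ hNp
  have hinj := (Cfsg.Agent.Lib.Chars.inflate_injective (Cfsg.pPrimeCore p G)).injOn
    (s := Cfsg.principalBlock M (G ⧸ Cfsg.pPrimeCore p G))
  have h2 : ∑ᶠ χ ∈ Cfsg.principalBlock M G, Complex.normSq ((χ : G → ℂ) x) =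
      ∑ᶠ ψ ∈ Cfsg.principalBlock M (G ⧸ Cfsg.pPrimeCore p G),
        Complex.normSq ((ψ : G ⧸ Cfsg.pPrimeCore p G → ℂ) (QuotientGroup.mk x)) := by
    rw [heq, finsum_mem_image hinj]
    rfl
  refine ⟨Cfsg.Agent.Lib.HeightPSolv.exists_nat_lambda hM x, h2, ?_, ?_⟩
  · rw [h2]
    exact Cfsg.Agent.Lib.HeightPSolv.lambda_le_card_centralizer _
  · rw [heq, finsum_mem_image hinj, Subgroup.index,
      ← Cfsg.Agent.Lib.HeightPSolv.sum_degree_sq_eq_card_iff]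
    have : ∀ ψ : Cfsg.IrrCharacter (G ⧸ Cfsg.pPrimeCore p G),
        Cfsg.charDegree (Cfsg.Agent.Lib.Chars.inflate (Cfsg.pPrimeCore p G) ψ : G → ℂ) =
          Cfsg.charDegree (ψ : G ⧸ Cfsg.pPrimeCore p G → ℂ) := fun ψ => by
      simp [Cfsg.charDegree, Cfsg.Agent.Lib.Chars.inflate]
    simp only [this]

end Cfsg.Agent.S4735
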