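import Cfsg.Statements.S4736
import Cfsg.Agent.Lib.HeightPSolv.DegreesPrime
import Cfsg.Agent.Lib.HeightPSolv.Principal
import Cfsg.Agent.Lib.PSolvable.HallHigman
import Mathlib

set_option autoImplicit false
open Cfsg

namespace Cfsg.Agent.S4736

/-- Let p be a prime, M a maximal ideal of the algebraic integers containing p, and G a finite p-solvable group with Sylow p-subgroup P. Then P is abelian if and only if every irreducible character in the principal p-block of G has height zero. -/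
theorem result {G : Type*} [Group G] [Finite G] (p : ℕ) [Fact p.Prime] (M : Ideal Cfsg.AlgInt) (hM : Cfsg.IsPModular p M) (hsolv : Cfsg.IsPSolvable p G) (P : Sylow p G) : IsMulCommutative P ↔ ∀ χ ∈ Cfsg.principalBlock M G, Cfsg.blockHeight p (Cfsg.principalBlock M G) (χ : G → ℂ) = 0 := by
  classical
  haveI := Cfsg.Agent.Lib.Blocks.isPModular_isPrime hM
  cases nonempty_fintype G
  set N := Cfsg.pPrimeCore p G with hNdef
  have hNp : ¬ p ∣ Nat.card N := Cfsg.Agent.Lib.PSolvable.pPrimeCore_not_dvd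
  have hsolv' : Cfsg.IsPSolvable p (G ⧸ N) := Cfsg.Agent.Lib.PSolvable.isPSolvable_quotient hsolv N
  have hC := Cfsg.Agent.Lib.PSolvable.centralizer_pCore_le_of_isPSolvable hsolv'
    Cfsg.Agent.Lib.PSolvable.pPrimeCore_quotient_eq_bot
  set Pb : Sylow p (G ⧸ N) := P.mapSurjective (QuotientGroup.mk'_surjective N) with hPb
  have hheight : ∀ χ : Cfsg.IrrCharacter G,
      Cfsg.blockHeight p (Cfsg.principalBlock M G) (χ : G → ℂ) = 0 ↔
        ¬ p ∣ Cfsg.charDegree (χ : G → ℂ) := by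
    intro χ
    rw [Cfsg.blockHeight, Cfsg.Agent.Lib.HeightPSolv.sInf_degree_principalBlock, Nat.sub_zero,
      Nat.factorization_eq_zero_iff]
    have h0 := (Cfsg.Agent.Lib.Blocks.HeightZero.charDegree_eq χ).2
    simp [(Fact.out : p.Prime), h0]
  have hiff := Cfsg.Agent.Lib.HeightPSolv.allDegreesPrime_iff hsolv' Pb
  constructor
  · intro hab
    have hPab : ∀ a ∈ (Pb : Subgroup (G ⧸ N)), ∀ b ∈ (Pb : Subgroup (G ⧸ N)), a * b = b * a := by
      rintro _ ⟨a, ha, rfl⟩ _ ⟨b, hb, rfl⟩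
      have := congrArg Subtype.val (hab.1.comm ⟨a, ha⟩ ⟨b, hb⟩)
      simp only [Subgroup.coe_mul] at this
      rw [← map_mul, this, map_mul]
    have hle : (Pb : Subgroup (G ⧸ N)) ≤ Cfsg.pCore p (G ⧸ N) := fun a ha =>
      hC (Subgroup.mem_centralizer_iff.2 fun q hq =>
        hPab q (Cfsg.Agent.Lib.PSolvable.pCore_le_sylow Pb hq) a ha)
    have heq : (Pb : Subgroup (G ⧸ N)) = Cfsg.pCore p (G ⧸ N) :=
      le_antisymm hle (Cfsg.Agent.Lib.PSolvable.pCore_le_sylow Pb)
    have hnor : (Pb : Subgroup (G ⧸ N)).Normal := by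
      rw [heq]
      infer_instance
    have hall := hiff.1 ⟨hnor, ⟨⟨fun a b => Subtype.ext (hPab a a.2 b b.2)⟩⟩⟩
    intro χ hχ
    rw [hheight]
    obtain ⟨ψ, hψ⟩ := Cfsg.Agent.Lib.Chars.exists_irr_quotient N χ
      (fun x hx => Cfsg.Agent.Lib.HeightPSolv.apply_eq_one_of_mem_principalBlock hM N hNp hχ hx)
    have : Cfsg.charDegree (χ : G → ℂ) = Cfsg.charDegree (ψ : G ⧸ N → ℂ) := by
      simp only [Cfsg.charDegree, ← hψ, QuotientGroup.mk_one]
    rw [this]
    exact hall ψ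
  · intro h
    have hall : Cfsg.Agent.Lib.HeightPSolv.AllDegreesPrime p (G ⧸ N) := by
      intro ψ
      have hmem : Cfsg.Agent.Lib.Chars.inflate N ψ ∈ Cfsg.principalBlock M G := by
        exact Cfsg.Agent.Lib.HeightPSolv.sameBlock_inflate N
          (Cfsg.Agent.Lib.HeightPSolv.sameBlock_of_centralizer_le hM _
            Cfsg.Agent.Lib.PSolvable.pCore_isPGroup hC
            (Cfsg.Agent.Lib.Chars.trivialIrr (G ⧸ N)) ψ)
      have := (hheight _).1 (h _ hmem)
      simpa [Cfsg.charDegree, Cfsg.Agent.Lib.Chars.inflate] using this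
    obtain ⟨-, hab⟩ := hiff.2 hall
    refine ⟨⟨fun a b => Subtype.ext ?_⟩⟩
    have h1 : ((a : G) : G ⧸ N) * (b : G) = ((b : G) : G ⧸ N) * (a : G) :=
      congrArg Subtype.val (hab.1.comm ⟨_, a.1, a.2, rfl⟩ ⟨_, b.1, b.2, rfl⟩)
    rw [← QuotientGroup.mk_mul, ← QuotientGroup.mk_mul, QuotientGroup.eq] at h1
    have h2 : ((a : G) * b)⁻¹ * ((b : G) * a) = 1 := by
      have hdis := Cfsg.Agent.Lib.PSolvable.inf_eq_bot_of_isPGroup_of_coprime (p := p)
        (H := (P : Subgroup G)) (K := N) P.isPGroup' Cfsg.Agent.Lib.PSolvable.pPrimeCore_coprime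
      rw [Subgroup.eq_bot_iff_forall] at hdis
      exact hdis _ ⟨(P : Subgroup G).mul_mem ((P : Subgroup G).inv_mem ((P : Subgroup G).mul_mem a.2 b.2)) ((P : Subgroup G).mul_mem b.2 a.2), h1⟩
    exact inv_mul_eq_one.1 h2

end Cfsg.Agent.S4736
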