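import Cfsg.Statements.S4746
import Cfsg.Agent.Lib.CharsElem
import Cfsg.Agent.S4744
-- import your own Cfsg.Agent.* helpers here

set_option autoImplicit false
open Cfsg

namespace Cfsg.Agent.S4746

open Cfsg.Agent.Lib.Chars Cfsg.Agent.Lib.CharsElem
open scoped ComplexConjugate

theorem sq_sum_eq {ι : Type*} (s : Finset ι) (f : ι → ℂ) (hf : ∀ i, IsIntegral ℤ (f i)) :
    ∃ b : ℂ, IsIntegral ℤ b ∧ (∑ i ∈ s, f i) * (∑ i ∈ s, f i) = (∑ i ∈ s, f i * f i) + 2 * b := by
  classical
  induction s using Finset.induction_on with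
  | empty => exact ⟨0, isIntegral_zero, by simp⟩
  | insert a s ha ih =>
    obtain ⟨b, hb, h⟩ := ih
    refine ⟨b + f a * ∑ i ∈ s, f i, hb.add ((hf a).mul (IsIntegral.sum _ fun i _ => hf i)), ?_⟩
    rw [Finset.sum_insert ha, Finset.sum_insert ha]
    linear_combination h


/-- Let p be an odd prime and G a finite group of even order divisible by p in which the centralizer of every non-identity p-element has odd order. Then G has an irreducible character of p-defect zero or an irreducible character of even degree. -/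
theorem result {G : Type*} [Group G] [Finite G] (p : ℕ) [Fact p.Prime] (hp2 : p ≠ 2) (hpG : p ∣ Nat.card G) (h2G : 2 ∣ Nat.card G) (hC : ∀ g : G, g ≠ 1 → (∃ k : ℕ, orderOf g = p ^ k) → Odd (Nat.card ↥(Subgroup.centralizer ({g} : Set G)))) : (∃ χ : Cfsg.IrrCharacter G, (Cfsg.charDegree (χ : G → ℂ)).factorization p = (Nat.card G).factorization p) ∨ ∃ χ : Cfsg.IrrCharacter G, Even (Cfsg.charDegree (χ : G → ℂ)) := by
  by_cases hdz : ∃ χ : Cfsg.IrrCharacter G,
      (Cfsg.charDegree (χ : G → ℂ)).factorization p = (Nat.card G).factorization p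
  · exact Or.inl hdz
  obtain ⟨x, hx1, hxp, s, hs, hsx⟩ := S4744.exists_inverted p hpG h2G hC hdz
  right
  cases nonempty_fintype G
  classical
  by_contra hev
  push Not at hev
  have hreal : IsConj x⁻¹ x := isConj_iff.mpr ⟨s, by
    rw [← hsx]
    have : s * (s * x * s⁻¹) * s⁻¹ = (s ^ 2) * x * (s ^ 2)⁻¹ := by simp [sq, mul_assoc]
    rw [this, ← hs, pow_orderOf_eq_one]; simp⟩
  have hconj : ∀ χ : Cfsg.IrrCharacter G, conj ((χ : G → ℂ) x) = (χ : G → ℂ) x := fun χ => by
    rw [← irr_inv, isClassFunction_apply_eq (irr_isClassFunction χ) hreal]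
  have h1 := column_orthogonality_of_isConj (IsConj.refl x)
  have h2 := sum_degree_mul_irr (G := G) x
  rw [if_neg hx1] at h2
  simp only [hconj] at h1
  choose d hd0 hd _hdd using fun χ : Cfsg.IrrCharacter G => irr_degree_dvd_card χ
  choose k hk using fun χ : Cfsg.IrrCharacter G => (show Odd (d χ) by
    have := hev χ
    simpa [Cfsg.charDegree, hd χ] using this)
  have hsum : ∑ χ : Cfsg.IrrCharacter G, (χ : G → ℂ) x =
      2 * -∑ χ : Cfsg.IrrCharacter G, (k χ : ℂ) * (χ : G → ℂ) x := by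
    have : ∀ χ : Cfsg.IrrCharacter G, (χ : G → ℂ) 1 * (χ : G → ℂ) x =
        2 * ((k χ : ℂ) * (χ : G → ℂ) x) + (χ : G → ℂ) x := fun χ => by
      rw [hd χ, hk χ]; push_cast; ring
    rw [Finset.sum_congr rfl fun χ _ => this χ, Finset.sum_add_distrib, ← Finset.mul_sum] at h2
    linear_combination h2
  obtain ⟨b, hb, hsq⟩ := sq_sum_eq (Finset.univ) (fun χ : Cfsg.IrrCharacter G => (χ : G → ℂ) x)
    fun χ => irr_isIntegral χ x
  rw [h1, hsum] at hsq
  have hodd := hC x hx1 hxp
  refine Nat.not_even_iff_odd.mpr hodd (even_iff_two_dvd.mpr (dvd_of_isIntegral_div two_ne_zero ?_))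
  set a := ∑ χ : Cfsg.IrrCharacter G, (k χ : ℂ) * (χ : G → ℂ) x
  have : (Nat.card ↥(Subgroup.centralizer ({x} : Set G)) : ℂ) / ((2 : ℕ) : ℂ) = 2 * a * a - b := by
    push_cast; linear_combination (-1 / 2 : ℂ) * hsq
  rw [this]
  have ha : IsIntegral ℤ a := IsIntegral.sum _ fun χ _ =>
    (isIntegral_algebraMap (x := (k χ : ℤ))).mul (irr_isIntegral χ x)
  exact (((isIntegral_algebraMap (x := (2 : ℤ))).mul ha).mul ha).sub hb

end Cfsg.Agent.S4746
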