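import Cfsg.Statements.S4748
import Cfsg.Agent.Lib.TIFixed
import Cfsg.Agent.Lib.PSolvable.PSolv
-- import your own Cfsg.Agent.* helpers here

set_option autoImplicit false
open scoped Pointwise
open Cfsg

namespace Cfsg.Agent.S4748

open Cfsg.Agent.Lib in
/-- Hall–Higman: if `O_p(G) = 1` then `C(O_{p'}(G)) ≤ O_{p'}(G)` for `p`-solvable `G`. -/
theorem centralizer_le {G : Type*} [Group G] [Finite G] {p : ℕ} [hp : Fact p.Prime]
    (hG : Cfsg.IsPSolvable p G) (h0 : Cfsg.pCore p G = ⊥) :
    Subgroup.centralizer ((Cfsg.pPrimeCore p G : Subgroup G) : Set G) ≤ Cfsg.pPrimeCore p G := by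
  set M := Cfsg.pPrimeCore p G with hM
  set C := Subgroup.centralizer (M : Set G)
  set f := QuotientGroup.mk' (C ⊓ M) with hf
  by_contra hne
  have hne' : C.map f ≠ ⊥ := by
    rw [Ne, Subgroup.map_eq_bot_iff, hf, QuotientGroup.ker_mk']
    exact fun h => hne (h.trans inf_le_right)
  have : (C.map f).Normal := Subgroup.Normal.map inferInstance f (QuotientGroup.mk'_surjective _)
  obtain ⟨N, hNn, hNC, hNne, hN⟩ := PSolvable.exists_normal_le_of_isPSolvable (C.map f) hne'
    (PSolvable.isPSolvable_subgroup (PSolvable.isPSolvable_quotient hG _) _)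
  set L := N.comap f with hL
  have : L.Normal := Subgroup.Normal.comap hNn f
  have hLC : L ≤ C := by
    refine (Subgroup.comap_mono hNC).trans ?_
    rw [Subgroup.comap_map_eq, hf, QuotientGroup.ker_mk']
    exact sup_le le_rfl inf_le_left
  suffices L ≤ C ⊓ M by
    refine hNne (le_bot_iff.mp ?_)
    rw [← Subgroup.map_comap_eq_self_of_surjective (QuotientGroup.mk'_surjective _) N, le_bot_iff,
      Subgroup.map_eq_bot_iff, QuotientGroup.ker_mk']
    exact this
  refine le_inf hLC ?_
  have hcop : (Nat.card (C ⊓ M : Subgroup G)).Coprime p :=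
    PSolvable.coprime_of_le inf_le_right PSolvable.pPrimeCore_coprime
  have hker : f.ker.relIndex L = Nat.card N := by
    rw [hL, ← MonoidHom.comap_bot, Subgroup.relIndex_comap,
      Subgroup.map_comap_eq_self_of_surjective (QuotientGroup.mk'_surjective _) N,
      Subgroup.relIndex_bot_left]
  rw [hf, QuotientGroup.ker_mk'] at hker
  have hle : C ⊓ M ≤ L := fun c hc => by
    rw [hL, Subgroup.mem_comap, hf, QuotientGroup.mk'_apply, (QuotientGroup.eq_one_iff c).mpr hc]
    exact N.one_mem
  have hcard := PSolvable.card_mul_relIndex hle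
  rw [hker] at hcard
  rcases hN with hN | hN
  · -- a Sylow subgroup of `L` is normal
    let S : Sylow p L := default
    obtain ⟨m, hm⟩ := IsPGroup.iff_card.mp hN
    have hcompl : ((C ⊓ M).subgroupOf L) ⊔ (S : Subgroup L) = ⊤ := by
      refine Subgroup.eq_top_of_card_eq _ (Nat.dvd_antisymm (Subgroup.card_subgroup_dvd_card _) ?_)
      have h1 := Subgroup.card_dvd_of_le (le_sup_left : (C ⊓ M).subgroupOf L ≤ _ ⊔ (S : Subgroup L))
      have h2 := Subgroup.card_dvd_of_le (le_sup_right : (S : Subgroup L) ≤ (C ⊓ M).subgroupOf L ⊔ _)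
      rw [Nat.card_congr (Subgroup.subgroupOfEquivOfLe hle).toEquiv] at h1
      have h3 : p ^ m ∣ Nat.card (S : Subgroup L) :=
        S.pow_dvd_card_of_pow_dvd_card (by rw [← hm, ← hcard]; exact dvd_mul_left _ _)
      rw [← hcard, hm]
      exact (hcop.pow_right m).mul_dvd_of_dvd_of_dvd h1 (h3.trans h2)
    have : (S : Subgroup L).Normal := by
      rw [← Subgroup.normalizer_eq_top_iff, eq_top_iff, ← hcompl]
      refine sup_le (fun c hc => ?_) Subgroup.le_normalizer
      rw [Subgroup.mem_normalizer_iff]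
      intro s
      have hcs : ∀ s : L, c * s = s * c := fun s => Subtype.ext
        ((Subgroup.mem_centralizer_iff.mp (hLC s.2) (c : G)
          (Subgroup.mem_inf.mp (Subgroup.mem_subgroupOf.mp hc)).2))
      rw [hcs s, mul_inv_cancel_right]
    have : (S : Subgroup L).Characteristic := S.characteristic_of_normal this
    have hb : (S : Subgroup L).map L.subtype = ⊥ :=
      PSolvable.pCore_eq_bot_iff.mp h0 _ inferInstance (S.2.map _)
    rw [Subgroup.map_eq_bot_iff_of_injective _ L.subtype_injective] at hb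
    rw [hb, sup_bot_eq, Subgroup.subgroupOf_eq_top] at hcompl
    exact hcompl.trans inf_le_right
  · exact PSolvable.le_pPrimeCore (by rw [← hcard]; exact hcop.mul_left hN)

/-- Let G be a finite p-solvable group whose Sylow p-subgroup P meets each conjugate g P g⁻¹ with g outside N_G(P) trivially, and let χ be a faithful character of G (χ g = χ 1 only for g = 1) whose degree d satisfies d² ≤ |P|. Then P is normal in G. -/
theorem result {G : Type*} [Group G] [Finite G] (p : ℕ) [Fact p.Prime] (hsolv : Cfsg.IsPSolvable p G) (P : Sylow p G) (hTI : ∀ g : G, g ∉ Subgroup.normalizer ((P : Subgroup G) : Set G) → (P : Subgroup G) ⊓ (MulAut.conj g • (P : Subgroup G)) = ⊥) (χ : G → ℂ) (hχ : Cfsg.IsCharacter G χ) (hfaith : ∀ g : G, χ g = χ 1 → g = 1) (hdeg : Cfsg.charDegree χ ^ 2 ≤ Nat.card ↥(P : Subgroup G)) : (P : Subgroup G).Normal := by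
  obtain ⟨n, ρ, rfl⟩ := hχ
  have hn : n ^ 2 ≤ Nat.card (P : Subgroup G) := by
    simpa [Cfsg.charDegree, Representation.char_one] using hdeg
  by_cases h0 : Cfsg.pCore p G = ⊥
  · rcases eq_or_ne (P : Subgroup G) ⊥ with hP1 | hP1
    · rw [hP1]; infer_instance
    exfalso
    set M := Cfsg.pPrimeCore p G with hM
    have : Nontrivial (P : Subgroup G) := (Subgroup.nontrivial_iff_ne_bot _).mpr hP1
    obtain ⟨z, hz1, hz⟩ : ∃ z : (P : Subgroup G), z ≠ 1 ∧ z ∈ Subgroup.center _ := by
      have := IsPGroup.center_nontrivial P.2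
      obtain ⟨z, hz⟩ := exists_ne (1 : Subgroup.center (P : Subgroup G))
      exact ⟨z, fun h => hz (Subtype.ext h), z.2⟩
    let K : Subgroup G := (P : Subgroup G) ⊔ M
    have hPK : (P : Subgroup G) ≤ K := le_sup_left
    let PK : Sylow p K := P.subtype hPK
    have hTI' : ∀ g : K, g ∉ Subgroup.normalizer ((PK : Subgroup K) : Set K) →
        (PK : Subgroup K) ⊓ (MulAut.conj g • (PK : Subgroup K)) = ⊥ := by
      intro g hg
      have hg' : (g : G) ∉ Subgroup.normalizer ((P : Subgroup G) : Set G) := by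
        intro h
        refine hg (Subgroup.mem_normalizer_iff.mpr fun x => ?_)
        simpa [PK, Sylow.coe_subtype, Subgroup.mem_subgroupOf] using
          Subgroup.mem_normalizer_iff.mp h x
      rw [eq_bot_iff]
      intro x hx
      obtain ⟨hx1, y, hy, rfl⟩ := Subgroup.mem_inf.mp hx
      have : ((MulDistribMulAction.toMonoidEnd _ _ (MulAut.conj g) y : K) : G) ∈
          (P : Subgroup G) ⊓ (MulAut.conj (g : G) • (P : Subgroup G)) :=
        Subgroup.mem_inf.mpr ⟨hx1, Subgroup.smul_mem_pointwise_smul (y : G) (MulAut.conj (g : G)) _ hy⟩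
      rw [hTI _ hg'] at this
      exact Subgroup.mem_bot.mpr (Subtype.ext (Subgroup.mem_bot.mp this))
    set H := Subgroup.normalizer ((PK : Subgroup K) : Set K)
    have hzH : ∀ h ∈ H, (h : G) * z = z * h := by
      intro h hh
      obtain ⟨x, hx, m, hm, hxm⟩ := Subgroup.mem_sup_of_normal_right.mp h.2
      have hhN : ∀ y : G, y ∈ (P : Subgroup G) → (h : G) * y * (h : G)⁻¹ ∈ (P : Subgroup G) := by
        intro y hy
        simpa [PK, Sylow.coe_subtype, Subgroup.mem_subgroupOf] using
          (Subgroup.mem_normalizer_iff.mp hh ⟨y, hPK hy⟩).mp hy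
      have hmz : m * (z : G) * m⁻¹ * (z : G)⁻¹ ∈ (P : Subgroup G) ⊓ M := by
        refine Subgroup.mem_inf.mpr ⟨?_, ?_⟩
        · have := (P : Subgroup G).mul_mem
            ((P : Subgroup G).mul_mem ((P : Subgroup G).inv_mem hx) (hhN _ z.2)) hx
          rw [← hxm] at this
          have := (P : Subgroup G).mul_mem this ((P : Subgroup G).inv_mem z.2)
          simpa [mul_assoc] using this
        · have : (z : G) * m⁻¹ * (z : G)⁻¹ ∈ M :=
            (inferInstance : M.Normal).conj_mem _ (M.inv_mem hm) _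
          simpa [mul_assoc] using M.mul_mem hm this
      rw [Lib.PSolvable.inf_eq_bot_of_isPGroup_of_coprime P.2 Lib.PSolvable.pPrimeCore_coprime,
        Subgroup.mem_bot, mul_inv_eq_one] at hmz
      have hm' : m * z = z * m := mul_inv_eq_iff_eq_mul.mp hmz
      have hx' : x * z = z * x := congrArg Subtype.val (Subgroup.mem_center_iff.mp hz ⟨x, hx⟩)
      rw [← hxm, mul_assoc, hm', ← mul_assoc, hx', mul_assoc]
    have hzK : (z : G) ∈ K := hPK z.2
    have hcardK : Nat.card (PK : Subgroup K) = Nat.card (P : Subgroup G) :=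
      Nat.card_congr (Subgroup.subgroupOfEquivOfLe hPK).toEquiv
    have hzC : (z : G) ∈ Subgroup.centralizer (M : Set G) := by
      intro m hm
      have hmK : m ∈ K := le_sup_right (a := (P : Subgroup G)) hm
      have := Lib.TIFixed.commute_of_free (ρ.comp K.subtype) H PK PK.2
        Subgroup.le_normalizer (Lib.TIFixed.free_of_ti PK hTI' H le_rfl)
        (by simpa [hcardK] using hn) (ρ (z : G))
        (fun h hh => by
          change ρ (h : G) * ρ (z : G) = ρ (z : G) * ρ (h : G)
          rw [← map_mul, ← map_mul, hzH h hh]) ⟨m, hmK⟩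
      change ρ m * ρ (z : G) = ρ (z : G) * ρ m at this
      rw [← map_mul, ← map_mul] at this
      have h1 : ρ ((m * z) * (z * m)⁻¹) = 1 := by
        rw [map_mul, this, ← map_mul, mul_inv_cancel, map_one]
      exact mul_inv_eq_one.mp (hfaith _ (show LinearMap.trace ℂ _ (ρ _) = LinearMap.trace ℂ _ (ρ 1) by rw [h1, ρ.map_one]))
    have hzM : (z : G) ∈ (P : Subgroup G) ⊓ M :=
      Subgroup.mem_inf.mpr ⟨z.2, centralizer_le hsolv h0 hzC⟩
    rw [Lib.PSolvable.inf_eq_bot_of_isPGroup_of_coprime P.2 Lib.PSolvable.pPrimeCore_coprime,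
      Subgroup.mem_bot] at hzM
    exact hz1 (Subtype.ext hzM)
  · rw [← Subgroup.normalizer_eq_top_iff, eq_top_iff]
    intro g _
    by_contra hg
    refine h0 (le_bot_iff.mp ?_)
    rw [← hTI g hg]
    refine le_inf (Lib.PSolvable.pCore_le_sylow P) ?_
    rw [← Sylow.coe_subgroup_smul]
    exact Lib.PSolvable.pCore_le_sylow (g • P)

end Cfsg.Agent.S4748
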