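import Cfsg.Statements.S4754
import Cfsg.Agent.Lib.CharsElem
-- import your own Cfsg.Agent.* helpers here

set_option autoImplicit false
open Cfsg

namespace Cfsg.Agent.S4754

open Cfsg.Agent.Lib.Chars Cfsg.Agent.Lib.CharsElem
open scoped ComplexConjugate

/-- For elements x, y of a finite group G, the conjugacy class of x y equals the set of all products of a conjugate of x with a conjugate of y if and only if χ(1) χ(a x a⁻¹ b y b⁻¹) = χ(x) χ(y) for all a, b ∈ G and every irreducible character χ. -/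
theorem result {G : Type*} [Group G] [Finite G] (x y : G) : (∀ z : G, IsConj (x * y) z ↔ ∃ a b : G, z = a * x * a⁻¹ * (b * y * b⁻¹)) ↔ ∀ (a b : G) (χ : Cfsg.IrrCharacter G), (χ : G → ℂ) 1 * (χ : G → ℂ) (a * x * a⁻¹ * (b * y * b⁻¹)) = (χ : G → ℂ) x * (χ : G → ℂ) y := by
  cases nonempty_fintype G
  constructor
  · intro h a b χ
    have hcl : ∀ z, IsConj (x * y) z → (χ : G → ℂ) z = (χ : G → ℂ) (x * y) :=
      fun z hz => isClassFunction_apply_eq (irr_isClassFunction χ) hz
    have h2 := sum_irr_mul_conj χ x y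
    rw [Finset.sum_congr rfl (g := fun _ => (χ : G → ℂ) (x * y)) fun g _ =>
        hcl _ ((h _).mpr ⟨1, g, by simp⟩),
      Finset.sum_const, Finset.card_univ, nsmul_eq_mul, Fintype.card_eq_nat_card,
      eq_div_iff (irr_apply_one_ne_zero χ), mul_assoc, mul_assoc] at h2
    rw [hcl _ ((h _).mpr ⟨a, b, rfl⟩), mul_comm, mul_left_cancel₀ natCard_ne_zero h2]
  · intro h z
    constructor
    · intro hz
      obtain ⟨c, rfl⟩ := isConj_iff.mp hz
      exact ⟨c, c, by group⟩
    · rintro ⟨a, b, rfl⟩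
      refine isConj_iff_irr.mpr fun χ => ?_
      refine mul_left_cancel₀ (irr_apply_one_ne_zero χ) ?_
      rw [h a b χ, ← h 1 1 χ]
      simp

end Cfsg.Agent.S4754
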