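import Cfsg.Statements.S4755
import Cfsg.Agent.Lib.CharsElem
-- import your own Cfsg.Agent.* helpers here

set_option autoImplicit false
open Cfsg

namespace Cfsg.Agent.S4755

open Cfsg.Agent.Lib.Chars Cfsg.Agent.Lib.CharsElem
open scoped ComplexConjugate

/-- Let x, y be non-identity elements of the finite group G such that χ(x' y') = χ(x') χ(y') for all conjugates x' of x, y' of y and every irreducible character χ. Then the conjugacy class of x y is the set of all products of a conjugate of x with a conjugate of y; every irreducible character of degree greater than 1 vanishes at x y; and the conjugacy class of x y is the coset of the commutator subgroup containing x y. -/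
theorem result {G : Type*} [Group G] [Finite G] (x y : G) (hx : x ≠ 1) (hy : y ≠ 1) (h : ∀ (a b : G) (χ : Cfsg.IrrCharacter G), (χ : G → ℂ) (a * x * a⁻¹ * (b * y * b⁻¹)) = (χ : G → ℂ) (a * x * a⁻¹) * (χ : G → ℂ) (b * y * b⁻¹)) : (∀ z : G, IsConj (x * y) z ↔ ∃ a b : G, z = a * x * a⁻¹ * (b * y * b⁻¹)) ∧ (∀ χ : Cfsg.IrrCharacter G, (χ : G → ℂ) 1 ≠ 1 → (χ : G → ℂ) (x * y) = 0) ∧ (∀ z : G, IsConj (x * y) z ↔ (x * y)⁻¹ * z ∈ commutator G) := by
  cases nonempty_fintype G
  have hc : ∀ (χ : Cfsg.IrrCharacter G) (a b : G),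
      (χ : G → ℂ) (a * x * a⁻¹ * (b * y * b⁻¹)) = (χ : G → ℂ) x * (χ : G → ℂ) y := fun χ a b => by
    rw [h a b χ, irr_isClassFunction χ x a, irr_isClassFunction χ y b]
  have hxy : ∀ χ : Cfsg.IrrCharacter G, (χ : G → ℂ) (x * y) = (χ : G → ℂ) x * (χ : G → ℂ) y :=
    fun χ => by simpa using hc χ 1 1
  have hvan : ∀ χ : Cfsg.IrrCharacter G, (χ : G → ℂ) 1 ≠ 1 → (χ : G → ℂ) (x * y) = 0 := by
    intro χ h1
    have h2 := sum_irr_mul_conj χ x y
    rw [Finset.sum_congr rfl (g := fun _ => (χ : G → ℂ) x * (χ : G → ℂ) y) fun g _ => by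
        simpa using hc χ 1 g,
      Finset.sum_const, Finset.card_univ, nsmul_eq_mul, Fintype.card_eq_nat_card,
      eq_div_iff (irr_apply_one_ne_zero χ)] at h2
    have h3 : (χ : G → ℂ) x * (χ : G → ℂ) y * (χ : G → ℂ) 1 = (χ : G → ℂ) x * (χ : G → ℂ) y :=
      mul_left_cancel₀ (natCard_ne_zero (G := G)) (by linear_combination h2)
    have h4 : (χ : G → ℂ) x * (χ : G → ℂ) y * ((χ : G → ℂ) 1 - 1) = 0 := by linear_combination h3
    rw [hxy χ]
    exact (mul_eq_zero.mp h4).resolve_right (sub_ne_zero.mpr h1)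
  refine ⟨fun z => ⟨fun hz => ?_, ?_⟩, hvan, fun z => ⟨fun hz => ?_, fun hz => ?_⟩⟩
  · obtain ⟨c, rfl⟩ := isConj_iff.mp hz
    exact ⟨c, c, by group⟩
  · rintro ⟨a, b, rfl⟩
    exact isConj_iff_irr.mpr fun χ => by rw [hxy χ, hc χ a b]
  · obtain ⟨c, rfl⟩ := isConj_iff.mp hz
    have h1 := Subgroup.commutator_mem_commutator (Subgroup.mem_top (x * y)⁻¹) (Subgroup.mem_top c)
    rw [← commutator_def, commutatorElement_def, inv_inv] at h1
    simpa [mul_assoc] using h1
  · by_contra hn
    have h0 := column_orthogonality_of_not_isConj hn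
    classical
    have key : ∀ χ : Cfsg.IrrCharacter G, (χ : G → ℂ) (x * y) * conj ((χ : G → ℂ) z) =
        (((if (χ : G → ℂ) 1 = 1 then Complex.normSq ((χ : G → ℂ) (x * y)) else 0 : ℝ)) : ℂ) := by
      intro χ
      split
      · rename_i h1
        have := map_mul_of_degree_one (irr_isCharacter χ) h1 (x * y) ((x * y)⁻¹ * z)
        rw [mul_inv_cancel_left, eq_one_of_mem_commutator (irr_isCharacter χ) h1 hz, mul_one]
          at this
        rw [this, Complex.mul_conj]
      · rename_i h1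
        rw [hvan χ h1, zero_mul, Complex.ofReal_zero]
    simp only [key, ← Complex.ofReal_sum, Complex.ofReal_eq_zero] at h0
    have := (Finset.sum_eq_zero_iff_of_nonneg fun χ _ => by
      split
      · exact Complex.normSq_nonneg _
      · exact le_rfl).mp h0 (trivialIrr G) (Finset.mem_univ _)
    simp at this

end Cfsg.Agent.S4755
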