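import Cfsg.Statements.S4756
import Cfsg.Agent.Lib.Codegree
import Cfsg.Agent.Lib.CharsElem
import Cfsg.Agent.Lib.Coprime.Quotient
import Cfsg.Agent.Lib.Coprime.Generation

set_option autoImplicit false
open Cfsg

namespace Cfsg.Agent.S4756

open scoped ComplexConjugate commutatorElement
open Cfsg.Agent.Lib

universe u

variable {G : Type u} [Group G]

/-- The centraliser order is the number of linear characters plus the rest of the column. -/
theorem column_split [Fintype G] [DecidablePred fun χ : IrrCharacter G => (χ : G → ℂ) 1 = 1] (g : G) :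
    ((Nat.card (Subgroup.centralizer ({g} : Set G)) : ℕ) : ℝ) = ((commutator G).index : ℝ) +
      ∑ χ ∈ Finset.univ.filter (fun χ : IrrCharacter G => ¬ (χ : G → ℂ) 1 = 1),
        Complex.normSq ((χ : G → ℂ) g) := by
  apply Complex.ofReal_injective
  have h := Chars.column_orthogonality_of_isConj (IsConj.refl g)
  rw [← Finset.sum_filter_add_sum_filter_not Finset.univ
    (fun χ : IrrCharacter G => (χ : G → ℂ) 1 = 1)] at h
  simp only [Complex.ofReal_natCast, Complex.ofReal_add, Complex.ofReal_sum]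
  rw [← h]
  congr 1
  · rw [Finset.sum_congr rfl (g := fun _ => (1 : ℂ)), Finset.sum_const, nsmul_one,
      ← Chars.card_linear_irr, Nat.card_eq_fintype_card, Fintype.card_subtype]
    intro χ hχ
    obtain ⟨f, hf⟩ := Chars.exists_hom_of_degree_one (Chars.irr_isCharacter χ)
      (Finset.mem_filter.mp hχ).2
    rw [hf, Complex.mul_conj, Complex.normSq_eq_norm_sq]
    simp [Chars.norm_hom_apply]
  · exact Finset.sum_congr rfl fun χ _ => Complex.mul_conj _

theorem exists_conj_mem_of_complement [Finite G] {p : ℕ} [hp : Fact p.Prime] (P A : Subgroup G)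
    [P.Normal] (hP : IsPGroup p P) (htop : A ⊔ P = ⊤) {g : G}
    (hg : (orderOf g).Coprime (Nat.card P)) : ∃ x : G, x⁻¹ * g * x ∈ A := by
  let Z := Subgroup.zpowers g
  have hZn : Z ≤ Subgroup.normalizer (P : Set G) := by
    rw [Subgroup.normalizer_eq_top_iff.mpr inferInstance]; exact le_top
  have hZs : Group.IsSolvable Z := by
    have : IsMulCommutative Z := inferInstanceAs (IsMulCommutative (Subgroup.zpowers g))
    exact Group.isSolvable_of_comm fun a b => IsMulCommutative.is_comm.comm a b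
  have htr : MulAction.IsPretransitive P (G ⧸ A) := by
    refine ⟨fun x y => ?_⟩
    obtain ⟨a, rfl⟩ := QuotientGroup.mk_surjective x
    obtain ⟨b, rfl⟩ := QuotientGroup.mk_surjective y
    have hmem : a⁻¹ * b ∈ ((P ⊔ A : Subgroup G) : Set G) := by
      rw [sup_comm, htop]; exact Subgroup.mem_top _
    rw [Subgroup.normal_mul] at hmem
    obtain ⟨u, hu, v, hv, huv⟩ := hmem
    refine ⟨⟨a * u * a⁻¹, (inferInstance : P.Normal).conj_mem u hu a⟩, ?_⟩
    show ((a * u * a⁻¹ * a : G) : G ⧸ A) = b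
    rw [QuotientGroup.eq, inv_mul_cancel_right]
    have hb : b = a * (u * v) := by rw [show u * v = a⁻¹ * b from huv, mul_inv_cancel_left]
    rw [hb]
    simpa [mul_assoc] using hv
  obtain ⟨x, hx⟩ := Coprime.exists_fixed_point_conj (A := Z) (K := P) (X := G ⧸ A) hZn
    (fun a k y => by
      obtain ⟨z, rfl⟩ := QuotientGroup.mk_surjective y
      show (((a : G) * ((k : G) * z) : G) : G ⧸ A) =
        (((a : G) * k * (a : G)⁻¹ * ((a : G) * z) : G) : G ⧸ A)
      congr 1
      group)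
    (by rwa [Nat.card_zpowers]) (Or.inl hZs) htr
  obtain ⟨z, rfl⟩ := QuotientGroup.mk_surjective x
  refine ⟨z, ?_⟩
  have h : ((g * z : G) : G ⧸ A) = z := hx ⟨g, Subgroup.mem_zpowers g⟩
  rw [QuotientGroup.eq] at h
  simpa [mul_assoc] using A.inv_mem h

/-- The characters that are not linear vanish outside `P`. -/
theorem vanish_of_structure [Fintype G] {p : ℕ} [hp : Fact p.Prime] (P : Sylow p G) (A : Subgroup G)
    [(P : Subgroup G).Normal] (hA : ∀ a ∈ A, ∀ b ∈ A, a * b = b * a)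
    (hsup : A ⊔ (P : Subgroup G) = ⊤)
    (hC : IsMulCommutative ↥((P : Subgroup G) ⊓ Subgroup.centralizer (A : Set G)))
    [hD : (⁅A, (P : Subgroup G)⁆).Normal]
    (hPCD : ((P : Subgroup G) ⊓ Subgroup.centralizer (A : Set G)) ⊔ ⁅A, (P : Subgroup G)⁆ =
      (P : Subgroup G))
    (hfpf : ∀ a ∈ A, a ≠ 1 → ∀ d ∈ ⁅A, (P : Subgroup G)⁆, a * d = d * a → d = 1)
    (χ : IrrCharacter G) (hχ : (χ : G → ℂ) 1 ≠ 1) (g : G) (hg : g ∉ (P : Subgroup G)) :
    (χ : G → ℂ) g = 0 := by
  classical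
  set D := ⁅A, (P : Subgroup G)⁆ with hDdef
  set C := (P : Subgroup G) ⊓ Subgroup.centralizer (A : Set G) with hCdef
  have hDle : D ≤ (P : Subgroup G) := Subgroup.commutator_le_right A (P : Subgroup G)
  have hG : commutator G ≤ D := by
    have hAC : A ⊔ C ≤ Subgroup.centralizer ((A ⊔ C : Subgroup G) : Set G) := by
      have h1 : A ⊔ C ≤ Subgroup.centralizer (A : Set G) :=
        sup_le (fun a ha => Subgroup.mem_centralizer_iff.mpr fun b hb => hA b hb a ha) inf_le_right
      have h2 : A ⊔ C ≤ Subgroup.centralizer (C : Set G) :=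
        sup_le (Subgroup.le_centralizer_iff.mp inf_le_right) (fun a ha =>
          Subgroup.mem_centralizer_iff.mpr fun b hb =>
            congrArg Subtype.val (hC.is_comm.comm ⟨b, hb⟩ ⟨a, ha⟩))
      exact sup_le (Subgroup.le_centralizer_iff.mp h1) (Subgroup.le_centralizer_iff.mp h2)
    have htop : (A ⊔ C).map (QuotientGroup.mk' D) = ⊤ := by
      rw [eq_top_iff, ← Subgroup.map_top_of_surjective _ (QuotientGroup.mk'_surjective D), ← hsup,
        ← hPCD, ← sup_assoc, Subgroup.map_sup _ D, QuotientGroup.map_mk'_self, sup_bot_eq]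
    have hcomm : (commutator G).map (QuotientGroup.mk' D) = ⊥ := by
      rw [commutator_def, Subgroup.map_commutator,
        Subgroup.map_top_of_surjective _ (QuotientGroup.mk'_surjective D), ← htop,
        ← Subgroup.map_commutator, Subgroup.commutator_eq_bot_iff_le_centralizer.mpr hAC,
        Subgroup.map_bot]
    rwa [Subgroup.map_eq_bot_iff, QuotientGroup.ker_mk'] at hcomm
  obtain ⟨k, hk⟩ := IsPGroup.iff_card.mp P.isPGroup'
  have hcopP : (Nat.card P).Coprime (P : Subgroup G).index := by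
    rw [hk]; exact (hp.out.coprime_iff_not_dvd.mpr P.not_dvd_index).pow_left k
  have hbound : Nat.card (Subgroup.centralizer ({g} : Set G)) ≤ (commutator G).index := by
    refine le_trans ?_ (Nat.le_of_dvd (Nat.pos_of_ne_zero Subgroup.index_ne_zero_of_finite)
      (Subgroup.index_dvd_of_le hG))
    refine Nat.card_le_card_of_injective
      (fun c : Subgroup.centralizer ({g} : Set G) => ((c : G) : G ⧸ D)) fun c c' h => ?_
    have hmem : (c : G)⁻¹ * c' ∈ D := QuotientGroup.eq.mp h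
    set d := (c : G)⁻¹ * c' with hd
    have hdg : d * g = g * d := by
      have : d ∈ Subgroup.centralizer ({g} : Set G) :=
        Subgroup.mul_mem _ (Subgroup.inv_mem _ c.2) c'.2
      exact Subgroup.mem_centralizer_singleton_iff.mp this
    set g' := g ^ p ^ k with hg'
    have hg'cop : (orderOf g').Coprime (Nat.card P) := by
      refine (hcopP.symm).coprime_dvd_left (orderOf_dvd_of_pow_eq_one ?_)
      rw [hg', ← pow_mul, ← hk, (P : Subgroup G).card_mul_index, pow_card_eq_one']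
    have hg'1 : g' ≠ 1 := fun h1 => hg (by
      have hz : IsPGroup p (Subgroup.zpowers g) := by
        obtain ⟨j, -, hj⟩ := (Nat.dvd_prime_pow hp.out).mp (orderOf_dvd_of_pow_eq_one h1)
        exact IsPGroup.of_card (n := j) (by rw [Nat.card_zpowers, hj])
      obtain ⟨R, hR⟩ := hz.exists_le_sylow
      have : R = P := by
        haveI := P.unique_of_normal inferInstance
        exact Subsingleton.elim _ _
      exact this ▸ hR (Subgroup.mem_zpowers g))
    obtain ⟨x, hx⟩ := exists_conj_mem_of_complement (P : Subgroup G) A P.isPGroup' hsup hg'cop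
    have hd1 : x⁻¹ * d * x = 1 := by
      refine hfpf _ hx (fun h1 => hg'1 ?_) _ ?_ ?_
      · calc g' = x * (x⁻¹ * g' * x) * x⁻¹ := by group
          _ = 1 := by rw [h1]; group
      · simpa using hD.conj_mem d hmem x⁻¹
      · have hc : Commute g' d := (Commute.pow_right (hdg : Commute d g) (p ^ k)).symm
        calc x⁻¹ * g' * x * (x⁻¹ * d * x) = x⁻¹ * (g' * d) * x := by group
          _ = x⁻¹ * (d * g') * x := by rw [hc.eq]
          _ = _ := by group
    have : d = 1 := by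
      calc d = x * (x⁻¹ * d * x) * x⁻¹ := by group
        _ = 1 := by rw [hd1]; group
    exact Subtype.ext (inv_mul_eq_one.mp this)
  have h := column_split g
  have hle : ((Nat.card (Subgroup.centralizer ({g} : Set G)) : ℕ) : ℝ) ≤ ((commutator G).index : ℝ) := by
    exact_mod_cast hbound
  have hz := (Finset.sum_eq_zero_iff_of_nonneg fun ψ _ => Complex.normSq_nonneg _).mp
    (le_antisymm (by linarith) (Finset.sum_nonneg fun ψ _ => Complex.normSq_nonneg _)) χ
    (Finset.mem_filter.mpr ⟨Finset.mem_univ _, hχ⟩)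
  exact Complex.normSq_eq_zero.mp hz

/-- The structure forced by multiplicativity, for nonabelian groups that are not `p`-groups. -/
theorem structure_of_mul [Fintype G]
    (hmul : ∀ (x y : G) (χ : Cfsg.IrrCharacter G), x ≠ 1 → y ≠ 1 →
      (∃ p q a b : ℕ, p.Prime ∧ q.Prime ∧ p ≠ q ∧ orderOf x = p ^ a ∧ orderOf y = q ^ b) →
      (χ : G → ℂ) (x * y) = (χ : G → ℂ) x * (χ : G → ℂ) y)
    (hnp : ¬ ∃ p : ℕ, p.Prime ∧ IsPGroup p G) (hnc : ¬ IsMulCommutative G) :
    ∃ (p : ℕ) (_ : Fact p.Prime) (P : Sylow p G) (A : Subgroup G), (P : Subgroup G).Normal ∧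
      IsCyclic ↥A ∧ A ≠ ⊥ ∧ (Nat.card ↥A).Coprime p ∧ A ⊔ (P : Subgroup G) = ⊤ ∧
      IsMulCommutative ↥((P : Subgroup G) ⊓ Subgroup.centralizer (A : Set G)) ∧
      (⁅A, (P : Subgroup G)⁆).Normal ∧
      ((P : Subgroup G) ⊓ Subgroup.centralizer (A : Set G)) ⊔ ⁅A, (P : Subgroup G)⁆ =
        (P : Subgroup G) ∧
      ((P : Subgroup G) ⊓ Subgroup.centralizer (A : Set G)) ⊓ ⁅A, (P : Subgroup G)⁆ = ⊥ ∧
      ∀ a ∈ A, a ≠ 1 → ∀ d ∈ ⁅A, (P : Subgroup G)⁆, a * d = d * a → d = 1 := by
  classical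
  choose e he0 he using fun χ : IrrCharacter G => Chars.isIrrCharacter_exists_degree_pos χ.2
  -- a nonlinear character vanishes on all but one prime
  have hprod : ∀ χ : IrrCharacter G, (χ : G → ℂ) 1 ≠ 1 → ∀ x y : G, x ≠ 1 → y ≠ 1 →
      (∃ p q a b : ℕ, p.Prime ∧ q.Prime ∧ p ≠ q ∧ orderOf x = p ^ a ∧ orderOf y = q ^ b) →
      (χ : G → ℂ) x * (χ : G → ℂ) y = 0 := by
    intro χ hχ x y hx hy hxy
    have h := CharsElem.sum_irr_mul_conj χ x y
    have hterm : ∀ g : G, (χ : G → ℂ) (x * (g * y * g⁻¹)) = (χ : G → ℂ) x * (χ : G → ℂ) y := by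
      intro g
      rw [hmul x (g * y * g⁻¹) χ hx (fun h => hy (conj_eq_one_iff.mp h)) ?_,
        Chars.irr_isClassFunction χ y g]
      obtain ⟨p, q, a, b, hp, hq, hpq, ha, hb⟩ := hxy
      exact ⟨p, q, a, b, hp, hq, hpq, ha, (MulEquiv.orderOf_eq (MulAut.conj g) y).trans hb⟩
    rw [Finset.sum_congr rfl fun g _ => hterm g, Finset.sum_const, Finset.card_univ, nsmul_eq_mul,
      Fintype.card_eq_nat_card, eq_div_iff (Chars.irr_apply_one_ne_zero χ), mul_assoc (Nat.card G : ℂ) ((χ : G → ℂ) x * _),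
      mul_assoc (Nat.card G : ℂ) ((χ : G → ℂ) x), mul_right_inj' Chars.natCard_ne_zero] at h
    by_contra h0
    exact hχ ((mul_eq_left₀ h0).mp h)
  have hprime : ∀ χ : IrrCharacter G, (χ : G → ℂ) 1 ≠ 1 → ∃ p : ℕ, p.Prime ∧
      ∀ (s : ℕ) (y : G), s.Prime → s ≠ p → (∃ b, orderOf y = s ^ b) → y ≠ 1 →
        (χ : G → ℂ) y = 0 := by
    intro χ hχ
    by_cases hex : ∃ (x : G) (p a : ℕ), p.Prime ∧ orderOf x = p ^ a ∧ x ≠ 1 ∧ (χ : G → ℂ) x ≠ 0
    · obtain ⟨x, p, a, hp, hx, hx1, hx0⟩ := hex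
      refine ⟨p, hp, fun s y hs hsp hy hy1 => ?_⟩
      obtain ⟨b, hb⟩ := hy
      exact (mul_eq_zero.mp (hprod χ hχ x y hx1 hy1
        ⟨p, s, a, b, hp, hs, Ne.symm hsp, hx, hb⟩)).resolve_left hx0
    · refine ⟨2, Nat.prime_two, fun s y hs _ hy hy1 => ?_⟩
      by_contra h0
      obtain ⟨b, hb⟩ := hy
      exact hex ⟨y, s, b, hs, hb, hy1, h0⟩
  have hcompl : ∀ (χ : IrrCharacter G) (p : ℕ), p.Prime →
      (∀ (s : ℕ) (y : G), s.Prime → s ≠ p → (∃ b, orderOf y = s ^ b) → y ≠ 1 →
        (χ : G → ℂ) y = 0) → ordCompl[p] (Nat.card G) ∣ e χ := by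
    intro χ p hp hvan
    refine (Nat.dvd_iff_prime_pow_dvd_dvd _ _).mpr fun s i hs hsi => ?_
    rcases Nat.eq_zero_or_pos i with rfl | hi
    · simp
    have hsp : s ≠ p := fun h => Nat.not_dvd_ordCompl hp Nat.card_pos.ne'
      ((dvd_pow_self p hi.ne').trans (h ▸ hsi))
    have : Fact s.Prime := ⟨hs⟩
    let Q : Sylow s G := default
    have : Fintype Q := Fintype.ofFinite _
    have hQ : s ^ i ∣ Nat.card Q := by
      rw [Q.card_eq_multiplicity]
      exact pow_dvd_pow s ((hs.pow_dvd_iff_le_factorization Nat.card_pos.ne').mp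
        (hsi.trans (Nat.ordCompl_dvd _ _)))
    refine hQ.trans ?_
    obtain ⟨m, hm⟩ := Chars.isCharacter_classInner_nat
      (Chars.isCharacter_restrict (Q : Subgroup G) (Chars.irr_isCharacter χ))
      (Chars.irr_isCharacter (Chars.trivialIrr (Q : Subgroup G)))
    simp only [classInner, Chars.trivialIrr_apply, map_one, mul_one] at hm
    rw [Finset.sum_eq_single (1 : (Q : Subgroup G)), OneMemClass.coe_one, he,
      inv_mul_eq_iff_eq_mul₀ Chars.natCard_ne_zero] at hm
    · exact ⟨m, by exact_mod_cast hm⟩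
    · intro a _ ha
      refine hvan s a hs hsp ?_ fun h => ha (Subtype.ext h)
      obtain ⟨b, hb⟩ := IsPGroup.iff_orderOf.mp Q.isPGroup' a
      exact ⟨b, by rw [← hb, Subgroup.orderOf_coe]⟩
    · simp
  obtain ⟨χ0, hχ0⟩ : ∃ χ : IrrCharacter G, (χ : G → ℂ) 1 ≠ 1 := by
    by_contra! h
    refine hnc ⟨⟨fun a b => ?_⟩⟩
    have hm : ∀ (χ : IrrCharacter G) (x y : G),
        (χ : G → ℂ) (x * y) = (χ : G → ℂ) x * (χ : G → ℂ) y := fun χ =>
      CharsElem.map_mul_of_degree_one (Chars.irr_isCharacter χ) (h χ)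
    have hz : a * b * a⁻¹ * b⁻¹ = 1 := by
      refine isConj_one_left.mp (Chars.isConj_iff_irr.mpr fun χ => ?_)
      simp only [hm]
      calc _ = (χ : G → ℂ) (a * a⁻¹) * (χ : G → ℂ) (b * b⁻¹) := by simp only [hm]; ring
        _ = _ := by simp [h χ]
    rwa [mul_inv_eq_one, mul_inv_eq_iff_eq_mul] at hz
  obtain ⟨p, hp, hp0⟩ := hprime χ0 hχ0
  have : Fact p.Prime := ⟨hp⟩
  have hall : ∀ χ : IrrCharacter G, (χ : G → ℂ) 1 ≠ 1 →
      ∀ (s : ℕ) (y : G), s.Prime → s ≠ p → (∃ b, orderOf y = s ^ b) → y ≠ 1 →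
        (χ : G → ℂ) y = 0 := by
    intro χ hχ
    obtain ⟨r, hr, hr0⟩ := hprime χ hχ
    by_cases hrp : r = p
    · exact hrp ▸ hr0
    exfalso
    have h1 := Nat.le_of_dvd (he0 χ0) (hcompl χ0 p hp hp0)
    have h2 := Nat.le_of_dvd (he0 χ) (hcompl χ r hr hr0)
    have : Nontrivial G := by
      by_contra h
      rw [not_nontrivial_iff_subsingleton] at h
      exact hnc ⟨⟨fun a b => Subsingleton.elim _ _⟩⟩
    have h3 := Codegree.degree_sq_lt χ0 (he χ0)
    have h4 := Codegree.degree_sq_lt χ (he χ)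
    have h5 : Nat.card G ∣ ordCompl[p] (Nat.card G) * ordCompl[r] (Nat.card G) := by
      refine (Nat.dvd_iff_prime_pow_dvd_dvd _ _).mpr fun s i hs hsi => ?_
      rcases Nat.eq_zero_or_pos i with rfl | hi
      · simp
      by_cases hsp : s = p
      · refine dvd_mul_of_dvd_right ((hs.pow_dvd_iff_le_factorization
          (Nat.ordCompl_pos r Nat.card_pos.ne').ne').mpr ?_) _
        rw [Nat.factorization_ordCompl, Finsupp.erase_ne (hsp ▸ Ne.symm hrp : s ≠ r)]
        exact (hs.pow_dvd_iff_le_factorization Nat.card_pos.ne').mp hsi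
      · refine dvd_mul_of_dvd_left ((hs.pow_dvd_iff_le_factorization
          (Nat.ordCompl_pos p Nat.card_pos.ne').ne').mpr ?_) _
        rw [Nat.factorization_ordCompl, Finsupp.erase_ne hsp]
        exact (hs.pow_dvd_iff_le_factorization Nat.card_pos.ne').mp hsi
    have h6 : Nat.card G ≤ e χ0 * e χ := (Nat.le_of_dvd (Nat.mul_pos
      (Nat.ordCompl_pos _ Nat.card_pos.ne') (Nat.ordCompl_pos _ Nat.card_pos.ne')) h5).trans
      (Nat.mul_le_mul h1 h2)
    have h7 : (e χ0 * e χ) * (e χ0 * e χ) < Nat.card G * Nat.card G := by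
      calc (e χ0 * e χ) * (e χ0 * e χ) = (e χ0 * e χ0) * (e χ * e χ) := by ring
        _ < _ := Nat.mul_lt_mul'' (by linarith) (by linarith)
    exact absurd (Nat.mul_le_mul h6 h6) (not_le.mpr h7)
  have hcent : ∀ (s : ℕ) (y : G), s.Prime → s ≠ p → (∃ b, orderOf y = s ^ b) → y ≠ 1 →
      Nat.card (Subgroup.centralizer ({y} : Set G)) = (commutator G).index := by
    intro s y hs hsp hy hy1
    have h := column_split y
    rw [Finset.sum_eq_zero fun χ hχ => by
      rw [hall χ (Finset.mem_filter.mp hχ).2 s y hs hsp hy hy1, map_zero], add_zero] at h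
    exact_mod_cast h
  -- the derived subgroup is a `p`-group
  have hGp : IsPGroup p (commutator G) := by
    have hsum : (Nat.card G : ℂ) = ((commutator G).index : ℂ) +
        ((∑ χ ∈ Finset.univ.filter (fun χ : IrrCharacter G => ¬ (χ : G → ℂ) 1 = 1),
          e χ * e χ : ℕ) : ℂ) := by
      rw [← Chars.sum_degree_sq, ← Finset.sum_filter_add_sum_filter_not Finset.univ
        (fun χ : IrrCharacter G => (χ : G → ℂ) 1 = 1)]
      congr 1
      · rw [Finset.sum_congr rfl (g := fun _ => (1 : ℂ)) fun χ hχ => by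
          rw [(Finset.mem_filter.mp hχ).2, one_pow], Finset.sum_const, nsmul_one,
          ← Chars.card_linear_irr, Nat.card_eq_fintype_card, Fintype.card_subtype]
      · push_cast
        exact Finset.sum_congr rfl fun χ _ => by rw [he, sq]
    rw [← Nat.cast_add, Nat.cast_inj] at hsum
    have hdvd : ordCompl[p] (Nat.card G) ∣ (commutator G).index := by
      have h2 : ordCompl[p] (Nat.card G) ∣
          ∑ χ ∈ Finset.univ.filter (fun χ : IrrCharacter G => ¬ (χ : G → ℂ) 1 = 1), e χ * e χ :=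
        Finset.dvd_sum fun χ hχ =>
          (hcompl χ p hp (hall χ (Finset.mem_filter.mp hχ).2)).mul_right _
      exact (Nat.dvd_add_left h2).mp (hsum ▸ Nat.ordCompl_dvd _ _)
    obtain ⟨t, ht⟩ := hdvd
    have h3 : Nat.card (commutator G) * t = p ^ (Nat.card G).factorization p := by
      refine Nat.eq_of_mul_eq_mul_right (Nat.ordCompl_pos p (Nat.card_pos (α := G)).ne') ?_
      rw [Nat.ordProj_mul_ordCompl_eq_self, mul_assoc, mul_comm t, ← ht, Subgroup.card_mul_index]
    obtain ⟨i, -, hi⟩ := (Nat.dvd_prime_pow hp).mp (Dvd.intro t h3)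
    exact IsPGroup.of_card hi
  let P : Sylow p G := default
  have hGP : commutator G ≤ (P : Subgroup G) := by
    obtain ⟨R, hR⟩ := hGp.exists_le_sylow
    obtain ⟨g, hg⟩ := MulAction.exists_smul_eq G R P
    intro x hx
    rw [← hg, Sylow.coe_subgroup_smul, Subgroup.mem_pointwise_smul_iff_inv_smul_mem]
    refine hR ?_
    simpa [MulAut.conj_inv_apply] using
      (inferInstance : (commutator G).Normal).conj_mem x hx g⁻¹
  have hPn : (P : Subgroup G).Normal := ⟨fun a ha g => by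
    have h1 : ⁅g, a⁆ ∈ (P : Subgroup G) :=
      hGP (Subgroup.commutator_mem_commutator (Subgroup.mem_top g) (Subgroup.mem_top a))
    rw [show g * a * g⁻¹ = ⁅g, a⁆ * a by simp [commutatorElement_def, mul_assoc]]
    exact Subgroup.mul_mem _ h1 ha⟩
  obtain ⟨j, hj⟩ := IsPGroup.iff_card.mp P.isPGroup'
  have hcopP : (Nat.card P).Coprime (P : Subgroup G).index := by
    rw [hj]; exact (hp.coprime_iff_not_dvd.mpr P.not_dvd_index).pow_left j
  obtain ⟨A, hA⟩ := Subgroup.exists_right_complement'_of_coprime (N := (P : Subgroup G)) hcopP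
  have hAcard : Nat.card A = (P : Subgroup G).index := hA.symm.index_eq_card.symm
  have hcopA : (Nat.card A).Coprime p := by
    rw [hAcard]; exact (hp.coprime_iff_not_dvd.mpr P.not_dvd_index).symm
  have hAP : A ⊔ (P : Subgroup G) = ⊤ := by rw [sup_comm]; exact hA.sup_eq_top
  obtain ⟨i, hi⟩ := IsPGroup.iff_card.mp hGp
  have hcopAD : (Nat.card A).Coprime (Nat.card (commutator G)) := by
    rw [hi]; exact hcopA.pow_right i
  have hcommem : ∀ a b : G, a * b * a⁻¹ * b⁻¹ ∈ commutator G := fun a b =>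
    Subgroup.commutator_mem_commutator (Subgroup.mem_top a) (Subgroup.mem_top b)
  have hAcomm : ∀ a ∈ A, ∀ b ∈ A, a * b = b * a := by
    intro a ha b hb
    have hmem : a * b * a⁻¹ * b⁻¹ ∈ A ⊓ commutator G :=
      ⟨Subgroup.mul_mem _ (Subgroup.mul_mem _ (Subgroup.mul_mem _ ha hb) (Subgroup.inv_mem _ ha))
        (Subgroup.inv_mem _ hb), hcommem a b⟩
    rw [disjoint_iff.mp (Subgroup.disjoint_of_coprime_natCard hcopAD), Subgroup.mem_bot,
      mul_inv_eq_one, mul_inv_eq_iff_eq_mul] at hmem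
    exact hmem
  have : IsMulCommutative A := ⟨⟨fun a b => Subtype.ext (hAcomm a a.2 b b.2)⟩⟩
  have hAne : A ≠ ⊥ := fun h => hnp ⟨p, hp, IsPGroup.of_card (n := j) (by
    rw [← (P : Subgroup G).card_mul_index, ← hAcard, h, Subgroup.card_bot, mul_one, hj])⟩
  -- fixed-point-free action on the derived subgroup
  have hfpf : ∀ a ∈ A, a ≠ 1 → ∀ d ∈ commutator G, a * d = d * a → d = 1 := by
    intro a ha ha1 d hd had
    obtain ⟨s, hs, hsa⟩ := Nat.exists_prime_and_dvd (fun h => ha1 (orderOf_eq_one_iff.mp h))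
    set b := a ^ (orderOf a / s) with hb
    have hbo : orderOf b = s := orderOf_pow_orderOf_div (orderOf_pos a).ne' hsa
    have hb1 : b ≠ 1 := fun h => hs.ne_one (by rw [← hbo, h, orderOf_one])
    have hsA : s ∣ Nat.card A := hsa.trans (A.orderOf_dvd_natCard ha)
    have hsp : s ≠ p := by
      rintro rfl
      exact hs.ne_one (Nat.eq_one_of_dvd_coprimes hcopA hsA dvd_rfl)
    have hc := hcent s b hs hsp ⟨1, by rw [hbo, pow_one]⟩ hb1
    let f : Subgroup.centralizer ({b} : Set G) → G ⧸ commutator G := fun c => ((c : G) : G ⧸ _)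
    have hsurj : Function.Surjective f := by
      intro q
      obtain ⟨x, rfl⟩ := QuotientGroup.mk_surjective q
      have hn : Subgroup.zpowers b ≤ Subgroup.normalizer ((commutator G : Subgroup G) : Set G) := by
        rw [Subgroup.normalizer_eq_top_iff.mpr inferInstance]; exact le_top
      have hz : (Nat.card (Subgroup.zpowers b)).Coprime (Nat.card (commutator G)) := by
        rw [Nat.card_zpowers, hbo]; exact hcopAD.coprime_dvd_left hsA
      obtain ⟨c, hc, hcN⟩ := Coprime.exists_centralizer_mem_leftCoset hn hz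
        (Or.inl (Group.isSolvable_of_comm fun a b => IsMulCommutative.is_comm.comm a b)) (k := x) fun z _ => by
          rw [show x⁻¹ * (z * x * z⁻¹) = x⁻¹ * z * x⁻¹⁻¹ * z⁻¹ by group]
          exact hcommem _ _
      refine ⟨⟨c, Subgroup.mem_centralizer_singleton_iff.mpr
        (Subgroup.mem_centralizer_iff.mp hc b (Subgroup.mem_zpowers b)).symm⟩, ?_⟩
      exact (QuotientGroup.eq.mpr hcN).symm
    have hbij := (Nat.bijective_iff_surjective_and_card f).mpr
      ⟨hsurj, hc.trans (Subgroup.index_eq_card _)⟩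
    have hdb : d ∈ Subgroup.centralizer ({b} : Set G) :=
      Subgroup.mem_centralizer_singleton_iff.mpr ((Commute.pow_left (had : Commute a d) _).symm)
    have := @hbij.1 ⟨d, hdb⟩ 1 (by
      show ((d : G) : G ⧸ commutator G) = ((1 : G) : G ⧸ commutator G)
      rw [QuotientGroup.eq, mul_one]
      exact Subgroup.inv_mem _ hd)
    exact congrArg Subtype.val this
  obtain ⟨⟨a0, ha0⟩, ha01⟩ := A.ne_bot_iff_exists_ne_one.mp hAne
  have ha01' : a0 ≠ 1 := fun h => ha01 (Subtype.ext h)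
  have hDeq : ⁅A, (P : Subgroup G)⁆ = commutator G := by
    refine le_antisymm (Subgroup.commutator_mono le_top le_top) fun x hx => ?_
    let f : commutator G → commutator G := fun d => ⟨a0 * d * a0⁻¹ * (d : G)⁻¹, hcommem _ _⟩
    have hinj : Function.Injective f := by
      intro d d' h
      have h' : a0 * (d : G) * a0⁻¹ * (d : G)⁻¹ = a0 * (d' : G) * a0⁻¹ * (d' : G)⁻¹ :=
        congrArg Subtype.val h
      refine Subtype.ext (inv_mul_eq_one.mp (hfpf a0 ha0 ha01' _
        (Subgroup.mul_mem _ (Subgroup.inv_mem _ d.2) d'.2) ?_))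
      calc a0 * ((d : G)⁻¹ * d') = (a0 * (d : G) * a0⁻¹)⁻¹ * (a0 * (d' : G) * a0⁻¹) * a0 := by group
        _ = (a0 * (d : G) * a0⁻¹)⁻¹ * ((a0 * (d : G) * a0⁻¹ * (d : G)⁻¹) * (d' : G)) * a0 := by
            rw [h', inv_mul_cancel_right]
        _ = _ := by group
    obtain ⟨d, hd⟩ := (Finite.injective_iff_surjective.mp hinj) ⟨x, hx⟩
    rw [show x = ⁅a0, (d : G)⁆ from (congrArg Subtype.val hd).symm]
    exact Subgroup.commutator_mem_commutator ha0 (hGP d.2)
  have hDne : commutator G ≠ ⊥ := fun h => hnc ⟨⟨fun x y => by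
    have := h ▸ hcommem x y
    rwa [Subgroup.mem_bot, mul_inv_eq_one, mul_inv_eq_iff_eq_mul] at this⟩⟩
  have hcyc : IsCyclic A := by
    by_contra hA'
    refine hDne (le_bot_iff.mp (Coprime.le_of_noncyclic hA' ?_ hcopAD fun x hx hx1 d hd => ?_))
    · rw [Subgroup.normalizer_eq_top_iff.mpr inferInstance]; exact le_top
    · exact Subgroup.mem_bot.mpr (hfpf x hx hx1 d hd.1
        (Subgroup.mem_centralizer_singleton_iff.mp hd.2).symm)
  set C := (P : Subgroup G) ⊓ Subgroup.centralizer (A : Set G) with hCdef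
  have hCD : C ⊓ commutator G = ⊥ := (Subgroup.eq_bot_iff_forall _).mpr fun d hd =>
    hfpf a0 ha0 ha01' d hd.2 (Subgroup.mem_centralizer_iff.mp hd.1.2 a0 ha0)
  refine ⟨p, inferInstance, P, A, hPn, hcyc, hAne, hcopA, hAP, ?_, ?_, ?_, ?_, ?_⟩
  · refine ⟨⟨fun c c' => Subtype.ext ?_⟩⟩
    have hmem : (c : G) * c' * (c : G)⁻¹ * (c' : G)⁻¹ ∈ C ⊓ commutator G :=
      ⟨Subgroup.mul_mem _ (Subgroup.mul_mem _ (Subgroup.mul_mem _ c.2 c'.2)
        (Subgroup.inv_mem _ c.2)) (Subgroup.inv_mem _ c'.2), hcommem _ _⟩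
    rwa [hCD, Subgroup.mem_bot, mul_inv_eq_one, mul_inv_eq_iff_eq_mul] at hmem
  · rw [hDeq]; infer_instance
  · rw [hDeq]
    refine le_antisymm (sup_le inf_le_left hGP) fun x hx => ?_
    have hn : A ≤ Subgroup.normalizer ((commutator G : Subgroup G) : Set G) := by
      rw [Subgroup.normalizer_eq_top_iff.mpr inferInstance]; exact le_top
    obtain ⟨c, hc, hcN⟩ := Coprime.exists_centralizer_mem_leftCoset hn hcopAD
      (Or.inl (Group.isSolvable_of_comm fun a b => IsMulCommutative.is_comm.comm a b)) (k := x) fun z _ => by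
        rw [show x⁻¹ * (z * x * z⁻¹) = x⁻¹ * z * x⁻¹⁻¹ * z⁻¹ by group]
        exact hcommem _ _
    have hcP : c ∈ (P : Subgroup G) := by simpa using Subgroup.mul_mem _ hx (hGP hcN)
    rw [show x = c * (x⁻¹ * c)⁻¹ by group]
    exact Subgroup.mul_mem_sup ⟨hcP, hc⟩ (Subgroup.inv_mem _ hcN)
  · rw [hDeq]; exact hCD
  · rw [hDeq]; exact hfpf

/-- For a finite group G the following are equivalent. (1) χ(x y) = χ(x) χ(y) for every irreducible character χ and all non-identity elements x, y of prime power orders for two different primes. (2) G is a p-group for some prime p, or G is abelian, or for some prime p: G = A P with P a normal Sylow p-subgroup and A a nontrivial cyclic subgroup of order prime to p such that, with C = C_P(A) and D = [A, P], one has P = C D, C abelian, D normal in G, C ∩ D = 1, and A acts fixed-point-freely on D (no non-identity element of A centralizes a non-identity element of D). -/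
theorem result {G : Type*} [Group G] [Finite G] : (∀ (x y : G) (χ : Cfsg.IrrCharacter G), x ≠ 1 → y ≠ 1 → (∃ p q a b : ℕ, p.Prime ∧ q.Prime ∧ p ≠ q ∧ orderOf x = p ^ a ∧ orderOf y = q ^ b) → (χ : G → ℂ) (x * y) = (χ : G → ℂ) x * (χ : G → ℂ) y) ↔ ((∃ p : ℕ, p.Prime ∧ IsPGroup p G) ∨ IsMulCommutative G ∨ ∃ (p : ℕ) (_ : Fact p.Prime) (P : Sylow p G) (A : Subgroup G), (P : Subgroup G).Normal ∧ IsCyclic ↥A ∧ A ≠ ⊥ ∧ (Nat.card ↥A).Coprime p ∧ A ⊔ (P : Subgroup G) = ⊤ ∧ IsMulCommutative ↥((P : Subgroup G) ⊓ Subgroup.centralizer (A : Set G)) ∧ (⁅A, (P : Subgroup G)⁆).Normal ∧ ((P : Subgroup G) ⊓ Subgroup.centralizer (A : Set G)) ⊔ ⁅A, (P : Subgroup G)⁆ = (P : Subgroup G) ∧ ((P : Subgroup G) ⊓ Subgroup.centralizer (A : Set G)) ⊓ ⁅A, (P : Subgroup G)⁆ = ⊥ ∧ ∀ a ∈ A, a ≠ 1 → ∀ d ∈ ⁅A, (P : Subgroup G)⁆, a * d = d * a → d = 1) := by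
  classical
  cases nonempty_fintype G
  constructor
  · intro hmul
    by_cases hnp : ∃ p : ℕ, p.Prime ∧ IsPGroup p G
    · exact Or.inl hnp
    by_cases hnc : IsMulCommutative G
    · exact Or.inr (Or.inl hnc)
    exact Or.inr (Or.inr (structure_of_mul hmul hnp hnc))
  · intro h x y χ hx hy hxy
    obtain ⟨p, q, a, b, hp, hq, hpq, ha, hb⟩ := hxy
    have hlinear : (χ : G → ℂ) 1 = 1 →
        (χ : G → ℂ) (x * y) = (χ : G → ℂ) x * (χ : G → ℂ) y := fun h1 =>
      CharsElem.map_mul_of_degree_one (Chars.irr_isCharacter χ) h1 x y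
    rcases h with ⟨r, hr, hG⟩ | hcomm | ⟨r, hr, P, A, hPn, hAcyc, -, -, hsup, hC, hDn, hPCD, -, hfpf⟩
    · exfalso
      haveI : Fact r.Prime := ⟨hr⟩
      obtain ⟨i, hi⟩ := IsPGroup.iff_orderOf.mp hG x
      obtain ⟨j, hj⟩ := IsPGroup.iff_orderOf.mp hG y
      have hpr : ∀ {p i a : ℕ} {z : G}, p.Prime → z ≠ 1 → orderOf z = p ^ a →
          orderOf z = r ^ i → p = r := fun {p i a z} hp hz ha hi => by
        have ha0 : a ≠ 0 := fun h => hz (orderOf_eq_one_iff.mp (by rw [ha, h, pow_zero]))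
        exact (Nat.prime_dvd_prime_iff_eq hp hr).mp
          (hp.dvd_of_dvd_pow (hi ▸ ha ▸ dvd_pow_self p ha0))
      exact hpq ((hpr hp hx ha hi).trans (hpr hq hy hb hj).symm)
    · exact hlinear (Chars.irr_apply_one_of_comm χ)
    · by_cases h1 : (χ : G → ℂ) 1 = 1
      · exact hlinear h1
      have hAc : ∀ a ∈ A, ∀ b ∈ A, a * b = b * a := fun a ha b hb =>
        congrArg Subtype.val ((IsCyclic.commGroup (α := A)).mul_comm ⟨a, ha⟩ ⟨b, hb⟩)
      have hvan := vanish_of_structure P A hAc hsup hC hPCD hfpf χ h1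
      have hmemP : ∀ {z : G} {s i : ℕ}, s.Prime → orderOf z = s ^ i → z ≠ 1 →
          z ∈ (P : Subgroup G) → s = r := fun {z s i} hs hz hz1 hzP => by
        obtain ⟨j, hj⟩ := IsPGroup.iff_orderOf.mp P.isPGroup' ⟨z, hzP⟩
        rw [Subgroup.orderOf_mk, hz] at hj
        have hi0 : i ≠ 0 := fun h => hz1 (orderOf_eq_one_iff.mp (by rw [hz, h, pow_zero]))
        exact (Nat.prime_dvd_prime_iff_eq hs hr.out).mp
          (hs.dvd_of_dvd_pow (hj ▸ dvd_pow_self s hi0))
      by_cases hxP : x ∈ (P : Subgroup G)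
      · have hyP : y ∉ (P : Subgroup G) := fun h =>
          hpq ((hmemP hp ha hx hxP).trans (hmemP hq hb hy h).symm)
        rw [hvan y hyP, mul_zero, hvan (x * y) fun h => hyP ?_]
        simpa using Subgroup.mul_mem _ (Subgroup.inv_mem _ hxP) h
      · rw [hvan x hxP, zero_mul]
        refine hvan (x * y) fun h => hxP ?_
        rw [← QuotientGroup.eq_one_iff] at h ⊢
        rw [QuotientGroup.mk_mul] at h
        have h1 : orderOf ((x : G ⧸ (P : Subgroup G))) ∣ p ^ a :=
          ha ▸ orderOf_map_dvd (QuotientGroup.mk' (P : Subgroup G)) x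
        have h2 : orderOf ((x : G ⧸ (P : Subgroup G))) ∣ q ^ b := by
          rw [eq_inv_of_mul_eq_one_left h, orderOf_inv]
          exact hb ▸ orderOf_map_dvd (QuotientGroup.mk' (P : Subgroup G)) y
        exact orderOf_eq_one_iff.mp (Nat.eq_one_of_dvd_coprimes
          (Nat.Coprime.pow a b ((Nat.coprime_primes hp hq).mpr hpq)) h1 h2)

end Cfsg.Agent.S4756
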