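import Cfsg.Statements.S4757
import Cfsg.Agent.Lib.Codegree
import Cfsg.Agent.Lib.KGV.Basic
import Cfsg.Agent.Lib.PSolvable.Core
-- import your own Cfsg.Agent.* helpers here

set_option autoImplicit false
open Cfsg

namespace Cfsg.Agent.S4757

open Cfsg.Agent.Lib.Chars Cfsg.Agent.Lib.Codegree
open scoped ComplexConjugate

/-- A perfect group's only linear character is trivial; conversely a non-perfect group has a
non-trivial one. -/
theorem exists_linear_ne_trivial {G : Type*} [Group G] [Finite G] (h : commutator G ≠ ⊤) :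
    ∃ φ : G →* ℂˣ, φ ≠ 1 := by
  by_contra hc
  push Not at hc
  refine h (Subgroup.index_eq_one.mp ?_)
  have : Subsingleton (G →* ℂˣ) := ⟨fun a b => (hc a).trans (hc b).symm⟩
  rw [← card_monoidHom_units, Nat.card_eq_one_iff_unique]
  exact ⟨this, ⟨1⟩⟩

/-- If `c = 2`, there is a linear character `-1` at `u`, and it is the only one not vanishing. -/
theorem structure_of_two {G : Type*} [Group G] [Finite G] (u : G) (hu : u ≠ 1)
    (hyp : ∀ χ : Cfsg.IrrCharacter G, (χ : G → ℂ) ≠ (fun _ => (1 : ℂ)) →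
      ((χ : G → ℂ) 1 - (χ : G → ℂ) u = 2 ∨ (χ : G → ℂ) u = 0)) :
    orderOf u = 2 ∧ Subgroup.zpowers u ⊔ Cfsg.oddCore G = ⊤ ∧
      Subgroup.centralizer ({u} : Set G) = Subgroup.zpowers u := by
  classical
  cases nonempty_fintype G
  choose m hm0 hm _hd using fun ψ : Cfsg.IrrCharacter G => irr_degree_dvd_card ψ
  set S := Finset.univ.filter fun ψ : Cfsg.IrrCharacter G => ψ ≠ trivialIrr G ∧ (ψ : G → ℂ) u ≠ 0
  have hS : ∀ ψ ∈ S, (ψ : G → ℂ) u = (m ψ : ℂ) - 2 := by
    intro ψ hψ
    simp only [S, Finset.mem_filter, Finset.mem_univ, true_and] at hψ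
    have h := (hyp ψ fun h => hψ.1 (Subtype.ext h)).resolve_right hψ.2
    rw [hm ψ] at h
    linear_combination -h
  -- orthogonality with the identity
  have horth := sum_degree_mul_irr (G := G) u
  rw [if_neg hu, ← Finset.add_sum_erase _ _ (Finset.mem_univ (trivialIrr G))] at horth
  have hrest : ∑ ψ ∈ Finset.univ.erase (trivialIrr G), (ψ : G → ℂ) 1 * (ψ : G → ℂ) u =
      ∑ ψ ∈ S, (ψ : G → ℂ) 1 * (ψ : G → ℂ) u := by
    refine (Finset.sum_subset (fun ψ hψ => ?_) fun ψ hψ hψS => ?_).symm
    · simp only [S, Finset.mem_filter, Finset.mem_univ, true_and] at hψ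
      exact Finset.mem_erase.mpr ⟨hψ.1, Finset.mem_univ _⟩
    · have : (ψ : G → ℂ) u = 0 := by
        by_contra h0
        exact hψS (by simp [S, (Finset.mem_erase.mp hψ).1, h0])
      rw [this, mul_zero]
  rw [hrest, Finset.sum_congr rfl fun ψ hψ => by rw [hS ψ hψ, hm ψ]] at horth
  simp only [trivialIrr_apply, mul_one] at horth
  have horth' : (1 : ℤ) + ∑ ψ ∈ S, (m ψ : ℤ) * ((m ψ : ℤ) - 2) = 0 := by exact_mod_cast horth
  have hne2 : ∀ ψ ∈ S, m ψ ≠ 2 := fun ψ hψ h2 => by
    have := hS ψ hψ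
    rw [h2, Nat.cast_ofNat, sub_self] at this
    simp only [S, Finset.mem_filter] at hψ
    exact hψ.2.2 this
  obtain ⟨ψ₀, hψ₀, hψ₀1⟩ : ∃ ψ ∈ S, m ψ = 1 := by
    by_contra h
    push Not at h
    have : 0 ≤ ∑ ψ ∈ S, (m ψ : ℤ) * ((m ψ : ℤ) - 2) := Finset.sum_nonneg fun ψ hψ => by
      have := h ψ hψ; have := hne2 ψ hψ; have := hm0 ψ
      have h3 : (3 : ℤ) ≤ m ψ := by omega
      nlinarith
    omega
  have hu1 : (ψ₀ : G → ℂ) u = -1 := by rw [hS ψ₀ hψ₀, hψ₀1]; norm_num
  -- a second linear member would give a third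
  have hlin : ∀ ψ ∈ S, m ψ = 1 → ψ = ψ₀ := by
    intro ψ hψ h1
    by_contra hne
    obtain ⟨φ, hφ⟩ := exists_hom_of_degree_one (irr_isCharacter ψ₀) (by rw [hm, hψ₀1, Nat.cast_one])
    obtain ⟨φ', hφ'⟩ := exists_hom_of_degree_one (irr_isCharacter ψ) (by rw [hm, h1, Nat.cast_one])
    have hne' : linIrr (φ * φ'⁻¹) ≠ trivialIrr G := by
      intro h
      refine hne (Subtype.ext ?_)
      rw [hφ, hφ']
      funext g
      have := congrFun (congrArg Subtype.val h) g
      simp only [linIrr, trivialIrr_apply, MonoidHom.mul_apply, MonoidHom.inv_apply,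
        Units.val_eq_one, mul_inv_eq_one] at this
      rw [this]
    have hval : (linIrr (φ * φ'⁻¹) : G → ℂ) u = 1 := by
      have e1 := congrFun hφ u
      have e2 := congrFun hφ' u
      rw [hu1] at e1
      rw [hS ψ hψ, h1] at e2
      have : φ u = φ' u := Units.ext (by rw [← e1, ← e2]; norm_num)
      simp [linIrr, this]
    rcases hyp _ (fun h => hne' (Subtype.ext h)) with h | h
    · rw [hval] at h
      have h' : (linIrr (φ * φ'⁻¹) : G → ℂ) 1 = 1 := by simp [linIrr]
      rw [h'] at h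
      norm_num at h
    · rw [hval] at h; exact one_ne_zero h
  have hrest0 : ∀ ψ ∈ S.erase ψ₀, 3 ≤ m ψ := by
    intro ψ hψ
    obtain ⟨hne, hψS⟩ := Finset.mem_erase.mp hψ
    have := hne2 ψ hψS; have := hm0 ψ
    have : m ψ ≠ 1 := fun h => hne (hlin ψ hψS h)
    omega
  have hS1 : S = {ψ₀} := by
    rw [← Finset.add_sum_erase _ _ hψ₀, hψ₀1] at horth'
    have hz : ∑ ψ ∈ S.erase ψ₀, (m ψ : ℤ) * ((m ψ : ℤ) - 2) = 0 := by push_cast at horth'; linarith
    have hem : S.erase ψ₀ = ∅ := by
      by_contra h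
      obtain ⟨ψ, hψ⟩ := Finset.nonempty_of_ne_empty h
      have := (Finset.sum_eq_zero_iff_of_nonneg fun ψ hψ => by
        have h3 : (3 : ℤ) ≤ m ψ := by exact_mod_cast hrest0 ψ hψ
        nlinarith).mp hz ψ hψ
      have h3 : (3 : ℤ) ≤ m ψ := by exact_mod_cast hrest0 ψ hψ
      nlinarith
    rw [← Finset.insert_erase hψ₀, hem]
    rfl
  -- the centralizer has order two
  have hcard : Nat.card (Subgroup.centralizer ({u} : Set G)) = 2 := by
    have h := column_orthogonality_of_isConj (IsConj.refl u)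
    rw [← Finset.sum_subset (Finset.subset_univ ({trivialIrr G, ψ₀} : Finset _)) (fun ψ _ hψ => ?_),
      Finset.sum_pair (fun h => (Finset.mem_filter.mp hψ₀).2.1 h.symm), hu1] at h
    · simp only [trivialIrr_apply, map_one, map_neg] at h
      norm_num at h
      rw [Nat.card_eq_fintype_card]; exact_mod_cast h.symm
    · have : (ψ : G → ℂ) u = 0 := by
        by_contra h0
        simp only [Finset.mem_insert, Finset.mem_singleton, not_or] at hψ
        have : ψ ∈ S := by simp [S, hψ.1, h0]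
        rw [hS1, Finset.mem_singleton] at this
        exact hψ.2 this
      rw [this, zero_mul]
  have hle : Subgroup.zpowers u ≤ Subgroup.centralizer ({u} : Set G) :=
    Subgroup.zpowers_le.mpr (Subgroup.mem_centralizer_singleton_iff.mpr rfl)
  have hord : orderOf u = 2 := by
    have h := Subgroup.card_dvd_of_le hle
    rw [Nat.card_zpowers, hcard] at h
    exact ((Nat.dvd_prime Nat.prime_two).mp h).resolve_left fun h1 => hu (orderOf_eq_one_iff.mp h1)
  have hCu : Subgroup.centralizer ({u} : Set G) = Subgroup.zpowers u :=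
    (Subgroup.eq_of_le_of_card_ge hle (by rw [Nat.card_zpowers, hord, hcard])).symm
  refine ⟨hord, ?_, hCu⟩
  have : Fact (Nat.Prime 2) := ⟨Nat.prime_two⟩
  -- the Sylow 2-subgroup has order two
  obtain ⟨P, hP⟩ := (IsPGroup.of_card (p := 2) (G := Subgroup.zpowers u) (n := 1)
    (by rw [Nat.card_zpowers, hord, pow_one])).exists_le_sylow
  have hu2 : u ∈ (P : Subgroup G) := hP (Subgroup.mem_zpowers u)
  have hPle : (P : Subgroup G) ≤ Subgroup.zpowers u := by
    have : Nontrivial (P : Subgroup G) := ⟨⟨⟨u, hu2⟩, 1, fun h => hu (congrArg Subtype.val h)⟩⟩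
    have := P.2.center_nontrivial
    obtain ⟨z, hz⟩ := exists_ne (1 : Subgroup.center (P : Subgroup G))
    have hzc : ((z : (P : Subgroup G)) : G) ∈ Subgroup.zpowers u := by
      rw [← hCu, Subgroup.mem_centralizer_singleton_iff]
      exact (congrArg Subtype.val (Subgroup.mem_center_iff.mp z.2 ⟨u, hu2⟩)).symm
    have hzu : ((z : (P : Subgroup G)) : G) = u := by
      obtain ⟨k, hk⟩ := Subgroup.mem_zpowers_iff.mp hzc
      rw [← hk, ← zpow_mod_orderOf u k, hord]
      rcases Int.emod_two_eq_zero_or_one k with h | h <;> simp only [Nat.cast_ofNat, h]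
      · exfalso
        refine hz (Subtype.ext (Subtype.ext ?_))
        rw [← hk, ← zpow_mod_orderOf u k, hord]
        simp [h]
      · simp
    intro x hx
    rw [← hCu, Subgroup.mem_centralizer_singleton_iff]
    have := congrArg Subtype.val (Subgroup.mem_center_iff.mp z.2 ⟨x, hx⟩)
    simp only [Subgroup.coe_mul, hzu] at this
    exact this
  -- the kernel of the linear character
  obtain ⟨φ, hφ⟩ := exists_hom_of_degree_one (irr_isCharacter ψ₀) (by rw [hm, hψ₀1, Nat.cast_one])
  have hphi2 : ∀ g, φ g = 1 ∨ φ g = φ u := by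
    intro g
    by_contra h
    push Not at h
    have hne : linIrr (φ * φ) = trivialIrr G := by
      by_contra hne
      have hval : (linIrr (φ * φ) : G → ℂ) u = 1 := by
        have e1 := congrFun hφ u
        rw [hu1] at e1
        simp [linIrr, ← e1]
      rcases hyp _ (fun h => hne (Subtype.ext h)) with h1 | h1
      · simp [hval] at h1
        simp [linIrr] at h1
      · rw [hval] at h1; exact one_ne_zero h1
    have h2 : (φ g : ℂ) * (φ g : ℂ) = 1 := by
      simpa [linIrr] using congrFun (congrArg Subtype.val hne) g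
    rcases mul_self_eq_one_iff.mp h2 with h3 | h3
    · exact h.1 (Units.ext h3)
    · exact h.2 (Units.ext (by rw [h3, ← congrFun hφ u, hu1]))
  have hker : φ.ker ≤ Cfsg.oddCore G := by
    refine Lib.PSolvable.le_pPrimeCore ?_
    rw [Nat.coprime_comm, Nat.prime_two.coprime_iff_not_dvd]
    intro h2
    obtain ⟨y, hy⟩ := exists_prime_orderOf_dvd_card' 2 h2
    rw [← Subgroup.orderOf_coe] at hy
    obtain ⟨Q, hQ⟩ := (IsPGroup.of_card (p := 2) (G := Subgroup.zpowers (y : G)) (n := 1)
      (by rw [Nat.card_zpowers, hy, pow_one])).exists_le_sylow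
    obtain ⟨g, hg⟩ := MulAction.exists_smul_eq G Q P
    have hmem : g * y * g⁻¹ ∈ Subgroup.zpowers u := hPle (by
      rw [← hg, Sylow.coe_subgroup_smul]
      exact Subgroup.smul_mem_pointwise_smul _ (MulAut.conj g) _ (hQ (Subgroup.mem_zpowers _)))
    obtain ⟨k, hk⟩ := Subgroup.mem_zpowers_iff.mp hmem
    have hk1 : φ (u ^ k) = 1 := by
      rw [hk, map_mul, map_mul, MonoidHom.mem_ker.mp y.2, map_inv, mul_one, mul_inv_cancel]
    rw [← zpow_mod_orderOf u k, hord] at hk hk1
    rcases Int.emod_two_eq_zero_or_one k with h | h <;>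
      simp only [Nat.cast_ofNat, h, zpow_zero, zpow_one] at hk hk1
    · rw [conj_eq_one_iff.mp hk.symm, orderOf_one] at hy; omega
    · have := congrFun hφ u
      rw [hk1, hu1] at this
      norm_num at this
  refine eq_top_iff.mpr fun g _ => ?_
  rcases hphi2 g with h | h
  · exact Subgroup.mem_sup_right (hker h)
  · have h3 : u⁻¹ * g ∈ φ.ker := by rw [MonoidHom.mem_ker, map_mul, map_inv, h, inv_mul_cancel]
    have h4 := Subgroup.mul_mem_sup (Subgroup.mem_zpowers u) (hker h3)
    rwa [mul_inv_cancel_left] at h4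

/-- If `G` is not perfect then `c = 2`. -/
theorem two_of_not_perfect {G : Type*} [Group G] [Finite G] (u : G) (hu : u ≠ 1) (c : ℂ)
    (hyp : ∀ χ : Cfsg.IrrCharacter G, (χ : G → ℂ) ≠ (fun _ => (1 : ℂ)) →
      ((χ : G → ℂ) 1 - (χ : G → ℂ) u = c ∨ (χ : G → ℂ) u = 0))
    (h : commutator G ≠ ⊤) : c = 2 := by
  classical
  cases nonempty_fintype G
  have hφu : ∀ φ : G →* ℂˣ, φ ≠ 1 → (φ u : ℂ) = 1 - c := by
    intro φ hφ
    have hne : (linIrr φ : G → ℂ) ≠ fun _ => (1 : ℂ) := fun h => hφ (MonoidHom.ext fun g =>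
      Units.ext (congrFun h g))
    rcases hyp (linIrr φ) hne with h1 | h1
    · simp [linIrr] at h1; linear_combination -h1
    · exact absurd h1 (Units.ne_zero (φ u))
  obtain ⟨φ, hφ⟩ := exists_linear_ne_trivial h
  have hc : c ≠ 0 := by
    rintro rfl
    choose m hm0 hm _hd using fun ψ : Cfsg.IrrCharacter G => irr_degree_dvd_card ψ
    have horth := sum_degree_mul_irr (G := G) u
    rw [if_neg hu] at horth
    have hreal : ∀ ψ : Cfsg.IrrCharacter G, (ψ : G → ℂ) 1 * (ψ : G → ℂ) u =
        ((if (ψ : G → ℂ) u = 0 then 0 else m ψ * m ψ : ℕ) : ℂ) := by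
      intro ψ
      split
      · simp [*]
      · rename_i h0
        by_cases htr : (ψ : G → ℂ) = fun _ => (1 : ℂ)
        · have h1 := hm ψ
          rw [htr] at h1 ⊢
          simp only at h1
          have : m ψ = 1 := by exact_mod_cast h1.symm
          simp [this]
        · have := (hyp ψ htr).resolve_right h0
          rw [show (ψ : G → ℂ) u = (ψ : G → ℂ) 1 by linear_combination -this, hm ψ]
          push_cast; ring
    simp only [hreal] at horth
    rw [← Nat.cast_sum, Nat.cast_eq_zero, Finset.sum_eq_zero_iff] at horth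
    simpa [(hm0 (trivialIrr G)).ne'] using horth (trivialIrr G) (Finset.mem_univ _)
  have h1 := hφu φ hφ
  have hsq : φ * φ = 1 := by
    by_contra hne
    have h2 := hφu _ hne
    rw [MonoidHom.mul_apply, Units.val_mul, h1] at h2
    have : (1 - c) * (1 - c - 1) = 0 := by linear_combination h2
    rcases mul_eq_zero.mp this with h3 | h3
    · exact Units.ne_zero (φ u) (h1.trans h3)
    · exact hc (by linear_combination -h3)
  have h3 : (φ u : ℂ) * (φ u : ℂ) = 1 := by
    rw [← Units.val_mul, ← MonoidHom.mul_apply, hsq]; simp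
  rw [h1] at h3
  rcases mul_self_eq_one_iff.mp h3 with h4 | h4
  · exact absurd (by linear_combination -h4) hc
  · linear_combination -h4


/-- Let u ≠ 1 be an element of the finite group G and c a complex number such that every non-principal irreducible character χ satisfies χ(1) − χ(u) = c or χ(u) = 0. Then the following are equivalent: (a) u has order 2, G is generated by u together with O(G), the largest normal subgroup of G of odd order, and the centralizer of u is {1, u}; (b) G is not perfect; (c) c = 2. -/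
theorem result {G : Type*} [Group G] [Finite G] (u : G) (hu : u ≠ 1) (c : ℂ) (hyp : ∀ χ : Cfsg.IrrCharacter G, (χ : G → ℂ) ≠ (fun _ => (1 : ℂ)) → ((χ : G → ℂ) 1 - (χ : G → ℂ) u = c ∨ (χ : G → ℂ) u = 0)) : ((orderOf u = 2 ∧ Subgroup.zpowers u ⊔ Cfsg.oddCore G = ⊤ ∧ Subgroup.centralizer ({u} : Set G) = Subgroup.zpowers u) ↔ commutator G ≠ ⊤) ∧ (commutator G ≠ ⊤ ↔ c = 2) := by
  have hab : commutator G ≠ ⊤ → c = 2 := two_of_not_perfect u hu c hyp
  have hca : c = 2 → orderOf u = 2 ∧ Subgroup.zpowers u ⊔ Cfsg.oddCore G = ⊤ ∧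
      Subgroup.centralizer ({u} : Set G) = Subgroup.zpowers u := fun hc =>
    structure_of_two u hu (hc ▸ hyp)
  have hba : (orderOf u = 2 ∧ Subgroup.zpowers u ⊔ Cfsg.oddCore G = ⊤ ∧
      Subgroup.centralizer ({u} : Set G) = Subgroup.zpowers u) → commutator G ≠ ⊤ := by
    rintro ⟨ho, htop, -⟩ hperf
    have : (Cfsg.oddCore G).Normal := by unfold Cfsg.oddCore; infer_instance
    set q := QuotientGroup.mk' (Cfsg.oddCore G)
    have hmap : Subgroup.zpowers (q u) = ⊤ := by
      have := congrArg (Subgroup.map q) htop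
      rw [Subgroup.map_sup, MonoidHom.map_zpowers, QuotientGroup.map_mk'_self, sup_bot_eq,
        Subgroup.map_top_of_surjective _ (QuotientGroup.mk'_surjective _)] at this
      exact this
    have hcomm : IsMulCommutative (G ⧸ Cfsg.oddCore G) := by
      refine ⟨⟨fun a b => ?_⟩⟩
      obtain ⟨i, rfl⟩ := Subgroup.mem_zpowers_iff.mp (hmap ▸ Subgroup.mem_top a)
      obtain ⟨j, rfl⟩ := Subgroup.mem_zpowers_iff.mp (hmap ▸ Subgroup.mem_top b)
      rw [← zpow_add, ← zpow_add, add_comm]
    have hle := Subgroup.Normal.quotient_commutative_iff_commutator_le.mp hcomm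
    rw [hperf] at hle
    have hmem : u ∈ Cfsg.oddCore G := hle (Subgroup.mem_top u)
    have hodd := (Lib.PSolvable.pPrimeCore_coprime (p := 2) (G := G))
    have hdvd : orderOf u ∣ Nat.card (Cfsg.oddCore G) := Subgroup.orderOf_dvd_natCard _ hmem
    rw [ho] at hdvd
    exact absurd (Nat.eq_one_of_dvd_coprimes hodd hdvd dvd_rfl) (by omega)
  exact ⟨⟨hba, fun h => hca (hab h)⟩, ⟨hab, fun h => hba (hca h)⟩⟩

end Cfsg.Agent.S4757
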