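import Cfsg.Statements.S4759
import Cfsg.Agent.Lib.ExtendExtraTwo.Main
import Cfsg.Agent.Lib.Chars.Basic
import Cfsg.Agent.Lib.CharExt.Inertia
-- import your own Cfsg.Agent.* helpers here

set_option autoImplicit false
open Cfsg

set_option autoImplicit false
open Cfsg.Agent Cfsg.Agent.Lib
open scoped commutatorElement

namespace Cfsg.Agent.S4759

/-- Let G be a finite group that is the semidirect product of a normal extraspecial 2-subgroup E and a complement H acting faithfully on E (no non-identity element of H centralizes E), and suppose H has a normal subgroup K of odd order with [E, K] = E. Then every faithful irreducible character θ of E (there is exactly one) extends to G: some irreducible character of G restricts to θ on E. -/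
theorem result {G : Type*} [Group G] [Finite G] (E H : Subgroup G) [E.Normal] (hE : Cfsg.IsExtraspecial 2 ↥E) (hEH : E ⊓ H = ⊥) (hEHtop : E ⊔ H = ⊤) (hfaith : ∀ h ∈ H, (∀ e ∈ E, h * e = e * h) → h = 1) (K : Subgroup G) (hKH : K ≤ H) (hKn : ∀ h ∈ H, ∀ k ∈ K, h * k * h⁻¹ ∈ K) (hKodd : Odd (Nat.card ↥K)) (hEK : ⁅E, K⁆ = E) (θ : Cfsg.IrrCharacter ↥E) (hθ : ∀ e : ↥E, (θ : ↥E → ℂ) e = (θ : ↥E → ℂ) 1 → e = 1) : ∃ χ : Cfsg.IrrCharacter G, ∀ e : ↥E, (χ : G → ℂ) e = (θ : ↥E → ℂ) e := by
  classical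
  have h2 : Fact (Nat.Prime 2) := ⟨Nat.prime_two⟩
  haveI hX : Fact (Lib.ExtraStruct.ExtraLike 2 ↥E) := ⟨Lib.ExtraStruct.extraLike_of_isExtraspecial hE⟩
  obtain ⟨z, hz, hz1⟩ := Lib.ExtraStruct.exists_center_ne_one hX.out
  let C : G →* MulAut ↥E := MulAut.conjNormal
  have hC : ∀ (g : G) (e : ↥E), ((C g e : ↥E) : G) = g * e * g⁻¹ := fun g e => MulAut.conjNormal_apply g e
  obtain ⟨d₀, σ₀, hσ₀, hσ₀c⟩ := ExtendExtraTwo.good_of_irr hz hz1 θ fun h => hz1 (hθ z h)
  -- the odd group of automorphisms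
  let K' : Subgroup (MulAut ↥E) := K.map C
  have hK' : ExtendExtraTwo.FPF K' := by
    refine ⟨hKodd.of_dvd_nat (Subgroup.card_map_dvd _ C), fun m hm => ?_⟩
    obtain ⟨w, rfl⟩ := ExtendExtraTwo.mk_surjective m
    let W : Subgroup ↥E :=
      { carrier := {e | Lib.ExtraTwoCoord.bit ⁅e, w⁆ = 0}
        one_mem' := by simp [Lib.ExtraTwoCoord.bit_eq_zero]
        mul_mem' := fun {a b} ha hb => by
          simp only [Set.mem_setOf_eq] at *
          rw [Lib.ExtraTwoCoord.bit_comm_mul_left hX.out, ha, hb, add_zero]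
        inv_mem' := fun {a} ha => by
          simp only [Set.mem_setOf_eq] at *
          have h := Lib.ExtraTwoCoord.bit_comm_mul_left hX.out a⁻¹ a w
          rw [inv_mul_cancel, ha, add_zero] at h
          rw [← h]
          simp [Lib.ExtraTwoCoord.bit_eq_zero] }
    have hle : ⁅E, K⁆ ≤ W.map E.subtype := by
      rw [Subgroup.commutator_le]
      intro e he k hk
      refine ⟨⟨e, he⟩ * C k ⟨e, he⟩⁻¹, ?_, ?_⟩
      · show Lib.ExtraTwoCoord.bit ⁅_, w⁆ = 0
        have hkm := hm (C k) (Subgroup.mem_map_of_mem C hk)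
        rw [ExtendExtraTwo.act_mk] at hkm
        have h1 : Lib.ExtraTwoCoord.bit ⁅C k ⟨e, he⟩⁻¹, w⁆ = Lib.ExtraTwoCoord.bit ⁅(⟨e, he⟩ : ↥E)⁻¹, w⁆ := by
          rw [← ExtendExtraTwo.bit_comm_congr rfl hkm, ← map_commutatorElement,
            ExtendExtraTwo.aut_center _ (hX.out.comm_mem _ _)]
        rw [Lib.ExtraTwoCoord.bit_comm_mul_left hX.out, h1, ← Lib.ExtraTwoCoord.bit_comm_mul_left hX.out,
          mul_inv_cancel]
        simp [Lib.ExtraTwoCoord.bit_eq_zero]
      · simp [hC, commutatorElement_def, mul_assoc]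
    refine ExtendExtraTwo.mk_eq_zero.2 (Subgroup.mem_center_iff.2 fun e => ?_)
    obtain ⟨e', he', hee⟩ := hle (show (e : G) ∈ ⁅E, K⁆ by rw [hEK]; exact e.2)
    have : e' = e := Subtype.ext hee
    subst this
    exact commutatorElement_eq_one_iff_mul_comm.1 (Lib.ExtraTwoCoord.bit_eq_zero.1 he')
  obtain ⟨P⟩ := (inferInstance : Nonempty (Sylow 2 ↥H))
  let ι : ↥(P : Subgroup ↥H) →* G := H.subtype.comp (P : Subgroup ↥H).subtype
  obtain ⟨d, ρ, hρ⟩ := ExtendExtraTwo.ext_main (Nat.card ↥E) ↥E rfl z hz hz1 K' hK' ↥(P : Subgroup ↥H) P.isPGroup'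
    (C.comp ι) (by
      rintro x _ ⟨k, hk, rfl⟩
      exact ⟨ι x * k * (ι x)⁻¹, hKn _ (x : ↥H).2 k hk, by simp [C, MonoidHom.comp_apply]⟩)
  set σ : Representation ℂ ↥E (Fin d → ℂ) := ρ.comp SemidirectProduct.inl with hσdef
  have := hρ.irreducible hz hz1
  have := hρ.nontrivial
  have hinv : ∀ (g : G) (n : ↥E), σ.character (MulAut.conjNormal g n) = σ.character n := by
    intro g n
    have hg : ExtendExtraTwo.Good z (σ.comp (C g).toMonoidHom : Representation ℂ ↥E (Fin d → ℂ)) :=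
      ⟨by show σ (C g z) = -1; rw [ExtendExtraTwo.aut_center _ hz]; exact hρ.map_z, hρ.degree⟩
    exact congrFun (hρ.char_eq hz hz1 hg) n
  have hsurj := CharExt.projG_surjective_of_invariant E σ hinv
  -- the subgroup of odd index with an extension
  let μ : ↥E ⋊[C.comp ι] ↥(P : Subgroup ↥H) →* G :=
    SemidirectProduct.lift E.subtype ι fun x => MonoidHom.ext fun e => by
      simp [C, MonoidHom.comp_apply]
  have hμ : Function.Injective μ := by
    rw [injective_iff_map_eq_one]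
    intro a ha
    have ha' : (a.left : G) * ι a.right = 1 := ha
    have h1 : (a.left : G) ∈ E ⊓ H := by
      refine Subgroup.mem_inf.2 ⟨a.left.2, ?_⟩
      rw [eq_inv_of_mul_eq_one_left ha']
      exact inv_mem (a.right : ↥H).2
    rw [hEH, Subgroup.mem_bot] at h1
    rw [h1, one_mul] at ha'
    exact SemidirectProduct.ext (Subtype.ext h1) (Subtype.ext (Subtype.ext ha'))
  let R : Representation ℂ ↥μ.range (Fin d → ℂ) := ρ.comp (MonoidHom.ofInjective hμ).symm.toMonoidHom
  have hER : E ≤ μ.range := fun e he => ⟨SemidirectProduct.inl ⟨e, he⟩, by simp [μ]⟩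
  have hR : ∀ n : ↥E, R ⟨(n : G), hER n.2⟩ = σ n := fun n => by
    show ρ ((MonoidHom.ofInjective hμ).symm _) = ρ (SemidirectProduct.inl n)
    congr 1
    rw [MulEquiv.symm_apply_eq]
    apply Subtype.ext
    rw [MonoidHom.ofInjective_apply]
    simp [μ]
  have hidx : ¬ 2 ∣ μ.range.index := by
    have h1 : Nat.card G = Nat.card ↥E * Nat.card ↥H :=
      (Subgroup.isComplement'_of_disjoint_and_mul_eq_univ (disjoint_iff.2 hEH)
        (by rw [← Subgroup.normal_mul, hEHtop, Subgroup.coe_top])).card_mul.symm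
    have h3 := Subgroup.card_mul_index μ.range
    rw [← Nat.card_congr (MonoidHom.ofInjective hμ).toEquiv, Nat.card_congr SemidirectProduct.equivProd,
      Nat.card_prod, h1, ← Subgroup.card_mul_index (P : Subgroup ↥H), mul_assoc] at h3
    rw [Nat.eq_of_mul_eq_mul_left Nat.card_pos (Nat.eq_of_mul_eq_mul_left Nat.card_pos h3)]
    exact P.not_dvd_index
  have hodd : ((μ.range.index : ℕ) : ℤ) ∈ CharExt.splitExponents E σ :=
    CharExt.index_mem_splitExponents E σ hsurj μ.range hER R hR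
  -- the determinant
  have hpow : ((4 * d : ℕ) : ℤ) ∈ CharExt.splitExponents E σ := by
    refine ⟨CharExt.detHom E σ ^ 4, fun n => ?_, fun c => ?_⟩
    · rw [MonoidHom.pow_apply, ← map_pow, ← map_pow]
      have h4 : n ^ 4 = 1 := by
        rw [show (4 : ℕ) = 2 * 2 from rfl, pow_mul, sq]
        exact Lib.ExtraTwoCoord.center_sq hX.out (hX.out.pow_mem n)
      rw [h4, map_one, map_one]
    · rw [MonoidHom.pow_apply, CharExt.detHom_inclScalar, Module.finrank_fin_fun, zpow_natCast, ← pow_mul,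
        mul_comm]
  obtain ⟨R', hR'⟩ := CharExt.exists_extension_of_one_mem E σ hsurj (CharExt.one_mem_of_forall_prime _ fun p hp => by
    rcases eq_or_ne p 2 with rfl | hp2
    · exact ⟨_, hodd, fun h => hidx (Int.natCast_dvd_natCast.1 h)⟩
    refine ⟨_, hpow, fun h => ?_⟩
    have h' := Int.natCast_dvd_natCast.1 h
    obtain ⟨k, hk⟩ := IsPGroup.iff_card.1 (Lib.Extraspecial.isPGroup hE)
    have hd : d ∣ 2 ^ k := by
      rw [← hk, ← hρ.degree, Module.finrank_fin_fun]
      exact Dvd.dvd.mul_left (dvd_pow_self d two_ne_zero) 2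
    rcases hp.dvd_mul.1 h' with h4 | h4
    · exact hp2 ((Nat.prime_dvd_prime_iff_eq hp Nat.prime_two).1 (hp.dvd_of_dvd_pow (show p ∣ 2 ^ 2 from h4)))
    · exact hp2 ((Nat.prime_dvd_prime_iff_eq hp Nat.prime_two).1 (hp.dvd_of_dvd_pow (h4.trans hd))))
  have hirr : R'.IsIrreducible := CharExt.isIrreducible_of_comp E.subtype R' (by
    have : (R'.comp E.subtype : Representation ℂ ↥E (Fin d → ℂ)) = σ := MonoidHom.ext hR'
    rw [this]; infer_instance)
  refine ⟨⟨R'.character, d, R', hirr, rfl⟩, fun e => ?_⟩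
  show LinearMap.trace ℂ _ (R' e) = _
  rw [hR' e, ← hσ₀c]
  exact congrFun (hσ₀.char_eq hz hz1 hρ) e

end Cfsg.Agent.S4759
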