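import Cfsg.Statements.S4762
import Cfsg.Agent.Lib.Codegree
import Cfsg.Agent.Lib.Core.Nilpotent
import Cfsg.Agent.Lib.KGV.Basic
import Cfsg.Agent.Lib.PGroup.Extraspecial
-- import your own Cfsg.Agent.* helpers here

set_option autoImplicit false
open Cfsg

namespace Cfsg.Agent.S4762

open Cfsg.Agent.Lib.Chars Cfsg.Agent.Lib.Codegree
open scoped ComplexConjugate commutatorElement

/-- In a nilpotent group a complement of a Sylow subgroup is normal. -/
theorem complement_normal {G : Type*} [Group G] [Finite G] [Group.IsNilpotent G] {p : ℕ}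
    [hp : Fact p.Prime] (P : Sylow p G) (K : Subgroup G)
    (hK : Subgroup.IsComplement' (P : Subgroup G) K) : K.Normal := by
  rw [← Subgroup.normalizer_eq_top_iff]
  by_contra hne
  have hcop : (Nat.card K).Coprime p := by
    rw [Nat.coprime_comm, hp.out.coprime_iff_not_dvd, ← hK.symm.index_eq_card]
    exact P.not_dvd_index
  obtain ⟨a, ha⟩ := IsPGroup.iff_card.mp P.2
  set N := Subgroup.normalizer (K : Set G) with hN
  have hidx : K.relIndex N ∣ p ^ a := by
    have h1 : K.relIndex N * N.index = K.index := Subgroup.relIndex_mul_index Subgroup.le_normalizer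
    rw [hK.index_eq_card, ha] at h1
    exact Dvd.intro _ h1
  -- every `p'`-element of the normalizer lies in `K`
  have hmem : ∀ y ∈ N, (orderOf y).Coprime p → y ∈ K := by
    intro y hy hyp
    have : (K.subgroupOf N).Normal := Subgroup.normal_in_normalizer
    have hq : (QuotientGroup.mk' (K.subgroupOf N) ⟨y, hy⟩) = 1 := by
      rw [← orderOf_eq_one_iff]
      refine Nat.eq_one_of_dvd_coprimes (hyp.pow_right a)
        ((orderOf_map_dvd _ _).trans (by rw [Subgroup.orderOf_mk])) ?_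
      refine (orderOf_dvd_natCard _).trans ?_
      rw [← Subgroup.index_eq_card]
      exact hidx
    exact Subgroup.mem_subgroupOf.mp ((QuotientGroup.eq_one_iff _).mp hq)
  have hlt := (Group.isNilpotent_of_finite_tfae.out 0 1 rfl rfl).mp (inferInstance : Group.IsNilpotent G)
    N (lt_top_iff_ne_top.mpr hne)
  obtain ⟨g, hg, hgN⟩ := SetLike.exists_of_lt hlt
  refine hgN ?_
  have h1 : ∀ g' : G, g' ∈ Subgroup.normalizer (N : Set G) → ∀ k ∈ K, g' * k * g'⁻¹ ∈ K := by
    intro g' hg' k hk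
    refine hmem _ ((Subgroup.mem_normalizer_iff.mp hg' k).mp (Subgroup.le_normalizer hk)) ?_
    have : orderOf (g' * k * g'⁻¹) = orderOf k := MulEquiv.orderOf_eq (MulAut.conj g') k
    rw [this]
    exact hcop.coprime_dvd_left (Subgroup.orderOf_dvd_natCard K hk)
  rw [hN, Subgroup.mem_normalizer_iff]
  refine fun k => ⟨h1 g hg k, fun hk => ?_⟩
  simpa [mul_assoc] using h1 g⁻¹ (Subgroup.inv_mem _ hg) _ hk

/-- Multiplying by linear characters, a group with a single character of degree divisible by `p`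
is a `p`-group, if nilpotent. -/
theorem isPGroup_of_one {G : Type*} [Group G] [Finite G] [Group.IsNilpotent G] (p : ℕ)
    [hp : Fact p.Prime]
    (h : Nat.card {χ : Cfsg.IrrCharacter G // p ∣ Cfsg.charDegree (χ : G → ℂ)} = 1) :
    IsPGroup p G := by
  classical
  cases nonempty_fintype G
  obtain ⟨hsub, ⟨χ, hχ⟩⟩ := Nat.card_eq_one_iff_unique.mp h
  let P : Sylow p G := default
  obtain ⟨K, hK⟩ := Subgroup.exists_right_complement'_of_coprime (N := (P : Subgroup G))
    (P.card_coprime_index)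
  have := complement_normal P K hK
  by_contra hnp
  have hPne : (P : Subgroup G) ≠ ⊤ := fun ht => hnp fun g => by
    obtain ⟨k, hk⟩ := P.2 ⟨g, ht ▸ Subgroup.mem_top g⟩
    exact ⟨k, congrArg Subtype.val hk⟩
  -- `P` is not abelian
  obtain ⟨a, ha, b, hb, hab⟩ : ∃ a ∈ (P : Subgroup G), ∃ b ∈ (P : Subgroup G), a * b ≠ b * a := by
    by_contra hc
    push Not at hc
    obtain ⟨d, -, hd, hdvd⟩ := Lib.KGV.exists_degree_dvd_index (P : Subgroup G) hc χ
    rw [charDegree_eq hd] at hχ
    exact P.not_dvd_index (hχ.trans hdvd)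
  -- a character of `G ⧸ K` of degree divisible by `p`
  obtain ⟨ψ, hψ⟩ : ∃ ψ : Cfsg.IrrCharacter (G ⧸ K), (ψ : G ⧸ K → ℂ) 1 ≠ 1 := by
    by_contra hc
    push Not at hc
    have h1 := card_linear_irr (G := G ⧸ K)
    rw [Nat.card_congr (Equiv.subtypeUnivEquiv hc), card_irrCharacter] at h1
    have := Fintype.ofFinite (G ⧸ K)
    have h2 := sum_degree_sq (G := G ⧸ K)
    simp only [hc, one_pow, Finset.sum_const, Finset.card_univ, nsmul_eq_mul, mul_one,
      Nat.cast_inj, Fintype.card_eq_nat_card, card_irrCharacter] at h2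
    have h3 : commutator (G ⧸ K) = ⊥ := by
      have h4 := (commutator (G ⧸ K)).card_mul_index
      rw [← h1, h2] at h4
      exact Subgroup.card_eq_one.mp (Nat.eq_of_mul_eq_mul_right Nat.card_pos (by rw [h4, one_mul]))
    have h5 : ⁅a, b⁆ ∈ K := by
      rw [← QuotientGroup.eq_one_iff]
      change QuotientGroup.mk' K ⁅a, b⁆ = 1
      rw [map_commutatorElement, ← Subgroup.mem_bot, ← h3]
      exact Subgroup.commutator_mem_commutator (Subgroup.mem_top _) (Subgroup.mem_top _)
    have h6 : ⁅a, b⁆ ∈ (P : Subgroup G) ⊓ K := Subgroup.mem_inf.mpr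
      ⟨mul_mem (mul_mem (mul_mem ha hb) (inv_mem ha)) (inv_mem hb), h5⟩
    rw [disjoint_iff.mp hK.disjoint, Subgroup.mem_bot, commutatorElement_eq_one_iff_mul_comm] at h6
    exact hab h6
  obtain ⟨d, hd0, hd, hdvd⟩ := irr_degree_dvd_card ψ
  have hpd : p ∣ d := by
    obtain ⟨e, he⟩ := IsPGroup.iff_card.mp P.2
    rw [← Subgroup.index_eq_card, hK.index_eq_card, he] at hdvd
    obtain ⟨c, -, rfl⟩ := (Nat.dvd_prime_pow hp.out).mp hdvd
    refine dvd_pow_self p fun hc => hψ ?_
    rw [hd, hc, pow_zero, Nat.cast_one]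
  -- a nontrivial linear character of `G ⧸ P`
  have hPnorm : (P : Subgroup G).Normal := inferInstance
  have : Nontrivial (G ⧸ (P : Subgroup G)) := QuotientGroup.nontrivial_iff.mpr hPne
  obtain ⟨μ, hμ1, hμ⟩ : ∃ μ : Cfsg.IrrCharacter (G ⧸ (P : Subgroup G)),
      (μ : G ⧸ (P : Subgroup G) → ℂ) 1 = 1 ∧ μ ≠ trivialIrr _ := by
    by_contra hc
    push Not at hc
    have h1 : Nat.card {χ : Cfsg.IrrCharacter (G ⧸ (P : Subgroup G)) //
        (χ : G ⧸ (P : Subgroup G) → ℂ) 1 = 1} ≤ 1 :=
      Finite.card_le_one_iff_subsingleton.mpr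
        ⟨fun a b => Subtype.ext ((hc _ a.2).trans (hc _ b.2).symm)⟩
    rw [card_linear_irr] at h1
    have h2 : commutator (G ⧸ (P : Subgroup G)) = ⊤ := Subgroup.index_eq_one.mp
      (le_antisymm h1 (Nat.pos_of_ne_zero Subgroup.index_ne_zero_of_finite))
    exact (Group.IsSolvable.commutator_lt_top_of_nontrivial (G ⧸ (P : Subgroup G))).ne h2
  obtain ⟨φ, hφ⟩ := exists_hom_of_degree_one (irr_isCharacter (inflate (P : Subgroup G) μ))
    (by simpa [inflate] using hμ1)
  let χ₁ : Cfsg.IrrCharacter G := inflate K ψ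
  let χ₂ : Cfsg.IrrCharacter G :=
    ⟨fun g => (φ g : ℂ) * (χ₁ : G → ℂ) g, isIrrCharacter_hom_mul φ χ₁.2⟩
  have hd1 : (χ₁ : G → ℂ) 1 = d := by simpa [χ₁, inflate] using hd
  have h1 : p ∣ Cfsg.charDegree (χ₁ : G → ℂ) := by rw [charDegree_eq hd1]; exact hpd
  have h2 : p ∣ Cfsg.charDegree (χ₂ : G → ℂ) := by
    rw [charDegree_eq (d := d) (by simp [χ₂, hd1])]; exact hpd
  have heq : χ₂ = χ₁ := congrArg Subtype.val (Subsingleton.elim
    (⟨χ₂, h2⟩ : {χ : Cfsg.IrrCharacter G // p ∣ Cfsg.charDegree (χ : G → ℂ)}) ⟨χ₁, h1⟩)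
  have hφK : ∀ k ∈ K, (φ k : ℂ) = 1 := by
    intro k hk
    have h3 : (φ k : ℂ) * (χ₁ : G → ℂ) k = (χ₁ : G → ℂ) k :=
      congrFun (congrArg Subtype.val heq) k
    have h4 : (χ₁ : G → ℂ) k = d := by
      simp [χ₁, inflate, (QuotientGroup.eq_one_iff k).mpr hk, hd]
    rw [h4] at h3
    exact mul_right_cancel₀ (Nat.cast_ne_zero.mpr hd0.ne') (h3.trans (one_mul _).symm)
  have hφP : ∀ x ∈ (P : Subgroup G), (φ x : ℂ) = 1 := by
    intro x hx
    rw [← congrFun hφ x]
    simp [inflate, (QuotientGroup.eq_one_iff x).mpr hx, hμ1]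
  refine hμ (Subtype.ext (funext fun x => ?_))
  obtain ⟨g, rfl⟩ := QuotientGroup.mk_surjective x
  obtain ⟨⟨⟨y, hy⟩, ⟨k, hk⟩⟩, rfl⟩ := hK.2 g
  have := congrFun hφ (y * k)
  simp only [inflate, map_mul, Units.val_mul, hφP y hy, hφK k hk, mul_one] at this
  exact this

/-- Nilpotent groups with a single character of degree divisible by `p` are extraspecial
`2`-groups. -/
theorem extraspecial_of_one {G : Type*} [Group G] [Finite G] [Group.IsNilpotent G] (p : ℕ)
    [hp : Fact p.Prime]
    (h : Nat.card {χ : Cfsg.IrrCharacter G // p ∣ Cfsg.charDegree (χ : G → ℂ)} = 1) :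
    p = 2 ∧ Cfsg.IsExtraspecial 2 G := by
  classical
  cases nonempty_fintype G
  have hG := isPGroup_of_one p h
  obtain ⟨hsub, ⟨χ, hχ⟩⟩ := Nat.card_eq_one_iff_unique.mp h
  obtain ⟨a, ha⟩ := IsPGroup.iff_card.mp hG
  choose m hm0 hm hmd using fun ψ : Cfsg.IrrCharacter G => irr_degree_dvd_card ψ
  rw [charDegree_eq (hm χ)] at hχ
  have hlin : ∀ ψ, ψ ≠ χ → (ψ : G → ℂ) 1 = 1 := by
    intro ψ hne
    obtain ⟨c, -, hc⟩ := (Nat.dvd_prime_pow hp.out).mp (ha ▸ hmd ψ)
    rcases Nat.eq_zero_or_pos c with h0 | hpos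
    · rw [hm ψ, hc, h0, pow_zero, Nat.cast_one]
    · refine absurd ?_ hne
      have h1 : p ∣ Cfsg.charDegree (ψ : G → ℂ) := by
        rw [charDegree_eq (hm ψ), hc]; exact dvd_pow_self p hpos.ne'
      have h2 : p ∣ Cfsg.charDegree (χ : G → ℂ) := by rw [charDegree_eq (hm χ)]; exact hχ
      exact congrArg Subtype.val (Subsingleton.elim
        (⟨ψ, h1⟩ : {χ : Cfsg.IrrCharacter G // p ∣ Cfsg.charDegree (χ : G → ℂ)}) ⟨χ, h2⟩)
  set n := m χ with hn
  have hn1 : n ≠ 1 := fun h1 => hp.out.ne_one (Nat.dvd_one.mp (h1 ▸ hχ))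
  have hcount : (Finset.univ.erase χ).card = (commutator G).index := by
    rw [← card_linear_irr, Nat.card_eq_fintype_card, Fintype.card_subtype]
    congr 1
    ext ψ
    simp only [Finset.mem_erase, Finset.mem_univ, and_true, Finset.mem_filter, true_and]
    refine ⟨hlin ψ, fun h1 he => hn1 ?_⟩
    rw [he, hm χ] at h1
    exact_mod_cast h1
  set i := (commutator G).index with hi
  have hi0 : 0 < i := Nat.pos_of_ne_zero Subgroup.index_ne_zero_of_finite
  -- `|G| = i + n²`
  have hsum : i + n * n = Nat.card G := by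
    have h1 := sum_degree_sq (G := G)
    rw [← Finset.add_sum_erase _ _ (Finset.mem_univ χ),
      Finset.sum_congr rfl (g := fun _ => (1 : ℂ)) (fun ψ hψ => by
        rw [hlin ψ (Finset.mem_erase.mp hψ).1, one_pow]),
      Finset.sum_const, nsmul_eq_mul, mul_one, hcount, hm χ, sq, ← hn] at h1
    have : n * n + i = Nat.card G := by exact_mod_cast h1
    omega
  obtain ⟨e, -, he⟩ := (Nat.dvd_prime_pow hp.out).mp (ha ▸ hmd χ)
  obtain ⟨f, -, hf⟩ := (Nat.dvd_prime_pow hp.out).mp (ha ▸ Subgroup.index_dvd_card (commutator G))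
  obtain ⟨c, -, hc⟩ :=
    (Nat.dvd_prime_pow hp.out).mp (ha ▸ Subgroup.card_subgroup_dvd_card (commutator G))
  have hmul : p ^ c * i = Nat.card G := hc ▸ (commutator G).card_mul_index
  rw [← hn] at he
  rw [← hi] at hf
  obtain ⟨hp2, hc2⟩ : p = 2 ∧ Nat.card (commutator G) = 2 := by
    have hc0 : c ≠ 0 := fun h0 => by
      rw [h0, pow_zero, one_mul] at hmul
      have := hm0 χ
      nlinarith
    have h1 : p ^ f * (p ^ c - 1) = p ^ (e + e) := by
      have hA : i * p ^ c = i + n * n := by rw [mul_comm, hmul, hsum]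
      rw [Nat.mul_sub, mul_one, ← hf, hA, pow_add, ← he, Nat.add_sub_cancel_left]
    obtain ⟨j, -, hj⟩ := (Nat.dvd_prime_pow hp.out).mp (Dvd.intro_left _ h1)
    rcases Nat.eq_zero_or_pos j with rfl | hjpos
    · have h2 : p ^ c = 2 := by
        have := Nat.one_le_pow c p hp.out.pos
        rw [pow_zero] at hj; omega
      refine ⟨?_, hc.trans h2⟩
      exact (Nat.prime_dvd_prime_iff_eq hp.out Nat.prime_two).mp (h2 ▸ dvd_pow_self p hc0)
    · exfalso
      have h2 : p ∣ p ^ c - 1 := hj ▸ dvd_pow_self p hjpos.ne'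
      have h3 : p ∣ p ^ c := dvd_pow_self p hc0
      have := Nat.dvd_sub h3 h2
      rw [Nat.sub_sub_self (Nat.one_le_pow c p hp.out.pos)] at this
      exact hp.out.ne_one (Nat.dvd_one.mp this)
  subst hp2
  refine ⟨rfl, ?_⟩
  have hGi : Nat.card G = 2 * i := by rw [← (commutator G).card_mul_index, hc2]
  have hnn : n * n = i := by omega
  have hZ : commutator G ≤ Subgroup.center G := by
    intro z hz
    rw [Subgroup.mem_center_iff]
    intro g
    have : Subsingleton {w : commutator G // w ≠ 1} := by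
      rw [← Finite.card_le_one_iff_subsingleton, Nat.card_eq_fintype_card,
        Fintype.card_subtype_compl, Fintype.card_subtype_eq, Fintype.card_eq_nat_card, hc2]
    by_cases hz1 : z = 1
    · simp [hz1]
    have hconj : g * z * g⁻¹ ∈ commutator G :=
      Subgroup.Normal.conj_mem inferInstance z hz g
    have := Subsingleton.elim (⟨⟨z, hz⟩, fun h => hz1 (congrArg Subtype.val h)⟩ :
      {w : commutator G // w ≠ 1}) ⟨⟨g * z * g⁻¹, hconj⟩, fun h => hz1 (conj_eq_one_iff.mp
        (congrArg Subtype.val h))⟩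
    exact mul_inv_eq_iff_eq_mul.mp (congrArg (fun w => ((w.1 : commutator G) : G)) this).symm
  -- the centre is the derived subgroup
  have hcenter : Subgroup.center G ≤ commutator G := by
    intro z hz
    by_contra hzc
    have hz1 : z ≠ 1 := fun h => hzc (h ▸ (commutator G).one_mem)
    have hcol := column_orthogonality_of_isConj (IsConj.refl z)
    rw [show Subgroup.centralizer ({z} : Set G) = ⊤ from eq_top_iff.mpr fun g _ =>
      Subgroup.mem_centralizer_singleton_iff.mpr (Subgroup.mem_center_iff.mp hz g),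
      Subgroup.card_top, ← Finset.add_sum_erase _ _ (Finset.mem_univ χ),
      Finset.sum_congr rfl (g := fun _ => (1 : ℂ)) (fun ψ hψ => by
        obtain ⟨φ, hφ⟩ := exists_hom_of_degree_one (irr_isCharacter ψ)
          (hlin ψ (Finset.mem_erase.mp hψ).1)
        rw [congrFun hφ z, Complex.mul_conj, Complex.normSq_eq_norm_sq, norm_hom_apply]
        simp),
      Finset.sum_const, nsmul_eq_mul, mul_one, hcount, hGi] at hcol
    have hχz : (χ : G → ℂ) z ≠ 0 := fun h0 => by
      rw [h0] at hcol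
      simp only [map_zero, mul_zero, zero_add, Nat.cast_inj] at hcol
      omega
    -- some linear character separates `z` from `1`
    obtain ⟨φ, hφz⟩ : ∃ φ : G →* ℂˣ, φ z ≠ 1 := by
      by_contra hall
      push Not at hall
      refine hzc ((QuotientGroup.eq_one_iff z).mp (?_ : Abelianization.of z = 1))
      by_contra hne
      obtain ⟨φ, hφ⟩ := CommGroup.exists_apply_ne_one_of_hasEnoughRootsOfUnity
        (Abelianization G) ℂ hne
      exact hφ (hall (φ.comp Abelianization.of))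
    let χ₂ : Cfsg.IrrCharacter G := ⟨fun g => (φ g : ℂ) * (χ : G → ℂ) g, isIrrCharacter_hom_mul φ χ.2⟩
    have h2 : 2 ∣ Cfsg.charDegree (χ₂ : G → ℂ) := by
      rw [charDegree_eq (d := n) (by simp [χ₂, hn, hm χ])]; exact hχ
    have h1 : 2 ∣ Cfsg.charDegree (χ : G → ℂ) := by rw [charDegree_eq (hm χ)]; exact hχ
    have heq : χ₂ = χ := congrArg Subtype.val (Subsingleton.elim
      (⟨χ₂, h2⟩ : {χ : Cfsg.IrrCharacter G // 2 ∣ Cfsg.charDegree (χ : G → ℂ)}) ⟨χ, h1⟩)
    have h3 : (φ z : ℂ) * (χ : G → ℂ) z = (χ : G → ℂ) z := congrFun (congrArg Subtype.val heq) z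
    exact hφz (Units.ext (mul_right_cancel₀ hχz (h3.trans (one_mul _).symm)))
  have heqZ : commutator G = Subgroup.center G := le_antisymm hZ hcenter
  refine ⟨⟨hG, le_antisymm ?_ ?_, heqZ⟩, heqZ ▸ hc2⟩
  · refine Lib.Nilp.frattini_le_of_elementary_quotient (p := 2) _ hZ fun x => ?_
    rw [Subgroup.mem_center_iff]
    intro g
    set c := ⁅x, g⁆ with hcdef
    have hc : c ∈ commutator G :=
      Subgroup.commutator_mem_commutator (Subgroup.mem_top _) (Subgroup.mem_top _)
    have hcc : c * c = 1 := by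
      have h : (⟨c, hc⟩ : commutator G) ^ Nat.card (commutator G) = 1 := pow_card_eq_one'
      rw [hc2, sq] at h
      exact congrArg Subtype.val h
    have h1 : x * g = c * (g * x) := by simp [hcdef, commutatorElement_def, mul_assoc]
    have hcx : x * c = c * x := Subgroup.mem_center_iff.mp (hZ hc) x
    calc g * x ^ 2 = c * (c * (g * x)) * x := by rw [← mul_assoc c, hcc, one_mul, sq, mul_assoc]
      _ = c * (x * g) * x := by rw [h1]
      _ = x * (c * (g * x)) := by rw [← mul_assoc x, hcx]; simp [mul_assoc]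
      _ = x * (x * g) := by rw [h1]
      _ = x ^ 2 * g := by rw [sq, mul_assoc]
  · rw [← heqZ]
    exact (Lib.Nilp.commutator_le_and_pow_mem_frattini hG).1

/-- Extraspecial `2`-groups have a single nonlinear irreducible character. -/
theorem one_of_extraspecial {G : Type*} [Group G] [Finite G] (hE : Cfsg.IsExtraspecial 2 G) :
    Nat.card {χ : Cfsg.IrrCharacter G // 2 ∣ Cfsg.charDegree (χ : G → ℂ)} = 1 := by
  classical
  cases nonempty_fintype G
  obtain ⟨⟨hG, hfr, hcomm⟩, hZ2⟩ := hE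
  obtain ⟨a, ha⟩ := IsPGroup.iff_card.mp hG
  choose m hm0 hm hmd using fun ψ : Cfsg.IrrCharacter G => irr_degree_dvd_card ψ
  have hiff : ∀ ψ : Cfsg.IrrCharacter G, 2 ∣ Cfsg.charDegree (ψ : G → ℂ) ↔ m ψ ≠ 1 := fun ψ => by
    rw [charDegree_eq (hm ψ)]
    obtain ⟨c, -, hc⟩ := (Nat.dvd_prime_pow Nat.prime_two).mp (ha ▸ hmd ψ)
    rw [hc]
    rcases Nat.eq_zero_or_pos c with rfl | hpos
    · simp
    · exact ⟨fun _ => (Nat.one_lt_pow hpos.ne' one_lt_two).ne', fun _ => dvd_pow_self 2 hpos.ne'⟩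
  obtain ⟨z, hz, hz1⟩ : ∃ z ∈ Subgroup.center G, z ≠ 1 := by
    have : Nontrivial (Subgroup.center G) := Finite.one_lt_card_iff_nontrivial.mp (by omega)
    obtain ⟨z, hz⟩ := exists_ne (1 : Subgroup.center G)
    exact ⟨z, z.2, fun h => hz (Subtype.ext h)⟩
  have hzz : z * z = 1 := by
    have h : (⟨z, hz⟩ : Subgroup.center G) ^ Nat.card (Subgroup.center G) = 1 := pow_card_eq_one'
    rw [hZ2, sq] at h
    exact congrArg Subtype.val h
  have hZ : ∀ w ∈ Subgroup.center G, w = 1 ∨ w = z := by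
    intro w hw
    by_contra hc
    push Not at hc
    have : ({⟨w, hw⟩, ⟨z, hz⟩, 1} : Finset (Subgroup.center G)).card ≤ 2 := by
      rw [← hZ2, Nat.card_eq_fintype_card]; exact Finset.card_le_univ _
    rw [Finset.card_eq_three.mpr ⟨_, _, _, ?_, ?_, ?_, rfl⟩] at this
    · omega
    · simp [hc.2]
    · simp [hc.1]
    · simp [hz1]
  have hneg : ∀ ψ : Cfsg.IrrCharacter G, m ψ ≠ 1 →
      (∀ g : G, (ψ : G → ℂ) (z * g) = -((ψ : G → ℂ) g)) := by
    intro ψ hψ g
    obtain ⟨k, ρ, hρ, hρψ⟩ := ψ.2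
    obtain ⟨c, hc⟩ := exists_scalar_of_commute ρ (ρ z) fun h => by
      rw [← Module.End.mul_eq_comp, ← Module.End.mul_eq_comp, ← map_mul, ← map_mul,
        Subgroup.mem_center_iff.mp hz h]
    have hc2 : c * c = 1 := by
      have h1 : ρ (z * z) = 1 := by rw [hzz, map_one]
      rw [map_mul, hc, smul_mul_smul_comm, one_mul] at h1
      have h2 := congrArg (LinearMap.trace ℂ _) h1
      rw [map_smul, LinearMap.trace_one, smul_eq_mul] at h2
      exact mul_right_cancel₀ (Nat.cast_ne_zero.mpr (finrank_pos_of_isIrreducible ρ).ne')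
        (h2.trans (one_mul _).symm)
    have hc1 : c ≠ 1 := by
      intro h1
      refine hψ ?_
      have hker : ∀ x ∈ commutator G, ρ x = 1 := by
        intro x hx
        rw [hcomm] at hx
        rcases hZ x hx with rfl | rfl
        · exact map_one ρ
        · rw [hc, h1, one_smul]
      obtain ⟨ψ', hψ'⟩ := exists_irr_quotient (commutator G) ψ fun x hx => by
        rw [← hρψ, Representation.character, Representation.character, hker x hx, ρ.map_one]
      have : IsMulCommutative (G ⧸ commutator G) :=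
        Subgroup.Normal.quotient_commutative_iff_commutator_le.mpr le_rfl
      have h2 := irr_apply_one_of_comm ψ'
      rw [← QuotientGroup.mk_one, hψ', hm ψ] at h2
      exact_mod_cast h2
    have hcneg : c = -1 := (mul_self_eq_one_iff.mp hc2).resolve_left hc1
    rw [← hρψ, Representation.character, map_mul, hc, smul_mul_assoc, one_mul, map_smul, hcneg,
      smul_eq_mul, neg_one_mul]
    rfl
  have hvan : ∀ ψ : Cfsg.IrrCharacter G, m ψ ≠ 1 → ∀ g, g ∉ Subgroup.center G →
      (ψ : G → ℂ) g = 0 := by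
    intro ψ hψ g hg
    obtain ⟨x, hx⟩ : ∃ x : G, x * g ≠ g * x := by
      by_contra h
      push Not at h
      exact hg (Subgroup.mem_center_iff.mpr h)
    have hcm : ⁅x, g⁆ ∈ Subgroup.center G :=
      hcomm ▸ Subgroup.commutator_mem_commutator (Subgroup.mem_top _) (Subgroup.mem_top _)
    rcases hZ _ hcm with h1 | h1
    · exact absurd (commutatorElement_eq_one_iff_mul_comm.mp h1) hx
    · have h2 : z * g = x * g * x⁻¹ := by rw [← h1, commutatorElement_def]; group
      have h3 := hneg ψ hψ g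
      rw [h2, irr_isClassFunction ψ g x] at h3
      linear_combination (1 / 2 : ℂ) * h3
  refine Nat.card_eq_one_iff_unique.mpr ⟨⟨fun ψ ψ' => ?_⟩, ?_⟩
  · by_contra hne
    have hne' : ψ.1 ≠ ψ'.1 := fun h => hne (Subtype.ext h)
    have h0 := classInner_irr_of_ne hne'
    have hv := hvan _ ((hiff _).mp ψ.2)
    rw [Cfsg.classInner, mul_eq_zero] at h0
    replace h0 := h0.resolve_left (inv_ne_zero natCard_ne_zero)
    rw [← Finset.sum_subset (Finset.subset_univ ({1, z} : Finset G)) (fun g _ hg => ?_),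
      Finset.sum_pair hz1.symm] at h0
    · have e1 := hneg _ ((hiff _).mp ψ.2) 1
      have e2 := hneg _ ((hiff _).mp ψ'.2) 1
      rw [mul_one] at e1 e2
      rw [e1, e2, map_neg, neg_mul_neg, hm ψ.1, hm ψ'.1, map_natCast, ← two_mul] at h0
      have := hm0 ψ.1
      have := hm0 ψ'.1
      simp [Nat.pos_iff_ne_zero.mp, this] at h0
      omega
    · rw [hv g fun hgc => hg ?_, zero_mul]
      rcases hZ g hgc with rfl | rfl <;> simp
  · by_contra hemp
    rw [not_nonempty_iff] at hemp
    have hall : ∀ ψ : Cfsg.IrrCharacter G, m ψ = 1 := fun ψ => by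
      by_contra h; exact hemp.elim ⟨ψ, (hiff ψ).mpr h⟩
    have h0 := column_orthogonality_of_not_isConj (g := z) (h := 1)
      (fun hc => hz1 (isConj_one_left.mp hc))
    have hz' : z ∈ commutator G := hcomm ▸ hz
    simp only [hm, hall, Nat.cast_one, map_one, mul_one] at h0
    rw [Finset.sum_congr rfl (g := fun _ => (1 : ℂ)) fun ψ _ =>
      Lib.CharsElem.eq_one_of_mem_commutator (irr_isCharacter ψ) (by rw [hm, hall, Nat.cast_one]) hz'] at h0
    simp only [Finset.sum_const, Finset.card_univ, nsmul_eq_mul, mul_one, Nat.cast_eq_zero] at h0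
    exact (Fintype.card_pos_iff.mpr ⟨trivialIrr G⟩).ne' h0


/-- Let p be a prime and G a finite nilpotent group. Then G has exactly one irreducible complex character of degree divisible by p if and only if p = 2 and G is an extraspecial 2-group. -/
theorem result {G : Type*} [Group G] [Finite G] [Group.IsNilpotent G] (p : ℕ) [Fact p.Prime] : Nat.card {χ : Cfsg.IrrCharacter G // p ∣ Cfsg.charDegree (χ : G → ℂ)} = 1 ↔ (p = 2 ∧ Cfsg.IsExtraspecial 2 G) := by
  refine ⟨extraspecial_of_one p, ?_⟩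
  rintro ⟨rfl, hE⟩
  exact one_of_extraspecial hE

end Cfsg.Agent.S4762
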