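import Cfsg.Statements.S4763
import Cfsg.Agent.Lib.Codegree
import Cfsg.Agent.Lib.Clifford.Gallagher
import Cfsg.Agent.Lib.CharExt.CentralDegree
import Cfsg.Agent.S0887

set_option autoImplicit false
open Cfsg

namespace Cfsg.Agent.S4763

open scoped ComplexConjugate
open Cfsg.Agent.Lib

universe u

variable {G : Type u} [Group G]

omit [Group G] in
theorem card_image_eq_of_iff {α β ι : Type*} [DecidableEq α] [DecidableEq β] (R : Finset ι)
    (a : ι → α) (b : ι → β) (h : ∀ i ∈ R, ∀ j ∈ R, a i = a j ↔ b i = b j) :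
    (R.image a).card = (R.image b).card := by
  classical
  have ha : ((R.image fun i => (a i, b i)).image Prod.fst).card = (R.image fun i => (a i, b i)).card := by
    refine Finset.card_image_of_injOn fun u hu v hv huv => ?_
    obtain ⟨i, hi, rfl⟩ := Finset.mem_image.mp hu
    obtain ⟨j, hj, rfl⟩ := Finset.mem_image.mp hv
    exact Prod.ext huv ((h i hi j hj).mp huv)
  have hb : ((R.image fun i => (a i, b i)).image Prod.snd).card = (R.image fun i => (a i, b i)).card := by
    refine Finset.card_image_of_injOn fun u hu v hv huv => ?_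
    obtain ⟨i, hi, rfl⟩ := Finset.mem_image.mp hu
    obtain ⟨j, hj, rfl⟩ := Finset.mem_image.mp hv
    exact Prod.ext ((h i hi j hj).mpr huv) huv
  rw [Finset.image_image] at ha hb
  exact ha.trans hb.symm

theorem card_carrier_mk (g : G) :
    Nat.card (ConjClasses.mk g).carrier = (Subgroup.centralizer ({g} : Set G)).index := by
  rw [← Chars.card_conjClass_eq_index]
  exact Nat.card_congr (Equiv.subtypeEquivRight fun x => by
    rw [ConjClasses.mem_carrier_iff_mk_eq, ConjClasses.mk_eq_mk_iff_isConj, isConj_comm])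

/-- Centralizer orders summed over a union of classes count the classes. -/
theorem sum_card_centralizer [Fintype G] [DecidableEq (ConjClasses G)] (T : Finset G)
    (hT : ∀ g ∈ T, ∀ h, IsConj g h → h ∈ T) :
    ∑ g ∈ T, Nat.card (Subgroup.centralizer ({g} : Set G)) =
      Nat.card G * (T.image ConjClasses.mk).card := by
  classical
  rw [← Finset.sum_fiberwise_of_maps_to (g := ConjClasses.mk) (t := T.image ConjClasses.mk)
    (fun x hx => Finset.mem_image_of_mem _ hx),
    Finset.sum_congr rfl (g := fun _ => Nat.card G), Finset.sum_const, smul_eq_mul, mul_comm]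
  intro C hC
  obtain ⟨h, hh, rfl⟩ := Finset.mem_image.mp hC
  have hfil : T.filter (fun g => ConjClasses.mk g = ConjClasses.mk h) =
      Finset.univ.filter fun g => IsConj h g := by
    ext g
    simp only [Finset.mem_filter, Finset.mem_univ, true_and, ConjClasses.mk_eq_mk_iff_isConj]
    exact ⟨fun hg => hg.2.symm, fun hg => ⟨hT h hh g hg, hg.symm⟩⟩
  rw [hfil, Finset.sum_congr rfl (g := fun _ => Nat.card (Subgroup.centralizer ({h} : Set G)))
    fun g hg => Chars.card_centralizer_eq_of_isConj (Finset.mem_filter.mp hg).2.symm,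
    Finset.sum_const, smul_eq_mul, ← Fintype.card_subtype, ← Nat.card_eq_fintype_card,
    Chars.card_conjClass_eq_index, Chars.index_centralizer_mul_card]

/-- An element whose class has size prime to `p` has a conjugate centralised by `P`. -/
theorem exists_conj_commute [Finite G] {p : ℕ} [hp : Fact p.Prime] (P : Sylow p G) (h : G)
    (hh : ¬ p ∣ (Subgroup.centralizer ({h} : Set G)).index) :
    ∃ u : G, ∀ a ∈ (P : Subgroup G), a * (u * h * u⁻¹) = (u * h * u⁻¹) * a := by
  let C := Subgroup.centralizer ({h} : Set G)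
  let S : Sylow p C := default
  have hT : IsPGroup p ((S : Subgroup C).map C.subtype) := S.isPGroup'.map _
  have hidx : ¬ p ∣ ((S : Subgroup C).map C.subtype).index := by
    rw [Subgroup.index_map_subtype]
    exact hp.out.not_dvd_mul S.not_dvd_index hh
  obtain ⟨u, hu⟩ := MulAction.exists_smul_eq G (hT.toSylow hidx) P
  refine ⟨u, fun a ha => ?_⟩
  rw [← hu, Sylow.coe_subgroup_smul, Subgroup.mem_pointwise_smul_iff_inv_smul_mem] at ha
  have ha' : u⁻¹ * a * u ∈ C := by
    have := Subgroup.map_subtype_le _ ha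
    simpa [MulAut.conj_inv_apply] using this
  have := Subgroup.mem_centralizer_singleton_iff.mp ha'
  calc a * (u * h * u⁻¹) = u * ((u⁻¹ * a * u) * h) * u⁻¹ := by group
    _ = u * (h * (u⁻¹ * a * u)) * u⁻¹ := by rw [this]
    _ = _ := by group

/-- Conjugate elements centralised by `P` are conjugate by an element centralising `P`. -/
theorem conj_by_centralizer [Finite G] {p : ℕ} [Fact p.Prime] (P : Sylow p G) (N : Subgroup G)
    (hcomm : ∀ a b : G, a * b * a⁻¹ * b⁻¹ ∈ N) (hdisj : (P : Subgroup G) ⊓ N = ⊥) {y y' g : G}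
    (hy : ∀ a ∈ (P : Subgroup G), a * y = y * a) (hy' : ∀ a ∈ (P : Subgroup G), a * y' = y' * a)
    (hg : g * y * g⁻¹ = y') :
    ∃ w : G, (∀ a ∈ (P : Subgroup G), w * a = a * w) ∧ w * y * w⁻¹ = y' := by
  obtain ⟨m, hm, he⟩ := Sylow.conj_eq_normalizer_conj_of_mem_centralizer P y g⁻¹
    (Subgroup.mem_centralizer_iff.mpr hy)
    (Subgroup.mem_centralizer_iff.mpr fun a ha => by rw [inv_inv, hg]; exact hy' a ha)
  rw [inv_inv, hg] at he
  refine ⟨m⁻¹, fun a ha => ?_, by rw [inv_inv, he]⟩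
  have h1 : m⁻¹ * a * m⁻¹⁻¹ ∈ (P : Subgroup G) :=
    (Subgroup.mem_normalizer_iff.mp (inv_mem hm) a).mp ha
  have h2 : m⁻¹ * a * m⁻¹⁻¹ * a⁻¹ ∈ (P : Subgroup G) ⊓ N :=
    ⟨Subgroup.mul_mem _ h1 (Subgroup.inv_mem _ ha), hcomm _ _⟩
  rw [hdisj, Subgroup.mem_bot, mul_inv_eq_one, mul_inv_eq_iff_eq_mul] at h2
  exact h2

/-- Let p be a prime and G a finite group that is not nilpotent and has a normal p-complement (a normal subgroup of order prime to p and index a power of p). If G has exactly one irreducible complex character of degree divisible by p, then G has exactly one conjugacy class whose size is divisible by p. -/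
theorem result {G : Type*} [Group G] [Finite G] (p : ℕ) [Fact p.Prime] (hnil : ¬ Group.IsNilpotent G) (N : Subgroup G) [N.Normal] (hN : (Nat.card N).Coprime p) (hidx : ∃ k : ℕ, N.index = p ^ k) (hone : Nat.card {χ : Cfsg.IrrCharacter G // p ∣ Cfsg.charDegree (χ : G → ℂ)} = 1) : Nat.card {C : ConjClasses G // p ∣ Nat.card C.carrier} = 1 := by
  classical
  cases nonempty_fintype G
  have : Fintype N := Fintype.ofFinite _
  have hp : p.Prime := Fact.out
  obtain ⟨k, hk⟩ := hidx
  have hGcard : Nat.card G = Nat.card N * p ^ k := by rw [← hk, N.card_mul_index]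
  obtain ⟨hsub, ⟨⟨χ, hχ'⟩⟩⟩ := Nat.card_eq_one_iff_unique.mp hone
  have huniq' : ∀ ψ : IrrCharacter G, p ∣ Cfsg.charDegree (ψ : G → ℂ) → ψ = χ := fun ψ h =>
    congrArg Subtype.val (Subsingleton.elim (⟨ψ, h⟩ :
      {χ : Cfsg.IrrCharacter G // p ∣ Cfsg.charDegree (χ : G → ℂ)}) ⟨χ, hχ'⟩)
  choose d hd0 hd using fun ψ : IrrCharacter G => Chars.isIrrCharacter_exists_degree_pos ψ.2
  have hχp : p ∣ d χ := Codegree.charDegree_eq (hd χ) ▸ hχ'
  have huniq : ∀ ψ : IrrCharacter G, p ∣ d ψ → ψ = χ := fun ψ h =>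
    huniq' ψ (by rwa [Codegree.charDegree_eq (hd ψ)])
  have hNbot : N ≠ ⊥ := by
    intro h
    refine hnil (IsPGroup.isNilpotent (p := p) (IsPGroup.of_card (n := k) ?_))
    rw [hGcard, h, Subgroup.card_bot, one_mul]
  have hres : ∀ ψ : IrrCharacter G, ¬ p ∣ d ψ →
      IsIrrCharacter N (Clifford.resFun N (ψ : G → ℂ)) := by
    intro ψ hψ
    have hch : IsCharacter N (Clifford.resFun N (ψ : G → ℂ)) :=
      Chars.isCharacter_restrict N (Chars.irr_isCharacter ψ)
    obtain ⟨θ, hθ⟩ : ∃ θ : IrrCharacter N,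
        classInner (Clifford.resFun N (ψ : G → ℂ)) (θ : N → ℂ) ≠ 0 := by
      by_contra! h0
      have := congrFun (Chars.isCharacter_eq_sum_classInner hch) 1
      simp [h0, Clifford.resFun_apply, Chars.irr_apply_one_ne_zero] at this
    obtain ⟨dθ, hdθ0, hdθ⟩ := Chars.isIrrCharacter_exists_degree_pos θ.2
    obtain ⟨⟨e, he⟩, hdvd⟩ := S0887.result N _ ψ.2 _ θ.2 hθ (d ψ) dθ (hd ψ) hdθ
    rw [he, Nat.mul_div_cancel_left _ hdθ0, hk, Nat.dvd_prime_pow hp] at hdvd
    obtain ⟨j, -, rfl⟩ := hdvd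
    have hj : j = 0 := by
      by_contra hj
      exact hψ (he ▸ (dvd_pow_self p hj).mul_left _)
    obtain ⟨m, hm⟩ := Chars.isCharacter_classInner_nat hch (Chars.irr_isCharacter θ)
    have hsum := Clifford.sum_resFun_eq_orbit ψ.2 θ.2 hθ
    have h1 := congrFun hsum 1
    simp only [Clifford.resFun_apply, Pi.smul_apply, Finset.sum_apply, smul_eq_mul,
      OneMemClass.coe_one, hd ψ, hm] at h1
    rw [Finset.sum_congr rfl (g := fun _ => (dθ : ℂ)) (fun φ hφ => by
      obtain ⟨g, rfl⟩ := Clifford.mem_orbitFun.mp hφ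
      rw [Clifford.conjFun_apply_one, hdθ]), Finset.sum_const, nsmul_eq_mul, he, hj, pow_zero,
      mul_one, ← mul_assoc] at h1
    have h2 : m * (Clifford.orbitFun (G := G) (θ : N → ℂ)).card = 1 := by
      have : dθ = m * (Clifford.orbitFun (G := G) (θ : N → ℂ)).card * dθ := by exact_mod_cast h1
      exact Nat.eq_of_mul_eq_mul_right hdθ0 (by rw [one_mul]; exact this.symm)
    obtain ⟨hm1, horb⟩ := mul_eq_one.mp h2
    have horb' : Clifford.orbitFun (G := G) (θ : N → ℂ) = {(θ : N → ℂ)} := by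
      obtain ⟨z, hz⟩ := Finset.card_eq_one.mp horb
      have : (θ : N → ℂ) ∈ Clifford.orbitFun (G := G) (θ : N → ℂ) :=
        Clifford.mem_orbitFun.mpr ⟨1, Clifford.conjFun_one _⟩
      rw [hz, Finset.mem_singleton] at this
      rw [hz, this]
    rw [hsum, hm, hm1, horb', Finset.sum_singleton, Nat.cast_one, one_smul]
    exact θ.2
  -- the quotient has only linear characters
  have hlin : ∀ β : IrrCharacter (G ⧸ N), (β : G ⧸ N → ℂ) 1 = 1 := by
    intro β
    obtain ⟨m, -, hm, hdvd⟩ := Chars.irr_degree_dvd_card β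
    rw [← Subgroup.index_eq_card, hk, Nat.dvd_prime_pow hp] at hdvd
    obtain ⟨j, -, rfl⟩ := hdvd
    by_contra hne
    have hj : j ≠ 0 := fun h => hne (by rw [hm, h, pow_zero, Nat.cast_one])
    have hdi : d (Chars.inflate N β) = p ^ j := by
      have := (hd (Chars.inflate N β)).symm.trans
        ((Clifford.inflate_apply_mem β (1 : N)).trans hm)
      exact_mod_cast this
    have hiχ : Chars.inflate N β = χ := huniq _ (hdi ▸ dvd_pow_self p hj)
    have htriv : ∀ (ψ : IrrCharacter G) (n : N), (ψ : G → ℂ) n = (ψ : G → ℂ) 1 := by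
      intro ψ n
      by_cases hψ : p ∣ d ψ
      · rw [huniq ψ hψ, ← hiχ, Clifford.inflate_apply_mem,
          show (1 : G) = ((1 : N) : G) from rfl, Clifford.inflate_apply_mem]
      · let φ : IrrCharacter G := ⟨_, (Clifford.gallagher ψ.2 (hres ψ hψ)).1 β⟩
        have hφ : φ = χ := by
          refine huniq φ ?_
          have h1 : ((d φ : ℕ) : ℂ) = ((d ψ * p ^ j : ℕ) : ℂ) := by
            rw [← hd φ, Nat.cast_mul, ← hd ψ]
            show (ψ : G → ℂ) 1 * (Chars.inflate N β : G → ℂ) ((1 : N) : G) = _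
            rw [Clifford.inflate_apply_mem, hm]
          rw [Nat.cast_inj.mp h1]
          exact (dvd_pow_self p hj).mul_left _
        have key : ∀ x : N, (ψ : G → ℂ) x = 1 := by
          intro x
          have h := congrFun (congrArg Subtype.val (hφ.trans hiχ.symm)) (x : G)
          simp only [φ, Pi.mul_apply, Clifford.inflate_apply_mem] at h
          exact mul_eq_right₀ (Chars.irr_apply_one_ne_zero β) |>.mp h
        rw [key n, show (1 : G) = ((1 : N) : G) from rfl, key 1]
    refine hNbot ((Subgroup.eq_bot_iff_forall _).mpr fun n hn => ?_)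
    exact isConj_one_left.mp (Chars.isConj_iff_irr.mpr fun ψ => htriv ψ ⟨n, hn⟩)
  have hβmul : ∀ (β : IrrCharacter (G ⧸ N)) (a b : G ⧸ N),
      (β : G ⧸ N → ℂ) (a * b) = (β : G ⧸ N → ℂ) a * (β : G ⧸ N → ℂ) b := fun β =>
    CharsElem.map_mul_of_degree_one (Chars.irr_isCharacter β) (hlin β)
  have hcomm : ∀ a b : G, a * b * a⁻¹ * b⁻¹ ∈ N := by
    intro a b
    rw [← QuotientGroup.eq_one_iff]
    refine isConj_one_left.mp (Chars.isConj_iff_irr.mpr fun β => ?_)
    simp only [QuotientGroup.mk_mul, hβmul]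
    calc _ = (β : G ⧸ N → ℂ) ((a : G ⧸ N) * ((a⁻¹ : G) : G ⧸ N)) *
          (β : G ⧸ N → ℂ) ((b : G ⧸ N) * ((b⁻¹ : G) : G ⧸ N)) := by
          simp only [hβmul]; ring
      _ = _ := by simp [hlin]
  have hβnorm : ∀ (β : IrrCharacter (G ⧸ N)) (g : G),
      (Chars.inflate N β : G → ℂ) g * conj ((Chars.inflate N β : G → ℂ) g) = 1 := by
    intro β g
    change (β : G ⧸ N → ℂ) (g : G ⧸ N) * conj ((β : G ⧸ N → ℂ) (g : G ⧸ N)) = 1
    rw [← Chars.irr_inv, ← hβmul, mul_inv_cancel, hlin]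
  have hcardQ : Fintype.card (IrrCharacter (G ⧸ N)) = p ^ k := by
    cases nonempty_fintype (G ⧸ N)
    have h := Chars.sum_degree_sq (G := G ⧸ N)
    simp only [hlin, one_pow, Finset.sum_const, Finset.card_univ, nsmul_eq_mul, mul_one,
      ← Subgroup.index_eq_card, hk] at h
    exact_mod_cast h
  -- `χ` vanishes off `N`
  have hoffχ : ∀ g : G, g ∉ N → (χ : G → ℂ) g = 0 := by
    intro g hg
    obtain ⟨β, hβ⟩ : ∃ β : IrrCharacter (G ⧸ N), (β : G ⧸ N → ℂ) (g : G ⧸ N) ≠ 1 := by
      by_contra! h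
      exact hg ((QuotientGroup.eq_one_iff g).mp (isConj_one_left.mp
        (Chars.isConj_iff_irr.mpr fun β => by rw [h β, hlin])))
    obtain ⟨f, hf⟩ := Chars.exists_hom_of_degree_one
      (Chars.irr_isCharacter (Chars.inflate N β)) (by
        show (β : G ⧸ N → ℂ) ((1 : G) : G ⧸ N) = 1
        exact hlin β)
    let φ : IrrCharacter G := ⟨_, Chars.isIrrCharacter_hom_mul f χ.2⟩
    have hφ : φ = χ := by
      refine huniq φ ?_
      have h1 : ((d φ : ℕ) : ℂ) = (d χ : ℕ) := by
        rw [← hd φ, ← hd χ]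
        show (f 1 : ℂ) * _ = _
        rw [map_one, Units.val_one, one_mul]
      rw [Nat.cast_inj.mp h1]
      exact hχp
    have h := congrFun (congrArg Subtype.val hφ) g
    have hfg : (f g : ℂ) = (β : G ⧸ N → ℂ) (g : G ⧸ N) := (congrFun hf g).symm
    simp only [φ, hfg] at h
    by_contra h0
    exact hβ (by simpa [h0] using h)
  let S : Finset (IrrCharacter G) := Finset.univ.erase χ
  have hS : ∀ ψ : IrrCharacter G, ψ ∈ S ↔ ¬ p ∣ d ψ := fun ψ => by
    simp only [S, Finset.mem_erase, Finset.mem_univ, and_true]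
    exact ⟨fun h h' => h (huniq ψ h'), fun h h' => h (h' ▸ hχp)⟩
  have hfull : ∀ g : G, (Nat.card (Subgroup.centralizer ({g} : Set G)) : ℂ) =
      (χ : G → ℂ) g * conj ((χ : G → ℂ) g) + ∑ ψ ∈ S, (ψ : G → ℂ) g * conj ((ψ : G → ℂ) g) :=
    fun g => by
      rw [Finset.add_sum_erase _ (fun ψ : IrrCharacter G => (ψ : G → ℂ) g * conj ((ψ : G → ℂ) g))
        (Finset.mem_univ χ), Chars.column_orthogonality_of_isConj (IsConj.refl g)]
  -- classes off `N` have size prime to `p`
  have hoff : ∀ g : G, g ∉ N → ¬ p ∣ (Subgroup.centralizer ({g} : Set G)).index := by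
    intro g hg hdvd
    let R : IrrCharacter G → (N → ℂ) := fun ψ => Clifford.resFun N (ψ : G → ℂ)
    let w : IrrCharacter G → ℂ := fun ψ => (ψ : G → ℂ) g * conj ((ψ : G → ℂ) g)
    obtain ⟨a, ha, hsum⟩ : ∃ a : ℂ, IsIntegral ℤ a ∧ ∑ ψ ∈ S, w ψ = ((p ^ k : ℕ) : ℂ) * a := by
      rw [← Finset.sum_fiberwise_of_maps_to (g := R) (t := S.image R)
        (fun x hx => Finset.mem_image_of_mem _ hx)]
      refine Finset.sum_induction _ (fun z => ∃ a : ℂ, IsIntegral ℤ a ∧ z = ((p ^ k : ℕ) : ℂ) * a)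
        ?_ ⟨0, isIntegral_zero, (mul_zero _).symm⟩ ?_
      · rintro _ _ ⟨a, ha, rfl⟩ ⟨b, hb, rfl⟩
        exact ⟨a + b, ha.add hb, (mul_add _ _ _).symm⟩
      intro θ hθ
      obtain ⟨ψ, hψ, rfl⟩ := Finset.mem_image.mp hθ
      obtain ⟨hirr, hinj, hover⟩ := Clifford.gallagher ψ.2 (hres ψ ((hS ψ).mp hψ))
      let tw : IrrCharacter (G ⧸ N) → IrrCharacter G := fun β => ⟨_, hirr β⟩
      have htw : S.filter (fun φ => R φ = R ψ) = Finset.univ.image tw := by
        ext φ
        simp only [Finset.mem_filter, Finset.mem_image, Finset.mem_univ, true_and]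
        constructor
        · rintro ⟨-, h⟩
          have hne : classInner (R φ) (R ψ) ≠ 0 := by
            rw [h]
            simp only [R]
            rw [Chars.classInner_irr_self ⟨_, hres ψ ((hS ψ).mp hψ)⟩]
            exact one_ne_zero
          obtain ⟨β, hβ⟩ := (hover _ φ.2).mp hne
          exact ⟨β, Subtype.ext hβ.symm⟩
        · rintro ⟨β, rfl⟩
          have hval : ∀ n : N, ((tw β : IrrCharacter G) : G → ℂ) n = (ψ : G → ℂ) n := fun n => by
            show (ψ : G → ℂ) n * (Chars.inflate N β : G → ℂ) n = _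
            rw [Clifford.inflate_apply_mem, hlin, mul_one]
          refine ⟨(hS _).mpr fun h => (hS ψ).mp hψ ?_, funext hval⟩
          have h1 : ((d (tw β) : ℕ) : ℂ) = (d ψ : ℕ) := by
            rw [← hd, ← hd]; exact hval 1
          rwa [Nat.cast_inj.mp h1] at h
      refine ⟨w ψ, (Chars.irr_isIntegral ψ g).mul (Chars.isIntegral_conj
        (Chars.irr_isIntegral ψ g)), ?_⟩
      rw [htw, Finset.sum_image fun a _ b _ h => hinj (congrArg Subtype.val h),
        Finset.sum_congr rfl (g := fun _ => w ψ), Finset.sum_const, Finset.card_univ, hcardQ,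
        nsmul_eq_mul]
      intro β _
      show (ψ : G → ℂ) g * (Chars.inflate N β : G → ℂ) g *
        conj ((ψ : G → ℂ) g * (Chars.inflate N β : G → ℂ) g) = _
      rw [map_mul, mul_mul_mul_comm, hβnorm, mul_one]
    have hcard := hfull g
    rw [hoffχ g hg, zero_mul, zero_add, hsum] at hcard
    obtain ⟨m, hm⟩ := CharExt.dvd_of_mul_eq_natCast_of_isIntegral ha (pow_ne_zero k hp.ne_zero)
      hcard.symm
    have h1 := Chars.index_centralizer_mul_card g
    rw [hm, hGcard, mul_comm (p ^ k), ← mul_assoc] at h1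
    have h2 : _ = Nat.card N := Nat.eq_of_mul_eq_mul_right (pow_pos hp.pos k) h1
    exact Nat.Prime.not_coprime_iff_dvd.mpr ⟨p, hp, h2 ▸ hdvd.mul_right m, dvd_rfl⟩ hN
  -- counting classes in cosets
  let T : G → Finset G := fun x => Finset.univ.filter fun g => g * x⁻¹ ∈ N
  have hTmem : ∀ x g : G, g ∈ T x ↔ g * x⁻¹ ∈ N := fun x g => by simp [T]
  have hTconj : ∀ x g : G, g ∈ T x → ∀ h, IsConj g h → h ∈ T x := by
    intro x g hg h hh
    obtain ⟨c, rfl⟩ := isConj_iff.mp hh
    rw [hTmem] at hg ⊢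
    rw [show c * g * c⁻¹ * x⁻¹ = (c * g * c⁻¹ * g⁻¹) * (g * x⁻¹) by group]
    exact mul_mem (hcomm _ _) hg
  have hTsum : ∀ (x : G) (f : G → ℂ), ∑ g ∈ T x, f g = ∑ n : N, f ((n : G) * x) := by
    intro x f
    refine (Finset.sum_bij' (fun (n : N) _ => (n : G) * x)
      (fun g hg => (⟨g * x⁻¹, (hTmem x g).mp hg⟩ : N)) ?_ ?_ ?_ ?_ ?_).symm
    · intro n _; rw [hTmem, mul_inv_cancel_right]; exact n.2
    · intros; exact Finset.mem_univ _
    · intro n _; simp
    · intro g _; simp
    · intros; rfl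
  have hcoset : ∀ ψ ∈ S, ∀ x : G,
      ∑ n : N, (ψ : G → ℂ) ((n : G) * x) * conj ((ψ : G → ℂ) ((n : G) * x)) = (Nat.card N : ℂ) := by
    intro ψ hψ x
    obtain ⟨hirr, hinj, -⟩ := Clifford.gallagher ψ.2 (hres ψ ((hS ψ).mp hψ))
    have hγ : IsClassFunction G fun g => (ψ : G → ℂ) g * conj ((ψ : G → ℂ) g) :=
      Chars.isClassFunction_of_isCharacter (Chars.isCharacter_mul (Chars.irr_isCharacter ψ)
        (Chars.isCharacter_star (Chars.irr_isCharacter ψ)))
    have h := congrFun (Clifford.cosetAvg_eq_sum (N := N) hγ) x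
    have hone' : (ψ : G → ℂ) * (Chars.inflate N (Chars.trivialIrr (G ⧸ N)) : G → ℂ) = ψ := by
      funext g
      show (ψ : G → ℂ) g * (Chars.trivialIrr (G ⧸ N) : G ⧸ N → ℂ) (g : G ⧸ N) = _
      rw [Chars.trivialIrr_apply, mul_one]
    have hcoef : ∀ β : IrrCharacter (G ⧸ N),
        classInner (fun g => (ψ : G → ℂ) g * conj ((ψ : G → ℂ) g)) (Chars.inflate N β : G → ℂ) =
          if β = Chars.trivialIrr (G ⧸ N) then 1 else 0 := by
      intro β
      have h1 : classInner (fun g => (ψ : G → ℂ) g * conj ((ψ : G → ℂ) g))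
          (Chars.inflate N β : G → ℂ) =
          classInner (ψ : G → ℂ) ((⟨_, hirr β⟩ : IrrCharacter G) : G → ℂ) := by
        simp [classInner, mul_assoc]
      rw [h1, Chars.classInner_irr]
      refine if_congr ⟨fun e => hinj ?_, fun e => Subtype.ext ?_⟩ rfl rfl
      · exact (congrArg Subtype.val e).symm.trans hone'.symm
      · subst e; exact hone'.symm
    simp only [Finset.sum_apply, Pi.smul_apply, smul_eq_mul, hcoef, ite_mul, one_mul, zero_mul,
      Finset.sum_ite_eq', Finset.mem_univ, if_true] at h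
    rw [inv_mul_eq_iff_eq_mul₀ (Nat.cast_ne_zero.mpr Nat.card_pos.ne')] at h
    rw [h]
    show _ * (Chars.trivialIrr (G ⧸ N) : G ⧸ N → ℂ) (x : G ⧸ N) = _
    rw [Chars.trivialIrr_apply, mul_one]
  have hcount : ∀ x : G, ((Nat.card G * ((T x).image ConjClasses.mk).card : ℕ) : ℂ) =
      (∑ g ∈ T x, (χ : G → ℂ) g * conj ((χ : G → ℂ) g)) + (S.card * Nat.card N : ℕ) := by
    intro x
    rw [← sum_card_centralizer (T x) (hTconj x), Nat.cast_sum,
      Finset.sum_congr rfl fun g _ => hfull g, Finset.sum_add_distrib]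
    congr 1
    rw [Finset.sum_comm, Finset.sum_congr rfl fun ψ hψ => (hTsum x _).trans (hcoset ψ hψ x),
      Finset.sum_const, nsmul_eq_mul, Nat.cast_mul]
  -- a Sylow subgroup
  let P : Sylow p G := default
  have hdisj : (P : Subgroup G) ⊓ N = ⊥ := by
    obtain ⟨j, hj⟩ := IsPGroup.iff_card.mp P.isPGroup'
    refine disjoint_iff.mp (Subgroup.disjoint_of_coprime_natCard ?_)
    rw [hj]
    exact (hN.symm).pow_left j
  have hPab : ∀ a ∈ (P : Subgroup G), ∀ b ∈ (P : Subgroup G), a * b = b * a := by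
    intro a ha b hb
    have : a * b * a⁻¹ * b⁻¹ ∈ (P : Subgroup G) ⊓ N :=
      ⟨Subgroup.mul_mem _ (Subgroup.mul_mem _ (Subgroup.mul_mem _ ha hb) (Subgroup.inv_mem _ ha))
        (Subgroup.inv_mem _ hb), hcomm a b⟩
    rwa [hdisj, Subgroup.mem_bot, mul_inv_eq_one, mul_inv_eq_iff_eq_mul] at this
  obtain ⟨x, hxP, hx1⟩ : ∃ x ∈ (P : Subgroup G), x ≠ 1 := by
    have hPne : (P : Subgroup G) ≠ ⊥ := by
      refine P.ne_bot_of_dvd_card ?_
      obtain ⟨m, -, hm, hdvd⟩ := Chars.irr_degree_dvd_card χ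
      rw [hd χ, Nat.cast_inj] at hm
      exact hχp.trans (hm ▸ hdvd)
    exact (P : Subgroup G).ne_bot_iff_exists_ne_one.mp hPne |>.elim
      fun z hz => ⟨z, z.2, fun h => hz (Subtype.ext h)⟩
  have hxN : x ∉ N := fun h => hx1 (by simpa [hdisj] using (Subgroup.mem_inf.mpr ⟨hxP, h⟩))
  have hTN : ∀ g : G, g ∈ T 1 ↔ g ∈ N := fun g => by simp [hTmem]
  have hTx : ∀ g ∈ T x, g ∉ N := fun g hg hgN => hxN (by
    have h := mul_mem (inv_mem ((hTmem x g).mp hg)) hgN
    simpa using h)
  have hK : ((T 1).image ConjClasses.mk).card = ((T x).image ConjClasses.mk).card + 1 := by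
    have h1 := hcount 1
    have h2 := hcount x
    rw [Finset.sum_eq_zero fun g hg => by rw [hoffχ g (hTx g hg), zero_mul], zero_add] at h2
    have hG : (∑ g ∈ T 1, (χ : G → ℂ) g * conj ((χ : G → ℂ) g)) = (Nat.card G : ℂ) := by
      rw [Finset.sum_subset (Finset.subset_univ _) fun g _ hg => by
        rw [hoffχ g (fun h => hg ((hTN g).mpr h)), zero_mul]]
      have h := Chars.classInner_irr_self χ
      rw [classInner, inv_mul_eq_one₀ Chars.natCard_ne_zero] at h
      exact h.symm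
    rw [hG, ← h2, ← Nat.cast_add] at h1
    refine Nat.eq_of_mul_eq_mul_left (Nat.card_pos (α := G)) ?_
    rw [Nat.cast_inj.mp h1]
    ring
  -- elements of `N` centralised by `P`
  let R : Finset G := Finset.univ.filter fun c => c ∈ N ∧ ∀ a ∈ (P : Subgroup G), a * c = c * a
  have hR : ∀ c, c ∈ R ↔ c ∈ N ∧ ∀ a ∈ (P : Subgroup G), a * c = c * a := fun c => by simp [R]
  have hRx : ∀ c ∈ R, ∀ a ∈ (P : Subgroup G), a * (c * x) = c * x * a := fun c hc a ha => by
    rw [← mul_assoc, ((hR c).mp hc).2 a ha, mul_assoc, hPab a ha x hxP, mul_assoc]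
  have hab : ∀ i ∈ R, ∀ j ∈ R, ConjClasses.mk i = ConjClasses.mk j ↔
      ConjClasses.mk (i * x) = ConjClasses.mk (j * x) := by
    intro i hi j hj
    simp only [ConjClasses.mk_eq_mk_iff_isConj, isConj_iff]
    constructor
    · rintro ⟨g, hg⟩
      obtain ⟨w, hw, hwi⟩ :=
        conj_by_centralizer P N hcomm hdisj ((hR i).mp hi).2 ((hR j).mp hj).2 hg
      refine ⟨w, ?_⟩
      rw [← hwi]
      calc w * (i * x) * w⁻¹ = (w * i * w⁻¹) * (w * x * w⁻¹) := by group
        _ = _ := by rw [hw x hxP, mul_inv_cancel_right]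
    · rintro ⟨g, hg⟩
      obtain ⟨w, hw, hwi⟩ :=
        conj_by_centralizer P N hcomm hdisj (hRx i hi) (hRx j hj) hg
      refine ⟨w, mul_right_cancel (b := x) ?_⟩
      rw [← hwi]
      calc w * i * w⁻¹ * x = (w * i * w⁻¹) * (w * x * w⁻¹) := by rw [hw x hxP, mul_inv_cancel_right]
        _ = _ := by group
  have hsize : ∀ g : G, Nat.card (ConjClasses.mk g).carrier =
      (Subgroup.centralizer ({g} : Set G)).index := card_carrier_mk
  have hgood : ((T 1).image ConjClasses.mk).filter (fun C => ¬ p ∣ Nat.card C.carrier) =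
      R.image ConjClasses.mk := by
    ext C
    simp only [Finset.mem_filter, Finset.mem_image]
    constructor
    · rintro ⟨⟨g, hg, rfl⟩, hC⟩
      rw [hsize] at hC
      obtain ⟨u, hu⟩ := exists_conj_commute P g hC
      have huc : IsConj g (u * g * u⁻¹) := isConj_iff.mpr ⟨u, rfl⟩
      exact ⟨u * g * u⁻¹, (hR _).mpr ⟨(hTN _).mp (hTconj 1 g hg _ huc), hu⟩,
        (ConjClasses.mk_eq_mk_iff_isConj.mpr huc).symm⟩
    · rintro ⟨c, hc, rfl⟩
      refine ⟨⟨c, (hTN c).mpr ((hR c).mp hc).1, rfl⟩, fun h => P.not_dvd_index (h.trans ?_)⟩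
      rw [hsize]
      exact Subgroup.index_dvd_of_le fun a ha =>
        Subgroup.mem_centralizer_singleton_iff.mpr (((hR c).mp hc).2 a ha)
  have hbij : R.image (fun c => ConjClasses.mk (c * x)) = (T x).image ConjClasses.mk := by
    ext C
    simp only [Finset.mem_image]
    constructor
    · rintro ⟨c, hc, rfl⟩
      exact ⟨c * x, (hTmem x _).mpr (by rw [mul_inv_cancel_right]; exact ((hR c).mp hc).1), rfl⟩
    · rintro ⟨g, hg, rfl⟩
      obtain ⟨u, hu⟩ := exists_conj_commute P g (hoff g (hTx g hg))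
      have huc : IsConj g (u * g * u⁻¹) := isConj_iff.mpr ⟨u, rfl⟩
      refine ⟨u * g * u⁻¹ * x⁻¹, (hR _).mpr ⟨(hTmem x _).mp (hTconj x g hg _ huc), fun a ha => ?_⟩,
        by rw [inv_mul_cancel_right]; exact (ConjClasses.mk_eq_mk_iff_isConj.mpr huc).symm⟩
      rw [← mul_assoc, hu a ha, mul_assoc _ a x⁻¹, hPab a ha x⁻¹ (inv_mem hxP), ← mul_assoc]
  have hsing : (Finset.univ : Finset (ConjClasses G)).filter (fun C => p ∣ Nat.card C.carrier) =
      ((T 1).image ConjClasses.mk).filter (fun C => p ∣ Nat.card C.carrier) := by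
    ext C
    simp only [Finset.mem_filter, Finset.mem_univ, true_and, iff_and_self]
    intro h
    obtain ⟨g, rfl⟩ := ConjClasses.exists_rep C
    refine Finset.mem_image_of_mem _ ((hTN g).mpr ?_)
    by_contra hg
    exact hoff g hg (hsize g ▸ h)
  rw [Nat.card_eq_fintype_card, Fintype.card_subtype, hsing]
  have h := Finset.card_filter_add_card_filter_not (s := (T 1).image ConjClasses.mk)
    (fun C => p ∣ Nat.card C.carrier)
  rw [hgood, card_image_eq_of_iff R ConjClasses.mk (fun c => ConjClasses.mk (c * x)) hab, hbij,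
    hK] at h
  omega

end Cfsg.Agent.S4763
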