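import Cfsg.Statements.S4765
import Cfsg.Agent.Lib.RankSeries.PSLDegrees

set_option autoImplicit false
open Cfsg

namespace Cfsg.Agent.S4765

open Cfsg.Agent.Lib Cfsg.Agent.Lib.RankSeries Cfsg.Agent.Lib.SL2

/-- Let F be a finite field of characteristic p with at least 4 elements. Then PSL(2,F) has exactly one irreducible complex character of degree divisible by p, and its degree is the order of F. -/
theorem result (p : ℕ) [Fact p.Prime] (F : Type*) [Field F] [Fintype F] [CharP F p] (hF : 4 ≤ Fintype.card F) : Nat.card {χ : Cfsg.IrrCharacter (Matrix.ProjectiveSpecialLinearGroup (Fin 2) F) // p ∣ Cfsg.charDegree (χ : Matrix.ProjectiveSpecialLinearGroup (Fin 2) F → ℂ)} = 1 ∧ ∀ χ : Cfsg.IrrCharacter (Matrix.ProjectiveSpecialLinearGroup (Fin 2) F), p ∣ Cfsg.charDegree (χ : Matrix.ProjectiveSpecialLinearGroup (Fin 2) F → ℂ) → Cfsg.charDegree (χ : Matrix.ProjectiveSpecialLinearGroup (Fin 2) F → ℂ) = Fintype.card F := by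
  classical
  obtain ⟨g₀, hg⟩ := exists_elliptic (F := F)
  let N := Subgroup.center (SLtwo F)
  have hpq : p ∣ Fintype.card F := by
    obtain ⟨n, hp, hn⟩ := FiniteField.card F p
    exact hn ▸ dvd_pow_self p n.ne_zero
  have hp : p.Prime := Fact.out
  have hdeg : ∀ χ : IrrCharacter (Matrix.ProjectiveSpecialLinearGroup (Fin 2) F),
      p ∣ charDegree (χ : Matrix.ProjectiveSpecialLinearGroup (Fin 2) F → ℂ) →
      charDegree (χ : Matrix.ProjectiveSpecialLinearGroup (Fin 2) F → ℂ) = Fintype.card F := by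
    intro χ hχ
    generalize hd : charDegree (χ : Matrix.ProjectiveSpecialLinearGroup (Fin 2) F → ℂ) = d at hχ ⊢
    have hcl := charDegrees_SL_sub F (charDegrees_quotient_sub N ⟨χ, hd⟩)
    rcases hcl with h | h | h | h | h | h
    · exact absurd (h ▸ hχ) hp.not_dvd_one
    · exact h
    · exact absurd ((Nat.dvd_add_right hpq).mp (h ▸ hχ)) hp.not_dvd_one
    · subst h
      have := Nat.dvd_sub hpq hχ
      rw [show Fintype.card F - (Fintype.card F - 1) = 1 by omega] at this
      exact absurd this hp.not_dvd_one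
    · exact absurd ((Nat.dvd_add_right hpq).mp (h ▸ hχ.mul_left 2)) hp.not_dvd_one
    · have := Nat.dvd_sub hpq (h ▸ hχ.mul_left 2)
      rw [show Fintype.card F - (Fintype.card F - 1) = 1 by omega] at this
      exact absurd this hp.not_dvd_one
  refine ⟨Nat.card_eq_one_iff_unique.mpr ⟨⟨fun a b => ?_⟩, ?_⟩, hdeg⟩
  · have key : ∀ x : {χ : IrrCharacter (Matrix.ProjectiveSpecialLinearGroup (Fin 2) F) //
        p ∣ charDegree (χ : Matrix.ProjectiveSpecialLinearGroup (Fin 2) F → ℂ)},
        (Chars.inflate N x.1 : SLtwo F → ℂ) = (slDatum hg).St := fun x => by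
      refine eq_St_of_degree hg (Chars.inflate N x.1).2 ?_
      have h1 := (Chars.charDegree_spec x.1).2
      rw [hdeg _ x.2] at h1
      exact h1
    exact Subtype.ext (Chars.inflate_injective N (Subtype.ext ((key a).trans (key b).symm)))
  · obtain ⟨χ, hχ⟩ := card_mem_charDegrees_PSL F
    exact ⟨⟨χ, hχ.symm ▸ hpq⟩⟩

end Cfsg.Agent.S4765
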