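import Cfsg.Statements.S4768
import Cfsg.Agent.Lib.HeightPSolv.DegreesPrime
import Cfsg.Agent.Lib.Clifford.CharExtension
import Cfsg.Agent.Lib.Clifford.Correspondence
import Cfsg.Agent.Lib.Codegree

set_option autoImplicit false
open Cfsg

namespace Cfsg.Agent.S4768

open Cfsg.Agent.Lib

universe u

theorem derivedSeries_succ_eq_bot {H : Type*} [Group H] (A : Subgroup H)
    (hA : ∀ a ∈ A, ∀ b ∈ A, a * b = b * a) {m : ℕ} (h : derivedSeries H m ≤ A) :
    derivedSeries H (m + 1) = ⊥ := by
  rw [derivedSeries_succ, Subgroup.commutator_eq_bot_iff_le_centralizer]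
  exact fun a ha => Subgroup.mem_centralizer_iff.mpr fun b hb => hA b (h hb) a (h ha)

theorem derivedSeries_eq_bot_of_surjective {H K : Type*} [Group H] [Group K] (f : H →* K)
    (hf : Function.Surjective f) {m : ℕ} (h : derivedSeries H m = ⊥) : derivedSeries K m = ⊥ := by
  rw [← map_derivedSeries_eq hf, h, Subgroup.map_bot]

/-- If all characters nontrivial on a normal abelian `p`-subgroup have degree prime to `p`, the
Sylow subgroups are metabelian. -/
theorem metabelian_of_nontrivial_coprime {G : Type u} [Group G] [Finite G] {p : ℕ} [hp : Fact p.Prime]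
    (hG : Cfsg.IsPSolvable p G) (M : Subgroup G) [M.Normal] (hMne : M ≠ ⊥) (hMp : IsPGroup p M)
    (hMab : ∀ a ∈ M, ∀ b ∈ M, a * b = b * a)
    (hcop : ∀ χ : IrrCharacter G, p ∣ Cfsg.charDegree (χ : G → ℂ) →
      ∀ m ∈ M, (χ : G → ℂ) m = (χ : G → ℂ) 1) (P : Sylow p G) :
    derivedSeries (P : Subgroup G) 2 = ⊥ := by
  classical
  cases nonempty_fintype G
  have : Fintype M := Fintype.ofFinite _
  have : IsMulCommutative M := ⟨⟨fun a b => Subtype.ext (hMab a a.2 b b.2)⟩⟩
  obtain ⟨lam, hlam⟩ : ∃ lam : IrrCharacter M, lam ≠ Chars.trivialIrr M := by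
    by_contra! h
    refine hMne ((Subgroup.eq_bot_iff_forall _).mpr fun m hm => ?_)
    have : (⟨m, hm⟩ : M) = 1 := isConj_one_left.mp (Chars.isConj_iff_irr.mpr fun φ => by
      rw [h φ]; simp)
    exact congrArg Subtype.val this
  have hnt : ∀ χ : IrrCharacter G, classInner (Clifford.resFun M (χ : G → ℂ)) (lam : M → ℂ) ≠ 0 →
      ¬ p ∣ Cfsg.charDegree (χ : G → ℂ) := by
    intro χ h hd
    refine h ?_
    rw [show Clifford.resFun M (χ : G → ℂ) = (χ : G → ℂ) 1 • (Chars.trivialIrr M : M → ℂ) from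
      funext fun m => by simp [Clifford.resFun_apply, hcop χ hd m m.2],
      Chars.classInner_smul_left, Chars.classInner_irr_of_ne hlam.symm, mul_zero]
  let T : Subgroup G :=
    { carrier := {g | Clifford.conjFun g (lam : M → ℂ) = (lam : M → ℂ)}
      one_mem' := Clifford.conjFun_one _
      mul_mem' := fun {a b} (ha : Clifford.conjFun a (lam : M → ℂ) = (lam : M → ℂ))
          (hb : Clifford.conjFun b (lam : M → ℂ) = (lam : M → ℂ)) => by
        show Clifford.conjFun (a * b) (lam : M → ℂ) = (lam : M → ℂ)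
        rw [Clifford.conjFun_mul, ha, hb]
      inv_mem' := fun {a} (ha : Clifford.conjFun a (lam : M → ℂ) = (lam : M → ℂ)) => by
        show Clifford.conjFun a⁻¹ (lam : M → ℂ) = (lam : M → ℂ)
        conv_lhs => rw [← ha]
        rw [← Clifford.conjFun_mul, mul_inv_cancel, Clifford.conjFun_one] }
  have hT : ∀ g, g ∈ T ↔ Clifford.conjFun g (lam : M → ℂ) = (lam : M → ℂ) := fun g => Iff.rfl
  have hMT : M ≤ T := fun m hm => (hT m).mpr (funext fun n =>
    Chars.irr_isClassFunction lam n ⟨m, hm⟩)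
  have : Fintype T := Fintype.ofFinite _
  obtain ⟨χ, hχ⟩ : ∃ χ : IrrCharacter G,
      classInner (Clifford.resFun M (χ : G → ℂ)) (lam : M → ℂ) ≠ 0 := by
    by_contra! h0
    have h := congrFun (Chars.isCharacter_eq_sum_classInner
      (Chars.isCharacter_indFun M (Chars.irr_isCharacter lam))) 1
    have h1 : ∀ χ : IrrCharacter G, classInner (indFun M (lam : M → ℂ)) (χ : G → ℂ) = 0 := fun χ => by
      rw [Chars.classInner_indFun_left M _ _ (Chars.irr_isClassFunction χ),
        ← Chars.conj_classInner]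
      exact (congrArg _ (h0 χ)).trans (map_zero _)
    simp [h1, Chars.indFun_one_eq, Subgroup.index_ne_zero_of_finite,
      Chars.irr_apply_one_ne_zero] at h
  obtain ⟨ψ, hψ, hψχ, hψlam⟩ :=
    Clifford.exists_clifford_correspondent lam.2 hT hMT χ.2 hχ
  obtain ⟨d, hd0, hd⟩ := Chars.isIrrCharacter_exists_degree_pos hψ
  have hχd : Cfsg.charDegree (χ : G → ℂ) = T.index * d := Codegree.charDegree_eq (by
    rw [← hψχ, Chars.indFun_one_eq, hd, Nat.cast_mul])
  have hpT : ¬ p ∣ T.index := fun h => hnt χ hχ (hχd ▸ h.mul_right d)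
  have hpd : ¬ p ∣ d := fun h => hnt χ hχ (hχd ▸ h.mul_left _)
  -- the linear character extends to its inertia group
  obtain ⟨n, ρ, hρ, hρψ⟩ := hψ
  have hψirr : IsIrrCharacter T ψ := ⟨n, ρ, hρ, hρψ⟩
  have hne : classInner (Clifford.resTo hMT ψ) (lam : M → ℂ) ≠ 0 := hψlam ▸ hχ
  have hres := Clifford.resTo_eq_smul lam.2 hMT (fun g hg => (hT g).mp hg) hψirr hne
  have hm : classInner (Clifford.resTo hMT ψ) (lam : M → ℂ) = (d : ℂ) := by
    have h := congrFun hres 1
    simp only [Pi.smul_apply, smul_eq_mul, Chars.irr_apply_one_of_comm, mul_one] at h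
    rw [← h, ← hd]
    rfl
  rw [hm] at hres
  have hfin : (d : ℂ) = Module.finrank ℂ (Fin n → ℂ) := by
    rw [← hd, ← hρψ, Representation.char_one]
  obtain ⟨l, hl⟩ := Chars.exists_hom_of_degree_one (Chars.irr_isCharacter lam)
    (Chars.irr_apply_one_of_comm lam)
  have hscal : ∀ m : M, LinearMap.det (ρ ⟨(m : G), hMT m.2⟩) = (l m : ℂ) ^ d := by
    intro m
    have hv : ρ.character ⟨(m : G), hMT m.2⟩ = (d : ℂ) * (l m : ℂ) := by
      have h := congrFun hres m
      rw [Pi.smul_apply, smul_eq_mul, congrFun hl m] at h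
      rw [hρψ]
      exact h
    obtain ⟨ω, hω⟩ := (Chars.norm_char_eq_iff ρ ⟨(m : G), hMT m.2⟩).mp (by
      rw [hv, norm_mul, Complex.norm_natCast, Chars.norm_hom_apply, mul_one]
      exact_mod_cast congrArg Complex.re hfin)
    have hωl : ω = (l m : ℂ) := by
      rw [Representation.character, hω, map_smul, LinearMap.trace_id, smul_eq_mul, ← hfin,
        mul_comm] at hv
      exact mul_left_cancel₀ (Nat.cast_ne_zero.mpr hd0.ne') hv
    rw [hω, LinearMap.det_smul, LinearMap.det_id, mul_one, hωl,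
      show Module.finrank ℂ (Fin n → ℂ) = d by exact_mod_cast hfin.symm]
  obtain ⟨a, ha⟩ := IsPGroup.iff_card.mp hMp
  obtain ⟨k, hk⟩ : ∃ k : ℕ, ∀ m : M, (l m : ℂˣ) ^ (d * k) = l m := by
    rcases Nat.eq_zero_or_pos a with rfl | ha0
    · exact absurd (Subgroup.card_eq_one.mp (by simpa using ha)) hMne
    obtain ⟨k, -, hk⟩ := Nat.exists_mul_mod_eq_one_of_coprime
      ((hp.out.coprime_iff_not_dvd.mpr hpd).symm.pow_right a) (Nat.one_lt_pow ha0.ne' hp.out.one_lt)
    refine ⟨k, fun m => ?_⟩
    have hord : l m ^ p ^ a = 1 := by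
      rw [← map_pow, ← ha, pow_card_eq_one', map_one]
    rw [pow_eq_pow_mod _ hord, hk, pow_one]
  let μ : T →* ℂˣ := (MonoidHom.toHomUnits (LinearMap.det.comp ρ)) ^ k
  have hμ : ∀ m : M, μ ⟨(m : G), hMT m.2⟩ = l m := by
    intro m
    rw [← hk m, pow_mul]
    show (MonoidHom.toHomUnits (LinearMap.det.comp ρ) ⟨(m : G), hMT m.2⟩) ^ k = _
    refine congrArg (fun u : ℂˣ => u ^ k) (Units.ext ?_)
    rw [Units.val_pow_eq_pow_val, ← hscal m]
    rfl
  -- all degrees of the quotient are prime to `p`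
  let M' : Subgroup T := M.subgroupOf T
  have : Fintype M' := Fintype.ofFinite _
  have hall : HeightPSolv.AllDegreesPrime p (T ⧸ M') := by
    intro β hβ
    obtain ⟨b, hb0, hb⟩ := Chars.isIrrCharacter_exists_degree_pos β.2
    have hirr := Chars.isIrrCharacter_hom_mul μ (Chars.inflate M' β).2
    set φ : T → ℂ := fun g => (μ g : ℂ) * (Chars.inflate M' β : T → ℂ) g with hφ
    have hrφ : Clifford.resTo hMT φ = (b : ℂ) • (lam : M → ℂ) := funext fun m => by
      show (μ ⟨(m : G), hMT m.2⟩ : ℂ) *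
        (β : T ⧸ M' → ℂ) ((⟨(m : G), hMT m.2⟩ : T) : T ⧸ M') = (b : ℂ) * (lam : M → ℂ) m
      rw [hμ m, (QuotientGroup.eq_one_iff (N := M') (⟨(m : G), hMT m.2⟩ : T)).mpr
        (Subgroup.mem_subgroupOf.mpr m.2), hb, congrFun hl m, mul_comm]
    have hnz : classInner (Clifford.resTo hMT φ) (lam : M → ℂ) ≠ 0 := by
      rw [hrφ, Chars.classInner_smul_left, Chars.classInner_irr_self, mul_one]
      exact Nat.cast_ne_zero.mpr hb0.ne'
    have hI := Clifford.isIrrCharacter_indFun_inertia lam.2 hT hMT hirr hnz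
    refine hnt ⟨_, hI⟩ ?_ ?_
    · have h1 : classInner (Clifford.resFun T (indFun T φ)) φ ≠ 0 := by
        rw [show classInner (Clifford.resFun T (indFun T φ)) φ =
          classInner (indFun T φ) (indFun T φ) from
            (Chars.classInner_indFun_right T φ _ (Chars.isClassFunction_indFun T φ)).symm,
          show classInner (indFun T φ) (indFun T φ) = 1 from Chars.classInner_irr_self ⟨_, hI⟩]
        exact one_ne_zero
      have h := (Clifford.clifford_induced lam.2 hT hMT hI hirr h1 hnz).2.1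
      show classInner (Clifford.resFun M (indFun T φ)) (lam : M → ℂ) ≠ 0
      rw [← h]
      exact hnz
    · rw [show Cfsg.charDegree (((⟨_, hI⟩ : IrrCharacter G)) : G → ℂ) = T.index * b from
        Codegree.charDegree_eq (by
          show indFun T φ 1 = _
          rw [Chars.indFun_one_eq, Nat.cast_mul, hφ]
          simp only [map_one, Units.val_one, one_mul]
          rw [show (Chars.inflate M' β : T → ℂ) 1 = (b : ℂ) from hb])]
      rw [Codegree.charDegree_eq hb] at hβ
      exact hβ.mul_left _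
  -- the Sylow subgroup of the inertia group
  let P0 : Sylow p T := default
  have hab : IsMulCommutative (P0.mapSurjective (QuotientGroup.mk'_surjective M')) :=
    ((HeightPSolv.allDegreesPrime_iff (PSolvable.isPSolvable_quotient
      (PSolvable.isPSolvable_subgroup hG T) M') _).mpr hall).2
  have h2 : derivedSeries (P0 : Subgroup T) 2 = ⊥ := by
    refine derivedSeries_succ_eq_bot (M'.subgroupOf (P0 : Subgroup T)) (fun a ha b hb => ?_)
      (m := 1) ?_
    · exact Subtype.ext (Subtype.ext (hMab _ ha _ hb))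
    · rw [derivedSeries_one, commutator_def, Subgroup.commutator_le]
      intro x _ y _
      rw [Subgroup.mem_subgroupOf, ← QuotientGroup.eq_one_iff]
      have hx : ((x : T) : T ⧸ M') ∈ P0.mapSurjective (QuotientGroup.mk'_surjective M') :=
        Subgroup.mem_map_of_mem _ x.2
      have hy : ((y : T) : T ⧸ M') ∈ P0.mapSurjective (QuotientGroup.mk'_surjective M') :=
        Subgroup.mem_map_of_mem _ y.2
      have hc := congrArg Subtype.val (hab.is_comm.comm ⟨_, hx⟩ ⟨_, hy⟩)
      simp only [Subgroup.coe_mul] at hc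
      show ((((x * y * x⁻¹ * y⁻¹ : (P0 : Subgroup T)) : T)) : T ⧸ M') = 1
      simp only [Subgroup.coe_mul, Subgroup.coe_inv, QuotientGroup.mk_mul, QuotientGroup.mk_inv]
      rw [hc, mul_inv_cancel_right, mul_inv_cancel]
  have hidx : ¬ p ∣ ((P0 : Subgroup T).map T.subtype).index := by
    rw [Subgroup.index_map_subtype]
    exact hp.out.not_dvd_mul P0.not_dvd_index hpT
  let Q : Sylow p G := (P0.isPGroup'.map T.subtype).toSylow hidx
  have e : (P0 : Subgroup T) ≃* (P : Subgroup G) :=
    ((P0 : Subgroup T).equivMapOfInjective T.subtype T.subtype_injective).trans (Q.equiv P)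
  exact derivedSeries_eq_bot_of_surjective e.toMonoidHom e.surjective h2

theorem aux (n : ℕ) : ∀ (G : Type u) [Group G] [Finite G] (p : ℕ) [Fact p.Prime],
    Nat.card G = n → Cfsg.IsPSolvable p G → ∀ P : Sylow p G,
    derivedSeries (P : Subgroup G)
      (Nat.card {χ : Cfsg.IrrCharacter G // p ∣ Cfsg.charDegree (χ : G → ℂ)} + 1) = ⊥ := by
  induction n using Nat.strong_induction_on with
  | _ n ih =>
  intro G _ _ p hp hn hG P
  classical
  cases nonempty_fintype G
  set r := Nat.card {χ : Cfsg.IrrCharacter G // p ∣ Cfsg.charDegree (χ : G → ℂ)} with hr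
  by_cases hr0 : r = 0
  · have hall : HeightPSolv.AllDegreesPrime p G := fun χ hχ => by
      rcases Nat.card_eq_zero.mp hr0 with h | h
      · exact h.elim ⟨χ, hχ⟩
      · exact not_finite_iff_infinite.mpr h inferInstance
    have := ((HeightPSolv.allDegreesPrime_iff hG P).mpr hall).2
    rw [hr0, zero_add]
    exact derivedSeries_succ_eq_bot ⊤ (fun a _ b _ => this.is_comm.comm a b) (m := 0) le_top
  have : Nontrivial G := by
    by_contra h
    rw [not_nontrivial_iff_subsingleton] at h
    refine hr0 (Nat.card_eq_zero.mpr (Or.inl ⟨fun ⟨χ, hχ⟩ => ?_⟩))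
    obtain ⟨m, -, hm, hdvd⟩ := Chars.irr_degree_dvd_card χ
    rw [Nat.card_unique] at hdvd
    rw [Codegree.charDegree_eq hm] at hχ
    exact hp.out.ne_one (Nat.eq_one_of_dvd_one (hχ.trans hdvd))
  have hquot : ∀ (K : Subgroup G) [K.Normal], K ≠ ⊥ →
      ∃ s : ℕ, s ≤ r ∧ (∀ a ∈ derivedSeries (P : Subgroup G) (s + 1), (a : G) ∈ K) ∧
        (s = r → ∀ χ : IrrCharacter G, p ∣ Cfsg.charDegree (χ : G → ℂ) →
          ∀ m ∈ K, (χ : G → ℂ) m = (χ : G → ℂ) 1) := by
    intro K _ hK
    have hlt : Nat.card (G ⧸ K) < n := by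
      rw [← hn, ← Subgroup.index, ← Subgroup.card_mul_index K]
      exact lt_mul_left (Nat.pos_of_ne_zero Subgroup.index_ne_zero_of_finite)
        (Subgroup.one_lt_card_iff_ne_bot _ |>.2 hK)
    have hdeg : ∀ β : IrrCharacter (G ⧸ K),
        Cfsg.charDegree (Chars.inflate K β : G → ℂ) = Cfsg.charDegree (β : G ⧸ K → ℂ) := fun β => by
      simp [Cfsg.charDegree, Chars.inflate]
    let f : {χ : IrrCharacter (G ⧸ K) // p ∣ Cfsg.charDegree (χ : G ⧸ K → ℂ)} →
        {χ : IrrCharacter G // p ∣ Cfsg.charDegree (χ : G → ℂ)} :=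
      fun β => ⟨Chars.inflate K β.1, by rw [hdeg]; exact β.2⟩
    have hf : Function.Injective f := fun a b h =>
      Subtype.ext (Chars.inflate_injective K (congrArg Subtype.val h))
    refine ⟨_, Nat.card_le_card_of_injective f hf, fun a ha => ?_, fun he χ hχ m hm => ?_⟩
    · have hb := ih _ hlt (G ⧸ K) p rfl (PSolvable.isPSolvable_quotient hG K)
        (P.mapSurjective (QuotientGroup.mk'_surjective K))
      have hmem := Subgroup.mem_map_of_mem
        ((QuotientGroup.mk' K).subgroupMap (P : Subgroup G)) ha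
      rw [map_derivedSeries_eq (MonoidHom.subgroupMap_surjective _ _)] at hmem
      erw [hb, Subgroup.mem_bot] at hmem
      exact (QuotientGroup.eq_one_iff (a : G)).mp (congrArg Subtype.val hmem)
    · obtain ⟨β, hβ⟩ := ((Nat.bijective_iff_injective_and_card f).mpr ⟨hf, he⟩).2 ⟨χ, hχ⟩
      have : (χ : G → ℂ) = (Chars.inflate K β.1 : G → ℂ) :=
        congrArg (fun z => ((z.1 : IrrCharacter G) : G → ℂ)) hβ.symm
      rw [this]
      show (β.1 : G ⧸ K → ℂ) (m : G ⧸ K) = (β.1 : G ⧸ K → ℂ) ((1 : G) : G ⧸ K)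
      rw [(QuotientGroup.eq_one_iff m).mpr hm]
      rfl
  by_cases hK : pPrimeCore p G = ⊥
  · have hcne : pCore p G ≠ ⊥ :=
      (PSolvable.pCore_ne_bot_or_pPrimeCore_ne_bot hG).resolve_right (not_not.2 hK)
    have : Nontrivial (pCore p G) := (Subgroup.nontrivial_iff_ne_bot _).mpr hcne
    have hZ := (PSolvable.pCore_isPGroup (p := p) (G := G)).center_nontrivial
    let M : Subgroup G := (Subgroup.center (pCore p G)).map (pCore p G).subtype
    have : M.Normal := inferInstanceAs (((Subgroup.center (pCore p G)).map _).Normal)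
    have hMne : M ≠ ⊥ := fun h => (Subgroup.nontrivial_iff_ne_bot _).mp hZ
      ((Subgroup.map_eq_bot_iff_of_injective _ (pCore p G).subtype_injective).mp h)
    have hMp : IsPGroup p M := (PSolvable.pCore_isPGroup (p := p) (G := G)).to_le
      (Subgroup.map_subtype_le _)
    have hMab : ∀ a ∈ M, ∀ b ∈ M, a * b = b * a := by
      rintro _ ⟨a, ha, rfl⟩ _ ⟨b, hb, rfl⟩
      exact congrArg Subtype.val (Subgroup.mem_center_iff.mp hb a)
    obtain ⟨s, hsr, hsM, hs⟩ := hquot M hMne
    rcases hsr.lt_or_eq with hlt | heq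
    · have h := derivedSeries_succ_eq_bot (M.subgroupOf (P : Subgroup G))
        (fun a ha b hb => Subtype.ext (hMab _ ha _ hb)) (m := s + 1)
        (fun a ha => Subgroup.mem_subgroupOf.mpr (hsM a ha))
      exact le_bot_iff.mp ((derivedSeries_antitone _ (by omega)).trans h.le)
    · have h := metabelian_of_nontrivial_coprime hG M hMne hMp hMab (hs heq) P
      exact le_bot_iff.mp ((derivedSeries_antitone _ (by omega)).trans h.le)
  · obtain ⟨s, hsr, hsK, -⟩ := hquot (pPrimeCore p G) hK
    refine le_bot_iff.mp ((derivedSeries_antitone _ (by omega : s + 1 ≤ r + 1)).trans ?_)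
    intro a ha
    have hmem := Subgroup.mem_inf.mpr ⟨a.2, hsK a ha⟩
    rw [PSolvable.inf_eq_bot_of_isPGroup_of_coprime P.isPGroup' (PSolvable.pPrimeCore_coprime),
      Subgroup.mem_bot] at hmem
    exact Subgroup.mem_bot.mpr (Subtype.ext hmem)

/-- Let p be a prime, G a finite p-solvable group and P a Sylow p-subgroup of G. If n is the number of irreducible complex characters of G whose degree is divisible by p, then the (n+1)-st term of the derived series of P is trivial. (The p-solvable case has a direct inductive proof.) -/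
theorem result {G : Type*} [Group G] [Finite G] (p : ℕ) [Fact p.Prime] (hG : Cfsg.IsPSolvable p G) (P : Sylow p G) : derivedSeries ↥(P : Subgroup G) (Nat.card {χ : Cfsg.IrrCharacter G // p ∣ Cfsg.charDegree (χ : G → ℂ)} + 1) = ⊥ := by
  exact aux _ G p rfl hG P

end Cfsg.Agent.S4768
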