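import Cfsg.Statements.S4774
import Cfsg.Agent.Lib.RankSeries.PSLDegrees

set_option autoImplicit false
open Cfsg

namespace Cfsg.Agent.S4774

open Cfsg.Agent.Lib Cfsg.Agent.Lib.RankSeries Cfsg.Agent.Lib.SL2

/-- Let F be a finite field of odd characteristic t with q > 5 elements and let S be isomorphic to PSL(2,F) or to SL(2,F). Then the vertices of the character degree graph of S are the primes dividing q(q²−1); the prime t is adjacent to no vertex; two distinct primes dividing q² − 1 are adjacent exactly when one of them is 2, or both divide q + 1, or both divide q − 1. -/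
theorem result (F : Type*) [Field F] [Fintype F] (t : ℕ) [Fact t.Prime] [CharP F t] (ht : t ≠ 2) (q : ℕ) (hq : Fintype.card F = q) (h5 : 5 < q) {S : Type*} [Group S] [Finite S] (hS : Nonempty (S ≃* Matrix.ProjectiveSpecialLinearGroup (Fin 2) F) ∨ Nonempty (S ≃* Matrix.SpecialLinearGroup (Fin 2) F)) : Cfsg.degreePrimes S = {r : ℕ | r.Prime ∧ r ∣ q * (q ^ 2 - 1)} ∧ ∀ r s : ℕ, (Cfsg.degreeGraph S).Adj r s ↔ (r ≠ s ∧ r.Prime ∧ s.Prime ∧ r ∣ q ^ 2 - 1 ∧ s ∣ q ^ 2 - 1 ∧ (r = 2 ∨ s = 2 ∨ (r ∣ q + 1 ∧ s ∣ q + 1) ∨ (r ∣ q - 1 ∧ s ∣ q - 1))) := by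
  classical
  subst hq
  obtain ⟨n, hp, hn⟩ := FiniteField.card F t
  obtain ⟨hd, h0, h1, h2⟩ := charDegrees_data F hS (Or.inr h5)
  obtain ⟨hP, hA⟩ := degreeGraph_of_data hp hn (by omega) hd h0 h1 h2
  refine ⟨hP, fun r s => (hA r s).trans ?_⟩
  have hodd : Odd (Fintype.card F) := hn ▸ (hp.odd_of_ne_two ht).pow
  obtain ⟨k, hk⟩ := hodd
  rw [sq_sub_one]
  constructor
  · rintro ⟨hne, hr, hs, h⟩
    refine ⟨hne, hr, hs, ?_, ?_, Or.inr (Or.inr h)⟩
    · rcases h with ⟨ha, -⟩ | ⟨ha, -⟩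
      · exact ha.mul_right _
      · exact ha.mul_left _
    · rcases h with ⟨-, ha⟩ | ⟨-, ha⟩
      · exact ha.mul_right _
      · exact ha.mul_left _
  · rintro ⟨hne, hr, hs, hr', hs', h⟩
    refine ⟨hne, hr, hs, ?_⟩
    have two1 : 2 ∣ Fintype.card F + 1 := ⟨k + 1, by omega⟩
    have two2 : 2 ∣ Fintype.card F - 1 := ⟨k, by omega⟩
    rcases h with rfl | rfl | h
    · exact (hs.dvd_mul.mp hs').imp (fun h => ⟨two1, h⟩) fun h => ⟨two2, h⟩
    · exact (hr.dvd_mul.mp hr').imp (fun h => ⟨h, two1⟩) fun h => ⟨h, two2⟩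
    · exact h

end Cfsg.Agent.S4774
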