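import Cfsg.Statements.S4775
import Cfsg.Agent.Lib.SuzukiChars.Degrees
import Cfsg.Agent.Lib.SuzukiSp4.Iso

set_option autoImplicit false
open Cfsg
open Cfsg.Agent.Lib Cfsg.Agent.Lib.Suzuki Cfsg.Agent.Lib.SuzukiSolv Cfsg.Agent.Lib.SuzukiChars

namespace Cfsg.Agent.S4775

theorem charDegrees_congr {G H : Type*} [Group G] [Finite G] [Group H] (e : H ≃* G) :
    Cfsg.charDegrees H = Cfsg.charDegrees G := by
  ext d
  constructor
  · rintro ⟨ψ, rfl⟩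
    exact ⟨(Chars.irrCongr e).symm ψ, by simp [Chars.irrCongr, Cfsg.charDegree]⟩
  · rintro ⟨χ, rfl⟩
    exact ⟨Chars.irrCongr e χ, by simp [Chars.irrCongr, Cfsg.charDegree]⟩

/-- Let F be a finite field with q = 2^(2m+1) ≥ 8 elements and let S be isomorphic to the Suzuki group over F. Then the vertices of the character degree graph of S are 2 and the primes dividing (q − 1)(q² + 1); the primes dividing (q − 1)(q² + 1) are pairwise adjacent, and 2 is adjacent exactly to the primes dividing q − 1. -/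
theorem result (F : Type*) [Field F] [Fintype F] (m : ℕ) (hm : 1 ≤ m) (q : ℕ) (hq : Fintype.card F = q) (hqm : q = 2 ^ (2 * m + 1)) {S : Type*} [Group S] [Finite S] (hS : Nonempty (S ≃* ↥(Cfsg.Lie.Sz F (2 ^ (m + 1))))) : Cfsg.degreePrimes S = {r : ℕ | r.Prime ∧ (r = 2 ∨ r ∣ (q - 1) * (q ^ 2 + 1))} ∧ ∀ r s : ℕ, (Cfsg.degreeGraph S).Adj r s ↔ (r ≠ s ∧ r.Prime ∧ s.Prime ∧ ((r ∣ (q - 1) * (q ^ 2 + 1) ∧ s ∣ (q - 1) * (q ^ 2 + 1)) ∨ (r = 2 ∧ s ∣ q - 1) ∨ (s = 2 ∧ r ∣ q - 1))) := by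
  obtain ⟨e₀⟩ := hS
  have h : Hyp F m := ⟨hm, hq.trans hqm⟩
  have := SuzukiSylow.finite_Sz h
  let _ : Fintype (Cfsg.Sz F m) := Fintype.ofFinite _
  have hD : Cfsg.charDegrees S = {1, q ^ 2, q ^ 2 + 1, (q - 1) * 2 ^ m, (q - 1) * n₁ h, (q - 1) * n₂ h} := by
    rw [charDegrees_congr (e₀.trans (SuzukiSp4.szEquiv h).symm), charDegrees_eq h, hq]
  obtain ⟨h8, h4, hr, hr2⟩ := numbers h
  have hprod : n₁ h * n₂ h = q ^ 2 + 1 := by
    obtain ⟨e1, e2⟩ := n_values h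
    rw [← hq, card_field_nat h, e1]
    zify at e2 ⊢
    linear_combination (2 * ((2 : ℤ) ^ m) ^ 2 + 2 * 2 ^ m + 1) * e2
  have hq2 : 2 ∣ q := hqm ▸ dvd_pow_self 2 (by omega)
  have hq8 : 8 ≤ q := hqm ▸ h8
  have hodd1 : ¬ 2 ∣ q - 1 := by omega
  have hodd2 : ¬ 2 ∣ q ^ 2 + 1 := fun hc => by
    have := (Nat.dvd_add_right (dvd_pow hq2 two_ne_zero)).1 hc
    omega
  have hodd : ¬ 2 ∣ (q - 1) * (q ^ 2 + 1) := fun hc => (Nat.prime_two.dvd_mul.1 hc).elim hodd1 hodd2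
  have h2m : 2 ∣ 2 ^ m := dvd_pow_self 2 (by omega)
  have hpow : ∀ r, r.Prime → ∀ k : ℕ, r ∣ 2 ^ k → r = 2 := fun r hr' k hk =>
    (Nat.prime_dvd_prime_iff_eq hr' Nat.prime_two).1 (hr'.dvd_of_dvd_pow hk)
  have hn1 : n₁ h ∣ q ^ 2 + 1 := ⟨_, hprod.symm⟩
  have hn2 : n₂ h ∣ q ^ 2 + 1 := ⟨_, by rw [← hprod, mul_comm]⟩
  -- the odd prime divisors of the degrees
  have hvert : ∀ r, r.Prime → ∀ d ∈ Cfsg.charDegrees S, r ∣ d → r ≠ 2 → r ∣ (q - 1) * (q ^ 2 + 1) := by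
    intro r hr' d hd hrd hr2'
    rw [hD] at hd
    simp only [Set.mem_insert_iff, Set.mem_singleton_iff] at hd
    rcases hd with rfl | rfl | rfl | rfl | rfl | rfl
    · exact hrd.trans (one_dvd _)
    · exact absurd (hpow r hr' _ (hqm ▸ hr'.dvd_of_dvd_pow hrd)) hr2'
    · exact dvd_mul_of_dvd_right hrd _
    · exact ((hr'.dvd_mul.1 hrd).resolve_right fun hc => hr2' (hpow r hr' _ hc)).trans (dvd_mul_right _ _)
    · exact hrd.trans (mul_dvd_mul_left _ hn1)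
    · exact hrd.trans (mul_dvd_mul_left _ hn2)
  have h2adj : ∀ s, s.Prime → s ≠ 2 → ∀ d ∈ Cfsg.charDegrees S, 2 * s ∣ d → s ∣ q - 1 := by
    intro s hs' hs2 d hd hsd
    rw [hD] at hd
    simp only [Set.mem_insert_iff, Set.mem_singleton_iff] at hd
    have h2d : 2 ∣ d := dvd_trans (dvd_mul_right _ _) hsd
    have hsd' : s ∣ d := dvd_trans (dvd_mul_left _ _) hsd
    rcases hd with rfl | rfl | rfl | rfl | rfl | rfl
    · omega
    · exact absurd (hpow s hs' _ (hqm ▸ hs'.dvd_of_dvd_pow hsd')) hs2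
    · exact absurd h2d hodd2
    · exact (hs'.dvd_mul.1 hsd').resolve_right fun hc => hs2 (hpow s hs' _ hc)
    · exact absurd (h2d.trans (mul_dvd_mul_left _ hn1)) hodd
    · exact absurd (h2d.trans (mul_dvd_mul_left _ hn2)) hodd
  have hpair : ∀ r s, r.Prime → s.Prime → r ≠ s → r ∣ (q - 1) * (q ^ 2 + 1) → s ∣ (q - 1) * (q ^ 2 + 1) →
      ∃ d ∈ Cfsg.charDegrees S, r * s ∣ d := by
    intro r s hr' hs' hne hrd hsd
    have hco : Nat.Coprime r s := (Nat.coprime_primes hr' hs').2 hne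
    rcases hr'.dvd_mul.1 hrd with r1 | r1 <;> rcases hs'.dvd_mul.1 hsd with s1 | s1
    · exact ⟨(q - 1) * 2 ^ m, by simp [hD], dvd_mul_of_dvd_left (hco.mul_dvd_of_dvd_of_dvd r1 s1) _⟩
    · rw [← hprod] at s1
      rcases hs'.dvd_mul.1 s1 with s1 | s1
      · exact ⟨(q - 1) * n₁ h, by simp [hD], mul_dvd_mul r1 s1⟩
      · exact ⟨(q - 1) * n₂ h, by simp [hD], mul_dvd_mul r1 s1⟩
    · rw [← hprod] at r1
      rcases hr'.dvd_mul.1 r1 with r1 | r1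
      · exact ⟨(q - 1) * n₁ h, by simp [hD], by rw [mul_comm r]; exact mul_dvd_mul s1 r1⟩
      · exact ⟨(q - 1) * n₂ h, by simp [hD], by rw [mul_comm r]; exact mul_dvd_mul s1 r1⟩
    · exact ⟨q ^ 2 + 1, by simp [hD], hco.mul_dvd_of_dvd_of_dvd r1 s1⟩
  constructor
  · ext r
    constructor
    · rintro ⟨hr', d, hd, hrd⟩
      exact ⟨hr', or_iff_not_imp_left.2 fun hne => hvert r hr' d hd hrd hne⟩
    · rintro ⟨hr', rfl | hrd⟩
      · exact ⟨hr', (q - 1) * 2 ^ m, by simp [hD], dvd_mul_of_dvd_right h2m _⟩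
      · rcases hr'.dvd_mul.1 hrd with r1 | r1
        · exact ⟨hr', (q - 1) * 2 ^ m, by simp [hD], dvd_mul_of_dvd_left r1 _⟩
        · exact ⟨hr', q ^ 2 + 1, by simp [hD], r1⟩
  · intro r s
    constructor
    · rintro ⟨hne, hr', hs', d, hd, hdiv⟩
      refine ⟨hne, hr', hs', ?_⟩
      by_cases hr2' : r = 2
      · subst hr2'
        exact Or.inr (Or.inl ⟨rfl, h2adj s hs' (Ne.symm hne) d hd hdiv⟩)
      by_cases hs2 : s = 2
      · subst hs2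
        exact Or.inr (Or.inr ⟨rfl, h2adj r hr' hr2' d hd (mul_comm r 2 ▸ hdiv)⟩)
      exact Or.inl ⟨hvert r hr' d hd (dvd_trans (dvd_mul_right _ _) hdiv) hr2',
        hvert s hs' d hd (dvd_trans (dvd_mul_left _ _) hdiv) hs2⟩
    · rintro ⟨hne, hr', hs', ⟨h1, h2⟩ | ⟨rfl, h2⟩ | ⟨rfl, h2⟩⟩
      · exact ⟨hne, hr', hs', hpair r s hr' hs' hne h1 h2⟩
      · exact ⟨hne, hr', hs', (q - 1) * 2 ^ m, by simp [hD], by rw [mul_comm 2]; exact mul_dvd_mul h2 h2m⟩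
      · exact ⟨hne, hr', hs', (q - 1) * 2 ^ m, by simp [hD], mul_dvd_mul h2 h2m⟩

end Cfsg.Agent.S4775
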