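import Cfsg.Statements.S4779
import Cfsg.Agent.Lib.RelDegree.Near

set_option autoImplicit false
open Cfsg

namespace Cfsg.Agent.S4779

open Cfsg.Agent.Lib.RelDegree

/-- Let N be a solvable normal subgroup of the finite group G contained in the derived subgroup of G, and consider the common-divisor graph on the relative degree set cd(G|N) (degrees of irreducible complex characters of G whose kernel does not contain N, two distinct degrees adjacent when not coprime). If this graph has two vertices that are not joined by any path, then there is a vertex a₀ such that any two distinct vertices in the component of a₀ are adjacent, and any two distinct vertices outside that component are adjacent or have a common neighbour (one component is complete, the other has diameter at most 2). -/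
theorem result {G : Type*} [Group G] [Finite G] (N : Subgroup G) [N.Normal] [Group.IsSolvable N] (hNG : N ≤ commutator G) (hdisc : ¬ (Cfsg.commonDivisorGraph.induce (Cfsg.relCharDegrees N)).Preconnected) : ∃ a₀ : ↥(Cfsg.relCharDegrees N), (∀ b c : ↥(Cfsg.relCharDegrees N), (Cfsg.commonDivisorGraph.induce (Cfsg.relCharDegrees N)).Reachable a₀ b → (Cfsg.commonDivisorGraph.induce (Cfsg.relCharDegrees N)).Reachable a₀ c → b ≠ c → (Cfsg.commonDivisorGraph.induce (Cfsg.relCharDegrees N)).Adj b c) ∧ (∀ b c : ↥(Cfsg.relCharDegrees N), ¬ (Cfsg.commonDivisorGraph.induce (Cfsg.relCharDegrees N)).Reachable a₀ b → ¬ (Cfsg.commonDivisorGraph.induce (Cfsg.relCharDegrees N)).Reachable a₀ c → b ≠ c → (Cfsg.commonDivisorGraph.induce (Cfsg.relCharDegrees N)).Adj b c ∨ ∃ d : ↥(Cfsg.relCharDegrees N), (Cfsg.commonDivisorGraph.induce (Cfsg.relCharDegrees N)).Adj b d ∧ (Cfsg.commonDivisorGraph.induce (Cfsg.relCharDegrees N)).Adj d c) := by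
  classical
  set Γ := Cfsg.commonDivisorGraph.induce (Cfsg.relCharDegrees N) with hΓ
  obtain ⟨a, b, hab⟩ : ∃ a b, ¬ Γ.Reachable a b := by
    by_contra! hc
    exact hdisc hc
  have hne : Nontrivial N := by
    rcases subsingleton_or_nontrivial N with h | h
    · obtain ⟨χ, ⟨z, hz, hzne⟩, -⟩ := a.2
      exact absurd (congrArg (fun w : N => (χ : G → ℂ) w)
        (Subsingleton.elim (⟨z, hz⟩ : N) 1)) hzne
    · exact h
  have hlt : ⁅N, N⁆ < N := by
    have h := Group.IsSolvable.commutator_lt_top_of_nontrivial N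
    rw [← N.map_subtype_commutator]
    calc (commutator N).map N.subtype < (⊤ : Subgroup N).map N.subtype :=
          (Subgroup.map_lt_map_iff_of_injective N.subtype_injective).mpr h
      _ = N := by rw [← MonoidHom.range_eq_map, N.range_subtype]
  have hm1 : ⁅N, N⁆.relIndex N ≠ 1 := fun h => hlt.not_ge (Subgroup.relIndex_eq_one.mp h)
  obtain ⟨r, hr, hrm⟩ := Nat.exists_prime_and_dvd hm1
  obtain ⟨u, v, hu, hv⟩ : ∃ u v : ↥(Cfsg.relCharDegrees N),
      Nat.Coprime (u : ℕ) (⁅N, N⁆.relIndex N) ∧ r ∣ (v : ℕ) := by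
    rcases dichotomy hlt hNG hab with ⟨h1, h2⟩ | ⟨h1, h2⟩
    · exact ⟨a, b, h1, h2 r hr hrm⟩
    · exact ⟨b, a, h1, h2 r hr hrm⟩
  have huv : ¬ Γ.Reachable u v := not_reachable hlt hNG hdisc hu hr hrm hv
  have hout : ∀ c, ¬ Γ.Reachable v c → Nat.Coprime (c : ℕ) (⁅N, N⁆.relIndex N) := by
    intro c hc
    rcases dichotomy hlt hNG (fun h => hc h.symm) with ⟨h1, -⟩ | ⟨h1, -⟩
    · exact h1
    · exact absurd (Nat.eq_one_of_dvd_coprimes h1 hv hrm) hr.ne_one
  refine ⟨v, fun c d hc hd hne => ?_, fun c d hc hd hne => ?_⟩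
  · have hfull : ∀ e, Γ.Reachable v e → r ∣ (e : ℕ) := by
      intro e he
      rcases dichotomy hlt hNG (fun h => huv (h.trans he.symm)) with ⟨-, h2⟩ | ⟨-, h2⟩
      · exact h2 r hr hrm
      · exact absurd (Nat.eq_one_of_dvd_coprimes hu (h2 r hr hrm) hrm) hr.ne_one
    exact ⟨fun h => hne (Subtype.ext h),
      one_lt_gcd (pos_of_mem d.2) hr.ne_one (hfull c hc) (hfull d hd)⟩
  · obtain ⟨e, he, h1, h2⟩ := near _ N rfl hNG hdisc c d (hout c hc) (hout d hd)
    by_cases hce : (c : ℕ) = e
    · subst hce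
      exact Or.inl ⟨fun h => hne (Subtype.ext h), h2⟩
    by_cases hed : e = (d : ℕ)
    · subst hed
      exact Or.inl ⟨fun h => hne (Subtype.ext h), h1⟩
    exact Or.inr ⟨⟨e, he⟩, ⟨hce, h1⟩, ⟨hed, h2⟩⟩

end Cfsg.Agent.S4779
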