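import Cfsg.Statements.S4784
import Cfsg.Agent.Lib.CharsElem
-- import your own Cfsg.Agent.* helpers here

set_option autoImplicit false
open Cfsg

namespace Cfsg.Agent.S4784

open Cfsg.Agent.Lib.Chars Cfsg.Agent.Lib.CharsElem
open scoped ComplexConjugate

theorem eq_trivial_of_odd {G : Type*} [Group G] [Fintype G] (H : Subgroup G)
    (hodd : Odd H.normalCore.index) (χ : Cfsg.IrrCharacter G)
    (hne : Cfsg.classInner (Cfsg.indFun H (fun _ : H => (1 : ℂ))) (χ : G → ℂ) ≠ 0)
    (hν : (Nat.card G : ℂ)⁻¹ * ∑ g : G, (χ : G → ℂ) (g * g) = 1) : χ = trivialIrr G := by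
  classical
  by_contra hχ
  obtain ⟨n, ρ, hρ, hρχ⟩ := χ.2
  have : Fintype H := Fintype.ofFinite _
  rw [classInner_indFun_left H _ _ (irr_isClassFunction χ)] at hne
  -- the core of `H` acts trivially
  set T : Module.End ℂ (Fin n → ℂ) := ∑ h : H, ρ (h : G)
  have hT : T ≠ 0 := by
    intro h0
    apply hne
    have h1 := congrArg (LinearMap.trace ℂ _) h0
    rw [map_sum, map_zero] at h1
    have : ∑ h : H, (χ : G → ℂ) (h : G) = 0 := by rw [← hρχ]; exact h1
    simp [Cfsg.classInner, ← map_sum, this]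
  obtain ⟨v, hv⟩ : ∃ v, T v ≠ 0 := by
    by_contra h
    push Not at h
    exact hT (LinearMap.ext h)
  have hcore : ∀ k ∈ H.normalCore, ρ k = 1 := by
    let W : Subrepresentation ρ :=
      { toSubmodule :=
          { carrier := {w | ∀ k ∈ H.normalCore, ρ k w = w}
            add_mem' := fun {a b} ha hb k hk => by rw [map_add, ha k hk, hb k hk]
            zero_mem' := fun k _ => map_zero _
            smul_mem' := fun c a ha k hk => by rw [map_smul, ha k hk] }
        apply_mem_toSubmodule := fun g w hw k hk => by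
          have := hw _ (H.normalCore_normal.conj_mem k hk g⁻¹)
          calc ρ k (ρ g w) = ρ g (ρ (g⁻¹ * k * g⁻¹⁻¹) w) := by
                simp only [← Module.End.mul_apply, ← map_mul]; congr 2; group
            _ = ρ g w := by rw [this] }
    have hmem : T v ∈ W.toSubmodule := by
      intro k hk
      have hkH : k ∈ H := Subgroup.normalCore_le H hk
      change (ρ k * T) v = T v
      congr 1
      simp only [T, Finset.mul_sum, ← map_mul]
      exact Fintype.sum_equiv (Equiv.mulLeft (⟨k, hkH⟩ : H)) _ _ fun h => rfl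
    rcases IsSimpleOrder.eq_bot_or_eq_top W with hW | hW
    · rw [hW] at hmem
      exact absurd ((Submodule.mem_bot ℂ).mp hmem) hv
    · intro k hk
      refine LinearMap.ext fun w => ?_
      have : w ∈ W.toSubmodule := by rw [hW]; exact Submodule.mem_top
      exact this k hk
  -- so `χ` is a function on the quotient of odd order
  let Q := G ⧸ H.normalCore
  have hQ : Nat.Coprime (Nat.card Q) 2 := by
    rw [← Subgroup.index_eq_card]; exact Nat.coprime_two_right.mpr hodd
  let ψ : Q → ℂ := fun q => (χ : G → ℂ) q.out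
  have hψ : ∀ g : G, ψ (g : Q) = (χ : G → ℂ) g := by
    intro g
    obtain ⟨k, hk⟩ := QuotientGroup.mk_out_eq_mul H.normalCore g
    simp only [ψ, hk, ← hρχ, Representation.character, map_mul, hcore _ k.2, mul_one]
  have hsq : ∑ g : G, (χ : G → ℂ) (g * g) = ∑ g : G, (χ : G → ℂ) g := by
    simp only [← hψ, QuotientGroup.mk_mul]
    have hfib : ∀ F : Q → ℂ, ∑ g : G, F (g : Q) = (Nat.card H.normalCore : ℂ) * ∑ q : Q, F q := by
      intro F
      rw [← Finset.sum_fiberwise Finset.univ (fun g : G => (g : Q)) (fun g => F (g : Q)),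
        Finset.mul_sum]
      refine Finset.sum_congr rfl fun q _ => ?_
      rw [Finset.sum_congr rfl (g := fun _ => F q) fun g hg => by
        rw [(Finset.mem_filter.mp hg).2], Finset.sum_const, nsmul_eq_mul, Nat.card_eq_fintype_card,
        ← Finset.card_univ]
      congr 2
      refine Finset.card_bij' (fun g hg => (⟨q.out⁻¹ * g, QuotientGroup.eq.mp
        ((QuotientGroup.out_eq' q).trans (Finset.mem_filter.mp hg).2.symm)⟩ : H.normalCore))
        (fun k _ => q.out * (k : G)) ?_ ?_ ?_ ?_
      · intro g _; exact Finset.mem_univ _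
      · intro k _
        exact Finset.mem_filter.mpr ⟨Finset.mem_univ _,
          (QuotientGroup.mk_mul_of_mem _ k.2).trans (QuotientGroup.out_eq' q)⟩
      · intro g _; simp
      · intro k _; ext; simp
    rw [hfib (fun q => ψ (q * q)), hfib ψ]
    congr 1
    refine Fintype.sum_equiv (powCoprime hQ) _ _ fun q => ?_
    simp [powCoprime, sq]
  rw [hsq] at hν
  have h0 := classInner_irr_of_ne hχ
  simp only [Cfsg.classInner, trivialIrr_apply, map_one, mul_one] at h0
  exact one_ne_zero (hν.symm.trans h0)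

theorem false_of_even {G : Type*} [Group G] [Fintype G] (H : Subgroup G)
    (hev : Even H.normalCore.index)
    (huniq : ∀ χ : Cfsg.IrrCharacter G,
      Cfsg.classInner (Cfsg.indFun H (fun _ : H => (1 : ℂ))) (χ : G → ℂ) ≠ 0 →
      (∀ g : G, conj ((χ : G → ℂ) g) = (χ : G → ℂ) g) →
      (Nat.card G : ℂ)⁻¹ * ∑ g : G, (χ : G → ℂ) (g * g) = 1 → χ = trivialIrr G) : False := by
  classical
  have : Fintype H := Fintype.ofFinite _
  set one : H → ℂ := fun _ => 1 with hone
  have hπ : Cfsg.IsCharacter G (Cfsg.indFun H one) :=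
    isCharacter_indFun H (isCharacter_of_isIrrCharacter isIrrCharacter_one)
  let cnt : G → ℕ := fun g => (Finset.univ.filter fun x : G => x⁻¹ * g * x ∈ H).card
  have hcnt : ∀ g, Cfsg.indFun H one g = (Nat.card H : ℂ)⁻¹ * (cnt g : ℂ) := by
    intro g
    simp only [Cfsg.indFun, cnt]
    rw [← Finset.sum_boole]
    congr 1
    refine Finset.sum_congr rfl fun x _ => ?_
    split
    · rename_i h; rw [extendByZero_of_mem _ h]
    · rename_i h; rw [extendByZero_of_not_mem _ h]
  have hmono : ∀ g, cnt g ≤ cnt (g * g) := fun g => Finset.card_le_card fun x hx => by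
    simp only [Finset.mem_filter, Finset.mem_univ, true_and] at hx ⊢
    have := H.mul_mem hx hx
    simpa [mul_assoc] using this
  have hlt : ∑ g : G, cnt g < ∑ g : G, cnt (g * g) := by
    have : Fact (Nat.Prime 2) := ⟨Nat.prime_two⟩
    obtain ⟨q, hq⟩ := exists_prime_orderOf_dvd_card' (G := G ⧸ H.normalCore) 2
      (by rw [← Subgroup.index_eq_card]; exact even_iff_two_dvd.mp hev)
    obtain ⟨g, rfl⟩ := QuotientGroup.mk_surjective q
    refine Finset.sum_lt_sum (fun g _ => hmono g) ⟨g, Finset.mem_univ _, ?_⟩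
    have hgg : g * g ∈ H.normalCore := by
      rw [← QuotientGroup.eq_one_iff, QuotientGroup.mk_mul, ← sq, ← hq, pow_orderOf_eq_one]
    refine Finset.card_lt_card (Finset.ssubset_iff_of_subset ?_ |>.mpr ?_)
    · intro x hx
      simp only [Finset.mem_filter, Finset.mem_univ, true_and] at hx ⊢
      have := H.mul_mem hx hx
      simpa [mul_assoc] using this
    · have hgn : g ∉ H.normalCore := fun h => by
        rw [(QuotientGroup.eq_one_iff g).mpr h, orderOf_one] at hq; omega
      obtain ⟨b, hb⟩ : ∃ b : G, b * g * b⁻¹ ∉ H := by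
        by_contra h; push Not at h; exact hgn h
      refine ⟨b⁻¹, ?_, ?_⟩
      · simp only [Finset.mem_filter, Finset.mem_univ, true_and, inv_inv]
        exact Subgroup.normalCore_le H (H.normalCore_normal.conj_mem _ hgg b)
      · simpa using hb
  choose m hm using fun χ : Cfsg.IrrCharacter G =>
    isCharacter_classInner_nat hπ (irr_isCharacter χ)
  have hexp : ∀ g, Cfsg.indFun H one g = ∑ χ : Cfsg.IrrCharacter G, (m χ : ℂ) * (χ : G → ℂ) g :=
    fun g => by
      rw [isClassFunction_apply_eq_sum_classInner (isClassFunction_of_isCharacter hπ) g]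
      simp [hm]
  have hm1 : m (trivialIrr G) = 1 := by
    have h := hm (trivialIrr G)
    rw [classInner_indFun_left H one _ (irr_isClassFunction _)] at h
    simp [Cfsg.classInner, hone, Nat.card_eq_fintype_card] at h
    exact_mod_cast h.symm
  have hν1 : indicator (trivialIrr G : G → ℂ) = 1 := by
    simp [indicator, Nat.card_eq_fintype_card]
  have htotal : (∑ g : G, (cnt g : ℂ)) = (Nat.card G : ℂ) * Nat.card H := by
    have h1 := classInner_indFun_left H one (trivialIrr G : G → ℂ) (irr_isClassFunction _)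
    have h2 : Cfsg.classInner one (fun h : H => (trivialIrr G : G → ℂ) h) = 1 := by
      simp [Cfsg.classInner, hone, Nat.card_eq_fintype_card]
    rw [h2] at h1
    simp only [Cfsg.classInner, trivialIrr_apply, map_one, mul_one, hcnt, ← Finset.mul_sum] at h1
    have hH : (Nat.card H : ℂ) ≠ 0 := natCard_ne_zero
    have hG : (Nat.card G : ℂ) ≠ 0 := natCard_ne_zero
    field_simp at h1
    linear_combination h1
  have htotal2 : (∑ g : G, (cnt (g * g) : ℂ)) =
      (Nat.card G : ℂ) * Nat.card H * ∑ χ : Cfsg.IrrCharacter G, (m χ : ℂ) * indicator (χ : G → ℂ) := by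
    have h1 : ∀ g, (cnt (g * g) : ℂ) =
        (Nat.card H : ℂ) * ∑ χ : Cfsg.IrrCharacter G, (m χ : ℂ) * (χ : G → ℂ) (g * g) := fun g => by
      rw [← hexp, hcnt, mul_inv_cancel_left₀ natCard_ne_zero]
    simp only [h1, ← Finset.mul_sum]
    rw [Finset.sum_comm, mul_comm (Nat.card G : ℂ), mul_assoc, Finset.mul_sum Finset.univ
      (fun χ : Cfsg.IrrCharacter G => (m χ : ℂ) * indicator (χ : G → ℂ))]
    congr 1
    refine Finset.sum_congr rfl fun χ _ => ?_
    rw [indicator, mul_left_comm (Nat.card G : ℂ), mul_inv_cancel_left₀ natCard_ne_zero,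
      Finset.mul_sum]
  choose z hz hzle using fun χ : Cfsg.IrrCharacter G =>
    (show ∃ z : ℤ, (m χ : ℂ) * indicator (χ : G → ℂ) = z ∧
        (χ ≠ trivialIrr G → z ≤ 0) by
      rcases indicator_cases χ with ⟨hr, h | h⟩ | ⟨-, h⟩
      · refine ⟨m χ, by simp [h], fun hne => ?_⟩
        by_contra hpos
        refine hne (huniq χ ?_ hr h)
        rw [hm χ, Nat.cast_ne_zero]
        omega
      · exact ⟨-(m χ : ℤ), by simp [h], fun _ => by omega⟩
      · exact ⟨0, by simp [h], fun _ => le_rfl⟩)
  have hle : ∑ χ : Cfsg.IrrCharacter G, z χ ≤ 1 := by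
    rw [← Finset.add_sum_erase _ _ (Finset.mem_univ (trivialIrr G))]
    have h1 : z (trivialIrr G) = 1 := by
      have := hz (trivialIrr G)
      rw [hm1, hν1] at this
      exact_mod_cast (by simpa using this.symm : ((z (trivialIrr G) : ℤ) : ℂ) = 1)
    rw [h1]
    linarith [Finset.sum_nonpos fun χ (hχ : χ ∈ Finset.univ.erase (trivialIrr G)) =>
      hzle χ (Finset.mem_erase.mp hχ).1]
  simp only [hz] at htotal2
  have e1 : ((∑ g : G, cnt g : ℕ) : ℤ) = (Nat.card G : ℤ) * Nat.card H := by
    exact_mod_cast htotal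
  have e2 : ((∑ g : G, cnt (g * g) : ℕ) : ℤ) = (Nat.card G : ℤ) * Nat.card H * ∑ χ, z χ := by
    have : (((∑ g : G, cnt (g * g) : ℕ) : ℤ) : ℂ) =
        (((Nat.card G : ℤ) * Nat.card H * ∑ χ, z χ : ℤ) : ℂ) := by
      push_cast; exact htotal2
    exact_mod_cast this
  have hlt' : ((∑ g : G, cnt g : ℕ) : ℤ) < ((∑ g : G, cnt (g * g) : ℕ) : ℤ) := by exact_mod_cast hlt
  rw [e1, e2] at hlt'
  nlinarith [mul_le_mul_of_nonneg_left hle
    (show (0 : ℤ) ≤ (Nat.card G : ℤ) * Nat.card H by positivity)]


/-- Let H be a subgroup of the finite group G and consider the permutation character of G on the cosets of H (the function induced from the principal character of H). Then exactly one irreducible constituent of it is real-valued with Frobenius–Schur indicator +1 (namely the principal character) if and only if the normal core of H has odd index in G. -/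
theorem result {G : Type*} [Group G] [Fintype G] (H : Subgroup G) : Nat.card {χ : Cfsg.IrrCharacter G // Cfsg.classInner (Cfsg.indFun H (fun _ : H => (1 : ℂ))) (χ : G → ℂ) ≠ 0 ∧ (∀ g : G, (starRingEnd ℂ) ((χ : G → ℂ) g) = (χ : G → ℂ) g) ∧ (Nat.card G : ℂ)⁻¹ * ∑ g : G, (χ : G → ℂ) (g * g) = 1} = 1 ↔ Odd H.normalCore.index := by
  classical
  set one : ↥H → ℂ := fun _ => 1 with hone
  have hπ : Cfsg.IsCharacter G (Cfsg.indFun H one) :=
    isCharacter_indFun H (isCharacter_of_isIrrCharacter isIrrCharacter_one)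
  have : Fintype H := Fintype.ofFinite _
  have htriv : Cfsg.classInner (Cfsg.indFun H one) (trivialIrr G : G → ℂ) = 1 := by
    rw [classInner_indFun_left H one _ (irr_isClassFunction _)]
    simp [Cfsg.classInner, hone, Nat.card_eq_fintype_card]
  let S := {χ : Cfsg.IrrCharacter G // Cfsg.classInner (Cfsg.indFun H one) (χ : G → ℂ) ≠ 0 ∧
    (∀ g : G, (starRingEnd ℂ) ((χ : G → ℂ) g) = (χ : G → ℂ) g) ∧
    (Nat.card G : ℂ)⁻¹ * ∑ g : G, (χ : G → ℂ) (g * g) = 1}
  let t₀ : S := ⟨trivialIrr G, by rw [htriv]; exact one_ne_zero, fun g => by simp, by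
    simp [Nat.card_eq_fintype_card]⟩
  change Nat.card S = 1 ↔ _
  constructor
  · intro hS
    rw [← Nat.not_even_iff_odd]
    intro hev
    obtain ⟨hsub, -⟩ := Nat.card_eq_one_iff_unique.mp hS
    exact false_of_even H hev fun χ hne hreal hν => by
      have : (⟨χ, hne, hreal, hν⟩ : S) = t₀ := Subsingleton.elim _ _
      exact congrArg Subtype.val this
  · intro hodd
    refine Nat.card_eq_one_iff_unique.mpr ⟨⟨fun a b => ?_⟩, ⟨t₀⟩⟩
    have key : ∀ a : S, a.1 = trivialIrr G :=
      fun a => eq_trivial_of_odd H hodd a.1 a.2.1 a.2.2.2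
    exact Subtype.ext ((key a).trans (key b).symm)

end Cfsg.Agent.S4784
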