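import Cfsg.Statements.S4796
import Cfsg.Agent.Lib.Codegree
import Cfsg.Agent.Lib.Frobenius.Basic
-- import your own Cfsg.Agent.* helpers here

set_option autoImplicit false
open Cfsg

namespace Cfsg.Agent.S4796

open Cfsg.Agent.Lib.Chars Cfsg.Agent.Lib.Codegree


/-- Let G be a finite group with a faithful irreducible complex character χ whose codegree #G / χ(1) is a prime p (for a faithful character the kernel is trivial, so the codegree is #G / χ(1)). Then either G is cyclic of order p, or G is a Frobenius group whose Frobenius kernel has order p: some proper non-trivial subgroup H satisfies H ∩ gHg⁻¹ = 1 for every element g outside H, and the set of elements lying in no conjugate of H, together with the identity, has exactly p elements. -/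
theorem result {G : Type*} [Group G] [Finite G] (χ : Cfsg.IrrCharacter G) (hfaith : ∀ g : G, (χ : G → ℂ) g = (χ : G → ℂ) 1 → g = 1) (p : ℕ) (hp : p.Prime) (hcod : Nat.card G = p * Cfsg.charDegree (χ : G → ℂ)) : (IsCyclic G ∧ Nat.card G = p) ∨ ∃ H : Subgroup G, Cfsg.IsFrobeniusComplement H ∧ Nat.card ↥(Cfsg.frobeniusKernel H) = p := by
  have : Fact p.Prime := ⟨hp⟩
  obtain ⟨d, -, hd, -⟩ := irr_degree_dvd_card χ
  rw [charDegree_eq hd] at hcod
  obtain ⟨hd0, hdp, P, hPn, hPc, hCP⟩ := prime_codegree_structure χ hfaith hd hcod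
  rcases eq_or_ne d 1 with rfl | hd1
  · rw [mul_one] at hcod
    exact Or.inl ⟨isCyclic_of_prime_card hcod, hcod⟩
  right
  have hidx : P.index = d := by
    have := P.card_mul_index
    rw [hPc, hcod] at this
    exact Nat.eq_of_mul_eq_mul_left hp.pos this
  have hcop : Nat.Coprime (Nat.card P) P.index := by
    rw [hPc, hidx, hp.coprime_iff_not_dvd]
    exact Nat.not_dvd_of_pos_of_lt hd0 hdp
  obtain ⟨H, hH⟩ := Subgroup.exists_right_complement'_of_coprime hcop
  have hP1 : P ≠ ⊥ := fun h => hp.ne_one (by rw [← hPc, h, Subgroup.card_bot])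
  have hHi : H.index = p := by
    rw [← hPc]
    exact hH.index_eq_card
  have hH1 : H ≠ ⊥ := by
    intro h
    rw [h, Subgroup.index_bot, hcod] at hHi
    exact hd1 (Nat.eq_of_mul_eq_mul_left hp.pos (hHi.trans (mul_one p).symm))
  have hFrob : Cfsg.IsFrobeniusComplement H := by
    refine Lib.Frobenius.isFrobeniusComplement_of_fpf hH hP1 hH1 fun h hh h1 => ?_
    by_contra hne
    have htop : P ⊓ Subgroup.centralizer {h} = P := by
      refine Subgroup.eq_of_le_of_card_ge inf_le_left ?_
      rcases (Nat.dvd_prime hp).mp (hPc ▸ Subgroup.card_dvd_of_le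
        (inf_le_left : P ⊓ Subgroup.centralizer {h} ≤ P)) with h2 | h2
      · exact absurd (Subgroup.card_eq_one.mp h2) hne
      · rw [h2, hPc]
    have hhC : h ∈ Subgroup.centralizer (P : Set G) := fun x hx => by
      have : x ∈ P ⊓ Subgroup.centralizer {h} := htop.symm ▸ hx
      exact Subgroup.mem_centralizer_singleton_iff.mp (Subgroup.mem_inf.mp this).2
    rw [hCP] at hhC
    exact h1 (Subgroup.mem_bot.mp (disjoint_iff.mp hH.disjoint ▸ Subgroup.mem_inf.mpr ⟨hhC, hh⟩))
  exact ⟨H, hFrob, by rw [Lib.Frobenius.card_frobeniusKernel hFrob, hHi]⟩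

end Cfsg.Agent.S4796
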