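import Cfsg.Statements.S4797
import Cfsg.Agent.Lib.Codegree
-- import your own Cfsg.Agent.* helpers here

set_option autoImplicit false
open Cfsg

namespace Cfsg.Agent.S4797

open Cfsg.Agent.Lib.Chars Cfsg.Agent.Lib.Codegree


/-- The codegree of an irreducible complex character χ of a finite group G is [G : ker χ] / χ(1), where ker χ is the set of elements at which χ takes the value χ(1). A non-trivial finite group is perfect if and only if no irreducible complex character of it has prime codegree. -/
theorem result {G : Type*} [Group G] [Finite G] [Nontrivial G] : commutator G = ⊤ ↔ ∀ χ : Cfsg.IrrCharacter G, ¬ ((Nat.card G / (Nat.card {g : G // (χ : G → ℂ) g = (χ : G → ℂ) 1} * Cfsg.charDegree (χ : G → ℂ)))).Prime := by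
  constructor
  · intro hperf χ hprime
    obtain ⟨d, -, hd, -⟩ := irr_degree_dvd_card χ
    rw [cod_eq χ hd] at hprime
    have := kerIrr_normal χ
    obtain ⟨ψ, hψ1, hψf⟩ := exists_faithful_quotient χ (kerIrr χ) fun g => mem_kerIrr χ
    rw [hd] at hψ1
    set p := (kerIrr χ).index / d with hp
    have : Fact p.Prime := ⟨hprime⟩
    have hcard : Nat.card (G ⧸ kerIrr χ) = p * d := by
      rw [← Subgroup.index_eq_card, hp, Nat.div_mul_cancel (degree_dvd_index_ker χ hd)]
    obtain ⟨hd0, hdp, P, hPn, hPc, hCP⟩ := prime_codegree_structure ψ hψf hψ1 hcard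
    have : IsCyclic P := isCyclic_of_prime_card hPc
    let f : (G ⧸ kerIrr χ) →* MulAut P := MulAut.conjNormal
    have hcomm : ∀ a b : MulAut P, a * b = b * a := fun a b =>
      (IsCyclic.mulAutMulEquiv P).injective (by rw [map_mul, map_mul, mul_comm])
    have htopQ : commutator (G ⧸ kerIrr χ) = ⊤ := by
      rw [commutator_def, ← MonoidHom.range_eq_top.mpr (QuotientGroup.mk'_surjective (kerIrr χ)),
        MonoidHom.range_eq_map, ← Subgroup.map_commutator, ← commutator_def, hperf]
    have hker : commutator (G ⧸ kerIrr χ) ≤ f.ker := by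
      rw [commutator_def, Subgroup.commutator_le]
      intro a _ b _
      rw [MonoidHom.mem_ker, map_commutatorElement, commutatorElement_eq_one_iff_mul_comm]
      exact hcomm _ _
    rw [htopQ] at hker
    have hall : ∀ q : G ⧸ kerIrr χ, q ∈ P := fun q => by
      rw [← hCP]
      intro x hx
      have h1 : (f q ⟨x, hx⟩ : G ⧸ kerIrr χ) = x := by
        rw [MonoidHom.mem_ker.mp (hker (Subgroup.mem_top q))]; rfl
      rw [MulAut.conjNormal_apply] at h1
      exact (mul_inv_eq_iff_eq_mul.mp h1).symm
    have hbot : commutator (G ⧸ kerIrr χ) = ⊥ := by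
      rw [commutator_def, Subgroup.commutator_eq_bot_iff_le_centralizer]
      intro a _ b _
      have ha : a ∈ Subgroup.centralizer (P : Set (G ⧸ kerIrr χ)) := by rw [hCP]; exact hall a
      exact ha b (hall b)
    rw [htopQ] at hbot
    have h1 : Nat.card (G ⧸ kerIrr χ) = 1 := by
      rw [← Subgroup.card_top, hbot, Subgroup.card_bot]
    rw [hcard] at h1
    exact hprime.ne_one (Nat.eq_one_of_mul_eq_one_right h1)
  · intro h
    by_contra hne
    obtain ⟨M, hM, hGM⟩ := (eq_top_or_exists_le_coatom (commutator G)).resolve_left hne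
    have : M.Normal := Subgroup.Normal.of_conjugate_fixed fun g => by
      ext x
      rw [Subgroup.mem_pointwise_smul_iff_inv_smul_mem, MulAut.smul_def]
      simp only [← map_inv, MulAut.conj_apply, inv_inv]
      have key : ∀ (g x : G), x ∈ M → g * x * g⁻¹ ∈ M := fun g x hx => by
        have := M.mul_mem (hGM (Subgroup.commutator_mem_commutator (Subgroup.mem_top g)
          (Subgroup.mem_top x))) hx
        simpa [commutatorElement_def, mul_assoc] using this
      exact ⟨fun hx => by simpa [mul_assoc] using key g _ hx,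
        fun hx => by simpa using key g⁻¹ _ hx⟩
    have hcomm : IsMulCommutative (G ⧸ M) :=
      (Subgroup.Normal.quotient_commutative_iff_commutator_le).mpr hGM
    have hidx : M.index.Prime := by
      have : Nontrivial (G ⧸ M) := QuotientGroup.nontrivial_iff.mpr hM.1
      have : IsSimpleGroup (G ⧸ M) := ⟨fun N _ => by
        rcases hM.le_iff.mp (show M ≤ N.comap (QuotientGroup.mk' M) from fun x hx => by
          rw [Subgroup.mem_comap, QuotientGroup.mk'_apply, (QuotientGroup.eq_one_iff x).mpr hx]
          exact N.one_mem) with hc | hc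
        · right
          rw [← Subgroup.map_comap_eq_self_of_surjective (QuotientGroup.mk'_surjective M) N, hc,
            Subgroup.map_top_of_surjective _ (QuotientGroup.mk'_surjective M)]
        · left
          rw [← Subgroup.map_comap_eq_self_of_surjective (QuotientGroup.mk'_surjective M) N, hc,
            Subgroup.map_eq_bot_iff, QuotientGroup.ker_mk']⟩
      let : CommGroup (G ⧸ M) := { (inferInstance : Group (G ⧸ M)) with mul_comm := hcomm.1.1 }
      rw [Subgroup.index_eq_card]
      exact IsSimpleGroup.prime_card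
    obtain ⟨ψ, hψ⟩ : ∃ ψ : Cfsg.IrrCharacter (G ⧸ M), ψ ≠ trivialIrr _ := by
      by_contra hc
      push Not at hc
      have h1 : Nat.card {χ : Cfsg.IrrCharacter (G ⧸ M) // (χ : G ⧸ M → ℂ) 1 = 1} ≤ 1 :=
        Finite.card_le_one_iff_subsingleton.mpr ⟨fun a b => Subtype.ext ((hc a).trans (hc b).symm)⟩
      rw [card_linear_irr] at h1
      have h2 : commutator (G ⧸ M) = ⊥ := by
        rw [commutator_def, Subgroup.commutator_eq_bot_iff_le_centralizer]
        intro a _ b _
        exact hcomm.1.1 b a
      rw [h2, Subgroup.index_bot, ← Subgroup.index_eq_card] at h1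
      exact absurd hidx.one_lt (not_lt.mpr h1)
    refine h (inflate M ψ) ?_
    have h1 : (inflate M ψ : G → ℂ) 1 = ((1 : ℕ) : ℂ) := by
      rw [Nat.cast_one]; exact irr_apply_one_of_comm ψ
    rw [cod_eq _ h1, Nat.div_one]
    have hle : M ≤ kerIrr (inflate M ψ) := fun x hx => by
      rw [mem_kerIrr]
      simp [inflate, (QuotientGroup.eq_one_iff x).mpr hx]
    rcases hM.le_iff.mp hle with h2 | h2
    · exfalso
      apply hψ
      refine Subtype.ext (funext fun x => ?_)
      obtain ⟨g, rfl⟩ := QuotientGroup.mk_surjective x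
      have := (mem_kerIrr (inflate M ψ)).mp (h2 ▸ Subgroup.mem_top g)
      simp only [inflate, QuotientGroup.mk_one] at this
      rw [trivialIrr_apply, this, irr_apply_one_of_comm]
    · rw [h2]; exact hidx

end Cfsg.Agent.S4797
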