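import Cfsg.Statements.S4798
import Cfsg.Agent.Lib.Codegree
-- import your own Cfsg.Agent.* helpers here

set_option autoImplicit false
open Cfsg

namespace Cfsg.Agent.S4798

open Cfsg.Agent.Lib.Chars Cfsg.Agent.Lib.Codegree

/-- A character containing `χ` of degree at most `χ 1` is `χ`. -/
theorem eq_indFun_of_le {G : Type*} [Group G] [Fintype G] (H : Subgroup G) [Fintype H]
    (χ : Cfsg.IrrCharacter G) (θ : Cfsg.IrrCharacter H)
    (hne : Cfsg.classInner (fun x : H => (χ : G → ℂ) x) (θ : H → ℂ) ≠ 0) {d n : ℕ}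
    (hd : (χ : G → ℂ) 1 = d) (hn : (θ : H → ℂ) 1 = n) (hle : H.index * n ≤ d) :
    (χ : G → ℂ) = Cfsg.indFun H (θ : H → ℂ) := by
  classical
  have hind := isCharacter_indFun H (irr_isCharacter θ)
  choose c hc using fun ψ : Cfsg.IrrCharacter G => isCharacter_classInner_nat hind (irr_isCharacter ψ)
  choose e he0 he _he using fun ψ : Cfsg.IrrCharacter G => irr_degree_dvd_card ψ
  have hexp := isClassFunction_eq_sum_classInner (isClassFunction_of_isCharacter hind)
  have h1 := congrFun hexp 1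
  simp only [Finset.sum_apply, Pi.smul_apply, hc, smul_eq_mul, he, indFun_one_eq, hn] at h1
  have h1' : H.index * n = ∑ ψ, c ψ * e ψ := by exact_mod_cast h1
  have hcχ : 1 ≤ c χ := by
    by_contra h
    apply hne
    have h3 := classInner_indFun_left H (θ : H → ℂ) (χ : G → ℂ) (irr_isClassFunction χ)
    rw [hc χ, show c χ = 0 by omega, Nat.cast_zero] at h3
    rw [← conj_classInner, ← h3, map_zero]
  have hdχ : e χ = d := by
    have := he χ
    rw [hd] at this
    exact_mod_cast this.symm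
  rw [← Finset.add_sum_erase _ _ (Finset.mem_univ χ), hdχ] at h1'
  have hd0 : 0 < d := hdχ ▸ he0 χ
  have hcd : d ≤ c χ * d := Nat.le_mul_of_pos_left _ hcχ
  have hrest : ∑ ψ ∈ Finset.univ.erase χ, c ψ * e ψ = 0 := by omega
  have hc1 : c χ = 1 := Nat.eq_of_mul_eq_mul_right hd0 (by omega)
  rw [hexp, Finset.sum_eq_single χ ?_ (fun h => absurd (Finset.mem_univ χ) h), hc χ, hc1,
    Nat.cast_one, one_smul]
  intro ψ _ hψ
  have := Finset.sum_eq_zero_iff.mp hrest ψ (Finset.mem_erase.mpr ⟨hψ, Finset.mem_univ _⟩)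
  rw [hc ψ, (Nat.mul_eq_zero.mp this).resolve_right (he0 ψ).ne', Nat.cast_zero, zero_smul]

/-- If an irreducible character is induced, it is induced from an irreducible constituent. -/
theorem exists_constituent {G : Type*} [Group G] [Fintype G] (H : Subgroup G) [Fintype H]
    (χ : Cfsg.IrrCharacter G) (θ : H → ℂ) (hθ : Cfsg.IsCharacter H θ)
    (h : (χ : G → ℂ) = Cfsg.indFun H θ) :
    ∃ (θ' : Cfsg.IrrCharacter H) (n : ℕ), n ∣ Nat.card H ∧ (θ' : H → ℂ) 1 = n ∧
      (χ : G → ℂ) = Cfsg.indFun H (θ' : H → ℂ) := by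
  classical
  choose m hm using fun θ' : Cfsg.IrrCharacter H =>
    isCharacter_classInner_nat hθ (irr_isCharacter θ')
  choose n hn0 hn hndvd using fun θ' : Cfsg.IrrCharacter H => irr_degree_dvd_card θ'
  obtain ⟨d, hd0, hd, -⟩ := irr_degree_dvd_card χ
  have hθexp := isClassFunction_eq_sum_classInner (isClassFunction_of_isCharacter hθ)
  have hres := isCharacter_restrict H (irr_isCharacter χ)
  choose r hr using fun θ' : Cfsg.IrrCharacter H =>
    isCharacter_classInner_nat (irr_isCharacter θ') hres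
  have h1 : (1 : ℂ) = Cfsg.classInner θ (fun x : H => (χ : G → ℂ) x) := by
    rw [← classInner_indFun_left H θ _ (irr_isClassFunction χ), ← h, classInner_irr_self]
  rw [hθexp, classInner_sum_left] at h1
  simp only [classInner_smul_left, hm, hr] at h1
  have h1' : 1 = ∑ θ', m θ' * r θ' := by exact_mod_cast h1
  obtain ⟨θ', -, hθ'⟩ := Finset.exists_ne_zero_of_sum_ne_zero (h1'.symm.trans_ne one_ne_zero)
  obtain ⟨hm', hr'⟩ := Nat.mul_ne_zero_iff.mp hθ'
  refine ⟨θ', n θ', hndvd θ', hn θ', eq_indFun_of_le H χ θ' ?_ hd (hn θ') ?_⟩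
  · rw [← conj_classInner, hr, map_natCast, Nat.cast_ne_zero]
    exact hr'
  · have h2 := congrFun h 1
    rw [indFun_one_eq, hd] at h2
    have h3 := congrFun hθexp 1
    simp only [Finset.sum_apply, Pi.smul_apply, hm, smul_eq_mul, hn] at h3
    rw [h3] at h2
    have h4 : d = H.index * ∑ x, m x * n x := by exact_mod_cast h2
    rw [h4]
    exact Nat.mul_le_mul_left _ ((Nat.le_mul_of_pos_left _ (Nat.pos_of_ne_zero hm')).trans
      (Finset.single_le_sum (f := fun x => m x * n x) (fun _ _ => Nat.zero_le _) (Finset.mem_univ θ')))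


/-- Let p be a prime and χ a faithful irreducible complex character of the finite group G (χ(g) = χ(1) only for g = 1), so that its codegree is #G / χ(1). Then #G / χ(1) is a power of p if and only if χ is induced from a character of a Sylow p-subgroup of G. -/
theorem result {G : Type*} [Group G] [Fintype G] (p : ℕ) [Fact p.Prime] (χ : Cfsg.IrrCharacter G) (hfaith : ∀ g : G, (χ : G → ℂ) g = (χ : G → ℂ) 1 → g = 1) : (∃ k : ℕ, Nat.card G = p ^ k * Cfsg.charDegree (χ : G → ℂ)) ↔ ∃ (P : Sylow p G) (θ : ↥(P : Subgroup G) → ℂ), Cfsg.IsCharacter ↥(P : Subgroup G) θ ∧ (χ : G → ℂ) = Cfsg.indFun (P : Subgroup G) θ := by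
  obtain ⟨d, hd0, hd, hddvd⟩ := irr_degree_dvd_card χ
  rw [charDegree_eq hd]
  classical
  have hfin : ∀ P : Sylow p G, ∃ a i : ℕ, Nat.card (P : Subgroup G) = p ^ a ∧
      (P : Subgroup G).index = i ∧ ¬ p ∣ i ∧ Nat.card G = p ^ a * i := fun P => by
    obtain ⟨a, ha⟩ := IsPGroup.iff_card.mp P.2
    exact ⟨a, _, ha, rfl, P.not_dvd_index, by rw [← ha, Subgroup.card_mul_index]⟩
  constructor
  · rintro ⟨k, hk⟩
    let P : Sylow p G := default
    obtain ⟨a, i, ha, hi, hpi, hG⟩ := hfin P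
    have hp : p.Prime := Fact.out
    have hid : i ∣ d := by
      refine (((hp.coprime_iff_not_dvd.mpr hpi).symm).pow_right k).dvd_of_dvd_mul_left ?_
      rw [← hk, hG]; exact dvd_mul_left _ _
    obtain ⟨e, rfl⟩ := hid
    have hpe : p ^ k * e = p ^ a := by
      have hi0 : 0 < i := Nat.pos_of_ne_zero fun h => hpi (h ▸ dvd_zero p)
      rw [hG] at hk
      exact Nat.eq_of_mul_eq_mul_right hi0 (by rw [hk]; ring)
    obtain ⟨b, -, rfl⟩ := (Nat.dvd_prime_pow hp).mp (hpe ▸ dvd_mul_left e (p ^ k) : e ∣ p ^ a)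
    have : Fintype (P : Subgroup G) := Fintype.ofFinite _
    have hres : Cfsg.IsCharacter (P : Subgroup G) (fun x : (P : Subgroup G) => (χ : G → ℂ) x) :=
      isCharacter_restrict _ (irr_isCharacter χ)
    choose m hm using fun θ : Cfsg.IrrCharacter (P : Subgroup G) =>
      isCharacter_classInner_nat hres (irr_isCharacter θ)
    choose n hn0 hn hndvd using fun θ : Cfsg.IrrCharacter (P : Subgroup G) => irr_degree_dvd_card θ
    have hdec : i * p ^ b = ∑ θ, m θ * n θ := by
      have h := congrFun (isClassFunction_eq_sum_classInner (isClassFunction_of_isCharacter hres)) 1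
      simp only [Finset.sum_apply, Pi.smul_apply, hm, smul_eq_mul, hn, OneMemClass.coe_one, hd] at h
      exact_mod_cast h
    obtain ⟨θ, hθm, hθn⟩ : ∃ θ, m θ ≠ 0 ∧ n θ ≤ p ^ b := by
      by_contra h
      push Not at h
      have hall : p ^ (b + 1) ∣ ∑ θ, m θ * n θ := by
        refine Finset.dvd_sum fun θ _ => ?_
        rcases eq_or_ne (m θ) 0 with hz | hz
        · simp [hz]
        obtain ⟨c, -, hc⟩ := (Nat.dvd_prime_pow hp).mp (ha ▸ hndvd θ)
        have := h θ hz
        rw [hc] at this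
        exact Dvd.dvd.mul_left (hc ▸ pow_dvd_pow p ((Nat.pow_lt_pow_iff_right hp.one_lt).mp this)) _
      rw [← hdec, pow_succ, mul_comm i] at hall
      exact hpi (Nat.dvd_of_mul_dvd_mul_left (pow_pos hp.pos b) hall)
    refine ⟨P, θ.1, irr_isCharacter θ, ?_⟩
    exact eq_indFun_of_le (P : Subgroup G) χ θ (by rw [hm, Nat.cast_ne_zero]; exact hθm) hd (hn θ)
      (by rw [hi]; exact Nat.mul_le_mul_left _ hθn)
  · rintro ⟨P, θ, hθ, hχθ⟩
    obtain ⟨a, i, ha, hi, hpi, hG⟩ := hfin P
    have : Fintype (P : Subgroup G) := Fintype.ofFinite _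
    obtain ⟨θ', n, hn, hn1, hne⟩ := exists_constituent (P : Subgroup G) χ θ hθ hχθ
    obtain ⟨c, hc, hca⟩ : ∃ c, c ≤ a ∧ n = p ^ c := (Nat.dvd_prime_pow (Fact.out : p.Prime)).mp (ha ▸ hn)
    refine ⟨a - c, ?_⟩
    have : d = i * n := by
      have h := congrFun hne 1
      rw [indFun_one_eq, hd, hn1, hi] at h
      exact_mod_cast h
    rw [this, hG, hca, mul_left_comm, ← pow_add, Nat.sub_add_cancel hc, mul_comm]

end Cfsg.Agent.S4798
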