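import Cfsg.Statements.S4801
import Cfsg.Agent.Lib.Codegree
-- import your own Cfsg.Agent.* helpers here

set_option autoImplicit false
open Cfsg

namespace Cfsg.Agent.S4801

open Cfsg.Agent.Lib.Chars Cfsg.Agent.Lib.Codegree


/-- The codegree of an irreducible complex character χ of a finite group G is [G : ker χ] / χ(1), where ker χ is the set of elements at which χ takes the value χ(1). Let S be a finite simple group and G a finite group such that every codegree of an irreducible character of S is a codegree of an irreducible character of G. Then the order of S divides the order of G. -/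
theorem result {S : Type*} [Group S] [Finite S] (hS : IsSimpleGroup S) {G : Type*} [Group G] [Finite G] (hsub : ∀ χ : Cfsg.IrrCharacter S, ∃ ψ : Cfsg.IrrCharacter G, (Nat.card S / (Nat.card {g : S // (χ : S → ℂ) g = (χ : S → ℂ) 1} * Cfsg.charDegree (χ : S → ℂ))) = (Nat.card G / (Nat.card {g : G // (ψ : G → ℂ) g = (ψ : G → ℂ) 1} * Cfsg.charDegree (ψ : G → ℂ)))) : Nat.card S ∣ Nat.card G := by
  refine (Nat.dvd_iff_prime_pow_dvd_dvd _ _).mpr fun p k hp hk => ?_
  rcases Nat.eq_zero_or_pos k with rfl | hk0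
  · simp
  have hpS : p ∣ Nat.card S := (dvd_pow_self p hk0.ne').trans hk
  classical
  cases nonempty_fintype S
  choose m hm0 hm hmd using fun χ : Cfsg.IrrCharacter S => irr_degree_dvd_card χ
  obtain ⟨χ, hne, hχ⟩ : ∃ χ : Cfsg.IrrCharacter S, χ ≠ trivialIrr S ∧ ¬ p ∣ m χ := by
    by_contra h
    push Not at h
    have hsum := sum_degree_sq (G := S)
    simp only [hm] at hsum
    have hsum' : ∑ χ : Cfsg.IrrCharacter S, m χ ^ 2 = Nat.card S := by exact_mod_cast hsum
    have h1 : m (trivialIrr S) = 1 := by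
      have := hm (trivialIrr S)
      rw [trivialIrr_apply] at this
      exact_mod_cast this.symm
    rw [← Finset.add_sum_erase _ _ (Finset.mem_univ (trivialIrr S)), h1, one_pow] at hsum'
    rw [← hsum'] at hpS
    have hrest : p ∣ ∑ χ ∈ Finset.univ.erase (trivialIrr S), m χ ^ 2 :=
      Finset.dvd_sum fun χ hχ => dvd_pow (h χ (Finset.mem_erase.mp hχ).1) two_ne_zero
    exact hp.one_lt.ne' (Nat.dvd_one.mp ((Nat.dvd_add_left hrest).mp hpS))
  obtain ⟨ψ, hψ⟩ := hsub χ
  obtain ⟨e, -, he, -⟩ := irr_degree_dvd_card ψ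
  rw [cod_eq χ (hm χ), cod_eq ψ he] at hψ
  have hbot : kerIrr χ = ⊥ :=
    (hS.eq_bot_or_eq_top_of_normal _ (kerIrr_normal χ)).resolve_right
      fun h => hne (eq_trivial_of_kerIrr_eq_top h)
  rw [hbot, Subgroup.index_bot] at hψ
  have h1 : p ^ k ∣ Nat.card S / m χ := by
    refine (Nat.Coprime.pow_left k (hp.coprime_iff_not_dvd.mpr hχ)).dvd_of_dvd_mul_right ?_
    rwa [Nat.div_mul_cancel (hmd χ)]
  rw [hψ] at h1
  exact h1.trans ((Nat.div_dvd_of_dvd (degree_dvd_index_ker ψ he)).trans
    (Subgroup.index_dvd_card _))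

end Cfsg.Agent.S4801
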