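import Cfsg.Statements.S4802
import Cfsg.Agent.Lib.CharsElem
-- import your own Cfsg.Agent.* helpers here

set_option autoImplicit false
open Cfsg

namespace Cfsg.Agent.S4802

open Cfsg.Agent.Lib.Chars Cfsg.Agent.Lib.CharsElem
open scoped ComplexConjugate

/-- An irreducible character sums to zero on a normal subgroup outside its kernel. -/
theorem sum_normal_eq_zero {G : Type*} [Group G] [Fintype G] (χ : Cfsg.IrrCharacter G)
    (N : Subgroup G) [N.Normal] [DecidablePred (· ∈ N)]
    (h : ∃ x ∈ N, (χ : G → ℂ) x ≠ (χ : G → ℂ) 1) :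
    ∑ a ∈ Finset.univ.filter (· ∈ N), (χ : G → ℂ) a = 0 := by
  obtain ⟨x, hx, hne⟩ := h
  obtain ⟨n, ρ, hρ, hχ⟩ := χ.2
  rw [← hχ] at hne ⊢
  set T : Module.End ℂ (Fin n → ℂ) := ∑ a ∈ Finset.univ.filter (· ∈ N), ρ a with hT
  have hcomm : ∀ k : G, T ∘ₗ ρ k = ρ k ∘ₗ T := by
    intro k
    simp only [hT, ← Module.End.mul_eq_comp, Finset.sum_mul, Finset.mul_sum, ← map_mul]
    refine Finset.sum_equiv (MulAut.conj k⁻¹).toEquiv (fun a => ?_) fun a _ => ?_
    · simp only [Finset.mem_filter, Finset.mem_univ, true_and, MulEquiv.toEquiv_eq_coe,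
        EquivLike.coe_coe, MulAut.conj_apply]
      exact ⟨fun ha => (inferInstance : N.Normal).conj_mem a ha k⁻¹, fun ha => by
        simpa [mul_assoc] using (inferInstance : N.Normal).conj_mem _ ha k⟩
    · simp [mul_assoc]
  obtain ⟨c, hc⟩ := exists_scalar_of_commute ρ T hcomm
  have hTx : T * ρ x = T := by
    simp only [hT, Finset.sum_mul, ← map_mul]
    refine Finset.sum_equiv (Equiv.mulRight x) (fun a => ?_) fun a _ => rfl
    simp [Subgroup.mul_mem_cancel_right N hx]
  have hc0 : c = 0 := by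
    rw [hc, smul_mul_assoc, one_mul] at hTx
    by_contra hc0
    exact hne (by
      rw [Representation.character, Representation.character, smul_right_injective _ hc0 hTx,
        ρ.map_one])
  have := congrArg (LinearMap.trace ℂ _) hc
  rw [hc0, zero_smul, map_zero, hT, map_sum] at this
  exact this


/-- Let N < M be normal subgroups of the finite group G and g ∈ M ∖ N. Then the conjugacy class of g is exactly M ∖ N if and only if every irreducible complex character of G whose kernel contains N takes the same value at all elements of M ∖ N, and every irreducible complex character of G whose kernel does not contain N vanishes at g. -/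
theorem result {G : Type*} [Group G] [Finite G] (N M : Subgroup G) [N.Normal] [M.Normal] (hNM : N < M) (g : G) (hgM : g ∈ M) (hgN : g ∉ N) : {h : G | IsConj g h} = (M : Set G) \ (N : Set G) ↔ ((∀ χ : Cfsg.IrrCharacter G, (∀ x ∈ N, (χ : G → ℂ) x = (χ : G → ℂ) 1) → ∀ x ∈ M, x ∉ N → ∀ y ∈ M, y ∉ N → (χ : G → ℂ) x = (χ : G → ℂ) y) ∧ (∀ χ : Cfsg.IrrCharacter G, (∃ x ∈ N, (χ : G → ℂ) x ≠ (χ : G → ℂ) 1) → (χ : G → ℂ) g = 0)) := by
  cases nonempty_fintype G
  classical
  constructor
  · intro h
    have hcl : ∀ (χ : Cfsg.IrrCharacter G), ∀ x ∈ M, x ∉ N → (χ : G → ℂ) x = (χ : G → ℂ) g :=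
      fun χ x hxM hxN => isClassFunction_apply_eq (irr_isClassFunction χ)
        ((Set.ext_iff.mp h x).mpr ⟨hxM, hxN⟩)
    refine ⟨fun χ _ x hx hx' y hy hy' => by rw [hcl χ x hx hx', hcl χ y hy hy'], fun χ hχ => ?_⟩
    obtain ⟨x, hx, hχx⟩ := hχ
    have hN := sum_normal_eq_zero χ N ⟨x, hx, hχx⟩
    have hM := sum_normal_eq_zero χ M ⟨x, hNM.le hx, hχx⟩
    rw [← Finset.sum_sdiff (fun a ha => by simp at ha ⊢; exact hNM.le ha :
        Finset.univ.filter (· ∈ N) ⊆ Finset.univ.filter (· ∈ M)), hN, add_zero,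
      Finset.sum_congr rfl (g := fun _ => (χ : G → ℂ) g) fun a ha => by
        simp at ha; exact hcl χ a ha.1 ha.2,
      Finset.sum_const, nsmul_eq_mul, mul_eq_zero] at hM
    refine hM.resolve_left ?_
    refine Nat.cast_ne_zero.mpr (Finset.card_pos.mpr ?_).ne'
    exact ⟨g, by simp [hgM, hgN]⟩
  · rintro ⟨h1, h2⟩
    refine Set.ext fun z => ⟨fun hz => ?_, fun hz => ?_⟩
    · obtain ⟨c, rfl⟩ := isConj_iff.mp hz
      exact ⟨(inferInstance : M.Normal).conj_mem g hgM c, fun hN => hgN (by
        simpa [mul_assoc] using (inferInstance : N.Normal).conj_mem _ hN c⁻¹)⟩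
    · by_contra hn
      have h0 := column_orthogonality_of_not_isConj (g := g) (h := z) hn
      have key : ∀ χ : Cfsg.IrrCharacter G, (χ : G → ℂ) g * conj ((χ : G → ℂ) z) =
          ((Complex.normSq ((χ : G → ℂ) g) : ℝ) : ℂ) := by
        intro χ
        by_cases hk : ∀ x ∈ N, (χ : G → ℂ) x = (χ : G → ℂ) 1
        · rw [h1 χ hk z hz.1 hz.2 g hgM hgN, Complex.mul_conj]
        · push Not at hk
          rw [h2 χ hk]; simp
      simp only [key, ← Complex.ofReal_sum, Complex.ofReal_eq_zero] at h0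
      have := (Finset.sum_eq_zero_iff_of_nonneg fun χ _ => Complex.normSq_nonneg _).mp h0
        (trivialIrr G) (Finset.mem_univ _)
      simp at this

end Cfsg.Agent.S4802
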