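import Cfsg.Statements.S4807
import Cfsg.Agent.Lib.RelMcKay.Main

set_option autoImplicit false
open Cfsg

namespace Cfsg.Agent.S4807

open Cfsg.Agent.Lib
open Cfsg.Agent.Lib.RelMcKay
open Cfsg.Agent.Lib.Glauberman (IsConjBy resSub Normalises charMult normGroup)

variable {G : Type*} [Group G] [Finite G]

theorem over_iff_finsum {L H : Subgroup G} (h : L ≤ H) (ν : IrrCharacter L)
    (χ : IrrCharacter H) :
    Over h ν χ ↔ (∑ᶠ l : L, (χ : H → ℂ) (Subgroup.inclusion h l) *
      (starRingEnd ℂ) ((ν : L → ℂ) l)) ≠ 0 := by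
  haveI := Fintype.ofFinite L
  have hs := Glauberman.charMult_spec (Glauberman.isCharacter_resSub h (Chars.irr_isCharacter χ))
    (Chars.irr_isCharacter ν)
  rw [classInner, inv_mul_eq_iff_eq_mul₀ (Nat.cast_ne_zero.2 Nat.card_pos.ne')] at hs
  rw [finsum_eq_sum_of_fintype]
  show charMult (resSub h (χ : H → ℂ)) (ν : L → ℂ) ≠ 0 ↔
    (∑ l : L, resSub h (χ : H → ℂ) l * (starRingEnd ℂ) ((ν : L → ℂ) l)) ≠ 0
  rw [hs, mul_ne_zero_iff, Nat.cast_ne_zero, Nat.cast_ne_zero]
  exact ⟨fun h => ⟨Nat.card_pos.ne', h⟩, And.right⟩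

theorem count_eq_card (p : ℕ) {L H : Subgroup G} (h : L ≤ H) (ν : IrrCharacter L) :
    count p H ν = Nat.card {χ : IrrCharacter H // ¬ p ∣ Cfsg.charDegree (χ : H → ℂ) ∧
      (∑ᶠ l : L, (χ : H → ℂ) (Subgroup.inclusion h l) *
        (starRingEnd ℂ) ((ν : L → ℂ) l)) ≠ 0} :=
  Nat.card_congr (Equiv.subtypeEquivRight fun χ => and_congr Iff.rfl
    ⟨fun ⟨_, o⟩ => (over_iff_finsum h ν χ).1 o, fun e => ⟨h, (over_iff_finsum h ν χ).2 e⟩⟩)

/-- Characters of the whole group. -/
noncomputable def topIrrEquiv : IrrCharacter G ≃ IrrCharacter (⊤ : Subgroup G) where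
  toFun χ := ⟨fun x => (χ : G → ℂ) x, Clifford.isIrrCharacter_comp_equiv Subgroup.topEquiv χ.2⟩
  invFun χ := ⟨fun g => (χ : (⊤ : Subgroup G) → ℂ) ⟨g, trivial⟩,
    Clifford.isIrrCharacter_comp_equiv Subgroup.topEquiv.symm χ.2⟩
  left_inv _ := rfl
  right_inv _ := rfl

/-- Let p be a prime and G a finite p-solvable group, L a normal subgroup of G, S a Sylow p-subgroup of G and P the subgroup generated by L and S (so P/L is a Sylow p-subgroup of G/L), and let ν be an irreducible complex character of L that is invariant under conjugation by every element of P. Let N be the normalizer of P in G (it contains L). Then the number of irreducible characters of G of degree prime to p lying over ν (restriction to L not orthogonal to ν) equals the number of irreducible characters of N of degree prime to p lying over ν. -/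
theorem result {G : Type*} [Group G] [Finite G] (p : ℕ) [Fact p.Prime] (hG : Cfsg.IsPSolvable p G) (L : Subgroup G) [L.Normal] (S : Sylow p G) (P : Subgroup G) (hP : P = L ⊔ (S : Subgroup G)) (hLN : L ≤ (Subgroup.normalizer ((P : Subgroup G) : Set G))) (ν : Cfsg.IrrCharacter ↥L) (hν : ∀ x ∈ P, Cfsg.IsConjCharOf L x (ν : ↥L → ℂ) (ν : ↥L → ℂ)) : Nat.card {χ : Cfsg.IrrCharacter G // ¬ p ∣ Cfsg.charDegree (χ : G → ℂ) ∧ (∑ᶠ l : ↥L, (χ : G → ℂ) (l : G) * (starRingEnd ℂ) ((ν : ↥L → ℂ) l)) ≠ 0} = Nat.card {ψ : Cfsg.IrrCharacter ↥(Subgroup.normalizer ((P : Subgroup G) : Set G)) // ¬ p ∣ Cfsg.charDegree (ψ : ↥(Subgroup.normalizer ((P : Subgroup G) : Set G)) → ℂ) ∧ (∑ᶠ l : ↥L, (ψ : ↥(Subgroup.normalizer ((P : Subgroup G) : Set G)) → ℂ) (Subgroup.inclusion hLN l) * (starRingEnd ℂ) ((ν : ↥L → ℂ) l)) ≠ 0} := by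
  have hL : L.Normal := inferInstance
  have hLn : NormBy (⊤ : Subgroup G) L := normBy_of_mem fun g _ x hx => hL.conj_mem x hx g
  have hidx : ¬ p ∣ (S : Subgroup G).relIndex ⊤ := by
    rw [Subgroup.relIndex_top_right]
    exact S.not_dvd_index
  have hstab : (S : Subgroup G) ≤ stabGroup ν := fun x hx =>
    ⟨hLn x trivial, hν x (hP ▸ Subgroup.mem_sup_right hx)⟩
  have hmain := main hG _ L ⊤ S rfl le_top hLn le_top S.isPGroup' hidx ν hstab
  have hN : (⊤ : Subgroup G) ⊓ normGroup (L ⊔ (S : Subgroup G)) =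
      Subgroup.normalizer ((P : Subgroup G) : Set G) := by
    subst hP
    rw [top_inf_eq]
    ext g
    exact Subgroup.mem_normalizer_iff.symm
  rw [hN, count_eq_card p hLN ν, count_eq_card p (le_top : L ≤ ⊤) ν] at hmain
  rw [← hmain]
  refine Nat.card_congr (Equiv.subtypeEquiv topIrrEquiv fun χ => ?_)
  exact Iff.rfl

end Cfsg.Agent.S4807
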