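import Cfsg.Statements.S4808
import Cfsg.Agent.Lib.Codegree
-- import your own Cfsg.Agent.* helpers here

set_option autoImplicit false
open Cfsg

namespace Cfsg.Agent.S4808

open Cfsg.Agent.Lib.Chars Cfsg.Agent.Lib.Codegree


/-- The codegree of an irreducible complex character χ of a finite group G is [G : ker χ] / χ(1), where ker χ is the set of elements at which χ takes the value χ(1). A prime divides the order of G if and only if it divides the codegree of some irreducible complex character of G. -/
theorem result {G : Type*} [Group G] [Finite G] (p : ℕ) (hp : p.Prime) : p ∣ Nat.card G ↔ ∃ χ : Cfsg.IrrCharacter G, p ∣ (Nat.card G / (Nat.card {g : G // (χ : G → ℂ) g = (χ : G → ℂ) 1} * Cfsg.charDegree (χ : G → ℂ))) := by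
  refine ⟨fun hdvd => ?_, ?_⟩
  · by_contra h
    push Not at h
    classical
    cases nonempty_fintype G
    have : Fact p.Prime := ⟨hp⟩
    choose m hm0 hm hmd using fun χ : Cfsg.IrrCharacter G => irr_degree_dvd_card χ
    let P : Sylow p G := default
    let K : Subgroup G := Subgroup.normalClosure ((P : Subgroup G) : Set G)
    have hK : ¬ p ∣ K.index := fun hk =>
      P.not_dvd_index (hk.trans (Subgroup.index_dvd_of_le Subgroup.subset_normalClosure))
    let A := Finset.univ.filter fun χ : Cfsg.IrrCharacter G => K ≤ kerIrr χ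
    have hnotA : ∀ χ, χ ∉ A → p ∣ m χ := by
      intro χ hχ
      simp only [A, Finset.mem_filter, Finset.mem_univ, true_and] at hχ
      have := kerIrr_normal χ
      have hidx : p ∣ (kerIrr χ).index := by
        by_contra hn
        refine hχ (Subgroup.normalClosure_le_normal fun x hx => ?_)
        obtain ⟨k, hk⟩ := IsPGroup.iff_orderOf.mp P.2 ⟨x, hx⟩
        rw [← Subgroup.orderOf_coe] at hk
        change orderOf x = p ^ k at hk
        rw [SetLike.mem_coe, ← QuotientGroup.eq_one_iff, ← orderOf_eq_one_iff]
        refine Nat.eq_one_of_dvd_coprimes ((hp.coprime_iff_not_dvd.mpr hn).pow_left k)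
          (hk ▸ orderOf_map_dvd (QuotientGroup.mk' (kerIrr χ)) x) ?_
        rw [Subgroup.index_eq_card]
        exact orderOf_dvd_natCard _
      have h2 := h χ
      rw [cod_eq χ (hm χ)] at h2
      have h3 := Nat.div_mul_cancel (degree_dvd_index_ker χ (hm χ))
      rw [← h3] at hidx
      exact (hp.dvd_mul.mp hidx).resolve_left h2
    have hA : ∑ χ ∈ A, m χ ^ 2 = K.index := by
      have := Fintype.ofFinite (G ⧸ K)
      have hsum := sum_degree_sq (G := G ⧸ K)
      rw [← Subgroup.index_eq_card] at hsum
      have : ((∑ χ ∈ A, m χ ^ 2 : ℕ) : ℂ) = (K.index : ℂ) := by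
        rw [← hsum]
        push_cast
        symm
        refine Finset.sum_bij (fun ψ _ => inflate K ψ) ?_ ?_ ?_ ?_
        · intro ψ _
          simp only [A, Finset.mem_filter, Finset.mem_univ, true_and]
          intro x hx
          rw [mem_kerIrr]
          simp only [inflate, (QuotientGroup.eq_one_iff x).mpr hx, QuotientGroup.mk_one]
        · intro a _ b _ hab
          exact inflate_injective K hab
        · intro χ hχ
          simp only [A, Finset.mem_filter, Finset.mem_univ, true_and] at hχ
          obtain ⟨ψ, hψ⟩ := exists_irr_quotient K χ fun x hx => (mem_kerIrr χ).mp (hχ hx)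
          exact ⟨ψ, Finset.mem_univ _, Subtype.ext (funext hψ)⟩
        · intro ψ _
          rw [← hm]
          simp [inflate]
      exact_mod_cast this
    have hsum := sum_degree_sq (G := G)
    simp only [hm] at hsum
    have hsum' : ∑ χ : Cfsg.IrrCharacter G, m χ ^ 2 = Nat.card G := by exact_mod_cast hsum
    rw [← Finset.sum_add_sum_compl A, hA] at hsum'
    rw [← hsum'] at hdvd
    exact hK ((Nat.dvd_add_left (Finset.dvd_sum fun χ hχ =>
      dvd_pow (hnotA χ (Finset.mem_compl.mp hχ)) two_ne_zero)).mp hdvd)
  · rintro ⟨χ, hχ⟩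
    obtain ⟨d, -, hd, -⟩ := irr_degree_dvd_card χ
    rw [cod_eq χ hd] at hχ
    exact hχ.trans ((Nat.div_dvd_of_dvd (degree_dvd_index_ker χ hd)).trans
      (Subgroup.index_dvd_card _))

end Cfsg.Agent.S4808
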