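import Cfsg.Statements.S4814
import Cfsg.Agent.Lib.CharSums.Commutator

set_option autoImplicit false
open Cfsg

namespace Cfsg.Agent.S4814

/-- Let G be a finite group such that the sum, over the irreducible complex characters χ of G, of 1/χ(1)² is less than 2. Then every element of G is a product of two commutators. -/
theorem result {G : Type*} [Group G] [Finite G]
    (h : ∑ᶠ χ : Cfsg.IrrCharacter G, 1 / ‖(χ : G → ℂ) 1‖ ^ 2 < (2 : ℝ)) (g : G) :
    ∃ a b c d : G, (a * b * a⁻¹ * b⁻¹) * (c * d * c⁻¹ * d⁻¹) = g := by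
  haveI := Fintype.ofFinite G
  rw [Lib.Chars.finsum_irr] at h
  let P := {p : (G × G) × (G × G) //
    (p.1.1 * p.1.2 * p.1.1⁻¹ * p.1.2⁻¹) * (p.2.1 * p.2.2 * p.2.1⁻¹ * p.2.2⁻¹) = g}
  suffices hne : Nat.card P ≠ 0 by
    obtain ⟨⟨p, hp⟩⟩ := (Nat.card_ne_zero.1 hne).1
    exact ⟨_, _, _, _, hp⟩
  intro h0
  have heq := Lib.CharSums.card_two_commutators_eq g
  rw [h0, Nat.cast_zero, eq_comm, mul_eq_zero] at heq
  have hz := heq.resolve_left (pow_ne_zero _ (Nat.cast_ne_zero.2 Nat.card_pos.ne'))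
  classical
  rw [← Finset.sum_erase_add _ _ (Finset.mem_univ (Lib.Chars.trivialIrr G))] at hz h
  simp only [Lib.Chars.trivialIrr_apply, norm_one, one_pow, div_one] at hz h
  have hle : ∀ χ : Cfsg.IrrCharacter G,
      ‖(χ : G → ℂ) g / (χ : G → ℂ) 1 ^ 3‖ ≤ 1 / ‖(χ : G → ℂ) 1‖ ^ 2 := by
    intro χ
    obtain ⟨n, ρ, -, hc⟩ := χ.2
    have hb : ‖(χ : G → ℂ) g‖ ≤ ‖(χ : G → ℂ) 1‖ := by
      rw [← hc, ρ.char_one, Complex.norm_natCast]; exact Lib.Chars.norm_char_le ρ g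
    have hpos : 0 < ‖(χ : G → ℂ) 1‖ := norm_pos_iff.2 (Lib.Chars.irr_apply_one_ne_zero χ)
    rw [norm_div, norm_pow, div_le_div_iff₀ (pow_pos hpos 3) (pow_pos hpos 2), one_mul, pow_succ' _ 2]
    exact mul_le_mul_of_nonneg_right hb (pow_nonneg hpos.le 2)
  have hn := congrArg norm (eq_neg_of_add_eq_zero_left hz)
  rw [norm_neg, norm_one] at hn
  have := (hn.symm.le.trans (norm_sum_le _ _)).trans (Finset.sum_le_sum fun χ _ => hle χ)
  linarith

end Cfsg.Agent.S4814
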