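import Cfsg.Statements.S4825
import Cfsg.Agent.Lib.Blocks.BlockOrth
import Cfsg.Agent.Lib.BlockCongr.Basic
import Cfsg.Agent.Lib.Clifford.Restriction
import Mathlib

set_option autoImplicit false
open Cfsg

namespace Cfsg.Agent.S4825

/-- Let p be a prime, G a finite group with Sylow p-subgroup P, M a maximal ideal of the algebraic integers containing p, and B a p-block of G with defect group P. Let N be a normal subgroup of G not containing P and θ an irreducible character of N. Then the number of irreducible characters in B of degree prime to p lying over θ (having θ as a constituent on restriction to N) is either 0 or at least 2, and when p ≤ 3 it is divisible by p. -/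
theorem result {G : Type*} [Group G] [Fintype G] (p : ℕ) [Fact p.Prime] (P : Sylow p G) (M : Ideal Cfsg.AlgInt) (hM : Cfsg.IsPModular p M) (B : Set (Cfsg.IrrCharacter G)) (hB : Cfsg.IsPBlock M B) (hBP : Cfsg.IsDefectGroup p M B P) (N : Subgroup G) [N.Normal] [Fintype N] (hPN : ¬ (P : Subgroup G) ≤ N) (θ : Cfsg.IrrCharacter N) :
    (Nat.card {χ : Cfsg.IrrCharacter G // χ ∈ B ∧ ¬ p ∣ Cfsg.charDegree (χ : G → ℂ) ∧ Cfsg.classInner (fun n : N => (χ : G → ℂ) n) (θ : N → ℂ) ≠ 0} = 0 ∨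
      2 ≤ Nat.card {χ : Cfsg.IrrCharacter G // χ ∈ B ∧ ¬ p ∣ Cfsg.charDegree (χ : G → ℂ) ∧ Cfsg.classInner (fun n : N => (χ : G → ℂ) n) (θ : N → ℂ) ≠ 0}) ∧
    (p ≤ 3 → p ∣ Nat.card {χ : Cfsg.IrrCharacter G // χ ∈ B ∧ ¬ p ∣ Cfsg.charDegree (χ : G → ℂ) ∧ Cfsg.classInner (fun n : N => (χ : G → ℂ) n) (θ : N → ℂ) ≠ 0}) := by
  classical
  have := Lib.Blocks.isPModular_isPrime hM
  have hp : p.Prime := Fact.out
  have hnat : ∀ χ : Cfsg.IrrCharacter G, ∃ k : ℕ,
      Cfsg.classInner (fun n : N => (χ : G → ℂ) n) (θ : N → ℂ) = k := fun χ =>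
    Lib.Chars.isCharacter_classInner_nat
      (Lib.Chars.isCharacter_restrict N (Lib.Chars.irr_isCharacter χ)) (Lib.Chars.irr_isCharacter θ)
  choose e he using hnat
  obtain ⟨x, hxP, hxN⟩ := Set.not_subset.1 hPN
  obtain ⟨j, hj⟩ : ∃ j, orderOf x = p ^ j := by
    obtain ⟨j, hj⟩ := IsPGroup.iff_orderOf.1 P.2 ⟨x, hxP⟩
    exact ⟨j, by rw [← hj, ← Subgroup.orderOf_coe]⟩
  -- the block part of the induced character vanishes at `x`
  have hxpart : Cfsg.IsPPart p x x := Lib.Blocks.isPPart_self_of_pElement ⟨j, hj⟩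
  have hvan : ∑ χ ∈ B.toFinset, (e χ : ℂ) * (χ : G → ℂ) x = 0 := by
    simp only [← he, Cfsg.classInner]
    simp only [mul_assoc, ← Finset.mul_sum, Finset.sum_mul]
    rw [Finset.sum_comm]
    refine mul_eq_zero_of_right _ (Finset.sum_eq_zero fun n _ => ?_)
    obtain ⟨y, hy⟩ := Lib.Blocks.exists_isPPart (p := p) ((n : G)⁻¹)
    have hnc : ¬ IsConj x y := by
      intro hc
      obtain ⟨c, rfl⟩ := isConj_iff.1 hc
      refine hxN ?_
      have hyN : c * x * c⁻¹ ∈ N := by
        rw [Lib.Blocks.isPPart_iff.1 hy]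
        exact N.pow_mem (N.inv_mem n.2) _
      simpa [mul_assoc] using (inferInstance : N.Normal).conj_mem _ hyN c⁻¹
    have h := Lib.Blocks.block_orth hM hB hxpart hy hnc
    rw [finsum_mem_eq_toFinset_sum, inv_inv] at h
    calc _ = (starRingEnd ℂ) ((θ : N → ℂ) n) * ∑ χ ∈ B.toFinset, (χ : G → ℂ) x * (χ : G → ℂ) n := by
          rw [Finset.mul_sum]
          exact Finset.sum_congr rfl fun χ _ => by ring
      _ = 0 := by rw [h, mul_zero]
  let D : Cfsg.IrrCharacter G → ℕ := fun χ => Cfsg.charDegree (χ : G → ℂ)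
  have hD : ∀ χ : Cfsg.IrrCharacter G, (χ : G → ℂ) 1 = D χ := fun χ =>
    (Lib.BlockCongr.charDegree_isCharacter (Lib.Chars.irr_isCharacter χ)).symm
  have hdvd : p ∣ ∑ χ ∈ B.toFinset, e χ * D χ := by
    rw [← Lib.Blocks.memLocalIdeal_natCast_iff hM]
    have h := Lib.Blocks.memLocalIdeal_sum B.toFinset
      (fun χ => (e χ : ℂ) * ((χ : G → ℂ) x - (χ : G → ℂ) 1)) fun χ _ =>
      Lib.Blocks.memLocalIdeal_mul_left
        (Lib.Blocks.mem_localRing.1 (Lib.Blocks.natCast_mem_localRing (M := M) (e χ)))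
        (Lib.BlockCongr.char_congr_one hM (Lib.Chars.irr_isCharacter χ)
          (j := j) (by rw [← hj, pow_orderOf_eq_one]))
    simp only [mul_sub, Finset.sum_sub_distrib, hvan, zero_sub, hD] at h
    have h2 := Lib.Blocks.memLocalIdeal_neg h
    rw [neg_neg] at h2
    push_cast
    exact h2
  set S := {χ : Cfsg.IrrCharacter G // χ ∈ B ∧ ¬ p ∣ Cfsg.charDegree (χ : G → ℂ) ∧
    Cfsg.classInner (fun n : N => (χ : G → ℂ) n) (θ : N → ℂ) ≠ 0}
  let s := B.toFinset.filter fun χ => ¬ p ∣ D χ ∧ e χ ≠ 0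
  have hS : Nat.card S = s.card := by
    rw [Nat.card_eq_fintype_card, Fintype.card_subtype]
    refine congrArg Finset.card (Finset.ext fun χ => ?_)
    simp [s, D, he]
  rw [hS]
  let T : Subgroup G :=
    { carrier := {g | Lib.Clifford.conjFun g (θ : N → ℂ) = (θ : N → ℂ)}
      one_mem' := Lib.Clifford.conjFun_one _
      mul_mem' := fun {a b} ha hb => by
        show Lib.Clifford.conjFun (a * b) (θ : N → ℂ) = _
        rw [Lib.Clifford.conjFun_mul, ha, hb]
      inv_mem' := fun {a} ha => by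
        show Lib.Clifford.conjFun a⁻¹ (θ : N → ℂ) = _
        conv_lhs => rw [← ha]
        rw [← Lib.Clifford.conjFun_mul, mul_inv_cancel, Lib.Clifford.conjFun_one] }
  obtain ⟨t, ht0, ht⟩ := Lib.Chars.isIrrCharacter_exists_degree_pos θ.2
  have hdeg : ∀ χ : Cfsg.IrrCharacter G, e χ ≠ 0 → D χ = e χ * (T.index * t) := by
    intro χ hχ
    have h := Lib.Clifford.apply_one_eq χ.2 θ.2
      (show Cfsg.classInner (Lib.Clifford.resFun N (χ : G → ℂ)) (θ : N → ℂ) ≠ 0 from by
        show Cfsg.classInner (fun n : N => (χ : G → ℂ) n) (θ : N → ℂ) ≠ 0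
        rw [he, Nat.cast_ne_zero]; exact hχ) T (fun g => Iff.rfl)
    have he' : Cfsg.classInner (Lib.Clifford.resFun N (χ : G → ℂ)) (θ : N → ℂ) = e χ := he χ
    rw [he', hD, ht] at h
    exact_mod_cast (by rw [h] : (D χ : ℂ) = (e χ : ℂ) * ((T.index : ℂ) * (t : ℂ)))
  have hsq : ((∑ χ ∈ s, D χ * D χ : ℕ) : ZMod p) = 0 := by
    have h0 : ((∑ χ ∈ B.toFinset, e χ * D χ * (T.index * t) : ℕ) : ZMod p) = 0 := by
      rw [ZMod.natCast_eq_zero_iff, ← Finset.sum_mul]
      exact hdvd.mul_right _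
    rw [← h0]
    push_cast
    rw [Finset.sum_filter]
    refine Finset.sum_congr rfl fun χ _ => ?_
    by_cases hχ : e χ = 0
    · rw [if_neg (fun h => h.2 hχ), hχ]; simp
    by_cases hpd : p ∣ D χ
    · rw [if_neg (fun h => h.1 hpd), (ZMod.natCast_eq_zero_iff (D χ) p).2 hpd]; simp
    · rw [if_pos ⟨hpd, hχ⟩]
      nth_rewrite 1 [hdeg χ hχ]
      push_cast
      ring
  push_cast at hsq
  have hne : ∀ χ ∈ s, (D χ : ZMod p) ≠ 0 := fun χ hχ h =>
    (Finset.mem_filter.1 hχ).2.1 ((ZMod.natCast_eq_zero_iff _ _).1 h)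
  refine ⟨?_, fun hp3 => ?_⟩
  · rcases Nat.lt_or_ge s.card 2 with h | h
    · left
      rcases Nat.lt_or_ge s.card 1 with h1 | h1
      · omega
      · obtain ⟨χ, hχ⟩ := Finset.card_eq_one.1 (by omega : s.card = 1)
        exfalso
        rw [hχ, Finset.sum_singleton] at hsq
        have hχs : χ ∈ s := by rw [hχ]; exact Finset.mem_singleton_self χ
        exact hne χ hχs (mul_self_eq_zero.1 hsq)
    · exact Or.inr h
  · rw [← ZMod.natCast_eq_zero_iff, ← hsq, Finset.card_eq_sum_ones]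
    push_cast
    refine Finset.sum_congr rfl fun χ hχ => ?_
    have hu := hne χ hχ
    have h := ZMod.pow_card_sub_one_eq_one hu
    have hp23 : p = 2 ∨ p = 3 := by
      have := hp.two_le
      omega
    rcases hp23 with rfl | rfl
    · rw [show 2 - 1 = 1 from rfl, pow_one] at h
      rw [h, one_mul]
    · rw [show 3 - 1 = 2 from rfl, pow_two] at h
      exact h.symm

end Cfsg.Agent.S4825
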