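import Cfsg.Statements.S4836
import Cfsg.Agent.Lib.Gagola.Basic

set_option autoImplicit false
open Cfsg

namespace Cfsg.Agent.S4836

/-- Let G be a finite group of order greater than 2 with an irreducible character χ that is nonzero on exactly two conjugacy classes. Then χ is faithful (it takes the value χ(1) only at the identity), it is the only faithful irreducible character of G, and it is the only irreducible character of G that is nonzero on exactly two conjugacy classes. -/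
theorem result {G : Type*} [Group G] [Finite G] (hG : 2 < Nat.card G) (χ : Cfsg.IrrCharacter G) (hχ : Nat.card {C : ConjClasses G // ∃ g ∈ C.carrier, (χ : G → ℂ) g ≠ 0} = 2) :
    (∀ g : G, (χ : G → ℂ) g = (χ : G → ℂ) 1 → g = 1) ∧
      (∀ ψ : Cfsg.IrrCharacter G, (∀ g : G, (ψ : G → ℂ) g = (ψ : G → ℂ) 1 → g = 1) → ψ = χ) ∧
      (∀ ψ : Cfsg.IrrCharacter G, Nat.card {C : ConjClasses G // ∃ g ∈ C.carrier, (ψ : G → ℂ) g ≠ 0} = 2 → ψ = χ) := by
  obtain ⟨D⟩ := Lib.Gagola.nonempty_data ⟨hG, hχ⟩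
  have hval : ∀ g : G, (χ : G → ℂ) g = (χ : G → ℂ) 1 → g = 1 := by
    intro g hg
    have hne : (χ : G → ℂ) g ≠ 0 := by rw [hg, D.deg]; exact Nat.cast_ne_zero.2 D.d_pos.ne'
    refine ((D.supp g).1 hne).resolve_right fun hc => ?_
    obtain ⟨k, rfl⟩ := isConj_iff.1 hc
    rw [Lib.Gagola.CharFacts.conj_invariant, D.val, D.deg] at hg
    have h : ((-((D.d : ℝ) / D.c) : ℝ) : ℂ) = ((D.d : ℝ) : ℂ) := by push_cast; exact hg
    have hd : (0 : ℝ) < D.d := Nat.cast_pos.2 D.d_pos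
    have : (0 : ℝ) < (D.d : ℝ) / D.c := div_pos hd (Nat.cast_pos.2 D.c_pos)
    linarith [Complex.ofReal_inj.1 h]
  have huniq : ∀ ψ : Cfsg.IrrCharacter G,
      (∀ g : G, (ψ : G → ℂ) g = (ψ : G → ℂ) 1 → g = 1) → ψ = χ := by
    intro ψ hψ
    by_contra hne
    exact D.x_ne (hψ _ (D.kerOther ψ hne))
  refine ⟨hval, huniq, fun ψ hψ => huniq ψ fun g hg => ?_⟩
  obtain ⟨E⟩ := Lib.Gagola.nonempty_data ⟨hG, hψ⟩
  have hne : (ψ : G → ℂ) g ≠ 0 := by rw [hg, E.deg]; exact Nat.cast_ne_zero.2 E.d_pos.ne'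
  refine ((E.supp g).1 hne).resolve_right fun hc => ?_
  obtain ⟨k, rfl⟩ := isConj_iff.1 hc
  rw [Lib.Gagola.CharFacts.conj_invariant, E.val, E.deg] at hg
  have h : ((-((E.d : ℝ) / E.c) : ℝ) : ℂ) = ((E.d : ℝ) : ℂ) := by push_cast; exact hg
  have hd : (0 : ℝ) < E.d := Nat.cast_pos.2 E.d_pos
  have : (0 : ℝ) < (E.d : ℝ) / E.c := div_pos hd (Nat.cast_pos.2 E.c_pos)
  linarith [Complex.ofReal_inj.1 h]

end Cfsg.Agent.S4836
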