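import Cfsg.Statements.S4839
import Cfsg.Agent.Lib.Gagola.Basic
import Cfsg.Agent.Lib.Involution.BaerSuzuki
import Cfsg.Agent.Lib.PSolvable.Core

set_option autoImplicit false
open Cfsg

namespace Cfsg.Agent.S4839

open Cfsg.Agent.Lib.Gagola
open scoped Pointwise

variable {G : Type*} [Group G] [Finite G]

/-- An element of prime power order outside `N` whose centraliser covers the centraliser of its
image contradicts the class equation. -/
theorem no_covering {χ : IrrCharacter G} (D : Data χ) {p : ℕ} [Fact p.Prime] (hNp : IsPGroup p D.N)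
    {y : G} (hy : y ∉ D.N) (hyp : IsPGroup p (Subgroup.zpowers y))
    (hcov : ∀ g : G, g * y * g⁻¹ * y⁻¹ ∈ D.N → ∃ n ∈ D.N, n * g ∈ Subgroup.centralizer ({y} : Set G)) :
    False := by
  haveI := D.normal_N
  obtain ⟨S, hS⟩ := hyp.exists_le_sylow
  have hyS : y ∈ (S : Subgroup G) := hS (Subgroup.mem_zpowers y)
  haveI : Nontrivial ↥(S : Subgroup G) :=
    ⟨⟨⟨y, hyS⟩, 1, fun e => hy (by rw [show y = 1 from congrArg Subtype.val e]; exact one_mem _)⟩⟩
  obtain ⟨w, hw, hw1⟩ := Subgroup.nontrivial_iff_exists_ne_one _ |>.1 (S.isPGroup'.center_nontrivial)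
  have hwN : (w : G) ∈ D.N := D.center_le hNp S ⟨w, hw, rfl⟩
  have hwy : (w : G) * y = y * w :=
    (congrArg Subtype.val (Subgroup.mem_center_iff.1 hw ⟨y, hyS⟩)).symm
  let f : ↥(Subgroup.centralizer ({y} : Set G)) →* ↥(Subgroup.centralizer ({(y : G ⧸ D.N)} : Set (G ⧸ D.N))) :=
    ((QuotientGroup.mk' D.N).comp (Subgroup.centralizer ({y} : Set G)).subtype).codRestrict _ fun g => by
      rw [Subgroup.mem_centralizer_singleton_iff]
      show ((g : G) : G ⧸ D.N) * (y : G ⧸ D.N) = _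
      rw [← QuotientGroup.mk_mul, Subgroup.mem_centralizer_singleton_iff.1 g.2, QuotientGroup.mk_mul]
      rfl
  have hsurj : Function.Surjective f := by
    rintro ⟨q, hq⟩
    obtain ⟨g, rfl⟩ := QuotientGroup.mk_surjective q
    rw [Subgroup.mem_centralizer_singleton_iff, ← QuotientGroup.mk_mul, ← QuotientGroup.mk_mul] at hq
    obtain ⟨n, hn, hng⟩ := hcov g (by
      rw [← QuotientGroup.eq_one_iff, QuotientGroup.mk_mul, QuotientGroup.mk_mul, hq]
      simp [mul_assoc])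
    refine ⟨⟨n * g, hng⟩, Subtype.ext ?_⟩
    show ((n * g : G) : G ⧸ D.N) = (g : G ⧸ D.N)
    rw [QuotientGroup.mk_mul, (QuotientGroup.eq_one_iff n).2 hn, one_mul]
  have hinj := ((Nat.bijective_iff_surjective_and_card f).2 ⟨hsurj, D.card_quotient_class hy⟩).1
  have e : f ⟨w, Subgroup.mem_centralizer_singleton_iff.2 hwy⟩ = f 1 := by
    rw [map_one]
    exact Subtype.ext ((QuotientGroup.eq_one_iff (w : G)).2 hwN)
  exact hw1 (Subtype.ext (congrArg (fun v : ↥(Subgroup.centralizer ({y} : Set G)) => (v : G)) (hinj e)))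

theorem centralizer_N_le {χ : IrrCharacter G} (D : Data χ) {p : ℕ} [Fact p.Prime] (hNp : IsPGroup p D.N)
    (hcore : Cfsg.pCore p G ≤ D.N) : Subgroup.centralizer (D.N : Set G) ≤ D.N := by
  haveI := D.normal_N
  refine le_trans ?_ hcore
  refine Cfsg.Agent.Lib.PSolvable.le_pCore ((D.centralizer_pgroup Fact.out hNp).to_le ?_)
  exact Subgroup.centralizer_le (by simpa using D.x_mem)

/-- Odd characteristic: the Sylow subgroup is `N`. -/
theorem sylow_le_odd {χ : IrrCharacter G} (D : Data χ) {p : ℕ} [Fact p.Prime] (hp2 : p ≠ 2)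
    (hNp : IsPGroup p D.N) (hcore : Cfsg.pCore p G ≤ D.N) :
    ∀ y : G, IsPGroup p (Subgroup.zpowers y) → y ∈ D.N := by
  haveI := D.normal_N
  haveI : Fact (Nat.Prime 2) := ⟨Nat.prime_two⟩
  intro y₀ hy₀
  by_contra hy₀N
  have hp : p.Prime := Fact.out
  obtain ⟨p', hp', hxo, hcomm, hpow'⟩ := D.exists_prime
  obtain ⟨k, hk⟩ := IsPGroup.iff_orderOf.1 hNp ⟨D.x, D.x_mem⟩
  have hxk : orderOf D.x = p ^ k := by rw [← hk, ← Subgroup.orderOf_coe]
  have hpp : p' = p := by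
    have hd : p' ∣ p ^ k := by rw [← hxk, hxo]
    exact (Nat.prime_dvd_prime_iff_eq hp' hp).1 (hp'.dvd_of_dvd_pow hd)
  subst hpp
  have hodd : Odd p' := hp.odd_of_ne_two hp2
  obtain ⟨m, hm⟩ := IsPGroup.iff_card.1 hNp
  have hc : 2 ∣ D.c := by
    have h1 := D.card_N
    rw [hm] at h1
    have : Odd (D.c + 1) := h1 ▸ hodd.pow
    obtain ⟨r, hr⟩ := this
    exact ⟨r, by omega⟩
  have h2G : 2 ∣ Nat.card G := hc.trans ⟨_, ((mul_comm _ _).trans D.card_cent_x).symm⟩
  obtain ⟨t, ht⟩ := exists_prime_orderOf_dvd_card' 2 h2G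
  have ht2 : t * t = 1 := by rw [← pow_two, ← ht]; exact pow_orderOf_eq_one t
  have hti : t⁻¹ = t := inv_eq_of_mul_eq_one_right ht2
  haveI := hcomm
  have hcN : ∀ a ∈ D.N, ∀ b ∈ D.N, a * b = b * a := fun a ha b hb =>
    congrArg Subtype.val (mul_comm' (⟨a, ha⟩ : D.N) ⟨b, hb⟩)
  have hfpf : ∀ w ∈ D.N, t * w * t = w → w = 1 := by
    intro w hw e
    by_contra hw1
    obtain ⟨Q, hQ⟩ := D.centralizer_sylow hNp hw hw1
    have htQ : t ∈ (Q : Subgroup G) := by
      rw [← hQ, Subgroup.mem_centralizer_singleton_iff]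
      calc t * w = t * w * (t * t) := by rw [ht2, mul_one]
        _ = (t * w * t) * t := by simp only [mul_assoc]
        _ = w * t := by rw [e]
    obtain ⟨j, hj⟩ := IsPGroup.iff_orderOf.1 Q.isPGroup' ⟨t, htQ⟩
    rw [Subgroup.orderOf_mk, ht] at hj
    exact hp2 (((Nat.prime_dvd_prime_iff_eq Nat.prime_two hp).1
      (Nat.prime_two.dvd_of_dvd_pow (show 2 ∣ p' ^ j by rw [← hj]))).symm)
  have hconjN : ∀ w ∈ D.N, t * w * t ∈ D.N := fun w hw => by
    simpa [hti] using D.normal_N.conj_mem w hw t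
  have hinv : ∀ w ∈ D.N, t * w * t = w⁻¹ := by
    intro w hw
    have h1 := hfpf (w * (t * w * t)) (mul_mem hw (hconjN w hw)) (by
      calc t * (w * (t * w * t)) * t = (t * w * t) * (w * (t * t)) := by simp only [mul_assoc]
        _ = (t * w * t) * w := by rw [ht2, mul_one]
        _ = _ := hcN _ (hconjN w hw) _ hw)
    exact eq_inv_of_mul_eq_one_right h1
  have hcen : ∀ g : G, g * t * g⁻¹ * t⁻¹ ∈ D.N := by
    intro g
    refine centralizer_N_le D hNp hcore (Subgroup.mem_centralizer_iff.2 fun w hw => ?_)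
    have hv : g⁻¹ * w * g ∈ D.N := by simpa using D.normal_N.conj_mem w hw g⁻¹
    have e1 := hinv _ hv
    have e2 := hinv _ (show w ∈ D.N from hw)
    have e3 : (g * t * g⁻¹) * w * (g * t * g⁻¹)⁻¹ = w⁻¹ := by
      calc (g * t * g⁻¹) * w * (g * t * g⁻¹)⁻¹ = g * (t * (g⁻¹ * w * g) * t⁻¹) * g⁻¹ := by group
        _ = w⁻¹ := by rw [hti, e1]; group
    have e5 : t⁻¹ * w * t = w⁻¹ := by rw [hti]; exact e2
    have e4 : (g * t * g⁻¹ * t⁻¹) * w * (g * t * g⁻¹ * t⁻¹)⁻¹ = w := by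
      calc (g * t * g⁻¹ * t⁻¹) * w * (g * t * g⁻¹ * t⁻¹)⁻¹
          = (g * t * g⁻¹) * (t⁻¹ * w * t) * (g * t * g⁻¹)⁻¹ := by group
        _ = ((g * t * g⁻¹) * w * (g * t * g⁻¹)⁻¹)⁻¹ := by rw [e5]; group
        _ = w := by rw [e3, inv_inv]
    exact (mul_inv_eq_iff_eq_mul.1 e4).symm
  have hsplit : ∀ g : G, ∃ n ∈ D.N, n * g * t = t * (n * g) := by
    intro g
    have hn := hcen g
    obtain ⟨r, hr⟩ := hodd
    set n := g * t * g⁻¹ * t⁻¹ with hndef
    set u := n ^ (r + 1) with hu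
    have huu : u * u = n := by
      rw [hu, ← pow_add, show r + 1 + (r + 1) = p' + 1 by omega, pow_succ, hpow' n hn, one_mul]
    have hu' : u ∈ D.N := pow_mem hn _
    refine ⟨u⁻¹, inv_mem hu', ?_⟩
    have hg : g * t = n * (t * g) := by rw [hndef]; group
    calc u⁻¹ * g * t = u⁻¹ * (u * u) * (t * g) := by rw [mul_assoc, hg, huu]; group
      _ = (u⁻¹)⁻¹ * t * g := by group
      _ = (t * u⁻¹ * t) * t * g := by rw [hinv _ (inv_mem hu')]
      _ = t * (u⁻¹ * g) := by rw [mul_assoc _ t t, ht2, mul_one, mul_assoc]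
  set C := Subgroup.centralizer ({t} : Set G)
  have hCN : ∀ v ∈ C, v ∈ D.N → v = 1 := fun v hv hvN => hfpf v hvN (by
    rw [← Subgroup.mem_centralizer_singleton_iff.1 hv, mul_assoc, ht2, mul_one])
  obtain ⟨n₀, hn₀, hc₀⟩ := hsplit y₀
  have hpC : p' ∣ Nat.card C := by
    let f : C →* G ⧸ D.N := (QuotientGroup.mk' D.N).comp C.subtype
    have hf : Function.Surjective f := by
      intro q
      obtain ⟨g, rfl⟩ := QuotientGroup.mk_surjective q
      obtain ⟨n, hn, hc⟩ := hsplit g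
      refine ⟨⟨n * g, Subgroup.mem_centralizer_singleton_iff.2 hc⟩, ?_⟩
      show ((n * g : G) : G ⧸ D.N) = _
      rw [QuotientGroup.mk_mul, (QuotientGroup.eq_one_iff n).2 hn, one_mul]
    refine dvd_trans ?_ (Subgroup.card_dvd_of_surjective f hf)
    obtain ⟨j, hj⟩ := IsPGroup.iff_orderOf.1 hy₀ ⟨y₀, Subgroup.mem_zpowers y₀⟩
    rw [Subgroup.orderOf_mk] at hj
    have hdvd : orderOf (y₀ : G ⧸ D.N) ∣ p' ^ j := hj ▸ orderOf_map_dvd (QuotientGroup.mk' D.N) y₀
    obtain ⟨i, -, hi⟩ := (Nat.dvd_prime_pow hp).1 hdvd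
    rcases Nat.eq_zero_or_pos i with rfl | hi0
    · exact absurd ((QuotientGroup.eq_one_iff y₀).1 (orderOf_eq_one_iff.1 (by rw [hi, pow_zero]))) hy₀N
    · exact (dvd_pow_self p' hi0.ne').trans (hi ▸ orderOf_dvd_natCard _)
  obtain ⟨⟨y, hyC⟩, hy⟩ := exists_prime_orderOf_dvd_card' p' hpC
  rw [Subgroup.orderOf_mk] at hy
  have hy1 : y ≠ 1 := fun e => hp.ne_one (by rw [← hy, e, orderOf_one])
  refine no_covering D hNp (y := y) (fun h => hy1 (hCN y hyC h))
    (IsPGroup.of_card (n := 1) (by rw [Nat.card_zpowers, hy, pow_one])) fun g hg => ?_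
  obtain ⟨n, hn, hng⟩ := hsplit g
  refine ⟨n, hn, ?_⟩
  have h1 : (n * g) * y * (n * g)⁻¹ * y⁻¹ ∈ D.N := by
    rw [← QuotientGroup.eq_one_iff] at hg ⊢
    simp only [QuotientGroup.mk_mul, QuotientGroup.mk_inv, (QuotientGroup.eq_one_iff n).2 hn,
      one_mul] at hg ⊢
    exact hg
  have h2 : (n * g) * y * (n * g)⁻¹ * y⁻¹ ∈ C := by
    have : n * g ∈ C := Subgroup.mem_centralizer_singleton_iff.2 hng
    exact mul_mem (mul_mem (mul_mem this hyC) (inv_mem this)) (inv_mem hyC)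
  have h3 := hCN _ h2 h1
  rw [Subgroup.mem_centralizer_singleton_iff]
  rw [mul_inv_eq_one, mul_inv_eq_iff_eq_mul] at h3
  exact h3

/-- Characteristic two: the Sylow subgroup is `N`. -/
theorem sylow_le_two {χ : IrrCharacter G} (D : Data χ) (hNp : IsPGroup 2 D.N)
    [Fact (Nat.Prime 2)] (hcore : Cfsg.pCore 2 G ≤ D.N) :
    ∀ y : G, IsPGroup 2 (Subgroup.zpowers y) → y ∈ D.N := by
  haveI := D.normal_N
  intro y₀ hy₀
  by_contra hy₀N
  obtain ⟨p', hp', hxo, hcomm, hpow'⟩ := D.exists_prime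
  have hsq : ∀ a ∈ D.N, a * a = 1 := by
    obtain ⟨k, hk⟩ := IsPGroup.iff_orderOf.1 hNp ⟨D.x, D.x_mem⟩
    have hxk : orderOf D.x = 2 ^ k := by rw [← hk, ← Subgroup.orderOf_coe]
    have hpp : p' = 2 := (Nat.prime_dvd_prime_iff_eq hp' Nat.prime_two).1
      (hp'.dvd_of_dvd_pow (by rw [← hxk, hxo]))
    subst hpp
    intro a ha; rw [← pow_two]; exact hpow' a ha
  haveI := hcomm
  have hcN : ∀ a ∈ D.N, ∀ b ∈ D.N, a * b = b * a := fun a ha b hb =>
    congrArg Subtype.val (mul_comm' (⟨a, ha⟩ : D.N) ⟨b, hb⟩)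
  obtain ⟨y, hyN, hy2, hyp⟩ : ∃ y, y ∉ D.N ∧ y * y ∈ D.N ∧ IsPGroup 2 (Subgroup.zpowers y) := by
    obtain ⟨j, hj⟩ := IsPGroup.iff_orderOf.1 hy₀ ⟨y₀, Subgroup.mem_zpowers y₀⟩
    rw [Subgroup.orderOf_mk] at hj
    have hex : ∃ i, y₀ ^ 2 ^ i ∈ D.N := ⟨j, by rw [← hj, pow_orderOf_eq_one]; exact one_mem _⟩
    classical
    have hi0 : Nat.find hex ≠ 0 := fun h => hy₀N (by simpa [h] using Nat.find_spec hex)
    obtain ⟨i, hi⟩ := Nat.exists_eq_succ_of_ne_zero hi0
    refine ⟨y₀ ^ 2 ^ i, Nat.find_min hex (by omega), ?_, hy₀.to_le (Subgroup.zpowers_le.2 (pow_mem (Subgroup.mem_zpowers y₀) _))⟩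
    have := Nat.find_spec hex
    rw [hi, pow_succ, pow_mul, pow_two] at this
    exact this
  have hτ2 : (y : G ⧸ D.N) * (y : G ⧸ D.N) = 1 := (QuotientGroup.eq_one_iff _).2 hy2
  set τ := (y : G ⧸ D.N) with hτ
  have hτ1 : τ ≠ 1 := fun e => hyN ((QuotientGroup.eq_one_iff y).1 e)
  have hτi : τ⁻¹ = τ := inv_eq_of_mul_eq_one_right hτ2
  obtain ⟨q, hq⟩ : ∃ q : G ⧸ D.N, ¬ IsPGroup 2 (Subgroup.closure ({τ, q * τ * q⁻¹} : Set (G ⧸ D.N))) := by
    by_contra hall
    push Not at hall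
    obtain ⟨M, hMn, hM2, hτM⟩ := Cfsg.Agent.Lib.Involution.baer_suzuki_element τ hall
    haveI := hMn
    refine hyN (hcore (Cfsg.Agent.Lib.PSolvable.le_pCore (N := M.comap (QuotientGroup.mk' D.N)) ?_ hτM))
    intro ⟨g, hg⟩
    obtain ⟨a, ha⟩ := hM2 ⟨_, hg⟩
    have ha' : g ^ 2 ^ a ∈ D.N := (QuotientGroup.eq_one_iff _).1 (by
      rw [QuotientGroup.mk_pow]; exact congrArg Subtype.val ha)
    obtain ⟨b, hb⟩ := hNp ⟨_, ha'⟩
    exact ⟨a + b, Subtype.ext (by
      show g ^ 2 ^ (a + b) = 1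
      rw [pow_add, pow_mul]; exact congrArg Subtype.val hb)⟩
  set τ' := q * τ * q⁻¹ with hτ'
  have hτ'2 : τ' * τ' = 1 := by
    calc τ' * τ' = q * (τ * τ) * q⁻¹ := by rw [hτ']; group
      _ = 1 := by rw [hτ2, mul_one, mul_inv_cancel]
  have hzinv : τ * (τ * τ') * τ⁻¹ = (τ * τ')⁻¹ := by
    rw [mul_inv_rev, hτi, inv_eq_of_mul_eq_one_right hτ'2, ← mul_assoc τ τ τ', hτ2, one_mul]
  obtain ⟨a, b, hb, hab⟩ := Nat.exists_eq_two_pow_mul_odd (orderOf_pos (τ * τ')).ne'
  have hb1 : b ≠ 1 := by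
    rintro rfl
    rw [mul_one] at hab
    refine hq ?_
    have hA : IsPGroup 2 (Subgroup.zpowers (τ * τ')) := IsPGroup.of_card (n := a) (by
      rw [Nat.card_zpowers, hab])
    have hB : IsPGroup 2 (Subgroup.zpowers τ) := by
      intro ⟨g, hg⟩
      refine ⟨1, Subtype.ext ?_⟩
      obtain ⟨n, rfl⟩ := Subgroup.mem_zpowers_iff.1 hg
      show (τ ^ n) ^ 2 ^ 1 = 1
      rw [pow_one, pow_two, ← (Commute.refl τ).mul_zpow, hτ2, one_zpow]
    have hN' : Subgroup.zpowers τ ≤ Subgroup.normalizer (Subgroup.zpowers (τ * τ') : Set (G ⧸ D.N)) := by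
      rw [Subgroup.zpowers_le, Subgroup.mem_normalizer_iff_map_conj_eq, MonoidHom.map_zpowers]
      show Subgroup.zpowers (τ * (τ * τ') * τ⁻¹) = _
      rw [hzinv, Subgroup.zpowers_inv]
    refine (hA.to_sup_of_normal_left' hB hN').to_le ?_
    rw [Subgroup.closure_le]
    rintro g (rfl | rfl)
    · exact Subgroup.mem_sup_right (Subgroup.mem_zpowers _)
    · have e : τ * (τ * τ') = τ' := by rw [← mul_assoc, hτ2, one_mul]
      have := mul_mem (Subgroup.mem_sup_right (S := Subgroup.zpowers (τ * τ')) (Subgroup.mem_zpowers τ))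
        (Subgroup.mem_sup_left (T := Subgroup.zpowers τ) (Subgroup.mem_zpowers (τ * τ')))
      rwa [e] at this
  obtain ⟨κ, hκ⟩ : ∃ κ, κ = (τ * τ') ^ 2 ^ a := ⟨_, rfl⟩
  have hκb : orderOf κ = b := by
    rw [hκ, orderOf_pow' _ (pow_ne_zero _ two_ne_zero), hab,
      Nat.gcd_eq_right (Dvd.intro b rfl), Nat.mul_div_cancel_left _ (pow_pos two_pos _)]
  have hκinv : τ * κ * τ⁻¹ = κ⁻¹ := by
    rw [hκ, ← MulAut.conj_apply, map_pow, MulAut.conj_apply, hzinv, inv_pow]
  -- an odd lift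
  obtain ⟨k, hkκ, hkodd⟩ : ∃ k : G, (k : G ⧸ D.N) = κ ∧ Odd (orderOf k) := by
    obtain ⟨g, hg⟩ := QuotientGroup.mk_surjective κ
    obtain ⟨a', b', hb', hab'⟩ := Nat.exists_eq_two_pow_mul_odd (orderOf_pos g).ne'
    have hco : Nat.Coprime (2 ^ a') b := Nat.Coprime.pow_left _ (Nat.coprime_two_left.2 hb)
    obtain ⟨m, hm⟩ : ∃ m, κ = κ ^ (2 ^ a' * m) := by
      obtain ⟨m, hm⟩ := exists_pow_eq_self_of_coprime (hκb.symm ▸ hco)
      exact ⟨m, by rw [pow_mul, hm]⟩
    refine ⟨(g ^ 2 ^ a') ^ m, by rw [QuotientGroup.mk_pow, QuotientGroup.mk_pow, hg, ← pow_mul, ← hm], ?_⟩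
    refine Odd.of_dvd_nat hb' (dvd_trans (orderOf_pow_dvd m) ?_)
    rw [orderOf_pow' _ (pow_ne_zero _ two_ne_zero), hab', Nat.gcd_eq_right (Dvd.intro b' rfl),
      Nat.mul_div_cancel_left _ (pow_pos two_pos _)]
  have hkN : k ∉ D.N := by
    intro h
    refine hb1 ?_
    rw [← hκb, ← hkκ, (QuotientGroup.eq_one_iff k).2 h, orderOf_one]
  have hkfix : ∀ w ∈ D.N, k * w * k⁻¹ = w → w = 1 := by
    intro w hw e
    by_contra hw1
    obtain ⟨Q, hQ⟩ := D.centralizer_sylow hNp hw hw1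
    have hkQ : k ∈ (Q : Subgroup G) := by
      rw [← hQ, Subgroup.mem_centralizer_singleton_iff]
      exact mul_inv_eq_iff_eq_mul.1 e
    obtain ⟨j, hj⟩ := IsPGroup.iff_orderOf.1 Q.isPGroup' ⟨k, hkQ⟩
    rw [Subgroup.orderOf_mk] at hj
    rcases Nat.eq_zero_or_pos j with rfl | hj0
    · exact hkN (by rw [orderOf_eq_one_iff.1 (hj.trans (pow_zero 2))]; exact one_mem _)
    · rw [hj] at hkodd
      exact Nat.not_even_iff_odd.2 hkodd ((Nat.even_pow).2 ⟨even_two, hj0.ne'⟩)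
  -- every element of `k⁻¹ N` is conjugate to `k⁻¹` under `N`
  have hkiN : ∀ v ∈ D.N, ∃ w ∈ D.N, w * k⁻¹ * w⁻¹ = v * k⁻¹ := by
    let f : D.N → D.N := fun w => ⟨(w : G) * (k⁻¹ * (w : G)⁻¹ * k⁻¹⁻¹),
      mul_mem w.2 (D.normal_N.conj_mem _ (inv_mem w.2) _)⟩
    have hf : Function.Injective f := by
      intro w w' e
      have e' : (w : G) * (k⁻¹ * (w : G)⁻¹ * k) = w' * (k⁻¹ * (w' : G)⁻¹ * k) := by
        simpa [f] using congrArg Subtype.val e
      have h1 := hkfix ((w' : G)⁻¹ * w) (mul_mem (inv_mem w'.2) w.2) (by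
        calc k * ((w' : G)⁻¹ * w) * k⁻¹
            = k * ((w' : G)⁻¹ * ((w : G) * (k⁻¹ * (w : G)⁻¹ * k)) * (k⁻¹ * w * k)) * k⁻¹ := by group
          _ = (w' : G)⁻¹ * w := by rw [e']; group)
      exact Subtype.ext (inv_mul_eq_one.1 h1).symm
    intro v hv
    obtain ⟨w, hw⟩ := (Finite.injective_iff_surjective.1 hf) ⟨v, hv⟩
    refine ⟨w, w.2, ?_⟩
    rw [← show (w : G) * (k⁻¹ * (w : G)⁻¹ * k⁻¹⁻¹) = v from congrArg Subtype.val hw]
    group
  obtain ⟨w₀, hw₀, hw₀e⟩ := hkiN (y * k * y⁻¹ * k) (by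
    rw [← QuotientGroup.eq_one_iff]
    simp only [QuotientGroup.mk_mul, QuotientGroup.mk_inv, hkκ, ← hτ, hκinv, inv_mul_cancel])
  rw [mul_inv_cancel_right] at hw₀e
  obtain ⟨z, hz⟩ : ∃ z, z = w₀⁻¹ * y := ⟨_, rfl⟩
  have hzk : z * k * z⁻¹ = k⁻¹ := by
    calc z * k * z⁻¹ = w₀⁻¹ * (y * k * y⁻¹) * w₀ := by rw [hz]; group
      _ = k⁻¹ := by rw [← hw₀e]; group
  have hzτ : (z : G ⧸ D.N) = τ := by
    rw [hz, QuotientGroup.mk_mul, QuotientGroup.mk_inv, (QuotientGroup.eq_one_iff w₀).2 hw₀, inv_one,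
      one_mul]
  have hz2 : z * z = 1 := by
    refine hkfix _ ((QuotientGroup.eq_one_iff _).1 (by rw [QuotientGroup.mk_mul, hzτ, hτ2])) ?_
    have e : (z * z) * k * (z * z)⁻¹ = k := by
      calc (z * z) * k * (z * z)⁻¹ = z * (z * k * z⁻¹) * z⁻¹ := by group
        _ = z * k⁻¹ * z⁻¹ := by rw [hzk]
        _ = (z * k * z⁻¹)⁻¹ := by group
        _ = k := by rw [hzk, inv_inv]
    calc k * (z * z) * k⁻¹ = ((z * z) * k * (z * z)⁻¹) * (z * z) * k⁻¹ := by rw [e]
      _ = z * z := by group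
  have hzi : z⁻¹ = z := inv_eq_of_mul_eq_one_right hz2
  have hzN : z ∉ D.N := fun h => hτ1 (hzτ ▸ (QuotientGroup.eq_one_iff z).2 h)
  have hkinj : ∀ i : ℕ, ∀ w ∈ D.N, k ^ i * w * (k ^ i)⁻¹ ∈ D.N := fun i w hw =>
    D.normal_N.conj_mem w hw _
  -- fixed points of `z` are norms
  have hnorm : ∀ v ∈ D.N, z * v * z = v → ∃ m ∈ D.N, v = m * (z * m * z) := by
    intro v hv hzv
    letI : CommGroup D.N := { (inferInstance : Group D.N) with mul_comm := fun a b => Subtype.ext (hcN _ a.2 _ b.2) }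
    let K : ℕ → D.N := fun i => ⟨k ^ i * v * (k ^ i)⁻¹, hkinj i v hv⟩
    obtain ⟨r, hr⟩ := hkodd
    let Z : D.N →* D.N :=
      { toFun := fun w => ⟨z * (w : G) * z, by simpa [hzi] using D.normal_N.conj_mem _ w.2 z⟩
        map_one' := Subtype.ext (by simp [hz2])
        map_mul' := fun u w => Subtype.ext (by
          show z * ((u : G) * w) * z = z * u * z * (z * w * z)
          calc z * ((u : G) * w) * z = z * u * (z * z) * w * z := by rw [hz2]; simp [mul_assoc]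
            _ = _ := by simp only [mul_assoc]) }
    have hZK : ∀ i ≤ orderOf k, Z (K i) = K (orderOf k - i) := by
      intro i hi
      refine Subtype.ext ?_
      show z * (k ^ i * v * (k ^ i)⁻¹) * z = k ^ (orderOf k - i) * v * (k ^ (orderOf k - i))⁻¹
      have e1 : k ^ (orderOf k - i) = (k ^ i)⁻¹ := by
        rw [pow_sub _ hi, pow_orderOf_eq_one, one_mul]
      have e2 : z * k ^ i * z⁻¹ = (k ^ i)⁻¹ := by
        rw [← MulAut.conj_apply, map_pow, MulAut.conj_apply, hzk, inv_pow]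
      calc z * (k ^ i * v * (k ^ i)⁻¹) * z
          = (z * k ^ i * z⁻¹) * (z * v * z⁻¹) * (z * k ^ i * z⁻¹)⁻¹ * (z * z) := by group
        _ = _ := by rw [e2, show z * v * z⁻¹ = v by rw [hzi, hzv], hz2, mul_one, e1]
    have hall : ∏ i ∈ Finset.range (2 * r + 1), K i = 1 := by
      set P := ∏ i ∈ Finset.range (2 * r + 1), K i with hP
      let C : D.N →* D.N := (MulAut.conjNormal k).toMonoidHom
      have hCK : ∀ i, C (K i) = K (i + 1) := fun i => Subtype.ext (by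
        show k * (k ^ i * v * (k ^ i)⁻¹) * k⁻¹ = k ^ (i + 1) * v * (k ^ (i + 1))⁻¹
        rw [pow_succ' k i]; group)
      have hfix : C P = P := by
        have h0 : K (2 * r + 1) = K 0 := Subtype.ext (by
          show k ^ (2 * r + 1) * v * (k ^ (2 * r + 1))⁻¹ = k ^ 0 * v * (k ^ 0)⁻¹
          rw [← hr, pow_orderOf_eq_one, pow_zero])
        rw [hP, map_prod]
        simp only [hCK]
        rw [Finset.prod_range_succ (fun i => K (i + 1)), h0, Finset.prod_range_succ' K]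
      exact Subtype.ext (hkfix _ P.2 (congrArg Subtype.val hfix))
    refine ⟨((∏ i ∈ Finset.range r, K (i + 1) : D.N) : G), SetLike.coe_mem _, ?_⟩
    have key : (K 0 : D.N) = (∏ i ∈ Finset.range r, K (i + 1)) * Z (∏ i ∈ Finset.range r, K (i + 1)) := by
      have hinvK : ∀ u : D.N, u⁻¹ = u := fun u =>
        inv_eq_of_mul_eq_one_right (Subtype.ext (hsq u u.2))
      have hZprod : Z (∏ i ∈ Finset.range r, K (i + 1)) = ∏ i ∈ Finset.range r, K (r + i + 1) := by
        rw [map_prod, ← Finset.prod_range_reflect (fun i => K (r + i + 1)) r]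
        refine Finset.prod_congr rfl fun i hi => ?_
        rw [Finset.mem_range] at hi
        rw [hZK _ (by omega)]
        congr 1
        omega
      rw [hZprod]
      rw [show 2 * r + 1 = (r + r) + 1 by ring, Finset.prod_range_succ' K, Finset.prod_range_add (fun i => K (i + 1)) r r] at hall
      rw [eq_comm, ← hinvK (K 0)]
      exact eq_inv_of_mul_eq_one_left hall
    have h0 : ((K 0 : D.N) : G) = v := by simp [K]
    rw [← h0, key]
    rfl
  refine no_covering D hNp hzN (IsPGroup.of_card (n := 1) ?_) fun g hg => ?_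
  · rw [Nat.card_zpowers, pow_one]
    exact orderOf_eq_prime (by rw [pow_two, hz2]) (fun e => hzN (e ▸ one_mem _))
  set v := g * z * g⁻¹ * z⁻¹ with hvdef
  have hvz : (v * z) * (v * z) = 1 := by
    calc (v * z) * (v * z) = g * (z * z) * g⁻¹ := by rw [hvdef]; group
      _ = 1 := by rw [hz2, mul_one, mul_inv_cancel]
  have hzv : z * v * z = v := by
    have h1 : v * (z * v * z) = 1 := by rw [← hvz]; simp only [mul_assoc]
    rw [← inv_eq_of_mul_eq_one_right h1, inv_eq_of_mul_eq_one_right (hsq v hg)]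
  obtain ⟨m, hm, hvm⟩ := hnorm v hg hzv
  have hmi : m⁻¹ = m := inv_eq_of_mul_eq_one_right (hsq m hm)
  refine ⟨m⁻¹, inv_mem hm, Subgroup.mem_centralizer_singleton_iff.2 ?_⟩
  have hg' : g * z = v * (z * g) := by rw [hvdef]; group
  calc m⁻¹ * g * z = m⁻¹ * (m * (z * m * z)) * (z * g) := by rw [mul_assoc, hg', hvm]; simp only [mul_assoc]
    _ = z * m * (z * z) * g := by group
    _ = z * (m⁻¹ * g) := by rw [hz2, mul_one, hmi, mul_assoc]



/-- Let G be a finite group of order greater than 2 with an irreducible character χ nonzero on exactly two conjugacy classes, and let N be the normal p-subgroup of elements where χ is nonzero. Then N is the whole p-core O_p(G) if and only if G is a doubly transitive Frobenius group with kernel N: G has a Frobenius complement H whose Frobenius kernel is N and whose order is one less than that of N. -/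
theorem result {G : Type*} [Group G] [Finite G] (hG : 2 < Nat.card G) (χ : Cfsg.IrrCharacter G) (hχ : Nat.card {C : ConjClasses G // ∃ g ∈ C.carrier, (χ : G → ℂ) g ≠ 0} = 2) (p : ℕ) [Fact p.Prime] (N : Subgroup G) [N.Normal] (hN : ∀ g : G, g ∈ N ↔ (χ : G → ℂ) g ≠ 0) (hNp : IsPGroup p N) (hN1 : N ≠ ⊥) :
    N = Cfsg.pCore p G ↔ ∃ H : Subgroup G, Cfsg.IsFrobeniusComplement H ∧ Cfsg.frobeniusKernel H = (N : Set G) ∧ Nat.card H + 1 = Nat.card N := by
  have hp : p.Prime := Fact.out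
  obtain ⟨D⟩ := Lib.Gagola.nonempty_data ⟨hG, hχ⟩
  obtain rfl : N = D.N := Subgroup.ext fun g => (hN g).trans (D.mem_N g).symm
  haveI := D.normal_N
  constructor
  · intro hcore
    have hle : Cfsg.pCore p G ≤ D.N := hcore ▸ le_rfl
    have hsyl : ∀ y : G, IsPGroup p (Subgroup.zpowers y) → y ∈ D.N := by
      by_cases hp2 : p = 2
      · subst hp2; exact sylow_le_two D hNp hle
      · exact sylow_le_odd D hp2 hNp hle
    have hcent : ∀ w ∈ D.N, w ≠ 1 → Subgroup.centralizer ({w} : Set G) = D.N := by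
      intro w hw hw1
      obtain ⟨Q, hQ⟩ := D.centralizer_sylow hNp hw hw1
      rw [hQ]
      refine le_antisymm (fun g hg => hsyl g (Q.isPGroup'.to_le (Subgroup.zpowers_le.2 hg))) ?_
      exact IsPGroup.le_sylow_of_normal hNp Q
    have hcardG : Nat.card G = Nat.card D.N * D.c := by
      have h := D.card_cent_eq D.x_mem D.x_ne
      rw [hcent _ D.x_mem D.x_ne] at h
      exact h.symm
    have hidx : D.N.index = D.c := by
      have h := D.N.card_mul_index
      rw [hcardG] at h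
      exact Nat.eq_of_mul_eq_mul_left Nat.card_pos h
    obtain ⟨H, hH⟩ := Subgroup.exists_right_complement'_of_coprime (N := D.N) (by
      rw [hidx]
      obtain ⟨m, hm⟩ := IsPGroup.iff_card.1 hNp
      rw [hm]
      exact Nat.Coprime.pow_left _ ((Nat.Prime.coprime_iff_not_dvd hp).2 (D.not_dvd_c hp hNp)))
    have hcardH : Nat.card H = D.c := by
      have e : Nat.card D.N * Nat.card H = Nat.card G := Subgroup.IsComplement'.card_mul_card hH
      rw [hcardG] at e
      exact Nat.eq_of_mul_eq_mul_left Nat.card_pos e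
    have hint : ∀ g, g ∈ D.N → g ∈ H → g = 1 := fun g h1 h2 =>
      Subgroup.mem_bot.1 (hH.disjoint.eq_bot ▸ (⟨h1, h2⟩ : g ∈ D.N ⊓ H))
    have hmul : ∀ g : G, ∃ n ∈ D.N, ∃ h ∈ H, n * h = g := fun g => by
      obtain ⟨⟨⟨n, hn⟩, ⟨h, hh⟩⟩, e⟩ := (hH.existsUnique g).exists
      exact ⟨n, hn, h, hh, e⟩
    refine ⟨H, ⟨?_, ?_, ?_⟩, ?_, by rw [hcardH, D.card_N]⟩
    · intro e
      rw [e, Subgroup.card_bot] at hcardH
      rw [hcardG, ← hcardH, mul_one, D.card_N, ← hcardH] at hG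
      omega
    · intro e
      exact D.x_ne (hint _ D.x_mem (e ▸ Subgroup.mem_top _))
    · intro g hg
      obtain ⟨n, hn, h, hh, rfl⟩ := hmul g
      rw [eq_bot_iff]
      rintro y ⟨hy1, hy2'⟩
      have hy2 : y ∈ MulAut.conj (n * h) • H := hy2'
      rw [Subgroup.mem_pointwise_smul_iff_inv_smul_mem, MulAut.smul_def,
        MulAut.conj_inv_apply] at hy2
      have hy3 : n⁻¹ * y * n ∈ H := by
        have e := mul_mem (mul_mem hh hy2) (inv_mem hh)
        have e' : h * ((n * h)⁻¹ * y * (n * h)) * h⁻¹ = n⁻¹ * y * n := by group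
        rwa [e'] at e
      have h1 : y⁻¹ * (n⁻¹ * y * n) ∈ D.N := by
        have e' : y⁻¹ * (n⁻¹ * y * n) = (y⁻¹ * n⁻¹ * y⁻¹⁻¹) * n := by group
        rw [e']
        exact mul_mem (D.normal_N.conj_mem _ (inv_mem hn) _) hn
      have h2 := hint _ h1 (mul_mem (inv_mem hy1) hy3)
      rw [inv_mul_eq_one] at h2
      refine Subgroup.mem_bot.2 (hint y ?_ hy1)
      have hn1 : n ≠ 1 := fun e => hg (by rw [e, one_mul]; exact hh)
      rw [← hcent n hn hn1, Subgroup.mem_centralizer_singleton_iff]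
      calc y * n = n * (n⁻¹ * y * n) := by group
        _ = n * y := by rw [← h2]
    · ext g
      constructor
      · rintro (rfl | hg)
        · exact one_mem _
        by_contra hgN
        obtain ⟨m, hm, h, hh, rfl⟩ := hmul g
        have hhN : h ∉ D.N := fun e => hgN (mul_mem hm e)
        let f : D.N → D.N := fun w => ⟨(w : G) * (h * (w : G)⁻¹ * h⁻¹),
          mul_mem w.2 (D.normal_N.conj_mem _ (inv_mem w.2) _)⟩
        have hf : Function.Injective f := by
          intro w w' e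
          have e' : (w : G) * (h * (w : G)⁻¹ * h⁻¹) = w' * (h * (w' : G)⁻¹ * h⁻¹) :=
            congrArg Subtype.val e
          by_contra hne
          have hu : (w' : G)⁻¹ * w ∈ D.N := mul_mem (inv_mem w'.2) w.2
          have hu1 : (w' : G)⁻¹ * w ≠ 1 := fun e'' => hne (Subtype.ext (inv_mul_eq_one.1 e'').symm)
          refine hhN ?_
          rw [← hcent _ hu hu1, Subgroup.mem_centralizer_singleton_iff]
          calc h * ((w' : G)⁻¹ * w)
              = (w' : G)⁻¹ * ((w' : G) * (h * (w' : G)⁻¹ * h⁻¹)) * (h * w) := by group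
            _ = (w' : G)⁻¹ * w * h := by rw [← e']; group
        obtain ⟨w, hw⟩ := (Finite.injective_iff_surjective.1 hf) ⟨m, hm⟩
        refine hg (w : G) ?_
        rw [Subgroup.mem_pointwise_smul_iff_inv_smul_mem, MulAut.smul_def,
          MulAut.conj_inv_apply, ← show (w : G) * (h * (w : G)⁻¹ * h⁻¹) = m from congrArg Subtype.val hw]
        convert hh using 1
        group
      · intro hg
        by_cases hg1 : g = 1
        · exact Or.inl hg1
        · refine Or.inr fun w hw => hg1 ?_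
          rw [Subgroup.mem_pointwise_smul_iff_inv_smul_mem, MulAut.smul_def,
            MulAut.conj_inv_apply] at hw
          have hgN : w⁻¹ * g * w ∈ D.N := by simpa using D.normal_N.conj_mem g hg w⁻¹
          calc g = w * (w⁻¹ * g * w) * w⁻¹ := by group
            _ = 1 := by rw [hint _ hgN hw, mul_one, mul_inv_cancel]
  · rintro ⟨H, -, hker, hcard⟩
    refine le_antisymm (Cfsg.Agent.Lib.PSolvable.le_pCore hNp) fun g hg => ?_
    by_contra hgN
    have hgN' : g ∉ Cfsg.frobeniusKernel H := by rw [hker]; exact hgN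
    simp only [Cfsg.frobeniusKernel, Set.mem_setOf_eq, not_or, not_forall, not_not] at hgN'
    obtain ⟨hg1, w, hw⟩ := hgN'
    obtain ⟨k, hk⟩ := IsPGroup.iff_orderOf.1 Cfsg.Agent.Lib.PSolvable.pCore_isPGroup
      (⟨g, hg⟩ : Cfsg.pCore p G)
    rw [Subgroup.orderOf_mk] at hk
    have hdvd : orderOf g ∣ Nat.card H := by
      rw [Subgroup.mem_pointwise_smul_iff_inv_smul_mem, MulAut.smul_def] at hw
      have := Subgroup.orderOf_dvd_natCard _ hw
      rwa [MulEquiv.orderOf_eq] at this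
    obtain ⟨m, hm⟩ := IsPGroup.iff_card.1 hNp
    rw [hm] at hcard
    rw [hk] at hdvd
    rcases Nat.eq_zero_or_pos k with rfl | hk0
    · exact hg1 (orderOf_eq_one_iff.1 (by rw [hk, pow_zero]))
    · have h1 : p ∣ Nat.card H := (dvd_pow_self p hk0.ne').trans hdvd
      rcases Nat.eq_zero_or_pos m with rfl | hm0
      · exact hN1 (Subgroup.eq_bot_of_card_eq _ (by rw [hm, pow_zero]))
      · have h2 : p ∣ Nat.card H + 1 := hcard ▸ dvd_pow_self p hm0.ne'
        exact hp.ne_one (Nat.dvd_one.1 ((Nat.dvd_add_right h1).1 h2))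

end Cfsg.Agent.S4839
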