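import Cfsg.Statements.S4840
import Cfsg.Agent.Lib.Gagola.Basic
import Cfsg.Agent.Lib.SolvLinear.Two
import Cfsg.Agent.Lib.Core.Fitting
import Cfsg.Agent.Lib.PSolvable.Core
import Cfsg.Agent.S3360

set_option autoImplicit false
open Cfsg

namespace Cfsg.Agent.S4840

open Subgroup
open scoped IsMulCommutative
open Cfsg.Agent.Lib.SolvLinear (IsVecTransitive IsSemilinear)

set_option maxHeartbeats 1000000
set_option synthInstance.maxHeartbeats 200000
set_option linter.unusedSectionVars false
set_option linter.style.haveILetI false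

/-- An abelian image with kernel of order prime to `q`. -/
theorem good_of_hom {Q A : Type*} [Group Q] [Finite Q] [CommGroup A] [Finite A] {q : ℕ}
    [hq : Fact q.Prime] (φ : Q →* A) (hker : ∀ g, φ g = 1 → (orderOf g).Coprime q) :
    HasNormalPComplement q Q ∧ ∀ P : Sylow q Q, IsMulCommutative (P : Subgroup Q) := by
  have hinj : ∀ g : Q, (∃ k, orderOf g = q ^ k) → φ g = 1 → g = 1 := by
    rintro g ⟨k, hk⟩ hg
    rw [← orderOf_eq_one_iff]
    have := hker g hg
    rw [hk] at this ⊢
    rcases Nat.eq_zero_or_pos k with rfl | hk0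
    · simp
    · exact absurd (Nat.Coprime.eq_one_of_dvd (Nat.coprime_comm.1 this) (dvd_pow_self q hk0.ne'))
        hq.out.ne_one
  refine ⟨?_, fun P => IsMulCommutative.of_comm fun a b => ?_⟩
  · let N : Subgroup Q :=
      { carrier := {g | (orderOf (φ g)).Coprime q}
        one_mem' := by simp
        mul_mem' := by
          intro a b ha hb
          show (orderOf (φ (a * b))).Coprime q
          rw [map_mul]
          exact ((Nat.Coprime.mul_left ha hb).coprime_dvd_left
            (Commute.all (φ a) (φ b)).orderOf_mul_dvd_mul_orderOf)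
        inv_mem' := by
          intro a ha
          show (orderOf (φ a⁻¹)).Coprime q
          rw [map_inv, orderOf_inv]; exact ha }
    have hNn : N.Normal := ⟨fun a ha g => by
      show (orderOf (φ (g * a * g⁻¹))).Coprime q
      rw [map_mul, map_mul, map_inv, mul_inv_cancel_comm]
      exact ha⟩
    have hco : (Nat.card N).Coprime q := by
      refine Nat.coprime_comm.1 (hq.out.coprime_iff_not_dvd.2 fun hd => ?_)
      obtain ⟨g, hg⟩ := exists_prime_orderOf_dvd_card' q hd
      have hgq : orderOf (g : Q) = q := by rw [Subgroup.orderOf_coe, hg]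
      have h1 : φ (g : Q) = 1 := by
        rw [← orderOf_eq_one_iff]
        exact Nat.Coprime.eq_one_of_dvd (g.2 : (orderOf (φ (g : Q))).Coprime q)
          (hgq ▸ orderOf_map_dvd φ (g : Q))
      have := hinj (g : Q) ⟨1, by rw [hgq, pow_one]⟩ h1
      rw [this, orderOf_one] at hgq
      exact hq.out.ne_one hgq.symm
    have hidx : IsPGroup q (Q ⧸ N) := by
      intro x
      induction x using QuotientGroup.induction_on with
      | _ g =>
        obtain ⟨k, b, hb, he⟩ := Nat.exists_eq_pow_mul_and_not_dvd (orderOf_pos (φ g)).ne' q hq.out.ne_one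
        refine ⟨k, ?_⟩
        rw [← QuotientGroup.mk_pow, QuotientGroup.eq_one_iff]
        show (orderOf (φ (g ^ q ^ k))).Coprime q
        rw [map_pow, orderOf_pow' _ (pow_ne_zero _ hq.out.ne_zero),
          Nat.gcd_eq_right (Dvd.intro b he.symm), he,
          Nat.mul_div_cancel_left _ (pow_pos hq.out.pos k)]
        exact Nat.coprime_comm.1 (hq.out.coprime_iff_not_dvd.2 hb)
    obtain ⟨j, hj⟩ := IsPGroup.iff_card.1 hidx
    obtain ⟨P⟩ := (inferInstance : Nonempty (Sylow q Q))
    refine ⟨P, N, hNn, Subgroup.isComplement'_of_coprime ?_ ?_⟩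
    · have hc := Subgroup.card_eq_card_quotient_mul_card_subgroup N
      rw [hj] at hc
      rw [P.card_eq_multiplicity, hc, Nat.factorization_mul (pow_ne_zero _ hq.out.ne_zero)
        Nat.card_pos.ne']
      have h0 : (Nat.card N).factorization q = 0 :=
        Nat.factorization_eq_zero_of_not_dvd (hq.out.coprime_iff_not_dvd.1 (Nat.coprime_comm.1 hco))
      rw [Finsupp.add_apply, h0, Nat.factorization_pow, hq.out.factorization]
      simp [mul_comm]
    · obtain ⟨i, hi⟩ := IsPGroup.iff_card.1 P.2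
      rw [hi]; exact Nat.Coprime.pow_right _ hco
  · obtain ⟨k, hk⟩ := IsPGroup.iff_orderOf.1 P.2 (a * b * (b * a)⁻¹)
    have := hinj ((a : Q) * b * ((b : Q) * a)⁻¹) ⟨k, by rw [← hk, ← Subgroup.orderOf_coe]; rfl⟩
      (by rw [map_mul, map_inv, map_mul, map_mul, mul_comm (φ (b : Q)), mul_inv_cancel])
    exact Subtype.ext (mul_inv_eq_one.1 this)

section Linear

variable {q : ℕ} [hq : Fact q.Prime] {V : Type*} [AddCommGroup V] [Module (ZMod q) V] [Finite V]
  [Nontrivial V] {Q : Type*} [Group Q] [Finite Q] {ρ : Q →* (V ≃ₗ[ZMod q] V)}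

theorem rho_mul (g h : Q) (v : V) : ρ (g * h) v = ρ g (ρ h v) := by rw [map_mul]; rfl

theorem rho_one (v : V) : ρ 1 v = v := by rw [map_one]; rfl

theorem semilinear_good (hρ : Function.Injective ρ) (F : Type) [Field F] [Fintype F] (e : V ≃+ F)
    (h : ∀ g : Q, ∃ (a : F) (σ : F ≃+* F), ∀ v : V, e (ρ g v) = a * σ (e v)) :
    HasNormalPComplement q Q ∧ ∀ P : Sylow q Q, IsMulCommutative (P : Subgroup Q) := by
  classical
  choose a σ hσ using h
  have ha : ∀ g, a g = e (ρ g (e.symm 1)) := fun g => by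
    rw [hσ, AddEquiv.apply_symm_apply, map_one, mul_one]
  have ha0 : ∀ g, a g ≠ 0 := fun g hg => by
    have h1 : ρ g (e.symm 1) = 0 := e.injective (by rw [← ha, hg, map_zero])
    rw [LinearEquiv.map_eq_zero_iff, AddEquiv.map_eq_zero_iff] at h1
    exact one_ne_zero h1
  obtain ⟨r, hr⟩ := CharP.exists F
  haveI : Fact r.Prime := ⟨CharP.char_is_prime F r⟩
  letI : Algebra (ZMod r) F := ZMod.algebra F r
  let σ' : Q → (F ≃ₐ[ZMod r] F) := fun g => AlgEquiv.ofRingEquiv (f := σ g) fun c => by
    have : ((σ g).toRingHom.comp (algebraMap (ZMod r) F)) = algebraMap (ZMod r) F :=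
      Subsingleton.elim _ _
    exact RingHom.congr_fun this c
  have hσ' : ∀ g x, σ' g x = σ g x := fun _ _ => rfl
  have hmul : ∀ g k x, σ (g * k) x = σ g (σ k x) := by
    intro g k x
    have h1 : ∀ y : F, a (g * k) * σ (g * k) y = a g * (σ g (a k) * σ g (σ k y)) := by
      intro y
      have := hσ (g * k) (e.symm y)
      rw [AddEquiv.apply_symm_apply] at this
      rw [← this, rho_mul, hσ, hσ, AddEquiv.apply_symm_apply, map_mul]
    have h2 := h1 1
    rw [map_one, map_one, map_one, mul_one, mul_one] at h2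
    have h3 := h1 x
    rw [← mul_assoc, ← h2] at h3
    exact mul_left_cancel₀ (ha0 _) h3
  let φ : Q →* (F ≃ₐ[ZMod r] F) := MonoidHom.mk' σ' fun g k => AlgEquiv.ext fun x => hmul g k x
  letI : CommGroup (F ≃ₐ[ZMod r] F) := IsCyclic.commGroup
  refine good_of_hom φ fun g hg => ?_
  have hlin : ∀ v, e (ρ g v) = a g * e v := fun v => by
    rw [hσ, show σ g (e v) = e v from AlgEquiv.congr_fun hg (e v)]
  have hpow : ∀ n v, e (ρ (g ^ n) v) = a g ^ n * e v := by
    intro n
    induction n with
    | zero => intro v; rw [pow_zero, pow_zero, rho_one, one_mul]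
    | succ n ih => intro v; rw [pow_succ', rho_mul, hlin, ih, pow_succ', mul_assoc]
  have hd : orderOf g ∣ Fintype.card F - 1 := by
    refine orderOf_dvd_of_pow_eq_one (hρ (LinearEquiv.ext fun v => e.injective ?_))
    rw [hpow, FiniteField.pow_card_sub_one_eq_one _ (ha0 g), one_mul, rho_one]
  refine Nat.Coprime.coprime_dvd_left hd (Nat.coprime_comm.1 (hq.out.coprime_iff_not_dvd.2 fun hqd => ?_))
  have hc : Fintype.card F = q ^ Module.finrank (ZMod q) V := by
    rw [← Nat.card_eq_fintype_card, ← Nat.card_congr e.toEquiv, Lib.SolvLinear.card_eq_pow (q := q)]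
  have hpos : 0 < Module.finrank (ZMod q) V := Module.finrank_pos
  have h1 : q ∣ Fintype.card F := hc ▸ dvd_pow_self q hpos.ne'
  have h2 := Nat.dvd_sub h1 hqd
  rw [Nat.sub_sub_self Fintype.card_pos] at h2
  exact hq.out.not_dvd_one h2

variable (hρ : Function.Injective ρ) (ht : IsVecTransitive ρ)
  (hstab : ∀ v : V, v ≠ 0 → ∀ g : Q, ρ g v = v → ∃ k, orderOf g = q ^ k)

include hρ hstab in
theorem free {g : Q} (hg : (orderOf g).Coprime q) {v : V} (hv : v ≠ 0) (h : ρ g v = v) : g = 1 := by
  obtain ⟨k, hk⟩ := hstab v hv g h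
  rw [← orderOf_eq_one_iff, hk]
  rw [hk] at hg
  exact Nat.Coprime.eq_one_of_dvd (hg.pow_right k) dvd_rfl

include hρ ht hstab in
theorem card_orbit {v : V} (hv : v ≠ 0) :
    ∃ U : Subgroup Q, (∀ g, g ∈ U ↔ ρ g v = v) ∧ IsPGroup q U ∧
      Nat.card Q = (Nat.card V - 1) * Nat.card U := by
  letI : MulAction Q V := MulAction.compHom V ρ
  refine ⟨MulAction.stabilizer Q v, fun g => Iff.rfl, fun g => ?_, ?_⟩
  · obtain ⟨k, hk⟩ := hstab v hv (g : Q) g.2
    exact ⟨k, by rw [← hk, Subgroup.orderOf_coe]; exact pow_orderOf_eq_one g⟩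
  · have horb : MulAction.orbit Q v = {0}ᶜ := by
      ext w
      refine ⟨?_, fun hw => ?_⟩
      · rintro ⟨g, rfl⟩ h0
        exact hv ((ρ g).map_eq_zero_iff.1 h0)
      · obtain ⟨g, hg⟩ := ht v w hv hw
        exact ⟨g, hg⟩
    have h1 := (MulAction.stabilizer Q v).index_mul_card
    rw [MulAction.index_stabilizer, horb, Set.ncard_compl, Set.ncard_singleton] at h1
    exact h1.symm

set_option synthInstance.maxSize 512 in
theorem small_cases : ∀ q ∈ ([3, 5, 7, 11, 23] : List ℕ), ∀ a ∈ List.range (q * q), ∀ b ∈ List.range (q + 1),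
    a ∣ q * q - 1 → b ∣ q - 1 → b ∣ a → b < a → a % q = b % q →
    (2 ∣ a → a ∣ 2 ^ 10 ∧ 2 ∣ b) → (3 ∣ a → a ∣ 3 ^ 10) → (5 ∣ a → a ∣ 5 ^ 10) →
    (11 ∣ a → a ∣ 11 ^ 10) → (q = 3 ∧ a = 8) ∨ (q = 7 ∧ a = 16 ∧ b = 2) := by
  decide +kernel

include hρ ht hstab in
theorem plane_good [Group.IsSolvable Q] (hm : Nat.card V = q ^ 2) (hq5 : q ∈ ([3, 5, 7, 11, 23] : List ℕ)) :
    HasNormalPComplement q Q ∧ ∀ P : Sylow q Q, IsMulCommutative (P : Subgroup Q) := by
  classical
  have hp := hq.out
  obtain ⟨v, hv⟩ := exists_ne (0 : V)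
  obtain ⟨w, hw⟩ : ∃ w, w ∉ Submodule.span (ZMod q) {v} := by
    by_contra hc
    push Not at hc
    have hsurj : Function.Surjective fun c : ZMod q => c • v := fun x =>
      Submodule.mem_span_singleton.1 (hc x)
    have := Nat.card_le_card_of_surjective _ hsurj
    rw [hm, Nat.card_zmod] at this
    nlinarith [hp.two_le]
  have hcoord : ∀ {c d : ZMod q}, c • v + d • w = 0 → c = 0 ∧ d = 0 := by
    intro c d h
    by_cases hd : d = 0
    · rw [hd, zero_smul, add_zero, smul_eq_zero] at h
      exact ⟨h.resolve_right hv, hd⟩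
    · refine absurd (Submodule.mem_span_singleton.2 ⟨-(d⁻¹ * c), ?_⟩) hw
      have : d • w = -(c • v) := eq_neg_of_add_eq_zero_right h
      calc (-(d⁻¹ * c)) • v = d⁻¹ • -(c • v) := by rw [smul_neg, smul_smul, neg_smul]
        _ = w := by rw [← this, smul_smul, inv_mul_cancel₀ hd, one_smul]
  have hbij : Function.Bijective fun cd : ZMod q × ZMod q => cd.1 • v + cd.2 • w := by
    refine (Nat.bijective_iff_injective_and_card _).2 ⟨?_, by rw [Nat.card_prod, Nat.card_zmod, hm, sq]⟩
    rintro ⟨c, d⟩ ⟨c', d'⟩ h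
    have := hcoord (c := c - c') (d := d - d') (by
      rw [sub_smul, sub_smul, ← sub_eq_zero.2 h]; simp only; abel)
    exact Prod.ext (sub_eq_zero.1 this.1) (sub_eq_zero.1 this.2)
  have hext : ∀ {g k : Q}, ρ g v = ρ k v → ρ g w = ρ k w → g = k := by
    intro g k h1 h2
    refine hρ (LinearEquiv.ext fun x => ?_)
    obtain ⟨⟨c, d⟩, rfl⟩ := hbij.2 x
    simp only [map_add, map_smul, h1, h2]
  obtain ⟨U, hU, hUp, hcard⟩ := card_orbit hρ ht hstab hv
  rw [hm] at hcard
  have hUform : ∀ g ∈ U, ∃ b : ZMod q, ρ g w = b • v + w := by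
    intro g hg
    obtain ⟨⟨b, d⟩, hbd⟩ := hbij.2 (ρ g w)
    simp only at hbd
    have hit : ∀ n : ℕ, ∃ b' : ZMod q, ρ (g ^ n) w = b' • v + d ^ n • w := by
      intro n
      induction n with
      | zero => exact ⟨0, by rw [pow_zero, pow_zero, rho_one, zero_smul, zero_add, one_smul]⟩
      | succ n ih =>
        obtain ⟨b', hb'⟩ := ih
        refine ⟨b' + d ^ n * b, ?_⟩
        rw [pow_succ', rho_mul, hb', map_add, map_smul, map_smul, (hU g).1 hg, ← hbd, smul_add,
          smul_smul, smul_smul, add_smul, pow_succ]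
        abel
    obtain ⟨k, hk⟩ := hUp ⟨g, hg⟩
    obtain ⟨b', hb'⟩ := hit (q ^ k)
    have hgk : g ^ q ^ k = 1 := by simpa using congrArg Subtype.val hk
    rw [hgk, rho_one, ZMod.pow_card_pow] at hb'
    have h0 := hcoord (c := b') (d := d - 1) (by
      rw [sub_smul, one_smul, ← add_sub_assoc, ← hb', sub_self])
    rw [sub_eq_zero.1 h0.2, one_smul] at hbd
    exact ⟨b, hbd.symm⟩
  choose bf hbf using hUform
  have hUle : Nat.card U ≤ q := by
    refine (Nat.card_le_card_of_injective (fun g : U => bf g g.2) fun g k h => ?_).trans (Nat.card_zmod q).le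
    refine Subtype.ext (hext ?_ ?_)
    · rw [(hU _).1 g.2, (hU _).1 k.2]
    · rw [hbf _ g.2, hbf _ k.2]; exact congrArg (fun b => b • v + w) h
  obtain ⟨i, hi⟩ := IsPGroup.iff_card.1 hUp
  have hi1 : i ≤ 1 := by
    rw [← Nat.pow_le_pow_iff_right hp.one_lt, pow_one, ← hi]; exact hUle
  rcases Nat.le_one_iff_eq_zero_or_eq_one.1 hi1 with rfl | rfl
  · refine good_of_hom (1 : Q →* Multiplicative (ZMod 1)) fun g _ => ?_
    refine Nat.Coprime.coprime_dvd_left (orderOf_dvd_natCard g) ?_
    rw [hcard, hi, pow_zero, mul_one]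
    refine Nat.coprime_comm.1 (hp.coprime_iff_not_dvd.2 fun h => ?_)
    have h2 := Nat.dvd_sub (dvd_pow_self q two_ne_zero) h
    rw [Nat.sub_sub_self (Nat.one_le_pow _ _ hp.pos)] at h2
    exact hp.not_dvd_one h2
  rw [hi, pow_one] at hcard
  -- a unipotent element
  obtain ⟨u₀, hu₀⟩ := exists_prime_orderOf_dvd_card' (G := U) q (by rw [hi, pow_one])
  set u : Q := (u₀ : Q) with hudef
  have hu : orderOf u = q := by rw [hudef, Subgroup.orderOf_coe, hu₀]
  have hu1 : u ≠ 1 := fun h => hp.ne_one (by rw [← hu, h, orderOf_one])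
  have huv : ρ u v = v := (hU u).1 u₀.2
  obtain ⟨b, hb⟩ : ∃ b, ρ u w = b • v + w := ⟨_, hbf u u₀.2⟩
  have hb0 : b ≠ 0 := fun h => hu1 (hext (by rw [huv, rho_one]) (by
    rw [hb, h, zero_smul, zero_add, rho_one]))
  -- no normal q-subgroup
  have hnoq : ∀ K : Subgroup Q, K.Normal → IsPGroup q K → K = ⊥ := by
    intro K hKn hK
    letI : MulAction K V := MulAction.compHom V (ρ.comp K.subtype)
    obtain ⟨x, hx, hx0⟩ := hK.exists_fixed_point_of_prime_dvd_card_of_fixed_point V
      (by rw [hm]; exact dvd_pow_self q two_ne_zero) (a := (0 : V))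
      (fun k => (ρ k).map_zero)
    refine (Subgroup.eq_bot_iff_forall _).2 fun k hk => hρ (LinearEquiv.ext fun y => ?_)
    rw [map_one]
    show ρ k y = y
    rcases eq_or_ne y 0 with rfl | hy
    · rw [map_zero]
    · obtain ⟨g, rfl⟩ := ht x y (Ne.symm hx0) hy
      have h1 : ρ (g⁻¹ * k * g) x = x := hx ⟨g⁻¹ * k * g, by simpa using hKn.conj_mem k hk g⁻¹⟩
      calc ρ k (ρ g x) = ρ g (ρ (g⁻¹ * k * g) x) := by
            rw [← rho_mul, ← rho_mul]; simp [mul_assoc]
        _ = ρ g x := by rw [h1]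
  have huF : ∃ r : ℕ, r.Prime ∧ ¬ pCore r Q ≤ centralizer ({u} : Set Q) := by
    refine Lib.SolvLinear.exists_pCore_not_le fun hF => ?_
    haveI : (fittingSubgroup Q).Normal := Lib.Fitting.fittingSubgroup_normal
    have huFit : u ∈ fittingSubgroup Q := Lib.Fitting.centralizer_fittingSubgroup_le
      (mem_centralizer_iff.2 fun h hh => mem_centralizer_singleton_iff.1 (hF hh))
    let K : Subgroup Q :=
      { carrier := {z | z ∈ fittingSubgroup Q ∧ z ∈ centralizer (fittingSubgroup Q : Set Q) ∧ z ^ q = 1}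
        one_mem' := ⟨one_mem _, one_mem _, one_pow _⟩
        mul_mem' := by
          rintro x y ⟨h1, h2, h3⟩ ⟨h4, h5, h6⟩
          exact ⟨mul_mem h1 h4, mul_mem h2 h5, by
            rw [(show Commute x y from (mem_centralizer_iff.1 h5 x h1)).mul_pow, h3, h6, one_mul]⟩
        inv_mem' := by
          rintro x ⟨h1, h2, h3⟩
          exact ⟨inv_mem h1, inv_mem h2, by rw [inv_pow, h3, inv_one]⟩ }
    have hKn : K.Normal := ⟨fun z hz g => ⟨(inferInstance : (fittingSubgroup Q).Normal).conj_mem z hz.1 g,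
      (inferInstance : (centralizer (fittingSubgroup Q : Set Q)).Normal).conj_mem z hz.2.1 g,
      by rw [conj_pow, hz.2.2, mul_one, mul_inv_cancel]⟩⟩
    have hK := hnoq K hKn fun z => ⟨1, Subtype.ext (by simpa using z.2.2.2)⟩
    have : u ∈ K := ⟨huFit, mem_centralizer_iff.2 fun h hh => mem_centralizer_singleton_iff.1 (hF hh),
      hu ▸ pow_orderOf_eq_one u⟩
    rw [hK, mem_bot] at this
    exact hu1 this
  obtain ⟨r, hr, hR⟩ := huF
  haveI := Fact.mk hr
  set R := pCore r Q with hRdef
  haveI : R.Normal := by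
    haveI := Lib.PSolvable.pCore_characteristic (p := r) (G := Q)
    exact Subgroup.normal_of_characteristic _
  have hRp : IsPGroup r R := Lib.PSolvable.pCore_isPGroup
  have hrq : r ≠ q := by
    rintro rfl
    exact hR (by rw [hnoq R inferInstance hRp]; exact bot_le)
  obtain ⟨j, hj⟩ := IsPGroup.iff_card.1 hRp
  have hRco : (Nat.card R).Coprime q := hj ▸ ((Nat.coprime_primes hr hp).2 hrq).pow_left j
  have horder : ∀ g ∈ R, (orderOf g).Coprime q := fun g hg =>
    hRco.coprime_dvd_left (Subgroup.orderOf_dvd_natCard R hg)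
  -- the centraliser of `u` in `R` is scalar
  let C : Subgroup Q := R ⊓ centralizer ({u} : Set Q)
  have hscal : ∀ g ∈ C, ∃ c : ZMod q, ∀ x, ρ g x = c • x := by
    intro g hg
    have hcom : u * g = g * u := (mem_centralizer_singleton_iff.1 hg.2).symm
    obtain ⟨⟨c, d'⟩, hc⟩ := hbij.2 (ρ g v)
    obtain ⟨⟨f, d⟩, hd⟩ := hbij.2 (ρ g w)
    simp only at hc hd
    have e1 : ρ u (ρ g v) = ρ g (ρ u v) := by rw [← rho_mul, hcom, rho_mul]
    rw [huv, ← hc, map_add, map_smul, map_smul, huv, hb] at e1
    have hd' : d' = 0 := by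
      have := hcoord (c := d' * b) (d := 0) (by
        rw [zero_smul, add_zero, mul_smul, ← sub_eq_zero.2 e1, smul_add]; abel)
      exact (mul_eq_zero.1 this.1).resolve_right hb0
    rw [hd', zero_smul, add_zero] at hc
    have e2 : ρ u (ρ g w) = ρ g (ρ u w) := by rw [← rho_mul, hcom, rho_mul]
    rw [hb, map_add, map_smul, ← hd, ← hc, map_add, map_smul, map_smul, huv, hb] at e2
    have hcd : d = c := by
      have := hcoord (c := d * b - b * c) (d := 0) (by
        rw [zero_smul, add_zero, sub_smul, mul_smul, mul_smul, ← sub_eq_zero.2 e2, smul_add]; abel)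
      have := this.1
      rw [mul_comm b c, ← sub_mul, mul_eq_zero] at this
      exact sub_eq_zero.1 (this.resolve_right hb0)
    subst d
    have hit : ∀ n : ℕ, ρ (g ^ (n + 1)) w = (((n + 1 : ℕ) : ZMod q) * f * c ^ n) • v + c ^ (n + 1) • w := by
      intro n
      induction n with
      | zero => simp [← hd]
      | succ n ih =>
        rw [pow_succ', rho_mul, ih, map_add, map_smul, map_smul, ← hc, ← hd, smul_smul, smul_add,
          smul_smul, smul_smul, ← add_assoc, ← add_smul]
        congr 2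
        · push_cast; ring
        · ring
    obtain ⟨n, hn⟩ : ∃ n, orderOf g = n + 1 := ⟨orderOf g - 1, by have := orderOf_pos g; omega⟩
    have h0 := hit n
    rw [← hn, pow_orderOf_eq_one, rho_one] at h0
    have h1 := (hcoord (c := (orderOf g : ZMod q) * f * c ^ n) (d := c ^ orderOf g - 1) (by
      rw [sub_smul, one_smul, ← add_sub_assoc, ← h0, sub_self]))
    have hc0 : c ≠ 0 := fun h => by
      rw [h, zero_smul] at hc
      exact hv ((ρ g).map_eq_zero_iff.1 hc.symm)
    have hf : f = 0 := by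
      have := h1.1
      rcases mul_eq_zero.1 this with h | h
      · refine (mul_eq_zero.1 h).resolve_left fun hz => ?_
        rw [ZMod.natCast_eq_zero_iff] at hz
        exact hp.ne_one (Nat.Coprime.eq_one_of_dvd (Nat.coprime_comm.1 (horder g hg.1)) hz)
      · exact absurd (pow_eq_zero_iff'.1 h).1 hc0
    rw [hf, zero_smul, zero_add] at hd
    refine ⟨c, fun x => ?_⟩
    obtain ⟨⟨y, z⟩, rfl⟩ := hbij.2 x
    simp only [map_add, map_smul, ← hc, ← hd, smul_add, smul_smul, mul_comm]
  choose cf hcf using hscal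
  have hcf0 : ∀ g : C, cf g g.2 ≠ 0 := fun g h => by
    have := hcf g g.2 v
    rw [h, zero_smul, LinearEquiv.map_eq_zero_iff] at this
    exact hv this
  let cu : C →* (ZMod q)ˣ := MonoidHom.mk' (fun g => Units.mk0 _ (hcf0 g)) fun g k => by
    refine Units.ext ?_
    simp only [Units.val_mk0, Units.val_mul]
    have h := (hcf _ (g * k).2 v).symm.trans (rho_mul (g : Q) (k : Q) v)
    rw [hcf _ k.2, map_smul, hcf _ g.2, smul_smul] at h
    have h2 := hcoord (c := cf k k.2 * cf g g.2 - cf _ (g * k).2) (d := 0) (by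
      rw [zero_smul, add_zero, sub_smul, sub_eq_zero]; exact h.symm)
    rw [← sub_eq_zero.1 h2.1, mul_comm]
  have hcuinj : Function.Injective cu := fun g k h => Subtype.ext (hext
    (by rw [hcf _ g.2, hcf _ k.2]; exact congrArg (fun c : (ZMod q)ˣ => (c : ZMod q) • v) h)
    (by rw [hcf _ g.2, hcf _ k.2]; exact congrArg (fun c : (ZMod q)ˣ => (c : ZMod q) • w) h))
  have hbdiv : Nat.card C ∣ q - 1 := by
    refine (Subgroup.card_dvd_of_injective cu hcuinj).trans ?_
    rw [Nat.card_eq_fintype_card, ZMod.card_units]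
  -- congruence
  letI act : MulAction (zpowers u) R :=
    MulAction.compHom R ((MulAut.conjNormal (H := R)).comp (zpowers u).subtype)
  have hsm : ∀ (s : zpowers u) (x : R), ((s • x : R) : Q) = (s : Q) * x * (s : Q)⁻¹ :=
    fun s x => MulAut.conjNormal_apply (s : Q) x
  have hupg : IsPGroup q (zpowers u) := IsPGroup.of_card (n := 1) (by rw [Nat.card_zpowers, hu, pow_one])
  have hmod : Nat.card R % q = Nat.card C % q := by
    refine (hupg.card_modEq_card_fixedPoints R).trans ?_
    congr 1
    refine Nat.card_congr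
      { toFun := fun x => ⟨(x.1 : Q), x.1.2, mem_centralizer_singleton_iff.2 ?_⟩
        invFun := fun g => ⟨⟨g, g.2.1⟩, fun s => Subtype.ext ?_⟩
        left_inv := fun x => rfl
        right_inv := fun g => rfl }
    · have h := congrArg Subtype.val (x.2 ⟨u, mem_zpowers u⟩)
      rw [hsm] at h
      exact (mul_inv_eq_iff_eq_mul.1 h).symm
    · obtain ⟨z, hz⟩ := mem_zpowers_iff.1 s.2
      rw [hsm, ← hz, mul_inv_eq_iff_eq_mul]
      exact ((show Commute u (g : Q) from (mem_centralizer_singleton_iff.1 g.2.2).symm).zpow_left z).eq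
  have hCR : C ≤ R := inf_le_left
  have hlt : Nat.card C < Nat.card R := by
    refine lt_of_le_of_ne (Subgroup.card_le_of_le hCR) fun h => hR ?_
    rw [← Subgroup.eq_of_le_of_card_ge hCR h.ge]
    exact inf_le_right
  have hadvd : Nat.card R ∣ q * q - 1 := by
    have h := Subgroup.card_subgroup_dvd_card R
    rw [hcard, sq] at h
    exact hRco.dvd_of_dvd_mul_right h
  have hneg : ∀ z : Q, (orderOf z).Coprime q → z * z = 1 → z ≠ 1 → ∀ x, ρ z x = -x := by
    intro z hz h2 h1 x
    by_contra hx
    exact h1 (free hρ hstab hz (v := x + ρ z x) (fun h => hx (eq_neg_of_add_eq_zero_right h))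
      (by rw [map_add, ← rho_mul, h2, rho_one, add_comm]))
  have heven : 2 ∣ Nat.card R → 2 ∣ Nat.card C := by
    intro h
    haveI := Fact.mk Nat.prime_two
    obtain ⟨z, hz⟩ := exists_prime_orderOf_dvd_card' (G := R) 2 h
    have hz' : orderOf (z : Q) = 2 := by rw [Subgroup.orderOf_coe, hz]
    have hz2 : (z : Q) * z = 1 := by rw [← pow_two, ← hz']; exact pow_orderOf_eq_one _
    have hz1 : (z : Q) ≠ 1 := fun h => by rw [h, orderOf_one] at hz'; omega
    have hn := hneg z (horder z z.2) hz2 hz1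
    have hzC : (z : Q) ∈ C := ⟨z.2, mem_centralizer_singleton_iff.2 (hext
      (by rw [rho_mul, rho_mul, hn, hn, map_neg]) (by rw [rho_mul, rho_mul, hn, hn, map_neg]))⟩
    exact hz' ▸ Subgroup.orderOf_dvd_natCard C hzC
  have hpp : ∀ s : ℕ, s.Prime → s ∣ Nat.card R → Nat.card R ∣ s ^ 10 := by
    intro s hs hsd
    rw [hj] at hsd ⊢
    obtain rfl : s = r := (Nat.prime_dvd_prime_iff_eq hs hr).1 (hs.dvd_of_dvd_pow hsd)
    refine pow_dvd_pow s ?_
    have hle : Nat.card R ≤ q * q - 1 := by
      refine Nat.le_of_dvd ?_ hadvd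
      have := hp.two_le
      have : 4 ≤ q * q := Nat.mul_le_mul this this
      omega
    have hq23 : q ≤ 23 := by
      simp only [List.mem_cons, List.not_mem_nil, or_false] at hq5
      omega
    by_contra hc
    push Not at hc
    have h1 : 2 ^ 11 ≤ s ^ j := le_trans (Nat.pow_le_pow_left hs.two_le 11)
      (Nat.pow_le_pow_right hs.pos hc)
    rw [← hj] at h1
    nlinarith [Nat.sub_le (q * q) 1]
  have hC1 : Nat.card C ≤ q := (Nat.le_of_dvd (by have := hp.two_le; omega) hbdiv).trans (Nat.sub_le q 1)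
  have hR1 : Nat.card R < q * q := by
    have h0 : 0 < q * q - 1 := by
      have := hp.two_le
      have : 4 ≤ q * q := Nat.mul_le_mul this this
      omega
    have := Nat.le_of_dvd h0 hadvd
    omega
  rcases small_cases q hq5 _ (List.mem_range.2 hR1) _ (List.mem_range.2 (Nat.lt_succ_of_le hC1))
    hadvd hbdiv (Subgroup.card_dvd_of_le hCR) hlt hmod
    (fun h => ⟨hpp 2 Nat.prime_two h, heven h⟩) (hpp 3 Nat.prime_three)
    (hpp 5 (by norm_num)) (hpp 11 (by norm_num)) with ⟨rfl, h8⟩ | ⟨rfl, h16, h2⟩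
  · have hidx : Nat.card (Q ⧸ R) = 3 := by
      have h := Subgroup.card_eq_card_quotient_mul_card_subgroup R
      rw [hcard, h8] at h
      norm_num at h
      omega
    haveI : IsCyclic (Q ⧸ R) := isCyclic_of_prime_card hidx
    letI : CommGroup (Q ⧸ R) := IsCyclic.commGroup
    exact good_of_hom (QuotientGroup.mk' R) fun g hg => horder g ((QuotientGroup.eq_one_iff g).1 hg)
  · exfalso
    -- a group of order sixteen with one involution, acted on by an element of order seven
    have hr2 : r = 2 := by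
      have : r ∣ 2 ^ 4 := by
        rcases Nat.eq_zero_or_pos j with rfl | hj0
        · rw [pow_zero] at hj; omega
        · rw [show (2 : ℕ) ^ 4 = Nat.card R by rw [h16]; rfl, hj]; exact dvd_pow_self r hj0.ne'
      exact (Nat.prime_dvd_prime_iff_eq hr Nat.prime_two).1 (hr.dvd_of_dvd_pow this)
    subst r
    haveI : Nontrivial C := Finite.one_lt_card_iff_nontrivial.1 (by omega)
    obtain ⟨z₀, hz₀⟩ := exists_ne (1 : C)
    have hzo : orderOf z₀ = 2 := by
      rcases (Nat.dvd_prime Nat.prime_two).1 (h2 ▸ orderOf_dvd_natCard z₀) with h | h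
      · exact absurd (orderOf_eq_one_iff.1 h) hz₀
      · exact h
    set z : Q := (z₀ : Q) with hzdef
    have hz2 : z * z = 1 := by
      rw [hzdef, ← Subgroup.coe_mul, ← pow_two, ← hzo, pow_orderOf_eq_one, Subgroup.coe_one]
    have hz1 : z ≠ 1 := fun h => hz₀ (Subtype.ext h)
    have hzC : ∀ g ∈ C, g = 1 ∨ g = z := by
      intro g hg
      obtain ⟨a, b', hab, hu'⟩ := Nat.card_eq_two_iff.1 h2
      have hm1 : ∀ y : C, y = a ∨ y = b' := fun y => by
        have : y ∈ ({a, b'} : Set C) := hu' ▸ Set.mem_univ y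
        simpa using this
      rcases hm1 1 with e1 | e1 <;> rcases hm1 z₀ with e2 | e2 <;> rcases hm1 ⟨g, hg⟩ with e3 | e3
      all_goals first
        | exact absurd (e2.trans e1.symm) hz₀
        | exact Or.inl (congrArg Subtype.val (e3.trans e1.symm))
        | exact Or.inr (congrArg Subtype.val (e3.trans e2.symm))
    have hzn := hneg z (horder z z₀.2.1) hz2 hz1
    have hzcen : ∀ g : Q, g * z = z * g := fun g => hext
      (by rw [rho_mul, rho_mul, hzn, hzn, map_neg]) (by rw [rho_mul, rho_mul, hzn, hzn, map_neg])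
    -- all elements outside `C` square to `z`
    have hinv : ∀ g ∈ R, g * g = 1 → g = 1 ∨ g = z := fun g hg h => by
      rcases eq_or_ne g 1 with rfl | hg1
      · exact Or.inl rfl
      · refine Or.inr (hext ?_ ?_) <;> rw [hneg g (horder g hg) h hg1, hzn]
    haveI : Fintype R := Fintype.ofFinite R
    let T : Finset R := Finset.univ.filter fun g => (g : Q) * g = z
    have hT7 : 7 ∣ T.card := by
      letI : MulAction (zpowers u) T :=
        { smul := fun s g => ⟨s • g.1, by
            simp only [T, Finset.mem_filter, Finset.mem_univ, true_and, hsm]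
            have := (Finset.mem_filter.1 g.2).2
            calc _ = (s : Q) * ((g.1 : Q) * g.1) * (s : Q)⁻¹ := by group
              _ = z := by rw [this, hzcen, mul_inv_cancel_right]⟩
          one_smul := fun g => Subtype.ext (one_smul _ g.1)
          mul_smul := fun s t g => Subtype.ext (mul_smul s t g.1) }
      have h := hupg.card_modEq_card_fixedPoints T
      rw [Nat.card_eq_finsetCard] at h
      have h0 : IsEmpty (MulAction.fixedPoints (zpowers u) T) := by
        refine ⟨fun g => ?_⟩
        have hgC : ((g.1.1 : R) : Q) ∈ C := by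
          refine ⟨g.1.1.2, mem_centralizer_singleton_iff.2 ?_⟩
          have h := congrArg (fun t : T => ((t.1 : R) : Q)) (g.2 ⟨u, mem_zpowers u⟩)
          exact (mul_inv_eq_iff_eq_mul.1 ((hsm ⟨u, mem_zpowers u⟩ g.1.1).symm.trans h)).symm
        have := (Finset.mem_filter.1 g.1.2).2
        rcases hzC _ hgC with e | e <;> rw [e] at this
        · exact hz1 (this.symm.trans (one_mul 1))
        · exact hz1 (this.symm.trans hz2)
      rw [Nat.card_of_isEmpty] at h
      exact Nat.modEq_zero_iff_dvd.1 h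
    have hT2 : 2 ∣ T.card := by
      rw [← ZMod.natCast_eq_zero_iff]
      have : (T.card : ZMod 2) = ∑ _g ∈ T, (1 : ZMod 2) := by simp
      rw [this]
      refine Finset.sum_involution (fun g _ => ⟨(g : Q) * z, mul_mem g.2 z₀.2.1⟩) (fun g _ => CharTwo.add_self_eq_zero (1 : ZMod 2))
        (fun g _ _ h => hz1 (mul_eq_left.1 (congrArg Subtype.val h))) (fun g hg => ?_) (fun g _ => ?_)
      · simp only [T, Finset.mem_filter, Finset.mem_univ, true_and] at hg ⊢
        calc (g : Q) * z * ((g : Q) * z) = (g : Q) * g * (z * z) := by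
              rw [← mul_assoc, mul_assoc (g : Q) z g, ← hzcen g, ← mul_assoc, mul_assoc]
          _ = z := by rw [hz2, mul_one, hg]
      · exact Subtype.ext (by simp [mul_assoc, hz2])
    have hTne : T.Nonempty := by
      obtain ⟨g, hg, hgn⟩ : ∃ g ∈ R, g ∉ C := by
        by_contra hc
        push Not at hc
        exact absurd (Subgroup.card_le_of_le (show R ≤ C from hc)) (by omega)
      obtain ⟨k, hk⟩ := hRp ⟨g, hg⟩
      have hk' : g ^ 2 ^ k = 1 := by simpa using congrArg Subtype.val hk
      have hex : ∃ n, g ^ 2 ^ n ∈ C := ⟨k, by rw [hk']; exact one_mem _⟩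
      obtain ⟨n, hn⟩ : ∃ n, Nat.find hex = n + 1 := by
        refine ⟨Nat.find hex - 1, (Nat.sub_add_cancel ?_).symm⟩
        by_contra h
        have := Nat.find_spec hex
        rw [show Nat.find hex = 0 by omega, pow_zero, pow_one] at this
        exact hgn this
      refine ⟨⟨g ^ 2 ^ n, pow_mem hg _⟩, Finset.mem_filter.2 ⟨Finset.mem_univ _, ?_⟩⟩
      have hs := Nat.find_spec hex
      rw [hn, pow_succ, pow_mul, pow_two] at hs
      rcases hzC _ hs with e | e
      · exfalso
        have hmin := Nat.find_min hex (m := n) (by omega)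
        rcases hinv _ (pow_mem hg _) e with e' | e'
        · exact hmin (by rw [e']; exact one_mem _)
        · exact hmin (by rw [e']; exact z₀.2)
      · exact e
    have hTle : T.card ≤ 14 := by
      have hsub : T ⊆ (Finset.univ.erase (1 : R)).erase ⟨z, z₀.2.1⟩ := by
        intro g hg
        have := (Finset.mem_filter.1 hg).2
        simp only [Finset.mem_erase, Finset.mem_univ, and_true]
        constructor <;> intro e <;> rw [e] at this
        · exact hz1 (this.symm.trans hz2)
        · exact hz1 (this.symm.trans (one_mul 1))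
      refine (Finset.card_le_card hsub).trans ?_
      rw [Finset.card_erase_of_mem, Finset.card_erase_of_mem (Finset.mem_univ _), Finset.card_univ,
        ← Nat.card_eq_fintype_card, h16]
      simp only [Finset.mem_erase, Finset.mem_univ, and_true]
      exact fun e => hz1 (congrArg Subtype.val e)
    have hT14 : T.card = 14 := by
      have := Finset.card_pos.2 hTne
      obtain ⟨c7, e7⟩ := hT7
      obtain ⟨c2, e2⟩ := hT2
      omega
    have hall : ∀ g ∈ R, g ≠ 1 → g ≠ z → g * g = z := by
      intro g hg h1 h2'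
      by_contra h
      let F3 : Finset R := {1, ⟨z, z₀.2.1⟩, ⟨g, hg⟩}
      have hF3 : F3.card = 3 := by
        refine Finset.card_eq_three.2 ⟨_, _, _, ?_, ?_, ?_, rfl⟩ <;> intro e
        · exact hz1 (congrArg Subtype.val e).symm
        · exact h1 (congrArg Subtype.val e).symm
        · exact h2' (congrArg Subtype.val e).symm
      have hd : Disjoint T F3 := by
        refine Finset.disjoint_left.2 fun a ha ha' => ?_
        have := (Finset.mem_filter.1 ha).2
        simp only [F3, Finset.mem_insert, Finset.mem_singleton] at ha'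
        rcases ha' with rfl | rfl | rfl
        · exact hz1 (this.symm.trans (one_mul 1))
        · exact hz1 (this.symm.trans hz2)
        · exact h this
      have := Finset.card_le_univ (T ∪ F3)
      rw [Finset.card_union_of_disjoint hd, hF3, hT14, ← Nat.card_eq_fintype_card, h16] at this
      omega
    have hanti : ∀ g ∈ R, ∀ k ∈ R, g ∉ C → k ∉ C → g * k ∉ C → k * g = g * k * z := by
      intro g hg k hk hgC hkC hgkC
      have hsq : ∀ y ∈ R, y ∉ C → y * y = z := fun y hy hyC => hall y hy
        (fun e => hyC (e ▸ one_mem _)) (fun e => hyC (e ▸ z₀.2))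
      have e1 := hsq g hg hgC
      have e2 := hsq k hk hkC
      have e3 := hsq _ (mul_mem hg hk) hgkC
      calc k * g = g⁻¹ * ((g * k) * (g * k)) * k⁻¹ := by group
        _ = g⁻¹ * (g * g) * k⁻¹ := by rw [e3, e1]
        _ = g * (k⁻¹ * (k * k) * z) := by
            rw [e2, mul_assoc k⁻¹ z z, hz2, mul_one, inv_mul_cancel_left]
        _ = g * k * z := by group
    have hout : ∀ S : Finset Q, S.card < 16 → ∃ g ∈ R, g ∉ S := by
      intro S hS
      by_contra hc
      push Not at hc
      have : Nat.card R ≤ Nat.card S := Nat.card_le_card_of_injective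
        (fun g => (⟨g, hc g g.2⟩ : S)) fun a b e => Subtype.ext (congrArg Subtype.val e :)
      rw [Nat.card_eq_finsetCard, h16] at this
      omega
    have h8le : ∀ a b c d e f g h : Q, ({a, b, c, d, e, f, g, h} : Finset Q).card ≤ 8 := by
      intros; repeat' first | exact Finset.card_singleton _ |>.le | refine (Finset.card_insert_le _ _).trans (Nat.add_le_add_right ?_ 1)
    obtain ⟨x, hx, hxC⟩ : ∃ x ∈ R, x ∉ C := by
      obtain ⟨x, hx, hxS⟩ := hout {1, z} (lt_of_le_of_lt Finset.card_le_two (by norm_num))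
      exact ⟨x, hx, fun h => hxS (by rcases hzC x h with rfl | rfl <;> simp)⟩
    obtain ⟨y, hy, hyS⟩ := hout {1, z, x, x * z}
      (lt_of_le_of_lt Finset.card_le_four (by norm_num))
    obtain ⟨t, hts, htS⟩ := hout {1, z, x, x * z, y, y * z, x * y, x * y * z}
      (lt_of_le_of_lt (h8le _ _ _ _ _ _ _ _) (by norm_num))
    simp only [Finset.mem_insert, Finset.mem_singleton, not_or] at hyS htS
    obtain ⟨hy1, hy2, hy3, hy4⟩ := hyS
    obtain ⟨ht1, ht2, ht3, ht4, ht5, ht6, ht7, ht8⟩ := htS
    have hnC : ∀ g : Q, g ≠ 1 → g ≠ z → g ∉ C := fun g h1 h2' h => (hzC g h).elim h1 h2'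
    have hkey : ∀ a ∈ R, a * a = z → ∀ g, g ≠ a → g ≠ a * z → a * g ∉ C := by
      intro a _ ha g h1 h2' h
      rcases hzC _ h with e | e
      · refine h2' ?_
        rw [eq_inv_of_mul_eq_one_right e]
        exact inv_eq_of_mul_eq_one_right (by rw [← mul_assoc, ha, hz2])
      · exact h1 (mul_left_cancel (e.trans ha.symm))
    have hsqx := hall x hx (fun e => hxC (e ▸ one_mem _)) (fun e => hxC (e ▸ z₀.2))
    have hxy : x * y ∉ C := hkey x hx hsqx y hy3 hy4
    have hsqy := hall y hy hy1 hy2
    have hsqxy := hall (x * y) (mul_mem hx hy) (fun e => hxy (e ▸ one_mem _)) (fun e => hxy (e ▸ z₀.2))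
    have a1 := hanti x hx t hts hxC (hnC t ht1 ht2) (hkey x hx hsqx t ht3 ht4)
    have a2 := hanti y hy t hts (hnC y hy1 hy2) (hnC t ht1 ht2) (hkey y hy hsqy t ht5 ht6)
    have a3 := hanti (x * y) (mul_mem hx hy) t hts hxy (hnC t ht1 ht2)
      (hkey (x * y) (mul_mem hx hy) hsqxy t ht7 ht8)
    have a4 : t * (x * y) = x * y * t := by
      calc t * (x * y) = t * x * y := (mul_assoc _ _ _).symm
        _ = x * t * (z * y) := by rw [a1, mul_assoc]
        _ = x * (t * y) * z := by rw [← hzcen y]; simp only [mul_assoc]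
        _ = x * (y * t) * (z * z) := by rw [a2]; simp only [mul_assoc]
        _ = x * y * t := by rw [hz2, mul_one, mul_assoc]
    exact hz1 (mul_eq_left.1 (a3.symm.trans a4))

include hρ ht hstab in
theorem linear_good [Group.IsSolvable Q] :
    HasNormalPComplement q Q ∧ ∀ P : Sylow q Q, IsMulCommutative (P : Subgroup Q) := by
  have hcp := Lib.SolvLinear.card_eq_pow (q := q) (V := V)
  rcases S3360.result q inferInstance ρ hρ ht with ⟨F, i1, i2, e, he⟩ | hc
  · exact @semilinear_good q _ V _ _ _ _ Q _ _ ρ hρ F i1 i2 e he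
  · have hpos : 0 < Module.finrank (ZMod q) V := Module.finrank_pos
    have hroot : ∀ r : ℕ, r.Prime → Nat.card V = r ^ 2 →
        q = r ∧ Module.finrank (ZMod q) V = 2 := by
      intro r hr h
      have hd : q ∣ r ^ 2 := by rw [← h, hcp]; exact dvd_pow_self q hpos.ne'
      obtain rfl : q = r := (Nat.prime_dvd_prime_iff_eq hq.out hr).1 (hq.out.dvd_of_dvd_pow hd)
      exact ⟨rfl, Nat.pow_right_injective hq.out.two_le (hcp.symm.trans h)⟩
    by_cases h81 : Nat.card V = 81
    · have hd : q ∣ 3 ^ 4 := by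
        rw [show (3 : ℕ) ^ 4 = Nat.card V by rw [h81]; rfl, hcp]; exact dvd_pow_self q hpos.ne'
      obtain rfl : q = 3 := (Nat.prime_dvd_prime_iff_eq hq.out Nat.prime_three).1 (hq.out.dvd_of_dvd_pow hd)
      have h4 : Module.finrank (ZMod 3) V = 4 :=
        Nat.pow_right_injective (le_refl 2 |>.trans (by norm_num)) (hcp.symm.trans (h81.trans rfl))
      rcases Lib.SolvLinear.semilinear_or_three_four hρ ht (by omega) with hs | ⟨-, -, h32⟩
      · obtain ⟨F, i1, i2, e, he⟩ := hs.exists_field ht
        exact @semilinear_good 3 _ V _ _ _ _ Q _ _ ρ hρ F i1 i2 e he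
      · exfalso
        obtain ⟨v, hv⟩ := exists_ne (0 : V)
        obtain ⟨U, -, hU, hc2⟩ := card_orbit hρ ht hstab hv
        obtain ⟨i, hi⟩ := IsPGroup.iff_card.1 hU
        rw [hc2, h81, hi] at h32
        have hco : Nat.Coprime 32 (3 ^ i) := Nat.Coprime.pow_right i (by norm_num)
        exact absurd (hco.dvd_of_dvd_mul_right h32) (by norm_num)
    · simp only [Set.mem_insert_iff, Set.mem_singleton_iff, h81, or_false] at hc
      have key : ∃ r : ℕ, r ∈ [3, 5, 7, 11, 23] ∧ r.Prime ∧ Nat.card V = r ^ 2 := by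
        rcases hc with h | h | h | h | h
        exacts [⟨3, by simp, by norm_num, h⟩, ⟨5, by simp, by norm_num, h⟩, ⟨7, by simp, by norm_num, h⟩,
          ⟨11, by simp, by norm_num, h⟩, ⟨23, by simp, by norm_num, h⟩]
      obtain ⟨r, hr5, hr, h⟩ := key
      obtain ⟨rfl, -⟩ := hroot r hr h
      exact plane_good hρ ht hstab h hr5

end Linear


/-- Let G be a finite solvable group of order greater than 2 with an irreducible character nonzero on exactly two conjugacy classes. Then there is exactly one prime p with O_p(G) ≠ 1, and the quotient G/O_p(G) has a normal p-complement and commutative Sylow p-subgroups. -/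
theorem result {G : Type*} [Group G] [Finite G] [hs : Group.IsSolvable G] (hG : 2 < Nat.card G) (χ : Cfsg.IrrCharacter G) (hχ : Nat.card {C : ConjClasses G // ∃ g ∈ C.carrier, (χ : G → ℂ) g ≠ 0} = 2) :
    ∃ p : ℕ, p.Prime ∧ (∀ q : ℕ, q.Prime → (Cfsg.pCore q G ≠ ⊥ ↔ q = p)) ∧
      Cfsg.HasNormalPComplement p (G ⧸ Cfsg.pCore p G) ∧ ∀ Q : Sylow p (G ⧸ Cfsg.pCore p G), IsMulCommutative (Q : Subgroup (G ⧸ Cfsg.pCore p G)) := by
  classical
  obtain ⟨D⟩ := Lib.Gagola.nonempty_data (χ := χ) ⟨hG, hχ⟩
  haveI := D.normal_N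
  obtain ⟨p, hp, -, hcomm, hpow⟩ := D.exists_prime
  haveI := Fact.mk hp
  have hNp : IsPGroup p D.N := fun a => ⟨1, Subtype.ext (by simpa using hpow a a.2)⟩
  haveI : (pCore p G).Normal := by
    haveI := Lib.PSolvable.pCore_characteristic (p := p) (G := G)
    exact Subgroup.normal_of_characteristic _
  have hNle : D.N ≤ pCore p G := Lib.PSolvable.le_pCore hNp
  have hcne : pCore p G ≠ ⊥ := fun h => D.N_ne_bot (le_bot_iff.1 (h ▸ hNle))
  have hker : Subgroup.centralizer (D.N : Set G) = pCore p G := by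
    refine le_antisymm (Lib.PSolvable.le_pCore ((D.centralizer_pgroup hp hNp).to_le
      (Subgroup.centralizer_le (by simpa using D.x_mem)))) ?_
    let Z : Subgroup G := pCore p G ⊓ Subgroup.centralizer (pCore p G : Set G)
    haveI : Z.Normal := inferInstanceAs
      (pCore p G ⊓ Subgroup.centralizer (pCore p G : Set G)).Normal
    haveI : Nontrivial (pCore p G) := (pCore p G).nontrivial_iff_ne_bot.2 hcne
    have hpg : IsPGroup p (pCore p G) := Lib.PSolvable.pCore_isPGroup
    obtain ⟨z, hz, hz1⟩ := (Subgroup.nontrivial_iff_exists_ne_one _).1 hpg.center_nontrivial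
    have hZ : Z ≠ ⊥ := by
      intro h
      have : (z : G) ∈ Z := ⟨z.2, Subgroup.mem_centralizer_iff.2 fun y hy =>
        congrArg Subtype.val (Subgroup.mem_center_iff.1 hz ⟨y, hy⟩)⟩
      rw [h, Subgroup.mem_bot] at this
      exact hz1 (Subtype.ext this)
    have hNZ := D.minimal Z hZ
    intro y hy
    exact Subgroup.mem_centralizer_iff.2 fun n hn =>
      (Subgroup.mem_centralizer_iff.1 (hNZ hn).2 y hy).symm
  refine ⟨p, hp, fun q hq => ⟨fun hne => ?_, fun h => h ▸ hcne⟩, ?_⟩
  · by_contra hqp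
    haveI := Fact.mk hq
    haveI : (pCore q G).Normal := by
      haveI := Lib.PSolvable.pCore_characteristic (p := q) (G := G)
      exact Subgroup.normal_of_characteristic _
    have h1 : IsPGroup q D.N := Lib.PSolvable.pCore_isPGroup.to_le (D.minimal _ hne)
    obtain ⟨a, ha⟩ := IsPGroup.iff_orderOf.1 h1 ⟨D.x, D.x_mem⟩
    obtain ⟨b, hb⟩ := IsPGroup.iff_orderOf.1 hNp ⟨D.x, D.x_mem⟩
    rw [hb] at ha
    have hb0 : b ≠ 0 := fun h0 => D.x_ne (by
      rw [h0, pow_zero] at hb
      exact congrArg Subtype.val (orderOf_eq_one_iff.1 hb))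
    exact hqp ((Nat.prime_dvd_prime_iff_eq hp hq).1
      (hp.dvd_of_dvd_pow (ha ▸ dvd_pow_self p hb0))).symm
  -- the linear action
  haveI := hcomm
  haveI : Nontrivial D.N := D.N.nontrivial_iff_ne_bot.2 D.N_ne_bot
  have hp0 : ∀ a : Additive D.N, p • a = 0 := fun a => by
    apply Additive.toMul.injective
    rw [toMul_nsmul, toMul_zero]
    exact Subtype.ext (hpow _ (Additive.toMul a).2)
  have hmod : Module (ZMod p) (Additive D.N) := AddCommGroup.zmodModule hp0
  let cm : G → (Additive D.N ≃ₗ[ZMod p] Additive D.N) := fun g =>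
    { AddMonoidHom.toZModLinearMap p (MonoidHom.toAdditive (MulAut.conjNormal (H := D.N) g).toMonoidHom) with
      invFun := fun v => Additive.ofMul ((MulAut.conjNormal (H := D.N) g).symm (Additive.toMul v))
      left_inv := fun v => congrArg Additive.ofMul ((MulAut.conjNormal (H := D.N) g).symm_apply_apply _)
      right_inv := fun v => congrArg Additive.ofMul ((MulAut.conjNormal (H := D.N) g).apply_symm_apply _) }
  have hcm : ∀ (g : G) (v : Additive D.N), ((Additive.toMul (cm g v) : D.N) : G) = g * (Additive.toMul v : D.N) * g⁻¹ :=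
    fun g v => MulAut.conjNormal_apply g _
  have hexti : ∀ {v w : Additive D.N},
      ((Additive.toMul v : D.N) : G) = (Additive.toMul w : D.N) → v = w :=
    fun h => Additive.toMul.injective (Subtype.ext h)
  let ρ₀ : G →* (Additive D.N ≃ₗ[ZMod p] Additive D.N) := MonoidHom.mk' cm fun g h =>
    LinearEquiv.ext fun v => hexti (by
      show _ = ((Additive.toMul (cm g (cm h v)) : D.N) : G)
      rw [hcm, hcm, hcm]; group)
  have hρ₀ : ρ₀.ker = pCore p G := by
    rw [← hker]
    ext g
    rw [MonoidHom.mem_ker, Subgroup.mem_centralizer_iff]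
    constructor
    · intro h n hn
      have := hcm g (Additive.ofMul ⟨n, hn⟩)
      rw [show cm g = 1 from h] at this
      change n = g * n * g⁻¹ at this
      exact eq_mul_inv_iff_mul_eq.1 this
    · intro h
      refine LinearEquiv.ext fun v => hexti ?_
      show ((Additive.toMul (cm g v) : D.N) : G) = _
      rw [hcm, ← h _ (Additive.toMul v).2, mul_inv_cancel_right]
      rfl
  let ρ := QuotientGroup.lift (pCore p G) ρ₀ hρ₀.ge
  have hρ : Function.Injective ρ := by
    rw [injective_iff_map_eq_one]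
    intro x hx
    induction x using QuotientGroup.induction_on with
    | _ g => exact (QuotientGroup.eq_one_iff g).2 (hρ₀ ▸ hx)
  haveI : Group.IsSolvable (G ⧸ pCore p G) :=
    Group.isSolvable_of_surjective (QuotientGroup.mk'_surjective _)
  have hne : ∀ {v : Additive D.N}, v ≠ 0 → ((Additive.toMul v : D.N) : G) ≠ 1 := fun hv h =>
    hv (hexti (h.trans rfl))
  refine linear_good (ρ := ρ) hρ ?_ ?_
  · intro v w hv hw
    obtain ⟨g, hg⟩ := D.conj_N (Additive.toMul v).2 (Additive.toMul w).2 (hne hv) (hne hw)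
    exact ⟨(g : G ⧸ pCore p G), hexti ((hcm g v).trans hg)⟩
  · intro v hv x hx
    induction x using QuotientGroup.induction_on with
    | _ g =>
      have h1 := hcm g v
      rw [show cm g v = v from hx] at h1
      obtain ⟨P, hP⟩ := D.centralizer_sylow hNp (Additive.toMul v).2 (hne hv)
      have hgP : g ∈ (P : Subgroup G) := by
        rw [← hP, Subgroup.mem_centralizer_singleton_iff]
        exact eq_mul_inv_iff_mul_eq.1 h1 |>.symm
      obtain ⟨k, hk⟩ := IsPGroup.iff_orderOf.1 P.2 ⟨g, hgP⟩
      rw [Subgroup.orderOf_mk] at hk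
      obtain ⟨i, -, hi⟩ := (Nat.dvd_prime_pow hp).1
        (hk ▸ orderOf_map_dvd (QuotientGroup.mk' (pCore p G)) g)
      exact ⟨i, hi⟩

end Cfsg.Agent.S4840
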