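import Cfsg.Statements.S4843
import Cfsg.Agent.Lib.Clifford.Correspondence
import Cfsg.Agent.Lib.Clifford.Basic
import Cfsg.Agent.Lib.Chars.Ops
import Cfsg.Agent.Lib.Chars.Induced
import Cfsg.Agent.Lib.PowMap.Basic
import Cfsg.Agent.Lib.Components.GenFitting
import Mathlib

set_option autoImplicit false
open Cfsg

namespace Cfsg.Agent.S4843

open Cfsg.Agent.Lib
open scoped Classical ComplexConjugate

variable {G : Type*} [Group G]

theorem classInner_eq_avg_sq [Fintype G] (f : G → ℂ) (h1 : f 1 ≠ 0) :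
    (Nat.card G : ℂ)⁻¹ * ∑ g : G, f g * conj (f g) ≠ 0 := by
  refine mul_ne_zero (inv_ne_zero Chars.natCard_ne_zero) ?_
  simp only [Complex.mul_conj, ← Complex.ofReal_sum, ne_eq, Complex.ofReal_eq_zero]
  rw [Finset.sum_eq_zero_iff_of_nonneg (fun g _ => Complex.normSq_nonneg _)]
  exact fun h => h1 (Complex.normSq_eq_zero.1 (h 1 (Finset.mem_univ 1)))

/-- If the inner product is one, no nontrivial constituent is shared. -/
theorem no_common [Fintype G] (χ : Cfsg.IrrCharacter G) {k : ℕ} (hk : k.Coprime (Nat.card G))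
    (hirr : Cfsg.IsIrrCharacter G (fun g => (χ : G → ℂ) g * (χ : G → ℂ) (g ^ k)))
    (ρ : Cfsg.IrrCharacter G) (hρ : ρ ≠ Chars.trivialIrr G)
    (h1 : Cfsg.classInner (fun g => (χ : G → ℂ) g * conj ((χ : G → ℂ) g)) (ρ : G → ℂ) ≠ 0)
    (h2 : Cfsg.classInner (fun g => (χ : G → ℂ) (g ^ k) * conj ((χ : G → ℂ) (g ^ k)))
      (ρ : G → ℂ) ≠ 0) : False := by
  set θ₁ : G → ℂ := fun g => (χ : G → ℂ) g * conj ((χ : G → ℂ) g) with hθ₁
  set θ₂ : G → ℂ := fun g => (χ : G → ℂ) (g ^ k) * conj ((χ : G → ℂ) (g ^ k)) with hθ₂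
  have hc1 : Cfsg.IsCharacter G θ₁ :=
    Chars.isCharacter_mul (Chars.irr_isCharacter χ) (Chars.isCharacter_star (Chars.irr_isCharacter χ))
  have hc2 : Cfsg.IsCharacter G θ₂ :=
    Chars.isCharacter_mul (Chars.irr_isCharacter (PowMap.powIrr hk χ))
      (Chars.isCharacter_star (Chars.irr_isCharacter (PowMap.powIrr hk χ)))
  obtain ⟨a, ha⟩ := Chars.isCharacter_exists_nat_decomp hc1
  obtain ⟨b, hb⟩ := Chars.isCharacter_exists_nat_decomp hc2
  have ha' : ∀ ψ : Cfsg.IrrCharacter G, Cfsg.classInner θ₁ (ψ : G → ℂ) = a ψ := fun ψ => by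
    rw [ha, Chars.classInner_sum_smul_irr]
  have hb' : ∀ ψ : Cfsg.IrrCharacter G, Cfsg.classInner θ₂ (ψ : G → ℂ) = b ψ := fun ψ => by
    rw [hb, Chars.classInner_sum_smul_irr]
  have hone : Cfsg.classInner θ₁ θ₂ = 1 := by
    have h := Chars.classInner_irr_self (⟨_, hirr⟩ : Cfsg.IrrCharacter G)
    rw [← h]
    simp only [Cfsg.classInner, θ₁, θ₂, map_mul, Complex.conj_conj]
    congr 1
    exact Finset.sum_congr rfl fun g _ => by ring
  have htriv : ∀ ψ : Cfsg.IrrCharacter G,
      Cfsg.classInner (fun g => (ψ : G → ℂ) g * conj ((ψ : G → ℂ) g))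
        (Chars.trivialIrr G : G → ℂ) = 1 := fun ψ => by
    rw [← Chars.classInner_irr_self ψ]
    simp [Cfsg.classInner]
  have a1 : a (Chars.trivialIrr G) = 1 := by
    have h := ha' (Chars.trivialIrr G)
    rw [hθ₁, htriv] at h
    exact_mod_cast h.symm
  have b1 : b (Chars.trivialIrr G) = 1 := by
    have h := hb' (Chars.trivialIrr G)
    have h' := htriv (PowMap.powIrr hk χ)
    simp only [PowMap.powIrr_apply] at h'
    rw [hθ₂, h'] at h
    exact_mod_cast h.symm
  have hρa : a ρ ≠ 0 := fun h => h1 (by rw [ha', h, Nat.cast_zero])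
  have hρb : b ρ ≠ 0 := fun h => h2 (by rw [hb', h, Nat.cast_zero])
  rw [ha, hb, Chars.classInner_sum_smul_sum_smul] at hone
  simp only [Complex.conj_natCast] at hone
  have hsum : ∑ ψ, a ψ * b ψ = 1 := by exact_mod_cast hone
  have := Finset.add_le_sum (f := fun ψ => a ψ * b ψ) (fun _ _ => Nat.zero_le _)
    (Finset.mem_univ ρ) (Finset.mem_univ (Chars.trivialIrr G)) hρ
  rw [hsum, a1, b1] at this
  exact Nat.mul_ne_zero hρa hρb (by omega)

/-- Abelian normal subgroups are central. -/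
theorem abelian_le_center [Fintype G] (χ : Cfsg.IrrCharacter G)
    (hfaith : ∀ g : G, (χ : G → ℂ) g = (χ : G → ℂ) 1 → g = 1) {k : ℕ}
    (hk : k.Coprime (Nat.card G))
    (hirr : Cfsg.IsIrrCharacter G (fun g => (χ : G → ℂ) g * (χ : G → ℂ) (g ^ k)))
    (A : Subgroup G) [A.Normal] [IsMulCommutative A] : A ≤ Subgroup.center G := by
  haveI := Fintype.ofFinite A
  obtain ⟨m, hm⟩ := Chars.isCharacter_exists_nat_decomp
    (Chars.isCharacter_restrict A (Chars.irr_isCharacter χ))
  obtain ⟨θ, hθ⟩ : ∃ θ : Cfsg.IrrCharacter A,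
      Cfsg.classInner (Clifford.resFun A (χ : G → ℂ)) (θ : A → ℂ) ≠ 0 := by
    by_contra! h
    have hz : ∀ θ, m θ = 0 := fun θ => by
      have h' := h θ
      rw [show Clifford.resFun A (χ : G → ℂ) = _ from hm, Chars.classInner_sum_smul_irr,
        Nat.cast_eq_zero] at h'
      exact h'
    refine Chars.irr_apply_one_ne_zero χ ?_
    have := congrFun hm 1
    simpa [hz] using this
  let T : Subgroup G :=
    { carrier := {g | Clifford.conjFun g (θ : A → ℂ) = θ}
      one_mem' := funext fun n => congrArg (θ : A → ℂ) (Subtype.ext (by simp))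
      mul_mem' := fun {a b} ha hb => funext fun n => by
        rw [← congrFun hb n]
        show (θ : A → ℂ) _ = (θ : A → ℂ) _
        conv_rhs => rw [← congrFun ha ⟨b * n * b⁻¹, (inferInstance : A.Normal).conj_mem _ n.2 b⟩]
        exact congrArg (θ : A → ℂ) (Subtype.ext (by group))
      inv_mem' := fun {a} ha => funext fun n => by
        show (θ : A → ℂ) _ = _
        rw [← congrFun ha ⟨a⁻¹ * n * a⁻¹⁻¹, (inferInstance : A.Normal).conj_mem _ n.2 a⁻¹⟩]
        exact congrArg (θ : A → ℂ) (Subtype.ext (by group)) }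
  have hTmem : ∀ g, g ∈ T ↔ Clifford.conjFun g (θ : A → ℂ) = θ := fun _ => Iff.rfl
  obtain ⟨l, hl⟩ := Chars.exists_hom_of_degree_one (Chars.irr_isCharacter θ)
    (Chars.irr_apply_one_of_comm θ)
  by_cases hT : T = ⊤
  · have hres := Clifford.resFun_eq_smul_of_invariant χ.2 θ.2 hθ
      fun g => (hTmem g).1 (hT ▸ Subgroup.mem_top g)
    intro a ha
    rw [Subgroup.mem_center_iff]
    intro g
    have hmem : g * a * g⁻¹ * a⁻¹ ∈ A :=
      A.mul_mem ((inferInstance : A.Normal).conj_mem a ha g) (A.inv_mem ha)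
    have h1 : (θ : A → ℂ) ⟨g * a * g⁻¹ * a⁻¹, hmem⟩ = 1 := by
      have h2 : (θ : A → ℂ) ⟨g * a * g⁻¹, (inferInstance : A.Normal).conj_mem a ha g⟩ =
          (θ : A → ℂ) ⟨a, ha⟩ := congrFun ((hTmem g).1 (hT ▸ Subgroup.mem_top g)) ⟨a, ha⟩
      simp only [hl] at h2 ⊢
      rw [show (⟨g * a * g⁻¹ * a⁻¹, hmem⟩ : A) =
          ⟨g * a * g⁻¹, (inferInstance : A.Normal).conj_mem a ha g⟩ * ⟨a, ha⟩⁻¹ from rfl, map_mul,
        map_inv, Units.val_mul, h2, ← Units.val_mul, mul_inv_cancel, Units.val_one]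
    have h3 := congrFun hres ⟨g * a * g⁻¹ * a⁻¹, hmem⟩
    have h4 := congrFun hres 1
    rw [Pi.smul_apply, h1] at h3
    rw [Pi.smul_apply, show (θ : A → ℂ) 1 = 1 from Chars.irr_apply_one_of_comm θ] at h4
    have := hfaith _ (h3.trans h4.symm)
    rw [mul_inv_eq_one, mul_inv_eq_iff_eq_mul] at this
    exact this
  · exfalso
    haveI := Fintype.ofFinite T
    have hAT : A ≤ T := fun a ha => funext fun n => congrArg (θ : A → ℂ) (Subtype.ext (by
      have := congrArg Subtype.val (mul_comm' (⟨a, ha⟩ : A) n)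
      simp only [Subgroup.coe_mul] at this
      exact mul_inv_eq_iff_eq_mul.2 this))
    obtain ⟨ψ, hψ, hind, hψθ⟩ := Clifford.exists_clifford_correspondent θ.2 hTmem hAT χ.2 hθ
    let ψ₀ : Cfsg.IrrCharacter T := ⟨ψ, hψ⟩
    have hne : T.index ≠ 1 := fun h => hT (Subgroup.index_eq_one.1 h)
    -- a nontrivial constituent of the permutation character
    obtain ⟨n, hn⟩ := Chars.isCharacter_exists_nat_decomp
      (Chars.isCharacter_indFun T (Chars.irr_isCharacter (Chars.trivialIrr T)))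
    have hn' : ∀ φ : Cfsg.IrrCharacter G,
        Cfsg.classInner (fun t : T => (1 : ℂ)) (fun t : T => (φ : G → ℂ) t) = n φ := fun φ => by
      rw [← Chars.classInner_indFun_left T (fun _ : T => (1 : ℂ)) _ (Chars.irr_isClassFunction φ)]
      show Cfsg.classInner (Cfsg.indFun T (Chars.trivialIrr T : T → ℂ)) _ = _
      rw [hn, Chars.classInner_sum_smul_irr]
    have hn1 : n (Chars.trivialIrr G) = 1 := by
      have h := hn' (Chars.trivialIrr G)
      rw [show Cfsg.classInner (fun _ : T => (1 : ℂ)) (fun t : T => (Chars.trivialIrr G : G → ℂ) t) = 1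
        from Chars.classInner_irr_self (Chars.trivialIrr T)] at h
      exact_mod_cast h.symm
    obtain ⟨ρ', hρ', hnρ⟩ : ∃ ρ', ρ' ≠ Chars.trivialIrr G ∧ n ρ' ≠ 0 := by
      by_contra! h
      have h1 := congrFun hn 1
      rw [Finset.sum_apply, Finset.sum_eq_single (Chars.trivialIrr G)
        (fun φ _ hφ => by simp [h φ hφ]) (by simp), Chars.indFun_one_eq] at h1
      simp [hn1] at h1
      exact hne (Subgroup.index_eq_one.2 h1)
    -- constituents of the permutation character lie in `χ χ̄`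
    have key : ∀ φ : Cfsg.IrrCharacter G, n φ ≠ 0 →
        Cfsg.classInner (fun g => (χ : G → ℂ) g * conj ((χ : G → ℂ) g)) (φ : G → ℂ) ≠ 0 := by
      intro φ hφ
      have hswap : Cfsg.classInner (fun g => (χ : G → ℂ) g * conj ((χ : G → ℂ) g)) (φ : G → ℂ) =
          Cfsg.classInner (fun g => (χ : G → ℂ) g * conj ((φ : G → ℂ) g)) (χ : G → ℂ) := by
        simp only [Cfsg.classInner]
        congr 1
        exact Finset.sum_congr rfl fun g _ => by ring
      have hcf : Cfsg.IsClassFunction G (fun g => (χ : G → ℂ) g * conj ((φ : G → ℂ) g)) :=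
        Chars.isClassFunction_of_isCharacter (Chars.isCharacter_mul (Chars.irr_isCharacter χ)
          (Chars.isCharacter_star (Chars.irr_isCharacter φ)))
      rw [hswap, show (χ : G → ℂ) = Cfsg.indFun T ψ from hind.symm,
        Chars.classInner_indFun_right T ψ _ (by rwa [hind]), hind]
      obtain ⟨c, hc⟩ := Chars.isCharacter_exists_nat_decomp
        (Chars.isCharacter_restrict T (Chars.irr_isCharacter φ))
      have hc1 : (c (Chars.trivialIrr T) : ℂ) = n φ := by
        have h := hn' φ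
        rw [← Chars.conj_classInner, hc] at h
        rw [show (fun _ : T => (1 : ℂ)) = (Chars.trivialIrr T : T → ℂ) from rfl,
          Chars.classInner_sum_smul_irr, Complex.conj_natCast] at h
        exact h
      have hdec : (fun t : T => (χ : G → ℂ) t * conj ((φ : G → ℂ) t)) =
          ∑ δ : Cfsg.IrrCharacter T, (c δ : ℂ) • fun t : T => (χ : G → ℂ) t * conj ((δ : T → ℂ) t) := by
        funext t
        have := congrFun hc t
        simp only [Finset.sum_apply, Pi.smul_apply, smul_eq_mul] at this ⊢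
        rw [this, map_sum, Finset.mul_sum]
        exact Finset.sum_congr rfl fun δ _ => by rw [map_mul, Complex.conj_natCast]; ring
      rw [hdec, Chars.classInner_sum_left]
      have hnat : ∀ δ : Cfsg.IrrCharacter T, ∃ j : ℕ, Cfsg.classInner
          (fun t : T => (χ : G → ℂ) t * conj ((δ : T → ℂ) t)) ψ = j := fun δ =>
        Chars.isCharacter_classInner_nat (Chars.isCharacter_mul
          (Chars.isCharacter_restrict T (Chars.irr_isCharacter χ))
          (Chars.isCharacter_star (Chars.irr_isCharacter δ))) (Chars.irr_isCharacter ψ₀)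
      choose j hj using hnat
      simp only [Chars.classInner_smul_left, hj]
      have hj1 : j (Chars.trivialIrr T) ≠ 0 := by
        intro h0
        have h := hj (Chars.trivialIrr T)
        rw [h0, Nat.cast_zero] at h
        simp only [Chars.trivialIrr_apply, map_one, mul_one] at h
        have h' := Chars.conj_classInner (fun t : T => (χ : G → ℂ) t) ψ
        rw [h, map_zero] at h'
        have h2 := Chars.classInner_indFun_left T ψ (χ : G → ℂ) (Chars.irr_isClassFunction χ)
        rw [hind, Chars.classInner_irr_self, ← h'] at h2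
        exact one_ne_zero h2
      rw [← Nat.cast_ne_zero (R := ℂ)] at hφ
      have hpos : (∑ δ : Cfsg.IrrCharacter T, c δ * j δ) ≠ 0 := by
        refine (Nat.lt_of_lt_of_le (Nat.pos_of_ne_zero (Nat.mul_ne_zero ?_ hj1))
          (Finset.single_le_sum (f := fun δ => c δ * j δ) (fun _ _ => Nat.zero_le _)
            (Finset.mem_univ (Chars.trivialIrr T)))).ne'
        intro h0
        exact hφ (by rw [← hc1, h0, Nat.cast_zero])
      exact_mod_cast hpos
    refine no_common χ hk hirr (PowMap.powIrr hk ρ') ?_ (key _ ?_) ?_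
    · intro h
      apply hρ'
      refine PowMap.powIrr_injective hk (h.trans ?_)
      exact Subtype.ext (funext fun g => by simp)
    · intro h0
      have h := hn' (PowMap.powIrr hk ρ')
      rw [h0, Nat.cast_zero] at h
      refine hnρ ?_
      have h2 := hn' ρ'
      rw [← Nat.cast_eq_zero (R := ℂ), ← h2, ← h]
      simp only [Cfsg.classInner, PowMap.powIrr_apply]
      congr 1
      have hkT : k.Coprime (Nat.card T) := hk.coprime_dvd_right (Subgroup.card_subgroup_dvd_card T)
      exact (Fintype.sum_bijective _ (PowMap.bijective_pow hkT) _ _ fun t => by simp).symm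
    · have h := key ρ' hnρ
      convert h using 1
      simp only [Cfsg.classInner, PowMap.powIrr_apply]
      congr 1
      exact Fintype.sum_bijective _ (PowMap.bijective_pow hk) _ _ fun g => rfl

/-- Normal nilpotent subgroups are central. -/
theorem nilpotent_le_center [Fintype G] (χ : Cfsg.IrrCharacter G)
    (hfaith : ∀ g : G, (χ : G → ℂ) g = (χ : G → ℂ) 1 → g = 1) {k : ℕ}
    (hk : k.Coprime (Nat.card G))
    (hirr : Cfsg.IsIrrCharacter G (fun g => (χ : G → ℂ) g * (χ : G → ℂ) (g ^ k))) :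
    ∀ (N : Subgroup G), N.Normal → Group.IsNilpotent N → N ≤ Subgroup.center G := by
  intro N
  induction N using WellFoundedLT.induction with
  | ind N ih =>
    intro hN hnil
    rcases eq_or_ne N ⊥ with rfl | hbot
    · exact bot_le
    haveI := hN
    haveI := hnil
    have hlt : ⁅N, N⁆ < N := by
      haveI : Nontrivial N := (Subgroup.nontrivial_iff_ne_bot N).2 hbot
      have h := Group.IsSolvable.commutator_lt_top_of_nontrivial (G := N)
      have h2 := (Subgroup.map_lt_map_iff_of_injective N.subtype_injective).2 h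
      rw [Subgroup.map_subtype_commutator, ← MonoidHom.range_eq_map, Subgroup.range_subtype] at h2
      exact h2
    have hDcen : ⁅N, N⁆ ≤ Subgroup.center G := ih _ hlt inferInstance
      (Group.nilpotent_of_mulEquiv (Subgroup.subgroupOfEquivOfLe hlt.le))
    have hcomm : ∀ a ∈ N, ∀ b ∈ N, a * b * a⁻¹ * b⁻¹ ∈ Subgroup.center G := fun a ha b hb =>
      hDcen (Subgroup.commutator_mem_commutator ha hb)
    intro x hx
    let C : Subgroup G := N ⊓ Subgroup.centralizer (N : Set G)
    have hC : C ≤ Subgroup.center G := by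
      haveI : C.Normal := ⟨fun c hc g => ⟨hN.conj_mem c hc.1 g,
        Subgroup.mem_centralizer_iff.2 fun a ha => by
          have ha' : g⁻¹ * a * g ∈ N := by simpa using hN.conj_mem a ha g⁻¹
          have h3 := Subgroup.mem_centralizer_iff.1 hc.2 _ ha'
          calc a * (g * c * g⁻¹) = g * ((g⁻¹ * a * g) * c) * g⁻¹ := by group
            _ = g * (c * (g⁻¹ * a * g)) * g⁻¹ := by rw [h3]
            _ = g * c * g⁻¹ * a := by group⟩⟩
      haveI : IsMulCommutative C := ⟨⟨fun a b => Subtype.ext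
        (Subgroup.mem_centralizer_iff.1 b.2.2 a a.2.1)⟩⟩
      exact abelian_le_center χ hfaith hk hirr C
    by_contra hxc
    -- the central character
    obtain ⟨d, ρ, hρ, hρc⟩ := χ.2
    haveI := hρ
    have hscal : ∀ z : Subgroup.center G, ∃ c : ℂ, ρ (z : G) = c • 1 := fun z =>
      Clifford.schur_scalar ρ _ fun g => by
        rw [← map_mul, ← map_mul, (Subgroup.mem_center_iff.1 z.2 g)]
    choose ω hω using hscal
    have hωχ : ∀ (z : Subgroup.center G) (g : G), (χ : G → ℂ) (z * g) = ω z * (χ : G → ℂ) g := by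
      intro z g
      rw [← hρc]
      simp only [Representation.character, map_mul, hω, smul_mul_assoc, one_mul, map_smul,
        smul_eq_mul]
    have hωinj : ∀ z : Subgroup.center G, ω z = 1 → z = 1 := fun z h => Subtype.ext (hfaith _ (by
      have := hωχ z 1; rw [h, one_mul, mul_one] at this; exact this))
    have hχ1 := Chars.irr_apply_one_ne_zero χ
    let Ω : Subgroup.center G →* ℂ :=
      { toFun := ω
        map_one' := by
          have := hωχ 1 1
          rw [Subgroup.coe_one, one_mul] at this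
          exact mul_right_cancel₀ hχ1 (by rw [← this, one_mul])
        map_mul' := fun a b => mul_right_cancel₀ hχ1 (by
          rw [← hωχ, Subgroup.coe_mul, mul_assoc, hωχ, hωχ, mul_assoc]) }
    -- the stabilizer of the coset
    let T : Subgroup G :=
      { carrier := {g | g * x * g⁻¹ * x⁻¹ ∈ Subgroup.center G}
        one_mem' := by simp
        mul_mem' := fun {a b} ha hb => by
          show a * b * x * (a * b)⁻¹ * x⁻¹ ∈ Subgroup.center G
          have h3 : a * (b * x * b⁻¹ * x⁻¹) = (b * x * b⁻¹ * x⁻¹) * a :=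
            Subgroup.mem_center_iff.1 hb a
          have : a * b * x * (a * b)⁻¹ * x⁻¹ = (b * x * b⁻¹ * x⁻¹) * (a * x * a⁻¹ * x⁻¹) := by
            rw [show a * b * x * (a * b)⁻¹ * x⁻¹ =
              (a * (b * x * b⁻¹ * x⁻¹)) * x * a⁻¹ * x⁻¹ by group, h3]
            group
          rw [this]
          exact Subgroup.mul_mem _ hb ha
        inv_mem' := fun {a} ha => by
          show a⁻¹ * x * a⁻¹⁻¹ * x⁻¹ ∈ Subgroup.center G
          have ha' : a * x * a⁻¹ * x⁻¹ ∈ Subgroup.center G := ha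
          have h := Subgroup.inv_mem _ ha'
          have h3 := Subgroup.mem_center_iff.1 h a⁻¹
          have : a⁻¹ * x * a⁻¹⁻¹ * x⁻¹ = (a * x * a⁻¹ * x⁻¹)⁻¹ := by
            calc a⁻¹ * x * a⁻¹⁻¹ * x⁻¹ = (a⁻¹ * (a * x * a⁻¹ * x⁻¹)⁻¹) * a := by group
              _ = ((a * x * a⁻¹ * x⁻¹)⁻¹ * a⁻¹) * a := by rw [h3]
              _ = (a * x * a⁻¹ * x⁻¹)⁻¹ := inv_mul_cancel_right _ _
          rw [this]; exact h }
    haveI := Fintype.ofFinite T
    haveI := Fintype.ofFinite N
    have hNT : N ≤ T := fun a ha => hcomm a ha x hx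
    let c : T →* Subgroup.center G :=
      { toFun := fun t => ⟨(t : G) * x * (t : G)⁻¹ * x⁻¹, t.2⟩
        map_one' := Subtype.ext (by simp)
        map_mul' := fun a b => Subtype.ext (by
          simp only [Subgroup.coe_mul]
          have h3 : (a : G) * (b * x * (b : G)⁻¹ * x⁻¹) = (b * x * (b : G)⁻¹ * x⁻¹) * a :=
            Subgroup.mem_center_iff.1 b.2 a
          have h4 := Subgroup.mem_center_iff.1 a.2 (b * x * (b : G)⁻¹ * x⁻¹)
          rw [show (a : G) * b * x * ((a : G) * b)⁻¹ * x⁻¹ =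
            ((a : G) * (b * x * (b : G)⁻¹ * x⁻¹)) * x * (a : G)⁻¹ * x⁻¹ by group, h3, ← h4]
          group) }
    let ℓ : T →* ℂˣ := (Ω.comp c).toHomUnits
    have hℓ : ∀ t : T, (ℓ t : ℂ) = ω (c t) := fun t => rfl
    -- on the stabilizer the character vanishes off the kernel
    have hvan : ∀ t : T, (χ : G → ℂ) t ≠ 0 → ℓ t = 1 := by
      intro t ht
      have h1 : (χ : G → ℂ) (x⁻¹ * t * x) = ω (c t) * (χ : G → ℂ) t := by
        rw [← hωχ]
        refine congrArg (χ : G → ℂ) ?_
        have h3 : x⁻¹ * ((c t : G)) = (c t : G) * x⁻¹ := Subgroup.mem_center_iff.1 (c t).2 x⁻¹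
        show x⁻¹ * t * x = ((t : G) * x * (t : G)⁻¹ * x⁻¹) * t
        replace h3 : x⁻¹ * ((t : G) * x * (t : G)⁻¹ * x⁻¹) = ((t : G) * x * (t : G)⁻¹ * x⁻¹) * x⁻¹ := h3
        calc x⁻¹ * t * x = (x⁻¹ * ((t : G) * x * (t : G)⁻¹ * x⁻¹)) * x * t := by group
          _ = (((t : G) * x * (t : G)⁻¹ * x⁻¹) * x⁻¹) * x * t := by rw [h3]
          _ = _ := by rw [inv_mul_cancel_right]
      have h2 : (χ : G → ℂ) (x⁻¹ * t * x) = (χ : G → ℂ) t := by
        have := Chars.irr_isClassFunction χ (t : G) x⁻¹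
        rwa [inv_inv] at this
      rw [h2] at h1
      refine Units.ext ((hℓ t).trans ?_)
      rw [Units.val_one]
      exact mul_right_cancel₀ ht (by rw [one_mul]; exact h1.symm)
    let ν : N →* ℂˣ := ℓ.comp (Subgroup.inclusion hNT)
    have hinert : ∀ g, g ∈ T ↔
        Clifford.conjFun g (fun a : N => (ν a : ℂ)) = fun a : N => (ν a : ℂ) := by
      intro g
      constructor
      · intro hg
        funext a
        show (ℓ ⟨g * a * g⁻¹, _⟩ : ℂ) = (ℓ ⟨(a : G), hNT a.2⟩ : ℂ)
        rw [show (⟨g * a * g⁻¹, hNT (hN.conj_mem (a : G) a.2 g)⟩ : T) =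
          ⟨g, hg⟩ * ⟨(a : G), hNT a.2⟩ * ⟨g, hg⟩⁻¹ from rfl, map_mul, map_mul, map_inv, mul_comm (ℓ ⟨g, hg⟩),
          mul_inv_cancel_right]
      · intro hg
        have hxg : g⁻¹ * x * g ∈ N := by simpa using hN.conj_mem x hx g⁻¹
        have hu : x⁻¹ * (g⁻¹ * x * g) ∈ C := by
          refine ⟨N.mul_mem (N.inv_mem hx) hxg, Subgroup.mem_centralizer_iff.2 fun a ha => ?_⟩
          have h1 : ω (c ⟨g * a * g⁻¹, hNT (hN.conj_mem a ha g)⟩) = ω (c ⟨a, hNT ha⟩) :=
            congrFun hg ⟨a, ha⟩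
          have h2 : Ω (c ⟨g * a * g⁻¹, hNT (hN.conj_mem a ha g)⟩ * (c ⟨a, hNT ha⟩)⁻¹) = 1 := by
            rw [map_mul, show Ω (c ⟨g * a * g⁻¹, hNT (hN.conj_mem a ha g)⟩) = Ω (c ⟨a, hNT ha⟩) from h1,
              ← map_mul, mul_inv_cancel, map_one]
          have h3 : g * a * g⁻¹ * x * (g * a * g⁻¹)⁻¹ * x⁻¹ = a * x * a⁻¹ * x⁻¹ :=
            congrArg Subtype.val (mul_inv_eq_one.1 (hωinj _ h2))
          have hz := hcomm a ha x hx
          have h5 : g⁻¹ * (a * x * a⁻¹ * x⁻¹) * g = a * x * a⁻¹ * x⁻¹ := by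
            rw [Subgroup.mem_center_iff.1 hz g⁻¹, inv_mul_cancel_right]
          have h4 : a * (g⁻¹ * x * g) * a⁻¹ * (g⁻¹ * x * g)⁻¹ = a * x * a⁻¹ * x⁻¹ := by
            rw [← h5, ← h3]; group
          have h6 : a * (g⁻¹ * x * g) * a⁻¹ = (a * x * a⁻¹ * x⁻¹) * (g⁻¹ * x * g) :=
            mul_inv_eq_iff_eq_mul.1 h4
          have h7 : a * x⁻¹ * a⁻¹ = x⁻¹ * (a * x * a⁻¹ * x⁻¹)⁻¹ := by group
          calc a * (x⁻¹ * (g⁻¹ * x * g))
              = (a * x⁻¹ * a⁻¹) * (a * (g⁻¹ * x * g) * a⁻¹) * a := by group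
            _ = (x⁻¹ * (a * x * a⁻¹ * x⁻¹)⁻¹) * ((a * x * a⁻¹ * x⁻¹) * (g⁻¹ * x * g)) * a := by
              rw [h6, h7]
            _ = x⁻¹ * (g⁻¹ * x * g) * a := by group
        have h8 := hC hu
        show g * x * g⁻¹ * x⁻¹ ∈ Subgroup.center G
        have h9 : g * (x⁻¹ * (g⁻¹ * x * g))⁻¹ = (x⁻¹ * (g⁻¹ * x * g))⁻¹ * g :=
          Subgroup.mem_center_iff.1 (Subgroup.inv_mem _ h8) g
        have h10 : g * x * g⁻¹ * x⁻¹ = x * (x⁻¹ * (g⁻¹ * x * g))⁻¹ * x⁻¹ := by
          calc g * x * g⁻¹ * x⁻¹ = g * ((g⁻¹ * x * g) * (x⁻¹ * (g⁻¹ * x * g))⁻¹) * g⁻¹ * x⁻¹ := by group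
            _ = (g * (g⁻¹ * x * g)) * (((x⁻¹ * (g⁻¹ * x * g))⁻¹) * g⁻¹) * x⁻¹ := by group
            _ = x * (g * (x⁻¹ * (g⁻¹ * x * g))⁻¹) * g⁻¹ * x⁻¹ := by group
            _ = x * ((x⁻¹ * (g⁻¹ * x * g))⁻¹ * g) * g⁻¹ * x⁻¹ := by rw [h9]
            _ = x * (x⁻¹ * (g⁻¹ * x * g))⁻¹ * x⁻¹ := by group
        rw [h10, Subgroup.mem_center_iff.1 (Subgroup.inv_mem _ h8) x, mul_inv_cancel_right]
        exact Subgroup.inv_mem _ h8
    let R : Cfsg.IrrCharacter G := ⟨Cfsg.indFun T (fun t : T => (ℓ t : ℂ)),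
      Clifford.isIrrCharacter_indFun_inertia (Chars.isIrrCharacter_of_hom ν) hinert hNT
        (Chars.isIrrCharacter_of_hom ℓ) (by
          rw [show Clifford.resTo hNT (fun t : T => (ℓ t : ℂ)) = fun a : N => (ν a : ℂ) from rfl]
          exact (Chars.classInner_irr_self (Chars.linIrr ν)).symm ▸ one_ne_zero)⟩
    have hpos : ∀ (f : G → ℂ), Cfsg.IsClassFunction G (fun g => f g * conj (f g)) → f 1 ≠ 0 →
        (∀ t : T, f t ≠ 0 → ℓ t = 1) →
        Cfsg.classInner (fun g => f g * conj (f g)) (R : G → ℂ) ≠ 0 := by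
      intro f hcf hf1 hf
      rw [show (R : G → ℂ) = Cfsg.indFun T (fun t : T => (ℓ t : ℂ)) from rfl,
        Chars.classInner_indFun_right T _ _ hcf]
      refine fun h => classInner_eq_avg_sq (fun t : T => f t) hf1 (Eq.trans ?_ h)
      simp only [Cfsg.classInner]
      congr 1
      refine Finset.sum_congr rfl fun t _ => ?_
      by_cases h0 : f t = 0
      · simp [h0]
      · simp [hf t h0]
    refine no_common χ hk hirr R ?_ (hpos _ ?_ hχ1 hvan) (hpos (fun g => (χ : G → ℂ) (g ^ k)) ?_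
      (by simpa using hχ1) ?_)
    · intro hR
      refine hxc (hC ⟨hx, Subgroup.mem_centralizer_iff.2 fun a ha => ?_⟩)
      by_contra hne
      have hν : ℓ ⟨a, hNT ha⟩ ≠ 1 := by
        intro h1
        have := congrArg Subtype.val (hωinj _ (congrArg Units.val h1))
        exact hne (mul_inv_eq_iff_eq_mul.1 (mul_inv_eq_one.1 this))
      have h2 := Chars.classInner_indFun_left T (fun t : T => (ℓ t : ℂ))
        (Chars.trivialIrr G : G → ℂ) (Chars.irr_isClassFunction _)
      rw [show Cfsg.indFun T (fun t : T => (ℓ t : ℂ)) = (R : G → ℂ) from rfl, hR,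
        Chars.classInner_irr_self] at h2
      have h3 : Cfsg.classInner (Chars.linIrr ℓ : T → ℂ) (Chars.trivialIrr T : T → ℂ) = 0 :=
        Chars.classInner_irr_of_ne fun h => hν (Units.ext (congrFun (congrArg Subtype.val h) _))
      exact one_ne_zero (h2.trans h3)
    · exact Chars.isClassFunction_of_isCharacter (Chars.isCharacter_mul (Chars.irr_isCharacter χ)
        (Chars.isCharacter_star (Chars.irr_isCharacter χ)))
    · exact Chars.isClassFunction_of_isCharacter
        (Chars.isCharacter_mul (Chars.irr_isCharacter (PowMap.powIrr hk χ))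
          (Chars.isCharacter_star (Chars.irr_isCharacter (PowMap.powIrr hk χ))))
    · intro t ht
      have h1 := hvan (t ^ k) (by simpa using ht)
      rw [map_pow] at h1
      have hd : orderOf (ℓ t) ∣ Nat.card G :=
        (orderOf_map_dvd ℓ t).trans ((orderOf_dvd_natCard t).trans (Subgroup.card_subgroup_dvd_card T))
      exact orderOf_eq_one_iff.1 (Nat.eq_one_of_dvd_coprimes hk (orderOf_dvd_of_pow_eq_one h1) hd)

/-- Let G be a finite group with a faithful irreducible character χ (taking the value χ(1) only at the identity) and let k be prime to the order of G, so that g ↦ χ(g^k) is a Galois conjugate of χ. If the pointwise product g ↦ χ(g)·χ(g^k) is again an irreducible character, then the Fitting subgroup of G equals its centre. -/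
theorem result {G : Type*} [Group G] [Finite G] (χ : Cfsg.IrrCharacter G) (hfaith : ∀ g : G, (χ : G → ℂ) g = (χ : G → ℂ) 1 → g = 1) (k : ℕ) (hk : Nat.Coprime k (Nat.card G)) (hirr : Cfsg.IsIrrCharacter G (fun g => (χ : G → ℂ) g * (χ : G → ℂ) (g ^ k))) : Cfsg.fittingSubgroup G = Subgroup.center G := by
  haveI := Fintype.ofFinite G
  refine le_antisymm (nilpotent_le_center χ hfaith hk hirr _
    Lib.Components.fittingSubgroup_normal Lib.Components.fittingSubgroup_isNilpotent) ?_
  refine Lib.Components.le_fittingSubgroup inferInstance ?_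
  exact @CommGroup.isNilpotent _ { (inferInstance : Group (Subgroup.center G)) with
    mul_comm := fun a b => Subtype.ext (Subgroup.mem_center_iff.1 b.2 a) }

end Cfsg.Agent.S4843
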