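import Cfsg.Statements.S4845
import Cfsg.Agent.Lib.Chars.Ops
import Cfsg.Agent.Lib.Chars.Induced
import Cfsg.Agent.Lib.Clifford.Basic
import Cfsg.Agent.Lib.PLemmas.NormalSeries
import Mathlib

set_option autoImplicit false
open Cfsg

namespace Cfsg.Agent.S4845

open Cfsg.Agent.Lib
open scoped Classical ComplexConjugate commutatorElement

universe u

/-- The Galois-conjugacy hypothesis. -/
def Hyp (P : Type u) [Group P] : Prop :=
  ∀ χ ψ : Cfsg.IrrCharacter P, Cfsg.charDegree (χ : P → ℂ) ≠ 1 →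
    Cfsg.charDegree (χ : P → ℂ) = Cfsg.charDegree (ψ : P → ℂ) →
    ∃ k : ℕ, Nat.Coprime k (Nat.card P) ∧ ∀ g : P, (ψ : P → ℂ) g = (χ : P → ℂ) (g ^ k)

variable {G : Type u} [Group G] [Finite G]

theorem apply_one (χ : Cfsg.IrrCharacter G) :
    (χ : G → ℂ) 1 = (Cfsg.charDegree (χ : G → ℂ) : ℂ) := by
  obtain ⟨d, -, hd⟩ := Chars.isIrrCharacter_exists_degree_pos χ.2
  rw [Cfsg.charDegree, hd, Complex.natCast_re, Nat.floor_natCast]

theorem exists_scalar (χ : Cfsg.IrrCharacter G) {z : G} (hz : z ∈ Subgroup.center G) :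
    ∃ c : ℂ, ∀ h : G, (χ : G → ℂ) (z * h) = c * (χ : G → ℂ) h := by
  obtain ⟨n, ρ, hρ, hχ⟩ := χ.2
  haveI := hρ
  obtain ⟨c, hc⟩ := Clifford.schur_scalar ρ (ρ z) fun g => by
    rw [← map_mul, ← map_mul, Subgroup.mem_center_iff.1 hz g]
  exact ⟨c, fun h => by
    rw [← hχ]
    simp only [Representation.character, map_mul, hc, smul_mul_assoc, one_mul, map_smul, smul_eq_mul]⟩

theorem vanish (χ : Cfsg.IrrCharacter G) {x g : G}
    (hz : g * x * g⁻¹ * x⁻¹ ∈ Subgroup.center G)
    (hne : (χ : G → ℂ) (g * x * g⁻¹ * x⁻¹) ≠ (χ : G → ℂ) 1) : (χ : G → ℂ) x = 0 := by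
  obtain ⟨c, hc⟩ := exists_scalar χ hz
  have h1 := hc x
  rw [inv_mul_cancel_right, Chars.irr_isClassFunction χ x g] at h1
  by_contra h0
  refine hne ?_
  have h2 := hc 1
  rw [mul_one, mul_right_cancel₀ h0 ((h1.symm.trans (one_mul _).symm) : c * _ = 1 * _), one_mul] at h2
  exact h2

theorem degree_sq_of_vanish (χ : Cfsg.IrrCharacter G)
    (hv : ∀ x, x ∉ Subgroup.center G → (χ : G → ℂ) x = 0) :
    Cfsg.charDegree (χ : G → ℂ) ^ 2 = (Subgroup.center G).index := by
  haveI := Fintype.ofFinite G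
  haveI := Fintype.ofFinite (Subgroup.center G)
  have h1 := Chars.classInner_irr_self χ
  have hterm : ∀ z : Subgroup.center G,
      (χ : G → ℂ) z * conj ((χ : G → ℂ) z) = (χ : G → ℂ) 1 ^ 2 := by
    intro z
    obtain ⟨c, hc⟩ := exists_scalar χ z.2
    obtain ⟨c', hc'⟩ := exists_scalar χ (z⁻¹).2
    rw [← Chars.irr_inv]
    have e1 := hc ((z⁻¹ : Subgroup.center G) : G)
    have e2 := hc' 1
    have e3 := hc 1
    rw [Subgroup.coe_inv, mul_inv_cancel] at e1
    rw [mul_one, Subgroup.coe_inv] at e2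
    rw [mul_one] at e3
    rw [e3, e2, sq]
    linear_combination -((χ : G → ℂ) 1) * c * e2 - ((χ : G → ℂ) 1) * e1
  have h2 : ∑ g : G, (χ : G → ℂ) g * conj ((χ : G → ℂ) g) =
      (Nat.card (Subgroup.center G) : ℂ) * (χ : G → ℂ) 1 ^ 2 := by
    rw [← Finset.sum_subset (Finset.subset_univ (Finset.univ.filter (· ∈ Subgroup.center G)))
        (fun g _ hg => by rw [hv g (fun h => hg (Finset.mem_filter.2 ⟨Finset.mem_univ _, h⟩)), zero_mul]),
      Finset.sum_subtype (p := fun g => g ∈ Subgroup.center G) _ (by simp)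
        (fun g => (χ : G → ℂ) g * conj ((χ : G → ℂ) g)),
      Finset.sum_congr rfl (fun z _ => hterm z), Finset.sum_const, Finset.card_univ, nsmul_eq_mul,
      Nat.card_eq_fintype_card]
  rw [Cfsg.classInner, h2, ← (Subgroup.center G).card_mul_index, apply_one, inv_mul_eq_one₀
    (by exact_mod_cast (Nat.mul_pos Nat.card_pos
      (Nat.pos_of_ne_zero Subgroup.index_ne_zero_of_finite)).ne')] at h1
  have h3 : Nat.card (Subgroup.center G) * (Subgroup.center G).index =
      Nat.card (Subgroup.center G) * Cfsg.charDegree (χ : G → ℂ) ^ 2 := by exact_mod_cast h1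
  exact (Nat.eq_of_mul_eq_mul_left Nat.card_pos h3).symm

/-- A nonlinear character is nontrivial somewhere on the derived group. -/
theorem exists_ne_of_nonlinear (χ : Cfsg.IrrCharacter G) (h : Cfsg.charDegree (χ : G → ℂ) ≠ 1) :
    ∃ z ∈ commutator G, (χ : G → ℂ) z ≠ (χ : G → ℂ) 1 := by
  by_contra! hker
  obtain ⟨ψ, hψ⟩ := Chars.exists_irr_quotient (commutator G) χ hker
  haveI : IsMulCommutative (G ⧸ commutator G) :=
    ⟨⟨fun a b => Abelianization.commGroup G |>.mul_comm a b⟩⟩
  have := Chars.irr_apply_one_of_comm ψ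
  rw [← QuotientGroup.mk_one, hψ, apply_one] at this
  exact h (by exact_mod_cast this)

theorem linear_ker {z : G} (hz : z ∈ commutator G) (χ : Cfsg.IrrCharacter G)
    (h : Cfsg.charDegree (χ : G → ℂ) = 1) : (χ : G → ℂ) z = (χ : G → ℂ) 1 := by
  obtain ⟨f, hf⟩ := Chars.exists_hom_of_degree_one (Chars.irr_isCharacter χ)
    (by rw [apply_one, h, Nat.cast_one])
  rw [hf]
  simp [MonoidHom.mem_ker.1 (Abelianization.commutator_subset_ker f hz)]

theorem exists_nonlinear {z : G} (hz : z ∈ commutator G) (hz1 : z ≠ 1) :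
    ∃ χ : Cfsg.IrrCharacter G, Cfsg.charDegree (χ : G → ℂ) ≠ 1 ∧ (χ : G → ℂ) z ≠ (χ : G → ℂ) 1 := by
  haveI := Fintype.ofFinite G
  by_contra! h
  refine hz1 (isConj_one_left.1 (Chars.isConj_iff_irr.2 fun χ => ?_))
  by_cases hd : Cfsg.charDegree (χ : G → ℂ) = 1
  · exact linear_ker hz χ hd
  · exact h χ hd

/-- In a `p`-group with derived group of order `p`. -/
theorem derived_prime {p : ℕ} [Fact p.Prime] (hG : IsPGroup p G)
    (hc : Nat.card (commutator G) = p) :
    commutator G ≤ Subgroup.center G ∧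
      ∀ χ : Cfsg.IrrCharacter G, Cfsg.charDegree (χ : G → ℂ) ≠ 1 →
        (∀ z ∈ commutator G, z ≠ 1 → (χ : G → ℂ) z ≠ (χ : G → ℂ) 1) ∧
        (∀ x, x ∉ Subgroup.center G → (χ : G → ℂ) x = 0) ∧
        Cfsg.charDegree (χ : G → ℂ) ^ 2 = (Subgroup.center G).index := by
  have hp : p.Prime := Fact.out
  have hlt : (⊥ : Subgroup G) < commutator G := bot_lt_iff_ne_bot.2 fun h => by
    rw [h, Subgroup.card_bot] at hc; exact hp.ne_one hc.symm
  obtain ⟨K, -, -, hKle, hKc, hKcen⟩ := PLemmas.exists_normal_step hG hlt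
  have hKeq : K = commutator G := Subgroup.eq_of_le_of_card_ge hKle (by rw [hKc, hc]; simp)
  have hcen : commutator G ≤ Subgroup.center G := fun z hz => Subgroup.mem_center_iff.2 fun g => by
    have := hKcen g z (hKeq ▸ hz)
    rw [Subgroup.mem_bot, commutatorElement_eq_one_iff_mul_comm] at this
    exact this
  refine ⟨hcen, fun χ hχ => ?_⟩
  obtain ⟨z₀, hz₀, hne₀⟩ := exists_ne_of_nonlinear χ hχ
  obtain ⟨n, ρ, hρ, hρc⟩ := χ.2
  let Kr : Subgroup (commutator G) := (MonoidHom.ker ρ).subgroupOf (commutator G)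
  have hiff : ∀ z : commutator G, z ∈ Kr ↔ (χ : G → ℂ) z = (χ : G → ℂ) 1 := fun z => by
    rw [Subgroup.mem_subgroupOf, MonoidHom.mem_ker, Chars.rep_eq_one_iff, hρc]
  haveI : Fact (Nat.card (commutator G)).Prime := ⟨hc.symm ▸ hp⟩
  have hKr : Kr = ⊥ := (Kr.eq_bot_or_eq_top_of_prime_card).resolve_right fun h => hne₀
    ((hiff ⟨z₀, hz₀⟩).1 (h ▸ Subgroup.mem_top _))
  have h1 : ∀ z ∈ commutator G, z ≠ 1 → (χ : G → ℂ) z ≠ (χ : G → ℂ) 1 := fun z hz hz1 he => by
    have h2 := (hiff ⟨z, hz⟩).2 he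
    rw [hKr, Subgroup.mem_bot] at h2
    exact hz1 (congrArg Subtype.val h2)
  have h2 : ∀ x, x ∉ Subgroup.center G → (χ : G → ℂ) x = 0 := fun x hx => by
    rw [Subgroup.mem_center_iff, not_forall] at hx
    obtain ⟨g, hg⟩ := hx
    have hz : g * x * g⁻¹ * x⁻¹ ∈ commutator G :=
      Subgroup.commutator_mem_commutator (Subgroup.mem_top g) (Subgroup.mem_top x)
    exact vanish χ (hcen hz) (h1 _ hz fun h => hg (commutatorElement_eq_one_iff_mul_comm.1 h))
  exact ⟨h1, h2, degree_sq_of_vanish χ h2⟩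

theorem pow_mem_ker_iff (χ : Cfsg.IrrCharacter G) {k : ℕ} (hk : Nat.Coprime k (Nat.card G)) (g : G) :
    (χ : G → ℂ) (g ^ k) = (χ : G → ℂ) 1 ↔ (χ : G → ℂ) g = (χ : G → ℂ) 1 := by
  obtain ⟨n, ρ, hρ, hρc⟩ := χ.2
  rw [← hρc, ← Chars.rep_eq_one_iff, ← Chars.rep_eq_one_iff]
  refine ⟨fun h => ?_, fun h => by rw [map_pow, h, one_pow]⟩
  have h1 : g ^ k ∈ MonoidHom.ker ρ := h
  have h2 : g ∈ Subgroup.zpowers (g ^ k) :=
    mem_zpowers_pow_iff.2 ((hk.coprime_dvd_right (orderOf_dvd_natCard g)).gcd_eq_one)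
  exact MonoidHom.mem_ker.1 (Subgroup.zpowers_le.2 h1 h2)

theorem ker_le_commutator (hH : Hyp G) (χ : Cfsg.IrrCharacter G)
    (hd : Cfsg.charDegree (χ : G → ℂ) ≠ 1) {g : G} (hg : (χ : G → ℂ) g = (χ : G → ℂ) 1) :
    g ∈ commutator G := by
  haveI := Fintype.ofFinite G
  rw [← QuotientGroup.eq_one_iff]
  by_contra hne
  letI : CommGroup (G ⧸ commutator G) := Abelianization.commGroup G
  obtain ⟨φ, hφ⟩ := CommGroup.exists_apply_ne_one_of_hasEnoughRootsOfUnity (G ⧸ commutator G) ℂ hne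
  let f : G →* ℂˣ := φ.comp (QuotientGroup.mk' (commutator G))
  let ψ : Cfsg.IrrCharacter G := ⟨fun x => (f x : ℂ) * (χ : G → ℂ) x,
    Chars.isIrrCharacter_hom_mul f χ.2⟩
  have hψ1 : (ψ : G → ℂ) 1 = (χ : G → ℂ) 1 := by simp [ψ]
  obtain ⟨k, hk, hkψ⟩ := hH χ ψ hd (by unfold Cfsg.charDegree; rw [hψ1])
  have h1 := (hkψ g).trans ((pow_mem_ker_iff χ hk g).2 hg)
  refine hφ (Units.ext ?_)
  have h2 : (f g : ℂ) * (χ : G → ℂ) g = (χ : G → ℂ) 1 := h1
  rw [hg] at h2
  rw [Units.val_one]
  exact mul_right_cancel₀ (Chars.irr_apply_one_ne_zero χ) (h2.trans (one_mul _).symm)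

theorem center_cyclic {p : ℕ} [Fact p.Prime] (hG : IsPGroup p G)
    (hc : Nat.card (commutator G) = p) (hH : Hyp G) : IsCyclic (Subgroup.center G) := by
  have hne : commutator G ≠ ⊥ := fun h => by
    rw [h, Subgroup.card_bot] at hc; exact (Fact.out : p.Prime).ne_one hc.symm
  obtain ⟨z, hz, hz1⟩ := (commutator G).bot_or_exists_ne_one.resolve_left hne
  obtain ⟨χ, hχ, -⟩ := exists_nonlinear hz hz1
  have hw := fun z : Subgroup.center G => exists_scalar χ z.2
  choose ω hω using hw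
  have h1 := Chars.irr_apply_one_ne_zero χ
  let Ω : Subgroup.center G →* ℂ :=
    { toFun := ω
      map_one' := by
        have := hω 1 1
        rw [Subgroup.coe_one, one_mul] at this
        exact mul_right_cancel₀ h1 (by rw [← this, one_mul])
      map_mul' := fun a b => mul_right_cancel₀ h1 (by
        rw [← hω, Subgroup.coe_mul, mul_assoc, hω, hω, mul_assoc]) }
  refine isCyclic_of_subgroup_isDomain Ω ((injective_iff_map_eq_one Ω).2 fun a ha => ?_)
  have hker : (χ : G → ℂ) (a : G) = (χ : G → ℂ) 1 := by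
    have := hω a 1
    rw [mul_one, show ω a = 1 from ha, one_mul] at this
    exact this
  by_contra hne1
  exact ((derived_prime hG hc).2 χ hχ).1 _ (ker_le_commutator hH χ hχ hker)
    (fun h => hne1 (Subtype.ext h)) hker

theorem degree_le_index (χ : Cfsg.IrrCharacter G) (A : Subgroup G) [IsMulCommutative A] :
    Cfsg.charDegree (χ : G → ℂ) ≤ A.index := by
  haveI := Fintype.ofFinite G
  haveI := Fintype.ofFinite A
  obtain ⟨m, hm⟩ := Chars.isCharacter_exists_nat_decomp
    (Chars.isCharacter_restrict A (Chars.irr_isCharacter χ))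
  obtain ⟨θ, hθ⟩ : ∃ θ, m θ ≠ 0 := by
    by_contra! h
    refine Chars.irr_apply_one_ne_zero χ ?_
    have := congrFun hm 1
    simpa [h] using this
  obtain ⟨n, hn⟩ := Chars.isCharacter_exists_nat_decomp
    (Chars.isCharacter_indFun A (Chars.irr_isCharacter θ))
  have hnχ : n χ ≠ 0 := by
    intro h0
    have h1 := Chars.classInner_indFun_left A (θ : A → ℂ) (χ : G → ℂ) (Chars.irr_isClassFunction χ)
    rw [hn, Chars.classInner_sum_smul_irr, h0, Nat.cast_zero, ← Chars.conj_classInner, hm,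
      Chars.classInner_sum_smul_irr, Complex.conj_natCast] at h1
    exact hθ (by exact_mod_cast h1.symm)
  have h2 := congrFun hn 1
  rw [Chars.indFun_one_eq, Chars.irr_apply_one_of_comm θ, mul_one] at h2
  simp only [Finset.sum_apply, Pi.smul_apply, smul_eq_mul, apply_one] at h2
  have h3 : A.index = ∑ φ : Cfsg.IrrCharacter G, n φ * Cfsg.charDegree (φ : G → ℂ) := by
    exact_mod_cast h2
  rw [h3]
  exact (Nat.le_mul_of_pos_left _ (Nat.pos_of_ne_zero hnχ)).trans
    (Finset.single_le_sum (f := fun φ : Cfsg.IrrCharacter G => n φ * Cfsg.charDegree (φ : G → ℂ))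
      (fun _ _ => Nat.zero_le _) (Finset.mem_univ χ))

theorem degree_sq_lt (χ : Cfsg.IrrCharacter G) (hd : Cfsg.charDegree (χ : G → ℂ) ≠ 1) :
    Cfsg.charDegree (χ : G → ℂ) ^ 2 < Nat.card G := by
  haveI := Fintype.ofFinite G
  have h := Chars.sum_degree_sq (G := G)
  simp only [apply_one] at h
  have h' : ∑ φ : Cfsg.IrrCharacter G, Cfsg.charDegree (φ : G → ℂ) ^ 2 = Nat.card G := by
    exact_mod_cast h
  have hne : χ ≠ Chars.trivialIrr G := fun e => hd (by rw [e]; simp [Cfsg.charDegree])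
  have := Finset.add_le_sum (f := fun φ : Cfsg.IrrCharacter G => Cfsg.charDegree (φ : G → ℂ) ^ 2)
    (fun _ _ => Nat.zero_le _) (Finset.mem_univ χ) (Finset.mem_univ (Chars.trivialIrr G)) hne
  rw [h', show Cfsg.charDegree (Chars.trivialIrr G : G → ℂ) = 1 by simp [Cfsg.charDegree]] at this
  omega

theorem hyp_quotient (hH : Hyp G) (L : Subgroup G) [L.Normal] : Hyp (G ⧸ L) := by
  intro χ ψ hd he
  obtain ⟨k, hk, hkψ⟩ := hH (Chars.inflate L χ) (Chars.inflate L ψ) hd he
  exact ⟨k, hk.coprime_dvd_right (Subgroup.card_quotient_dvd_card L), fun x => by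
    obtain ⟨g, rfl⟩ := QuotientGroup.mk'_surjective L x
    exact hkψ g⟩

theorem comap_commutator (L : Subgroup G) [L.Normal] (hL : L ≤ commutator G) :
    (commutator (G ⧸ L)).comap (QuotientGroup.mk' L) = commutator G := by
  rw [show commutator (G ⧸ L) = (commutator G).map (QuotientGroup.mk' L) by
    rw [commutator_def, commutator_def, Subgroup.map_commutator,
      Subgroup.map_top_of_surjective _ (QuotientGroup.mk'_surjective L)],
    Subgroup.comap_map_eq, QuotientGroup.ker_mk', sup_eq_left.2 hL]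

theorem card_commutator_quotient {p : ℕ} (L : Subgroup G) [L.Normal] (hL : L ≤ commutator G)
    (hc : Nat.card (commutator G) = p * Nat.card L) :
    Nat.card (commutator (G ⧸ L)) = p := by
  have h1 : (commutator (G ⧸ L)).index = (commutator G).index := by
    rw [← Subgroup.index_comap_of_surjective _ (QuotientGroup.mk'_surjective L), comap_commutator L hL]
  have h2 := (commutator (G ⧸ L)).card_mul_index
  rw [h1, show Nat.card (G ⧸ L) = L.index from (Subgroup.index_eq_card L).symm] at h2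
  have h3 := (commutator G).card_mul_index
  rw [hc, ← L.card_mul_index, ← h2] at h3
  have h4 : p * (Nat.card L * (commutator G).index) =
      Nat.card (commutator (G ⧸ L)) * (Nat.card L * (commutator G).index) := by
    rw [← mul_assoc, h3]; ring
  exact (Nat.eq_of_mul_eq_mul_right (Nat.mul_pos Nat.card_pos
    (Nat.pos_of_ne_zero Subgroup.index_ne_zero_of_finite)) h4).symm

theorem no_sq {p : ℕ} [Fact p.Prime] (hG : IsPGroup p G) (hH : Hyp G)
    (hc : Nat.card (commutator G) = p ^ 2) : False := by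
  haveI := Fintype.ofFinite G
  have hp : p.Prime := Fact.out
  have facts : ∀ L : Subgroup G, L.Normal → L ≤ commutator G → Nat.card L = p →
      ∃ (Z : Subgroup G) (χ : Cfsg.IrrCharacter G),
        (∀ u, u ∈ Z ↔ ∀ g, g * u * g⁻¹ * u⁻¹ ∈ L) ∧
        (∃ u ∈ Z, ∀ v ∈ Z, ∃ (i : ℤ) (l : G), l ∈ L ∧ v = u ^ i * l) ∧
        commutator G ≤ Z ∧
        Cfsg.charDegree (χ : G → ℂ) ≠ 1 ∧ Cfsg.charDegree (χ : G → ℂ) ^ 2 = Z.index ∧
        ∀ z ∈ commutator G, ((χ : G → ℂ) z = (χ : G → ℂ) 1 ↔ z ∈ L) := by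
    intro L hLn hLle hLc
    haveI := hLn
    have hR : IsPGroup p (G ⧸ L) := hG.to_quotient L
    have hRc : Nat.card (commutator (G ⧸ L)) = p :=
      card_commutator_quotient L hLle (by rw [hc, hLc, sq])
    obtain ⟨hcen, hD⟩ := derived_prime hR hRc
    have hRne : commutator (G ⧸ L) ≠ ⊥ := fun h => by
      rw [h, Subgroup.card_bot] at hRc; exact hp.ne_one hRc.symm
    obtain ⟨z, hz, hz1⟩ := (commutator (G ⧸ L)).bot_or_exists_ne_one.resolve_left hRne
    obtain ⟨ψ, hψ, -⟩ := exists_nonlinear hz hz1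
    refine ⟨(Subgroup.center (G ⧸ L)).comap (QuotientGroup.mk' L), Chars.inflate L ψ, fun u => ?_,
      ?_, ?_, hψ, ?_, fun z hz => ?_⟩
    · rw [Subgroup.mem_comap, Subgroup.mem_center_iff, (QuotientGroup.mk'_surjective L).forall]
      refine forall_congr' fun g => ?_
      rw [← QuotientGroup.eq_one_iff (N := L), ← QuotientGroup.mk'_apply L (g * u * g⁻¹ * u⁻¹)]
      simp only [map_mul, map_inv]
      rw [mul_inv_eq_one, mul_inv_eq_iff_eq_mul]
    · obtain ⟨v, hv⟩ := (center_cyclic hR hRc (hyp_quotient hH L)).exists_generator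
      obtain ⟨u, hu⟩ := QuotientGroup.mk'_surjective L (v : G ⧸ L)
      refine ⟨u, show QuotientGroup.mk' L u ∈ _ by rw [hu]; exact v.2, fun w hw => ?_⟩
      obtain ⟨i, hi⟩ := Subgroup.mem_zpowers_iff.1 (hv ⟨QuotientGroup.mk' L w, hw⟩)
      refine ⟨i, (u ^ i)⁻¹ * w, ?_, (mul_inv_cancel_left _ _).symm⟩
      rw [← QuotientGroup.eq_one_iff (N := L), ← QuotientGroup.mk'_apply L ((u ^ i)⁻¹ * w), map_mul,
        map_inv, map_zpow, hu, inv_mul_eq_one]
      exact congrArg Subtype.val hi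
    · rw [← comap_commutator L hLle]
      exact Subgroup.comap_mono hcen
    · rw [Subgroup.index_comap_of_surjective _ (QuotientGroup.mk'_surjective L)]
      exact (hD ψ hψ).2.2
    · have hzR : QuotientGroup.mk' L z ∈ commutator (G ⧸ L) := by
        rw [← Subgroup.mem_comap, comap_commutator L hLle]; exact hz
      show (ψ : G ⧸ L → ℂ) (QuotientGroup.mk' L z) = (ψ : G ⧸ L → ℂ) 1 ↔ _
      rw [← QuotientGroup.eq_one_iff (N := L)]
      refine ⟨fun h => ?_, fun h => by rw [QuotientGroup.mk'_apply, h]⟩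
      by_contra h1
      exact (hD ψ hψ).1 _ hzR h1 h
  have hcenL : ∀ L : Subgroup G, L.Normal → Nat.card L = p → L ≤ Subgroup.center G := by
    intro L hLn hLc
    haveI := hLn
    obtain ⟨K, -, -, hKle, hKc, hKcen⟩ := PLemmas.exists_normal_step hG
      (bot_lt_iff_ne_bot.2 fun h : L = ⊥ => by rw [h, Subgroup.card_bot] at hLc; exact hp.ne_one hLc.symm)
    have hKeq : K = L := Subgroup.eq_of_le_of_card_ge hKle (by rw [hKc, hLc]; simp)
    exact fun z hz => Subgroup.mem_center_iff.2 fun g => by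
      have := hKcen g z (hKeq ▸ hz)
      rw [Subgroup.mem_bot, commutatorElement_eq_one_iff_mul_comm] at this
      exact this
  obtain ⟨L, hLn, hLle, hLc⟩ := PLemmas.exists_normal_le_card_eq hG (commutator G) hc
    (show 1 ≤ 2 by norm_num)
  rw [pow_one] at hLc
  haveI := hLn
  obtain ⟨Z, χ, hZ, ⟨u, hu, hgen⟩, hGZ, hd, hdsq, hker⟩ := facts L hLn hLle hLc
  have hLcen := hcenL L hLn hLc
  have hLpow : ∀ l ∈ L, l ^ p = 1 := fun l hl => by
    have := pow_card_eq_one' (x := (⟨l, hl⟩ : L))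
    rw [hLc] at this
    exact congrArg Subtype.val this
  have hlt : L < commutator G := lt_of_le_of_ne hLle fun h => by
    rw [h, hc] at hLc; nlinarith [hp.two_le]
  -- commutators with elements of `Z` are bilinear
  let γ : G → G → G := fun g v => g * v * g⁻¹ * v⁻¹
  have hγmul : ∀ g v w, γ g w ∈ Subgroup.center G → γ g (v * w) = γ g v * γ g w := by
    intro g v w hw
    show g * (v * w) * g⁻¹ * (v * w)⁻¹ = _
    have h3 : v * γ g w = γ g w * v := Subgroup.mem_center_iff.1 hw v
    calc g * (v * w) * g⁻¹ * (v * w)⁻¹ = (g * v * g⁻¹) * γ g w * v⁻¹ := by simp only [γ]; group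
      _ = γ g v * (v * γ g w * v⁻¹) := by simp only [γ]; group
      _ = γ g v * γ g w := by rw [h3, mul_inv_cancel_right]
  have hγL : ∀ g, ∀ v ∈ Z, γ g v ∈ L := fun g v hv => (hZ v).1 hv g
  have hγl : ∀ g, ∀ l ∈ L, γ g l = 1 := fun g l hl => by
    show g * l * g⁻¹ * l⁻¹ = 1
    rw [Subgroup.mem_center_iff.1 (hLcen hl) g, mul_inv_cancel_right, mul_inv_cancel]
  have hγzpow : ∀ g, ∀ v ∈ Z, ∀ i : ℤ, γ g (v ^ i) = γ g v ^ i := by
    intro g v hv i
    have h1 : γ g (1 : G) = 1 := by simp [γ]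
    let φ : Subgroup.zpowers v →* G :=
      { toFun := fun x => γ g x
        map_one' := h1
        map_mul' := fun a b => hγmul g a b
          (hLcen (hγL g b ((Subgroup.zpowers_le.2 hv) b.2))) }
    exact map_zpow φ ⟨v, Subgroup.mem_zpowers v⟩ i
  by_cases hcentral : commutator G ≤ Subgroup.center G
  · by_cases h2 : ∃ L' : Subgroup G, L' ≤ commutator G ∧ Nat.card L' = p ∧ L' ≠ L
    · -- two subgroups of order `p`
      obtain ⟨L', hL'le, hL'c, hL'ne⟩ := h2
      haveI hL'n : L'.Normal := ⟨fun x hx g => by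
        rwa [Subgroup.mem_center_iff.1 (hcentral (hL'le hx)) g, mul_inv_cancel_right]⟩
      have hsplit : ∀ (L₁ L₂ : Subgroup G), Nat.card L₁ = p → Nat.card L₂ = p → L₁ ≠ L₂ →
          L₁ ⊓ L₂ = ⊥ := by
        intro L₁ L₂ h1 h2 hne
        by_contra hb
        have hd1 : Nat.card (L₁ ⊓ L₂ : Subgroup G) ∣ p := h1 ▸ Subgroup.card_dvd_of_le inf_le_left
        rcases (Nat.dvd_prime hp).1 hd1 with h | h
        · exact hb (Subgroup.eq_bot_of_card_eq _ h)
        · exact hne ((Subgroup.eq_of_le_of_card_ge inf_le_left (by rw [h1, h])).symm.trans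
            (Subgroup.eq_of_le_of_card_ge inf_le_right (by rw [h2, h])))
      have hbot := hsplit L L' hLc hL'c hL'ne.symm
      have hexp : ∀ v w : G, γ v w ∈ commutator G := fun v w =>
        Subgroup.commutator_mem_commutator (Subgroup.mem_top v) (Subgroup.mem_top w)
      -- the index of the centre in such a preimage is `1` or `p`
      have hsmall : ∀ (L₁ Z₁ : Subgroup G) (u₁ : G), L₁ ≤ Subgroup.center G →
          (∀ x, x ∈ Z₁ ↔ ∀ g, γ g x ∈ L₁) → Nat.card L₁ = p → u₁ ∈ Z₁ →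
          (∀ v ∈ Z₁, ∃ (i : ℤ) (l : G), l ∈ L₁ ∧ v = u₁ ^ i * l) →
          Z₁.index = (Subgroup.center G).index ∨ Z₁.index * p = (Subgroup.center G).index := by
        intro L₁ Z₁ u₁ hL₁ hZ₁ hL₁c hu₁ hgen₁
        have hup : u₁ ^ p ∈ Subgroup.center G := Subgroup.mem_center_iff.2 fun g => by
          have h1 : γ g u₁ ^ p = 1 := by
            have := pow_card_eq_one' (x := (⟨_, (hZ₁ u₁).1 hu₁ g⟩ : L₁))
            rw [hL₁c] at this
            exact congrArg Subtype.val this
          have h2 : ∀ n : ℕ, γ g (u₁ ^ n) = γ g u₁ ^ n := by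
            intro n
            induction n with
            | zero => simp [γ]
            | succ n ih => rw [pow_succ, hγmul g _ _ (hcentral (hexp _ _)), ih, pow_succ]
          have h3 : g * u₁ ^ p * g⁻¹ * (u₁ ^ p)⁻¹ = 1 := (h2 p).trans h1
          rwa [mul_inv_eq_one, mul_inv_eq_iff_eq_mul] at h3
        have hle : Subgroup.center G ≤ Z₁ := fun x hx => (hZ₁ x).2 fun g => by
          show g * x * g⁻¹ * x⁻¹ ∈ L₁
          rw [Subgroup.mem_center_iff.1 hx g, mul_inv_cancel_right, mul_inv_cancel]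
          exact L₁.one_mem
        have h4 := Subgroup.relIndex_mul_index hle
        by_cases hu : u₁ ∈ Subgroup.center G
        · left
          have : Z₁ = Subgroup.center G := le_antisymm (fun v hv => by
            obtain ⟨i, l, hl, rfl⟩ := hgen₁ v hv
            exact Subgroup.mul_mem _ (Subgroup.zpow_mem _ hu i) (hL₁ hl)) hle
          rw [this]
        · right
          rw [← h4, mul_comm]
          congr 1
          let π := QuotientGroup.mk' ((Subgroup.center G).subgroupOf Z₁)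
          have hall : ∀ x : Z₁ ⧸ (Subgroup.center G).subgroupOf Z₁,
              x ∈ Subgroup.zpowers (π ⟨u₁, hu₁⟩) := by
            intro x
            obtain ⟨⟨v, hv⟩, rfl⟩ := QuotientGroup.mk'_surjective _ x
            obtain ⟨i, l, hl, rfl⟩ := hgen₁ v hv
            refine Subgroup.mem_zpowers_iff.2 ⟨i, ?_⟩
            rw [← map_zpow]
            refine QuotientGroup.eq.2 ?_
            rw [Subgroup.mem_subgroupOf]
            simpa using hL₁ hl
          have hord : orderOf (π ⟨u₁, hu₁⟩) = p := by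
            refine orderOf_eq_prime ?_ ?_
            · rw [← map_pow]
              exact (QuotientGroup.eq_one_iff _).2 (by simpa [Subgroup.mem_subgroupOf] using hup)
            · exact fun h => hu (by simpa [Subgroup.mem_subgroupOf] using (QuotientGroup.eq_one_iff _).1 h)
          show p = ((Subgroup.center G).subgroupOf Z₁).index
          rw [Subgroup.index_eq_card, ← hord, orderOf_eq_card_of_forall_mem_zpowers hall]
      obtain ⟨Z', χ', hZ', ⟨u', hu', hgen'⟩, -, -, hdsq', hker'⟩ := facts L' hL'n hL'le hL'c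
      have hA := hsmall L Z u hLcen hZ hLc hu hgen
      have hB := hsmall L' Z' u' (hL'le.trans hcentral) hZ' hL'c hu' hgen'
      have hnsq : ∀ a b : ℕ, 0 < a → a ^ 2 * p = b ^ 2 → False := by
        intro a b ha h
        have := congrArg (fun n => n.factorization p) h
        simp only [Nat.factorization_mul (pow_ne_zero 2 ha.ne') hp.ne_zero, Nat.factorization_pow,
          Finsupp.add_apply, Finsupp.smul_apply, hp.factorization_self, smul_eq_mul] at this
        omega
      have hpos : ∀ {a : ℕ} {H : Subgroup G}, a ^ 2 = H.index → 0 < a := fun {a H} h =>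
        Nat.pos_of_ne_zero fun h0 => Subgroup.index_ne_zero_of_finite (H := H) (by rw [← h, h0]; rfl)
      have heq : Z.index = Z'.index := by
        rcases hA with hA | hA <;> rcases hB with hB | hB
        · omega
        · exfalso; exact hnsq (Cfsg.charDegree (χ' : G → ℂ)) (Cfsg.charDegree (χ : G → ℂ)) (hpos hdsq') (by rw [hdsq', hdsq, hA, hB])
        · exfalso; exact hnsq (Cfsg.charDegree (χ : G → ℂ)) (Cfsg.charDegree (χ' : G → ℂ)) (hpos hdsq) (by rw [hdsq, hdsq', hA, hB])
        · exact Nat.eq_of_mul_eq_mul_right hp.pos (hA.trans hB.symm)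
      have hdeq : Cfsg.charDegree (χ : G → ℂ) = Cfsg.charDegree (χ' : G → ℂ) :=
        Nat.pow_left_injective (show 2 ≠ 0 by norm_num) (hdsq.trans (heq.trans hdsq'.symm))
      obtain ⟨k, hk, hkχ⟩ := hH χ χ' hd hdeq
      refine hL'ne ((Subgroup.eq_of_le_of_card_ge (fun z hz => ?_) (by rw [hLc, hL'c])))
      have h1 := (hker' z (hL'le hz)).2 hz
      rw [hkχ z, hkχ 1, one_pow, pow_mem_ker_iff χ hk] at h1
      exact (hker z (hL'le hz)).1 h1
    · -- cyclic derived subgroup of order `p ^ 2`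
      push Not at h2
      obtain ⟨x, y, hxy⟩ : ∃ x y : G, γ x y ∉ L := by
        by_contra! h
        refine hlt.not_ge ?_
        rw [commutator_def, Subgroup.commutator_le]
        exact fun a _ b _ => h a b
      have hmem : ∀ a b : G, γ a b ∈ commutator G := fun a b =>
        Subgroup.commutator_mem_commutator (Subgroup.mem_top a) (Subgroup.mem_top b)
      have hpow : ∀ z ∈ commutator G, z ^ p ∈ L := by
        intro z hz
        have h1 : (z ^ p) ^ p = 1 := by
          rw [← pow_mul, ← sq, ← hc]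
          have := pow_card_eq_one' (x := (⟨z, hz⟩ : commutator G))
          exact congrArg Subtype.val this
        by_cases h0 : z ^ p = 1
        · rw [h0]; exact L.one_mem
        · have hcard : Nat.card (Subgroup.zpowers (z ^ p)) = p := by
            rw [Nat.card_zpowers]; exact orderOf_eq_prime h1 h0
          rw [← h2 _ (Subgroup.zpowers_le.2 (Subgroup.pow_mem _ hz p)) hcard]
          exact Subgroup.mem_zpowers _
      have hne : γ x y ^ p ≠ 1 := by
        intro h0
        apply hxy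
        have h1 : γ x y ≠ 1 := fun h => hxy (by rw [h]; exact L.one_mem)
        rw [← h2 _ (Subgroup.zpowers_le.2 (hmem x y)) (by
          rw [Nat.card_zpowers]; exact orderOf_eq_prime h0 h1)]
        exact Subgroup.mem_zpowers _
      have hbilpow : ∀ g v, ∀ n : ℕ, γ g (v ^ n) = γ g v ^ n := by
        intro g v n
        induction n with
        | zero => simp [γ]
        | succ n ih => rw [pow_succ, hγmul g _ _ (hcentral (hmem _ _)), ih, pow_succ]
      have hinZ : ∀ v : G, v ^ p ∈ Z := fun v => (hZ _).2 fun g =>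
        show γ g (v ^ p) ∈ L by rw [hbilpow]; exact hpow _ (hmem g v)
      obtain ⟨i, l, hl, hi⟩ := hgen _ (hinZ x)
      obtain ⟨j, m, hm, hj⟩ := hgen _ (hinZ y)
      have hval : ∀ g (i : ℤ) (l : G), l ∈ L → γ g (u ^ i * l) = γ g u ^ i := fun g i l hl => by
        rw [hγmul g _ _ (by rw [hγl g l hl]; exact Subgroup.one_mem _), hγl g l hl, mul_one,
          hγzpow g u hu]
      have hyx : γ y x = (γ x y)⁻¹ := by simp only [γ]; group
      have e1 : γ x u ^ i = 1 := by
        rw [← hval x i l hl, ← hi, hbilpow]; simp [γ]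
      have e2 : γ y u ^ i ≠ 1 := by
        rw [← hval y i l hl, ← hi, hbilpow, hyx, inv_pow, ne_eq, inv_eq_one]; exact hne
      have e3 : γ x u ^ j ≠ 1 := by rw [← hval x j m hm, ← hj, hbilpow]; exact hne
      have hordd : ∀ g, orderOf (γ g u) ∣ p := fun g =>
        orderOf_dvd_of_pow_eq_one (hLpow _ (hγL g u hu))
      rw [← orderOf_dvd_iff_zpow_eq_one] at e1
      rw [ne_eq, ← orderOf_dvd_iff_zpow_eq_one] at e2 e3
      rcases (Nat.dvd_prime hp).1 (hordd x) with h | h
      · exact e3 (by rw [h]; simp)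
      · rcases (Nat.dvd_prime hp).1 (hordd y) with h' | h'
        · exact e2 (by rw [h']; simp)
        · rw [h] at e1; rw [h'] at e2; exact e2 e1
  · -- non-central derived subgroup
    obtain ⟨c, hcG, hcZ⟩ := SetLike.not_le_iff_exists.1 hcentral
    have hcL : c ∉ L := fun h => hcZ (hLcen h)
    have hinter : ∀ z ∈ commutator G, z ∈ Subgroup.center G → z ∈ L := by
      intro z hz hzc
      have hle : L ≤ commutator G ⊓ Subgroup.center G := le_inf hLle hLcen
      have hdvd : Nat.card (commutator G ⊓ Subgroup.center G : Subgroup G) ∣ p ^ 2 :=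
        hc ▸ Subgroup.card_dvd_of_le inf_le_left
      obtain ⟨i, hi, he⟩ := (Nat.dvd_prime_pow hp).1 hdvd
      have hi2 : i ≠ 2 := fun h => hcZ ((Subgroup.eq_of_le_of_card_ge
        (inf_le_left : commutator G ⊓ Subgroup.center G ≤ commutator G)
        (by rw [he, h, hc])).symm ▸ hcG : c ∈ commutator G ⊓ Subgroup.center G).2
      have := Subgroup.eq_of_le_of_card_ge hle (by
        rw [he, hLc]; exact (Nat.pow_le_pow_right hp.pos (show i ≤ 1 by omega)).trans (pow_one p).le)
      rw [this]; exact ⟨hz, hzc⟩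
    have hgenc : commutator G ≤ Subgroup.zpowers c ⊔ L := by
      have hle : Subgroup.zpowers c ⊔ L ≤ commutator G := sup_le (Subgroup.zpowers_le.2 hcG) hLle
      obtain ⟨i, hi, he⟩ := (Nat.dvd_prime_pow hp).1 (hc ▸ Subgroup.card_dvd_of_le hle)
      by_cases h2i : i = 2
      · exact (Subgroup.eq_of_le_of_card_ge hle (by rw [he, h2i, hc])).ge
      · exfalso
        apply hcL
        rw [Subgroup.eq_of_le_of_card_ge (le_sup_right : L ≤ Subgroup.zpowers c ⊔ L) (by
          rw [he, hLc]; exact (Nat.pow_le_pow_right hp.pos (show i ≤ 1 by omega)).trans (pow_one p).le)]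
        exact Subgroup.mem_sup_left (Subgroup.mem_zpowers c)
    obtain ⟨i, l, hl, hi⟩ := hgen c (hGZ hcG)
    obtain ⟨g₀, hg₀⟩ : ∃ g, γ g c ≠ 1 := by
      by_contra! h
      exact hcZ (Subgroup.mem_center_iff.2 fun g => mul_inv_eq_iff_eq_mul.1 (mul_inv_eq_one.1 (h g)))
    have hicop : ¬ (p : ℤ) ∣ i := by
      rintro ⟨t, ht⟩
      apply hg₀
      rw [hi, hγmul _ _ _ (by rw [hγl _ l hl]; exact Subgroup.one_mem _), hγl _ l hl, mul_one,
        hγzpow _ u hu, ht, zpow_mul, zpow_natCast, hLpow _ (hγL _ u hu), one_zpow]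
    have hu_mem : u ∈ commutator G := by
      have h1 : u ^ i ∈ commutator G := by
        have := (commutator G).mul_mem hcG ((commutator G).inv_mem (hLle hl))
        rwa [hi, mul_inv_cancel_right] at this
      obtain ⟨n, hn⟩ := IsPGroup.iff_orderOf.1 hG u
      have hcop : IsCoprime i ((p : ℤ) ^ n) :=
        (((Nat.prime_iff_prime_int.1 hp).coprime_iff_not_dvd.2 hicop).pow_left).symm
      obtain ⟨a, b, hab⟩ := hcop
      have h0 : u ^ ((p : ℤ) ^ n) = 1 := by
        have := pow_orderOf_eq_one u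
        rw [hn] at this
        exact_mod_cast this
      have : u = (u ^ i) ^ a := by
        conv_lhs => rw [← zpow_one u, ← hab, zpow_add, mul_comm b, zpow_mul u _ b, h0, one_zpow, mul_one,
          mul_comm a, zpow_mul]
      rw [this]
      exact Subgroup.zpow_mem _ h1 a
    have hZeq : Z = commutator G := le_antisymm (fun v hv => by
      obtain ⟨j, m, hm, rfl⟩ := hgen v hv
      exact Subgroup.mul_mem _ (Subgroup.zpow_mem _ hu_mem j) (hLle hm)) hGZ
    let C := Subgroup.centralizer ({c} : Set G)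
    have hcomm : ∀ x ∈ C, ∀ z ∈ commutator G, x * z = z * x := by
      intro x hx z hz
      have h1 : Subgroup.zpowers c ⊔ L ≤ Subgroup.centralizer ({x} : Set G) :=
        sup_le (Subgroup.zpowers_le.2 (Subgroup.mem_centralizer_singleton_iff.2
          (Subgroup.mem_centralizer_singleton_iff.1 hx).symm))
          (fun m hm => Subgroup.mem_centralizer_singleton_iff.2
            (Subgroup.mem_center_iff.1 (hLcen hm) x).symm)
      exact (Subgroup.mem_centralizer_singleton_iff.1 (h1 (hgenc hz))).symm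
    have habel : ∀ x ∈ C, ∀ y ∈ C, γ x y ∈ L := by
      intro x hx y hy
      refine hinter _ (Subgroup.commutator_mem_commutator (Subgroup.mem_top x) (Subgroup.mem_top y))
        (Subgroup.mem_center_iff.2 fun g => ?_)
      have ha : g * x * g⁻¹ * x⁻¹ ∈ commutator G :=
        Subgroup.commutator_mem_commutator (Subgroup.mem_top g) (Subgroup.mem_top x)
      have hb : g * y * g⁻¹ * y⁻¹ ∈ commutator G :=
        Subgroup.commutator_mem_commutator (Subgroup.mem_top g) (Subgroup.mem_top y)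
      obtain ⟨a, ha, hax⟩ : ∃ a ∈ commutator G, g * x * g⁻¹ = a * x :=
        ⟨_, ha, (inv_mul_cancel_right _ _).symm⟩
      obtain ⟨b, hb, hby⟩ : ∃ b ∈ commutator G, g * y * g⁻¹ = b * y :=
        ⟨_, hb, (inv_mul_cancel_right _ _).symm⟩
      have hxb : x * b = b * x := hcomm x hx b hb
      have hya : y * a = a * y := hcomm y hy a ha
      have hab : a * b = b * a := by
        have hsub : commutator G ≤ C := fun z hz => Subgroup.mem_centralizer_singleton_iff.2 (by
          have h1 : Subgroup.zpowers c ⊔ L ≤ Subgroup.centralizer ({c} : Set G) :=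
            sup_le (Subgroup.zpowers_le.2 (Subgroup.mem_centralizer_singleton_iff.2 rfl))
              (fun m hm => Subgroup.mem_centralizer_singleton_iff.2
                (Subgroup.mem_center_iff.1 (hLcen hm) c).symm)
          exact Subgroup.mem_centralizer_singleton_iff.1 (h1 (hgenc hz)))
        exact hcomm a (hsub ha) b hb
      have key : g * γ x y * g⁻¹ = γ x y := by
        show g * (x * y * x⁻¹ * y⁻¹) * g⁻¹ = _
        calc g * (x * y * x⁻¹ * y⁻¹) * g⁻¹
            = (g * x * g⁻¹) * (g * y * g⁻¹) * (g * x * g⁻¹)⁻¹ * (g * y * g⁻¹)⁻¹ := by group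
          _ = (a * x) * (b * y) * (a * x)⁻¹ * (b * y)⁻¹ := by rw [hax, hby]
          _ = a * (x * b) * (y * x⁻¹ * a⁻¹ * y⁻¹) * b⁻¹ := by group
          _ = a * (b * x) * (y * x⁻¹ * a⁻¹ * y⁻¹) * b⁻¹ := by rw [hxb]
          _ = (a * b) * ((x * y * x⁻¹ * y⁻¹) * (y * a⁻¹ * y⁻¹)) * b⁻¹ := by group
          _ = (a * b) * ((x * y * x⁻¹ * y⁻¹) * a⁻¹) * b⁻¹ := by
              rw [show y * a⁻¹ * y⁻¹ = a⁻¹ by rw [← mul_inv_eq_one, inv_inv]; calc
                y * a⁻¹ * y⁻¹ * a = y * a⁻¹ * (y⁻¹ * a * y) * y⁻¹ := by group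
                _ = y * a⁻¹ * (y⁻¹ * (y * a)) * y⁻¹ := by rw [hya, mul_assoc y⁻¹]
                _ = 1 := by group]
          _ = x * y * x⁻¹ * y⁻¹ := by
              have hxyC : x * y * x⁻¹ * y⁻¹ ∈ C :=
                C.mul_mem (C.mul_mem (C.mul_mem hx hy) (C.inv_mem hx)) (C.inv_mem hy)
              rw [hcomm _ hxyC a⁻¹ (Subgroup.inv_mem _ ha),
                show a * b * (a⁻¹ * (x * y * x⁻¹ * y⁻¹)) * b⁻¹ =
                  (a * b * a⁻¹) * ((x * y * x⁻¹ * y⁻¹) * b⁻¹) by group, hab, mul_inv_cancel_right,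
                hcomm _ hxyC b⁻¹ (Subgroup.inv_mem _ hb), mul_inv_cancel_left]
      exact mul_inv_eq_iff_eq_mul.1 key
    have hCidx : C.index ≤ p := by
      rw [← Chars.card_conjClass_eq_index, ← hLc]
      have hin : ∀ y : {y : G // IsConj c y}, (y : G) * c⁻¹ ∈ L := fun y => by
        obtain ⟨g, hg⟩ := isConj_iff.1 y.2
        rw [← hg]
        exact (hZ c).1 (hGZ hcG) g
      exact Nat.card_le_card_of_injective (fun y => (⟨_, hin y⟩ : L)) fun a b h =>
        Subtype.ext (mul_right_cancel (congrArg Subtype.val h))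
    have hdp : Cfsg.charDegree (χ : G → ℂ) ≤ p := by
      have hkerL : ∀ z ∈ L, (χ : G → ℂ) z = (χ : G → ℂ) 1 := fun z hz => (hker z (hLle hz)).2 hz
      obtain ⟨ψ, hψ⟩ := Chars.exists_irr_quotient L χ hkerL
      haveI : IsMulCommutative (C.map (QuotientGroup.mk' L)) := ⟨⟨fun a b => by
        obtain ⟨x, hx, hax⟩ := a.2
        obtain ⟨y, hy, hby⟩ := b.2
        refine Subtype.ext ?_
        simp only [Subgroup.coe_mul, ← hax, ← hby]
        rw [← commutatorElement_eq_one_iff_mul_comm, ← map_commutatorElement]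
        exact (QuotientGroup.eq_one_iff _).2 (habel x hx y hy)⟩⟩
      have h1 := degree_le_index ψ (C.map (QuotientGroup.mk' L))
      have h2 : Cfsg.charDegree (ψ : G ⧸ L → ℂ) = Cfsg.charDegree (χ : G → ℂ) := by
        unfold Cfsg.charDegree; rw [← QuotientGroup.mk_one, hψ]
      have h3 : (C.map (QuotientGroup.mk' L)).index ≤ C.index :=
        Nat.le_of_dvd (Nat.pos_of_ne_zero Subgroup.index_ne_zero_of_finite)
          (Subgroup.index_map_dvd _ (QuotientGroup.mk'_surjective L))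
      omega
    obtain ⟨z, hz, hz1⟩ := L.bot_or_exists_ne_one.resolve_left fun h => by
      rw [h, Subgroup.card_bot] at hLc; exact hp.ne_one hLc.symm
    obtain ⟨φ, hφ, hφz⟩ := exists_nonlinear (hLle hz) hz1
    have hdvdp : ∀ θ : Cfsg.IrrCharacter G, ∃ e, Cfsg.charDegree (θ : G → ℂ) = p ^ e := by
      intro θ
      obtain ⟨d, -, hd', hdvd⟩ := Chars.irr_degree_dvd_card θ
      obtain ⟨n, hn⟩ := IsPGroup.iff_card.1 hG
      rw [hn] at hdvd
      obtain ⟨e, -, rfl⟩ := (Nat.dvd_prime_pow hp).1 hdvd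
      exact ⟨e, by rw [Cfsg.charDegree, hd', Complex.natCast_re, Nat.floor_natCast]⟩
    obtain ⟨e, he⟩ := hdvdp χ
    obtain ⟨f, hf⟩ := hdvdp φ
    have he1 : e = 1 := by
      have h0 : e ≠ 0 := fun h => hd (by rw [he, h, pow_zero])
      have : e ≤ 1 := (Nat.pow_le_pow_iff_right hp.one_lt).1 (by rw [← he, pow_one]; exact hdp)
      omega
    have hf1 : f = 1 := by
      have h0 : f ≠ 0 := fun h => hφ (by rw [hf, h, pow_zero])
      have h1 := degree_sq_lt φ hφ
      rw [← (commutator G).card_mul_index, hc, ← hZeq, ← hdsq, he, hf, he1, ← pow_mul, ← pow_mul,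
        ← pow_add] at h1
      have := (Nat.pow_lt_pow_iff_right hp.one_lt).1 h1
      omega
    obtain ⟨k, hk, hkχ⟩ := hH χ φ hd (by rw [he, hf, he1, hf1])
    exact hφz (by rw [hkχ, hkχ 1, one_pow, pow_mem_ker_iff χ hk]; exact (hker z (hLle hz)).2 hz)

theorem forward {p : ℕ} [Fact p.Prime] (hG : IsPGroup p G) (hna : ¬ IsMulCommutative G)
    (hH : Hyp G) : IsCyclic (Subgroup.center G) ∧ Nat.card (commutator G) = p := by
  have hp : p.Prime := Fact.out
  have hne : commutator G ≠ ⊥ := fun h => hna ⟨⟨fun a b => commutatorElement_eq_one_iff_mul_comm.1 (by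
    have := Subgroup.commutator_mem_commutator (Subgroup.mem_top a) (Subgroup.mem_top b)
    rw [← commutator_def, h, Subgroup.mem_bot] at this
    exact this)⟩⟩
  obtain ⟨n, hn⟩ := IsPGroup.iff_card.1 (hG.to_subgroup (commutator G))
  have hn0 : n ≠ 0 := fun h => hne (Subgroup.eq_bot_of_card_eq _ (by rw [hn, h, pow_zero]))
  by_cases hn1 : n = 1
  · rw [hn1, pow_one] at hn
    exact ⟨center_cyclic hG hn hH, hn⟩
  · exfalso
    obtain ⟨M, hMn, hMle, hMc⟩ := PLemmas.exists_normal_le_card_eq hG (commutator G) hn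
      (show n - 2 ≤ n by omega)
    haveI := hMn
    refine no_sq (hG.to_quotient M) (hyp_quotient hH M) (card_commutator_quotient M hMle ?_)
    rw [hn, hMc, ← pow_add]
    congr 1; omega

theorem backward {p : ℕ} [Fact p.Prime] (hG : IsPGroup p G) (hZ : IsCyclic (Subgroup.center G))
    (hc : Nat.card (commutator G) = p) : Hyp G := by
  haveI := Fintype.ofFinite G
  have hp : p.Prime := Fact.out
  intro χ ψ hd hdeg
  obtain ⟨hcen, hD⟩ := derived_prime hG hc
  obtain ⟨g, hg⟩ := hZ.exists_generator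
  -- faithful on the centre
  have hfaith : ∀ θ : Cfsg.IrrCharacter G, Cfsg.charDegree (θ : G → ℂ) ≠ 1 →
      ∀ z ∈ Subgroup.center G, (θ : G → ℂ) z = (θ : G → ℂ) 1 → z = 1 := by
    intro θ hθ z hz hker
    by_contra hne
    obtain ⟨n, ρ, hρ, hρc⟩ := θ.2
    obtain ⟨e, he⟩ := IsPGroup.iff_orderOf.1 hG z
    rcases Nat.eq_zero_or_pos e with rfl | he0
    · exact hne (orderOf_eq_one_iff.1 (by simpa using he))
    obtain ⟨e, rfl⟩ : ∃ e', e = e' + 1 := ⟨e - 1, by omega⟩
    have hw : orderOf (z ^ p ^ e) = p := by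
      rw [orderOf_pow_of_dvd (pow_ne_zero _ hp.ne_zero) (he ▸ pow_dvd_pow p (Nat.le_succ e)), he,
        pow_succ, Nat.mul_div_cancel_left _ (pow_pos hp.pos e)]
    have hwk : (θ : G → ℂ) (z ^ p ^ e) = (θ : G → ℂ) 1 := by
      rw [← hρc, ← Chars.rep_eq_one_iff] at hker ⊢
      rw [map_pow, hker, one_pow]
    obtain ⟨t, ht, ht1⟩ := (commutator G).bot_or_exists_ne_one.resolve_left fun h => by
      rw [h, Subgroup.card_bot] at hc; exact hp.ne_one hc.symm
    have htord : orderOf t = p := by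
      have h1 : orderOf t ∣ p := hc ▸ Subgroup.orderOf_dvd_natCard _ ht
      exact ((Nat.dvd_prime hp).1 h1).resolve_left (mt orderOf_eq_one_iff.1 ht1)
    haveI := hZ
    have hmem : (⟨t, hcen ht⟩ : Subgroup.center G) ∈
        Subgroup.zpowers (⟨z ^ p ^ e, Subgroup.pow_mem _ hz _⟩ : Subgroup.center G) := by
      set w : Subgroup.center G := ⟨z ^ p ^ e, Subgroup.pow_mem _ hz _⟩ with hwdef
      have how : orderOf w = p := by rw [← Subgroup.orderOf_coe]; exact hw
      have hsub : (Finset.univ.filter fun a : Subgroup.center G => a ∈ Subgroup.zpowers w) =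
          Finset.univ.filter fun a : Subgroup.center G => a ^ p = 1 := by
        refine Finset.eq_of_subset_of_card_le (fun a ha => ?_) ?_
        · rw [Finset.mem_filter] at ha ⊢
          refine ⟨ha.1, orderOf_dvd_iff_pow_eq_one.1 ?_⟩
          exact (orderOf_dvd_of_mem_zpowers ha.2).trans how.dvd
        · haveI := hZ
          refine (IsCyclic.card_pow_eq_one_le hp.pos).trans ?_
          rw [← Fintype.card_subtype, ← Nat.card_eq_fintype_card]
          exact le_of_eq (how.symm.trans (Nat.card_zpowers w).symm)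
      have h1 : (⟨t, hcen ht⟩ : Subgroup.center G) ∈
          Finset.univ.filter fun a : Subgroup.center G => a ^ p = 1 :=
        Finset.mem_filter.2 ⟨Finset.mem_univ _, Subtype.ext (by
          rw [Subgroup.coe_pow, Subgroup.coe_one]
          exact orderOf_dvd_iff_pow_eq_one.1 htord.dvd)⟩
      rw [← hsub, Finset.mem_filter] at h1
      exact h1.2
    refine (hD θ hθ).1 t ht ht1 ?_
    obtain ⟨i, hi⟩ := Subgroup.mem_zpowers_iff.1 hmem
    have hi' : (z ^ p ^ e) ^ i = t := by simpa using congrArg Subtype.val hi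
    rw [← hρc, ← Chars.rep_eq_one_iff] at hwk ⊢
    rw [← hi']
    exact MonoidHom.mem_ker.1 (Subgroup.zpow_mem _ (MonoidHom.mem_ker.2 hwk) i)
  have hψd : Cfsg.charDegree (ψ : G → ℂ) ≠ 1 := hdeg ▸ hd
  obtain ⟨a, ha⟩ := exists_scalar χ g.2
  obtain ⟨b, hb⟩ := exists_scalar ψ g.2
  have hpa : ∀ n : ℕ, (χ : G → ℂ) ((g : G) ^ n) = a ^ n * (χ : G → ℂ) 1 := fun n => by
    induction n with
    | zero => simp
    | succ n ih => rw [pow_succ', ha, ih, pow_succ']; ring
  have hpb : ∀ n : ℕ, (ψ : G → ℂ) ((g : G) ^ n) = b ^ n * (ψ : G → ℂ) 1 := fun n => by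
    induction n with
    | zero => simp
    | succ n ih => rw [pow_succ', hb, ih, pow_succ']; ring
  set m := orderOf (g : G) with hm
  have hm0 : 0 < m := orderOf_pos _
  have hprim : ∀ (θ : Cfsg.IrrCharacter G) (c : ℂ), Cfsg.charDegree (θ : G → ℂ) ≠ 1 →
      (∀ n : ℕ, (θ : G → ℂ) ((g : G) ^ n) = c ^ n * (θ : G → ℂ) 1) → IsPrimitiveRoot c m := by
    intro θ c hθ hc'
    refine IsPrimitiveRoot.mk_of_lt c hm0 ?_ ?_
    · refine mul_right_cancel₀ (Chars.irr_apply_one_ne_zero θ) ?_
      rw [← hc', hm, pow_orderOf_eq_one, one_mul]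
    · intro l hl0 hlm h1
      have := hfaith θ hθ _ (Subgroup.pow_mem _ g.2 l) (by rw [hc', h1, one_mul])
      exact absurd (orderOf_dvd_of_pow_eq_one this) (Nat.not_dvd_of_pos_of_lt hl0 hlm)
  have hA := hprim χ a hd hpa
  have hB := hprim ψ b hψd hpb
  haveI : NeZero m := ⟨hm0.ne'⟩
  obtain ⟨k, -, hk⟩ := hA.eq_pow_of_pow_eq_one hB.pow_eq_one
  have hkm : k.Coprime m := by
    refine (IsPrimitiveRoot.pow_iff_coprime hA hm0 k).1 ?_
    rw [hk]; exact hB
  have hkG : k.Coprime (Nat.card G) := by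
    obtain ⟨e, he⟩ := IsPGroup.iff_orderOf.1 hG (g : G)
    obtain ⟨N, hN⟩ := IsPGroup.iff_card.1 hG
    rw [hN]
    refine Nat.Coprime.pow_right N ?_
    rcases Nat.eq_zero_or_pos e with rfl | he0
    · exfalso
      obtain ⟨t, ht, ht1⟩ := (commutator G).bot_or_exists_ne_one.resolve_left fun h => by
        rw [h, Subgroup.card_bot] at hc; exact hp.ne_one hc.symm
      obtain ⟨i, hi⟩ := Subgroup.mem_zpowers_iff.1 (hg ⟨t, hcen ht⟩)
      have hg1 : (g : G) = 1 := orderOf_eq_one_iff.1 (by simpa using he)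
      have := congrArg Subtype.val hi
      simp [hg1] at this
      exact ht1 this.symm
    · rw [hm, he] at hkm
      exact (Nat.coprime_pow_right_iff he0 _ _).1 hkm
  refine ⟨k, hkG, fun x => ?_⟩
  by_cases hx : x ∈ Subgroup.center G
  · obtain ⟨i, hi⟩ : ∃ i : ℕ, (g : G) ^ i = x := by
      obtain ⟨i, hi⟩ := Subgroup.mem_zpowers_iff.1 (hg ⟨x, hx⟩)
      obtain ⟨j, hj⟩ := (isOfFinOrder_of_finite g).mem_powers_iff_mem_zpowers.2 ⟨i, hi⟩
      exact ⟨j, by simpa using congrArg Subtype.val hj⟩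
    rw [← hi, hpb, ← pow_mul, hpa, ← hk, ← pow_mul, mul_comm k i,
      show (ψ : G → ℂ) 1 = (χ : G → ℂ) 1 by rw [apply_one, apply_one, hdeg]]
  · rw [(hD ψ hψd).2.1 x hx, (hD χ hd).2.1]
    intro hxk
    apply hx
    exact Subgroup.zpowers_le.2 hxk
      (mem_zpowers_pow_iff.2 ((hkG.coprime_dvd_right (orderOf_dvd_natCard x)).gcd_eq_one))

/-- Let p be a prime and P a finite non-commutative p-group. Then every two irreducible characters of P of the same degree greater than 1 are Galois conjugate (one is obtained from the other by composing with g ↦ g^k for some k prime to the order of P) if and only if the centre of P is cyclic and the derived subgroup of P has order p. -/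
theorem result {P : Type*} [Group P] [Finite P] (p : ℕ) [Fact p.Prime] (hP : IsPGroup p P) (hna : ¬ IsMulCommutative P) :
    (∀ χ ψ : Cfsg.IrrCharacter P, Cfsg.charDegree (χ : P → ℂ) ≠ 1 → Cfsg.charDegree (χ : P → ℂ) = Cfsg.charDegree (ψ : P → ℂ) → ∃ k : ℕ, Nat.Coprime k (Nat.card P) ∧ ∀ g : P, (ψ : P → ℂ) g = (χ : P → ℂ) (g ^ k)) ↔
      (IsCyclic (Subgroup.center P) ∧ Nat.card (commutator P) = p) :=
  ⟨fun h => forward hP hna h, fun h => backward hP h.1 h.2⟩

end Cfsg.Agent.S4845
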