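import Cfsg.Statements.S4847
import Cfsg.Agent.Lib.SolvDegrees.PalfyMain
import Cfsg.Agent.Lib.SolvDegrees.Graph

set_option autoImplicit false
open Cfsg

namespace Cfsg.Agent.S4847

/-- Let G be a finite solvable group and p, q, r three distinct primes each dividing the degree of some irreducible character of G. Then for some two of them the product divides the degree of some irreducible character of G (the character degree graph of a solvable group has no three pairwise non-adjacent vertices). -/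
theorem result {G : Type*} [Group G] [Finite G] [hs : Group.IsSolvable G] (p q r : ℕ) (hp : p.Prime) (hq : q.Prime) (hr : r.Prime) (hpq : p ≠ q) (hqr : q ≠ r) (hpr : p ≠ r)
    (hpd : ∃ χ : Cfsg.IrrCharacter G, p ∣ Cfsg.charDegree (χ : G → ℂ)) (hqd : ∃ χ : Cfsg.IrrCharacter G, q ∣ Cfsg.charDegree (χ : G → ℂ)) (hrd : ∃ χ : Cfsg.IrrCharacter G, r ∣ Cfsg.charDegree (χ : G → ℂ)) :
    (∃ χ : Cfsg.IrrCharacter G, p * q ∣ Cfsg.charDegree (χ : G → ℂ)) ∨ (∃ χ : Cfsg.IrrCharacter G, q * r ∣ Cfsg.charDegree (χ : G → ℂ)) ∨ (∃ χ : Cfsg.IrrCharacter G, p * r ∣ Cfsg.charDegree (χ : G → ℂ)) := by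
  classical
  haveI := Fintype.ofFinite G
  by_contra hcon
  simp only [not_or, not_exists] at hcon
  obtain ⟨h1, h2, h3⟩ := hcon
  have key : ∀ (χ : Cfsg.IrrCharacter G) (n : ℕ), (χ : G → ℂ) 1 = n → Cfsg.charDegree (χ : G → ℂ) = n :=
    fun χ n h => Cfsg.Agent.Lib.Codegree.charDegree_eq h
  have ex : ∀ s, (∃ χ : Cfsg.IrrCharacter G, s ∣ Cfsg.charDegree (χ : G → ℂ)) →
      ∃ n, Cfsg.Agent.Lib.SolvDegrees.HasDeg G n ∧ s ∣ n := fun s ⟨χ, hχ⟩ =>
    ⟨_, Cfsg.Agent.Lib.SolvDegrees.hasDeg_iff.2 ⟨χ, rfl⟩, hχ⟩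
  refine Cfsg.Agent.Lib.SolvDegrees.Palfy.not_bad G {p, q, r} ⟨?_, ?_, ?_, ?_⟩
  · exact Finset.card_eq_three.2 ⟨p, q, r, hpq, hpr, hqr, rfl⟩
  · intro s hs
    simp only [Finset.mem_insert, Finset.mem_singleton] at hs
    rcases hs with rfl | rfl | rfl <;> assumption
  · intro s hs
    simp only [Finset.mem_insert, Finset.mem_singleton] at hs
    rcases hs with rfl | rfl | rfl <;> apply ex <;> assumption
  · rintro s hs s' hs' hne n ⟨χ, hχ⟩ hdvd
    rw [← key χ n hχ] at hdvd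
    simp only [Finset.mem_insert, Finset.mem_singleton] at hs hs'
    rcases hs with rfl | rfl | rfl <;> rcases hs' with rfl | rfl | rfl <;>
      first
      | exact absurd rfl hne
      | exact h1 χ hdvd | exact h2 χ hdvd | exact h3 χ hdvd
      | exact h1 χ (by rwa [Nat.mul_comm] at hdvd) | exact h2 χ (by rwa [Nat.mul_comm] at hdvd) | exact h3 χ (by rwa [Nat.mul_comm] at hdvd)

end Cfsg.Agent.S4847
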