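import Cfsg.Statements.S4850
import Cfsg.Agent.Lib.VanishingP.Main
import Cfsg.Agent.Lib.LocalChar.Core
-- import your own Cfsg.Agent.* helpers here

set_option autoImplicit false
open Cfsg

namespace Cfsg.Agent.S4850

/-- Let p be a prime and G a finite solvable group whose vanishing elements (elements at which some irreducible character is zero) of order divisible by p all have the same order, with at least one such element. Let P be a Sylow p-subgroup of G. Then the derived subgroup of P is subnormal in G and the image of P in G/O_p(G) is cyclic. -/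
theorem result {G : Type*} [Group G] [Finite G] [hs : Group.IsSolvable G] (p : ℕ) [Fact p.Prime] (b : ℕ) (hvo : {n : ℕ | p ∣ n ∧ ∃ (g : G) (χ : Cfsg.IrrCharacter G), orderOf g = n ∧ (χ : G → ℂ) g = 0} = {b}) (P : Sylow p G) :
    ((commutator ↥(P : Subgroup G)).map (P : Subgroup G).subtype).IsSubnormal ∧ IsCyclic ↥((P : Subgroup G).map (QuotientGroup.mk' (Cfsg.pCore p G))) := by
  have hyp : Cfsg.Agent.Lib.VanishingP.OneVanOrder p G := by
    intro g g' hg hg' hd hd'
    have key : ∀ x : G, Cfsg.Agent.Lib.VanishingP.Van x → p ∣ orderOf x → orderOf x = b := by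
      rintro x ⟨χ, hχ⟩ hx
      have h1 : orderOf x ∈ {n : ℕ | p ∣ n ∧
          ∃ (g : G) (χ : Cfsg.IrrCharacter G), orderOf g = n ∧ (χ : G → ℂ) g = 0} :=
        ⟨hx, x, χ, rfl, hχ⟩
      rw [hvo] at h1
      exact h1
    rw [key g hg hd, key g' hg' hd']
  have hdvd := Cfsg.Agent.Lib.VanishingP.card_map_sylow_dvd hyp P
  have hcyc : IsCyclic ↥((P : Subgroup G).map (QuotientGroup.mk' (Cfsg.pCore p G))) := by
    rcases (Nat.dvd_prime (Fact.out : p.Prime)).mp hdvd with h | h
    · have := (Nat.card_eq_one_iff_unique.mp h).1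
      infer_instance
    · exact isCyclic_of_prime_card h
  refine ⟨?_, hcyc⟩
  let : CommGroup ↥((P : Subgroup G).map (QuotientGroup.mk' (Cfsg.pCore p G))) :=
    IsCyclic.commGroup
  have hle : (commutator ↥(P : Subgroup G)).map (P : Subgroup G).subtype ≤ Cfsg.pCore p G := by
    have h1 : commutator ↥(P : Subgroup G) ≤
        ((QuotientGroup.mk' (Cfsg.pCore p G)).subgroupMap (P : Subgroup G)).ker :=
      Abelianization.commutator_subset_ker _
    rintro _ ⟨x, hx, rfl⟩
    exact (QuotientGroup.eq_one_iff (x : G)).mp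
      (congrArg Subtype.val (MonoidHom.mem_ker.mp (h1 hx)))
  have : Group.IsNilpotent ↥(Cfsg.pCore p G) :=
    Cfsg.Agent.Lib.PSolvable.pCore_isPGroup.isNilpotent
  have hO : (Cfsg.pCore p G).IsSubnormal :=
    Subgroup.IsSubnormal.step _ ⊤ le_top .top inferInstance
  have h2 := Cfsg.Agent.Lib.LocalChar.isSubnormal_of_isNilpotent
    (((commutator ↥(P : Subgroup G)).map (P : Subgroup G).subtype).subgroupOf (Cfsg.pCore p G))
  have h3 := h2.trans' hO
  rwa [Subgroup.map_subgroupOf_eq_of_le hle] at h3

end Cfsg.Agent.S4850
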