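import Cfsg.Statements.S4866
import Cfsg.Agent.Lib.CharSums.OddIndex

set_option autoImplicit false
open Cfsg

namespace Cfsg.Agent.S4866

/-- Let K be a normal subgroup of odd index in the finite group G. Then G has as many orbits on the real-valued irreducible complex characters of K (acting by conjugation) as it has orbits on the conjugacy classes of K that are real in K; equivalently, the number of G-orbits of real-valued irreducible characters of K equals the number of G-conjugacy classes of elements of K that are conjugate in K to their inverses. -/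
theorem result {G : Type*} [Group G] [Finite G] (K : Subgroup G) [K.Normal] (hodd : Odd K.index) : Nat.card (Quot (fun θ η : {θ : Cfsg.IrrCharacter ↥K // (∀ k : ↥K, ((θ : ↥K → ℂ) k).im = 0)} => ∃ g : G, ∀ k k' : ↥K, (k' : G) = g * (k : G) * g⁻¹ → (η.1 : ↥K → ℂ) k' = (θ.1 : ↥K → ℂ) k)) = Nat.card (Quot (fun x y : {x : ↥K // IsConj x x⁻¹} => ∃ g : G, (y.1 : G) = g * x.1 * g⁻¹)) := by
  letI := Lib.CharSums.realIrrAction (G := G) K
  rw [Lib.CharSums.card_orbits_real_elements K hodd]
  refine Nat.card_congr (Quot.congrRight fun θ η => ⟨?_, ?_⟩)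
  · rintro ⟨g, hg⟩
    exact (MulAction.orbitRel G (Lib.CharSums.RealIrr ↥K)).symm'
      ⟨g, Subtype.ext ((Lib.CharSums.conjIrr_eq_iff K g θ.1 η.1).2 hg)⟩
  · intro h
    obtain ⟨g, hg⟩ := (MulAction.orbitRel G (Lib.CharSums.RealIrr ↥K)).symm' h
    exact ⟨g, (Lib.CharSums.conjIrr_eq_iff K g θ.1 η.1).1 (congrArg Subtype.val hg)⟩

end Cfsg.Agent.S4866
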