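import Cfsg.Statements.S4870
import Cfsg.Agent.Lib.Clifford.Correspondence
import Cfsg.Agent.Lib.Clifford.Extension
import Cfsg.Agent.Lib.Chars.Ops
import Mathlib

set_option autoImplicit false
open Cfsg
open scoped commutatorElement

namespace Cfsg.Agent.S4870

/-- Let G be a finite group with a non-abelian minimal normal subgroup N, and let φ be an irreducible complex character of N with stabilizer I in G (the elements g with φ(g n g⁻¹) = φ(n) for all n ∈ N) such that φ extends to an irreducible character of I. Put d = φ(1)·[G : I]. Then the number of linear characters of G is at most [G : I] times the number of irreducible characters of G of degree d. -/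
theorem result {G : Type*} [Group G] [Finite G] (N : Subgroup G) (hN : N.Normal) (hN1 : N ≠ ⊥) (hmin : ∀ M : Subgroup G, M.Normal → M ≤ N → M = ⊥ ∨ M = N) (hna : ¬ IsMulCommutative ↥N) (φ : Cfsg.IrrCharacter ↥N) (I : Subgroup G) (hI : ∀ g : G, g ∈ I ↔ ∀ n n' : ↥N, (n' : G) = g * (n : G) * g⁻¹ → (φ : ↥N → ℂ) n' = (φ : ↥N → ℂ) n) (hNI : N ≤ I) (hext : ∃ ψ : Cfsg.IrrCharacter ↥I, ∀ n : ↥N, (ψ : ↥I → ℂ) (Subgroup.inclusion hNI n) = (φ : ↥N → ℂ) n) : Nat.card {χ : Cfsg.IrrCharacter G // Cfsg.charDegree (χ : G → ℂ) = 1} ≤ I.index * Nat.card {χ : Cfsg.IrrCharacter G // Cfsg.charDegree (χ : G → ℂ) = Cfsg.charDegree (φ : ↥N → ℂ) * I.index} := by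
  classical
  have := Fintype.ofFinite G
  have := Fintype.ofFinite N
  have := Fintype.ofFinite I
  obtain ⟨ψ, hψ⟩ := hext
  -- `N` is perfect
  have hperf : N ≤ commutator G := by
    rcases hmin ⁅N, N⁆ (Subgroup.commutator_normal N N) (Subgroup.commutator_le_self N) with h | h
    · refine absurd (IsMulCommutative.of_comm fun a b => Subtype.ext ?_) hna
      have : ⁅(a : G), (b : G)⁆ ∈ ⁅N, N⁆ := Subgroup.commutator_mem_commutator a.2 b.2
      rw [h, Subgroup.mem_bot, commutatorElement_eq_one_iff_mul_comm] at this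
      exact this
    · rw [← h]; exact Subgroup.commutator_mono le_top le_top
  have hker : ∀ (f : G →* ℂˣ), ∀ n ∈ N, f n = 1 := fun f n hn =>
    MonoidHom.mem_ker.1 (Abelianization.commutator_subset_ker f (hperf hn))
  have hT : ∀ g, g ∈ I ↔ Lib.Clifford.conjFun g (φ : N → ℂ) = (φ : N → ℂ) := by
    intro g
    rw [hI]
    constructor
    · exact fun h => funext fun n => h n _ rfl
    · intro h n n' hn
      rw [show n' = ⟨g * n * g⁻¹, hN.conj_mem (n : G) n.2 g⟩ from Subtype.ext hn]
      exact congrFun h n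
  let θ : (G →* ℂˣ) → Cfsg.IrrCharacter I := fun f =>
    ⟨fun i => ((f.comp I.subtype) i : ℂ) * (ψ : I → ℂ) i,
      Lib.Chars.isIrrCharacter_hom_mul (f.comp I.subtype) ψ.2⟩
  have hθN : ∀ f, Lib.Clifford.resTo hNI (θ f : I → ℂ) = (φ : N → ℂ) := by
    intro f
    funext n
    show ((f (n : G) : ℂˣ) : ℂ) * _ = _
    rw [hker f n n.2, Units.val_one, one_mul]
    exact hψ n
  have hnz : ∀ f, Cfsg.classInner (Lib.Clifford.resTo hNI (θ f : I → ℂ)) (φ : N → ℂ) ≠ 0 := by
    intro f
    rw [hθN, Lib.Chars.classInner_irr_self]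
    exact one_ne_zero
  let X : (G →* ℂˣ) → Cfsg.IrrCharacter G := fun f =>
    ⟨Cfsg.indFun I (θ f : I → ℂ),
      Lib.Clifford.isIrrCharacter_indFun_inertia φ.2 hT hNI (θ f).2 (hnz f)⟩
  have hXd : ∀ f, Cfsg.charDegree (X f : G → ℂ) = Cfsg.charDegree (φ : ↥N → ℂ) * I.index := by
    intro f
    obtain ⟨d, -, hd⟩ := Lib.Chars.isIrrCharacter_exists_degree_pos φ.2
    have h1 : (θ f : I → ℂ) 1 = (φ : N → ℂ) 1 := congrFun (hθN f) 1
    simp only [Cfsg.charDegree, X]
    rw [Lib.Chars.indFun_one_eq, h1, hd, ← Nat.cast_mul, Complex.natCast_re, Nat.floor_natCast,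
      Complex.natCast_re, Nat.floor_natCast, mul_comm]
  have hinj : ∀ f f', X f = X f' → ∀ i ∈ I, f i = f' i := by
    intro f f' h i hi
    have hsub : (θ f : I → ℂ) = (θ f' : I → ℂ) := by
      have h1 : ∀ a, X a = X f →
          Cfsg.classInner (Lib.Clifford.resFun I (X f : G → ℂ)) (θ a : I → ℂ) ≠ 0 := by
        intro a ha
        show Cfsg.classInner (fun i : I => (X f : G → ℂ) i) (θ a : I → ℂ) ≠ 0
        rw [← Lib.Chars.classInner_indFun_right I _ _ (Lib.Chars.irr_isClassFunction (X f)),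
          show Cfsg.indFun I (θ a : I → ℂ) = (X a : G → ℂ) from rfl, ha, Lib.Chars.classInner_irr_self]
        exact one_ne_zero
      exact (Lib.Clifford.clifford_induced φ.2 hT hNI (X f).2 (θ f').2 (h1 f' h.symm) (hnz f')).2.2.2
        _ (θ f).2 (h1 f rfl) (hnz f)
    -- twist an affording representation
    obtain ⟨m, R, hR, hRc⟩ := ψ.2
    let ν : I →* ℂˣ := (f.comp I.subtype)⁻¹ * (f'.comp I.subtype)
    have hνψ : ∀ j : I, (ν j : ℂ) * (ψ : I → ℂ) j = (ψ : I → ℂ) j := by
      intro j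
      have := congrFun hsub j
      simp only [θ] at this
      show (((f.comp I.subtype) j)⁻¹ * (f'.comp I.subtype) j : ℂˣ).val * _ = _
      rw [Units.val_mul, mul_assoc, ← this, ← mul_assoc, Units.inv_mul, one_mul]
    let R' : Representation ℂ I (Fin m → ℂ) :=
      { toFun := fun j => (ν j : ℂ) • R j
        map_one' := by simp
        map_mul' := fun a b => by rw [map_mul, map_mul, Units.val_mul, smul_mul_smul_comm] }
    have hc : R.character = R'.character := by
      funext j
      show _ = LinearMap.trace ℂ _ ((ν j : ℂ) • R j)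
      rw [map_smul, smul_eq_mul, ← Representation.character, hRc, hνψ]
    obtain ⟨e⟩ := Lib.Clifford.equiv_of_char_eq R R' hc
    let RN : Representation ℂ N (Fin m → ℂ) := R.comp (Subgroup.inclusion hNI)
    have hRNc : RN.character = (φ : N → ℂ) := funext fun n => (congrFun hRc _).trans (hψ n)
    have hRN : RN.IsIrreducible := by
      obtain ⟨k, ρ, hρ, hρc⟩ := φ.2
      obtain ⟨e'⟩ := Lib.Clifford.equiv_of_char_eq ρ RN (hρc.trans hRNc.symm)
      exact Lib.Chars.isIrreducible_of_equiv e'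
    have hint : ∀ j, e.toLinearEquiv.toLinearMap * R j = R' j * e.toLinearEquiv.toLinearMap :=
      fun j => e.isIntertwining' j
    obtain ⟨c, hcs⟩ := Lib.Clifford.schur_scalar RN e.toLinearEquiv.toLinearMap fun n => by
      have h1 : R' (Subgroup.inclusion hNI n) = R (Subgroup.inclusion hNI n) := by
        show (ν (Subgroup.inclusion hNI n) : ℂ) • R _ = R _
        have : ν (Subgroup.inclusion hNI n) = 1 := by
          show (f (n : G))⁻¹ * f' (n : G) = 1
          rw [hker f n n.2, hker f' n n.2, inv_one, mul_one]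
        rw [this, Units.val_one, one_smul]
      exact (hint (Subgroup.inclusion hNI n)).trans (congrArg (· * _) h1)
    have : Nontrivial (Fin m → ℂ) := Lib.Chars.nontrivial_of_isIrreducible R
    have hc0 : c ≠ 0 := by
      rintro rfl
      rw [zero_smul] at hcs
      obtain ⟨v, hv⟩ := exists_ne (0 : Fin m → ℂ)
      exact hv (e.toLinearEquiv.injective (by
        rw [map_zero]; exact LinearMap.congr_fun hcs v))
    have hRne : R ⟨i, hi⟩ ≠ 0 := fun h0 => by
      have := congrArg (fun x => x * R (⟨i, hi⟩ : I)⁻¹) h0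
      simp [← map_mul] at this
    have h2 := hint ⟨i, hi⟩
    rw [hcs, smul_one_mul, mul_smul_comm, mul_one] at h2
    have h3 : (1 : ℂ) • R ⟨i, hi⟩ = (ν ⟨i, hi⟩ : ℂ) • R ⟨i, hi⟩ := by
      rw [one_smul]; exact smul_right_injective _ hc0 h2
    have h4 : (ν ⟨i, hi⟩) = 1 := Units.ext (smul_left_injective ℂ hRne h3).symm
    exact inv_mul_eq_one.1 h4
  -- counting
  let K := I ⊔ commutator G
  have hKn : K.Normal := Subgroup.Normal.of_commutator_le G (le_sup_right : commutator G ≤ K)
  let Y := {χ : Cfsg.IrrCharacter G // Cfsg.charDegree (χ : G → ℂ) = Cfsg.charDegree (φ : ↥N → ℂ) * I.index}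
  have hlin : Nat.card {χ : Cfsg.IrrCharacter G // Cfsg.charDegree (χ : G → ℂ) = 1} =
      Nat.card (G →* ℂˣ) := by
    rw [Nat.card_congr Lib.Chars.linearEquivHom]
    refine Nat.card_congr (Equiv.subtypeEquivRight fun χ => ?_)
    obtain ⟨d, -, hd⟩ := Lib.Chars.isIrrCharacter_exists_degree_pos χ.2
    rw [Cfsg.charDegree, hd, Complex.natCast_re, Nat.floor_natCast]
    exact Nat.cast_eq_one.symm
  rw [hlin]
  have hfinH : Finite (G →* ℂˣ) := Finite.of_equiv _ Lib.Chars.linearEquivHom.symm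
  have := Fintype.ofFinite (G →* ℂˣ)
  have := Fintype.ofFinite Y
  let F : (G →* ℂˣ) → Y := fun f => ⟨X f, hXd f⟩
  rw [Nat.card_eq_fintype_card, Nat.card_eq_fintype_card, mul_comm I.index]
  rw [mul_comm]
  refine Finset.card_le_mul_card_image_of_maps_to (f := F) (fun _ _ => Finset.mem_univ _) I.index
    (fun y _ => ?_)
  rcases (Finset.univ.filter fun f => F f = y).eq_empty_or_nonempty with h0 | ⟨f₀, hf₀⟩
  · rw [h0]; simp
  have hle : (Finset.univ.filter fun f => F f = y).card ≤ Nat.card (G ⧸ K →* ℂˣ) := by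
    have : Finite (G ⧸ K →* ℂˣ) := Finite.of_equiv _ Lib.Chars.linearEquivHom.symm
    have hmem : ∀ f : {f : G →* ℂˣ // f ∈ Finset.univ.filter fun f => F f = y},
        ∀ i ∈ K, (f₀⁻¹ * f.1) i = 1 := by
      intro f i hi
      refine (?_ : K ≤ (f₀⁻¹ * f.1).ker) hi
      refine sup_le (fun j hj => ?_) (Abelianization.commutator_subset_ker _)
      rw [MonoidHom.mem_ker, MonoidHom.mul_apply, MonoidHom.inv_apply, inv_mul_eq_one]
      have heq : F f₀ = F f.1 := (Finset.mem_filter.1 hf₀).2.trans (Finset.mem_filter.1 f.2).2.symm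
      exact hinj f₀ f.1 (congrArg Subtype.val heq) j hj
    refine le_trans (le_of_eq (by rw [Nat.card_eq_fintype_card, Fintype.card_coe])) (Nat.card_le_card_of_injective
      (fun f => QuotientGroup.lift K (f₀⁻¹ * f.1) (fun i hi => MonoidHom.mem_ker.2 (hmem f i hi))) ?_)
    intro a b hab
    refine Subtype.ext (mul_left_cancel (a := f₀⁻¹) (MonoidHom.ext fun g => ?_))
    exact DFunLike.congr_fun hab (g : G ⧸ K)
  refine hle.trans ?_
  rw [Lib.Chars.card_monoidHom_units]
  calc (commutator (G ⧸ K)).index ≤ Nat.card (G ⧸ K) :=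
        Nat.le_of_dvd Nat.card_pos (commutator (G ⧸ K)).index_dvd_card
    _ = K.index := (K.index_eq_card).symm
    _ ≤ I.index := Nat.le_of_dvd (Nat.pos_of_ne_zero Subgroup.index_ne_zero_of_finite) (Subgroup.index_dvd_of_le le_sup_left)

end Cfsg.Agent.S4870
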