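import Cfsg.Statements.S4871
import Cfsg.Agent.Lib.Clifford.Correspondence
import Cfsg.Agent.Lib.Chars.Ops
import Cfsg.Agent.Lib.Chars.Induced
import Mathlib

set_option autoImplicit false
open Cfsg

namespace Cfsg.Agent.S4871

open Cfsg.Agent.Lib
open scoped Classical

variable {G : Type*} [Group G]

/-- The degree is at most the index: linear characters trivial on a subgroup are linearly
independent functions on its cosets. -/
theorem card_hom_trivial_le [Finite G] (T : Subgroup G) {ι : Type*} [Fintype ι] (f : ι → (G →* ℂˣ))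
    (hf : Function.Injective f) (hT : ∀ i, ∀ t ∈ T, f i t = 1) : Fintype.card ι ≤ T.index := by
  haveI := Fintype.ofFinite (G ⧸ T)
  let v : ι → (G ⧸ T → ℂ) := fun i q => Quotient.liftOn' q (fun g => ((f i g : ℂˣ) : ℂ))
    (fun a b h => by
      rw [QuotientGroup.leftRel_apply] at h
      have h1 := hT i _ h
      rw [map_mul, map_inv, inv_mul_eq_one] at h1
      exact congrArg Units.val h1)
  have hli : LinearIndependent ℂ v := by
    refine LinearIndependent.of_comp (LinearMap.funLeft ℂ ℂ (QuotientGroup.mk : G → G ⧸ T)) ?_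
    exact (linearIndependent_monoidHom G ℂ).comp (fun i => (Units.coeHom ℂ).comp (f i))
      (fun i j h => hf (MonoidHom.ext fun g => Units.ext (DFunLike.congr_fun h g)))
  have := hli.fintype_card_le_finrank
  rw [Module.finrank_fintype_fun_eq_card] at this
  rwa [Subgroup.index_eq_card, Nat.card_eq_fintype_card]

/-- The sum of a homomorphism into the complex units. -/
theorem sum_hom {H : Type*} [Group H] [Fintype H] (μ : H →* ℂˣ) :
    ∑ h : H, (μ h : ℂ) = if μ = 1 then (Nat.card H : ℂ) else 0 := by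
  split_ifs with h
  · subst h; simp
  · have h' : ((Units.coeHom ℂ).comp μ) ≠ 1 := fun he =>
      h (MonoidHom.ext fun g => Units.ext (DFunLike.congr_fun he g))
    exact sum_hom_units_eq_zero _ h'

/-- Semidirect data with a linear character of the kernel inverted by a complement element. -/
structure Data (N P : Subgroup G) [N.Normal] where
  proj : G →* P
  proj_coe : ∀ y : P, proj (y : G) = y
  proj_N : ∀ n : N, proj (n : G) = 1
  mem : ∀ g, g * ((proj g : P) : G)⁻¹ ∈ N
  comm : ∀ m n : N, m * n = n * m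
  lam : N →* ℂˣ
  lam_ne : ∃ n : N, lam n ^ 2 ≠ 1
  y₀ : P
  inv : ∀ n : N, lam (MulAut.conjNormal (y₀ : G) n) = (lam n)⁻¹

namespace Data

variable {N P : Subgroup G} [N.Normal] (D : Data N P)

/-- The kernel part. -/
def nn (g : G) : N := ⟨g * ((D.proj g : P) : G)⁻¹, D.mem g⟩

theorem nn_mul_proj (g : G) : (D.nn g : G) * (D.proj g : G) = g := by simp [nn]

theorem proj_mk (n : N) (y : P) : D.proj ((n : G) * y) = y := by
  rw [map_mul, D.proj_N, D.proj_coe, one_mul]

theorem nn_mk (n : N) (y : P) : D.nn ((n : G) * y) = n := Subtype.ext (by simp [nn, D.proj_mk])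

theorem nn_coe (n : N) : D.nn (n : G) = n := Subtype.ext (by simp [nn, D.proj_N])

/-- The bijection with the product. -/
def split : N × P ≃ G where
  toFun x := (x.1 : G) * x.2
  invFun g := (D.nn g, D.proj g)
  left_inv x := Prod.ext (D.nn_mk _ _) (D.proj_mk _ _)
  right_inv g := D.nn_mul_proj g

/-- The inertia group of the linear character. -/
def T : Subgroup G where
  carrier := {g | ∀ n : N, D.lam (MulAut.conjNormal g n) = D.lam n}
  one_mem' n := by simp
  mul_mem' {a b} ha hb n := by rw [map_mul, MulAut.mul_apply, ha, hb]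
  inv_mem' {a} ha n := by
    conv_rhs => rw [show n = MulAut.conjNormal a (MulAut.conjNormal a⁻¹ n) from by
      rw [← MulAut.mul_apply, ← map_mul, mul_inv_cancel, map_one]; rfl]
    rw [ha]

theorem le_T : N ≤ D.T := fun g hg n => by
  have : MulAut.conjNormal g n = n := Subtype.ext (by
    rw [MulAut.conjNormal_apply]
    have := congrArg Subtype.val (D.comm ⟨g, hg⟩ n)
    simp only [Subgroup.coe_mul] at this
    rw [this, mul_inv_cancel_right])
  rw [this]

theorem proj_mem_T {g : G} (hg : g ∈ D.T) : (D.proj g : G) ∈ D.T := by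
  have h := D.T.mul_mem (D.T.inv_mem (D.le_T (D.nn g).2)) hg
  rwa [show ((D.nn g : G))⁻¹ * g = (D.proj g : G) from inv_mul_eq_iff_eq_mul.2 (D.nn_mul_proj g).symm]
    at h

theorem nn_mul (g h : G) :
    D.nn (g * h) = D.nn g * MulAut.conjNormal (D.proj g : G) (D.nn h) := by
  refine Subtype.ext ?_
  simp only [nn, map_mul, Subgroup.coe_mul, MulAut.conjNormal_apply, mul_inv_rev]
  group

/-- The extension of the linear character to the inertia group. -/
def eta (ε : P →* ℂˣ) : D.T →* ℂˣ where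
  toFun g := D.lam (D.nn (g : G)) * ε (D.proj (g : G))
  map_one' := by
    rw [Subgroup.coe_one, map_one, map_one, mul_one, ← Subgroup.coe_one (H := N), D.nn_coe, map_one]
  map_mul' g h := by
    rw [Subgroup.coe_mul, D.nn_mul, map_mul D.lam, D.proj_mem_T g.2, map_mul D.proj, map_mul ε]
    exact mul_mul_mul_comm _ _ _ _

theorem eta_coe_N (ε : P →* ℂˣ) (n : N) : D.eta ε ⟨(n : G), D.le_T n.2⟩ = D.lam n := by
  show D.lam (D.nn (n : G)) * ε (D.proj (n : G)) = _
  rw [D.nn_coe, D.proj_N, map_one, mul_one]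

theorem y₀_not_mem : (D.y₀ : G) ∉ D.T := fun h => by
  obtain ⟨n, hn⟩ := D.lam_ne
  have h1 := (D.inv n).symm.trans (h n)
  rw [inv_eq_iff_mul_eq_one, ← sq] at h1
  exact hn h1

variable [Fintype G] [Fintype N] [Fintype P] [Fintype D.T]

theorem conjFun_eq_iff (g : G) :
    g ∈ D.T ↔ Clifford.conjFun g (fun n : N => (D.lam n : ℂ)) = fun n : N => (D.lam n : ℂ) := by
  constructor
  · intro h
    funext n
    exact congrArg Units.val ((congrArg D.lam (Subtype.ext (MulAut.conjNormal_apply g n).symm)).trans (h n))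
  · intro h n
    refine Units.ext ((congrArg (fun m => (D.lam m : ℂ)) (Subtype.ext ?_)).trans (congrFun h n))
    exact MulAut.conjNormal_apply g n

theorem resTo_eta (ε : P →* ℂˣ) :
    Clifford.resTo D.le_T (fun t : D.T => (D.eta ε t : ℂ)) = fun n : N => (D.lam n : ℂ) := by
  funext n
  exact congrArg Units.val (D.eta_coe_N ε n)

theorem classInner_resTo_eta (ε : P →* ℂˣ) :
    Cfsg.classInner (Clifford.resTo D.le_T (fun t : D.T => (D.eta ε t : ℂ)))
      (fun n : N => (D.lam n : ℂ)) = 1 := by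
  rw [D.resTo_eta]
  exact Chars.classInner_irr_self (Chars.linIrr D.lam)

/-- The induced character. -/
noncomputable def chi (ε : P →* ℂˣ) : Cfsg.IrrCharacter G :=
  ⟨Cfsg.indFun D.T (fun t : D.T => (D.eta ε t : ℂ)),
    Clifford.isIrrCharacter_indFun_inertia (Chars.isIrrCharacter_of_hom D.lam)
      D.conjFun_eq_iff D.le_T (Chars.isIrrCharacter_of_hom _)
      (by rw [D.classInner_resTo_eta]; exact one_ne_zero)⟩

theorem charDegree_chi (ε : P →* ℂˣ) : Cfsg.charDegree (D.chi ε : G → ℂ) = D.T.index := by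
  show Nat.floor (Cfsg.indFun D.T (fun t : D.T => (D.eta ε t : ℂ)) 1).re = _
  rw [Chars.indFun_one_eq, map_one, Units.val_one, mul_one, Complex.natCast_re, Nat.floor_natCast]

theorem eta_eq_of_chi_eq {ε ε' : P →* ℂˣ} (h : D.chi ε = D.chi ε') : D.eta ε = D.eta ε' := by
  have hval : ∀ δ : P →* ℂˣ, (D.chi δ : G → ℂ) = Cfsg.indFun D.T (fun t : D.T => (D.eta δ t : ℂ)) :=
    fun _ => rfl
  have hne : ∀ δ, D.chi δ = D.chi ε →
      Cfsg.classInner (Clifford.resFun D.T (D.chi ε : G → ℂ)) (fun t : D.T => (D.eta δ t : ℂ)) ≠ 0 := by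
    intro δ hδ h0
    have h1 := Chars.classInner_indFun_left D.T (fun t : D.T => (D.eta δ t : ℂ))
      (D.chi δ : G → ℂ) (Chars.irr_isClassFunction _)
    rw [← hval, Chars.classInner_irr_self] at h1
    rw [← hδ] at h0
    have h2 := Chars.conj_classInner (Clifford.resFun D.T (D.chi δ : G → ℂ))
      (fun t : D.T => (D.eta δ t : ℂ))
    rw [h0, map_zero] at h2
    exact one_ne_zero (h1.trans h2.symm)
  have hk := (Clifford.clifford_induced (Chars.isIrrCharacter_of_hom D.lam) D.conjFun_eq_iff D.le_T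
    (D.chi ε).2 (Chars.isIrrCharacter_of_hom (D.eta ε)) (hne ε rfl)
    (by rw [D.classInner_resTo_eta]; exact one_ne_zero)).2.2.2 _
    (Chars.isIrrCharacter_of_hom (D.eta ε')) (hne ε' h.symm)
    (by rw [D.classInner_resTo_eta]; exact one_ne_zero)
  exact MonoidHom.ext fun t => Units.ext (congrFun hk t).symm

/-- The homomorphism `n ↦ λ(n) λ(y n y⁻¹)`. -/
def mu (y : P) : N →* ℂˣ := D.lam * D.lam.comp (MulAut.conjNormal (y : G) : N ≃* N).toMonoidHom

theorem mu_eq_one_iff (y : P) : D.mu y = 1 ↔ ((y : G) * (D.y₀ : G)⁻¹) ∈ D.T := by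
  have hinv' : ∀ n : N, D.lam (MulAut.conjNormal (D.y₀ : G)⁻¹ n) = (D.lam n)⁻¹ := fun n => by
    have := D.inv (MulAut.conjNormal (D.y₀ : G)⁻¹ n)
    rw [← MulAut.mul_apply, ← map_mul, mul_inv_cancel, map_one, MulAut.one_apply] at this
    rw [this, inv_inv]
  constructor
  · intro h n
    have h1 : D.lam (MulAut.conjNormal (D.y₀ : G)⁻¹ n) *
        D.lam (MulAut.conjNormal (y : G) (MulAut.conjNormal (D.y₀ : G)⁻¹ n)) = 1 :=
      DFunLike.congr_fun h (MulAut.conjNormal (D.y₀ : G)⁻¹ n)
    rw [hinv', inv_mul_eq_one] at h1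
    rw [map_mul, MulAut.mul_apply]
    exact h1.symm
  · intro h
    ext n
    have h1 := h (MulAut.conjNormal (D.y₀ : G) n)
    rw [← MulAut.mul_apply, ← map_mul, inv_mul_cancel_right, D.inv] at h1
    simp [mu, h1]

theorem card_T : Fintype.card D.T = Fintype.card N * (Finset.univ.filter fun y : P => (y : G) ∈ D.T).card := by
  rw [← Fintype.card_subtype, ← Fintype.card_prod]
  refine Fintype.card_congr
    { toFun := fun g => (D.nn (g : G), ⟨D.proj (g : G), D.proj_mem_T g.2⟩)
      invFun := fun x => ⟨(x.1 : G) * (x.2.1 : G), D.T.mul_mem (D.le_T x.1.2) x.2.2⟩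
      left_inv := fun g => Subtype.ext (D.nn_mul_proj g)
      right_inv := fun x => Prod.ext (D.nn_mk _ _) (Subtype.ext (D.proj_mk _ _)) }

theorem sum_sq (ε : P →* ℂˣ) (hε : ∀ y, ε y ^ 2 = 1) :
    (Nat.card G : ℂ)⁻¹ * ∑ᶠ g : G, (D.chi ε : G → ℂ) (g * g) = 1 := by
  have hG : (Nat.card G : ℂ) ≠ 0 := Chars.natCard_ne_zero
  have hT : (Nat.card D.T : ℂ) ≠ 0 := Chars.natCard_ne_zero
  set ext' : G → ℂ := Cfsg.extendByZero D.T (fun t : D.T => (D.eta ε t : ℂ)) with hext
  have h1 : ∑ g : G, (D.chi ε : G → ℂ) (g * g) =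
      (Nat.card D.T : ℂ)⁻¹ * ((Nat.card G : ℂ) * ∑ g : G, ext' (g * g)) := by
    show ∑ g : G, (Nat.card D.T : ℂ)⁻¹ * ∑ x : G, ext' (x⁻¹ * (g * g) * x) = _
    rw [← Finset.mul_sum, Finset.sum_comm]
    congr 1
    rw [Finset.sum_congr rfl (fun x _ => Fintype.sum_equiv (MulAut.conj x⁻¹).toEquiv
      (fun g => ext' (x⁻¹ * (g * g) * x)) (fun g => ext' (g * g))
      (fun g => congrArg ext' (by simp [mul_assoc]))), Finset.sum_const, Finset.card_univ,
      nsmul_eq_mul, Nat.card_eq_fintype_card]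
  have h2 : ∑ g : G, ext' (g * g) = (Nat.card D.T : ℂ) := by
    rw [← Fintype.sum_equiv D.split (fun x => ext' (((x.1 : G) * x.2) * ((x.1 : G) * x.2))) _
      (fun x => rfl), Fintype.sum_prod_type, Finset.sum_comm]
    have hin : ∀ y : P, ∑ n : N, ext' (((n : G) * y) * ((n : G) * y)) =
        if D.mu y = 1 then (Nat.card N : ℂ) else 0 := by
      intro y
      have hsq : ∀ n : N, ((n : G) * y) * ((n : G) * y) =
          ((n * MulAut.conjNormal (y : G) n : N) : G) * ((y * y : P) : G) := fun n => by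
        simp only [Subgroup.coe_mul, MulAut.conjNormal_apply]
        group
      by_cases hy : ((y * y : P) : G) ∈ D.T
      · rw [← sum_hom]
        refine Finset.sum_congr rfl fun n _ => ?_
        have hmem := D.T.mul_mem (D.le_T (n * MulAut.conjNormal (y : G) n).2) hy
        rw [hsq, hext, Chars.extendByZero_of_mem _ hmem]
        refine congrArg Units.val ?_
        show D.lam (D.nn _) * ε (D.proj _) = _
        rw [D.nn_mk, D.proj_mk, map_mul ε, ← sq, hε, mul_one, map_mul]
        rfl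
      · have hmu : D.mu y ≠ 1 := fun h => hy fun n => by
          have hk : ∀ m : N, D.lam (MulAut.conjNormal (y : G) m) = (D.lam m)⁻¹ := fun m =>
            eq_inv_of_mul_eq_one_right (DFunLike.congr_fun h m)
          rw [Subgroup.coe_mul, map_mul, MulAut.mul_apply, hk, hk, inv_inv]
        rw [if_neg hmu]
        refine Finset.sum_eq_zero fun n _ => ?_
        rw [hsq, hext, Chars.extendByZero_of_not_mem]
        exact fun hm => hy ((D.T.mul_mem_cancel_left (D.le_T (n * MulAut.conjNormal (y : G) n).2)).1 hm)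
    rw [Finset.sum_congr rfl (fun y _ => hin y), ← Finset.sum_filter, Finset.sum_const, nsmul_eq_mul,
      Nat.card_eq_fintype_card, Nat.card_eq_fintype_card, D.card_T]
    have hb : (Finset.univ.filter fun y : P => D.mu y = 1).card =
        (Finset.univ.filter fun y : P => (y : G) ∈ D.T).card := by
      rw [← Fintype.card_subtype, ← Fintype.card_subtype]
      refine Fintype.card_congr ((Equiv.mulRight D.y₀⁻¹).subtypeEquiv fun y => ?_)
      rw [D.mu_eq_one_iff, Equiv.coe_mulRight, Subgroup.coe_mul, Subgroup.coe_inv]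
    rw [hb]
    push_cast
    ring
  rw [finsum_eq_sum_of_fintype, h1, h2]
  field_simp

end Data

/-- Existence of the data. -/
theorem nonempty_data [Finite G] (N P : Subgroup G) [N.Normal] (q : ℕ) [Fact q.Prime] (hq : q ≠ 2)
    (hNel : Cfsg.IsElementaryAbelian q N) (hP : IsPGroup 2 ↥P) (hP1 : P ≠ ⊥) (hdisj : N ⊓ P = ⊥)
    (hprod : N ⊔ P = ⊤) (hmin : N ≠ ⊥ ∧ ∀ M : Subgroup G, M.Normal → M ≠ ⊥ → N ≤ M) :
    Nonempty (Data N P) := by
  haveI := hNel.1
  have hdecomp : ∀ g : G, ∃ n ∈ N, ∃ y ∈ P, n * y = g := fun g =>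
    Subgroup.mem_sup_of_normal_left.1 (hprod ▸ Subgroup.mem_top g)
  let f : P →* G ⧸ N := (QuotientGroup.mk' N).comp P.subtype
  have hf : Function.Bijective f := by
    refine ⟨(injective_iff_map_eq_one f).2 fun y hy => ?_, fun x => ?_⟩
    · have h1 : (y : G) ∈ N ⊓ P := ⟨(QuotientGroup.eq_one_iff _).1 hy, y.2⟩
      rw [hdisj, Subgroup.mem_bot] at h1
      exact Subtype.ext h1
    · obtain ⟨g, rfl⟩ := QuotientGroup.mk_surjective x
      obtain ⟨n, hn, y, hy, rfl⟩ := hdecomp g
      refine ⟨⟨y, hy⟩, ?_⟩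
      show (QuotientGroup.mk' N) y = QuotientGroup.mk' N (n * y)
      rw [map_mul, show QuotientGroup.mk' N n = 1 from (QuotientGroup.eq_one_iff _).2 hn, one_mul]
  let e := MulEquiv.ofBijective f hf
  let π : G →* P := e.symm.toMonoidHom.comp (QuotientGroup.mk' N)
  have hπ : ∀ g : G, QuotientGroup.mk' N (π g : G) = QuotientGroup.mk' N g := fun g =>
    e.apply_symm_apply _
  -- faithfulness
  have hfaith : ∀ y ∈ P, (∀ n ∈ N, y * n = n * y) → y = 1 := by
    let C : Subgroup G := P ⊓ Subgroup.centralizer (N : Set G)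
    have hC : C.Normal := ⟨fun c hc g => by
      obtain ⟨n, hn, y, hy, rfl⟩ := hdecomp g
      have h1 : y * c * y⁻¹ ∈ C := ⟨P.mul_mem (P.mul_mem hy hc.1) (P.inv_mem hy),
        Subgroup.mem_centralizer_iff.2 fun k hk => by
          have hk' : y⁻¹ * k * y ∈ N := by
            simpa using (inferInstance : N.Normal).conj_mem k hk y⁻¹
          have h3 := Subgroup.mem_centralizer_iff.1 hc.2 _ hk'
          calc k * (y * c * y⁻¹) = y * ((y⁻¹ * k * y) * c) * y⁻¹ := by group
            _ = y * (c * (y⁻¹ * k * y)) * y⁻¹ := by rw [h3]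
            _ = y * c * y⁻¹ * k := by group⟩
      have h2 : n * (y * c * y⁻¹) = (y * c * y⁻¹) * n := Subgroup.mem_centralizer_iff.1 h1.2 n hn
      rw [show n * y * c * (n * y)⁻¹ = n * (y * c * y⁻¹) * n⁻¹ by group, h2, mul_inv_cancel_right]
      exact h1⟩
    intro y hy hcen
    by_contra hne
    have hCne : C ≠ ⊥ := fun h => hne <| Subgroup.mem_bot.1 <| h ▸
      (⟨hy, Subgroup.mem_centralizer_iff.2 fun n hn => (hcen n hn).symm⟩ : y ∈ C)
    exact hmin.1 (le_bot_iff.1 (hdisj ▸ le_inf le_rfl ((hmin.2 C hC hCne).trans inf_le_left)))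
  -- an involution
  haveI : Nontrivial P := (Subgroup.nontrivial_iff_ne_bot P).2 hP1
  have h2 : 2 ∣ Nat.card P := by
    obtain ⟨k, hk⟩ := IsPGroup.iff_card.1 hP
    rcases Nat.eq_zero_or_pos k with rfl | hk0
    · exact absurd (show Nat.card P = 1 by simpa using hk) Finite.one_lt_card.ne'
    · exact hk ▸ dvd_pow_self 2 hk0.ne'
  obtain ⟨y, hy⟩ := exists_prime_orderOf_dvd_card' (p := 2) h2
  have hy1 : (y : G) ≠ 1 := fun h => by
    rw [show y = 1 from Subtype.ext h, orderOf_one] at hy; omega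
  have hyy : (y : G) * y = 1 := by
    rw [← sq, ← Subgroup.coe_pow, ← hy, pow_orderOf_eq_one, Subgroup.coe_one]
  obtain ⟨n, hn⟩ : ∃ n : N, MulAut.conjNormal (y : G) n ≠ n := by
    by_contra! h
    refine hy1 (hfaith y y.2 fun n hn => ?_)
    have := congrArg Subtype.val (h ⟨n, hn⟩)
    rw [MulAut.conjNormal_apply] at this
    exact mul_inv_eq_iff_eq_mul.1 this
  have hinvol : ∀ m : N, MulAut.conjNormal (y : G) (MulAut.conjNormal (y : G) m) = m := fun m => by
    rw [← MulAut.mul_apply, ← map_mul, hyy, map_one, MulAut.one_apply]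
  let m : N := n⁻¹ * MulAut.conjNormal (y : G) n
  have hcomm : ∀ a b : N, a * b = b * a := fun a b => mul_comm' a b
  have hm : m ≠ 1 := fun h => hn (inv_mul_eq_one.1 h).symm
  have hminv : MulAut.conjNormal (y : G) m = m⁻¹ := by
    simp only [m, map_mul, map_inv, hinvol, mul_inv_rev, inv_inv]
  letI : CommGroup N := { (inferInstance : Group N) with mul_comm := hcomm }
  obtain ⟨l, hl⟩ := CommGroup.exists_apply_ne_one_of_hasEnoughRootsOfUnity N ℂ hm
  let cy : N →* N := (MulAut.conjNormal (y : G) : N ≃* N).toMonoidHom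
  let L : N →* ℂˣ := l * (l.comp cy)⁻¹
  have hmq : (orderOf (l m)) ∣ q := orderOf_dvd_of_pow_eq_one (by
    rw [← map_pow, show m ^ q = 1 from Subtype.ext (by simpa using hNel.2 (m : G) m.2), map_one])
  have hlq : orderOf (l m) = q :=
    ((Nat.dvd_prime Fact.out).1 hmq).resolve_left (mt orderOf_eq_one_iff.1 hl)
  refine ⟨{ proj := π
            proj_coe := fun z => e.symm_apply_apply z
            proj_N := fun k => by
              show e.symm (QuotientGroup.mk' N (k : G)) = 1
              rw [show QuotientGroup.mk' N (k : G) = 1 from (QuotientGroup.eq_one_iff _).2 k.2, map_one]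
            mem := fun g => by
              rw [← QuotientGroup.eq_one_iff (N := N)]
              show QuotientGroup.mk' N (g * (π g : G)⁻¹) = 1
              rw [map_mul, map_inv, hπ, mul_inv_cancel]
            comm := hcomm
            lam := L
            lam_ne := ⟨m, fun h => ?_⟩
            y₀ := y
            inv := fun k => ?_ }⟩
  · have hL : L m = l m * l m := by
      simp only [L, MonoidHom.mul_apply, MonoidHom.inv_apply, MonoidHom.comp_apply]
      rw [show cy m = m⁻¹ from hminv, map_inv, inv_inv]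
    rw [hL, ← sq, ← pow_mul] at h
    have h4 := orderOf_dvd_of_pow_eq_one h
    rw [hlq] at h4
    exact hq ((Nat.prime_dvd_prime_iff_eq Fact.out Nat.prime_two).1
      ((Fact.out : q.Prime).dvd_of_dvd_pow (show q ∣ 2 ^ 2 from h4)))
  · simp only [L, MonoidHom.mul_apply, MonoidHom.inv_apply, MonoidHom.comp_apply,
      show ∀ z : N, cy z = MulAut.conjNormal (y : G) z from fun _ => rfl, hinvol, mul_inv_rev, inv_inv]

/-- Let G be a finite group that is the semidirect product of a normal elementary abelian subgroup N of odd order by a non-trivial 2-subgroup P, with N the unique minimal normal subgroup of G. Consider the strongly real irreducible complex characters of G (Frobenius–Schur indicator +1) whose degree is 1 or even. Then their average degree is at least 4/3: four times their number is at most three times the sum of their degrees. -/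
theorem result {G : Type*} [Group G] [Finite G] (N P : Subgroup G) (hN : N.Normal) (q : ℕ) [Fact q.Prime] (hq : q ≠ 2) (hNel : Cfsg.IsElementaryAbelian q N) (hP : IsPGroup 2 ↥P) (hP1 : P ≠ ⊥) (hdisj : N ⊓ P = ⊥) (hprod : N ⊔ P = ⊤) (hmin : N ≠ ⊥ ∧ ∀ M : Subgroup G, M.Normal → M ≠ ⊥ → N ≤ M) : 4 * Nat.card {χ : Cfsg.IrrCharacter G // (Cfsg.charDegree (χ : G → ℂ) = 1 ∨ 2 ∣ Cfsg.charDegree (χ : G → ℂ)) ∧ (Nat.card G : ℂ)⁻¹ * ∑ᶠ g : G, (χ : G → ℂ) (g * g) = 1} ≤ 3 * (∑ᶠ χ : {χ : Cfsg.IrrCharacter G // (Cfsg.charDegree (χ : G → ℂ) = 1 ∨ 2 ∣ Cfsg.charDegree (χ : G → ℂ)) ∧ (Nat.card G : ℂ)⁻¹ * ∑ᶠ g : G, (χ : G → ℂ) (g * g) = 1}, Cfsg.charDegree (χ.1 : G → ℂ)) := by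
  classical
  haveI := hN
  haveI := Fintype.ofFinite G
  haveI := Fintype.ofFinite N
  haveI := Fintype.ofFinite P
  obtain ⟨D⟩ := nonempty_data N P q hq hNel hP hP1 hdisj hprod hmin
  haveI := Fintype.ofFinite D.T
  set S := {χ : Cfsg.IrrCharacter G // (Cfsg.charDegree (χ : G → ℂ) = 1 ∨
      2 ∣ Cfsg.charDegree (χ : G → ℂ)) ∧
      (Nat.card G : ℂ)⁻¹ * ∑ᶠ g : G, (χ : G → ℂ) (g * g) = 1}
  haveI : Fintype S := Fintype.ofFinite S
  haveI : Finite (P →* ℂˣ) := Finite.of_equiv _ Lib.Chars.linearEquivHom.symm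
  let X := {ε : P →* ℂˣ // ∀ y, ε y ^ 2 = 1}
  haveI : Fintype X := Fintype.ofFinite X
  -- the index is a proper power of two
  have hT1 : D.T.index ≠ 1 := fun h => D.y₀_not_mem (by
    rw [Subgroup.index_eq_one] at h; rw [h]; exact Subgroup.mem_top _)
  have hTd : 2 ∣ D.T.index := by
    obtain ⟨k, hk⟩ := IsPGroup.iff_card.1 hP
    have hidx : N.index = Nat.card P := by
      rw [Subgroup.index_eq_card]
      refine (Nat.card_congr (Equiv.ofBijective (fun y : P => (QuotientGroup.mk (y : G) : G ⧸ N)) ⟨?_, ?_⟩)).symm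
      · intro a b h
        have h1 : D.proj ((a : G)⁻¹ * b) = 1 := D.proj_N ⟨_, QuotientGroup.eq.1 h⟩
        rw [map_mul, map_inv, D.proj_coe, D.proj_coe, inv_mul_eq_one] at h1
        exact h1
      · intro x
        obtain ⟨g, rfl⟩ := QuotientGroup.mk_surjective x
        refine ⟨D.proj g, QuotientGroup.eq.2 ?_⟩
        exact hN.mem_comm (D.mem g)
    obtain ⟨i, -, hi⟩ := (Nat.dvd_prime_pow Nat.prime_two).1
      (hk ▸ hidx ▸ Subgroup.index_dvd_of_le D.le_T)
    rcases Nat.eq_zero_or_pos i with rfl | hi0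
    · exact absurd hi (by simpa using hT1)
    · exact hi ▸ dvd_pow_self 2 hi0.ne'
  let Φ : X → S := fun ε => ⟨D.chi ε.1, Or.inr (by rw [D.charDegree_chi]; exact hTd), D.sum_sq ε.1 ε.2⟩
  -- linear ones
  let L : Finset S := Finset.univ.filter fun χ => Cfsg.charDegree (χ.1 : G → ℂ) = 1
  have hL : L.card ≤ Fintype.card X := by
    have hex : ∀ χ : L, ∃ f : G →* ℂˣ, Lib.Chars.linIrr f = χ.1.1 ∧ ∀ g, f g ^ 2 = 1 := by
      intro χ
      obtain ⟨d, -, hd⟩ := Lib.Chars.isIrrCharacter_exists_degree_pos χ.1.1.2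
      have h1 : Cfsg.charDegree (χ.1.1 : G → ℂ) = 1 := (Finset.mem_filter.1 χ.2).2
      rw [Cfsg.charDegree, hd, Complex.natCast_re, Nat.floor_natCast] at h1
      obtain ⟨f, hf⟩ := Lib.Chars.exists_hom_of_degree_one (Lib.Chars.irr_isCharacter χ.1.1)
        (by rw [hd, h1, Nat.cast_one])
      refine ⟨f, Subtype.ext hf.symm, fun g => ?_⟩
      have hs := χ.1.2.2
      rw [finsum_eq_sum_of_fintype, hf] at hs
      have hsq : f * f = 1 := by
        by_contra hne
        rw [show (∑ g : G, ((f (g * g) : ℂˣ) : ℂ)) = ∑ g : G, (((f * f) g : ℂˣ) : ℂ) from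
          Finset.sum_congr rfl fun g _ => by rw [map_mul, MonoidHom.mul_apply], sum_hom,
          if_neg hne, mul_zero] at hs
        exact zero_ne_one hs
      rw [sq, ← MonoidHom.mul_apply, hsq, MonoidHom.one_apply]
    choose f hf hf2 using hex
    rw [← Fintype.card_coe]
    refine Fintype.card_le_of_injective (fun χ => (⟨(f χ).comp P.subtype, fun y => hf2 χ _⟩ : X)) ?_
    intro a b h
    refine Subtype.ext (Subtype.ext ?_)
    rw [← hf a, ← hf b]
    refine congrArg _ (MonoidHom.ext fun g => ?_)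
    have hp : ∀ y : P, f a y = f b y := fun y =>
      DFunLike.congr_fun (congrArg Subtype.val h) y
    have hn : ∀ c, ∀ n : N, f c n = 1 := fun c n => by
      have h1 : orderOf (f c n) ∣ 2 := orderOf_dvd_of_pow_eq_one (hf2 c n)
      have h2 : orderOf (f c n) ∣ q := orderOf_dvd_of_pow_eq_one (by
        rw [← map_pow, hNel.2 n n.2, map_one])
      rw [← orderOf_eq_one_iff]
      exact Nat.eq_one_of_dvd_coprimes ((Nat.coprime_primes Fact.out Nat.prime_two).2 hq) h2 h1
    rw [← D.nn_mul_proj g, map_mul, map_mul, hn, hn, hp]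
  -- fibres
  have hfib : ∀ c : S, (Finset.univ.filter fun ε : X => Φ ε = c).card ≤ D.T.index := by
    intro c
    rcases (Finset.univ.filter fun ε : X => Φ ε = c).eq_empty_or_nonempty with h | ⟨ε₀, hε₀⟩
    · simp [h]
    · rw [← Fintype.card_coe]
      refine card_hom_trivial_le D.T (fun ε => (ε.1.1 * ε₀.1⁻¹).comp D.proj) ?_ ?_
      · intro a b h
        refine Subtype.ext (Subtype.ext (MonoidHom.ext fun y => ?_))
        have := DFunLike.congr_fun h (y : G)
        simp only [MonoidHom.comp_apply, D.proj_coe, MonoidHom.mul_apply, mul_left_inj] at this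
        exact this
      · intro ε t ht
        have he : D.chi ε.1.1 = D.chi ε₀.1 := congrArg Subtype.val
          ((Finset.mem_filter.1 ε.2).2.trans (Finset.mem_filter.1 hε₀).2.symm)
        have h1 := DFunLike.congr_fun (D.eta_eq_of_chi_eq he) ⟨t, ht⟩
        change D.lam (D.nn t) * _ = D.lam (D.nn t) * _ at h1
        simp [mul_left_cancel h1]
  have hX : Fintype.card X ≤ (Finset.univ.image Φ).card * D.T.index := by
    rw [← Finset.card_univ, mul_comm]
    exact Finset.card_le_mul_card_image _ _ (fun c _ => hfib c)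
  -- averaging
  have hLI : Disjoint L (Finset.univ.image Φ) := by
    rw [Finset.disjoint_left]
    intro χ hχ hχ'
    obtain ⟨ε, -, rfl⟩ := Finset.mem_image.1 hχ'
    have := (Finset.mem_filter.1 hχ).2
    rw [show (Φ ε).1 = D.chi ε.1 from rfl, D.charDegree_chi] at this
    exact hT1 this
  rw [finsum_eq_sum_of_fintype, Nat.card_eq_fintype_card, ← Finset.card_univ, Finset.mul_sum,
    mul_comm 4, ← smul_eq_mul, ← Finset.sum_const]
  have hsub : L ∪ Finset.univ.image Φ ⊆ Finset.univ := Finset.subset_univ _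
  rw [← Finset.sum_sdiff hsub, ← Finset.sum_sdiff hsub (f := fun χ : S => 3 * Cfsg.charDegree (χ.1 : G → ℂ)),
    Finset.sum_union hLI, Finset.sum_union hLI]
  have h1 : ∑ χ ∈ L, 3 * Cfsg.charDegree (χ.1 : G → ℂ) = L.card * 3 := by
    rw [Finset.sum_congr rfl (fun χ hχ => by rw [(Finset.mem_filter.1 hχ).2, mul_one]),
      Finset.sum_const, smul_eq_mul]
  have h2 : ∑ χ ∈ Finset.univ.image Φ, 3 * Cfsg.charDegree (χ.1 : G → ℂ) =
      (Finset.univ.image Φ).card * (3 * D.T.index) := by
    rw [Finset.sum_congr rfl (g := fun _ => 3 * D.T.index) (fun χ hχ => by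
        obtain ⟨ε, -, rfl⟩ := Finset.mem_image.1 hχ
        rw [show (Φ ε).1 = D.chi ε.1 from rfl, D.charDegree_chi]),
      Finset.sum_const, smul_eq_mul]
  have h3 : ∑ _χ ∈ Finset.univ \ (L ∪ Finset.univ.image Φ), 4 ≤
      ∑ χ ∈ Finset.univ \ (L ∪ Finset.univ.image Φ), 3 * Cfsg.charDegree (χ.1 : G → ℂ) := by
    refine Finset.sum_le_sum fun χ hχ => ?_
    simp only [Finset.mem_sdiff, Finset.mem_union, L, Finset.mem_filter, not_or] at hχ
    obtain ⟨hd, -⟩ := χ.2
    have hne : Cfsg.charDegree (χ.1 : G → ℂ) ≠ 1 := fun h => hχ.2.1 ⟨Finset.mem_univ _, h⟩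
    obtain ⟨d, hd0, hdv⟩ := Lib.Chars.isIrrCharacter_exists_degree_pos χ.1.2
    have : Cfsg.charDegree (χ.1 : G → ℂ) = d := by
      rw [Cfsg.charDegree, hdv, Complex.natCast_re, Nat.floor_natCast]
    omega
  rw [h1, h2]
  simp only [Finset.sum_const, smul_eq_mul] at *
  have h5 : 2 ≤ D.T.index := Nat.le_of_dvd (Nat.pos_of_ne_zero Subgroup.index_ne_zero_of_finite) hTd
  have h4 : (Finset.univ.image Φ).card * D.T.index + 4 * (Finset.univ.image Φ).card ≤
      (Finset.univ.image Φ).card * (3 * D.T.index) := by nlinarith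
  omega

end Cfsg.Agent.S4871
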