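import Cfsg.Statements.S4872
import Mathlib
import Cfsg.Agent.Lib.Chars.RealRep
import Cfsg.Agent.Lib.Chars.DefectZero
import Cfsg.Agent.Lib.CharExt.Inertia
import Cfsg.Agent.Lib.Blocks.Covering
import Cfsg.Agent.Lib.PowMap.Basic

set_option autoImplicit false
open Cfsg

namespace Cfsg.Agent.S4872

open Cfsg.Agent.Lib
open scoped Classical ComplexConjugate

universe u

variable {G : Type u} [Group G] [Fintype G]

open Cfsg.Agent.Lib.Chars in
/-- A quaternionic character occurs with even multiplicity in every real representation. -/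
theorem even_mult_of_indicator_neg (χ : IrrCharacter G)
    (hreal : ∀ g, ((χ : G → ℂ) g).im = 0) (hν : indicator (χ : G → ℂ) = -1)
    (V : Type) [AddCommGroup V] [Module ℝ V] [FiniteDimensional ℝ V] (T : Representation ℝ G V)
    (c : ℕ) (hc : classInner (kchar Complex.ofRealHom T) (χ : G → ℂ) = c) : Even c := by
  obtain ⟨m, σ, hσ, hχ⟩ := χ.2
  let B : Representation ℝ G (Fin m ⊕ Fin m → ℝ) :=
    (Matrix.toLinAlgEquiv' (R := ℝ) (n := Fin m ⊕ Fin m)).toAlgHom.toRingHom.toMonoidHom.comp
      (realify.comp (matHom σ))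
  have hB : kchar Complex.ofRealHom B = (2 : ℂ) • (χ : G → ℂ) := by
    funext g
    have h1 : B.character g = (realify (matHom σ g)).trace :=
      Matrix.trace_toLin'_eq _
    rw [kchar, h1, trace_realify, trace_matHom, hχ, Pi.smul_apply, smul_eq_mul]
    apply Complex.ext <;> simp [hreal g]
  obtain ⟨U, _, _, _, R₀, hR₀, hne, φ', hφ', hsplit⟩ :=
    exists_irreducible_kchar_add Complex.ofRealHom (χ : G → ℂ)
    _ B (by rw [hB, classInner_smul_left, classInner_irr_self]; norm_num)
  let e : U ≃ₗ[ℝ] (Fin (Module.finrank ℝ U) → ℝ) := (Module.finBasis ℝ U).equivFun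
  let R : Representation ℝ G (Fin (Module.finrank ℝ U) → ℝ) :=
    (e.conjAlgEquiv ℝ).toAlgHom.toRingHom.toMonoidHom.comp R₀
  have hRR : ∀ g, R.character g = R₀.character g := fun g => LinearMap.trace_conj' (R₀ g) e
  have hRirr : R.IsIrreducible := by
    have he : ∀ g v, e (R₀ g v) = R g (e v) := fun g v => by
      show _ = e.conj (R₀ g) (e v)
      rw [LinearEquiv.conj_apply_apply, LinearEquiv.symm_apply_apply]
    let F : Subrepresentation R₀ ≃o Subrepresentation R :=
      { toFun := fun S => ⟨S.toSubmodule.map (e : U →ₗ[ℝ] _), by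
          rintro g _ ⟨v, hv, rfl⟩
          exact ⟨R₀ g v, S.apply_mem_toSubmodule g hv, he g v⟩⟩
        invFun := fun S => ⟨S.toSubmodule.comap (e : U →ₗ[ℝ] _), fun g v hv => by
          simp only [Submodule.mem_comap, LinearEquiv.coe_coe] at hv ⊢
          rw [he]; exact S.apply_mem_toSubmodule g hv⟩
        left_inv := fun S => Subrepresentation.toSubmodule_injective
          (Submodule.comap_map_eq_of_injective e.injective _)
        right_inv := fun S => Subrepresentation.toSubmodule_injective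
          (Submodule.map_comap_eq_of_surjective e.surjective _)
        map_rel_iff' := by
          intro S T
          exact Submodule.map_le_map_iff_of_injective e.injective S.toSubmodule T.toSubmodule }
    exact F.symm.isSimpleOrder
  have hpos : 0 < Module.finrank ℝ U := by
    refine Nat.pos_of_ne_zero fun h => hne ?_
    have : Subsingleton U := Module.finrank_zero_iff.mp h
    rw [kchar_eq_zero_of_subsingleton, classInner_zero_left]
  obtain ⟨d, hd⟩ := isCharacter_exists_nat_decomp (isCharacter_kchar Complex.ofRealHom R₀)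
  have hsingle : ∀ ψ, ψ ≠ χ → d ψ = 0 := by
    intro ψ hψ
    obtain ⟨b, hb⟩ := isCharacter_classInner_nat hφ' (irr_isCharacter ψ)
    have h := congrArg (fun f => classInner f (ψ : G → ℂ)) hsplit
    simp only [hB, classInner_smul_left, classInner_add_left, hb,
      classInner_irr_of_ne (Ne.symm hψ), mul_zero] at h
    rw [hd, classInner_sum_smul_irr] at h
    have : d ψ + b = 0 := by exact_mod_cast h.symm
    omega
  have hφeq : kchar Complex.ofRealHom R₀ = (d χ : ℂ) • (χ : G → ℂ) := by
    rw [hd, Finset.sum_eq_single χ (fun ψ _ h => by simp [hsingle ψ h]) (by simp)]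
  have hdpos : d χ ≠ 0 := fun h => hne (by rw [hd, classInner_sum_smul_irr, h, Nat.cast_zero])
  have hform := finrank_symForms_of_irreducible hpos R
  have hsym := congrArg (fun r : ℝ => (r : ℂ)) (finrank_symForms (matHom R))
  simp only [hform, trace_matHom_mul, trace_matHom, hRR] at hsym
  push_cast at hsym
  have hval : ∀ g, ((R₀.character g : ℝ) : ℂ) = (d χ : ℂ) * (χ : G → ℂ) g := fun g => by
    have := congrFun hφeq g
    simpa [kchar] using this
  have h1 : (Nat.card G : ℂ)⁻¹ * ∑ g : G, (χ : G → ℂ) g ^ 2 = 1 := by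
    rw [← hχ]
    exact sum_sq_eq_one_of_real σ (by rw [hχ]; exact hreal)
  have hA : (Nat.card G : ℂ)⁻¹ * ∑ g : G, ((R₀.character g : ℝ) : ℂ) ^ 2 = (d χ : ℂ) ^ 2 := by
    simp only [hval, mul_pow, ← Finset.mul_sum]
    rw [mul_left_comm, h1, mul_one]
  have hB' : (Nat.card G : ℂ)⁻¹ * ∑ g : G, ((R₀.character (g * g) : ℝ) : ℂ) = -(d χ : ℂ) := by
    simp only [hval, ← Finset.mul_sum]
    rw [mul_left_comm, show (Nat.card G : ℂ)⁻¹ * ∑ g : G, (χ : G → ℂ) (g * g) = -1 from hν,
      mul_neg, mul_one]
  rw [hA, hB'] at hsym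
  have hd2 : d χ = 2 := by
    have h2 : ((d χ * d χ : ℕ) : ℂ) = ((2 + d χ : ℕ) : ℂ) := by
      push_cast; linear_combination (-2 : ℂ) * hsym
    have h2' : d χ * d χ = 2 + d χ := by exact_mod_cast h2
    nlinarith
  obtain ⟨k, hk⟩ := exists_int_multiple Complex.ofRealHom R₀ V T
  rw [hφeq, hd2, classInner_smul_left, classInner_smul_left, classInner_smul_right,
    classInner_irr_self, ← conj_classInner, hc, map_natCast] at hk
  have hck : ((c : ℕ) : ℂ) = ((2 * k : ℕ) : ℂ) := by
    simp only [Nat.cast_ofNat, map_ofNat, mul_one] at hk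
    push_cast
    linear_combination (2 : ℂ)⁻¹ * hk
  exact ⟨k, by rw [Nat.cast_injective hck]; ring⟩

/-- The real permutation representation on the cosets of `S`. -/
theorem exists_coset_rep (S : Subgroup G) :
    ∃ (n : ℕ) (T : Representation ℝ G (Fin n → ℝ)),
      ∀ g : G, Chars.kchar Complex.ofRealHom T g =
        (Nat.card (MulAction.fixedBy (G ⧸ S) g) : ℂ) := by
  haveI : Fintype (G ⧸ S) := Fintype.ofFinite _
  let e := Fintype.equivFin (G ⧸ S)
  let T : Representation ℝ G (Fin (Fintype.card (G ⧸ S)) → ℝ) :=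
    { toFun := fun g => LinearMap.funLeft ℝ ℝ (fun i => e (g⁻¹ • e.symm i))
      map_one' := by ext f x; simp
      map_mul' := fun a b => by ext f x; simp [mul_smul] }
  refine ⟨_, T, fun g => ?_⟩
  have h : T.character g = (Nat.card (MulAction.fixedBy (G ⧸ S) g) : ℝ) := by
    show LinearMap.trace ℝ _ (LinearMap.funLeft ℝ ℝ (fun i => e (g⁻¹ • e.symm i))) = _
    rw [LinearMap.trace_eq_matrix_trace ℝ (Pi.basisFun ℝ _), Matrix.trace]
    simp [Pi.single_apply, Finset.sum_boole]
    refine Finset.card_equiv e.symm fun i => ?_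
    simp only [Finset.mem_filter, Finset.mem_univ, true_and]
    rw [e.apply_eq_iff_eq_symm_apply, inv_smul_eq_iff, eq_comm]
  show Complex.ofRealHom (T.character g) = _
  rw [h]
  simp

theorem exists_good (N : Subgroup G) [N.Normal] [Fintype N] (h2 : IsPGroup 2 (G ⧸ N))
    (φ : IrrCharacter N) (hdef : 2 ^ (Nat.card N).factorization 2 ∣ charDegree (φ : N → ℂ))
    (g₀ : G) (hg₀ : Clifford.conjFun g₀ (φ : N → ℂ) = fun n => conj ((φ : N → ℂ) n)) :
    ∃ χ : IrrCharacter G, Chars.indicator (χ : G → ℂ) = 1 ∧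
      classInner (Clifford.resFun N (χ : G → ℂ)) (φ : N → ℂ) = 1 := by
  haveI : Fact (Nat.Prime 2) := ⟨Nat.prime_two⟩
  obtain ⟨S⟩ : Nonempty (Sylow 2 G) := inferInstance
  haveI : Fintype (S : Subgroup G) := Fintype.ofFinite _
  obtain ⟨n, T, hT⟩ := exists_coset_rep (S : Subgroup G)
  set π : G → ℂ := Chars.kchar Complex.ofRealHom T with hπ
  have hπc : IsCharacter G π := Chars.isCharacter_kchar _ T
  choose c hc using fun χ : IrrCharacter G =>
    Chars.isCharacter_classInner_nat hπc (Chars.irr_isCharacter χ)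
  choose m hm using fun χ : IrrCharacter G => Chars.isCharacter_classInner_nat
    (Chars.isCharacter_restrict N (Chars.irr_isCharacter χ)) (Chars.irr_isCharacter φ)
  obtain ⟨d, hd0, hd⟩ := Chars.isIrrCharacter_exists_degree_pos φ.2
  have hdd : charDegree (φ : N → ℂ) = d := by
    rw [charDegree, hd, Complex.natCast_re, Nat.floor_natCast]
  rw [hdd] at hdef
  set v := (Nat.card N).factorization 2 with hv
  obtain ⟨d', hd'⟩ := hdef
  have hNn : ¬ 2 ^ (v + 1) ∣ Nat.card N := Nat.pow_succ_factorization_not_dvd Nat.card_pos.ne' Nat.prime_two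
  have hd'odd : ¬ 2 ∣ d' := by
    intro h
    obtain ⟨t, -, ht, htd⟩ := Chars.irr_degree_dvd_card φ
    rw [hd, Nat.cast_inj] at ht
    rw [← ht, hd'] at htd
    exact hNn (((pow_succ 2 v) ▸ mul_dvd_mul_left _ h).trans htd)
  have hvan : ∀ x : N, 2 ∣ orderOf x → (φ : N → ℂ) x = 0 := by
    intro x hx
    obtain ⟨k, ρ, hρ, hρφ⟩ := φ.2
    rw [← hρφ]
    refine Chars.char_eq_zero_of_defect_zero ρ Nat.prime_two (n := v) (Nat.ordProj_dvd _ _) hNn ?_ x hx
    have h1 : (Module.finrank ℂ (Fin k → ℂ) : ℂ) = (d : ℂ) := by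
      rw [← ρ.char_one, hρφ, hd]
    rw [Nat.cast_injective h1, hd']
    exact dvd_mul_right _ _
  have hidx : (S : Subgroup G).index * 2 ^ v = Nat.card N := by
    obtain ⟨b, hb⟩ := IsPGroup.iff_card.1 h2
    have hG : Nat.card G = 2 ^ b * Nat.card N := by
      rw [← hb, Subgroup.card_eq_card_quotient_mul_card_subgroup N]
    have hfac : (Nat.card G).factorization 2 = b + v := by
      rw [hG, Nat.factorization_mul (by positivity) Nat.card_pos.ne', Finsupp.add_apply,
        Nat.prime_two.factorization_pow, Finsupp.single_eq_same]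
    have h1 := (S : Subgroup G).card_mul_index
    rw [S.card_eq_multiplicity, hfac, hG, pow_add, mul_assoc] at h1
    rw [mul_comm]
    exact Nat.eq_of_mul_eq_mul_left (by positivity) h1
  have hfixone : Nat.card (MulAction.fixedBy (G ⧸ (S : Subgroup G)) (1 : G)) = (S : Subgroup G).index := by
    rw [Subgroup.index]
    refine Nat.card_congr ((Equiv.subtypeUnivEquiv fun x => ?_))
    exact MulAction.mem_fixedBy.2 (one_smul _ _)
  have hsum : (∑ χ : IrrCharacter G, m χ * c χ) = d' := by
    apply Nat.cast_injective (R := ℂ)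
    have e := Chars.isCharacter_eq_sum_classInner hπc
    have h1 : classInner (Clifford.resFun N π) (φ : N → ℂ) = ((∑ χ, m χ * c χ : ℕ) : ℂ) := by
      have hres : Clifford.resFun N π =
          ∑ χ : IrrCharacter G, (c χ : ℂ) • Clifford.resFun N (χ : G → ℂ) := by
        funext x
        have := congrFun e (x : G)
        simp only [Finset.sum_apply, Pi.smul_apply, smul_eq_mul, hc] at this ⊢
        exact this
      rw [hres, Chars.classInner_sum_left, Nat.cast_sum]
      refine Finset.sum_congr rfl fun χ _ => ?_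
      rw [Chars.classInner_smul_left,
        show classInner (Clifford.resFun N (χ : G → ℂ)) (φ : N → ℂ) = m χ from hm χ]
      push_cast; ring
    rw [← h1, classInner, Finset.sum_eq_single (1 : N)]
    · rw [Clifford.resFun, OneMemClass.coe_one, hT, hfixone, hd, map_natCast, ← hidx, hd']
      have : ((S : Subgroup G).index : ℂ) ≠ 0 := Nat.cast_ne_zero.2 Subgroup.index_ne_zero_of_finite
      push_cast
      field_simp
    · intro x _ hx
      by_cases h : 2 ∣ orderOf x
      · rw [hvan x h, map_zero, mul_zero]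
      · have : Clifford.resFun N π x = 0 := by
          rw [Clifford.resFun, hT, Nat.cast_eq_zero, Nat.card_eq_zero]
          left
          refine ⟨fun ⟨y, hy⟩ => ?_⟩
          induction y using QuotientGroup.induction_on with
          | H a =>
            rw [MulAction.mem_fixedBy, MulAction.Quotient.smul_mk, smul_eq_mul, eq_comm,
              QuotientGroup.eq] at hy
            obtain ⟨j, hj⟩ := (IsPGroup.iff_orderOf.1 S.isPGroup') ⟨_, hy⟩
            rw [Subgroup.orderOf_mk,
              show orderOf (a⁻¹ * ((x : G) * a)) = orderOf (x : G) by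
                rw [← mul_assoc]
                simpa using orderOf_injective (MulAut.conj a⁻¹).toMonoidHom
                  (MulAut.conj a⁻¹).injective (x : G),
              orderOf_submonoid] at hj
            rcases j with _ | j
            · exact hx (orderOf_eq_one_iff.1 (by simpa using hj))
            · exact h (hj ▸ dvd_pow_self 2 j.succ_ne_zero)
        rw [this, zero_mul]
    · simp
  let α := {χ : IrrCharacter G // Odd (m χ * c χ)}
  have hmc : ∀ χ, m (Chars.irrConj χ) = m χ ∧ c (Chars.irrConj χ) = c χ := by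
    intro χ
    constructor <;> apply Nat.cast_injective (R := ℂ)
    · rw [← hm, ← hm]
      show classInner (Clifford.resFun N (Chars.irrConj χ : G → ℂ)) (φ : N → ℂ) =
        classInner (Clifford.resFun N (χ : G → ℂ)) (φ : N → ℂ)
      rw [← Blocks.Covering.classInner_resFun_conjFun' g₀, hg₀]
      have h1 : classInner (Clifford.resFun N (Chars.irrConj χ : G → ℂ))
          (fun n => conj ((φ : N → ℂ) n)) =
            conj (classInner (Clifford.resFun N (χ : G → ℂ)) (φ : N → ℂ)) := by
        simp [classInner, Clifford.resFun, Chars.irrConj_apply, map_sum]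
      rw [h1]
      exact (congrArg conj (hm χ)).trans ((map_natCast _ _).trans (hm χ).symm)
    · rw [← hc, ← hc]
      have h1 : classInner π (Chars.irrConj χ : G → ℂ) = conj (classInner π (χ : G → ℂ)) := by
        simp [classInner, hT, Chars.irrConj_apply, map_sum]
      rw [h1, hc, map_natCast]
  let f : α → α := fun χ => ⟨Chars.irrConj χ.1, by rw [(hmc χ.1).1, (hmc χ.1).2]; exact χ.2⟩
  have hf : ∀ a, f^[2 ^ 1] a = a := fun a => Subtype.ext (Subtype.ext (funext fun g => by
    simp [f, Chars.irrConj_apply]))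
  have hα : Odd (Nat.card α) := by
    have h := Finset.odd_sum_iff_odd_card_odd (s := (Finset.univ : Finset (IrrCharacter G)))
      fun χ => m χ * c χ
    rw [Nat.card_eq_fintype_card, Fintype.card_subtype]
    refine h.1 ?_
    rw [hsum]
    exact Nat.not_even_iff_odd.1 fun he => hd'odd he.two_dvd
  have hmod := PowMap.even_card_sub_fixed f hf
  obtain ⟨⟨⟨χ, hχodd⟩, hfix⟩⟩ : Nonempty {a : α // f a = a} := by
    by_contra h
    rw [not_nonempty_iff] at h
    rw [Nat.card_of_isEmpty (α := {a : α // f a = a}), Nat.modEq_zero_iff_dvd] at hmod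
    exact Nat.not_even_iff_odd.2 hα (even_iff_two_dvd.2 hmod)
  have hmodd := (Nat.odd_mul.1 hχodd).1
  have hcodd := (Nat.odd_mul.1 hχodd).2
  have hreal : ∀ g, ((χ : G → ℂ) g).im = 0 :=
    (Chars.real_iff_irrConj_eq χ).2 (congrArg Subtype.val hfix)
  refine ⟨χ, ?_, ?_⟩
  · obtain ⟨k, ρ, hρ, hρχ⟩ := χ.2
    rcases Chars.indicator_trichotomy_real ρ (by rw [hρχ]; exact hreal) with h | h
    · rwa [hρχ] at h
    · rw [hρχ] at h
      exact absurd (even_mult_of_indicator_neg χ hreal h _ T (c χ) (hc χ))
        (Nat.not_even_iff_odd.2 hcodd)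
  · obtain ⟨k, ρ, hρ, hρχ⟩ := χ.2
    obtain ⟨l, σ, hσ, hσφ⟩ := φ.2
    let res := CharExt.resRep N ρ
    have hfin : (m χ : ℂ) = (Module.finrank ℂ (Representation.IntertwiningMap σ res) : ℂ) := by
      rw [← Chars.classInner_char_eq_finrank res σ, hσφ, ← hm χ]
      rw [show res.character = fun x : N => (χ : G → ℂ) x by rw [← hρχ]; rfl]
    have hmf := Nat.cast_injective hfin
    have hmpos := hmodd.pos
    haveI : Nontrivial (Representation.IntertwiningMap σ res) :=
      Module.nontrivial_of_finrank_pos (R := ℂ) (hmf ▸ hmpos)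
    haveI := Chars.nontrivial_of_isIrreducible σ
    have hdvd : m χ ∣ N.index := by
      rw [hmf]
      refine (CharExt.finrank_intertwining_dvd N σ ρ).trans ?_
      exact Subgroup.relIndex_dvd_index_of_le (CharExt.le_inertia N σ)
    obtain ⟨b, hb⟩ := IsPGroup.iff_card.1 h2
    rw [Subgroup.index, hb, Nat.dvd_prime_pow Nat.prime_two] at hdvd
    obtain ⟨j, -, hj⟩ := hdvd
    have hm1 : m χ = 1 := by
      rcases j with _ | j
      · simpa using hj
      · exact absurd hmodd (Nat.not_odd_iff_even.2 ⟨2 ^ j, by rw [hj]; ring⟩)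
    show classInner (fun x : N => (χ : G → ℂ) x) (φ : N → ℂ) = 1
    rw [hm, hm1, Nat.cast_one]

/-- Let N be a normal subgroup of the finite group G with G/N a 2-group, and let φ be an irreducible complex character of N of 2-defect zero (the 2-part of #N divides φ(1)) whose complex conjugate is G-conjugate to φ. Then some irreducible character of G with Frobenius–Schur indicator +1 contains φ with multiplicity exactly one on restriction to N. -/
theorem result {G : Type*} [Group G] [Finite G] (N : Subgroup G) [N.Normal] (h2 : IsPGroup 2 (G ⧸ N)) (φ : Cfsg.IrrCharacter ↥N) (hdef : 2 ^ (Nat.card ↥N).factorization 2 ∣ Cfsg.charDegree (φ : ↥N → ℂ)) (hconj : ∃ g : G, ∀ n n' : ↥N, (n' : G) = g * (n : G) * g⁻¹ → (φ : ↥N → ℂ) n' = (starRingEnd ℂ) ((φ : ↥N → ℂ) n)) : ∃ χ : Cfsg.IrrCharacter G, (Nat.card G : ℂ)⁻¹ * ∑ᶠ g : G, (χ : G → ℂ) (g * g) = 1 ∧ (Nat.card ↥N : ℂ)⁻¹ * ∑ᶠ n : ↥N, (χ : G → ℂ) n * (starRingEnd ℂ) ((φ : ↥N → ℂ) n) = 1 := by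
  cases nonempty_fintype G
  haveI : Fintype N := Fintype.ofFinite N
  obtain ⟨g, hg⟩ := hconj
  obtain ⟨χ, h1, h3⟩ := exists_good N h2 φ hdef g
    (funext fun n => hg n ⟨g * n * g⁻¹, (inferInstance : N.Normal).conj_mem (n : G) n.2 g⟩ rfl)
  refine ⟨χ, ?_, ?_⟩
  · rw [finsum_eq_sum_of_fintype]
    exact h1
  · rw [finsum_eq_sum_of_fintype]
    exact h3

end Cfsg.Agent.S4872
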