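import Cfsg.Statements.S4873
import Cfsg.Agent.Lib.CharSums.Indicator
import Cfsg.Agent.Lib.CharSums.OddIndex
import Cfsg.Agent.Lib.Chars.Integral

set_option autoImplicit false
open Cfsg

namespace Cfsg.Agent.S4873

/-- Let N be a normal subgroup of odd index in the finite group G. Then every irreducible complex character of N with Frobenius–Schur indicator +1 lies under exactly one irreducible character of G with Frobenius–Schur indicator +1. -/
theorem result {G : Type*} [Group G] [Finite G] (N : Subgroup G) [N.Normal] (hodd : Odd N.index) (φ : Cfsg.IrrCharacter ↥N) (hφ : (Nat.card ↥N : ℂ)⁻¹ * ∑ᶠ g : ↥N, (φ : ↥N → ℂ) (g * g) = 1) : ∃! χ : Cfsg.IrrCharacter G, (Nat.card G : ℂ)⁻¹ * ∑ᶠ g : G, (χ : G → ℂ) (g * g) = 1 ∧ (∑ᶠ n : ↥N, (χ : G → ℂ) n * (starRingEnd ℂ) ((φ : ↥N → ℂ) n)) ≠ 0 := by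
  classical
  have : Fintype G := Fintype.ofFinite G
  have : Fintype N := Fintype.ofFinite N
  simp only [finsum_eq_sum_of_fintype] at hφ ⊢
  have hφreal : ∀ n : N, ((φ : ↥N → ℂ) n).im = 0 :=
    Lib.CharSums.im_eq_zero_of_sum_sq_ne_zero φ fun h0 => by simp [h0] at hφ
  obtain ⟨χ₀, hχ₀, huniq⟩ := Lib.CharSums.existsUnique_real_over N hodd ⟨φ, hφreal⟩
  have hne : ∀ χ : Cfsg.IrrCharacter G,
      (∑ n : ↥N, (χ : G → ℂ) n * (starRingEnd ℂ) ((φ : ↥N → ℂ) n)) ≠ 0 ↔
        Cfsg.classInner (fun n : N => (χ : G → ℂ) n) (φ : ↥N → ℂ) ≠ 0 := fun χ => by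
    rw [Cfsg.classInner, mul_ne_zero_iff, and_iff_right (inv_ne_zero Lib.Chars.natCard_ne_zero)]
  obtain ⟨e, he⟩ := Lib.Chars.isCharacter_classInner_nat
    (Lib.Chars.isCharacter_restrict N (Lib.Chars.irr_isCharacter χ₀.1)) (Lib.Chars.irr_isCharacter φ)
  have hr : (fun n : N => (Nat.card {u : G // u * u = (n : G)} : ℂ)) =
      fun n : N => (Nat.card {v : N // v * v = n} : ℂ) := by
    funext n
    refine congrArg Nat.cast (Nat.card_congr
      { toFun := fun u => ⟨⟨u.1, ?_⟩, Subtype.ext u.2⟩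
        invFun := fun v => ⟨v.1, congrArg Subtype.val v.2⟩
        left_inv := fun _ => rfl
        right_inv := fun _ => rfl })
    obtain ⟨m, hm⟩ := hodd
    have h := Lib.CharSums.pow_index_mem N u.1
    rw [hm, pow_succ, pow_mul, pow_two, u.2] at h
    exact (N.mul_mem_cancel_left (N.pow_mem n.2 m)).1 h
  have hleft : (fun n : N => (Nat.card {u : G // u * u = (n : G)} : ℂ)) =
      ∑ χ : Cfsg.IrrCharacter G, (starRingEnd ℂ) ((Nat.card G : ℂ)⁻¹ * ∑ t : G, (χ : G → ℂ) (t * t)) •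
        (fun n : N => (χ : G → ℂ) n) := by
    funext n
    rw [Lib.CharSums.card_sqrt_eq_sum]
    simp [Finset.sum_apply]
  have hright : (fun n : N => (Nat.card {v : N // v * v = n} : ℂ)) =
      ∑ ψ : Cfsg.IrrCharacter N, (starRingEnd ℂ) ((Nat.card N : ℂ)⁻¹ * ∑ t : N, (ψ : N → ℂ) (t * t)) •
        (ψ : N → ℂ) := by
    funext n
    rw [Lib.CharSums.card_sqrt_eq_sum]
    simp [Finset.sum_apply]
  have h := congrArg (fun f => Cfsg.classInner f (φ : ↥N → ℂ)) ((hleft.symm.trans hr).trans hright)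
  rw [Lib.Chars.classInner_sum_smul_irr, hφ, map_one, Lib.Chars.classInner_sum_left] at h
  simp only [Lib.Chars.classInner_smul_left] at h
  rw [Finset.sum_eq_single χ₀.1 ?_ (fun h => absurd (Finset.mem_univ _) h), he] at h
  · refine ⟨χ₀.1, ⟨?_, (hne _).2 hχ₀⟩, fun χ hχ => ?_⟩
    · -- the indicator of the real constituent
      have hν : (starRingEnd ℂ) ((Nat.card G : ℂ)⁻¹ * ∑ t : G, (χ₀.1 : G → ℂ) (t * t)) =
          (Nat.card G : ℂ)⁻¹ * ∑ t : G, (χ₀.1 : G → ℂ) (t * t) := by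
        rw [map_mul, map_inv₀, Complex.conj_natCast, map_sum]
        congr 1
        exact Finset.sum_congr rfl fun t _ => Complex.conj_eq_iff_im.2 (χ₀.2 _)
      rw [hν] at h
      have hint := Lib.CharSums.isIntegral_sum_sq χ₀.1
      have he0 : e ≠ 0 := by rintro rfl; simp at h
      rw [eq_div_iff (Nat.cast_ne_zero.2 he0) |>.2 h] at hint
      obtain rfl : e = 1 := Nat.dvd_one.1
        (Lib.Chars.dvd_of_isIntegral_div he0 (by simpa using hint))
      simpa using h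
    · have hreal := Lib.CharSums.im_eq_zero_of_sum_sq_ne_zero χ fun h0 => by simp [h0] at hχ
      exact congrArg Subtype.val (huniq ⟨χ, hreal⟩ ((hne χ).1 hχ.2))
  · intro χ _ hχ
    rcases eq_or_ne (∑ t : G, (χ : G → ℂ) (t * t)) 0 with h0 | h0
    · simp [h0]
    have hreal := Lib.CharSums.im_eq_zero_of_sum_sq_ne_zero χ h0
    by_contra hprod
    exact hχ (congrArg Subtype.val (huniq ⟨χ, hreal⟩ (mul_ne_zero_iff.1 hprod).2))

end Cfsg.Agent.S4873
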