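import Cfsg.Statements.S4885
import Cfsg.Agent.Lib.PrincipalKernel.Basic
import Mathlib

set_option autoImplicit false
open Cfsg

namespace Cfsg.Agent.S4885

open Cfsg.Agent.Lib

/-- Let p and q be primes dividing the order of the finite group G, and suppose G is p-solvable and q-solvable. Fix maximal ideals of the algebraic integers containing p and q, defining the principal p-block and the principal q-block. If the irreducible characters of degree prime to p in the principal p-block are exactly the irreducible characters of degree prime to q in the principal q-block, then p = q. -/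
theorem result {G : Type*} [Group G] [Finite G] (p q : ℕ) [Fact p.Prime] [Fact q.Prime] (hp : p ∣ Nat.card G) (hq : q ∣ Nat.card G) (hps : Cfsg.IsPSolvable p G) (hqs : Cfsg.IsPSolvable q G) (Mp Mq : Ideal Cfsg.AlgInt) (hMp : Cfsg.IsPModular p Mp) (hMq : Cfsg.IsPModular q Mq) (h : ∀ χ : Cfsg.IrrCharacter G, (χ ∈ Cfsg.principalBlock Mp G ∧ ¬ p ∣ Cfsg.charDegree (χ : G → ℂ)) ↔ (χ ∈ Cfsg.principalBlock Mq G ∧ ¬ q ∣ Cfsg.charDegree (χ : G → ℂ))) : p = q := by
  by_contra hne
  obtain ⟨K, hKn, hK, hKtop, hKL⟩ := Lib.PrincipalKernel.exists_kernel hMp hps hp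
  obtain ⟨K', hK'n, hK', -, hK'L⟩ := Lib.PrincipalKernel.exists_kernel hMq hqs hq
  have hKK : K = K' := Subgroup.ext fun x => by
    rw [hK, hK']
    exact forall_congr' fun χ => imp_congr (h χ) Iff.rfl
  subst hKK
  haveI := hKn
  haveI : Nontrivial (G ⧸ K) := by
    rw [← Finite.one_lt_card_iff_nontrivial, ← Subgroup.index_eq_card]
    exact Subgroup.one_lt_index_of_ne_top hKtop
  have h1 : Cfsg.pPrimeCore p (G ⧸ K) = ⊥ := Lib.PrincipalKernel.pPrimeCore_quotient_kernel K hKL
  have h2 : Cfsg.pPrimeCore q (G ⧸ K) = ⊥ := Lib.PrincipalKernel.pPrimeCore_quotient_kernel K hK'L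
  rcases Lib.PSolvable.pCore_ne_bot_or_pPrimeCore_ne_bot
    (Lib.PSolvable.isPSolvable_quotient hps K) with h3 | h3
  · haveI := Lib.PSolvable.pCore_characteristic (p := p) (G := G ⧸ K)
    obtain ⟨n, hn⟩ := IsPGroup.iff_card.1 (Lib.PSolvable.pCore_isPGroup (p := p) (G := G ⧸ K))
    exact h3 (le_bot_iff.1 (h2 ▸ Lib.PSolvable.le_pPrimeCore (by
      rw [hn]; exact Nat.Coprime.pow_left n ((Nat.coprime_primes Fact.out Fact.out).2 hne))))
  · exact h3 h1

end Cfsg.Agent.S4885
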