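import Cfsg.Statements.S4886
import Cfsg.Agent.Lib.PrincipalKernel.CommutingSylow
import Cfsg.Agent.Lib.Gaschutz
import Cfsg.Agent.Lib.MinimalNormal
import Mathlib

set_option autoImplicit false
open Cfsg

namespace Cfsg.Agent.S4886

open Cfsg.Agent.Lib
open scoped Classical Pointwise

universe u

/-- The degree hypothesis. -/
def Hyp (p q : ℕ) (M : Ideal Cfsg.AlgInt) (G : Type u) [Group G] : Prop :=
  ∀ χ : Cfsg.IrrCharacter G, χ ∈ Cfsg.principalBlock M G →
    ¬ p ∣ Cfsg.charDegree (χ : G → ℂ) → ¬ q ∣ Cfsg.charDegree (χ : G → ℂ)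

/-- A Sylow `q`-subgroup lies in `O_{p'}(G)`. -/
def Good (p q : ℕ) (G : Type u) [Group G] : Prop := ¬ q ∣ (Cfsg.pPrimeCore p G).index

variable {G : Type u} [Group G] [Finite G] {p q : ℕ} [Fact p.Prime] [Fact q.Prime]
  {M : Ideal Cfsg.AlgInt}

theorem charDegree_eq {χ : G → ℂ} {d : ℕ} (h : χ 1 = d) : Cfsg.charDegree χ = d := by
  rw [Cfsg.charDegree, h, Complex.natCast_re, Nat.floor_natCast]

theorem hyp_quotient (hM : Cfsg.IsPModular p M) (h : Hyp p q M G) (N : Subgroup G) [N.Normal] :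
    Hyp p q M (G ⧸ N) := by
  haveI := Blocks.isPModular_isPrime hM
  intro χ hχ hp'
  exact h (Chars.inflate N χ) (HeightPSolv.sameBlock_inflate N hχ) hp'

theorem good_of_quotient (N : Subgroup G) [N.Normal] (hN : (Nat.card N).Coprime p)
    (h : Good p q (G ⧸ N)) : Good p q G := by
  unfold Good at *
  rwa [← PSolvable.comap_pPrimeCore_quotient N hN,
    Subgroup.index_comap_of_surjective _ (QuotientGroup.mk'_surjective N)]

theorem pPrimeCore_eq_top (h : ¬ p ∣ Nat.card G) : Cfsg.pPrimeCore p G = ⊤ :=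
  top_le_iff.1 (PSolvable.le_pPrimeCore (by
    rw [Subgroup.card_top]; exact ((Fact.out : p.Prime).coprime_iff_not_dvd.2 h).symm))

theorem good_of_not_dvd (h : ¬ p ∣ Nat.card G) : Good p q G := by
  unfold Good
  rw [pPrimeCore_eq_top h, Subgroup.index_top]
  exact (Fact.out : q.Prime).not_dvd_one

theorem good_of_not_dvd' (h : ¬ q ∣ Nat.card G) : Good p q G :=
  fun h' => h (h'.trans (Subgroup.index_dvd_card _))

/-- The main step: trivial `p'`-core. -/
theorem no_trivial_core (hM : Cfsg.IsPModular p M) (hpq : p ≠ q) (hps : Cfsg.IsPSolvable p G)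
    (hqs : Cfsg.IsPSolvable q G) (hhyp : Hyp p q M G) (hcore : Cfsg.pPrimeCore p G = ⊥)
    (hpG : p ∣ Nat.card G) (hqG : q ∣ Nat.card G) (hgood : Good q p G)
    (hquot : ∀ N : Subgroup G, ∀ [N.Normal], N ≠ ⊥ → Good p q (G ⧸ N)) : False := by
  have hp : p.Prime := Fact.out
  have hq : q.Prime := Fact.out
  haveI := Blocks.isPModular_isPrime hM
  haveI := Fintype.ofFinite G
  haveI hcharp := PSolvable.pCore_characteristic (p := p) (G := G)
  haveI : Nontrivial G := by
    rw [← Finite.one_lt_card_iff_nontrivial]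
    exact lt_of_lt_of_le hp.one_lt (Nat.le_of_dvd Nat.card_pos hpG)
  have hpc : Cfsg.pCore p G ≠ ⊥ :=
    (PSolvable.pCore_ne_bot_or_pPrimeCore_ne_bot hps).resolve_right fun h => h hcore
  obtain ⟨N, hNn, hNne, hNle, hNmin⟩ := MinimalNormal.exists_minimal_normal_le
    (show (Cfsg.pCore p G).Normal by infer_instance) hpc
  haveI := hNn
  haveI := Fintype.ofFinite N
  have hNp : IsPGroup p N := PSolvable.pCore_isPGroup.to_le hNle
  haveI := hNp.isNilpotent
  obtain ⟨hNcomm, r, hr, hNexp⟩ := MinimalNormal.elementaryAbelian N hNne hNmin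
  haveI := hNcomm
  have hexp : ∀ x ∈ N, x ^ p = 1 := by
    intro x hx
    by_cases hx1 : x = 1
    · rw [hx1, one_pow]
    obtain ⟨j, hj⟩ := IsPGroup.iff_orderOf.1 hNp ⟨x, hx⟩
    rw [← Subgroup.orderOf_coe] at hj
    have h1 : orderOf x ∣ r := orderOf_dvd_of_pow_eq_one (hNexp x hx)
    have h2 : orderOf x = r := ((Nat.dvd_prime hr).1 h1).resolve_left (mt orderOf_eq_one_iff.1 hx1)
    have h3 : r ∣ p ^ j := h2 ▸ hj.dvd
    rw [← (Nat.prime_dvd_prime_iff_eq hr hp).1 (hr.dvd_of_dvd_pow h3), ← h2, pow_orderOf_eq_one]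
  -- the preimage of the core of the quotient
  haveI := PSolvable.pPrimeCore_characteristic (p := p) (G := G ⧸ N)
  let A : Subgroup G := (Cfsg.pPrimeCore p (G ⧸ N)).comap (QuotientGroup.mk' N)
  haveI : A.Normal := inferInstance
  have hNA : N ≤ A := QuotientGroup.le_comap_mk' N _
  have hAidx : ¬ q ∣ A.index := by
    rw [Subgroup.index_comap_of_surjective _ (QuotientGroup.mk'_surjective N)]
    exact hquot N hNne
  have hrel : Nat.card N * Nat.card (Cfsg.pPrimeCore p (G ⧸ N)) = Nat.card A := by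
    rw [show Nat.card A = _ from PSolvable.card_comap_mk' N _]
  let N' : Subgroup A := N.subgroupOf A
  have hN'card : Nat.card N' = Nat.card N := Nat.card_congr (Subgroup.subgroupOfEquivOfLe hNA).toEquiv
  have hN'idx : N'.index = Nat.card (Cfsg.pPrimeCore p (G ⧸ N)) := by
    have h1 := N'.card_mul_index
    rw [hN'card, ← hrel] at h1
    exact Nat.eq_of_mul_eq_mul_left Nat.card_pos h1
  have hN'cop : (Nat.card N').Coprime N'.index := by
    obtain ⟨k, hk⟩ := IsPGroup.iff_card.1 hNp
    rw [hN'card, hN'idx, hk]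
    exact Nat.Coprime.pow_left k (Nat.Coprime.symm PSolvable.pPrimeCore_coprime)
  haveI : IsMulCommutative N' := ⟨⟨fun a b => by
    have h : ((a : A) : G) * ((b : A) : G) = ((b : A) : G) * ((a : A) : G) :=
      congrArg Subtype.val (mul_comm' (⟨((a : A) : G), a.2⟩ : N) ⟨((b : A) : G), b.2⟩)
    exact Subtype.ext (Subtype.ext h)⟩⟩
  obtain ⟨H', hH'⟩ := Subgroup.exists_right_complement'_of_coprime hN'cop
  let H : Subgroup G := H'.map A.subtype
  have hHA : H ≤ A := Subgroup.map_subtype_le _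
  have hNH : ∀ x, x ∈ N → x ∈ H → x = 1 := by
    rintro x hxN ⟨h, hh, rfl⟩
    have h1 : h ∈ N' ⊓ H' := ⟨hxN, hh⟩
    rw [hH'.disjoint.eq_bot, Subgroup.mem_bot] at h1
    rw [h1, map_one]
  have hAdec : ∀ a ∈ A, ∃ n ∈ N, ∃ h ∈ H, a = n * h := by
    intro a ha
    obtain ⟨⟨⟨n, hn⟩, ⟨h, hh⟩⟩, he⟩ := hH'.2 ⟨a, ha⟩
    exact ⟨n, hn, h, Subgroup.mem_map_of_mem _ hh, (congrArg Subtype.val he).symm⟩
  have hHcard : ¬ p ∣ Nat.card H := by
    rw [Subgroup.card_map_of_injective A.subtype_injective]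
    have h1 := hH'.card_mul
    rw [hN'card, ← hrel] at h1
    rw [Nat.eq_of_mul_eq_mul_left Nat.card_pos h1]
    exact PSolvable.pPrimeCore_not_dvd
  -- the Frattini argument
  let Mg : Subgroup G := Subgroup.normalizer (H : Set G)
  have hGdec : ∀ g : G, ∃ n ∈ N, ∃ m ∈ Mg, g = n * m := by
    intro g
    let c : A ≃* A := MulAut.conjNormal g
    have hN'c : N'.map c.toMonoidHom = N' := Subgroup.ext fun x => by
      constructor
      · rintro ⟨y, hy, rfl⟩
        show (MulAut.conjNormal g y : G) ∈ N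
        rw [MulAut.conjNormal_apply]
        exact hNn.conj_mem _ hy g
      · intro hx
        refine ⟨c.symm x, ?_, c.apply_symm_apply x⟩
        show ((MulAut.conjNormal g).symm x : G) ∈ N
        rw [MulAut.conjNormal_symm_apply]
        simpa using hNn.conj_mem _ hx g⁻¹
    have h1 : Subgroup.IsComplement' N' (H'.map c.toMonoidHom) := by
      refine Subgroup.isComplement'_of_card_mul_and_disjoint ?_ ?_
      · rw [Subgroup.card_map_of_injective (f := c.toMonoidHom) c.injective, hH'.card_mul]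
      · rw [← hN'c]
        exact Subgroup.disjoint_map (f := c.toMonoidHom) c.injective hH'.disjoint
    obtain ⟨a, ha⟩ := Gaschutz.conj_complements (K := N') (U := N') le_rfl hN'cop
      (H'.map c.toMonoidHom) H' h1 hH' (by
        rw [inf_comm, h1.disjoint.eq_bot, inf_comm, hH'.disjoint.eq_bot])
    have hm : ((a : G) * g) ∈ Mg := by
      have hfwd : ∀ h ∈ H, (a : G) * g * h * ((a : G) * g)⁻¹ ∈ H := by
        rintro _ ⟨h, hh, rfl⟩
        refine ⟨MulAut.conj a (c h), ?_, ?_⟩
        · rw [← ha]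
          exact Subgroup.smul_mem_pointwise_smul _ _ _ (Subgroup.mem_map_of_mem _ hh)
        · show ((a : G) * (c h : G) * (a : G)⁻¹) = _
          rw [MulAut.conjNormal_apply]
          show _ = (a : G) * g * (h : G) * ((a : G) * g)⁻¹
          group
      have hf : Function.Injective (fun h : H => (⟨_, hfwd h h.2⟩ : H)) := fun x y h =>
        Subtype.ext (mul_left_cancel (mul_right_cancel (congrArg Subtype.val h)))
      rw [Subgroup.mem_normalizer_iff]
      refine fun n => ⟨hfwd n, fun hn => ?_⟩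
      obtain ⟨y, hy⟩ := hf.bijective_of_finite.2 ⟨_, hn⟩
      have : (y : G) = n := mul_left_cancel (mul_right_cancel (congrArg Subtype.val hy))
      rw [← this]
      exact y.2
    obtain ⟨n, hn, h, hh, hdec⟩ := hAdec ((a : G)⁻¹) (A.inv_mem a.2)
    refine ⟨n, hn, h * ((a : G) * g), Subgroup.mul_mem _ (Subgroup.le_normalizer hh) hm, ?_⟩
    rw [← mul_assoc, ← hdec, inv_mul_cancel_left]
  have hNM : ∀ x, x ∈ N → x ∈ Mg → x = 1 := by
    have hsub : (N ⊓ Mg).Normal := ⟨fun x hx g => by
      obtain ⟨n, hn, m, hm, rfl⟩ := hGdec g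
      have h1 : m * x * m⁻¹ ∈ N ⊓ Mg :=
        ⟨hNn.conj_mem x hx.1 m, Mg.mul_mem (Mg.mul_mem hm hx.2) (Mg.inv_mem hm)⟩
      rw [show n * m * x * (n * m)⁻¹ = n * (m * x * m⁻¹) * n⁻¹ by group,
        show n * (m * x * m⁻¹) = (m * x * m⁻¹) * n from congrArg Subtype.val
          (mul_comm' (⟨n, hn⟩ : N) ⟨_, h1.1⟩), mul_inv_cancel_right]
      exact h1⟩
    rcases hNmin _ hsub inf_le_left with h | h
    · exact fun x hx hx' => Subgroup.mem_bot.1 (h ▸ (⟨hx, hx'⟩ : x ∈ N ⊓ Mg))
    · exfalso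
      have hH1 : H = ⊥ := by
        have hHn : H.Normal := by
          refine Subgroup.normalizer_eq_top_iff.1 (eq_top_iff.2 fun g _ => ?_)
          obtain ⟨n, hn, m, hm, rfl⟩ := hGdec g
          have hn' : n ∈ Mg := ((h.symm ▸ hn) : n ∈ N ⊓ Mg).2
          exact Mg.mul_mem hn' hm
        haveI := hHn
        exact le_bot_iff.1 (hcore ▸ PSolvable.le_pPrimeCore (hp.coprime_iff_not_dvd.2 hHcard).symm)
      have hAN : A ≤ N := fun a ha => by
        obtain ⟨n, hn, h', hh', rfl⟩ := hAdec a ha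
        rw [hH1, Subgroup.mem_bot] at hh'
        rwa [hh', mul_one]
      rw [← A.card_mul_index] at hqG
      rcases hq.dvd_mul.1 hqG with h' | h'
      · obtain ⟨k, hk⟩ := IsPGroup.iff_card.1 hNp
        have := h'.trans (Subgroup.card_dvd_of_le hAN)
        rw [hk] at this
        exact hpq ((Nat.prime_dvd_prime_iff_eq hq hp).1 (hq.dvd_of_dvd_pow this)).symm
      · exact hAidx h'
  -- the projection
  let f : Mg →* G ⧸ N := (QuotientGroup.mk' N).comp Mg.subtype
  have hf : Function.Bijective f := by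
    refine ⟨(injective_iff_map_eq_one f).2 fun y hy =>
      Subtype.ext (hNM _ ((QuotientGroup.eq_one_iff _).1 hy) y.2), fun x => ?_⟩
    obtain ⟨g, rfl⟩ := QuotientGroup.mk_surjective x
    obtain ⟨n, hn, m, hm, rfl⟩ := hGdec g
    refine ⟨⟨m, hm⟩, ?_⟩
    show (QuotientGroup.mk' N) m = QuotientGroup.mk' N (n * m)
    rw [map_mul, show QuotientGroup.mk' N n = 1 from (QuotientGroup.eq_one_iff _).2 hn, one_mul]
  let π : G →* Mg := (MulEquiv.ofBijective f hf).symm.toMonoidHom.comp (QuotientGroup.mk' N)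
  have hπ : ∀ g : G, QuotientGroup.mk' N (π g : G) = QuotientGroup.mk' N g := fun g =>
    (MulEquiv.ofBijective f hf).apply_symm_apply _
  have hπM : ∀ m : Mg, π (m : G) = m := fun m => (MulEquiv.ofBijective f hf).symm_apply_apply m
  have hπs : Function.Surjective π := fun m => ⟨m, hπM m⟩
  have hπN : ∀ n ∈ N, π n = 1 := fun n hn => by
    show (MulEquiv.ofBijective f hf).symm (QuotientGroup.mk' N n) = 1
    rw [show QuotientGroup.mk' N n = 1 from (QuotientGroup.eq_one_iff _).2 hn, map_one]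
  have hnn : ∀ g : G, g * (π g : G)⁻¹ ∈ N := fun g => by
    rw [← QuotientGroup.eq_one_iff (N := N)]
    show QuotientGroup.mk' N (g * (π g : G)⁻¹) = 1
    rw [map_mul, map_inv, hπ, mul_inv_cancel]
  -- subgroups of the complement
  haveI := Fintype.ofFinite Mg
  have hHM : H ≤ Mg := Subgroup.le_normalizer
  let Hm : Subgroup Mg := H.subgroupOf Mg
  haveI hHmn : Hm.Normal := Subgroup.normal_in_normalizer
  have hHmp : ¬ p ∣ Nat.card Hm := by
    rw [Nat.card_congr (Subgroup.subgroupOfEquivOfLe hHM).toEquiv]; exact hHcard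
  have hAcomap : A = Hm.comap π := Subgroup.ext fun g => by
    constructor
    · intro hg
      obtain ⟨n, hn, h, hh, rfl⟩ := hAdec g hg
      rw [Subgroup.mem_comap, map_mul, hπN n hn, one_mul]
      show (π h : G) ∈ H
      rw [show π h = ⟨h, hHM hh⟩ from hπM ⟨h, hHM hh⟩]
      exact hh
    · intro hg
      have := A.mul_mem (hNA (hnn g)) (hHA (Subgroup.mem_subgroupOf.1 (Subgroup.mem_comap.1 hg)))
      rwa [inv_mul_cancel_right] at this
  have hHmq : ¬ q ∣ Hm.index := by
    rw [← Subgroup.index_comap_of_surjective _ hπs, ← hAcomap]; exact hAidx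
  haveI := PSolvable.pPrimeCore_characteristic (p := q) (G := G)
  let Bm : Subgroup Mg := (Cfsg.pPrimeCore q G).subgroupOf Mg
  haveI : Bm.Normal := Subgroup.normal_subgroupOf
  have hBm : (Nat.card Bm).Coprime q := by
    refine (PSolvable.pPrimeCore_coprime (p := q) (G := G)).coprime_dvd_left ?_
    rw [← Subgroup.card_map_of_injective Mg.subtype_injective]
    exact Subgroup.card_dvd_of_le (Subgroup.map_comap_le _ _)
  obtain ⟨P⟩ : Nonempty (Sylow p Mg) := inferInstance
  haveI := Fintype.ofFinite (P : Subgroup Mg)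
  have hPB : (P : Subgroup Mg) ≤ Bm := by
    intro x hx
    obtain ⟨j, hj⟩ := IsPGroup.iff_orderOf.1 P.isPGroup' ⟨x, hx⟩
    rw [← Subgroup.orderOf_coe] at hj
    have h1 : orderOf (QuotientGroup.mk' (Cfsg.pPrimeCore q G) (x : G)) ∣ p ^ j :=
      (orderOf_map_dvd _ _).trans (by rw [Subgroup.orderOf_coe]; exact hj.dvd)
    have h2 : orderOf (QuotientGroup.mk' (Cfsg.pPrimeCore q G) (x : G)) ∣ (Cfsg.pPrimeCore q G).index := by
      rw [Subgroup.index_eq_card]; exact orderOf_dvd_natCard _
    have h3 := Nat.eq_one_of_dvd_coprimes (Nat.Coprime.pow_left j (hp.coprime_iff_not_dvd.2 hgood)) h1 h2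
    rw [orderOf_eq_one_iff] at h3
    exact (QuotientGroup.eq_one_iff (N := Cfsg.pPrimeCore q G) (x : G)).1 h3
  obtain ⟨Q, hQH, hQ, hQidx, hPQ⟩ := PrincipalKernel.exists_commuting_sylow (q := q) Bm hBm
    (P : Subgroup Mg) P.isPGroup' hPB Hm hHmp (fun x _ n hn => hHmn.conj_mem n hn x)
  -- all characters lie in the principal block
  have hblock : ∀ χ : Cfsg.IrrCharacter G, χ ∈ Cfsg.principalBlock M G := fun χ =>
    HeightPSolv.sameBlock_of_centralizer_le hM (Cfsg.pCore p G) PSolvable.pCore_isPGroup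
      (PSolvable.centralizer_pCore_le_of_isPSolvable hps hcore) (Chars.trivialIrr G) χ
  -- invariant characters of `Hm` have degree prime to `q`
  have hθdeg : ∀ θ : Cfsg.IrrCharacter Hm, (∀ x ∈ (P : Subgroup Mg), CharSums.conjIrr Hm x θ = θ) →
      ¬ q ∣ Cfsg.charDegree (θ : Hm → ℂ) := by
    intro θ hθ
    haveI := Fintype.ofFinite Hm
    let S : Subgroup Mg := Hm ⊔ (P : Subgroup Mg)
    haveI := Fintype.ofFinite S
    have hHS : Hm ≤ S := le_sup_left
    let K : Subgroup S := Hm.subgroupOf S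
    haveI hKn : K.Normal := Subgroup.normal_subgroupOf
    haveI := Fintype.ofFinite K
    let e : K ≃* Hm := Subgroup.subgroupOfEquivOfLe hHS
    have he : ∀ k : K, ((e k : Hm) : Mg) = ((k : S) : Mg) := fun _ => rfl
    let θ' : K → ℂ := fun k => (θ : Hm → ℂ) (e k)
    have hθ' : Cfsg.IsIrrCharacter K θ' := Clifford.isIrrCharacter_comp_equiv e θ.2
    have hstab : ∀ s : S, ∀ k k' : Hm, (k' : Mg) = (s : Mg) * k * (s : Mg)⁻¹ →
        (θ : Hm → ℂ) k' = (θ : Hm → ℂ) k := by
      rintro ⟨s, hs⟩ k k' hk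
      obtain ⟨h, hh, x, hx, rfl⟩ := Subgroup.mem_sup_of_normal_left.1 hs
      have h1 : (θ : Hm → ℂ) ⟨x * k * x⁻¹, hHmn.conj_mem _ k.2 x⟩ = (θ : Hm → ℂ) k :=
        (CharSums.conjIrr_eq_iff Hm x θ θ).1 (hθ x hx) k _ rfl
      rw [← h1, ← Chars.irr_isClassFunction θ ⟨x * k * x⁻¹, hHmn.conj_mem _ k.2 x⟩ ⟨h, hh⟩]
      refine congrArg (θ : Hm → ℂ) (Subtype.ext ?_)
      rw [hk]
      show (h * x) * (k : Mg) * (h * x)⁻¹ = h * (x * (k : Mg) * x⁻¹) * h⁻¹
      group
    have hinv : ∀ (s : S) (n : K), θ' ⟨s * n * s⁻¹, hKn.conj_mem (n : S) n.2 s⟩ = θ' n := fun s n =>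
      hstab s _ _ rfl
    obtain ⟨d, hd0, hd, hddvd⟩ := Chars.irr_degree_dvd_card θ
    have hθ1 : θ' 1 = d := by simp only [θ', map_one, hd]
    obtain ⟨δ, hδ⟩ := Clifford.exists_detHom hθ'
    have hδinv : ∀ (s : S) (n : K), δ ⟨s * n * s⁻¹, hKn.conj_mem (n : S) n.2 s⟩ = δ n := by
      intro s n
      obtain ⟨k, ρ, hρ, hρc⟩ := hθ'
      let c : K ≃* K := MulAut.conjNormal s
      let ρ' : Representation ℂ K (Fin k → ℂ) := ρ.comp c.toMonoidHom
      have hch : ρ.character = ρ'.character := by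
        funext y
        show _ = ρ.character (c y)
        rw [hρc]
        exact (hinv s y).symm.trans (congrArg θ' (Subtype.ext (MulAut.conjNormal_apply s y).symm))
      haveI := hρ
      obtain ⟨ee⟩ := Clifford.equiv_of_char_eq ρ ρ' hch
      have hdet : ∀ y, (δ y : ℂ) = LinearMap.det (ρ y) := fun y => by
        have h1 := congrFun hδ y
        rw [← hρc, Clifford.detChar_character ρ ⟨k, ρ, rfl⟩] at h1
        exact h1.symm
      apply Units.ext
      rw [hdet, hdet, show (⟨s * n * s⁻¹, hKn.conj_mem (n : S) n.2 s⟩ : K) = c n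
        from Subtype.ext (MulAut.conjNormal_apply s n).symm]
      exact (Clifford.det_equiv ee n).symm
    obtain ⟨a, ha⟩ : ∃ a, K.index = p ^ a := by
      obtain ⟨a, ha⟩ := IsPGroup.iff_card.1 P.isPGroup'
      have hdiv : K.index ∣ p ^ a := by
        show Hm.relIndex S ∣ p ^ a
        rw [← ha, show S = (P : Subgroup Mg) ⊔ Hm from sup_comm _ _, Subgroup.relIndex_sup_right]
        exact Subgroup.relIndex_dvd_card _ _
      obtain ⟨b, -, hb⟩ := (Nat.dvd_prime_pow hp).1 hdiv
      exact ⟨b, hb⟩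
    have hKp : ¬ p ∣ Nat.card K := by rw [Nat.card_congr e.toEquiv]; exact hHmp
    obtain ⟨μ, hμ, -⟩ := Clifford.exists_linear_extension_coprime δ hδinv
      (ha ▸ Nat.Coprime.pow_left a (hp.coprime_iff_not_dvd.2 fun h => hKp (h.trans
        (orderOf_dvd_of_pow_eq_one (MonoidHom.ext fun k => by
          rw [MonoidHom.pow_apply, ← map_pow, pow_card_eq_one', map_one, MonoidHom.one_apply])))))
    obtain ⟨χS, hχS, hext, -⟩ := Clifford.exists_char_extension hθ' hinv hθ1
      (ha ▸ Nat.Coprime.pow_left a (hp.coprime_iff_not_dvd.2 fun h => hHmp (h.trans hddvd))) μ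
      (fun n => by rw [hμ, hδ])
    let χS' : Cfsg.IrrCharacter S := ⟨χS, hχS⟩
    obtain ⟨n, hn⟩ := Chars.isCharacter_exists_nat_decomp
      (Chars.isCharacter_indFun S (Chars.irr_isCharacter χS'))
    choose D hD0 hD using fun φ : Cfsg.IrrCharacter Mg => Chars.isIrrCharacter_exists_degree_pos φ.2
    obtain ⟨φ, hφp, hφn⟩ : ∃ φ, ¬ p ∣ D φ ∧ n φ ≠ 0 := by
      by_contra! h
      have h1 := congrFun hn 1
      rw [Chars.indFun_one_eq, show (χS' : S → ℂ) 1 = d from (hext 1).trans hθ1] at h1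
      simp only [Finset.sum_apply, Pi.smul_apply, smul_eq_mul, hD] at h1
      have h2 : S.index * d = ∑ φ, n φ * D φ := by exact_mod_cast h1
      have h3 : p ∣ S.index * d := h2 ▸ Finset.dvd_sum fun φ _ => by
        by_cases hd' : p ∣ D φ
        · exact dvd_mul_of_dvd_right hd' _
        · rw [h φ hd', zero_mul]; exact dvd_zero p
      rcases hp.dvd_mul.1 h3 with h3 | h3
      · exact P.not_dvd_index (h3.trans (Subgroup.index_dvd_of_le le_sup_right))
      · exact hHmp (h3.trans hddvd)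
    let χG : Cfsg.IrrCharacter G := ⟨fun g => (φ : Mg → ℂ) (π g),
      Chars.isIrrCharacter_comp_surjective π hπs φ.2⟩
    have hχd : Cfsg.charDegree (χG : G → ℂ) = D φ := charDegree_eq (by
      show (φ : Mg → ℂ) (π 1) = _; rw [map_one, hD])
    have hqD : ¬ q ∣ D φ := hχd ▸ hhyp χG (hblock χG) (hχd.symm ▸ hφp)
    -- `θ` lies below `φ`
    obtain ⟨m, hm⟩ := Chars.isCharacter_exists_nat_decomp
      (Chars.isCharacter_restrict S (Chars.irr_isCharacter φ))
    have hmS : m χS' ≠ 0 := by
      intro h0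
      have h1 := Chars.classInner_indFun_left S (χS' : S → ℂ) _ (Chars.irr_isClassFunction φ)
      rw [hn, Chars.classInner_sum_smul_irr, ← Chars.conj_classInner, hm,
        Chars.classInner_sum_smul_irr, h0, Nat.cast_zero, map_zero, Nat.cast_eq_zero] at h1
      exact hφn h1
    have hnat : ∀ δ' : Cfsg.IrrCharacter S, ∃ j : ℕ,
        Cfsg.classInner (fun k : K => (δ' : S → ℂ) k) θ' = j := fun δ' =>
      Chars.isCharacter_classInner_nat (Chars.isCharacter_restrict K (Chars.irr_isCharacter δ'))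
        (Chars.isCharacter_of_isIrrCharacter hθ')
    choose j hj using hnat
    have hj1 : j χS' = 1 := by
      have h := hj χS'
      rw [show (fun k : K => (χS' : S → ℂ) k) = θ' from funext hext,
        Chars.classInner_irr_self ⟨θ', hθ'⟩] at h
      exact_mod_cast h.symm
    have hin : Cfsg.classInner (Clifford.resFun Hm (φ : Mg → ℂ)) (θ : Hm → ℂ) ≠ 0 := by
      rw [← Clifford.classInner_comp_equiv e]
      have hdec : (fun k : K => Clifford.resFun Hm (φ : Mg → ℂ) (e k)) =
          ∑ δ' : Cfsg.IrrCharacter S, (m δ' : ℂ) • fun k : K => (δ' : S → ℂ) k := by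
        funext k
        have := congrFun hm (k : S)
        simpa [Clifford.resFun, he] using this
      rw [hdec, Chars.classInner_sum_left]
      simp only [Chars.classInner_smul_left]
      rw [Finset.sum_congr rfl (g := fun δ' => ((m δ' * j δ' : ℕ) : ℂ))
        (fun δ' _ => by rw [hj δ', Nat.cast_mul]), ← Nat.cast_sum, Nat.cast_ne_zero]
      refine (Nat.lt_of_lt_of_le (Nat.pos_of_ne_zero ?_)
        (Finset.single_le_sum (f := fun δ' => m δ' * j δ') (fun _ _ => Nat.zero_le _)
          (Finset.mem_univ χS'))).ne'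
      rw [hj1, mul_one]
      exact hmS
    let T : Subgroup Mg :=
      { carrier := {g | Clifford.conjFun g (θ : Hm → ℂ) = θ}
        one_mem' := Clifford.conjFun_one _
        mul_mem' := fun {a b} ha hb => by
          show Clifford.conjFun (a * b) _ = _
          rw [Clifford.conjFun_mul, show Clifford.conjFun a _ = _ from ha]
          exact hb
        inv_mem' := fun {a} ha => by
          show Clifford.conjFun a⁻¹ _ = _
          conv_lhs => rw [← show Clifford.conjFun a _ = (θ : Hm → ℂ) from ha]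
          rw [← Clifford.conjFun_mul, mul_inv_cancel, Clifford.conjFun_one] }
    have hdeg := Clifford.apply_one_eq φ.2 θ.2 hin T (fun _ => Iff.rfl)
    obtain ⟨k, hk⟩ := Chars.isCharacter_classInner_nat
      (Chars.isCharacter_restrict Hm (Chars.irr_isCharacter φ)) (Chars.irr_isCharacter θ)
    rw [show Clifford.resFun Hm (φ : Mg → ℂ) = fun x : Hm => (φ : Mg → ℂ) x from rfl, hk, hD, hd] at hdeg
    have h1 : D φ = k * (T.index * d) := by exact_mod_cast hdeg
    rw [charDegree_eq hd]
    exact fun h => hqD (h1 ▸ dvd_mul_of_dvd_right (dvd_mul_of_dvd_right h _) _)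
  -- `Q` is normal in the centraliser
  have hQnorm := PrincipalKernel.conj_mem_of_invariant_degrees (p := p) (q := q) Mg
    (PSolvable.isPSolvable_subgroup hqs Mg) Hm Bm (P : Subgroup Mg) Q hHmp hBm P.isPGroup' hPB hθdeg
    hQ hQH hQidx hPQ
  -- linear characters of `N`
  let W := N →* ℂˣ
  haveI : Finite W := Finite.of_equiv _ Chars.linearEquivHom.symm
  let cN : Mg → N →* N := fun m => (MulAut.conjNormal (m : G) : N ≃* N).toMonoidHom
  have hcN : ∀ m n, cN m n = MulAut.conjNormal (m : G) n := fun _ _ => rfl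
  have hconj : ∀ (a b : G) (n : N),
      MulAut.conjNormal (a * b) n = MulAut.conjNormal a (MulAut.conjNormal b n) := fun a b n => by
    rw [map_mul, MulAut.mul_apply]
  have hfixQ : ∀ l : W, (∀ x ∈ (P : Subgroup Mg), l.comp (cN x) = l) → ∀ y ∈ Q, l.comp (cN y) = l := by
    intro l hl
    let Tg : Subgroup G :=
      { carrier := {g | ∀ n : N, l (MulAut.conjNormal g n) = l n}
        one_mem' := fun n => by simp
        mul_mem' := fun {a b} ha hb n => by rw [hconj, ha, hb]
        inv_mem' := fun {a} ha n => by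
          conv_rhs => rw [show n = MulAut.conjNormal a (MulAut.conjNormal a⁻¹ n) from by
            rw [← hconj, mul_inv_cancel, map_one, MulAut.one_apply]]
          rw [ha] }
    have hNT : N ≤ Tg := fun g hg n => by
      have : MulAut.conjNormal g n = n := Subtype.ext (by
        rw [MulAut.conjNormal_apply]
        exact mul_inv_eq_iff_eq_mul.2 (congrArg Subtype.val (mul_comm' (⟨g, hg⟩ : N) n)))
      rw [this]
    have hπT : ∀ g ∈ Tg, (π g : G) ∈ Tg := fun g hg => by
      have h := Tg.mul_mem (Tg.inv_mem (hNT (hnn g))) hg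
      rwa [mul_inv_rev, inv_inv, inv_mul_cancel_right] at h
    haveI := Fintype.ofFinite Tg
    let nn : G → N := fun g => ⟨g * (π g : G)⁻¹, hnn g⟩
    let η : Tg →* ℂˣ :=
      { toFun := fun g => l (nn g)
        map_one' := by
          rw [show nn ((1 : Tg) : G) = 1 from Subtype.ext (by simp [nn]), map_one]
        map_mul' := fun g h => by
          have h1 : nn ((g * h : Tg) : G) = nn g * MulAut.conjNormal (π g : G) (nn h) := by
            refine Subtype.ext ?_
            simp only [nn, map_mul, Subgroup.coe_mul, MulAut.conjNormal_apply, mul_inv_rev]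
            group
          rw [h1, map_mul, hπT g g.2] }
    have hres : Clifford.resTo hNT (fun t : Tg => (η t : ℂ)) = fun n : N => (l n : ℂ) := by
      funext n
      show (l (nn (n : G)) : ℂ) = _
      rw [show nn (n : G) = n from Subtype.ext (by simp [nn, hπN n n.2])]
    have hiff : ∀ g, g ∈ Tg ↔
        Clifford.conjFun g (fun n : N => (l n : ℂ)) = fun n : N => (l n : ℂ) := by
      intro g
      constructor
      · intro h
        funext n
        exact congrArg Units.val ((congrArg l (Subtype.ext (MulAut.conjNormal_apply g n).symm)).trans (h n))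
      · intro h n
        refine Units.ext ((congrArg (fun m => (l m : ℂ)) (Subtype.ext ?_)).trans (congrFun h n))
        exact MulAut.conjNormal_apply g n
    let χ : Cfsg.IrrCharacter G := ⟨Cfsg.indFun Tg (fun t : Tg => (η t : ℂ)),
      Clifford.isIrrCharacter_indFun_inertia (Chars.isIrrCharacter_of_hom l) hiff hNT
        (Chars.isIrrCharacter_of_hom η) (by
          rw [hres]; exact (Chars.classInner_irr_self (Chars.linIrr l)).symm ▸ one_ne_zero)⟩
    have hχd : Cfsg.charDegree (χ : G → ℂ) = Tg.index := charDegree_eq (by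
      show Cfsg.indFun Tg (fun t : Tg => (η t : ℂ)) 1 = _
      rw [Chars.indFun_one_eq, map_one, Units.val_one, mul_one])
    let T : Subgroup Mg := Tg.subgroupOf Mg
    have hTcomap : Tg = T.comap π := Subgroup.ext fun g => by
      constructor
      · exact hπT g
      · intro h
        have := Tg.mul_mem (hNT (hnn g)) (Subgroup.mem_subgroupOf.1 (Subgroup.mem_comap.1 h))
        rwa [inv_mul_cancel_right] at this
    have hidx : Tg.index = T.index := by
      rw [hTcomap, Subgroup.index_comap_of_surjective _ hπs]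
    have hPT : (P : Subgroup Mg) ≤ T := fun x hx n => DFunLike.congr_fun (hl x hx) n
    have hTp : ¬ p ∣ T.index := fun h => P.not_dvd_index (h.trans (Subgroup.index_dvd_of_le hPT))
    have hTq : ¬ q ∣ T.index := by
      have h := hhyp χ (hblock χ) (by rw [hχd, hidx]; exact hTp)
      rwa [hχd, hidx] at h
    obtain ⟨Q₂, hQ₂I, hQ₂, hQ₂idx, hPQ₂⟩ := PrincipalKernel.exists_commuting_sylow (q := q) Bm hBm
      (P : Subgroup Mg) P.isPGroup' hPB (T ⊓ Hm) (fun h => hHmp (h.trans (Subgroup.card_dvd_of_le inf_le_right)))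
      (fun x hx n hn => ⟨T.mul_mem (T.mul_mem (hPT hx) hn.1) (T.inv_mem (hPT hx)),
        hHmn.conj_mem n hn.2 x⟩)
    let C : Subgroup Mg := Hm ⊓ Subgroup.centralizer ((P : Subgroup Mg) : Set Mg)
    have hQC : Q ≤ C := fun z hz => ⟨hQH hz, Subgroup.mem_centralizer_iff.2 fun x hx => hPQ x hx z hz⟩
    have hQ₂C : Q₂ ≤ C := fun z hz =>
      ⟨(hQ₂I hz).2, Subgroup.mem_centralizer_iff.2 fun x hx => hPQ₂ x hx z hz⟩
    obtain ⟨c, hc, hconjQ⟩ := PrincipalKernel.exists_conj_mem (q := q) (C := C) (Q := Q) hQC hQ₂C hQ hQ₂ (by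
      intro h
      have h1 : Q₂.relIndex C ∣ Q₂.relIndex Hm :=
        Dvd.intro _ (Subgroup.relIndex_mul_relIndex Q₂ C Hm hQ₂C inf_le_left)
      rw [← Subgroup.relIndex_mul_relIndex Q₂ (T ⊓ Hm) Hm hQ₂I inf_le_right] at h1
      rcases hq.dvd_mul.1 (h.trans h1) with h | h
      · exact hQ₂idx h
      · rw [Subgroup.inf_relIndex_right] at h
        refine hTq ?_
        -- relative indices in a normal subgroup divide the index
        have h2 : (T.subgroupOf Hm).index * Hm.index = (T ⊓ Hm).index := by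
          have := Subgroup.relIndex_mul_index (inf_le_right : T ⊓ Hm ≤ Hm)
          rwa [Subgroup.inf_relIndex_right] at this
        have h3 : T.index ∣ (T ⊓ Hm).index := Subgroup.index_dvd_of_le inf_le_left
        have h4 : (T ⊓ Hm).index = Hm.relIndex T * T.index := by
          have := Subgroup.relIndex_mul_index (inf_le_left : T ⊓ Hm ≤ T)
          rwa [Subgroup.inf_relIndex_left, eq_comm] at this
        have h5 : Hm.relIndex T ∣ Hm.index := Subgroup.relIndex_dvd_index_of_normal Hm T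
        have h6 : q ∣ (T ⊓ Hm).index := h2 ▸ dvd_mul_of_dvd_left h _
        rw [h4] at h6
        exact (hq.dvd_mul.1 h6).resolve_left fun h7 => hHmq (h7.trans h5))
    have hcP : ∀ x ∈ (P : Subgroup Mg), x * c = c * x := fun x hx =>
      Subgroup.mem_centralizer_iff.1 hc.2 x hx
    intro y hy
    -- every element of `Q` is a conjugate of one
    let σ : Q → Q := fun z => ⟨c * z * c⁻¹, hQnorm c hc.1 hcP z z.2⟩
    have hσ : Function.Injective σ := fun a b h =>
      Subtype.ext (mul_left_cancel (mul_right_cancel (congrArg Subtype.val h)))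
    obtain ⟨z, hz⟩ := hσ.bijective_of_finite.2 ⟨y, hy⟩
    have hyT : y ∈ T := by
      rw [← show c * (z : Mg) * c⁻¹ = y from congrArg Subtype.val hz]
      exact (hQ₂I (hconjQ z z.2)).1
    exact MonoidHom.ext fun n => hyT n
  -- the norm map is injective
  haveI := Fintype.ofFinite Q
  let E : W →* W :=
    { toFun := fun l => ∏ x : Q, l.comp (cN x)
      map_one' := Finset.prod_eq_one fun x _ => MonoidHom.one_comp _
      map_mul' := fun a b => by
        rw [← Finset.prod_mul_distrib]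
        exact Finset.prod_congr rfl fun x _ => MonoidHom.mul_comp _ _ _ }
  have hcmp : ∀ (l : W) (a b : Mg), (l.comp (cN a)).comp (cN b) = l.comp (cN (a * b)) := fun l a b =>
    MonoidHom.ext fun n => by
      simp only [MonoidHom.comp_apply, hcN, Subgroup.coe_mul, hconj]
  have hW : IsPGroup p W := fun l => ⟨1, MonoidHom.ext fun n => by
    rw [pow_one, MonoidHom.pow_apply, ← map_pow, show n ^ p = 1 from Subtype.ext (by simpa using hexp _ n.2),
      map_one, MonoidHom.one_apply]⟩
  have hEker : ∀ l, E l = 1 → l = 1 := by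
    by_contra! hex
    obtain ⟨l₀, hl₀, hl₀1⟩ := hex
    have hmem : ∀ (x : (P : Subgroup Mg)) (l : W), E l = 1 → E (l.comp (cN ((x : Mg)⁻¹))) = 1 := by
      intro x l hl
      have : E (l.comp (cN ((x : Mg)⁻¹))) = (E l).comp (cN ((x : Mg)⁻¹)) := by
        refine MonoidHom.ext fun n => ?_
        show (∏ y : Q, (l.comp (cN ((x : Mg)⁻¹))).comp (cN y)) n = (∏ y : Q, l.comp (cN y)) (cN (x : Mg)⁻¹ n)
        rw [MonoidHom.finsetProd_apply, MonoidHom.finsetProd_apply]
        refine Finset.prod_congr rfl fun y _ => ?_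
        rw [hcmp, MonoidHom.comp_apply, ← MonoidHom.comp_apply (f := cN ((x : Mg)⁻¹)) (g := l.comp (cN y)),
          hcmp, MonoidHom.comp_apply]
        have hc : (x : Mg) * y = y * x := hPQ x x.2 y y.2
        rw [show ((x : Mg)⁻¹ * y) = (y : Mg) * (x : Mg)⁻¹ from (Commute.inv_left hc).eq]
      rw [this, hl, MonoidHom.one_comp]
    let K := {l : W // E l = 1}
    letI : MulAction (P : Subgroup Mg) K :=
      { smul := fun x l => ⟨l.1.comp (cN ((x : Mg)⁻¹)), hmem x l.1 l.2⟩
        one_smul := fun l => Subtype.ext (MonoidHom.ext fun n => by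
          show l.1 (cN ((1 : (P : Subgroup Mg)) : Mg)⁻¹ n) = _
          rw [hcN]; simp)
        mul_smul := fun a b l => Subtype.ext (by
          show l.1.comp _ = (l.1.comp _).comp _
          rw [hcmp, Subgroup.coe_mul, mul_inv_rev]) }
    have hKcard : p ∣ Nat.card K := by
      haveI : Nontrivial (MonoidHom.ker E) := by
        rw [Subgroup.nontrivial_iff_ne_bot]
        exact fun h => hl₀1 (Subgroup.mem_bot.1 (h ▸ (MonoidHom.mem_ker.2 hl₀)))
      obtain ⟨k, hk⟩ := IsPGroup.iff_card.1 (hW.to_subgroup (MonoidHom.ker E))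
      have hk0 : k ≠ 0 := fun h => by
        rw [h, pow_zero] at hk; exact Finite.one_lt_card.ne' hk
      rw [show Nat.card K = Nat.card (MonoidHom.ker E) from rfl, hk]
      exact dvd_pow_self p hk0
    obtain ⟨l, hlfix, hlne⟩ := P.isPGroup'.exists_fixed_point_of_prime_dvd_card_of_fixed_point K hKcard
      (a := (⟨1, map_one E⟩ : K)) (fun x => Subtype.ext (MonoidHom.one_comp _))
    have hl' : ∀ x ∈ (P : Subgroup Mg), l.1.comp (cN x) = l.1 := fun x hx => by
      have := congrArg Subtype.val (hlfix (⟨x, hx⟩⁻¹ : (P : Subgroup Mg)))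
      change l.1.comp (cN ((((⟨x, hx⟩⁻¹ : (P : Subgroup Mg))) : Mg)⁻¹)) = l.1 at this
      rwa [Subgroup.coe_inv, inv_inv] at this
    have hpow : l.1 ^ Nat.card Q = 1 := by
      have hEl : E l.1 = l.1 ^ Nat.card Q := by
        show ∏ y : Q, l.1.comp (cN y) = _
        rw [Finset.prod_congr rfl (fun (y : Q) _ => hfixQ l.1 hl' y y.2), Finset.prod_const,
          Finset.card_univ, Nat.card_eq_fintype_card]
      rw [← hEl, l.2]
    obtain ⟨j, hj⟩ := IsPGroup.iff_orderOf.1 hW l.1
    obtain ⟨i, hi⟩ := IsPGroup.iff_card.1 hQ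
    have : orderOf l.1 = 1 := Nat.eq_one_of_dvd_coprimes
      (Nat.Coprime.pow j i ((Nat.coprime_primes hp hq).2 hpq)) hj.dvd
      (hi ▸ orderOf_dvd_of_pow_eq_one hpow)
    exact hlne (Subtype.ext (orderOf_eq_one_iff.1 this).symm)
  have hQfix : ∀ y ∈ Q, ∀ n : N, (y : G) * (n : G) = (n : G) * (y : G) := by
    intro y hy n
    have hW1 : ∀ l : W, l.comp (cN y) = l := by
      intro l
      have h1 : E (l.comp (cN y)) = E l := by
        show ∏ x : Q, (l.comp (cN y)).comp (cN x) = ∏ x : Q, l.comp (cN x)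
        exact Fintype.prod_equiv (Equiv.mulLeft (⟨y, hy⟩ : Q)) _ _ fun x => hcmp l y x
      exact div_eq_one.1 (hEker _ (by rw [map_div, h1, div_self']))
    by_contra hne
    letI : CommGroup N := { (inferInstance : Group N) with mul_comm := fun a b => mul_comm' a b }
    have hne1 : MulAut.conjNormal (y : G) n / n ≠ 1 := fun h => hne (by
      have := congrArg Subtype.val (div_eq_one.1 h)
      rw [MulAut.conjNormal_apply] at this
      exact mul_inv_eq_iff_eq_mul.1 this)
    obtain ⟨l, hl⟩ := CommGroup.exists_apply_ne_one_of_hasEnoughRootsOfUnity N ℂ hne1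
    refine hl ?_
    rw [map_div, div_eq_one]
    exact DFunLike.congr_fun (hW1 l) n
  -- so `Q` is trivial
  let Z : Subgroup G := H ⊓ Subgroup.centralizer (N : Set G)
  haveI hZ : Z.Normal := ⟨fun z hz g => by
    obtain ⟨n, hn, m, hm, rfl⟩ := hGdec g
    have h1 : m * z * m⁻¹ ∈ Z := ⟨(Subgroup.mem_normalizer_iff.1 hm z).1 hz.1,
      (Subgroup.normal_centralizer (H := N)).conj_mem z hz.2 m⟩
    rw [show n * m * z * (n * m)⁻¹ = n * (m * z * m⁻¹) * n⁻¹ by group,
      Subgroup.mem_centralizer_iff.1 h1.2 n hn, mul_inv_cancel_right]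
    exact h1⟩
  have hZbot : Z = ⊥ := le_bot_iff.1 (hcore ▸ PSolvable.le_pPrimeCore
    ((hp.coprime_iff_not_dvd.2 fun h => hHcard (h.trans (Subgroup.card_dvd_of_le inf_le_left))).symm))
  have hQbot : Q = ⊥ := (Subgroup.eq_bot_iff_forall Q).2 fun y hy => by
    have h1 : (y : G) ∈ Z := ⟨hQH hy, Subgroup.mem_centralizer_iff.2 fun n hn => (hQfix y hy ⟨n, hn⟩).symm⟩
    rw [hZbot, Subgroup.mem_bot] at h1
    exact Subtype.ext h1
  apply hQidx
  rw [hQbot, Subgroup.relIndex_bot_left]
  have h1 : q ∣ Nat.card Mg := by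
    rw [← Subgroup.card_mul_index N, Subgroup.index_eq_card,
      ← Nat.card_congr (MulEquiv.ofBijective f hf).toEquiv] at hqG
    refine (hq.dvd_mul.1 hqG).resolve_left fun h => ?_
    obtain ⟨k, hk⟩ := IsPGroup.iff_card.1 hNp
    rw [hk] at h
    exact hpq ((Nat.prime_dvd_prime_iff_eq hq hp).1 (hq.dvd_of_dvd_pow h)).symm
  rw [← Hm.card_mul_index] at h1
  exact (hq.dvd_mul.1 h1).resolve_right hHmq

/-- Both Sylow subgroups lie in the cores. -/
theorem good_both {Mp Mq : Ideal Cfsg.AlgInt} (hMp : Cfsg.IsPModular p Mp)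
    (hMq : Cfsg.IsPModular q Mq) (hpq : p ≠ q) : ∀ (G : Type u) [Group G] [Finite G],
    Cfsg.IsPSolvable p G → Cfsg.IsPSolvable q G → Hyp p q Mp G → Hyp q p Mq G →
    Good p q G ∧ Good q p G := by
  intro G
  induction hn : Nat.card G using Nat.strong_induction_on generalizing G with
  | _ n ih => ?_
  subst hn
  intro _ _ hps hqs hp' hq'
  by_cases hpG : p ∣ Nat.card G
  swap
  · exact ⟨good_of_not_dvd hpG, good_of_not_dvd' hpG⟩
  by_cases hqG : q ∣ Nat.card G
  swap
  · exact ⟨good_of_not_dvd' hqG, good_of_not_dvd hqG⟩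
  have hquot : ∀ N : Subgroup G, ∀ [N.Normal], N ≠ ⊥ → Good p q (G ⧸ N) ∧ Good q p (G ⧸ N) := by
    intro N _ hN
    refine ih _ ?_ (G ⧸ N) rfl (PSolvable.isPSolvable_quotient hps N) (PSolvable.isPSolvable_quotient hqs N)
      (hyp_quotient hMp hp' N) (hyp_quotient hMq hq' N)
    rw [← Subgroup.index_eq_card, ← N.card_mul_index]
    exact lt_mul_of_one_lt_left (Nat.pos_of_ne_zero Subgroup.index_ne_zero_of_finite)
      ((Subgroup.one_lt_card_iff_ne_bot N).2 hN)
  haveI := PSolvable.pPrimeCore_characteristic (p := p) (G := G)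
  haveI := PSolvable.pPrimeCore_characteristic (p := q) (G := G)
  by_cases hA : Cfsg.pPrimeCore p G = ⊥
  · by_cases hB : Cfsg.pPrimeCore q G = ⊥
    · exfalso
      haveI : Nontrivial G := by
        rw [← Finite.one_lt_card_iff_nontrivial]
        exact lt_of_lt_of_le (Fact.out : p.Prime).one_lt (Nat.le_of_dvd Nat.card_pos hpG)
      haveI := PSolvable.pCore_characteristic (p := p) (G := G)
      have h := (PSolvable.pCore_ne_bot_or_pPrimeCore_ne_bot hps).resolve_right fun h => h hA
      obtain ⟨k, hk⟩ := IsPGroup.iff_card.1 (PSolvable.pCore_isPGroup (p := p) (G := G))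
      refine h (le_bot_iff.1 (hB ▸ PSolvable.le_pPrimeCore ?_))
      rw [hk]
      exact Nat.Coprime.pow_left k ((Nat.coprime_primes Fact.out Fact.out).2 hpq)
    · have hgq : Good q p G := good_of_quotient _ PSolvable.pPrimeCore_coprime (hquot _ hB).2
      exact (no_trivial_core hMp hpq hps hqs hp' hA hpG hqG hgq
        (fun N _ hN => (hquot N hN).1)).elim
  · have hgp : Good p q G := good_of_quotient _ PSolvable.pPrimeCore_coprime (hquot _ hA).1
    by_cases hB : Cfsg.pPrimeCore q G = ⊥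
    · exact (no_trivial_core hMq hpq.symm hqs hps hq' hB hqG hpG hgp
        (fun N _ hN => (hquot N hN).2)).elim
    · exact ⟨hgp, good_of_quotient _ PSolvable.pPrimeCore_coprime (hquot _ hB).2⟩

/-- From the cores to commuting Sylow subgroups. -/
theorem exists_commuting (hA : Good p q G) (hB : Good q p G) :
    ∃ (P : Sylow p G) (Q : Sylow q G), ∀ x ∈ (P : Subgroup G), ∀ y ∈ (Q : Subgroup G), x * y = y * x := by
  have hq : q.Prime := Fact.out
  have hp : p.Prime := Fact.out
  haveI := PSolvable.pPrimeCore_characteristic (p := p) (G := G)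
  haveI := PSolvable.pPrimeCore_characteristic (p := q) (G := G)
  obtain ⟨P⟩ : Nonempty (Sylow p G) := inferInstance
  have hPB : (P : Subgroup G) ≤ Cfsg.pPrimeCore q G := by
    intro x hx
    obtain ⟨j, hj⟩ := IsPGroup.iff_orderOf.1 P.isPGroup' ⟨x, hx⟩
    rw [← Subgroup.orderOf_coe] at hj
    have h1 : orderOf (QuotientGroup.mk' (Cfsg.pPrimeCore q G) x) ∣ p ^ j :=
      (orderOf_map_dvd _ _).trans hj.dvd
    have h2 : orderOf (QuotientGroup.mk' (Cfsg.pPrimeCore q G) x) ∣ (Cfsg.pPrimeCore q G).index := by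
      rw [Subgroup.index_eq_card]; exact orderOf_dvd_natCard _
    have h3 := Nat.eq_one_of_dvd_coprimes (Nat.Coprime.pow_left j (hp.coprime_iff_not_dvd.2 hB)) h1 h2
    rw [orderOf_eq_one_iff] at h3
    exact (QuotientGroup.eq_one_iff _).1 h3
  obtain ⟨Q, hQA, hQ, hQidx, hPQ⟩ := PrincipalKernel.exists_commuting_sylow (q := q)
    (Cfsg.pPrimeCore q G) PSolvable.pPrimeCore_coprime (P : Subgroup G) P.isPGroup' hPB
    (Cfsg.pPrimeCore p G) PSolvable.pPrimeCore_not_dvd
    (fun x _ n hn => (inferInstance : (Cfsg.pPrimeCore p G).Normal).conj_mem n hn x)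
  refine ⟨P, hQ.toSylow ?_, hPQ⟩
  rw [← Subgroup.relIndex_mul_index hQA]
  exact fun h => (hq.dvd_mul.1 h).elim hQidx hA

/-- With commuting Sylow subgroups the degrees are prime to both primes. -/
theorem hyp_of_commuting (hM : Cfsg.IsPModular p M) (hpq : p ≠ q) (hps : Cfsg.IsPSolvable p G)
    (P : Sylow p G) (Q : Sylow q G)
    (h : ∀ x ∈ (P : Subgroup G), ∀ y ∈ (Q : Subgroup G), x * y = y * x) : Hyp p q M G := by
  have hq : q.Prime := Fact.out
  have hp : p.Prime := Fact.out
  intro χ hχ _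
  haveI := PSolvable.pPrimeCore_characteristic (p := p) (G := G)
  haveI := PSolvable.pCore_characteristic (p := p) (G := G ⧸ Cfsg.pPrimeCore p G)
  set N := Cfsg.pPrimeCore p G
  obtain ⟨φ, hφ⟩ := Chars.exists_irr_quotient N χ fun x hx =>
    HeightPSolv.apply_eq_one_of_mem_principalBlock hM N PSolvable.pPrimeCore_not_dvd hχ hx
  let Pb : Sylow p (G ⧸ N) := P.mapSurjective (QuotientGroup.mk'_surjective N)
  let Qb : Sylow q (G ⧸ N) := Q.mapSurjective (QuotientGroup.mk'_surjective N)
  have hsub : (Qb : Subgroup (G ⧸ N)) ≤ Cfsg.pCore p (G ⧸ N) := by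
    refine le_trans ?_ (PSolvable.centralizer_pCore_le_of_isPSolvable
      (PSolvable.isPSolvable_quotient hps N) PSolvable.pPrimeCore_quotient_eq_bot)
    intro b hb
    rw [Sylow.coe_mapSurjective] at hb
    obtain ⟨y, hy, rfl⟩ := hb
    refine Subgroup.mem_centralizer_iff.2 fun a ha => ?_
    have ha' := PSolvable.pCore_le_sylow Pb ha
    rw [Sylow.coe_mapSurjective] at ha'
    obtain ⟨x, hx, rfl⟩ := ha'
    rw [← map_mul, h x hx y hy, map_mul]
  have hcard : ¬ q ∣ Nat.card (G ⧸ N) := by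
    intro hdiv
    obtain ⟨k, hk⟩ := IsPGroup.iff_card.1 (PSolvable.pCore_isPGroup (p := p) (G := G ⧸ N))
    have h1 := (Qb.dvd_card_of_dvd_card hdiv).trans (Subgroup.card_dvd_of_le hsub)
    rw [hk] at h1
    exact hpq ((Nat.prime_dvd_prime_iff_eq hq hp).1 (hq.dvd_of_dvd_pow h1)).symm
  obtain ⟨d, -, hd, hdvd⟩ := Chars.irr_degree_dvd_card φ
  rw [charDegree_eq (χ := (χ : G → ℂ)) (show (χ : G → ℂ) 1 = d by rw [← hφ 1, QuotientGroup.mk_one, hd])]
  exact fun h => hcard (h.trans hdvd)

/-- Let p ≠ q be primes and G a finite group that is p-solvable and q-solvable. Fix maximal ideals of the algebraic integers containing p and q, defining the principal p-block and the principal q-block. Then every irreducible character of degree prime to p in the principal p-block has degree prime to q and every irreducible character of degree prime to q in the principal q-block has degree prime to p, if and only if some Sylow p-subgroup of G commutes elementwise with some Sylow q-subgroup. -/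
theorem result {G : Type*} [Group G] [Finite G] (p q : ℕ) [Fact p.Prime] [Fact q.Prime] (hpq : p ≠ q) (Mp Mq : Ideal Cfsg.AlgInt) (hMp : Cfsg.IsPModular p Mp) (hMq : Cfsg.IsPModular q Mq) (hps : Cfsg.IsPSolvable p G) (hqs : Cfsg.IsPSolvable q G) : ((∀ χ : Cfsg.IrrCharacter G, χ ∈ Cfsg.principalBlock Mp G → ¬ p ∣ Cfsg.charDegree (χ : G → ℂ) → ¬ q ∣ Cfsg.charDegree (χ : G → ℂ)) ∧ (∀ χ : Cfsg.IrrCharacter G, χ ∈ Cfsg.principalBlock Mq G → ¬ q ∣ Cfsg.charDegree (χ : G → ℂ) → ¬ p ∣ Cfsg.charDegree (χ : G → ℂ))) ↔ ∃ (P : Sylow p G) (Q : Sylow q G), ∀ x ∈ (P : Subgroup G), ∀ y ∈ (Q : Subgroup G), x * y = y * x := by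
  constructor
  · rintro ⟨h1, h2⟩
    obtain ⟨hA, hB⟩ := good_both hMp hMq hpq G hps hqs h1 h2
    exact exists_commuting hA hB
  · rintro ⟨P, Q, h⟩
    exact ⟨hyp_of_commuting hMp hpq hps P Q h,
      hyp_of_commuting hMq hpq.symm hqs Q P fun y hy x hx => (h x hx y hy).symm⟩

end Cfsg.Agent.S4886
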