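import Cfsg.Statements.S4888
import Cfsg.Agent.Lib.Blocks.BlockOrth
import Cfsg.Agent.Lib.Blocks.HeightZero
import Cfsg.Agent.Lib.BlockCongr.Basic
import Cfsg.Agent.Lib.Clifford.CharExtension
import Cfsg.Agent.Lib.Clifford.LinearExtension
import Cfsg.Agent.Lib.Chars.Ops
import Cfsg.Agent.Lib.CharSums.FixedPoints
import Cfsg.Agent.Lib.Gagola.Basic
import Cfsg.Agent.Lib.Transfer.PResidual
import Mathlib

set_option autoImplicit false
open Cfsg

namespace Cfsg.Agent.S4888

open Cfsg.Agent.Lib Cfsg.Agent.Lib.Blocks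
open scoped Classical ComplexConjugate

variable {G : Type*} [Group G] [Finite G] {p : ℕ} {M : Ideal Cfsg.AlgInt}

theorem centralChar_one (g : G) :
    Cfsg.centralChar (fun _ : G => (1 : ℂ)) g = ((Subgroup.centralizer ({g} : Set G)).index : ℂ) := by
  simp [Cfsg.centralChar]

theorem one_mem_principalBlock [M.IsPrime] : Chars.trivialIrr G ∈ Cfsg.principalBlock M G :=
  fun g => by
    show Cfsg.MemLocalIdeal M (Cfsg.centralChar _ g - Cfsg.centralChar (fun _ : G => (1 : ℂ)) g)
    rw [sub_self]; exact memLocalIdeal_zero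

theorem isPBlock_principal : Cfsg.IsPBlock M (Cfsg.principalBlock M G) := ⟨Chars.trivialIrr G, rfl⟩

/-- Membership in the principal block is decided on the `p`-regular classes. -/
theorem mem_principal_of_regular [M.IsPrime] [Fact p.Prime] (hM : Cfsg.IsPModular p M)
    (χ : Cfsg.IrrCharacter G)
    (h : ∀ g : G, ¬ p ∣ orderOf g → Cfsg.MemLocalIdeal M
      (Cfsg.centralChar (χ : G → ℂ) g - Cfsg.centralChar (fun _ : G => (1 : ℂ)) g)) :
    χ ∈ Cfsg.principalBlock M G := by
  haveI := Fintype.ofFinite G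
  haveI := Fintype.ofFinite (ConjClasses G)
  by_contra hne
  have heq : omegaBar M χ (blockIdem M (isPBlock_principal (G := G))) =
      omegaBar M (Chars.trivialIrr G) (blockIdem M (isPBlock_principal (G := G))) := by
    rw [omegaBar_eq_sum χ, omegaBar_eq_sum (Chars.trivialIrr G)]
    refine Finset.sum_congr rfl fun c _ => ?_
    by_cases hc : p ∣ orderOf (classRep c)
    · have hz : ((blockIdem M (isPBlock_principal (G := G)) : RCenter M G) :
          MonoidAlgebra (localRing M) G).coeff (classRep c) = 0 := Subtype.ext (by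
        rw [coe_coeff_blockIdem, blockCoeff_eq_zero_of_pSingular hM isPBlock_principal hc]
        rfl)
      rw [hz, map_zero, zero_mul, zero_mul]
    · congr 1
      exact (omegaBar_eq_iff_of_classSum χ (Chars.trivialIrr G) _).2 (h _ hc)
  rw [omegaBar_blockIdem, omegaBar_blockIdem, if_neg hne, if_pos one_mem_principalBlock] at heq
  exact zero_ne_one heq

/-- The squares of the `p'`-degrees in the principal block add up to a multiple of `p`. -/
theorem sum_sq_dvd [M.IsPrime] [Fact p.Prime] (hM : Cfsg.IsPModular p M)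
    (hdiv : p ∣ Nat.card G) :
    p ∣ ∑ χ ∈ (Cfsg.principalBlock M G).toFinset, Cfsg.charDegree (χ : G → ℂ) ^ 2 := by
  haveI := Fintype.ofFinite G
  obtain ⟨x, hx⟩ := exists_prime_orderOf_dvd_card' (p := p) hdiv
  have h0 := weak_block_orth hM (isPBlock_principal (G := G)) (g := 1) (h := x⁻¹)
    (by simpa using hM.1.ne_one) (by rw [orderOf_inv, hx])
  rw [finsum_mem_eq_toFinset_sum] at h0
  simp only [Chars.irr_inv, Complex.conj_conj] at h0
  rw [← memLocalIdeal_natCast_iff hM]
  have h1 := memLocalIdeal_sum (M := M) (Cfsg.principalBlock M G).toFinset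
    (fun χ => (χ : G → ℂ) 1 * ((χ : G → ℂ) x - (χ : G → ℂ) 1)) fun χ _ => by
    obtain ⟨d, -, hd⟩ := Chars.isIrrCharacter_exists_degree_pos χ.2
    exact memLocalIdeal_mul_left (mem_localRing.1 (hd ▸ natCast_mem_localRing (M := M) d))
      (BlockCongr.char_congr_one hM (Chars.irr_isCharacter χ) (j := 1)
        (by rw [pow_one, ← hx, pow_orderOf_eq_one]))
  simp only [mul_sub, Finset.sum_sub_distrib, h0, zero_sub] at h1
  have h2 := memLocalIdeal_neg h1
  rw [neg_neg] at h2
  convert h2 using 1
  push_cast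
  exact Finset.sum_congr rfl fun χ _ => by
    rw [BlockCongr.charDegree_isCharacter (Chars.irr_isCharacter χ), sq]

/-- Homomorphisms on a group generated by `p'`-elements have `p'`-order. -/
theorem not_dvd_orderOf_hom {K : Type*} [Group K] [Finite K] [Fact p.Prime]
    (hK : Cfsg.pResidual p K = ⊤) (f : K →* ℂˣ) : ¬ p ∣ orderOf f := by
  have hp : p.Prime := Fact.out
  intro h
  have hm : ¬ p ∣ Nat.card K / p ^ (Nat.card K).factorization p :=
    Nat.not_dvd_ordCompl hp Nat.card_pos.ne'
  refine hm (h.trans (orderOf_dvd_of_pow_eq_one ?_))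
  ext g
  have hg : g ∈ (f ^ (Nat.card K / p ^ (Nat.card K).factorization p)).ker := by
    refine (Transfer.pResidual_le_iff.2 fun y hy => ?_) (hK ▸ Subgroup.mem_top g)
    rw [MonoidHom.mem_ker, MonoidHom.pow_apply, ← map_pow]
    have hdvd : orderOf y ∣ Nat.card K / p ^ (Nat.card K).factorization p := by
      refine (hy.pow_right ((Nat.card K).factorization p)).dvd_of_dvd_mul_left ?_
      rw [Nat.ordProj_mul_ordCompl_eq_self]
      exact orderOf_dvd_natCard y
    rw [orderOf_dvd_iff_pow_eq_one.1 hdvd, map_one]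
  rw [MonoidHom.mem_ker] at hg
  simp [hg]

/-- The linear characters in the principal block form a group. -/
noncomputable def linB0 (M : Ideal Cfsg.AlgInt) [M.IsPrime] (K : Type*) [Group K] [Finite K] :
    Submonoid (K →* ℂˣ) where
  carrier := {f | Chars.linIrr f ∈ Cfsg.principalBlock M K}
  one_mem' := by
    show Chars.linIrr (1 : K →* ℂˣ) ∈ Cfsg.principalBlock M K
    rw [show Chars.linIrr (1 : K →* ℂˣ) = Chars.trivialIrr K from Subtype.ext (funext fun g => by
      simp [Chars.linIrr])]
    exact one_mem_principalBlock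
  mul_mem' := fun {a b} ha hb g => by
    have ha' : Cfsg.MemLocalIdeal M _ := ha g
    have hb' : Cfsg.MemLocalIdeal M _ := hb g
    have h := memLocalIdeal_add (memLocalIdeal_mul_left (mem_localRing.1
      (isIntegral_mem_localRing (M := M) (Chars.irr_isIntegral (Chars.linIrr a) g))) hb') ha'
    convert h using 1
    simp only [Cfsg.centralChar, Chars.linIrr, MonoidHom.mul_apply, Units.val_mul, map_one,
      Units.val_one, mul_one, div_one]
    ring

theorem centralizer_index_conj (K : Subgroup G) [K.Normal] (g : G) (k : K) :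
    (Subgroup.centralizer ({MulAut.conjNormal g k} : Set K)).index =
      (Subgroup.centralizer ({k} : Set K)).index := by
  haveI := Fintype.ofFinite K
  rw [← Chars.card_conjClass_eq_index, ← Chars.card_conjClass_eq_index]
  refine (Nat.card_congr ((MulAut.conjNormal g : K ≃* K).toEquiv.subtypeEquiv fun y => ?_)).symm
  refine ⟨fun h => (MulAut.conjNormal g : K ≃* K).toMonoidHom.map_isConj h, fun h => ?_⟩
  simpa using (MulAut.conjNormal g : K ≃* K).symm.toMonoidHom.map_isConj h

theorem index_centralizer_dvd (K : Subgroup G) [K.Normal] (k : K) :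
    (Subgroup.centralizer ({k} : Set K)).index ∣ (Subgroup.centralizer ({(k : G)} : Set G)).index := by
  have h : Subgroup.centralizer ({k} : Set K) = (Subgroup.centralizer ({(k : G)} : Set G)).subgroupOf K := by
    ext y
    rw [Subgroup.mem_subgroupOf, Subgroup.mem_centralizer_singleton_iff,
      Subgroup.mem_centralizer_singleton_iff, Subtype.ext_iff]
    rfl
  rw [h]
  set C := Subgroup.centralizer ({(k : G)} : Set G)
  obtain ⟨q, hq⟩ := K.relIndex_dvd_index_of_normal C
  refine ⟨q, ?_⟩
  have h1 : (C ⊓ K).relIndex K * K.index = (C ⊓ K).index := Subgroup.relIndex_mul_index inf_le_right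
  have h2 : (C ⊓ K).relIndex C * C.index = (C ⊓ K).index := Subgroup.relIndex_mul_index inf_le_left
  rw [Subgroup.inf_relIndex_right] at h1
  rw [inf_comm, Subgroup.inf_relIndex_right, inf_comm] at h2
  show C.index = C.relIndex K * q
  refine Nat.eq_of_mul_eq_mul_left (Nat.pos_of_ne_zero fun h0 => ?_) ((h2.trans h1.symm).trans (by rw [hq]; ring))
  rw [h0, zero_mul] at h2
  exact Subgroup.index_ne_zero_of_finite h2.symm

/-- If every `p'`-degree character in the principal block of `G` is linear, there is a normal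
`p`-complement. -/
theorem hasNormalPComplement_of_linear [Fact p.Prime] (hM : Cfsg.IsPModular p M)
    (hlin : ∀ χ : Cfsg.IrrCharacter G, χ ∈ Cfsg.principalBlock M G →
      ¬ p ∣ Cfsg.charDegree (χ : G → ℂ) → Cfsg.charDegree (χ : G → ℂ) = 1) :
    Cfsg.HasNormalPComplement p G := by
  haveI := isPModular_isPrime hM
  have hp : p.Prime := Fact.out
  rw [Transfer.hasNormalPComplement_iff]
  intro hdiv
  let K := Cfsg.pResidual p G
  haveI : K.Normal := Transfer.pResidual_normal
  haveI := Fintype.ofFinite G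
  haveI := Fintype.ofFinite K
  obtain ⟨a, ha⟩ := Transfer.index_pResidual (G := G) (p := p)
  have hKtop : Cfsg.pResidual p K = ⊤ := Transfer.pResidual_pResidual
  let T := {θ : Cfsg.IrrCharacter K // θ ∈ Cfsg.principalBlock M K ∧ ¬ p ∣ Cfsg.charDegree (θ : K → ℂ)}
  have hdeg : ∀ (g : G) (θ : Cfsg.IrrCharacter K),
      Cfsg.charDegree (CharSums.conjIrr K g θ : K → ℂ) = Cfsg.charDegree (θ : K → ℂ) := fun g θ => by
    simp only [Cfsg.charDegree, CharSums.conjIrr_apply, map_one]
  have hblk : ∀ (g : G) (θ : Cfsg.IrrCharacter K), θ ∈ Cfsg.principalBlock M K →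
      CharSums.conjIrr K g θ ∈ Cfsg.principalBlock M K := by
    intro g θ hθ k
    have h : Cfsg.MemLocalIdeal M _ := hθ (MulAut.conjNormal g⁻¹ k)
    simp only [Cfsg.centralChar, centralizer_index_conj] at h
    simpa only [Cfsg.centralChar, CharSums.conjIrr_apply, map_one] using h
  letI act : MulAction G T :=
    { smul := fun g θ => ⟨CharSums.conjIrr K g θ.1, hblk g θ.1 θ.2.1, by rw [hdeg]; exact θ.2.2⟩
      one_smul := fun θ => Subtype.ext (CharSums.conjIrr_one K θ.1)
      mul_smul := fun g h θ => Subtype.ext (CharSums.conjIrr_mul K g h θ.1) }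
  -- a fixed point is linear
  have hfixlin : ∀ θ : T, (∀ g : G, g • θ = θ) → Cfsg.charDegree (θ.1 : K → ℂ) = 1 := by
    intro θ hfix
    obtain ⟨d, -, hd⟩ := Chars.isIrrCharacter_exists_degree_pos θ.1.2
    have hdd : Cfsg.charDegree (θ.1 : K → ℂ) = d := by
      rw [Cfsg.charDegree, hd, Complex.natCast_re, Nat.floor_natCast]
    have hinv : ∀ (g : G) (n : K), (θ.1 : K → ℂ)
        ⟨g * n * g⁻¹, (inferInstance : K.Normal).conj_mem (n : G) n.2 g⟩ = (θ.1 : K → ℂ) n :=
      fun g n => (CharSums.conjIrr_eq_iff K g θ.1 θ.1).1 (congrArg Subtype.val (hfix g)) n _ rfl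
    obtain ⟨δ, hδ⟩ := Clifford.exists_detHom θ.1.2
    have hδinv : ∀ (g : G) (n : K),
        δ ⟨g * n * g⁻¹, (inferInstance : K.Normal).conj_mem (n : G) n.2 g⟩ = δ n := by
      intro g n
      obtain ⟨m, ρ, hρ, hρc⟩ := θ.1.2
      let c : K ≃* K := MulAut.conjNormal g
      let ρ' : Representation ℂ K (Fin m → ℂ) := ρ.comp c.toMonoidHom
      have hch : ρ.character = ρ'.character := by
        funext y
        show _ = ρ.character (c y)
        rw [hρc]
        exact (hinv g y).symm.trans (congrArg _ (Subtype.ext (MulAut.conjNormal_apply g y).symm))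
      obtain ⟨e⟩ := Clifford.equiv_of_char_eq ρ ρ' hch
      have hdet : ∀ y, (δ y : ℂ) = LinearMap.det (ρ y) := fun y => by
        have h1 := congrFun hδ y
        rw [← hρc, Clifford.detChar_character ρ ⟨m, ρ, rfl⟩] at h1
        exact h1.symm
      apply Units.ext
      rw [hdet, hdet, show (⟨g * n * g⁻¹, (inferInstance : K.Normal).conj_mem (n : G) n.2 g⟩ : K) = c n
        from Subtype.ext (MulAut.conjNormal_apply g n).symm]
      exact (Clifford.det_equiv e n).symm
    obtain ⟨μ, hμ, -⟩ := Clifford.exists_linear_extension_coprime δ hδinv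
      (ha ▸ Nat.Coprime.pow_left a (hp.coprime_iff_not_dvd.2 (not_dvd_orderOf_hom hKtop δ)))
    obtain ⟨χ, hχ, hext, -⟩ := Clifford.exists_char_extension θ.1.2 hinv hd
      (ha ▸ Nat.Coprime.pow_left a (hp.coprime_iff_not_dvd.2 (hdd ▸ θ.2.2))) μ
      (fun n => by rw [hμ, hδ])
    have hχd : Cfsg.charDegree χ = d := by
      have h1 : χ 1 = d := (hext 1).trans hd
      rw [Cfsg.charDegree, h1, Complex.natCast_re, Nat.floor_natCast]
    have hmem : (⟨χ, hχ⟩ : Cfsg.IrrCharacter G) ∈ Cfsg.principalBlock M G := by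
      refine mem_principal_of_regular hM _ fun g hg => ?_
      have hgK : g ∈ K := Transfer.mem_pResidual_of_coprime (hp.coprime_iff_not_dvd.2 hg).symm
      obtain ⟨q, hq⟩ := index_centralizer_dvd K ⟨g, hgK⟩
      have hb : Cfsg.MemLocalIdeal M _ := θ.2.1 ⟨g, hgK⟩
      have h := memLocalIdeal_mul_left
        (mem_localRing.1 (natCast_mem_localRing (M := M) q)) (memLocalIdeal_neg hb)
      convert h using 1
      simp only [Cfsg.centralChar, hq]
      rw [show χ g = (θ.1 : K → ℂ) ⟨g, hgK⟩ from hext ⟨g, hgK⟩,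
        show χ 1 = (θ.1 : K → ℂ) 1 from hext 1]
      push_cast
      ring
    rw [hdd, ← hχd]
    exact hlin _ hmem (hχd.symm ▸ hdd ▸ θ.2.2)
  -- count modulo `p`
  haveI : Fintype T := Fintype.ofFinite T
  let w : T → ℕ := fun θ => Cfsg.charDegree (θ.1 : K → ℂ)
  have hsum : ((∑ θ : T, w θ ^ 2 : ℕ) : ZMod p) = 0 := by
    have h := (ZMod.natCast_eq_zero_iff _ _).2 (sum_sq_dvd (G := K) hM hdiv)
    rw [← h]
    push_cast
    rw [← Finset.sum_filter_add_sum_filter_not (Cfsg.principalBlock M K).toFinset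
      (fun θ => ¬ p ∣ Cfsg.charDegree (θ : K → ℂ))]
    have hz : ∀ θ ∈ Finset.filter (fun θ : Cfsg.IrrCharacter K => ¬ ¬ p ∣ Cfsg.charDegree (θ : K → ℂ))
        (Cfsg.principalBlock M K).toFinset,
        ((Cfsg.charDegree (θ : K → ℂ) : ZMod p)) ^ 2 = 0 := fun θ hθ => by
      rw [(ZMod.natCast_eq_zero_iff _ _).2 (not_not.1 (Finset.mem_filter.1 hθ).2)]
      simp
    rw [Finset.sum_eq_zero hz, add_zero]
    symm
    refine Finset.sum_subtype _ (fun θ => ?_)
      (fun θ : Cfsg.IrrCharacter K => (Cfsg.charDegree (θ : K → ℂ) : ZMod p) ^ 2)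
    simp
  -- orbits have `p`-power length
  let π : G →* G ⧸ K := QuotientGroup.mk' K
  have hKfix : ∀ (k : G) (θ : T), k ∈ K → k • θ = θ := by
    intro k θ hk
    refine Subtype.ext ((CharSums.conjIrr_eq_iff K k θ.1 θ.1).2 fun n n' hn => ?_)
    have : n' = ⟨k, hk⟩ * n * ⟨k, hk⟩⁻¹ := Subtype.ext (by simpa using hn)
    rw [this, Chars.irr_isClassFunction θ.1 n ⟨k, hk⟩]
  have hnofix : ∀ d : ℕ, d ≠ 1 → p ∣ (Finset.univ.filter fun θ : T => w θ = d).card := by
    intro d hd
    letI : MulAction (G ⧸ K) {θ : T // w θ = d} :=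
      { smul := fun q θ => Quotient.liftOn' q (fun g => ⟨g • θ.1, (hdeg g θ.1.1).trans θ.2⟩)
          (fun g h hgh => Subtype.ext (by
            rw [QuotientGroup.leftRel_apply] at hgh
            show g • θ.1 = h • θ.1
            conv_rhs => rw [show h = g * (g⁻¹ * h) by group, mul_smul, hKfix _ θ.1 hgh]))
        one_smul := fun θ => Subtype.ext (one_smul G θ.1)
        mul_smul := fun q r θ => by
          induction q using QuotientGroup.induction_on
          induction r using QuotientGroup.induction_on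
          exact Subtype.ext (mul_smul _ _ θ.1) }
    have hmod := (Transfer.isPGroup_quotient_pResidual (G := G) (p := p)).card_modEq_card_fixedPoints
      {θ : T // w θ = d}
    have hempty : IsEmpty (MulAction.fixedPoints (G ⧸ K) {θ : T // w θ = d}) := ⟨fun θ => hd (by
      rw [← θ.1.2]
      exact hfixlin θ.1.1 fun g => congrArg Subtype.val (θ.2 (g : G ⧸ K)))⟩
    have h0 : Nat.card (MulAction.fixedPoints (G ⧸ K) {θ : T // w θ = d}) = 0 := Nat.card_of_isEmpty
    rw [h0, Nat.modEq_zero_iff_dvd, Nat.card_eq_fintype_card, Fintype.card_subtype] at hmod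
    exact hmod
  have hone : ((∑ θ : T, w θ ^ 2 : ℕ) : ZMod p) =
      ((Finset.univ.filter fun θ : T => w θ = 1).card : ZMod p) := by
    push_cast
    rw [← Finset.sum_fiberwise_of_maps_to (g := w) (t := Finset.univ.image w)
      (fun θ _ => Finset.mem_image_of_mem w (Finset.mem_univ θ)),
      Finset.sum_eq_single 1]
    · rw [Finset.sum_congr rfl (fun θ hθ => by rw [(Finset.mem_filter.1 hθ).2])]
      simp
    · intro d _ hd
      rw [Finset.sum_congr rfl (fun θ hθ => by rw [(Finset.mem_filter.1 hθ).2]),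
        Finset.sum_const, nsmul_eq_mul, (ZMod.natCast_eq_zero_iff _ _).2 (hnofix d hd), zero_mul]
    · intro h
      rw [Finset.filter_false_of_mem (fun θ _ h' => h (Finset.mem_image.2 ⟨θ, Finset.mem_univ θ, h'⟩))]
      simp
  rw [hone, ZMod.natCast_eq_zero_iff] at hsum
  haveI : Finite (K →* ℂˣ) := Finite.of_equiv _ Chars.linearEquivHom.symm
  have hcard : (Finset.univ.filter fun θ : T => w θ = 1).card = Nat.card (linB0 M K) := by
    rw [← Fintype.card_subtype, ← Nat.card_eq_fintype_card]
    refine (Nat.card_congr (Equiv.ofBijective (fun f : linB0 M K =>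
      (⟨⟨Chars.linIrr f.1, f.2, by simp [Cfsg.charDegree, Chars.linIrr, hp.ne_one]⟩,
        by simp [w, Cfsg.charDegree, Chars.linIrr]⟩ : {θ : T // w θ = 1})) ⟨?_, ?_⟩)).symm
    · intro a b h
      exact Subtype.ext (Chars.linIrr_injective (congrArg (fun x : {θ : T // w θ = 1} => x.1.1) h))
    · rintro ⟨⟨θ, hθB, hθp⟩, hθ1⟩
      obtain ⟨f, hf⟩ := Chars.exists_hom_of_degree_one (Chars.irr_isCharacter θ) (by
        obtain ⟨d, -, hd⟩ := Chars.isIrrCharacter_exists_degree_pos θ.2
        have : Cfsg.charDegree (θ : K → ℂ) = 1 := hθ1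
        rw [Cfsg.charDegree, hd, Complex.natCast_re, Nat.floor_natCast] at this
        rw [hd, this, Nat.cast_one])
      have e : Chars.linIrr f = θ := Subtype.ext hf.symm
      exact ⟨⟨f, show Chars.linIrr f ∈ Cfsg.principalBlock M K by rw [e]; exact hθB⟩,
        Subtype.ext (Subtype.ext e)⟩
  rw [hcard] at hsum
  -- the submonoid is a group of order prime to `p`
  have hinvmem : ∀ f ∈ linB0 M K, f⁻¹ ∈ linB0 M K := fun f hf => by
    have hof : 1 ≤ orderOf f := orderOf_pos f
    have e : f⁻¹ = f ^ (orderOf f - 1) := MonoidHom.ext fun k => by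
      rw [MonoidHom.inv_apply, MonoidHom.pow_apply]
      refine inv_eq_of_mul_eq_one_right ?_
      rw [← pow_succ', Nat.sub_add_cancel hof, ← MonoidHom.pow_apply, pow_orderOf_eq_one,
        MonoidHom.one_apply]
    rw [e]
    exact (linB0 M K).pow_mem hf (orderOf f - 1)
  let H : Subgroup (K →* ℂˣ) := { linB0 M K with inv_mem' := fun {f} hf => hinvmem f hf }
  obtain ⟨f, hf⟩ := exists_prime_orderOf_dvd_card' (G := H) p (show p ∣ Nat.card H from hsum)
  exact not_dvd_orderOf_hom hKtop f.1 (by rw [Subgroup.orderOf_coe, hf])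

/-- With a normal `p`-complement, `p'`-degree characters in the principal block are linear. -/
theorem linear_of_hasNormalPComplement [Fact p.Prime] (hM : Cfsg.IsPModular p M)
    (h : Cfsg.HasNormalPComplement p G) (χ : Cfsg.IrrCharacter G)
    (hχ : χ ∈ Cfsg.principalBlock M G) (hp' : ¬ p ∣ Cfsg.charDegree (χ : G → ℂ)) :
    Cfsg.charDegree (χ : G → ℂ) = 1 := by
  haveI := isPModular_isPrime hM
  have hp : p.Prime := Fact.out
  let K := Cfsg.pResidual p G
  haveI : K.Normal := Transfer.pResidual_normal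
  haveI := Fintype.ofFinite G
  haveI := Fintype.ofFinite K
  obtain ⟨a, ha⟩ := Transfer.index_pResidual (G := G) (p := p)
  have hK : ¬ p ∣ Nat.card K := Transfer.hasNormalPComplement_iff.1 h
  let f : G → ℂ := fun g => if g ∈ K then 1 else 0
  have hf : Cfsg.IsClassFunction G f := fun g k => by
    simp only [f]
    congr 1
    exact propext ⟨fun h => by simpa [mul_assoc] using (inferInstance : K.Normal).conj_mem _ h k⁻¹,
      fun h => (inferInstance : K.Normal).conj_mem _ h k⟩
  have hsum : ∀ ψ : G → ℂ, ∑ g : G, f g * ψ g / ψ 1 = (∑ k : K, ψ k) / ψ 1 := by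
    intro ψ
    rw [← Finset.sum_div]
    congr 1
    simp only [f, ite_mul, one_mul, zero_mul]
    rw [← Finset.sum_filter]
    exact Finset.sum_subtype _ (by simp) ψ
  have hcongr := HeightZero.eval_congr_self (M := M) hf (fun g => by
      simp only [f]; split_ifs
      · exact mem_localRing.1 (one_mem (localRing M))
      · exact mem_localRing.1 (zero_mem (localRing M)))
    (fun _ _ => rfl) (Chars.irr_isClassFunction χ) (hχ : Cfsg.SameBlock M (fun _ => (1 : ℂ)) (χ : G → ℂ))
  rw [hsum, hsum] at hcongr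
  simp only [Finset.sum_const, Finset.card_univ, nsmul_eq_mul, mul_one, div_one] at hcongr
  have hne : ∑ k : K, (χ : G → ℂ) k ≠ 0 := by
    intro h0
    rw [h0, zero_div, sub_zero, memLocalIdeal_natCast_iff hM, ← Nat.card_eq_fintype_card] at hcongr
    exact hK hcongr
  have hker := Gagola.CharFacts.mem_ker_of_sum_ne_zero χ K hne
  obtain ⟨φ, hφ⟩ := Chars.exists_irr_quotient K χ hker
  have hdvd : Cfsg.charDegree (χ : G → ℂ) ∣ p ^ a := by
    obtain ⟨d, -, hd, hdvd⟩ := Chars.irr_degree_dvd_card φ
    have h1 : (χ : G → ℂ) 1 = d := by rw [← hφ, ← hd]; rfl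
    rw [Cfsg.charDegree, h1, Complex.natCast_re, Nat.floor_natCast, ← ha, Subgroup.index_eq_card]
    exact hdvd
  obtain ⟨i, -, hi⟩ := (Nat.dvd_prime_pow hp).1 hdvd
  rcases Nat.eq_zero_or_pos i with rfl | hi0
  · simpa using hi
  · exact absurd (hi ▸ dvd_pow_self p hi0.ne') hp'

/-- Let G be a finite group, p a prime and M a maximal ideal of the algebraic integers containing p. Then all height-zero irreducible characters of the principal p-block of G (equivalently, all its characters of degree prime to p) have the same degree if and only if G has a normal p-complement. -/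
theorem result {G : Type*} [Group G] [Finite G] (p : ℕ) [Fact p.Prime] (M : Ideal Cfsg.AlgInt) (hM : Cfsg.IsPModular p M) : (∃ d : ℕ, ∀ χ : Cfsg.IrrCharacter G, χ ∈ (Cfsg.principalBlock M G) → Cfsg.blockHeight p (Cfsg.principalBlock M G) (χ : G → ℂ) = 0 → Cfsg.charDegree (χ : G → ℂ) = d) ↔ Cfsg.HasNormalPComplement p G := by
  classical
  haveI := Lib.Blocks.isPModular_isPrime hM
  have hp : p.Prime := Fact.out
  have htriv : Cfsg.charDegree (Lib.Chars.trivialIrr G : G → ℂ) = 1 := by simp [Cfsg.charDegree]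
  have hinf : sInf ((fun ψ : Cfsg.IrrCharacter G => (Cfsg.charDegree (ψ : G → ℂ)).factorization p) ''
      Cfsg.principalBlock M G) = 0 :=
    Nat.sInf_eq_zero.2 (Or.inl ⟨Lib.Chars.trivialIrr G, one_mem_principalBlock, by
      simp [htriv]⟩)
  have hheight : ∀ χ : Cfsg.IrrCharacter G,
      Cfsg.blockHeight p (Cfsg.principalBlock M G) (χ : G → ℂ) = 0 ↔
        ¬ p ∣ Cfsg.charDegree (χ : G → ℂ) := by
    intro χ
    obtain ⟨d, hd0, hd⟩ := Lib.Chars.isIrrCharacter_exists_degree_pos χ.2
    rw [Cfsg.blockHeight, hinf, Nat.sub_zero, Cfsg.charDegree, hd, Complex.natCast_re,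
      Nat.floor_natCast, Nat.factorization_eq_zero_iff]
    simp [hp, hd0.ne']
  constructor
  · rintro ⟨d, hd⟩
    have h1 : d = 1 := by
      rw [← hd (Lib.Chars.trivialIrr G) one_mem_principalBlock ((hheight _).2 (by
        rw [htriv]; exact hp.not_dvd_one)), htriv]
    exact hasNormalPComplement_of_linear hM fun χ hχ hχp => (hd χ hχ ((hheight χ).2 hχp)).trans h1
  · exact fun h => ⟨1, fun χ hχ hh => linear_of_hasNormalPComplement hM h χ hχ ((hheight χ).1 hh)⟩

end Cfsg.Agent.S4888
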