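import Cfsg.Statements.S4889
-- import your own Cfsg.Agent.* helpers here
import Cfsg.Agent.Lib.EqualDegree.Main
import Cfsg.Agent.Lib.FreeInertia.Local

set_option autoImplicit false
set_option linter.unusedSectionVars false
set_option linter.style.haveILetI false
open Cfsg
open Cfsg.Agent.Lib

namespace Cfsg.Agent.S4889

/-- Let G be a finite group, p a prime, M a maximal ideal of the algebraic integers containing p, and B a p-block of G that has an abelian defect group and in which every irreducible character has height zero. Then all irreducible characters of B have the same degree if and only if B is a nilpotent block. -/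
theorem result {G : Type*} [Group G] [Finite G] (p : ℕ) [Fact p.Prime] (M : Ideal Cfsg.AlgInt) (hM : Cfsg.IsPModular p M) (B : Set (Cfsg.IrrCharacter G)) (hB : Cfsg.IsPBlock M B) (D : Subgroup G) (hD : Cfsg.IsDefectGroup p M B D) (hDab : IsMulCommutative ↥D) (h0 : ∀ χ : Cfsg.IrrCharacter G, χ ∈ B → Cfsg.blockHeight p B (χ : G → ℂ) = 0) : (∃ d : ℕ, ∀ χ : Cfsg.IrrCharacter G, χ ∈ B → Cfsg.charDegree (χ : G → ℂ) = d) ↔ Cfsg.IsNilpotentBlock p M B := by
  classical
  cases nonempty_fintype G
  haveI := Blocks.isPModular_isPrime hM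
  haveI : M.IsMaximal := hM.2.1
  obtain ⟨e, hmax⟩ := NilBlock.exists_maximal hM hB hD
  have hab : ∀ x ∈ D, ∀ y ∈ D, x * y = y * x := fun x hx y hy =>
    congrArg Subtype.val (hDab.is_comm.comm (⟨x, hx⟩ : D) ⟨y, hy⟩)
  constructor
  · rintro ⟨d, hd⟩
    refine (BrauerPairs.isNilpotentBlock_iff_of_comm (b := ⟨D, e⟩) hM hmax hab).2
      fun x hxN hxst => Subgroup.mem_centralizer_iff.2 fun w hw => ?_
    have h := EqualDegree.fixed_of_equal_degrees (b := ⟨D, e⟩) hM hmax hab hd
      ((AbelianStar.inStab_iff hmax.1.1.2).2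
        ((BrauerPairs.mem_pairStab_iff_stabilizesBlock (a := ⟨D, e⟩) hmax.1.1.2).2 ⟨hxN, hxst⟩))
      w hw
    calc w * x = (x * w * x⁻¹) * x := by rw [h]
      _ = x * w := inv_mul_cancel_right _ _
  · intro hnil
    obtain ⟨χ₀, hχ₀, hh0⟩ := Blocks.exists_height_zero (p := p) hB
    obtain ⟨-, Φ, hΦ⟩ := NilBlock.exists_structure (b := ⟨D, e⟩) hM hmax hnil
      (fun w hw _ => NilBlock.blockRank_bu hM hmax hnil hw) hχ₀ hh0
    refine ⟨charDegree (χ₀ : G → ℂ), fun χ hχ => ?_⟩
    have h1 := (hΦ ⟨χ, hχ⟩).1 1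
    have hlin : charDegree ((Φ ⟨χ, hχ⟩ : IrrCharacter D) : D → ℂ) = 1 := by
      haveI := hDab
      have h2 := (Blocks.HeightZero.charDegree_eq (Φ ⟨χ, hχ⟩)).1
      rw [Chars.irr_apply_one_of_comm] at h2
      exact_mod_cast h2
    have hp1 : ¬ p ∣ orderOf (1 : G) := by
      rw [orderOf_one]; exact (Fact.out : p.Prime).not_dvd_one
    rw [BrauerFeit.pRegularPart_apply, BrauerFeit.pRegularPart_apply, if_neg hp1, if_neg hp1, hlin,
      Nat.cast_one, one_mul, ← (Blocks.HeightZero.charDegree_eq χ).1,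
      ← (Blocks.HeightZero.charDegree_eq χ₀).1] at h1
    exact_mod_cast h1

end Cfsg.Agent.S4889
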