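import Cfsg.Statements.S4890
-- import your own Cfsg.Agent.* helpers here
import Cfsg.Agent.Lib.EqualDegree.NormalDefect
import Cfsg.Agent.Lib.ThreeDegrees.Basic

set_option autoImplicit false
set_option linter.unusedSectionVars false
set_option linter.style.haveILetI false
open Cfsg
open Cfsg.Agent.Lib

namespace Cfsg.Agent.S4890

/-- Let G be a finite group, p a prime, M a maximal ideal of the algebraic integers containing p, and B a p-block of G with a defect group that is normal in G. Then all height-zero irreducible characters of B have the same degree if and only if B is a nilpotent block. -/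
theorem result {G : Type*} [Group G] [Finite G] (p : ℕ) [Fact p.Prime] (M : Ideal Cfsg.AlgInt) (hM : Cfsg.IsPModular p M) (B : Set (Cfsg.IrrCharacter G)) (hB : Cfsg.IsPBlock M B) (D : Subgroup G) (hD : Cfsg.IsDefectGroup p M B D) (hDn : D.Normal) : (∃ d : ℕ, ∀ χ : Cfsg.IrrCharacter G, χ ∈ B → Cfsg.blockHeight p B (χ : G → ℂ) = 0 → Cfsg.charDegree (χ : G → ℂ) = d) ↔ Cfsg.IsNilpotentBlock p M B := by
  classical
  cases nonempty_fintype G
  haveI := Blocks.isPModular_isPrime hM
  haveI : M.IsMaximal := hM.2.1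
  haveI := hDn
  constructor
  · rintro ⟨d, hd⟩
    obtain ⟨e, hmax, hfix⟩ :=
      EqualDegree.exists_maximal_fixed_of_equal_height_zero hM hB hD hd
    exact EqualDegree.isNilpotentBlock_of_normal (b := ⟨D, e⟩) hM hmax hDn hfix
  · intro hnil
    obtain ⟨e, hmax⟩ := NilBlock.exists_maximal hM hB hD
    obtain ⟨χ₀, hχ₀, hh0⟩ := Blocks.exists_height_zero (p := p) hB
    obtain ⟨-, Φ, hΦ⟩ := NilBlock.exists_structure (b := ⟨D, e⟩) hM hmax hnil
      (fun w hw _ => NilBlock.blockRank_bu hM hmax hnil hw) hχ₀ hh0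
    refine ⟨charDegree (χ₀ : G → ℂ), fun χ hχ hh => ?_⟩
    have h1 := (hΦ ⟨χ, hχ⟩).1 1
    have hlin : charDegree ((Φ ⟨χ, hχ⟩ : IrrCharacter D) : D → ℂ) = 1 := by
      obtain ⟨n, hn⟩ := IsPGroup.iff_card.1 (hmax.1.1.1 : IsPGroup p D)
      obtain ⟨k, -, hk⟩ := (Nat.dvd_prime_pow (Fact.out : p.Prime)).1
        (hn ▸ ThreeDegrees.charDegree_dvd_card (Φ ⟨χ, hχ⟩))
      have h2 := ((hΦ ⟨χ, hχ⟩).2).symm.trans hh
      rw [hk, (Fact.out : p.Prime).factorization_pow, Finsupp.single_eq_same] at h2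
      rw [hk, h2, pow_zero]
    have hp1 : ¬ p ∣ orderOf (1 : G) := by
      rw [orderOf_one]; exact (Fact.out : p.Prime).not_dvd_one
    rw [BrauerFeit.pRegularPart_apply, BrauerFeit.pRegularPart_apply, if_neg hp1, if_neg hp1, hlin,
      Nat.cast_one, one_mul, ← (Blocks.HeightZero.charDegree_eq χ).1,
      ← (Blocks.HeightZero.charDegree_eq χ₀).1] at h1
    exact_mod_cast h1

end Cfsg.Agent.S4890
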