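import Cfsg.Statements.S4923
import Cfsg.Agent.Lib.Chars.Completeness
import Cfsg.Agent.Lib.GaloisChar.Basic
import Cfsg.Agent.Lib.GaloisPos.Basic
import Cfsg.Agent.Lib.BrauerMap.Principal
import Cfsg.Agent.Lib.PLemmas.MaximalClass
-- import your own Cfsg.Agent.* helpers here

set_option autoImplicit false
open Cfsg

namespace Cfsg.Agent.S4923

open Cfsg.Agent.Lib

universe u

variable {G : Type u} [Group G] [Finite G]

open scoped commutatorElement

omit [Group G] [Finite G] in
/-- Exponents of equal powers of a primitive root are congruent. -/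
theorem modEq_of_pow_eq {ζ : ℂ} {N a b : ℕ} [NeZero N] (hζ : IsPrimitiveRoot ζ N)
    (h : ζ ^ a = ζ ^ b) : a ≡ b [MOD N] := by
  refine hζ.pow_inj (Nat.mod_lt _ (Nat.pos_of_ne_zero (NeZero.ne N)))
    (Nat.mod_lt _ (Nat.pos_of_ne_zero (NeZero.ne N))) ?_
  rw [hζ.eq_orderOf, pow_mod_orderOf, pow_mod_orderOf, h]

/-- A ring endomorphism of `ℂ` that raises roots of unity to a power acts on character values
through the same power of the group element. -/
theorem map_char {σ : ℂ →+* ℂ} {N k : ℕ} (hσ : ∀ μ : ℂ, μ ^ N = 1 → σ μ = μ ^ k)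
    (χ : IrrCharacter G) {g : G} (hg : g ^ N = 1) :
    σ ((χ : G → ℂ) g) = (χ : G → ℂ) (g ^ k) := by
  obtain ⟨d, ρ, -, hχ⟩ := χ.2
  rw [← hχ]
  obtain ⟨ι, _, b, μ, hμ, hb⟩ := Chars.exists_eigenbasis ρ g
  have hbk : ∀ (j : ℕ) i, (ρ g ^ j) (b i) = μ i ^ j • b i := by
    intro j i
    induction j with
    | zero => simp
    | succ j ih =>
      rw [pow_succ', Module.End.mul_apply, ih, map_smul, hb, smul_smul, ← pow_succ]
  have e1 : ρ.character g = ∑ i, μ i := Chars.trace_eq_sum_of_eigenbasis _ b μ hb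
  have e2 : ρ.character (g ^ k) = ∑ i, μ i ^ k :=
    Chars.trace_eq_sum_of_eigenbasis _ b _ fun i => by rw [map_pow, hbk]
  rw [e1, e2, map_sum]
  refine Finset.sum_congr rfl fun i _ => hσ _ ?_
  obtain ⟨c, hc⟩ := orderOf_dvd_of_pow_eq_one hg
  rw [hc, pow_mul, hμ i, one_pow]

/-- Every automorphism of `ℂ` acts as a power on the `N`-th roots of unity. -/
theorem exists_power (σ : ℂ →+* ℂ) {N : ℕ} [NeZero N] {ζ : ℂ} (hζ : IsPrimitiveRoot ζ N) :
    ∃ k : ℕ, k.Coprime N ∧ ∀ μ : ℂ, μ ^ N = 1 → σ μ = μ ^ k := by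
  obtain ⟨k, -, hk, hkζ⟩ := hζ.isPrimitiveRoot_iff.1 (hζ.map_of_injective σ.injective)
  refine ⟨k, hk, fun μ hμ => ?_⟩
  obtain ⟨i, -, rfl⟩ := hζ.eq_pow_of_pow_eq_one hμ
  rw [map_pow, ← hkζ, ← pow_mul, ← pow_mul, mul_comm]

/-- An automorphism fixing generators fixes the field they generate. -/
theorem fixed_of_mem_adjoin (σ : ℂ →+* ℂ) {S : Set ℂ} (h : ∀ z ∈ S, σ z = z) {z : ℂ}
    (hz : z ∈ IntermediateField.adjoin ℚ S) : σ z = z := by
  induction hz using IntermediateField.adjoin_induction with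
  | mem x hx => exact h x hx
  | algebraMap q => simp
  | add x y _ _ hx hy => rw [map_add, hx, hy]
  | inv x _ hx => rw [map_inv₀, hx]
  | mul x y _ _ hx hy => rw [map_mul, hx, hy]

/-- The fixed-field criterion inside a cyclotomic field. -/
theorem mem_adjoin_of_fixed {N : ℕ} [NeZero N] {ζ : ℂ} (hζ : IsPrimitiveRoot ζ N) {S : Set ℂ}
    (hS : ∀ z ∈ S, z ∈ IntermediateField.adjoin ℚ ({ζ} : Set ℂ)) {z : ℂ}
    (hz : z ∈ IntermediateField.adjoin ℚ ({ζ} : Set ℂ))
    (h : ∀ σ : ℂ →+* ℂ, (∀ y ∈ S, σ y = y) → σ z = z) : z ∈ IntermediateField.adjoin ℚ S := by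
  set L := IntermediateField.adjoin ℚ ({ζ} : Set ℂ)
  have hL : L.toSubalgebra = Algebra.adjoin ℚ ({ζ} : Set ℂ) :=
    IntermediateField.adjoin_simple_toSubalgebra_of_isAlgebraic
      ((hζ.isIntegral (Nat.pos_of_ne_zero (NeZero.ne N))).tower_top (A := ℚ)).isAlgebraic
  have : IsCyclotomicExtension {N} ℚ (Algebra.adjoin ℚ ({ζ} : Set ℂ)) :=
    hζ.adjoin_isCyclotomicExtension ℚ
  have hcyc : IsCyclotomicExtension {N} ℚ L :=
    IsCyclotomicExtension.equiv {N} ℚ (Algebra.adjoin ℚ ({ζ} : Set ℂ))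
      (Subalgebra.equivOfEq _ _ hL.symm)
  have : FiniteDimensional ℚ L := IsCyclotomicExtension.finiteDimensional {N} ℚ L
  have hgal := IsCyclotomicExtension.isGalois {N} ℚ L
  set K := IntermediateField.adjoin ℚ S
  have hKL : K ≤ L := IntermediateField.adjoin_le_iff.2 hS
  let K' := IntermediateField.restrict hKL
  have hmem : (⟨z, hz⟩ : L) ∈ IntermediateField.fixedField K'.fixingSubgroup := by
    rintro ⟨φ, hφ⟩
    obtain ⟨σ, hσ⟩ := GaloisChar.exists_ringEquiv_complex_extend L φ.toRingEquiv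
    refine Subtype.ext ?_
    change ((φ ⟨z, hz⟩ : L) : ℂ) = z
    have h1 : σ z = ((φ ⟨z, hz⟩ : L) : ℂ) := hσ ⟨z, hz⟩
    rw [← h1]
    refine h σ.toRingHom fun y hy => ?_
    have h2 : φ ⟨y, hS y hy⟩ = ⟨y, hS y hy⟩ :=
      (IntermediateField.mem_fixingSubgroup_iff K' φ).1 hφ _
        ((IntermediateField.mem_restrict hKL _).2 (IntermediateField.subset_adjoin ℚ S hy))
    exact (hσ ⟨y, hS y hy⟩).trans (congrArg (fun w : L => (w : ℂ)) h2)
  have hfg : IntermediateField.fixedField K'.fixingSubgroup = K' := by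
    have hgal' : @IsGalois ℚ _ L _ L.algebra' := by convert! hgal
    exact IsGalois.fixedField_fixingSubgroup K'
  rw [hfg] at hmem
  exact (IntermediateField.mem_restrict hKL _).1 hmem

/-- Character values at `g` lie in the cyclotomic field. -/
theorem char_mem_cyclotomic {N : ℕ} [NeZero N] {ζ : ℂ} (hζ : IsPrimitiveRoot ζ N)
    (χ : IrrCharacter G) {g : G} (hg : g ^ N = 1) :
    (χ : G → ℂ) g ∈ IntermediateField.adjoin ℚ ({ζ} : Set ℂ) := by
  obtain ⟨d, ρ, -, hχ⟩ := χ.2
  rw [← hχ]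
  obtain ⟨ι, _, b, μ, hμ, hb⟩ := Chars.exists_eigenbasis ρ g
  rw [show ρ.character g = ∑ i, μ i from Chars.trace_eq_sum_of_eigenbasis _ b μ hb]
  refine sum_mem fun i _ => ?_
  obtain ⟨c, hc⟩ := orderOf_dvd_of_pow_eq_one hg
  obtain ⟨j, -, hj⟩ := hζ.eq_pow_of_pow_eq_one (show μ i ^ N = 1 by rw [hc, pow_mul, hμ i, one_pow])
  rw [← hj]
  exact pow_mem (IntermediateField.mem_adjoin_simple_self ℚ ζ) j

/-- When `g ~ g ^ s` and only these two generators, the field of values is `ℚ(ζ + ζ ^ s)`. -/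
theorem adjoin_values_eq {N : ℕ} [NeZero N] {ζ : ℂ} (hζ : IsPrimitiveRoot ζ N) {g : G}
    (hg : orderOf g = N) {s : ℕ} (hs2 : s * s ≡ 1 [MOD N])
    (hprod : ζ ^ (1 + s) = 1 ∨ ζ ^ (1 + s) = -1) (hconj : IsConj g (g ^ s))
    (honly : ∀ k : ℕ, k.Coprime N → IsConj g (g ^ k) → g ^ k = g ∨ g ^ k = g ^ s) :
    IntermediateField.adjoin ℚ {z : ℂ | ∃ χ : IrrCharacter G, (χ : G → ℂ) g = z} =
      IntermediateField.adjoin ℚ ({ζ + ζ ^ s} : Set ℂ) := by
  cases nonempty_fintype G
  have hgN : g ^ N = 1 := hg ▸ pow_orderOf_eq_one g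
  set η := ζ + ζ ^ s with hη
  refine le_antisymm (IntermediateField.adjoin_le_iff.2 ?_) (IntermediateField.adjoin_le_iff.2 ?_)
  · rintro z ⟨χ, rfl⟩
    set E := IntermediateField.adjoin ℚ ({η} : Set ℂ)
    have hπ : ζ * ζ ^ s ∈ E := by
      rw [← pow_succ', add_comm]
      rcases hprod with h | h <;> rw [h]
      · exact one_mem E
      · exact neg_mem (one_mem E)
    have hpair : ∀ j : ℕ, ζ ^ j + (ζ ^ s) ^ j ∈ E := by
      intro j
      induction j using Nat.strong_induction_on with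
      | _ j ih =>
        match j with
        | 0 => simpa using add_mem (one_mem E) (one_mem E)
        | 1 => simpa using IntermediateField.mem_adjoin_simple_self ℚ η
        | j + 2 =>
          have h1 := ih (j + 1) (by omega)
          have h2 := ih j (by omega)
          rw [show ζ ^ (j + 2) + (ζ ^ s) ^ (j + 2) = η * (ζ ^ (j + 1) + (ζ ^ s) ^ (j + 1)) -
            (ζ * ζ ^ s) * (ζ ^ j + (ζ ^ s) ^ j) by rw [hη]; ring]
          exact sub_mem (mul_mem (IntermediateField.mem_adjoin_simple_self ℚ η) h1) (mul_mem hπ h2)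
    obtain ⟨d, ρ, -, hχ⟩ := χ.2
    obtain ⟨c, hc⟩ := isConj_iff.1 hconj
    have hsame : (χ : G → ℂ) (g ^ s) = (χ : G → ℂ) g := by
      rw [← hc, Chars.irr_isClassFunction χ g c]
    rw [← hχ] at hsame ⊢
    obtain ⟨ι, _, b, μ, hμ, hb⟩ := Chars.exists_eigenbasis ρ g
    have hbk : ∀ (j : ℕ) i, (ρ g ^ j) (b i) = μ i ^ j • b i := by
      intro j i
      induction j with
      | zero => simp
      | succ j ih =>
        rw [pow_succ', Module.End.mul_apply, ih, map_smul, hb, smul_smul, ← pow_succ]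
    have e1 : ρ.character g = ∑ i, μ i := Chars.trace_eq_sum_of_eigenbasis _ b μ hb
    have e2 : ρ.character (g ^ s) = ∑ i, μ i ^ s :=
      Chars.trace_eq_sum_of_eigenbasis _ b _ fun i => by rw [map_pow, hbk]
    have e3 : ρ.character g = (2 : ℂ)⁻¹ * ∑ i, (μ i + μ i ^ s) := by
      rw [Finset.sum_add_distrib, ← e1, ← e2, hsame]
      ring
    show ρ.character g ∈ E
    rw [e3]
    refine mul_mem (inv_mem (add_mem (one_mem E) (one_mem E) |> fun h => by
      simpa [show (2 : ℂ) = 1 + 1 by norm_num] using h)) (sum_mem fun i _ => ?_)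
    obtain ⟨j, -, hj⟩ := hζ.eq_pow_of_pow_eq_one (show μ i ^ N = 1 by rw [← hg]; exact hμ i)
    rw [← hj, ← pow_mul, mul_comm j s, pow_mul]
    exact hpair j
  · rintro z rfl
    refine mem_adjoin_of_fixed hζ (by rintro z ⟨χ, rfl⟩; exact char_mem_cyclotomic hζ χ hgN)
      (add_mem (IntermediateField.mem_adjoin_simple_self ℚ ζ)
        (pow_mem (IntermediateField.mem_adjoin_simple_self ℚ ζ) s)) fun σ hσ => ?_
    obtain ⟨k, hk, hσk⟩ := exists_power σ hζ
    have hc : IsConj g (g ^ k) := Chars.isConj_iff_irr.2 fun χ => by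
      rw [← map_char hσk χ hgN, hσ _ ⟨χ, rfl⟩]
    have hkmod : k ≡ 1 [MOD N] ∨ k ≡ s [MOD N] := by
      rcases honly k hk hc with h | h
      · exact Or.inl (hg ▸ pow_eq_pow_iff_modEq.1 (h.trans (pow_one g).symm))
      · exact Or.inr (hg ▸ pow_eq_pow_iff_modEq.1 h)
    have hpow : ∀ a b : ℕ, a ≡ b [MOD N] → ζ ^ a = ζ ^ b := fun a b h => by
      rw [← pow_mod_orderOf ζ a, ← pow_mod_orderOf ζ b, ← hζ.eq_orderOf, h]
    rw [map_add, map_pow, hσk ζ hζ.pow_eq_one, ← pow_mul]
    rcases hkmod with h | h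
    · rw [hpow k 1 h, hpow (k * s) (1 * s) (h.mul_right s), pow_one, one_mul]
    · rw [hpow k s h, hpow (k * s) 1 ((h.mul_right s).trans hs2), pow_one, add_comm]

/-- A cyclic maximal subgroup bounds the conjugates of its generator among its powers. -/
theorem eq_or_eq_of_isConj (P : Sylow 2 G) {n : ℕ} (hn : 2 ≤ n) (hP : Nat.card P = 2 ^ n) {g x : G}
    (hg : orderOf g = 2 ^ (n - 1)) {s : ℕ} (hxg : x * g * x⁻¹ = g ^ s) (hne : g ^ s ≠ g)
    {k : ℕ} (hk : k.Coprime (2 ^ (n - 1))) (hc : IsConj g (g ^ k)) :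
    g ^ k = g ∨ g ^ k = g ^ s := by
  classical
  set U := Subgroup.normalizer (Subgroup.zpowers g : Set G) with hU
  set C := (Subgroup.centralizer ({g} : Set G)).subgroupOf U with hC
  have hin : ∀ (h : G) (j : ℕ), h * g * h⁻¹ = g ^ j → h ∈ U := by
    intro h j hj
    have hle : (Subgroup.zpowers g).map (MulAut.conj h).toMonoidHom ≤ Subgroup.zpowers g := by
      rw [MonoidHom.map_zpowers, Subgroup.zpowers_le]
      change h * g * h⁻¹ ∈ Subgroup.zpowers g
      rw [hj]
      exact pow_mem (Subgroup.mem_zpowers g) j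
    have heq := Subgroup.eq_of_le_of_card_ge hle
      (Subgroup.card_map_of_injective (MulAut.conj h).injective).ge
    rw [hU, Subgroup.mem_normalizer_iff]
    intro y
    conv_rhs => rw [← heq]
    exact ⟨fun hy => ⟨y, hy, rfl⟩, fun ⟨y', hy', he⟩ => (MulAut.conj h).injective he ▸ hy'⟩
  have hnat : ∀ h : U, ∃ j : ℕ, (h : G) * g * (h : G)⁻¹ = g ^ j := by
    intro h
    obtain ⟨j, hj⟩ := (Submonoid.mem_powers_iff _ _).1 (mem_powers_iff_mem_zpowers.2
        ((Subgroup.mem_normalizer_iff.1 h.2 g).1 (Subgroup.mem_zpowers g)))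
    exact ⟨j, hj.symm⟩
  have hCn : C.Normal := ⟨fun a ha b => by
    rw [hC, Subgroup.mem_subgroupOf, Subgroup.mem_centralizer_singleton_iff] at ha ⊢
    obtain ⟨j, hj⟩ := hnat b⁻¹
    simp only [InvMemClass.coe_inv, inv_inv] at hj
    have h1 : (a : G) * g ^ j = g ^ j * a := (Commute.pow_right ha j)
    simp only [Subgroup.coe_mul, InvMemClass.coe_inv]
    calc (b : G) * a * (b : G)⁻¹ * g = b * (a * ((b : G)⁻¹ * g * b)) * (b : G)⁻¹ := by group
      _ = b * (g ^ j * a) * (b : G)⁻¹ := by rw [hj, h1]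
      _ = g * ((b : G) * a * (b : G)⁻¹) := by rw [← hj]; group⟩
  have hpQ : IsPGroup 2 (U ⧸ C) := by
    intro q
    obtain ⟨b, rfl⟩ := QuotientGroup.mk_surjective q
    refine ⟨n, ?_⟩
    rw [← QuotientGroup.mk_pow, QuotientGroup.eq_one_iff, hC, Subgroup.mem_subgroupOf,
      Subgroup.mem_centralizer_singleton_iff]
    obtain ⟨j, hj⟩ := hnat b
    have hpow : ∀ i : ℕ, (b : G) ^ i * g * ((b : G) ^ i)⁻¹ = g ^ (j ^ i) := by
      intro i
      induction i with
      | zero => simp
      | succ i ih =>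
        rw [pow_succ' (b : G), show (b : G) * (b : G) ^ i * g * ((b : G) * (b : G) ^ i)⁻¹ =
          b * ((b : G) ^ i * g * ((b : G) ^ i)⁻¹) * (b : G)⁻¹ by group, ih, ← conj_pow, hj,
          ← pow_mul, pow_succ' j]
    have hj2 : j.Coprime (orderOf g) := by
      have h1 : orderOf (g ^ j) = orderOf g := by
        rw [← hj]
        exact MulEquiv.orderOf_eq (MulAut.conj (b : G)) g
      rw [orderOf_pow] at h1
      exact (Nat.coprime_iff_gcd_eq_one.2 ((Nat.div_eq_self.1 h1).resolve_left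
        (orderOf_pos g).ne')).symm
    have h2 : j ^ 2 ^ n ≡ 1 [MOD orderOf g] := by
      have h3 := Nat.ModEq.pow_totient hj2
      rw [hg, Nat.totient_prime_pow Nat.prime_two (by omega)] at h3
      rw [hg, show (2 : ℕ) ^ n = 2 ^ (n - 1 - 1) * (2 - 1) * 2 ^ 2 by
        rw [show (2 : ℕ) - 1 = 1 from rfl, mul_one, ← pow_add]; congr 1; omega, pow_mul]
      rw [show (2 : ℕ) - 1 = 1 from rfl, mul_one] at h3 ⊢
      have h5 := h3.pow (2 ^ 2)
      rwa [one_pow] at h5
    have h4 := hpow (2 ^ n)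
    rw [← pow_mod_orderOf g (j ^ 2 ^ n), h2, pow_mod_orderOf, pow_one, mul_inv_eq_iff_eq_mul] at h4
    simpa using h4
  obtain ⟨e, he⟩ := IsPGroup.iff_card.1 hpQ
  have hgC : Subgroup.zpowers g ≤ Subgroup.centralizer ({g} : Set G) := by
    rw [Subgroup.zpowers_le, Subgroup.mem_centralizer_singleton_iff]
  have hdvd1 : 2 ^ (n - 1) ∣ Nat.card C := by
    rw [← hg, ← Nat.card_zpowers]
    have hgU : Subgroup.zpowers g ≤ U := Subgroup.le_normalizer
    rw [← Nat.card_congr (Subgroup.subgroupOfEquivOfLe hgU).toEquiv]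
    exact Subgroup.card_dvd_of_le fun y hy => hgC hy
  have hdvd : 2 ^ (n - 1 + e) ∣ Nat.card G := by
    rw [pow_add, ← he]
    exact ((Nat.mul_dvd_mul_right hdvd1 _).trans (dvd_of_eq C.card_mul_index)).trans
      (Subgroup.card_subgroup_dvd_card U)
  have he1 : e ≤ 1 := by
    have h1 := (Nat.Prime.pow_dvd_iff_le_factorization Nat.prime_two Nat.card_pos.ne').1 hdvd
    have h2 : 2 ^ n = 2 ^ (Nat.card G).factorization 2 := hP ▸ Sylow.card_eq_multiplicity P
    have := Nat.pow_right_injective le_rfl h2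
    omega
  obtain ⟨c, hc⟩ := isConj_iff.1 hc
  by_contra hcon
  push Not at hcon
  have hsep : ∀ a b : U, (a : U ⧸ C) = b → (a : G) * g * (a : G)⁻¹ = b * g * (b : G)⁻¹ := by
    intro a b hab
    rw [QuotientGroup.eq, hC, Subgroup.mem_subgroupOf, Subgroup.mem_centralizer_singleton_iff] at hab
    simp only [Subgroup.coe_mul, InvMemClass.coe_inv] at hab
    calc (a : G) * g * (a : G)⁻¹ = a * (g * ((a : G)⁻¹ * b)) * (b : G)⁻¹ := by group
      _ = a * (((a : G)⁻¹ * b) * g) * (b : G)⁻¹ := by rw [hab]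
      _ = b * g * (b : G)⁻¹ := by group
  let f : Fin 3 → U ⧸ C := ![((1 : U) : U ⧸ C), ((⟨x, hin x s hxg⟩ : U) : U ⧸ C),
    ((⟨c, hin c k hc⟩ : U) : U ⧸ C)]
  have hf : Function.Injective f := by
    intro a b hab
    fin_cases a <;> fin_cases b <;> first
      | rfl
      | (exfalso
         have := hsep _ _ hab
         simp only [OneMemClass.coe_one, one_mul, inv_one, mul_one, hxg, hc] at this
         first
          | exact hne this
          | exact hne this.symm
          | exact hcon.1 this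
          | exact hcon.1 this.symm
          | exact hcon.2 this
          | exact hcon.2 this.symm)
  have h3 := Nat.card_le_card_of_injective f hf
  rw [Nat.card_fin, he] at h3
  interval_cases e <;> simp at h3

/-- Let G be a finite group with Sylow 2-subgroup P of order 2^n ≥ 8, and let ζ be a primitive 2^(n−1)-th root of unity in ℂ. Then the commutator subgroup of P has index 4 in P if and only if there is an element g of P whose conjugacy class in G has even size and such that the field generated over ℚ by the values at g of all irreducible complex characters of G equals ℚ(ζ + ζ⁻¹) or ℚ(ζ − ζ⁻¹). -/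
theorem result {G : Type*} [Group G] [Finite G] (P : Sylow 2 G) (n : ℕ) (hn : 3 ≤ n) (hP : Nat.card P = 2 ^ n) (ζ : ℂ) (hζ : IsPrimitiveRoot ζ (2 ^ (n - 1))) :
    (commutator ↥P).index = 4 ↔
      ∃ g : G, g ∈ (P : Subgroup G) ∧ 2 ∣ (Subgroup.centralizer ({g} : Set G)).index ∧
        (IntermediateField.adjoin ℚ {z : ℂ | ∃ χ : Cfsg.IrrCharacter G, (χ : G → ℂ) g = z} = IntermediateField.adjoin ℚ ({ζ + ζ⁻¹} : Set ℂ) ∨
          IntermediateField.adjoin ℚ {z : ℂ | ∃ χ : Cfsg.IrrCharacter G, (χ : G → ℂ) g = z} = IntermediateField.adjoin ℚ ({ζ - ζ⁻¹} : Set ℂ)) := by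
  classical
  have h2 : Fact (Nat.Prime 2) := ⟨Nat.prime_two⟩
  obtain ⟨m, rfl⟩ : ∃ m, n = m + 3 := ⟨n - 3, by omega⟩
  have hN : 2 ^ (m + 3 - 1) = 4 * 2 ^ m := by rw [show m + 3 - 1 = 2 + m by omega, pow_add]; rfl
  rw [hN] at hζ
  have hNz : NeZero (4 * 2 ^ m) := ⟨by positivity⟩
  have hhalf : ζ ^ (2 * 2 ^ m) = -1 :=
    IsPrimitiveRoot.eq_neg_one_of_two_right (hζ.pow (Nat.pos_of_ne_zero hNz.ne) (by ring))
  have hinv1 : ζ ^ (4 * 2 ^ m - 1) = ζ⁻¹ := by
    refine eq_inv_of_mul_eq_one_left ?_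
    rw [← pow_succ, Nat.sub_add_cancel (by nlinarith [Nat.one_le_two_pow (n := m)]), hζ.pow_eq_one]
  have hinv2 : ζ ^ (2 * 2 ^ m - 1) = -ζ⁻¹ := by
    rw [← neg_one_mul, ← hhalf]
    refine (eq_mul_inv_iff_mul_eq₀ (hζ.ne_zero hNz.ne)).2 ?_
    rw [← pow_succ, Nat.sub_add_cancel (by nlinarith [Nat.one_le_two_pow (n := m)])]
  have hpos := Nat.one_le_two_pow (n := m)
  have hPodd : ∀ g : G, g ∈ (P : Subgroup G) → 2 ∣ (Subgroup.centralizer ({g} : Set G)).index →
      ¬ ∀ a b : P, a * b = b * a := by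
    intro g hg he hab
    refine P.not_dvd_index (he.trans (Subgroup.index_dvd_of_le fun y hy => ?_))
    exact Subgroup.mem_centralizer_singleton_iff.2 (congrArg Subtype.val (hab ⟨y, hy⟩ ⟨g, hg⟩))
  constructor
  · intro hd
    obtain ⟨hZ, C, hCc, hCi, hCx⟩ := PLemmas.two_group_index_four hn hP hd
    obtain ⟨r, hr⟩ := (Subgroup.isCyclic_iff_exists_zpowers_eq_top C).1 hCc
    have hCcard : Nat.card C = 4 * 2 ^ m := by
      have := C.card_mul_index
      rw [hCi, hP, pow_add] at this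
      omega
    have hord : orderOf r = 4 * 2 ^ m := by rw [← Nat.card_zpowers, hr, hCcard]
    obtain ⟨x, hx⟩ : ∃ x, x ∉ C := by
      by_contra! h
      rw [Subgroup.eq_top_iff' C |>.2 h, Subgroup.index_top] at hCi
      omega
    have : C.Normal := Subgroup.normal_of_index_eq_two hCi
    obtain ⟨hxx, hxc⟩ := hCx x hx
    have hrC : r ∈ C := hr ▸ Subgroup.mem_zpowers r
    set z := r * (x * r * x⁻¹) with hzdef
    have hzC : z ∈ C := mul_mem hrC (Subgroup.Normal.conj_mem inferInstance r hrC x)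
    have hz2 : z ^ 2 = 1 := by
      have h1 : (⟨z, hxc r hrC⟩ : Subgroup.center ↥(P : Subgroup G)) ^ 2 = 1 := by
        have h0 := pow_card_eq_one' (x := (⟨z, hxc r hrC⟩ : Subgroup.center ↥(P : Subgroup G)))
        rwa [hZ] at h0
      exact congrArg Subtype.val h1
    have hne : x * r * x⁻¹ ≠ r := by
      intro h
      have hcen : r ∈ Subgroup.center ↥(P : Subgroup G) := by
        rw [Subgroup.mem_center_iff]
        intro y
        have hgen := PLemmas.sup_zpowers_eq_top_of_index_two hCi hx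
        have hy : y ∈ Subgroup.centralizer ({r} : Set ↥(P : Subgroup G)) := by
          refine (show C ⊔ Subgroup.zpowers x ≤ _ from sup_le ?_ ?_) (hgen ▸ Subgroup.mem_top y)
          · rw [← hr, Subgroup.zpowers_le, Subgroup.mem_centralizer_singleton_iff]
          · rw [Subgroup.zpowers_le, Subgroup.mem_centralizer_singleton_iff]
            exact mul_inv_eq_iff_eq_mul.1 h
        exact Subgroup.mem_centralizer_singleton_iff.1 hy
      have h1 : orderOf r ∣ Nat.card (Subgroup.center ↥(P : Subgroup G)) :=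
        Subgroup.orderOf_dvd_natCard _ hcen
      rw [hord, hZ] at h1
      have := Nat.le_of_dvd two_pos h1
      omega
    obtain ⟨s, hs, hsc⟩ : ∃ s : ℕ, (s = 4 * 2 ^ m - 1 ∨ s = 2 * 2 ^ m - 1) ∧
        x * r * x⁻¹ = r ^ s := by
      obtain ⟨i, hi⟩ := Submonoid.mem_powers_iff _ _ |>.1
        (mem_powers_iff_mem_zpowers.2 (hr ▸ hzC : z ∈ Subgroup.zpowers r))
      rw [← hi, ← pow_mul] at hz2
      have hdiv := orderOf_dvd_of_pow_eq_one hz2
      rw [hord] at hdiv
      have heq : x * r * x⁻¹ = r⁻¹ * z := by rw [hzdef, inv_mul_cancel_left]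
      obtain ⟨c, hc⟩ : 2 * 2 ^ m ∣ i := by
        obtain ⟨c, hc⟩ := hdiv
        exact ⟨c, by linarith⟩
      have hr1 : r ^ (4 * 2 ^ m) = 1 := hord ▸ pow_orderOf_eq_one r
      rcases Nat.even_or_odd' c with ⟨d, rfl | rfl⟩
      · refine ⟨4 * 2 ^ m - 1, Or.inl rfl, ?_⟩
        rw [heq, ← hi, hc, show 2 * 2 ^ m * (2 * d) = 4 * 2 ^ m * d by ring, pow_mul, hr1, one_pow,
          mul_one, inv_eq_iff_mul_eq_one, ← pow_succ' r, Nat.sub_add_cancel (by omega), hr1]
      · refine ⟨2 * 2 ^ m - 1, Or.inr rfl, ?_⟩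
        rw [heq, ← hi, hc, show 2 * 2 ^ m * (2 * d + 1) = 4 * 2 ^ m * d + 2 * 2 ^ m by ring, pow_add,
          pow_mul, hr1, one_pow, one_mul, inv_mul_eq_iff_eq_mul, ← pow_succ' r,
          Nat.sub_add_cancel (by omega)]
    have hgo : orderOf (r : G) = 4 * 2 ^ m := by rw [Subgroup.orderOf_coe, hord]
    have hxg : (x : G) * (r : G) * (x : G)⁻¹ = (r : G) ^ s := congrArg Subtype.val hsc
    have hnsG : (r : G) ^ s ≠ r := fun h => hne (Subtype.ext (hxg.trans h))
    refine ⟨r, r.2, ?_, ?_⟩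
    · by_contra hodd
      obtain ⟨y, hy, hyP⟩ := BrauerMap.exists_conj_mem_centralizer_sylow P hodd
      obtain ⟨c, hc⟩ := isConj_iff.1 hy
      have hyo : orderOf y = 4 * 2 ^ m := by
        rw [← hc, show c * (r : G) * c⁻¹ = MulAut.conj c (r : G) from rfl, MulEquiv.orderOf_eq, hgo]
      have hypg : IsPGroup 2 (Subgroup.zpowers y) :=
        IsPGroup.of_card (n := m + 2) (by rw [Nat.card_zpowers, hyo, pow_add]; ring)
      have hymem : y ∈ (P : Subgroup G) := by
        have h1 := hypg.inf_normalizer_sylow P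
        have h2 : y ∈ Subgroup.zpowers y ⊓ Subgroup.normalizer ((P : Subgroup G) : Set G) :=
          ⟨Subgroup.mem_zpowers y, (Subgroup.centralizer_le_normalizer _) hyP⟩
        exact ((SetLike.ext_iff.1 h1 y).1 h2).2
      have hyZ : (⟨y, hymem⟩ : ↥(P : Subgroup G)) ∈ Subgroup.center ↥(P : Subgroup G) :=
        Subgroup.mem_center_iff.2 fun a => Subtype.ext (Subgroup.mem_centralizer_iff.1 hyP a a.2)
      have h1 : orderOf (⟨y, hymem⟩ : ↥(P : Subgroup G)) ∣
          Nat.card (Subgroup.center ↥(P : Subgroup G)) := Subgroup.orderOf_dvd_natCard _ hyZ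
      rw [Subgroup.orderOf_mk, hyo, hZ] at h1
      have := Nat.le_of_dvd two_pos h1
      omega
    · have hr1 : (r : G) ^ (4 * 2 ^ m) = 1 := hgo ▸ pow_orderOf_eq_one (r : G)
      have hxxr : (r : G) ^ (s * s) = r := by
        have h1 : x * x * r * (x * x)⁻¹ = r := by
          rw [← Subgroup.mem_center_iff.1 hxx r, mul_inv_cancel_right]
        have h2 : x * x * r * (x * x)⁻¹ = r ^ (s * s) := by
          rw [show x * x * r * (x * x)⁻¹ = x * (x * r * x⁻¹) * x⁻¹ by group, hsc, ← conj_pow, hsc,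
            ← pow_mul]
        exact congrArg Subtype.val (h2.symm.trans h1)
      have hs2 : s * s ≡ 1 [MOD 4 * 2 ^ m] :=
        hgo ▸ pow_eq_pow_iff_modEq.1 (hxxr.trans (pow_one _).symm)
      have hfield := adjoin_values_eq hζ hgo hs2 (by
        rcases hs with rfl | rfl
        · exact Or.inl (by rw [add_comm, Nat.sub_add_cancel (by omega), hζ.pow_eq_one])
        · exact Or.inr (by rw [add_comm, Nat.sub_add_cancel (by omega), hhalf]))
        (isConj_iff.2 ⟨x, hxg⟩) (fun k hk hck => eq_or_eq_of_isConj P (n := m + 3) (by omega) hP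
          (by rw [hgo, hN]) hxg hnsG (by rwa [hN]) hck)
      rcases hs with rfl | rfl
      · exact Or.inl (by rw [hfield, hinv1])
      · exact Or.inr (by rw [hfield, hinv2, sub_eq_add_neg])
  · rintro ⟨g, hgP, heven, hfield⟩
    have hnab := hPodd g hgP heven
    rcases Nat.eq_zero_or_pos m with rfl | hm
    · -- order eight
      obtain ⟨j, hj0, hj3, hZ, hQ⟩ := PLemmas.exists_card_center_eq (p := 2) P.2 hP (by omega)
      have hj : j = 1 := by
        by_contra hj
        rcases (show j = 2 ∨ j = 3 by omega) with rfl | rfl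
        · exact PLemmas.index_center_ne_prime (p := 2) (by simpa using hQ)
        · refine hnab fun a b => ?_
          have htop : Subgroup.center ↥(P : Subgroup G) = ⊤ :=
            Subgroup.eq_top_of_card_eq _ (by rw [hZ, hP])
          exact (Subgroup.mem_center_iff.1 (htop ▸ Subgroup.mem_top b) a)
      subst hj
      have hle : commutator ↥(P : Subgroup G) ≤ Subgroup.center ↥(P : Subgroup G) := by
        have hQ' : IsMulCommutative (↥(P : Subgroup G) ⧸ Subgroup.center ↥(P : Subgroup G)) :=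
          IsPGroup.isMulCommutative_of_card_eq_prime_sq (p := 2) (by simpa using hQ)
        exact Subgroup.Normal.quotient_commutative_iff_commutator_le.1 hQ'
      have hne : commutator ↥(P : Subgroup G) ≠ ⊥ := fun h => hnab fun a b => by
        rw [← commutatorElement_eq_one_iff_mul_comm, ← Subgroup.mem_bot, ← h]
        exact Subgroup.commutator_mem_commutator (Subgroup.mem_top a) (Subgroup.mem_top b)
      have heq : Nat.card (commutator ↥(P : Subgroup G)) = 2 := by
        have h1 := Subgroup.card_dvd_of_le hle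
        rw [hZ, pow_one] at h1
        rcases (Nat.dvd_prime Nat.prime_two).1 h1 with h | h
        · exact absurd (Subgroup.card_eq_one.1 h) hne
        · exact h
      have := (commutator ↥(P : Subgroup G)).card_mul_index
      rw [heq, hP] at this
      norm_num at this
      change (commutator ↥(P : Subgroup G)).index = 4
      omega
    obtain ⟨k, rfl⟩ : ∃ k, m = k + 1 := ⟨m - 1, by omega⟩
    have hk1 := Nat.one_le_two_pow (n := k)
    have hNN : 4 * 2 ^ (k + 1) = 8 * 2 ^ k := by rw [pow_succ]; ring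
    obtain ⟨s, hs, hη⟩ : ∃ s : ℕ, (s = 4 * 2 ^ (k + 1) - 1 ∨ s = 2 * 2 ^ (k + 1) - 1) ∧
        IntermediateField.adjoin ℚ {z : ℂ | ∃ χ : IrrCharacter G, (χ : G → ℂ) g = z} =
          IntermediateField.adjoin ℚ ({ζ + ζ ^ s} : Set ℂ) := by
      rcases hfield with h | h
      · exact ⟨_, Or.inl rfl, by rw [h, hinv1]⟩
      · exact ⟨_, Or.inr rfl, by rw [h, hinv2, sub_eq_add_neg]⟩
    have hfix : ∀ σ : ℂ →+* ℂ, (∀ χ : IrrCharacter G, σ ((χ : G → ℂ) g) = (χ : G → ℂ) g) →
        σ (ζ + ζ ^ s) = ζ + ζ ^ s := fun σ hσ => fixed_of_mem_adjoin σ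
        (S := {z : ℂ | ∃ χ : IrrCharacter G, (χ : G → ℂ) g = z}) (by rintro z ⟨χ, rfl⟩; exact hσ χ)
      (hη.symm ▸ IntermediateField.mem_adjoin_simple_self ℚ _)
    obtain ⟨a, ha⟩ : ∃ a, orderOf g = 2 ^ a := by
      obtain ⟨a, ha⟩ := IsPGroup.iff_orderOf.1 P.2 ⟨g, hgP⟩
      exact ⟨a, by rwa [Subgroup.orderOf_mk] at ha⟩
    have hbig : k + 3 ≤ a := by
      by_contra hlt
      have hgh : g ^ (4 * 2 ^ k) = 1 := by
        refine orderOf_dvd_iff_pow_eq_one.1 ?_
        rw [ha, show 4 * 2 ^ k = 2 ^ (k + 2) by rw [pow_add]; ring]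
        exact pow_dvd_pow 2 (by omega)
      obtain ⟨σ, hσ⟩ := GaloisChar.exists_ringEquiv_pow (m := 4 * 2 ^ (k + 1)) (by positivity)
        (k := 4 * 2 ^ k + 1) (Nat.Coprime.mul_right
          (show Nat.Coprime (4 * 2 ^ k + 1) (2 ^ 2) from Nat.Coprime.pow_right 2 (by
            rw [Nat.coprime_two_right, Nat.odd_iff]; omega))
          (Nat.Coprime.pow_right (k + 1) (by rw [Nat.coprime_two_right, Nat.odd_iff]; omega)))
      have h1 := hfix σ.toRingHom fun χ => by
        rw [map_char (σ := σ.toRingHom) hσ χ (by rw [hNN, show 8 * 2 ^ k = 4 * 2 ^ k * 2 by ring,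
          pow_mul, hgh, one_pow]), pow_succ, hgh, one_mul]
      have hz : ζ ^ (4 * 2 ^ k) = -1 := by
        rw [show 4 * 2 ^ k = 2 * 2 ^ (k + 1) by rw [pow_succ]; ring, hhalf]
      have hso : (-1 : ℂ) ^ s = -1 := Odd.neg_one_pow (by
        rw [Nat.odd_iff]; rcases hs with rfl | rfl <;> omega)
      rw [map_add, map_pow, show σ.toRingHom ζ = σ ζ from rfl, hσ ζ hζ.pow_eq_one, pow_succ, hz,
        neg_one_mul, neg_pow ζ s, hso, neg_one_mul] at h1
      have h0 : ζ + ζ ^ s = 0 := by linear_combination (-1 / 2 : ℂ) * h1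
      have h2 : ζ ^ s = ζ ^ (4 * 2 ^ k + 1) := by
        rw [pow_succ, hz, neg_one_mul]
        linear_combination h0
      have := hζ.pow_inj (by rcases hs with rfl | rfl <;> omega) (by omega) h2
      rcases hs with rfl | rfl <;> (rw [pow_succ] at this; omega)
    have hdvd : orderOf g ∣ 2 ^ (k + 1 + 3) := hP ▸ Subgroup.orderOf_dvd_natCard _ hgP
    have hle : a ≤ k + 4 := (Nat.pow_dvd_pow_iff_le_right (x := 2) (by norm_num)).1 (ha ▸ hdvd)
    set gP : ↥(P : Subgroup G) := ⟨g, hgP⟩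
    set C := Subgroup.zpowers gP
    have hCcard : Nat.card C = 2 ^ a := by rw [Nat.card_zpowers, Subgroup.orderOf_mk, ha]
    have hane : a ≠ k + 4 := by
      intro h
      have htop : C = ⊤ := Subgroup.eq_top_of_card_eq _ (by rw [hCcard, hP, h])
      refine hnab fun u v => ?_
      obtain ⟨i, rfl⟩ := (htop ▸ Subgroup.mem_top u : u ∈ C)
      obtain ⟨j, rfl⟩ := (htop ▸ Subgroup.mem_top v : v ∈ C)
      exact zpow_mul_comm gP i j
    have haeq : a = k + 3 := by omega
    subst haeq
    have hgo : orderOf g = 4 * 2 ^ (k + 1) := by rw [ha, pow_add, pow_succ]; ring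
    have hCi : C.index = 2 := by
      have := C.card_mul_index
      rw [hCcard, hP, show k + 1 + 3 = k + 3 + 1 from rfl, pow_succ] at this
      exact Nat.eq_of_mul_eq_mul_left (by positivity) this
    have : C.Normal := Subgroup.normal_of_index_eq_two hCi
    obtain ⟨x, hx⟩ : ∃ x, x ∉ C := by
      by_contra! h
      rw [Subgroup.eq_top_iff' C |>.2 h, Subgroup.index_top] at hCi
      omega
    obtain ⟨t, ht⟩ := Submonoid.mem_powers_iff _ _ |>.1 (mem_powers_iff_mem_zpowers.2
      (Subgroup.Normal.conj_mem inferInstance gP (Subgroup.mem_zpowers gP) x))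
    have hxne : x * gP * x⁻¹ ≠ gP := by
      intro h
      refine hnab fun u v => ?_
      have hgen := PLemmas.sup_zpowers_eq_top_of_index_two hCi hx
      have hcen : gP ∈ Subgroup.center ↥(P : Subgroup G) := by
        rw [Subgroup.mem_center_iff]
        intro y
        have hy : y ∈ Subgroup.centralizer ({gP} : Set ↥(P : Subgroup G)) := by
          refine (show C ⊔ Subgroup.zpowers x ≤ _ from sup_le ?_ ?_) (hgen ▸ Subgroup.mem_top y)
          · rw [Subgroup.zpowers_le, Subgroup.mem_centralizer_singleton_iff]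
          · rw [Subgroup.zpowers_le, Subgroup.mem_centralizer_singleton_iff]
            exact mul_inv_eq_iff_eq_mul.1 h
        exact Subgroup.mem_centralizer_singleton_iff.1 hy
      exfalso
      refine P.not_dvd_index (heven.trans (Subgroup.index_dvd_of_le fun y hy => ?_))
      exact Subgroup.mem_centralizer_singleton_iff.2
        (congrArg Subtype.val (Subgroup.mem_center_iff.1 hcen ⟨y, hy⟩))
    have htG : (x : G) * g * (x : G)⁻¹ = g ^ t := (congrArg Subtype.val ht).symm
    have htcop : t.Coprime (4 * 2 ^ (k + 1)) := by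
      have h1 : orderOf (g ^ t) = orderOf g := by
        rw [← htG]
        exact MulEquiv.orderOf_eq (MulAut.conj (x : G)) g
      rw [orderOf_pow] at h1
      rw [← hgo]
      exact (Nat.coprime_iff_gcd_eq_one.2 ((Nat.div_eq_self.1 h1).resolve_left
        (orderOf_pos g).ne')).symm
    obtain ⟨σ, hσ⟩ := GaloisChar.exists_ringEquiv_pow (m := 4 * 2 ^ (k + 1)) (by positivity) htcop
    have h1 := hfix σ.toRingHom fun χ => by
      rw [map_char (σ := σ.toRingHom) hσ χ (hgo ▸ pow_orderOf_eq_one g), ← htG,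
        Chars.irr_isClassFunction χ g x]
    rw [map_add, map_pow, show σ.toRingHom ζ = σ ζ from rfl, hσ ζ hζ.pow_eq_one] at h1
    have hprod : (ζ ^ t) * (ζ ^ t) ^ s = ζ * ζ ^ s := by
      have htodd : Odd t := by
        have := Nat.Coprime.coprime_dvd_right (Dvd.dvd.mul_right (by norm_num : 2 ∣ 4) _) htcop
        rwa [Nat.coprime_two_right] at this
      have hπ : ∀ c : ℂ, c * c ^ s = c ^ (s + 1) := fun c => (pow_succ' c s).symm
      rw [hπ, hπ, ← pow_mul, mul_comm, pow_mul]
      rcases hs with rfl | rfl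
      · rw [Nat.sub_add_cancel (by omega), hζ.pow_eq_one, one_pow]
      · rw [Nat.sub_add_cancel (by omega), hhalf, htodd.neg_one_pow]
    have h2 : (ζ ^ t - ζ) * (ζ ^ t - ζ ^ s) = 0 := by
      linear_combination (ζ ^ t) * h1 - hprod
    have hts : gP ^ t = gP ^ s := by
      rcases mul_eq_zero.1 h2 with h | h
      · exfalso
        refine hxne (ht.symm.trans (Subtype.ext ?_))
        rw [SubmonoidClass.coe_pow]
        conv_rhs => rw [← pow_one (gP : G)]
        rw [pow_eq_pow_iff_modEq, hgo]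
        exact modEq_of_pow_eq hζ (by rw [pow_one]; exact sub_eq_zero.1 h)
      · refine Subtype.ext ?_
        rw [SubmonoidClass.coe_pow, SubmonoidClass.coe_pow, pow_eq_pow_iff_modEq, hgo]
        exact modEq_of_pow_eq hζ (sub_eq_zero.1 h)
    have hxs : x * gP * x⁻¹ = gP ^ s := by rw [← ht, hts]
    set D := Subgroup.zpowers (gP ^ 2)
    have hDcard : Nat.card D = 2 ^ (k + 2) := by
      rw [Nat.card_zpowers, orderOf_pow' _ two_ne_zero, Subgroup.orderOf_mk, ha,
        Nat.gcd_eq_right (dvd_pow_self 2 (by omega)), show k + 3 = k + 2 + 1 from rfl, pow_succ,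
        Nat.mul_div_cancel _ two_pos]
    have hDn : D.Normal := by
      constructor
      rintro _ ⟨i, rfl⟩ y
      have hgen := PLemmas.sup_zpowers_eq_top_of_index_two hCi hx
      have hy : y ∈ Subgroup.normalizer (D : Set ↥(P : Subgroup G)) := by
        refine (show C ⊔ Subgroup.zpowers x ≤ _ from sup_le ?_ ?_) (hgen ▸ Subgroup.mem_top y)
        · refine le_trans ?_ (Subgroup.centralizer_le_normalizer (D : Set ↥(P : Subgroup G)))
          rw [Subgroup.zpowers_le, Subgroup.mem_centralizer_iff]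
          rintro _ ⟨l, rfl⟩
          exact ((Commute.refl gP).pow_left 2).zpow_left l
        · rw [Subgroup.zpowers_le]
          have hle : D.map (MulAut.conj x).toMonoidHom ≤ D := by
            rw [MonoidHom.map_zpowers, Subgroup.zpowers_le]
            refine ⟨(s : ℤ), ?_⟩
            show (gP ^ 2) ^ (s : ℤ) = MulAut.conj x (gP ^ 2)
            rw [zpow_natCast, map_pow, MulAut.conj_apply, hxs, ← pow_mul, ← pow_mul, mul_comm]
          have heq := Subgroup.eq_of_le_of_card_ge hle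
            (Subgroup.card_map_of_injective (MulAut.conj x).injective).ge
          rw [Subgroup.mem_normalizer_iff]
          intro z
          conv_rhs => rw [← heq]
          exact ⟨fun hz => ⟨z, hz, rfl⟩, fun ⟨z', hz', he⟩ => (MulAut.conj x).injective he ▸ hz'⟩
      exact (Subgroup.mem_normalizer_iff.1 hy _).1 ⟨i, rfl⟩
    have hDi : D.index = 4 := by
      have := D.card_mul_index
      rw [hDcard, hP, show k + 1 + 3 = k + 2 + 2 from rfl, pow_add 2 (k + 2) 2] at this
      exact Nat.eq_of_mul_eq_mul_left (by positivity) this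
    have hcomm : commutator ↥(P : Subgroup G) = D := by
      refine le_antisymm ?_ ?_
      · have hQ : IsMulCommutative (↥(P : Subgroup G) ⧸ D) :=
          IsPGroup.isMulCommutative_of_card_eq_prime_sq (p := 2) (by
            rw [← Subgroup.index_eq_card, hDi]; rfl)
        exact Subgroup.Normal.quotient_commutative_iff_commutator_le.1 hQ
      · have hmem : (gP ^ 2) ^ ((s - 1) / 2) ∈ commutator ↥(P : Subgroup G) := by
          have h3 : (gP ^ 2) ^ ((s - 1) / 2) = ⁅x, gP⁆ := by
            rw [commutatorElement_def, hxs, ← pow_mul, Nat.mul_div_cancel' (by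
              rcases hs with rfl | rfl <;> omega), eq_mul_inv_iff_mul_eq, ← pow_succ,
              Nat.sub_add_cancel (by rcases hs with rfl | rfl <;> omega)]
          rw [h3]
          exact Subgroup.commutator_mem_commutator (Subgroup.mem_top x) (Subgroup.mem_top gP)
        have hcop : Nat.Coprime ((s - 1) / 2) (orderOf (gP ^ 2)) := by
          rw [← Nat.card_zpowers, hDcard]
          refine Nat.Coprime.pow_right _ ?_
          rw [Nat.coprime_two_right, Nat.odd_iff]
          rcases hs with rfl | rfl <;> (rw [pow_succ]; omega)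
        obtain ⟨e, he⟩ := exists_pow_eq_self_of_coprime hcop
        rw [Subgroup.zpowers_le, ← he]
        exact pow_mem hmem e
    exact (congrArg Subgroup.index hcomm).trans hDi

end Cfsg.Agent.S4923
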