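import Cfsg.Statements.S4892
import Cfsg.Agent.S4923
import Cfsg.Agent.Lib.CanonicalExt.Exist

set_option autoImplicit false
open Cfsg

namespace Cfsg.Agent.S4892

open Cfsg.Agent.Lib Cfsg.Agent.Lib.CanonicalExt

universe u

variable {H : Type u} [Group H] [Finite H]

/-- Determinants commute with field automorphisms. -/
theorem det_gal (σ : ℂ →+* ℂ) {χ : H → ℂ} (hχ : IsCharacter H χ) (g : H) :
    (DetHom.det (fun x => σ (χ x)) g : ℂ) = σ (DetHom.det χ g : ℂ) := by
  obtain ⟨n, ρ, rfl⟩ := hχ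
  have e : (fun x => σ (ρ.character x)) = (GaloisChar.galRep σ ρ).character :=
    funext fun x => (GaloisChar.galRep_character σ ρ x).symm
  rw [e, DetHom.det_eq, DetHom.det_eq, ← LinearMap.det_toMatrix' (f := ρ g), RingHom.map_det]
  exact LinearMap.det_toLin' _

/-- The block criterion in the residue field. -/
theorem red_centralChar {M : Ideal AlgInt} [M.IsPrime] (χ : IrrCharacter H) (g : H) :
    red M (centralChar (χ : H → ℂ) g) * cv M χ 1 =
      ((Subgroup.centralizer ({g} : Set H)).index : Blocks.Residue M) * cv M χ g := by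
  show red M _ * red M _ = _ * red M _
  rw [← red_mul (Blocks.mem_localRing.2 (BlockCongr.memLocalRing_centralChar M χ g)) (val_mem χ 1),
    show centralChar (χ : H → ℂ) g * (χ : H → ℂ) 1 =
      ((Subgroup.centralizer ({g} : Set H)).index : ℂ) * (χ : H → ℂ) g from
      div_mul_cancel₀ _ (Chars.irr_apply_one_ne_zero χ),
    red_mul (Blocks.natCast_mem_localRing _) (val_mem χ g), red_natCast]

/-- Membership of the principal block through residues. -/
theorem mem_principalBlock_iff {M : Ideal AlgInt} [M.IsPrime] (χ : IrrCharacter H)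
    (hd : cv M χ 1 ≠ 0) :
    χ ∈ principalBlock M H ↔ ∀ g : H,
      ((Subgroup.centralizer ({g} : Set H)).index : Blocks.Residue M) * cv M χ 1 =
      ((Subgroup.centralizer ({g} : Set H)).index : Blocks.Residue M) * cv M χ g := by
  refine forall_congr' fun g => ?_
  rw [← red_eq_iff
      (by rw [BlockCongr.centralChar_trivial]; exact Blocks.natCast_mem_localRing _)
      (Blocks.mem_localRing.2 (BlockCongr.memLocalRing_centralChar M χ g)),
    BlockCongr.centralChar_trivial, red_natCast, ← red_centralChar χ g]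
  exact (mul_left_inj' hd).symm

/-- Automorphisms of ℂ with prescribed action on the roots of unity. -/
theorem exists_sign_aut {p : ℕ} (hp : p.Prime) {n a : ℕ} (ha : a ≠ 0) (hn : ¬ p ∣ n) :
    ∃ (σ : ℂ →+* ℂ) (k : ℕ), (∀ z : ℂ, z ^ (p ^ a * n) = 1 → σ z = z ^ k) ∧
      k ≡ p - 1 [MOD p] ∧ k ≡ 1 [MOD n] := by
  have hco : (p ^ a).Coprime n := Nat.Coprime.pow_left a (hp.coprime_iff_not_dvd.2 hn)
  have hn0 : 0 < n := Nat.pos_of_ne_zero fun e => hn (e ▸ dvd_zero p)
  obtain ⟨k, hk1, hk2⟩ := Nat.chineseRemainder hco (p - 1) 1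
  have hkp : k ≡ p - 1 [MOD p] := hk1.of_dvd (dvd_pow_self p ha)
  have hk : k.Coprime (p ^ a * n) := by
    refine Nat.Coprime.mul_right (Nat.Coprime.pow_right a ?_) ?_
    · refine (hp.coprime_iff_not_dvd.2 fun hd => ?_).symm
      have h1 : p ∣ p - 1 := Nat.modEq_zero_iff_dvd.1
        (hkp.symm.trans (Nat.modEq_zero_iff_dvd.2 hd))
      have := hp.two_le
      have := Nat.le_of_dvd (by omega) h1
      omega
    · exact (Nat.ModEq.gcd_eq hk2).trans (Nat.gcd_one_left n)
  obtain ⟨σ, hσ⟩ := GaloisChar.exists_ringEquiv_pow (Nat.mul_pos (pow_pos hp.pos a) hn0) hk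
  exact ⟨σ.toRingHom, k, hσ, hkp, hk2⟩

end Cfsg.Agent.S4892

namespace Cfsg.Agent.S4892

open Cfsg.Agent.Lib Cfsg.Agent.Lib.CanonicalExt

/-- Let p be an odd prime, M a maximal ideal of the algebraic integers containing p, N a normal subgroup of the finite group G, and θ an irreducible character of N that is G-invariant, of degree prime to p, p-rational (values in the field generated over ℚ by a root of unity of order prime to p) and lies in the principal p-block of N. Let Q be a Sylow p-subgroup of N and suppose the index of N·C_G(Q) in G is a power of p. Then θ extends to a p-rational irreducible character of G lying in the principal p-block of G. -/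
theorem result {G : Type*} [Group G] [Finite G] (p : ℕ) [Fact p.Prime] (hp : p ≠ 2) (M : Ideal Cfsg.AlgInt) (hM : Cfsg.IsPModular p M) (N : Subgroup G) [N.Normal] (θ : Cfsg.IrrCharacter ↥N) (hinv : ∀ g : G, ∀ n n' : ↥N, (n' : G) = g * (n : G) * g⁻¹ → (θ : ↥N → ℂ) n' = (θ : ↥N → ℂ) n) (hdeg : ¬ p ∣ Cfsg.charDegree (θ : ↥N → ℂ)) (hrat : ∃ m : ℕ, ¬ p ∣ m ∧ ∀ n : ↥N, (θ : ↥N → ℂ) n ∈ IntermediateField.adjoin ℚ ({Complex.exp (2 * Real.pi * Complex.I / m)} : Set ℂ)) (hB : θ ∈ Cfsg.principalBlock M ↥N) (Q : Sylow p ↥N) (hidx : ∃ a : ℕ, (N ⊔ Subgroup.centralizer (((Q : Subgroup ↥N).map N.subtype : Subgroup G) : Set G)).index = p ^ a) : ∃ χ : Cfsg.IrrCharacter G, χ ∈ (Cfsg.principalBlock M G) ∧ (∃ n : ℕ, ¬ p ∣ n ∧ ∀ g : G, (χ : G → ℂ) g ∈ IntermediateField.adjoin ℚ ({Complex.exp (2 * Real.pi * Complex.I / n)} : Set ℂ)) ∧ ∀ n : ↥N, (χ : G → ℂ) n = (θ : ↥N → ℂ) n := by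
  have hp' : p.Prime := Fact.out
  haveI : M.IsPrime := Blocks.isPModular_isPrime hM
  obtain ⟨m, hm, hmθ⟩ := hrat
  have hm0 : m ≠ 0 := fun e => hm (e ▸ dvd_zero p)
  have hN' : N.Normal := inferInstance
  set Qb : Subgroup G := (Q : Subgroup N).map N.subtype with hQb
  -- p-regular elements lie in N C(Q)
  have hreg : ∀ y : G, ¬ p ∣ orderOf y → y ∈ N ⊔ Subgroup.centralizer (Qb : Set G) := by
    intro y hy
    set K := N ⊔ Subgroup.centralizer (Qb : Set G) with hK
    haveI : K.Normal := by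
      refine Subgroup.normalizer_eq_top_iff.1 (top_le_iff.1 ?_)
      rw [← Sylow.normalizer_sup_eq_top Q]
      refine sup_le (fun x hx => ?_) ((le_sup_left : N ≤ K).trans Subgroup.le_normalizer)
      refine Subgroup.mem_normalizer_iff_map_conj_eq.2 (Subgroup.eq_of_le_of_card_ge ?_
        (Subgroup.card_map_of_injective (MulAut.conj x).injective).ge)
      rw [hK, Subgroup.map_sup]
      refine sup_le ?_ ?_
      · rintro _ ⟨w, hw, rfl⟩
        exact Subgroup.mem_sup_left (hN'.conj_mem w hw x)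
      · rintro _ ⟨w, hw, rfl⟩
        refine Subgroup.mem_sup_right (Subgroup.mem_centralizer_iff.2 fun q hq => ?_)
        have hq' : x⁻¹ * q * x ∈ Qb := by
          simpa only [inv_inv] using (Subgroup.mem_normalizer_iff.1 (inv_mem hx) q).1 hq
        have h1 := Subgroup.mem_centralizer_iff.1 hw _ hq'
        show q * (x * w * x⁻¹) = x * w * x⁻¹ * q
        calc q * (x * w * x⁻¹) = x * ((x⁻¹ * q * x) * w) * x⁻¹ := by group
          _ = x * (w * (x⁻¹ * q * x)) * x⁻¹ := by rw [h1]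
          _ = x * w * x⁻¹ * q := by group
    obtain ⟨a, ha⟩ := hidx
    rw [← QuotientGroup.eq_one_iff, ← orderOf_eq_one_iff]
    refine Nat.eq_one_of_dvd_coprimes (Nat.Coprime.pow_left a (hp'.coprime_iff_not_dvd.2 hy)) ?_
      (orderOf_map_dvd (QuotientGroup.mk' K) y)
    rw [← ha]
    exact orderOf_dvd_natCard _
  let T : Setting G := ⟨p, hp', M, hM, N, hN', Q, θ, hinv, hdeg, hreg⟩
  have hd0 : cv M θ 1 ≠ 0 := T.cv_one_ne_zero
  haveI := Blocks.charP_residue (p := p) hM
  -- the congruence on N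
  have hc : T.BaseCongr := by
    intro (y : N) (hy : ¬ p ∣ orderOf y) (hyC : (y : G) ∈ Subgroup.centralizer (Qb : Set G))
    have hi : ((Subgroup.centralizer ({y} : Set N)).index : Blocks.Residue M) ≠ 0 := by
      rw [Ne, CharP.cast_eq_zero_iff (Blocks.Residue M) p]
      intro hd
      refine Q.not_dvd_index (hd.trans (Subgroup.index_dvd_of_le fun q hq => ?_))
      exact Subgroup.mem_centralizer_singleton_iff.2 (Subtype.ext
        (Subgroup.mem_centralizer_iff.1 hyC (q : G) ⟨q, hq, rfl⟩))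
    exact (mul_left_cancel₀ hi ((mem_principalBlock_iff θ hd0).1 hB y)).symm
  -- roots of unity
  set N₀ := Nat.card G * m with hN₀
  have hN₀0 : N₀ ≠ 0 := mul_ne_zero Nat.card_pos.ne' hm0
  set a := N₀.factorization p with ha
  set n₀ := N₀ / p ^ a with hn₀
  have hfac : p ^ a * n₀ = N₀ := Nat.ordProj_mul_ordCompl_eq_self _ p
  have hn₀p : ¬ p ∣ n₀ := Nat.not_dvd_ordCompl hp' hN₀0
  have hn₀0 : n₀ ≠ 0 := fun e => hn₀p (e ▸ dvd_zero p)
  have hmn : m ∣ n₀ := by
    refine (Nat.Coprime.pow_right a (hp'.coprime_iff_not_dvd.2 hm).symm).dvd_of_dvd_mul_left ?_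
    rw [hfac]; exact dvd_mul_left m _
  have hfix : ∀ σ : ℂ →+* ℂ, (∀ z : ℂ, z ^ n₀ = 1 → σ z = z) →
      ∀ n : N, σ ((θ : N → ℂ) n) = (θ : N → ℂ) n := by
    intro σ hσ n
    refine S4923.fixed_of_mem_adjoin σ (fun z hz => ?_) (hmθ n)
    rw [Set.mem_singleton_iff.1 hz]
    obtain ⟨c, hc'⟩ := hmn
    refine hσ _ ?_
    rw [hc', pow_mul, (Complex.isPrimitiveRoot_exp m hm0).pow_eq_one, one_pow]
  -- the determinant of θ
  have hdet : T.BaseDet := by
    intro (n : N) (hd : p ∣ orderOf (DetHom.det (θ : N → ℂ) n))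
    set v := DetHom.det (θ : N → ℂ) n with hv
    have hov : orderOf v ∣ N₀ := by
      refine (orderOf_map_dvd _ n).trans ((orderOf_dvd_natCard n).trans ?_)
      exact (Subgroup.card_subgroup_dvd_card N).trans (dvd_mul_right _ _)
    have ha0 : a ≠ 0 := fun e => hn₀p (by
      have := hd.trans hov
      rwa [← hfac, e, pow_zero, one_mul] at this)
    obtain ⟨σ, k, hσ, hk1, hk2⟩ := exists_sign_aut hp' ha0 hn₀p
    have hσθ : (fun x : N => σ ((θ : N → ℂ) x)) = (θ : N → ℂ) :=
      funext (hfix σ fun z hz => by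
        rw [hσ z (by rw [mul_comm, pow_mul, hz, one_pow]), ← pow_mod_orderOf,
          (show k % orderOf z = 1 % orderOf z from hk2.of_dvd (orderOf_dvd_of_pow_eq_one hz)), pow_mod_orderOf, pow_one])
    have h1 := det_gal σ (Chars.irr_isCharacter θ) n
    rw [hσθ, ← hv, hσ (v : ℂ) (by
      rw [hfac, ← Units.val_pow_eq_pow_val, orderOf_dvd_iff_pow_eq_one.1 hov, Units.val_one]),
      ← Units.val_pow_eq_pow_val] at h1
    have h2 : v ^ 1 = v ^ k := by rw [pow_one]; exact Units.ext h1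
    have h3 : p - 1 ≡ 1 [MOD p] := hk1.symm.trans ((pow_eq_pow_iff_modEq.1 h2).of_dvd hd).symm
    have := hp'.two_le
    have h4 : 1 % p = 1 := Nat.mod_eq_of_lt (by omega)
    have h5 : (p - 1) % p = p - 1 := Nat.mod_eq_of_lt (by omega)
    rw [Nat.ModEq, h4, h5] at h3
    omega
  -- the extension
  obtain ⟨χ, hχ⟩ := Setting.exists_good_top hc hdet hidx
  let φ : IrrCharacter G := ⟨fun g => (χ : (⊤ : Subgroup G) → ℂ) ⟨g, Subgroup.mem_top g⟩,
    Clifford.isIrrCharacter_comp_equiv (Subgroup.topEquiv (G := G)).symm χ.2⟩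
  have hext : ∀ n : N, (φ : G → ℂ) n = (θ : N → ℂ) n := hχ.ext
  have hφ1 : cv M φ 1 = cv M θ 1 := congrArg (red M) (hext 1)
  refine ⟨φ, ?_, ⟨n₀, hn₀p, fun g => ?_⟩, hext⟩
  · rw [mem_principalBlock_iff φ (hφ1 ▸ hd0)]
    intro g
    by_cases hi : p ∣ (Subgroup.centralizer ({g} : Set G)).index
    · simp [(CharP.cast_eq_zero_iff (Blocks.Residue M) p _).2 hi]
    refine congrArg _ ?_
    obtain ⟨k, hk, hgk⟩ := cv_regular_part hM φ g
    set C := Subgroup.centralizer ({g} : Set G)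
    obtain ⟨P₁⟩ : Nonempty (Sylow p C) := inferInstance
    have hP : IsPGroup p ((P₁ : Subgroup C).map C.subtype) := P₁.2.map _
    have hPidx : ¬ p ∣ ((P₁ : Subgroup C).map C.subtype).index := by
      rw [Subgroup.index_map_subtype, hp'.dvd_mul, not_or]
      exact ⟨P₁.not_dvd_index, hi⟩
    obtain ⟨P₀, hP₀⟩ := IsPGroup.exists_le_sylow T.isPGroup_Qb
    obtain ⟨c, hc'⟩ := MulAction.exists_smul_eq G (hP.toSylow hPidx) P₀
    have hy : (c * g ^ k * c⁻¹) ∈ Subgroup.centralizer (Qb : Set G) := by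
      refine Subgroup.mem_centralizer_iff.2 fun q hq => ?_
      have h1 : q ∈ (P₀ : Subgroup G) := hP₀ hq
      rw [← hc', Sylow.coe_subgroup_smul, Subgroup.mem_pointwise_smul_iff_inv_smul_mem,
        MulAut.smul_def, MulAut.conj_inv_apply] at h1
      have h2 : c⁻¹ * q * c * g = g * (c⁻¹ * q * c) :=
        Subgroup.mem_centralizer_singleton_iff.1 (Subgroup.map_subtype_le _ h1)
      have h3 : c⁻¹ * q * c * g ^ k = g ^ k * (c⁻¹ * q * c) := (Commute.pow_right h2 k).eq
      calc q * (c * g ^ k * c⁻¹) = c * (c⁻¹ * q * c * g ^ k) * c⁻¹ := by group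
        _ = c * (g ^ k * (c⁻¹ * q * c)) * c⁻¹ := by rw [h3]
        _ = c * g ^ k * c⁻¹ * q := by group
    have hyreg : ¬ p ∣ orderOf (⟨c * g ^ k * c⁻¹, Subgroup.mem_top _⟩ : (⊤ : Subgroup G)) := by
      rw [Subgroup.orderOf_mk, show c * g ^ k * c⁻¹ = MulAut.conj c (g ^ k) from rfl,
        MulEquiv.orderOf_eq]
      exact hk
    rw [hgk, show cv M φ (g ^ k) = cv M φ (c * g ^ k * c⁻¹) from
      congrArg (red M) (Chars.irr_isClassFunction φ (g ^ k) c).symm]
    exact (hχ.congr _ hyreg hy).symm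
  · -- rationality
    haveI : NeZero N₀ := ⟨hN₀0⟩
    have hζ := Complex.isPrimitiveRoot_exp N₀ hN₀0
    have hζ₀ := Complex.isPrimitiveRoot_exp n₀ hn₀0
    haveI : NeZero n₀ := ⟨hn₀0⟩
    have hpow : ∀ x : G, x ^ N₀ = 1 := fun x => by rw [hN₀, pow_mul, pow_card_eq_one', one_pow]
    refine S4923.mem_adjoin_of_fixed hζ (fun z hz => ?_)
      (S4923.char_mem_cyclotomic hζ φ (hpow g)) fun σ hσ => ?_
    · rw [Set.mem_singleton_iff.1 hz]
      obtain ⟨i, -, hi⟩ := hζ.eq_pow_of_pow_eq_one (ξ := Complex.exp (2 * Real.pi * Complex.I / n₀))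
        (by rw [← hfac, mul_comm (p ^ a), pow_mul, hζ₀.pow_eq_one, one_pow])
      rw [← hi]
      exact pow_mem (IntermediateField.mem_adjoin_simple_self ℚ _) i
    · have hroots : ∀ z : ℂ, z ^ n₀ = 1 → σ z = z := by
        intro z hz
        obtain ⟨i, -, rfl⟩ := hζ₀.eq_pow_of_pow_eq_one hz
        rw [map_pow, hσ _ rfl]
      obtain ⟨k, hkco, hk⟩ := S4923.exists_power σ hζ
      have hgood : T.Good ⊤ (GaloisChar.galIrr σ χ) := by
        refine ⟨le_top, fun n => ?_, fun x => ?_, fun y hy hyC => ?_⟩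
        · show σ ((χ : (⊤ : Subgroup G) → ℂ) ⟨(n : G), hχ.le n.2⟩) = _
          rw [hχ.ext n]
          exact hfix σ hroots n
        · intro hd
          refine hχ.det x (hd.trans (orderOf_dvd_of_pow_eq_one (Units.ext ?_)))
          rw [Units.val_pow_eq_pow_val]
          erw [det_gal σ (Chars.irr_isCharacter χ) x]
          rw [← map_pow, ← Units.val_pow_eq_pow_val, pow_orderOf_eq_one, Units.val_one, map_one]
        · show red M (σ ((χ : (⊤ : Subgroup G) → ℂ) y)) = red M (σ ((χ : (⊤ : Subgroup G) → ℂ) 1))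
          rw [S4923.map_char hk χ (Subtype.ext (by rw [Subgroup.coe_pow]; exact hpow _) : y ^ N₀ = 1),
            S4923.map_char hk χ (one_pow N₀), one_pow]
          refine hχ.congr _ (fun hd => hy (hd.trans (orderOf_pow_dvd k))) ?_
          rw [Subgroup.coe_pow]
          exact Subgroup.pow_mem _ hyC k
      exact congrFun (congrArg Subtype.val (hχ.unique hgood)) ⟨g, Subgroup.mem_top g⟩

end Cfsg.Agent.S4892
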