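import Cfsg.Statements.S4911
import Cfsg.Agent.Lib.Glauberman.PGroup
import Cfsg.Agent.Lib.Chars.Real
-- import your own Cfsg.Agent.* helpers here

set_option autoImplicit false
open Cfsg

namespace Cfsg.Agent.S4911

open Cfsg.Agent.Lib Cfsg.Agent.Lib.Glauberman
open scoped ComplexConjugate

universe u

variable {Γ : Type u} [Group Γ] [Finite Γ] {p : ℕ} [Fact p.Prime] {P K C : Subgroup Γ}

/-- Complex conjugation preserves multiplicities of restrictions. -/
theorem charMult_resSub_irrConj (hCK : C ≤ K) (χ : IrrCharacter K) (β : IrrCharacter C) :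
    charMult (resSub hCK (Chars.irrConj χ : K → ℂ)) (Chars.irrConj β : C → ℂ) =
      charMult (resSub hCK (χ : K → ℂ)) (β : C → ℂ) := by
  classical
  let _ : Fintype C := Fintype.ofFinite C
  refine charMult_eq_of ?_
  have h := charMult_spec (isCharacter_resSub hCK (Chars.irr_isCharacter χ))
    (Chars.irr_isCharacter β)
  have h1 := congrArg conj h
  rw [Complex.conj_natCast] at h1
  rw [← h1]
  simp [classInner, resSub, Chars.irrConj_apply]

/-- The correspondence of a `p`-group commutes with complex conjugation. -/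
theorem corr_irrConj (hCK : C ≤ K) {f : IrrCharacter C → IrrCharacter K}
    (hf : IsPCorr p P K C hCK f) (β : IrrCharacter C) :
    f (Chars.irrConj β) = Chars.irrConj (f β) := by
  obtain ⟨γ, hγ⟩ := hf.surj (Chars.irrConj (f β)) fun s hs g g' hg => by
    simp only [Chars.irrConj_apply, hf.inv β s hs g g' hg]
  have h : ¬ p ∣ charMult (resSub hCK (f γ : K → ℂ)) (Chars.irrConj β : C → ℂ) := by
    rw [hγ, charMult_resSub_irrConj]
    exact hf.not_dvd β
  rw [hf.eq_of_not_dvd h, hγ]

/-- An element whose class is invariant is conjugate to a centralized one. -/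
theorem exists_fixed_conj (hP : IsPGroup p P) (hK : ¬ p ∣ Nat.card K)
    (hn : ∀ x ∈ P, Normalises x K) (k : K)
    (h : ∀ x ∈ P, ∀ k' : K, (k' : Γ) = x * (k : Γ) * x⁻¹ → IsConj k k') :
    ∃ k' : K, IsConj k k' ∧ ∀ x ∈ P, x * (k' : Γ) * x⁻¹ = (k' : Γ) := by
  classical
  let Y := {g : K // IsConj k g}
  have hstab : ∀ (x : P) (g : K), IsConj k g → IsConj k (conjEquiv (hn x x.2) g) := fun x g hg =>
    (h x x.2 (conjEquiv (hn x x.2) k) rfl).trans
      ((conjEquiv (hn x x.2)).toMonoidHom.map_isConj hg)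
  let act : MulAction P Y :=
    { smul := fun x g => ⟨conjEquiv (hn x x.2) g.1, hstab x g.1 g.2⟩
      one_smul := fun g => Subtype.ext (Subtype.ext (by
        change ((1 : P) : Γ) * _ * _ = _
        simp))
      mul_smul := fun x y g => Subtype.ext (Subtype.ext (by
        change ((x * y : P) : Γ) * _ * _ = (x : Γ) * ((y : Γ) * _ * _) * _
        simp [mul_assoc])) }
  have hcard : ¬ p ∣ Nat.card Y := by
    intro hd
    refine hK (hd.trans ?_)
    rw [Blocks.natCard_isConj k]
    exact Subgroup.index_dvd_card _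
  obtain ⟨y, hy⟩ := hP.nonempty_fixed_point_of_prime_not_dvd_card Y hcard
  exact ⟨y.1, y.2, fun x hx => congrArg (fun z : Y => ((z.1 : K) : Γ)) (hy ⟨x, hx⟩)⟩

/-- Centralized elements conjugate in `K` are conjugate by a centralized element. -/
theorem isConj_centralized (hP : IsPGroup p P) (hK : ¬ p ∣ Nat.card K)
    (hn : ∀ x ∈ P, Normalises x K) (hCK : C ≤ K)
    (hC : C = K ⊓ Subgroup.centralizer (P : Set Γ)) {c d : C}
    (h : IsConj (Subgroup.inclusion hCK c) (Subgroup.inclusion hCK d)) : IsConj c d := by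
  classical
  obtain ⟨a, ha⟩ := isConj_iff.1 h
  have hfix : ∀ (x : P) (e : C), (x : Γ) * (e : Γ) * (x : Γ)⁻¹ = e := fun x e => by
    have he : (e : Γ) ∈ K ⊓ Subgroup.centralizer (P : Set Γ) := hC ▸ e.2
    rw [Subgroup.mem_centralizer_iff.1 he.2 x x.2, mul_inv_cancel_right]
  let X := {g : K // g * Subgroup.inclusion hCK c * g⁻¹ = Subgroup.inclusion hCK d}
  have hstab : ∀ (x : P) (g : X), conjEquiv (hn x x.2) g.1 * Subgroup.inclusion hCK c *
      (conjEquiv (hn x x.2) g.1)⁻¹ = Subgroup.inclusion hCK d := fun x g => by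
    have h1 : ∀ e : C, conjEquiv (hn x x.2) (Subgroup.inclusion hCK e) =
        Subgroup.inclusion hCK e := fun e => Subtype.ext (hfix x e)
    have h3 := congrArg (conjEquiv (hn x x.2)) g.2
    rw [map_mul, map_mul, map_inv, h1, h1] at h3
    exact h3
  let act : MulAction P X :=
    { smul := fun x g => ⟨conjEquiv (hn x x.2) g.1, hstab x g⟩
      one_smul := fun g => Subtype.ext (Subtype.ext (by
        change ((1 : P) : Γ) * _ * _ = _
        simp))
      mul_smul := fun x y g => Subtype.ext (Subtype.ext (by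
        change ((x * y : P) : Γ) * _ * _ = (x : Γ) * ((y : Γ) * _ * _) * _
        simp [mul_assoc])) }
  have hcard : ¬ p ∣ Nat.card X := by
    have key : ∀ y : K, y * Subgroup.inclusion hCK c * y⁻¹ = Subgroup.inclusion hCK d →
        a⁻¹ * y * Subgroup.inclusion hCK c = Subgroup.inclusion hCK c * (a⁻¹ * y) := fun y hy => by
      rw [mul_assoc, mul_inv_eq_iff_eq_mul.1 hy, ← ha]
      group
    let e : X ≃ Subgroup.centralizer ({Subgroup.inclusion hCK c} : Set K) :=
      { toFun := fun g => ⟨a⁻¹ * g.1, Subgroup.mem_centralizer_singleton_iff.2 (key g.1 g.2)⟩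
        invFun := fun z => ⟨a * z.1, by
          have h2 := Subgroup.mem_centralizer_singleton_iff.1 z.2
          rw [← ha]
          calc a * z.1 * Subgroup.inclusion hCK c * (a * z.1)⁻¹ =
              a * (z.1 * Subgroup.inclusion hCK c) * z.1⁻¹ * a⁻¹ := by group
            _ = a * Subgroup.inclusion hCK c * a⁻¹ := by rw [h2]; group⟩
        left_inv := fun g => Subtype.ext (mul_inv_cancel_left a g.1)
        right_inv := fun z => Subtype.ext (inv_mul_cancel_left a z.1) }
    rw [Nat.card_congr e]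
    exact fun hd => hK (hd.trans (Subgroup.card_subgroup_dvd_card _))
  obtain ⟨g, hg⟩ := hP.nonempty_fixed_point_of_prime_not_dvd_card X hcard
  have hgC : (g.1 : Γ) ∈ C := by
    refine (SetLike.ext_iff.1 hC _).2 ⟨g.1.2, Subgroup.mem_centralizer_iff.2 fun x hx => ?_⟩
    exact mul_inv_eq_iff_eq_mul.1 (congrArg (fun z : X => ((z.1 : K) : Γ)) (hg ⟨x, hx⟩))
  refine isConj_iff.2 ⟨⟨(g.1 : Γ), hgC⟩, Subtype.ext ?_⟩
  exact congrArg (fun z : K => (z : Γ)) g.2

/-- Let P and K be subgroups of a finite group with P a p-group normalizing K and K of order prime to p. Then the number of P-invariant real-valued irreducible complex characters of K equals the number of conjugacy classes of K that are real (closed under inversion) and P-invariant. Moreover, if every real-valued irreducible character of K is P-invariant, then every real element of K (one conjugate in K to its inverse) is conjugate in K to an element centralized by P. -/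
theorem result {G : Type*} [Group G] [Finite G] (p : ℕ) [Fact p.Prime] (P K : Subgroup G) (hP : IsPGroup p ↥P) (hK : ¬ p ∣ Nat.card ↥K) (hPK : P ≤ Subgroup.normalizer (K : Set G)) : Nat.card {θ : Cfsg.IrrCharacter ↥K // (∀ k : ↥K, ((θ : ↥K → ℂ) k).im = 0) ∧ (∀ x ∈ P, ∀ k k' : ↥K, (k' : G) = x * (k : G) * x⁻¹ → (θ : ↥K → ℂ) k' = (θ : ↥K → ℂ) k)} = Nat.card {c : ConjClasses ↥K // (∀ k : ↥K, ConjClasses.mk k = c → IsConj k k⁻¹) ∧ ∀ k : ↥K, ConjClasses.mk k = c → ∀ x ∈ P, ∀ k' : ↥K, (k' : G) = x * (k : G) * x⁻¹ → ConjClasses.mk k' = c} ∧ ((∀ θ : Cfsg.IrrCharacter ↥K, (∀ k : ↥K, ((θ : ↥K → ℂ) k).im = 0) → (∀ x ∈ P, ∀ k k' : ↥K, (k' : G) = x * (k : G) * x⁻¹ → (θ : ↥K → ℂ) k' = (θ : ↥K → ℂ) k)) → ∀ k : ↥K, IsConj k k⁻¹ → ∃ k' : ↥K, IsConj k k' ∧ ∀ x ∈ P, x * (k' : G) * x⁻¹ = (k' : G)) := by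
  classical
  set C := K ⊓ Subgroup.centralizer (P : Set G) with hC
  have hCK : C ≤ K := inf_le_left
  have hn : ∀ x ∈ P, Normalises x K := fun x hx g => Subgroup.mem_normalizer_iff.1 (hPK hx) g
  obtain ⟨f, hf⟩ := exists_pCorr p hP hCK hn hK hC
  set ι := Subgroup.inclusion hCK with hι
  have hfixC : ∀ x ∈ P, ∀ e : C, x * (e : G) * x⁻¹ = e := fun x hx e => by
    rw [Subgroup.mem_centralizer_iff.1 e.2.2 x hx, mul_inv_cancel_right]
  have hchar : Nat.card {β : IrrCharacter C // ∀ c : C, ((β : C → ℂ) c).im = 0} =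
      Nat.card {θ : IrrCharacter K // (∀ k : K, ((θ : K → ℂ) k).im = 0) ∧
        (∀ x ∈ P, ∀ k k' : K, (k' : G) = x * (k : G) * x⁻¹ →
          (θ : K → ℂ) k' = (θ : K → ℂ) k)} := by
    refine Nat.card_eq_of_bijective (fun β => ⟨f β.1, ?_, hf.inv β.1⟩) ⟨fun a b hab => ?_, ?_⟩
    · rw [Chars.real_iff_irrConj_eq, ← corr_irrConj hCK hf, (Chars.real_iff_irrConj_eq β.1).1 β.2]
    · exact Subtype.ext (hf.inj (congrArg Subtype.val hab))
    · rintro ⟨θ, hθ, hinv⟩
      obtain ⟨β, hβ⟩ := hf.surj θ hinv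
      have hr : Chars.irrConj β = β := hf.inj (by
        rw [corr_irrConj hCK hf, hβ, (Chars.real_iff_irrConj_eq θ).1 hθ])
      exact ⟨⟨β, (Chars.real_iff_irrConj_eq β).2 hr⟩, Subtype.ext hβ⟩
  have hclass : Nat.card {c : ConjClasses C // ∀ g : C, ConjClasses.mk g = c → IsConj g g⁻¹} =
      Nat.card {c : ConjClasses K // (∀ k : K, ConjClasses.mk k = c → IsConj k k⁻¹) ∧
        ∀ k : K, ConjClasses.mk k = c → ∀ x ∈ P, ∀ k' : K, (k' : G) = x * (k : G) * x⁻¹ →
          ConjClasses.mk k' = c} := by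
    refine Nat.card_eq_of_bijective (fun c => ⟨ConjClasses.map ι c.1, ?_, ?_⟩) ⟨?_, ?_⟩
    · obtain ⟨g, hg⟩ := ConjClasses.exists_rep c.1
      intro k hk
      rw [← hg] at hk
      change ConjClasses.mk k = ConjClasses.mk (ι g) at hk
      rw [ConjClasses.mk_eq_mk_iff_isConj] at hk
      obtain ⟨a, ha⟩ := isConj_iff.1 hk.symm
      refine hk.trans (((ι).map_isConj (c.2 g hg)).trans ?_)
      rw [map_inv]
      exact isConj_iff.2 ⟨a, by rw [← ha]; group⟩
    · obtain ⟨g, hg⟩ := ConjClasses.exists_rep c.1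
      intro k hk x hx k' hk'
      rw [← hg] at hk ⊢
      change ConjClasses.mk k = ConjClasses.mk (ι g) at hk
      change ConjClasses.mk k' = ConjClasses.mk (ι g)
      rw [ConjClasses.mk_eq_mk_iff_isConj] at hk ⊢
      have h1 : conjEquiv (hn x hx) (ι g) = ι g := Subtype.ext (hfixC x hx g)
      have h2 : k' = conjEquiv (hn x hx) k := Subtype.ext hk'
      rw [h2, ← h1]
      exact (conjEquiv (hn x hx)).toMonoidHom.map_isConj hk
    · intro c d hcd
      obtain ⟨g, hg⟩ := ConjClasses.exists_rep c.1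
      obtain ⟨h, hh⟩ := ConjClasses.exists_rep d.1
      have h0 : ConjClasses.map ι c.1 = ConjClasses.map ι d.1 := congrArg Subtype.val hcd
      rw [← hg, ← hh] at h0
      refine Subtype.ext ?_
      rw [← hg, ← hh]
      exact ConjClasses.mk_eq_mk_iff_isConj.2 (isConj_centralized hP hK hn hCK hC
        (ConjClasses.mk_eq_mk_iff_isConj.1 h0))
    · rintro ⟨c, hreal, hinv⟩
      obtain ⟨k, rfl⟩ := ConjClasses.exists_rep c
      obtain ⟨k', hk', hfix⟩ := exists_fixed_conj hP hK hn k fun x hx k' hk' =>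
        (ConjClasses.mk_eq_mk_iff_isConj.1 (hinv k rfl x hx k' hk')).symm
      have hk'C : (k' : G) ∈ C := ⟨k'.2, Subgroup.mem_centralizer_iff.2 fun x hx =>
        mul_inv_eq_iff_eq_mul.1 (hfix x hx)⟩
      refine ⟨⟨ConjClasses.mk ⟨(k' : G), hk'C⟩, fun g hg => ?_⟩, Subtype.ext ?_⟩
      · refine isConj_centralized hP hK hn hCK hC ?_
        have h1 := ι.map_isConj (ConjClasses.mk_eq_mk_iff_isConj.1 hg)
        have h2 : ι ⟨(k' : G), hk'C⟩ = k' := rfl
        rw [h2] at h1
        change IsConj (ι g) (ι g⁻¹)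
        rw [map_inv]
        exact hreal (ι g) (ConjClasses.mk_eq_mk_iff_isConj.2 (h1.trans hk'.symm))
      · exact ConjClasses.mk_eq_mk_iff_isConj.2 hk'.symm
  have hmain := hchar.symm.trans ((Chars.card_real_irr (G := C)).trans hclass)
  refine ⟨hmain, fun hall k hk => ?_⟩
  let _ : Fintype (ConjClasses K) := Fintype.ofFinite _
  have hall' : Nat.card {θ : IrrCharacter K // (∀ k : K, ((θ : K → ℂ) k).im = 0) ∧
      (∀ x ∈ P, ∀ k k' : K, (k' : G) = x * (k : G) * x⁻¹ →
        (θ : K → ℂ) k' = (θ : K → ℂ) k)} =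
      Nat.card {θ : IrrCharacter K // ∀ k : K, ((θ : K → ℂ) k).im = 0} :=
    Nat.card_congr (Equiv.subtypeEquivRight fun θ => ⟨And.left, fun h => ⟨h, hall θ h⟩⟩)
  have hle := (hall'.symm.trans hmain).symm.trans (Chars.card_real_irr (G := K))
  rw [Nat.card_eq_fintype_card, Nat.card_eq_fintype_card, Fintype.card_subtype,
    Fintype.card_subtype] at hle
  have hsets := Finset.eq_of_subset_of_card_le (s := Finset.univ.filter fun c : ConjClasses K =>
    (∀ k : K, ConjClasses.mk k = c → IsConj k k⁻¹) ∧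
      ∀ k : K, ConjClasses.mk k = c → ∀ x ∈ P, ∀ k' : K, (k' : G) = x * (k : G) * x⁻¹ →
        ConjClasses.mk k' = c) (fun c hc => by
      simp only [Finset.mem_filter, Finset.mem_univ, true_and] at hc ⊢
      exact hc.1) hle.ge
  have hmem : ConjClasses.mk k ∈ Finset.univ.filter
      (fun c : ConjClasses K => ∀ g : K, ConjClasses.mk g = c → IsConj g g⁻¹) := by
    simp only [Finset.mem_filter, Finset.mem_univ, true_and]
    intro g hg
    rw [ConjClasses.mk_eq_mk_iff_isConj] at hg
    obtain ⟨a, ha⟩ := isConj_iff.1 hg.symm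
    exact (hg.trans hk).trans (isConj_iff.2 ⟨a, by rw [← ha]; group⟩)
  rw [← hsets] at hmem
  simp only [Finset.mem_filter, Finset.mem_univ, true_and] at hmem
  exact exists_fixed_conj hP hK hn k fun x hx k' hk' =>
    (ConjClasses.mk_eq_mk_iff_isConj.1 (hmem.2 k rfl x hx k' hk')).symm

end Cfsg.Agent.S4911
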