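import Cfsg.Statements.S4996
import Cfsg.Agent.Lib.KGV.Basic
import Cfsg.Agent.Lib.Chars.Ops
import Cfsg.Agent.Lib.Chars.Induced
-- import your own Cfsg.Agent.* helpers here

set_option autoImplicit false
open Cfsg

namespace Cfsg.Agent.S4996

/-- The average of a character over the cosets of a normal subgroup is a character. -/
theorem isCharacter_cosetAvg {G : Type*} [Group G] [Finite G] (N : Subgroup G) [N.Normal]
    [Fintype N] {F : G → ℂ} (hF : IsCharacter G F) :
    IsCharacter G (fun x => (Nat.card N : ℂ)⁻¹ * ∑ n : N, F ((n : G) * x)) := by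
  classical
  let := Fintype.ofFinite G
  have hN : (Nat.card N : ℂ) ≠ 0 := Cfsg.Agent.Lib.Chars.natCard_ne_zero
  have hφ : ∀ φ : IrrCharacter G, ∃ e : ℕ, ∀ x : G,
      (Nat.card N : ℂ)⁻¹ * ∑ n : N, (φ : G → ℂ) ((n : G) * x) = (e : ℂ) * (φ : G → ℂ) x := by
    intro φ
    obtain ⟨d, ρ, hρ, h⟩ := φ.2
    let T : Module.End ℂ (Fin d → ℂ) := ∑ n : N, ρ (n : G)
    have hcomm : ∀ g : G, T ∘ₗ ρ g = ρ g ∘ₗ T := by
      intro g
      change T * ρ g = ρ g * T
      simp only [T, Finset.sum_mul, Finset.mul_sum, ← map_mul]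
      refine Fintype.sum_equiv (MulAut.conjNormal g⁻¹ : MulAut N).toEquiv _ _ fun n => ?_
      simp only [MulEquiv.toEquiv_eq_coe, MulEquiv.coe_toEquiv, MulAut.conjNormal_apply]
      congr 1
      group
    obtain ⟨c, hc⟩ := Cfsg.Agent.Lib.Chars.exists_scalar_of_commute ρ T hcomm
    have hTT : T * T = (Nat.card N : ℂ) • T := by
      simp only [T, Finset.sum_mul, Finset.mul_sum, ← map_mul]
      rw [Finset.sum_congr rfl fun n (_ : n ∈ Finset.univ) =>
        Fintype.sum_equiv (Equiv.mulRight n) (fun m : N => ρ ((m : G) * (n : G)))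
          (fun m : N => ρ (m : G)) fun m => rfl]
      rw [Finset.sum_const, Finset.card_univ, ← Nat.card_eq_fintype_card, ← Nat.cast_smul_eq_nsmul ℂ]
    have := Cfsg.Agent.Lib.Chars.nontrivial_of_isIrreducible ρ
    rw [hc, smul_mul_smul_comm, one_mul, smul_smul] at hTT
    have hcc : c * c = (Nat.card N : ℂ) * c :=
      smul_left_injective ℂ (one_ne_zero (α := Module.End ℂ (Fin d → ℂ))) hTT
    have htr : ∀ x, ∑ n : N, (φ : G → ℂ) ((n : G) * x) = c * (φ : G → ℂ) x := by
      intro x
      rw [← h]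
      show ∑ n : N, LinearMap.trace ℂ _ (ρ ((n : G) * x)) = c * LinearMap.trace ℂ _ (ρ x)
      simp only [map_mul, ← map_sum, ← Finset.sum_mul]
      change LinearMap.trace ℂ _ (T * ρ x) = _
      rw [hc, smul_mul_assoc, one_mul, map_smul, smul_eq_mul]
    rcases eq_or_ne c 0 with h0 | h0
    · exact ⟨0, fun x => by simp [htr, h0]⟩
    · refine ⟨1, fun x => ?_⟩
      rw [htr, mul_right_cancel₀ h0 hcc, inv_mul_cancel_left₀ hN, Nat.cast_one, one_mul]
  choose e he using hφ
  obtain ⟨m, rfl⟩ := Cfsg.Agent.Lib.Chars.isCharacter_exists_nat_decomp hF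
  have heq : (fun x => (Nat.card N : ℂ)⁻¹ *
      ∑ n : N, (∑ χ, (m χ : ℂ) • (χ : G → ℂ)) ((n : G) * x))
      = ∑ χ : IrrCharacter G, ((m χ * e χ : ℕ) : ℂ) • (χ : G → ℂ) := by
    funext x
    simp only [Finset.sum_apply, Pi.smul_apply, smul_eq_mul, Finset.mul_sum]
    rw [Finset.sum_comm]
    refine Finset.sum_congr rfl fun χ _ => ?_
    rw [Nat.cast_mul, mul_assoc, ← he χ x, Finset.mul_sum, Finset.mul_sum]
    exact Finset.sum_congr rfl fun n _ => by ring
  rw [heq]
  exact Cfsg.Agent.Lib.Chars.isCharacter_sum_irr _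

/-- Let N be a normal subgroup of the finite group G and χ an irreducible complex character of G. Then the restriction of χ to N is not irreducible if and only if χ vanishes on some whole coset Nx of N in G. -/
theorem result {G : Type*} [Group G] [Finite G] (N : Subgroup G) [N.Normal] (χ : Cfsg.IrrCharacter G) : ¬ Cfsg.IsIrrCharacter ↥N (fun n : ↥N => (χ : G → ℂ) n) ↔ ∃ x : G, ∀ n : ↥N, (χ : G → ℂ) ((n : G) * x) = 0 := by
  classical
  let := Fintype.ofFinite G
  let := Fintype.ofFinite N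
  have hχ := Cfsg.Agent.Lib.Chars.irr_isCharacter χ
  let F : G → ℂ := (χ : G → ℂ) * fun g => (starRingEnd ℂ) ((χ : G → ℂ) g)
  have hF : IsCharacter G F :=
    Cfsg.Agent.Lib.Chars.isCharacter_mul hχ (Cfsg.Agent.Lib.Chars.isCharacter_star hχ)
  let A : G → ℂ := fun x => (Nat.card N : ℂ)⁻¹ * ∑ n : N, F ((n : G) * x)
  have hA : IsCharacter G A := isCharacter_cosetAvg N hF
  let r : G → ℝ :=
    fun x => (Nat.card N : ℝ)⁻¹ * ∑ n : N, Complex.normSq ((χ : G → ℂ) ((n : G) * x))
  have hr : ∀ x, A x = (r x : ℂ) := fun x => by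
    simp [A, r, F, Complex.mul_conj]
  have hres : IsCharacter ↥N (fun n : ↥N => (χ : G → ℂ) n) :=
    Cfsg.Agent.Lib.Chars.isCharacter_restrict N hχ
  have hA1 : A 1 = classInner (fun n : ↥N => (χ : G → ℂ) n) (fun n : ↥N => (χ : G → ℂ) n) := by
    simp [A, F, classInner]
  rw [Cfsg.Agent.Lib.Chars.isIrrCharacter_iff_classInner_eq_one hres, ← hA1]
  constructor
  · intro hne
    by_contra! hno
    apply hne
    have hsum : ∑ x : G, r x = (Nat.card G : ℝ) := by
      simp only [r, ← Finset.mul_sum]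
      rw [Finset.sum_comm]
      rw [Finset.sum_congr rfl fun (n : N) (_ : n ∈ Finset.univ) =>
        Fintype.sum_equiv (Equiv.mulLeft (n : G))
          (fun x : G => Complex.normSq ((χ : G → ℂ) ((n : G) * x)))
          (fun x => Complex.normSq ((χ : G → ℂ) x)) fun x => rfl]
      rw [Finset.sum_const, Cfsg.Agent.Lib.KGV.sum_normSq_eq_card, nsmul_eq_mul,
        Finset.card_univ, ← Nat.card_eq_fintype_card,
        inv_mul_cancel_left₀ (by exact_mod_cast Nat.card_pos.ne')]
    let s : Finset G := Finset.univ.filter fun g => g ∉ N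
    have hs : ∀ k : ℕ, k.Coprime (Nat.card G) → ∀ g ∈ s, g ^ k ∈ s := by
      intro k hk g hg
      simp only [s, Finset.mem_filter, Finset.mem_univ, true_and] at hg ⊢
      obtain ⟨j, hj⟩ := Cfsg.Agent.Lib.KGV.pow_pow_of_coprime hk (Nat.card_pos (α := G))
      intro h
      apply hg
      rw [← hj g pow_card_eq_one']
      exact N.pow_mem h j
    have key := Cfsg.Agent.Lib.GaloisPos.card_ne_zero_le_sum s A
      (fun x _ => Cfsg.Agent.Lib.Chars.isCharacter_isIntegral hA x) r (fun x _ => hr x)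
      (fun x _ => mul_nonneg (by positivity) (Finset.sum_nonneg fun _ _ => Complex.normSq_nonneg _))
      (fun ψ => by
        obtain ⟨k, hk, hkχ⟩ := Cfsg.Agent.Lib.GaloisPos.exists_pow_char' (G := G) ψ
        refine ⟨fun g => g ^ k, fun g hg => hs k hk g hg,
          Set.InjOn.mono (Set.subset_univ _) ((powCoprime hk.symm).injective.injOn),
          fun g _ h => hkχ A hA g h⟩)
    have hpos : ∀ x : G, A x ≠ 0 := by
      intro x
      obtain ⟨n, hn⟩ := hno x
      rw [hr, Complex.ofReal_ne_zero]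
      have h1 : 0 < ∑ m : N, Complex.normSq ((χ : G → ℂ) ((m : G) * x)) :=
        Finset.sum_pos' (fun _ _ => Complex.normSq_nonneg _)
          ⟨n, Finset.mem_univ n, Complex.normSq_pos.mpr hn⟩
      exact (mul_pos (inv_pos.mpr (Nat.cast_pos.mpr Nat.card_pos)) h1).ne'
    rw [Finset.filter_true_of_mem fun x _ => hpos x] at key
    have h1 := Finset.sum_filter_add_sum_filter_not Finset.univ (fun g => g ∈ N) r
    have h2 : ∀ g ∈ N, r g = r 1 := by
      intro g hg
      simp only [r]
      congr 1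
      refine Fintype.sum_equiv (Equiv.mulRight (⟨g, hg⟩ : N)) _ _ fun n => by simp
    rw [Finset.sum_congr rfl fun g hg => h2 g (Finset.mem_filter.mp hg).2, Finset.sum_const,
      nsmul_eq_mul, hsum] at h1
    have h5 : ((Finset.univ.filter fun g => g ∈ N).card : ℝ) + (s.card : ℝ) = Nat.card G := by
      rw [← Nat.cast_add, Finset.card_filter_add_card_filter_not, Finset.card_univ,
        Nat.card_eq_fintype_card]
    have h6 : (0 : ℝ) < ((Finset.univ.filter fun g => g ∈ N).card : ℝ) := by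
      exact_mod_cast Finset.card_pos.mpr ⟨1, by simp⟩
    obtain ⟨d, hd⟩ := Cfsg.Agent.Lib.Chars.isCharacter_classInner_nat hres hres
    rw [← hA1, hr] at hd
    have hd' : r 1 = (d : ℝ) := by exact_mod_cast hd
    have hdle : (d : ℝ) ≤ 1 := by
      rw [← hd']
      by_contra! hgt
      have := mul_lt_mul_of_pos_left hgt h6
      linarith
    have hd0 : 1 ≤ d := by
      rw [Nat.one_le_iff_ne_zero]
      intro h0
      apply hpos 1
      rw [hr, hd', h0, Nat.cast_zero, Complex.ofReal_zero]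
    have : d = 1 := le_antisymm (by exact_mod_cast hdle) hd0
    rw [hr, hd', this]
    norm_num
  · rintro ⟨x, hx⟩ h1
    obtain ⟨f, hf⟩ := Cfsg.Agent.Lib.Chars.exists_hom_of_degree_one hA h1
    have h0 : A x = 0 := by simp [A, F, hx]
    first
      | exact (f x).ne_zero (by rw [← h0, hf])
      | exact (f x).ne_zero (by rw [← h0, hf x])
      | exact (f x).ne_zero (by rw [← hf]; exact h0)

end Cfsg.Agent.S4996
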