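import Cfsg.Statements.S4912
import Cfsg.Agent.S4996
import Cfsg.Agent.Lib.Clifford.Correspondence
import Cfsg.Agent.Lib.Indicator.Integral
import Cfsg.Agent.Lib.Chars.Indicator
import Cfsg.Agent.Lib.Chars.Ops
import Cfsg.Agent.Lib.KGV.Basic
-- import your own Cfsg.Agent.* helpers here

set_option autoImplicit false
open Cfsg

namespace Cfsg.Agent.S4912

open Cfsg.Agent.Lib
open scoped Kronecker

/-- The sum of `trace (A · σ₁ n · σ₂ n)` vanishes when the characters of the two representations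
have product of average zero. -/
theorem sum_trace_eq_zero {N : Type*} [Group N] [Fintype N] {ι : Type*} [Fintype ι] [DecidableEq ι]
    (M₁ M₂ : N →* Matrix ι ι ℂ) (h : ∑ n : N, (M₁ n).trace * (M₂ n).trace = 0)
    (A : Matrix ι ι ℂ) : ∑ n : N, (A * M₁ n * M₂ n).trace = 0 := by
  set c : ℂ := (Nat.card N : ℂ)⁻¹ with hc
  set P : Matrix (ι × ι) (ι × ι) ℂ := c • ∑ n : N, M₁ n ⊗ₖ M₂ n with hP
  have hc0 : c ≠ 0 := inv_ne_zero Chars.natCard_ne_zero
  have hPP : P * P = P := by
    have h1 : ∀ g : N, ∑ h : N, (M₁ g ⊗ₖ M₂ g) * (M₁ h ⊗ₖ M₂ h) = ∑ h : N, M₁ h ⊗ₖ M₂ h := by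
      intro g
      rw [← Equiv.sum_comp (Equiv.mulLeft g) (fun h => M₁ h ⊗ₖ M₂ h)]
      refine Finset.sum_congr rfl fun h _ => ?_
      rw [Equiv.coe_mulLeft, map_mul, map_mul, ← Matrix.mul_kronecker_mul]
    rw [hP, smul_mul_assoc, mul_smul_comm, Finset.sum_mul]
    simp only [Finset.mul_sum, h1, Finset.sum_const, Finset.card_univ]
    rw [← Nat.cast_smul_eq_nsmul ℂ, smul_smul, smul_smul, ← Nat.card_eq_fintype_card]
    congr 1
    rw [hc]
    field_simp
  have hp : LinearMap.IsProj (LinearMap.range P.toLin') P.toLin' := by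
    refine ⟨fun x => LinearMap.mem_range_self _ x, ?_⟩
    rintro _ ⟨x, rfl⟩
    rw [← LinearMap.comp_apply, ← Matrix.toLin'_mul, hPP]
  have htr : P.trace = 0 := by
    rw [hP, Matrix.trace_smul, Matrix.trace_sum]
    simp only [Matrix.trace_kronecker, h, smul_zero]
  rw [← Matrix.trace_toLin'_eq, hp.trace, Nat.cast_eq_zero, Submodule.finrank_eq_zero,
    LinearMap.range_eq_bot, LinearEquiv.map_eq_zero_iff] at htr
  have hent : ∀ i a k b, ∑ n : N, M₁ n i a * M₂ n k b = 0 := by
    intro i a k b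
    have := congrArg (fun E : Matrix (ι × ι) (ι × ι) ℂ => E (i, k) (a, b)) htr
    simp only [hP, Matrix.smul_apply, Matrix.sum_apply, Matrix.kroneckerMap_apply, smul_eq_mul,
      Matrix.zero_apply, mul_eq_zero, hc0, false_or] at this
    exact this
  simp only [Matrix.trace, Matrix.diag_apply, Matrix.mul_apply, Finset.sum_mul]
  rw [Finset.sum_comm]
  refine Finset.sum_eq_zero fun i _ => ?_
  rw [Finset.sum_comm]
  refine Finset.sum_eq_zero fun j _ => ?_
  rw [Finset.sum_comm]
  refine Finset.sum_eq_zero fun k _ => ?_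
  simp only [mul_assoc, ← Finset.mul_sum, hent, mul_zero]

/-- A linear character with indicator one squares to one. -/
theorem hom_sq_eq_one {G : Type*} [Group G] [Fintype G] (f : G →* ℂˣ)
    (h : (Nat.card G : ℂ)⁻¹ * ∑ g : G, ((f (g * g) : ℂˣ) : ℂ) = 1) (g : G) : f (g * g) = 1 := by
  have heq : Chars.linIrr (f * f) = Chars.trivialIrr G := by
    by_contra hne
    have h0 := Chars.classInner_irr_of_ne hne
    simp only [classInner, Chars.linIrr, Chars.trivialIrr_apply, map_one, mul_one,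
      MonoidHom.mul_apply, Units.val_mul] at h0
    simp only [map_mul, Units.val_mul] at h
    rw [h0] at h
    exact zero_ne_one h
  have := congrFun (congrArg Subtype.val heq) g
  simp only [Chars.linIrr, Chars.trivialIrr_apply, MonoidHom.mul_apply, Units.val_mul] at this
  exact Units.ext (by rw [map_mul]; exact this)

/-- Let G be a finite group with a non-abelian minimal normal subgroup N, and let φ be an irreducible complex character of N with stabilizer I in G such that φ extends to an irreducible character of I with Frobenius–Schur indicator +1. Put d = φ(1)·[G : I]. Then the number of linear characters of G with Frobenius–Schur indicator +1 is at most [G : I] times the number of irreducible characters of G of degree d with Frobenius–Schur indicator +1. -/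
theorem result {G : Type*} [Group G] [Finite G] (N : Subgroup G) (hN : N.Normal) (hN1 : N ≠ ⊥) (hmin : ∀ M : Subgroup G, M.Normal → M ≤ N → M = ⊥ ∨ M = N) (hna : ¬ IsMulCommutative ↥N) (φ : Cfsg.IrrCharacter ↥N) (I : Subgroup G) (hI : ∀ g : G, g ∈ I ↔ ∀ n n' : ↥N, (n' : G) = g * (n : G) * g⁻¹ → (φ : ↥N → ℂ) n' = (φ : ↥N → ℂ) n) (hNI : N ≤ I) (hext : ∃ ψ : Cfsg.IrrCharacter ↥I, (Nat.card ↥I : ℂ)⁻¹ * ∑ᶠ g : ↥I, (ψ : ↥I → ℂ) (g * g) = 1 ∧ ∀ n : ↥N, (ψ : ↥I → ℂ) (Subgroup.inclusion hNI n) = (φ : ↥N → ℂ) n) : Nat.card {χ : Cfsg.IrrCharacter G // Cfsg.charDegree (χ : G → ℂ) = 1 ∧ (Nat.card G : ℂ)⁻¹ * ∑ᶠ g : G, (χ : G → ℂ) (g * g) = 1} ≤ I.index * Nat.card {χ : Cfsg.IrrCharacter G // Cfsg.charDegree (χ : G → ℂ) = Cfsg.charDegree (φ : ↥N → ℂ) * I.index ∧ (Nat.card G : ℂ)⁻¹ * ∑ᶠ g : G, (χ : G → ℂ) (g * g) = 1} := by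
  classical
  have _ := hN1
  have _ := hmin
  have _ := hna
  let := Fintype.ofFinite G
  let := Fintype.ofFinite N
  let := Fintype.ofFinite I
  obtain ⟨ψ, hψ1, hψN⟩ := hext
  rw [finsum_eq_sum_of_fintype] at hψ1
  obtain ⟨m, ρ, hρ, hρψ⟩ := ψ.2
  have hT : ∀ g, g ∈ I ↔ Clifford.conjFun g (φ : N → ℂ) = (φ : N → ℂ) := by
    intro g
    rw [hI g]
    constructor
    · exact fun h => funext fun n => h n _ rfl
    · intro h n n' hn'
      have := congrFun h n
      rwa [Clifford.conjFun, show (⟨g * n * g⁻¹, hN.conj_mem (n : G) n.2 g⟩ : N) = n' from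
        Subtype.ext hn'.symm] at this
  have hψreal : ∀ x : I, ((ψ : I → ℂ) x).im = 0 := by
    intro x
    obtain ⟨htri, hiff⟩ := Chars.indicator_trichotomy ρ
    rw [hρψ] at htri hiff
    by_contra hx
    rw [hiff.mpr ⟨x, hx⟩] at hψ1
    exact zero_ne_one hψ1
  have hφreal : ∀ n : N, (starRingEnd ℂ) ((φ : N → ℂ) n) = (φ : N → ℂ) n := fun n => by
    rw [← hψN n, Complex.conj_eq_iff_im]; exact hψreal _
  let L := {χ : Cfsg.IrrCharacter G // Cfsg.charDegree (χ : G → ℂ) = 1 ∧
    (Nat.card G : ℂ)⁻¹ * ∑ᶠ g : G, (χ : G → ℂ) (g * g) = 1}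
  let Tt := {χ : Cfsg.IrrCharacter G // Cfsg.charDegree (χ : G → ℂ) =
    Cfsg.charDegree (φ : N → ℂ) * I.index ∧
    (Nat.card G : ℂ)⁻¹ * ∑ᶠ g : G, (χ : G → ℂ) (g * g) = 1}
  have hL : ∀ l : L, ∃ f : G →* ℂˣ, ((l.1 : G → ℂ) = fun g => (f g : ℂ)) ∧ ∀ g, f (g * g) = 1 := by
    rintro ⟨χ, hd, hν⟩
    obtain ⟨n, -, hn⟩ := Chars.isIrrCharacter_exists_degree_pos χ.2
    have h1 : (χ : G → ℂ) 1 = 1 := by
      rw [Cfsg.charDegree, hn] at hd
      rw [hn]
      simp only [Complex.natCast_re, Nat.floor_natCast] at hd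
      exact_mod_cast hd
    obtain ⟨f, hf⟩ := Chars.exists_hom_of_degree_one (Chars.irr_isCharacter χ) h1
    refine ⟨f, hf, fun g => hom_sq_eq_one f ?_ g⟩
    rw [finsum_eq_sum_of_fintype, hf] at hν
    exact hν
  choose f hf hfsq using hL
  let θ : L → Cfsg.IrrCharacter I := fun l =>
    ⟨_, Chars.isIrrCharacter_hom_mul ((f l).comp I.subtype) ψ.2⟩
  have hθ : ∀ l x, (θ l : I → ℂ) x = (f l (x : G) : ℂ) * (ψ : I → ℂ) x := fun l x => rfl
  -- `f` is trivial on `N`
  have hfN : ∀ l, ∀ n : N, f l (n : G) = 1 := by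
    intro l
    by_contra! hne
    obtain ⟨n, hn⟩ := hne
    -- the kernel meets `N` in a normal subgroup
    rcases hmin ((f l).ker ⊓ N) (Subgroup.normal_inf_normal _ _) inf_le_right with h | h
    · apply hna
      refine ⟨⟨fun a b => Subtype.ext ?_⟩⟩
      have hc : (a : G) * b * ((b : G) * a)⁻¹ ∈ (f l).ker ⊓ N := by
        refine ⟨?_, N.mul_mem (N.mul_mem a.2 b.2) (N.inv_mem (N.mul_mem b.2 a.2))⟩
        show f l _ = 1
        rw [map_mul, map_inv, map_mul, map_mul, mul_comm (f l b),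
          mul_inv_cancel]
      rw [h, Subgroup.mem_bot] at hc
      exact mul_inv_eq_one.mp hc
    · exact hn ((h.ge n.2).1)
  have hres : ∀ l, Clifford.resTo hNI (θ l : I → ℂ) = (φ : N → ℂ) := by
    intro l
    funext n
    show ((f l (n : G) : ℂˣ) : ℂ) * (ψ : I → ℂ) ⟨(n : G), hNI n.2⟩ = _
    rw [hfN l n, Units.val_one, one_mul]
    exact hψN n
  have hover : ∀ l, classInner (Clifford.resTo hNI (θ l : I → ℂ)) (φ : N → ℂ) ≠ 0 := fun l => by
    rw [hres, Chars.classInner_irr_self]; exact one_ne_zero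
  let χ : L → Cfsg.IrrCharacter G := fun l =>
    ⟨_, Clifford.isIrrCharacter_indFun_inertia φ.2 hT hNI (θ l).2 (hover l)⟩
  -- squares outside `I` contribute nothing
  have hout : ∑ g ∈ Finset.univ.filter (fun g : G => g ∉ I ∧ g * g ∈ I),
      extendByZero I (ψ : I → ℂ) (g * g) = 0 := by
    set S := Finset.univ.filter (fun g : G => g ∉ I ∧ g * g ∈ I) with hS
    have hclosed : ∀ g (n : N), g ∈ S → g * (n : G) ∈ S := by
      intro g n hg
      simp only [hS, Finset.mem_filter, Finset.mem_univ, true_and] at hg ⊢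
      refine ⟨fun h => hg.1 ((Subgroup.mul_mem_cancel_right _ (hNI n.2)).mp h), ?_⟩
      rw [show g * (n : G) * (g * (n : G)) = g * g * (g⁻¹ * (n : G) * g⁻¹⁻¹ * (n : G)) by group]
      exact I.mul_mem hg.2 (I.mul_mem (hNI (hN.conj_mem _ n.2 _)) (hNI n.2))
    have hinner : ∀ g ∈ S, ∑ n : N, extendByZero I (ψ : I → ℂ) (g * (n : G) * (g * (n : G))) = 0 := by
      intro g hg
      simp only [hS, Finset.mem_filter, Finset.mem_univ, true_and] at hg
      let M : I →* Matrix (Fin m) (Fin m) ℂ :=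
        (LinearMap.toMatrixAlgEquiv' (R := ℂ) (n := Fin m)).toMonoidHom.comp ρ
      have hM : ∀ x, (M x).trace = (ψ : I → ℂ) x := by
        intro x
        rw [← hρψ, Representation.character,
          LinearMap.trace_eq_matrix_trace ℂ (Pi.basisFun ℂ (Fin m))]
        rfl
      let M₂ : N →* Matrix (Fin m) (Fin m) ℂ := M.comp (Subgroup.inclusion hNI)
      let M₁ : N →* Matrix (Fin m) (Fin m) ℂ := M₂.comp (MulAut.conjNormal g⁻¹).toMonoidHom
      have h0 : ∑ n : N, (M₁ n).trace * (M₂ n).trace = 0 := by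
        have hne : (⟨_, Clifford.isIrrCharacter_conjFun g⁻¹ φ.2⟩ : Cfsg.IrrCharacter N) ≠ φ :=
          fun h => hg.1 (inv_mem_iff.mp ((hT g⁻¹).mpr (congrArg Subtype.val h)))
        have h := Chars.classInner_irr_of_ne hne
        rw [classInner, mul_eq_zero, inv_eq_zero] at h
        refine Eq.trans (Finset.sum_congr rfl fun n _ => ?_) (h.resolve_left Chars.natCard_ne_zero)
        simp only [M₁, M₂, MonoidHom.comp_apply, hM, hφreal]
        rw [hψN, hψN]
        rfl
      refine Eq.trans (Finset.sum_congr rfl fun n _ => ?_)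
        (sum_trace_eq_zero M₁ M₂ h0 (M ⟨g * g, hg.2⟩))
      have e : g * (n : G) * (g * (n : G)) =
          ((⟨g * g, hg.2⟩ * Subgroup.inclusion hNI (MulAut.conjNormal g⁻¹ n) *
            Subgroup.inclusion hNI n : I) : G) := by
        simp only [Subgroup.coe_mul, Subgroup.coe_inclusion, MulAut.conjNormal_apply]
        group
      rw [e, Chars.extendByZero_coe, ← hM]
      simp only [M₁, M₂, map_mul, MonoidHom.comp_apply]
      rfl
    have h2 : ∀ n : N, ∑ g ∈ S, extendByZero I (ψ : I → ℂ) (g * (n : G) * (g * (n : G))) =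
        ∑ g ∈ S, extendByZero I (ψ : I → ℂ) (g * g) := by
      intro n
      refine Finset.sum_bij' (fun g _ => g * (n : G)) (fun g _ => g * ((n⁻¹ : N) : G))
        (fun g hg => hclosed g n hg) (fun g hg => hclosed g n⁻¹ hg) (fun g _ => by simp)
        (fun g _ => by simp) (fun g _ => rfl)
    have h3 : (Nat.card N : ℂ) * ∑ g ∈ S, extendByZero I (ψ : I → ℂ) (g * g) = 0 := by
      rw [← Finset.sum_eq_zero hinner, Finset.sum_comm, Finset.sum_congr rfl fun n _ => h2 n,
        Finset.sum_const, Finset.card_univ, nsmul_eq_mul, Nat.card_eq_fintype_card]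
    exact (mul_eq_zero.mp h3).resolve_left Chars.natCard_ne_zero
  have hχT : ∀ l, Cfsg.charDegree (χ l : G → ℂ) = Cfsg.charDegree (φ : N → ℂ) * I.index ∧
      (Nat.card G : ℂ)⁻¹ * ∑ᶠ g : G, (χ l : G → ℂ) (g * g) = 1 := by
    intro l
    constructor
    · show Cfsg.charDegree (indFun I (θ l : I → ℂ)) = _
      obtain ⟨d, -, hd⟩ := Chars.isIrrCharacter_exists_degree_pos φ.2
      have h1 : (θ l : I → ℂ) 1 = (φ : N → ℂ) 1 := congrFun (hres l) 1
      rw [Cfsg.charDegree, Cfsg.charDegree, Chars.indFun_one_eq, h1, hd, ← Nat.cast_mul,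
        Complex.natCast_re, Complex.natCast_re, Nat.floor_natCast, Nat.floor_natCast, mul_comm]
    · rw [finsum_eq_sum_of_fintype]
      show (Nat.card G : ℂ)⁻¹ * ∑ g : G, indFun I (θ l : I → ℂ) (g * g) = 1
      have hE : ∀ g : G, extendByZero I (θ l : I → ℂ) (g * g)
          = extendByZero I (ψ : I → ℂ) (g * g) := by
        intro g
        by_cases hg : g * g ∈ I
        · rw [Chars.extendByZero_of_mem _ hg, Chars.extendByZero_of_mem _ hg, hθ, hfsq,
            Units.val_one, one_mul]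
        · rw [Chars.extendByZero_of_not_mem _ hg, Chars.extendByZero_of_not_mem _ hg]
      have hconj : ∀ x : G, ∑ g : G, extendByZero I (θ l : I → ℂ) (x⁻¹ * (g * g) * x)
          = ∑ g : G, extendByZero I (ψ : I → ℂ) (g * g) := by
        intro x
        refine Eq.trans ?_ (Finset.sum_congr rfl fun g _ => hE g)
        exact Fintype.sum_equiv (MulAut.conj x⁻¹).toEquiv _ _ fun g => by
          simp only [MulEquiv.toEquiv_eq_coe, MulEquiv.coe_toEquiv, MulAut.conj_apply, inv_inv]
          congr 1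
          group
      have hsum : ∑ g : G, extendByZero I (ψ : I → ℂ) (g * g) = (Nat.card I : ℂ) := by
        rw [inv_mul_eq_one₀ Chars.natCard_ne_zero] at hψ1
        rw [hψ1, ← Finset.sum_filter_add_sum_filter_not Finset.univ (fun g : G => g ∈ I),
          ← Finset.sum_filter_add_sum_filter_not (Finset.univ.filter fun g : G => g ∉ I)
            (fun g : G => g * g ∈ I), Finset.filter_filter, hout, zero_add,
          Finset.sum_eq_zero fun g hg => Chars.extendByZero_of_not_mem _ (Finset.mem_filter.mp hg).2,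
          add_zero]
        rw [Finset.sum_subtype (Finset.univ.filter fun g => g ∈ I) (p := fun g => g ∈ I)
          (fun g => by simp)]
        exact Finset.sum_congr rfl fun g _ => Chars.extendByZero_coe I _ (g * g)
      simp only [indFun]
      rw [← Finset.mul_sum, Finset.sum_comm, Finset.sum_congr rfl fun x _ => hconj x,
        Finset.sum_const, hsum, Finset.card_univ, nsmul_eq_mul, ← Nat.card_eq_fintype_card]
      have := Chars.natCard_ne_zero (G := G)
      have := Chars.natCard_ne_zero (G := I)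
      field_simp
  -- fibres
  let K := Subgroup.normalClosure (I : Set G)
  have hfib : ∀ a b : L, χ a = χ b → ∀ x ∈ K, (f a * (f b)⁻¹) x = 1 := by
    intro a b hab
    have h1 : ∀ l, classInner (Clifford.resFun I (χ l : G → ℂ)) (θ l : I → ℂ) ≠ 0 := by
      intro l
      have h := Chars.classInner_indFun_right I (θ l : I → ℂ) (χ l : G → ℂ)
        (Chars.irr_isClassFunction (χ l))
      rw [show indFun I (θ l : I → ℂ) = (χ l : G → ℂ) from rfl, Chars.classInner_irr_self] at h
      exact fun h0 => one_ne_zero (h.trans h0)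
    obtain ⟨-, -, -, huniq⟩ := Clifford.clifford_induced φ.2 hT hNI (χ a).2 (θ a).2 (h1 a) (hover a)
    have hb : classInner (Clifford.resFun I (χ a : G → ℂ)) (θ b : I → ℂ) ≠ 0 := hab ▸ h1 b
    have heq := huniq _ (θ b).2 hb (hover b)
    have hle : K ≤ (f a * (f b)⁻¹).ker := by
      refine Subgroup.normalClosure_le_normal fun x hx => ?_
      have hirr : IsIrrCharacter ↥(N.subgroupOf I) (fun y : N.subgroupOf I => (ψ : I → ℂ) y) := by
        have h := Clifford.isIrrCharacter_comp_equiv (Subgroup.subgroupOfEquivOfLe hNI) φ.2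
        refine (congrArg _ (funext fun y => ?_)).mp h
        rw [← hψN]
        rfl
      have hnz : ∃ n : N.subgroupOf I, (ψ : I → ℂ) ((n : I) * ⟨x, hx⟩) ≠ 0 := by
        by_contra! hz
        exact (Cfsg.Agent.S4996.result (N.subgroupOf I) ψ).mpr ⟨⟨x, hx⟩, hz⟩ hirr
      obtain ⟨n, hn⟩ := hnz
      have h := congrFun heq ((n : I) * ⟨x, hx⟩)
      rw [hθ, hθ] at h
      have h' := Units.ext (mul_right_cancel₀ hn h)
      have hn1 : ((n : I) : G) ∈ N := Subgroup.mem_subgroupOf.mp n.2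
      rw [Subgroup.coe_mul, map_mul, map_mul, hfN a ⟨_, hn1⟩, hfN b ⟨_, hn1⟩, one_mul, one_mul] at h'
      rw [SetLike.mem_coe, MonoidHom.mem_ker, MonoidHom.mul_apply, MonoidHom.inv_apply, ← h',
        mul_inv_cancel]
    exact fun x hx => hle hx
  let base : L → L := fun l => (⟨l, rfl⟩ : ∃ b, χ b = χ l).choose
  have hbase : ∀ l, χ (base l) = χ l := fun l => (⟨l, rfl⟩ : ∃ b, χ b = χ l).choose_spec
  have hbase' : ∀ a b, χ a = χ b → base a = base b := by
    intro a b h
    simp only [base]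
    simp_rw [h]
  let F : L → Tt × (G ⧸ K →* ℂˣ) := fun l => (⟨χ l, hχT l⟩,
    QuotientGroup.lift K (f l * (f (base l))⁻¹) (hfib l (base l) (hbase l).symm))
  have hFi : Function.Injective F := by
    intro a b h
    simp only [F, Prod.mk.injEq, Subtype.mk.injEq] at h
    have h1 : χ a = χ b := congrArg Subtype.val h.1
    have hb := hbase' a b h1
    have h2 : f a * (f (base a))⁻¹ = f b * (f (base b))⁻¹ := MonoidHom.ext fun g =>
      DFunLike.congr_fun h.2 (g : G ⧸ K)
    rw [hb] at h2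
    have h3 := mul_right_cancel h2
    exact Subtype.ext (Subtype.ext (by rw [hf a, hf b, h3]))
  have hcard : Nat.card (G ⧸ K →* ℂˣ) ≤ I.index := by
    rw [Chars.card_monoidHom_units]
    refine le_trans (Nat.le_of_dvd Nat.card_pos (Subgroup.index_dvd_card _)) ?_
    rw [← Subgroup.index_eq_card]
    exact Nat.le_of_dvd (Nat.pos_of_ne_zero Subgroup.index_ne_zero_of_finite)
      (Subgroup.index_dvd_of_le Subgroup.le_normalClosure)
  have : Finite (G ⧸ K →* ℂˣ) := Nat.finite_of_card_ne_zero (by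
    rw [Chars.card_monoidHom_units]; exact Subgroup.index_ne_zero_of_finite)
  calc Nat.card L ≤ Nat.card (Tt × (G ⧸ K →* ℂˣ)) := Nat.card_le_card_of_injective F hFi
    _ ≤ I.index * Nat.card Tt := by
      rw [Nat.card_prod, mul_comm]
      exact Nat.mul_le_mul_right _ hcard

end Cfsg.Agent.S4912
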