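import Cfsg.Statements.S4914
import Cfsg.Agent.Lib.SylowCorr.Compose

set_option autoImplicit false
open Cfsg

namespace Cfsg.Agent.S4914

open Cfsg.Agent.Lib
open Cfsg.Agent.Lib.SylowCorr

/-- Let P and K be subgroups of a finite group G with P a p-group normalizing K, and suppose K has a normal Sylow p-subgroup Q. Let C be the subgroup of those k ∈ K whose commutator with every element of P lies in Q (so that C/Q is the fixed-point subgroup of P on K/Q). Then there is a bijection f from the P-invariant irreducible complex characters of K onto the P-invariant irreducible complex characters of C such that, for every P-invariant irreducible character χ of K, the multiplicity of f(χ) in the restriction of χ to C is a natural number congruent to 1 or to −1 modulo p, every other P-invariant irreducible character of C occurs in that restriction with multiplicity divisible by p, and the degrees of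 χ and f(χ) are congruent modulo p up to sign. -/
theorem result {G : Type*} [Group G] [Finite G] (p : ℕ) [Fact p.Prime] (P K Q C : Subgroup G) (hP : IsPGroup p ↥P) (hPK : P ≤ Subgroup.normalizer (K : Set G)) (hQK : Q ≤ K) (hQn : ∀ k ∈ K, ∀ q ∈ Q, k * q * k⁻¹ ∈ Q) (hQp : ∃ a : ℕ, Nat.card ↥Q = p ^ a) (hQsyl : ¬ p ∣ Q.relIndex K) (hCK : C ≤ K) (hC : ∀ k : G, k ∈ C ↔ (k ∈ K ∧ ∀ x ∈ P, x * k * x⁻¹ * k⁻¹ ∈ Q)) : ∃ f : {χ : Cfsg.IrrCharacter ↥K // (∀ x ∈ P, ∀ k k' : ↥K, (k' : G) = x * (k : G) * x⁻¹ → (χ : ↥K → ℂ) k' = (χ : ↥K → ℂ) k)} → {ξ : Cfsg.IrrCharacter ↥C // (∀ x ∈ P, ∀ k k' : ↥C, (k' : G) = x * (k : G) * x⁻¹ → (ξ : ↥C → ℂ) k' = (ξ : ↥C → ℂ) k)}, Function.Bijective f ∧ ∀ χ, (∀ ξ : {ξ : Cfsg.IrrCharacter ↥C // (∀ x ∈ P, ∀ k k' : ↥C, (k' : G) = x * (k : G) * x⁻¹ → (ξ : ↥C → ℂ) k' = (ξ : ↥C → ℂ) k)}, ∃ m : ℕ, (Nat.card ↥C : ℂ)⁻¹ * ∑ᶠ c : ↥C, (χ.1 : ↥K → ℂ) (Subgroup.inclusion hCK c) * (starRingEnd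 ℂ) ((ξ.1 : ↥C → ℂ) c) = (m : ℂ) ∧ (ξ = f χ → ((m : ZMod p) = 1 ∨ (m : ZMod p) = -1)) ∧ (ξ ≠ f χ → p ∣ m)) ∧ ((Cfsg.charDegree ((f χ).1 : ↥C → ℂ) : ZMod p) = (Cfsg.charDegree (χ.1 : ↥K → ℂ) : ZMod p) ∨ (Cfsg.charDegree ((f χ).1 : ↥C → ℂ) : ZMod p) = -(Cfsg.charDegree (χ.1 : ↥K → ℂ) : ZMod p)) := by
  classical
  have hK : ∀ x ∈ P, Glauberman.Normalises x K := fun x hx =>
    Subgroup.mem_normalizer_iff.1 (hPK hx)
  obtain ⟨a, ha⟩ := hQp
  have hp : p.Prime := Fact.out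
  haveI : (Q.subgroupOf K).Normal := ⟨fun q hq k => hQn k k.2 q hq⟩
  have hm : ∀ k ∈ K, k ^ Q.relIndex K ∈ Q := fun k hk =>
    Subgroup.mem_subgroupOf.1 (Subgroup.pow_index_mem (Q.subgroupOf K) (⟨k, hk⟩ : K))
  have hQ : ∀ x ∈ P, Glauberman.Normalises x Q := fun x hx =>
    Glauberman.normalises_of_mem fun q hq => by
      have h1 := hm _ ((hK x hx q).1 (hQK hq))
      have h2 : (x * q * x⁻¹) ^ (p ^ a) = 1 := by
        have h3 : q ^ Nat.card Q = 1 :=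
          congrArg Subtype.val (pow_card_eq_one' (x := (⟨q, hq⟩ : Q)))
        rw [conj_pow, ← ha, h3, mul_one, mul_inv_cancel]
      have hcop : (p ^ a).Coprime (Q.relIndex K) :=
        ((hp.coprime_iff_not_dvd).2 hQsyl).pow_left a
      obtain ⟨k, hk1, hk2⟩ : ∃ k : ℕ, k ≡ 1 [MOD p ^ a] ∧ k ≡ 0 [MOD Q.relIndex K] :=
        ⟨_, (Nat.chineseRemainder hcop 1 0).2.1, (Nat.chineseRemainder hcop 1 0).2.2⟩
      obtain ⟨l, rfl⟩ := Nat.modEq_zero_iff_dvd.1 hk2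
      rw [← pow_one (x * q * x⁻¹), ← pow_eq_pow_of_modEq hk1 h2, pow_mul]
      exact Q.pow_mem h1 l
  obtain ⟨f, hf⟩ := exists_cor hQsyl hQn hm _ P rfl hP hK hQ C hCK hC
  have hCn : ∀ x ∈ P, Glauberman.Normalises x C :=
    normalises_fixed (fun x hx y hy => P.mul_mem (P.mul_mem (P.inv_mem hx) hy) hx) hK hQ hC
  haveI := Fintype.ofFinite C
  refine ⟨f, hf.1, fun χ => ⟨fun ξ => ⟨Glauberman.charMult
    (Glauberman.resSub hCK (χ.1 : K → ℂ)) (ξ.1 : C → ℂ), ?_, fun e => ?_, fun e => ?_⟩,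
    hf.degree hP hK hCn χ⟩⟩
  · rw [← Glauberman.charMult_spec
      (Glauberman.isCharacter_resSub hCK (Chars.irr_isCharacter χ.1)) (Chars.irr_isCharacter ξ.1),
      classInner, finsum_eq_sum_of_fintype]
    rfl
  · subst e
    exact (hf.2 χ).1
  · exact (ZMod.natCast_eq_zero_iff _ _).1 ((hf.2 χ).2 ξ e)

end Cfsg.Agent.S4914
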