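import Cfsg.Statements.S4916
import Cfsg.Agent.Lib.BrauerMap.Principal
import Cfsg.Agent.Lib.Blocks.Covering
-- import your own Cfsg.Agent.* helpers here

set_option autoImplicit false
open Cfsg

namespace Cfsg.Agent.S4916

open Cfsg.Agent.Lib

/-- Let G be a finite group, p a prime and M a maximal ideal of the algebraic integers containing p. Then the principal character is the only irreducible character of degree prime to p in the principal p-block of G if and only if p does not divide the order of G. -/
theorem result {G : Type*} [Group G] [Finite G] (p : ℕ) [Fact p.Prime] (M : Ideal Cfsg.AlgInt) (hM : Cfsg.IsPModular p M) : (∀ χ : Cfsg.IrrCharacter G, χ ∈ Cfsg.principalBlock M G → ¬ p ∣ Cfsg.charDegree (χ : G → ℂ) → (χ : G → ℂ) = fun _ => (1 : ℂ)) ↔ ¬ p ∣ Nat.card G := by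
  classical
  have : Fintype G := Fintype.ofFinite G
  have : M.IsMaximal := hM.2.1
  have : M.IsPrime := hM.2.1.isPrime
  constructor
  · intro h hdvd
    obtain ⟨x, hx⟩ := exists_prime_orderOf_dvd_card' p hdvd
    have horth := Blocks.weak_block_orth hM (BrauerMap.isPBlock_principalBlock (G := G) M)
      (g := 1) (h := x) (by simpa using hM.1.ne_one) (hx ▸ dvd_rfl)
    rw [finsum_mem_eq_toFinset_sum] at horth
    set s := (principalBlock M G).toFinset
    have h1 : Chars.trivialIrr G ∈ s :=
      Set.mem_toFinset.2 (BrauerMap.trivialIrr_mem_principalBlock M)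
    rw [← Finset.add_sum_erase s _ h1] at horth
    have hrest : ∀ χ ∈ s.erase (Chars.trivialIrr G), ∃ z : ℂ, IsIntegral ℤ z ∧
        (χ : G → ℂ) 1 * (starRingEnd ℂ) ((χ : G → ℂ) x) = (p : ℂ) * z := by
      intro χ hχ
      obtain ⟨hne, hmem⟩ := Finset.mem_erase.1 hχ
      obtain ⟨n, hn⟩ := Chars.isCharacter_exists_degree (Chars.irr_isCharacter χ)
      have hd : charDegree (χ : G → ℂ) = n := by simp [charDegree, hn]
      have hp : p ∣ charDegree (χ : G → ℂ) := by
        by_contra hc
        exact hne (Subtype.ext ((h χ (Set.mem_toFinset.1 hmem) hc).trans rfl))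
      obtain ⟨m, rfl⟩ := hd ▸ hp
      exact ⟨(m : ℂ) * (starRingEnd ℂ) ((χ : G → ℂ) x),
        (isIntegral_algebraMap (R := ℤ) (A := ℂ) (x := (m : ℤ))).mul
          (Chars.isIntegral_conj (Chars.irr_isIntegral χ x)), by rw [hn]; push_cast; ring⟩
    choose! z hzi hz using hrest
    rw [Finset.sum_congr rfl hz, ← Finset.mul_sum] at horth
    simp at horth
    have hint : IsIntegral ℤ (((1 : ℕ) : ℂ) / (p : ℂ)) := by
      have : ((1 : ℕ) : ℂ) / (p : ℂ) = -∑ χ ∈ s.erase (Chars.trivialIrr G), z χ := by
        rw [div_eq_iff (Nat.cast_ne_zero.2 hM.1.ne_zero)]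
        push_cast
        linear_combination horth
      exact this ▸ (IsIntegral.sum _ hzi).neg
    exact hM.1.ne_one (Nat.dvd_one.1 (Chars.dvd_of_isIntegral_div hM.1.ne_zero hint))
  · intro hG χ hχ _
    have := Blocks.Covering.eq_of_sameBlock_of_not_dvd hM hG
      (θ := Chars.trivialIrr G) (θ' := χ) hχ
    subst this
    rfl

end Cfsg.Agent.S4916
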