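import Cfsg.Statements.S4930
import Cfsg.Agent.Lib.OddDegree.Complement

set_option autoImplicit false
open Cfsg

namespace Cfsg.Agent.S4930

/-- Let G be a finite group, P a Sylow 2-subgroup of G with normalizer N, and P′ the commutator subgroup of P. Then the sum of the squares of the degrees of the irreducible complex characters of G of odd degree is at least the index of P′ in N (the order of N divided by the order of P′), and equality holds if and only if N has a normal complement in G: a normal subgroup K of G with K ∩ N = 1 and KN = G. -/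
theorem result {G : Type*} [Group G] [Finite G] (P : Sylow 2 G) :
    Nat.card (Subgroup.normalizer ((P : Subgroup G) : Set G)) ≤ Nat.card (commutator ↥P) * (∑ᶠ χ : {χ : Cfsg.IrrCharacter G // ¬ 2 ∣ Cfsg.charDegree (χ : G → ℂ)}, Cfsg.charDegree (χ.1 : G → ℂ) ^ 2) ∧
    (Nat.card (Subgroup.normalizer ((P : Subgroup G) : Set G)) = Nat.card (commutator ↥P) * (∑ᶠ χ : {χ : Cfsg.IrrCharacter G // ¬ 2 ∣ Cfsg.charDegree (χ : G → ℂ)}, Cfsg.charDegree (χ.1 : G → ℂ) ^ 2) ↔
      ∃ K : Subgroup G, K.Normal ∧ K ⊓ Subgroup.normalizer ((P : Subgroup G) : Set G) = ⊥ ∧ K ⊔ Subgroup.normalizer ((P : Subgroup G) : Set G) = ⊤) := by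
  classical
  have hS : (∑ᶠ χ : {χ : Cfsg.IrrCharacter G // ¬ 2 ∣ Cfsg.charDegree (χ : G → ℂ)},
      Cfsg.charDegree (χ.1 : G → ℂ) ^ 2) = Lib.OddDegree.oddSum G := by
    rw [finsum_eq_sum_of_fintype]
    exact (Finset.sum_subtype (Lib.OddDegree.oddIrr G)
      (fun χ => by rw [Lib.OddDegree.mem_oddIrr, ← Nat.not_even_iff_odd, even_iff_two_dvd])
      (fun χ => Cfsg.charDegree (χ : G → ℂ) ^ 2)).symm
  rw [hS, Lib.OddDegree.card_nrm P]
  refine ⟨Nat.mul_le_mul_left _ (Lib.OddDegree.oddSum_nrm_le P), fun h => ?_, ?_⟩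
  · exact Lib.OddDegree.exists_complement_of_oddSum_eq P
      (Nat.eq_of_mul_eq_mul_left Nat.card_pos h).symm
  · rintro ⟨K, hn, h1, h2⟩
    rw [Lib.OddDegree.oddSum_eq_of_complement P K h1 h2]
    rfl

end Cfsg.Agent.S4930
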