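import Cfsg.Statements.S4931
import Mathlib
import Cfsg.Agent.Lib.Codegree
import Cfsg.Agent.Lib.KGV.Basic
import Cfsg.Agent.Lib.Transfer.Criteria
import Cfsg.Agent.Lib.Core.Nilpotent
import Cfsg.Agent.Lib.Chars.Completeness

set_option autoImplicit false
open Cfsg

namespace Cfsg.Agent.S4931

open Cfsg.Agent.Lib
open scoped Pointwise commutatorElement

universe u

variable {G : Type u} [Group G] [Finite G] {p : ℕ} [Fact p.Prime]

/-- Irreducible characters trivial on a normal subgroup separate the points outside it. -/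
theorem mem_of_forall_irr {H : Type u} [Group H] [Finite H] (C : Subgroup H) [C.Normal] {x : H}
    (h : ∀ θ : IrrCharacter H, (∀ c ∈ C, (θ : H → ℂ) c = (θ : H → ℂ) 1) →
      (θ : H → ℂ) x = (θ : H → ℂ) 1) : x ∈ C := by
  cases nonempty_fintype H
  haveI : Fintype (H ⧸ C) := Fintype.ofFinite _
  rw [← QuotientGroup.eq_one_iff, ← isConj_one_left (a := (x : H ⧸ C))]
  refine (Chars.isConj_iff_irr.2 fun ψ => ?_)
  have := h (Chars.inflate C ψ) fun c hc => by
    show (ψ : H ⧸ C → ℂ) (c : H ⧸ C) = (ψ : H ⧸ C → ℂ) ((1 : H) : H ⧸ C)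
    rw [(QuotientGroup.eq_one_iff c).2 hc, QuotientGroup.mk_one]
  exact this

/-- An irreducible character trivial on the derived group of a normal Sylow subgroup has degree
prime to `p`. -/
theorem not_dvd_degree {H : Type u} [Group H] [Finite H] (Q : Subgroup H) [Q.Normal]
    (hQ : ¬ p ∣ Q.index) (C : Subgroup H) [C.Normal]
    (hab : ∀ a ∈ Q, ∀ b ∈ Q, a * b * a⁻¹ * b⁻¹ ∈ C) (θ : IrrCharacter H)
    (hθ : ∀ c ∈ C, (θ : H → ℂ) c = (θ : H → ℂ) 1) : ¬ p ∣ charDegree (θ : H → ℂ) := by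
  obtain ⟨ψ, hψ⟩ := Chars.exists_irr_quotient C θ hθ
  haveI : (Q.map (QuotientGroup.mk' C)).Normal :=
    Subgroup.Normal.map ‹_› _ (QuotientGroup.mk'_surjective C)
  obtain ⟨d, -, hd, hdvd⟩ := KGV.exists_degree_dvd_index (Q.map (QuotientGroup.mk' C)) (by
    rintro _ ⟨a, ha, rfl⟩ _ ⟨b, hb, rfl⟩
    have h1 := hab a ha b hb
    rw [← QuotientGroup.eq_one_iff, QuotientGroup.mk_mul, QuotientGroup.mk_mul,
      QuotientGroup.mk_mul, QuotientGroup.mk_inv, QuotientGroup.mk_inv, ← commutatorElement_def,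
      commutatorElement_eq_one_iff_mul_comm] at h1
    exact h1) ψ
  have h1 : (θ : H → ℂ) 1 = (d : ℂ) := by
    rw [← hd, ← hψ 1, QuotientGroup.mk_one]
  rw [charDegree, h1, Complex.natCast_re, Nat.floor_natCast]
  exact fun h => hQ ((h.trans hdvd).trans (Subgroup.index_map_dvd Q (QuotientGroup.mk'_surjective C)))

/-- An element normalising a subgroup containing a Sylow subgroup lies in it times the Sylow
normalizer. -/
theorem exists_mul_normalizer (P : Sylow p G) (R : Subgroup G) (hPR : (P : Subgroup G) ≤ R)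
    (m : G) (hm : ∀ x ∈ (P : Subgroup G), m * x * m⁻¹ ∈ R) :
    ∃ r ∈ R, r * m ∈ Subgroup.normalizer ((P : Subgroup G) : Set G) := by
  have hle : ((m • P : Sylow p G) : Subgroup G) ≤ R := by
    rintro _ ⟨x, hx, rfl⟩
    exact hm x hx
  obtain ⟨r, hr⟩ := MulAction.exists_smul_eq R ((m • P).subtype hle) (P.subtype hPR)
  refine ⟨r, r.2, ?_⟩
  rw [Sylow.smul_subtype] at hr
  have h1 := Sylow.subtype_injective hr
  refine Sylow.smul_eq_iff_mem_normalizer.1 ?_
  rw [mul_smul]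
  exact h1

theorem exists_extension (K N : Subgroup G) [K.Normal] (hsup : K ⊔ N = ⊤) (hinf : K ⊓ N = ⊥)
    (θ : IrrCharacter N) : ∃ χ : IrrCharacter G, ∀ x : N, (χ : G → ℂ) x = (θ : N → ℂ) x := by
  let f : ↥N →* G ⧸ K := (QuotientGroup.mk' K).comp N.subtype
  have hf : Function.Bijective f := by
    constructor
    · rw [injective_iff_map_eq_one]
      intro x hx
      have h2 : (x : G) ∈ K ⊓ N := ⟨(QuotientGroup.eq_one_iff _).1 hx, x.2⟩
      rw [hinf, Subgroup.mem_bot] at h2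
      exact Subtype.ext h2
    · intro z
      obtain ⟨g, rfl⟩ := QuotientGroup.mk_surjective z
      have hg : g ∈ K ⊔ N := hsup ▸ Subgroup.mem_top g
      obtain ⟨k, hk, n, hn, rfl⟩ := Subgroup.mem_sup_of_normal_left.1 hg
      refine ⟨⟨n, hn⟩, ?_⟩
      show ((n : G) : G ⧸ K) = ((k * n : G) : G ⧸ K)
      rw [QuotientGroup.mk_mul, (QuotientGroup.eq_one_iff k).2 hk, one_mul]
  let e := MulEquiv.ofBijective f hf
  refine ⟨⟨fun g => (θ : ↥N → ℂ) (e.symm.toMonoidHom.comp (QuotientGroup.mk' K) g),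
    Chars.isIrrCharacter_comp_surjective _
      (e.symm.surjective.comp (QuotientGroup.mk'_surjective K)) θ.2⟩, fun x => ?_⟩
  show (θ : ↥N → ℂ) (e.symm (e x)) = _
  rw [e.symm_apply_apply]

theorem exists_complement_of_extend (P : Sylow p G)
    (h : ∀ θ : IrrCharacter ↥(Subgroup.normalizer ((P : Subgroup G) : Set G)),
      ¬ p ∣ charDegree (θ : ↥(Subgroup.normalizer ((P : Subgroup G) : Set G)) → ℂ) →
      ∃ χ : IrrCharacter G, ∀ x : ↥(Subgroup.normalizer ((P : Subgroup G) : Set G)),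
        (χ : G → ℂ) x = (θ : ↥(Subgroup.normalizer ((P : Subgroup G) : Set G)) → ℂ) x) :
    ∃ K : Subgroup G, K.Normal ∧ K ⊔ Subgroup.normalizer ((P : Subgroup G) : Set G) = ⊤ ∧
      K ⊓ Subgroup.normalizer ((P : Subgroup G) : Set G) = ⊥ := by
  set N := Subgroup.normalizer ((P : Subgroup G) : Set G) with hN
  have hPN : (P : Subgroup G) ≤ N := Subgroup.le_normalizer
  set Q : Subgroup N := (P : Subgroup G).subgroupOf N with hQdef
  haveI hQn : Q.Normal := Subgroup.normal_in_normalizer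
  set C : Subgroup N := (commutator Q).map Q.subtype with hCdef
  haveI hCn : C.Normal := ConjAct.normal_of_characteristic_of_normal
  have hQidx : ¬ p ∣ Q.index := fun hd =>
    P.not_dvd_index (hd.trans (Subgroup.relIndex_dvd_index_of_le hPN))
  have hab : ∀ a ∈ Q, ∀ b ∈ Q, a * b * a⁻¹ * b⁻¹ ∈ C := fun a ha b hb =>
    ⟨⁅(⟨a, ha⟩ : Q), ⟨b, hb⟩⁆,
      Subgroup.commutator_mem_commutator (Subgroup.mem_top _) (Subgroup.mem_top _), rfl⟩
  have hext : ∀ θ : {θ : IrrCharacter N // ∀ c ∈ C, (θ : N → ℂ) c = (θ : N → ℂ) 1},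
      ∃ χ : IrrCharacter G, ∀ x : N, (χ : G → ℂ) x = (θ.1 : N → ℂ) x :=
    fun θ => h θ.1 (not_dvd_degree Q hQidx C hab θ.1 θ.2)
  choose X hX using hext
  have hXker : ∀ θ, ∀ x : N, (x : G) ∈ Codegree.kerIrr (X θ) ↔
      (θ.1 : N → ℂ) x = (θ.1 : N → ℂ) 1 := fun θ x => by
    rw [Codegree.mem_kerIrr, hX, ← OneMemClass.coe_one N, hX]
  set K0 : Subgroup G := ⨅ θ, Codegree.kerIrr (X θ) with hK0
  set M : Subgroup G := ⨅ θ : {θ : {θ : IrrCharacter N // ∀ c ∈ C, (θ : N → ℂ) c = (θ : N → ℂ) 1} //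
    ∀ c ∈ Q, (θ.1 : N → ℂ) c = (θ.1 : N → ℂ) 1}, Codegree.kerIrr (X θ.1) with hM
  haveI hK0n : K0.Normal := Subgroup.normal_iInf_normal fun θ => Codegree.kerIrr_normal _
  haveI hMn : M.Normal := Subgroup.normal_iInf_normal fun θ => Codegree.kerIrr_normal _
  have hK0M : K0 ≤ M := le_iInf fun θ => iInf_le _ θ.1
  have hPM : (P : Subgroup G) ≤ M := by
    intro x hx
    rw [hM, Subgroup.mem_iInf]
    intro θ
    exact (hXker θ.1 ⟨x, hPN hx⟩).2 (θ.2 _ hx)
  have hMN : ∀ x : N, (x : G) ∈ M → x ∈ Q := by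
    intro x hx
    refine mem_of_forall_irr Q fun θ hθ => ?_
    have hθC : ∀ c ∈ C, (θ : N → ℂ) c = (θ : N → ℂ) 1 := fun c hc => by
      obtain ⟨c', -, rfl⟩ := hc
      exact hθ _ c'.2
    rw [hM, Subgroup.mem_iInf] at hx
    exact (hXker ⟨θ, hθC⟩ x).1 (hx ⟨⟨θ, hθC⟩, hθ⟩)
  have hK0N : ∀ x : N, (x : G) ∈ K0 ↔ x ∈ C := by
    intro x
    rw [hK0, Subgroup.mem_iInf]
    exact ⟨fun hx => mem_of_forall_irr C fun θ hθ => (hXker ⟨θ, hθ⟩ x).1 (hx ⟨θ, hθ⟩),
      fun hx θ => (hXker θ x).2 (θ.2 x hx)⟩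
  set R : Subgroup G := K0 ⊔ (P : Subgroup G) with hR
  have hRM : R ≤ M := sup_le hK0M hPM
  have habK : ∀ a ∈ (P : Subgroup G), ∀ b ∈ (P : Subgroup G), a * b * a⁻¹ * b⁻¹ ∈ K0 :=
    fun a ha b hb => (hK0N (⟨a, hPN ha⟩ * ⟨b, hPN hb⟩ * ⟨a, hPN ha⟩⁻¹ * ⟨b, hPN hb⟩⁻¹)).2
      (hab ⟨a, hPN ha⟩ ha ⟨b, hPN hb⟩ hb)
  set L0 : Subgroup M := K0.subgroupOf M with hL0
  let PM : Sylow p M := P.subtype hPM
  let Pb : Sylow p (M ⧸ L0) := PM.mapSurjective (QuotientGroup.mk'_surjective L0)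
  have hPb : ∀ z : M ⧸ L0, z ∈ (Pb : Subgroup (M ⧸ L0)) ↔
      ∃ x : M, (x : G) ∈ (P : Subgroup G) ∧ (x : M ⧸ L0) = z := fun z =>
    ⟨fun ⟨x, hx, hxz⟩ => ⟨x, hx, hxz⟩, fun ⟨x, hx, hxz⟩ => ⟨x, hx, hxz⟩⟩
  have hcomp : Cfsg.HasNormalPComplement p (M ⧸ L0) := by
    refine Transfer.hasNormalPComplement_of_normalizer_le_centralizer Pb fun z hz => ?_
    obtain ⟨m, rfl⟩ := QuotientGroup.mk_surjective z
    obtain ⟨r, hrR, hrN⟩ := exists_mul_normalizer P R le_sup_right (m : G) fun x hx => by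
      obtain ⟨y, hy, hyz⟩ := (hPb _).1 ((Subgroup.mem_normalizer_iff.1 hz _).1
        ((hPb _).2 ⟨⟨x, hPM hx⟩, hx, rfl⟩))
      have h1 : y⁻¹ * (m * ⟨x, hPM hx⟩ * m⁻¹) ∈ L0 := QuotientGroup.eq.1 hyz
      have h2 : (y : G)⁻¹ * ((m : G) * x * (m : G)⁻¹) ∈ K0 := h1
      have h3 := mul_mem (Subgroup.mem_sup_right (S := K0) hy) (Subgroup.mem_sup_left h2)
      rwa [mul_inv_cancel_left] at h3
    have hrm : r * (m : G) ∈ (P : Subgroup G) :=
      hMN ⟨_, hrN⟩ (mul_mem (hRM hrR) m.2)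
    have hmR : (m : G) ∈ R := by
      have := mul_mem (inv_mem hrR) (Subgroup.mem_sup_right (S := K0) hrm)
      rwa [inv_mul_cancel_left] at this
    obtain ⟨k, hk, x, hx, hkx⟩ := Subgroup.mem_sup_of_normal_left.1 hmR
    have hmx : (m : M ⧸ L0) = ((⟨x, hPM hx⟩ : M) : M ⧸ L0) := by
      rw [QuotientGroup.eq]
      show (m : G)⁻¹ * x ∈ K0
      rw [← hkx, mul_inv_rev, mul_assoc]
      simpa [mul_assoc] using hK0n.conj_mem _ (inv_mem hk) x⁻¹
    rw [hmx, Subgroup.mem_centralizer_iff]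
    intro w hw
    obtain ⟨y, hy, rfl⟩ := (hPb w).1 hw
    rw [← commutatorElement_eq_one_iff_mul_comm, commutatorElement_def, ← QuotientGroup.mk_inv,
      ← QuotientGroup.mk_inv, ← QuotientGroup.mk_mul, ← QuotientGroup.mk_mul,
      ← QuotientGroup.mk_mul, QuotientGroup.eq_one_iff]
    exact habK _ hy _ hx
  have hMcomp : Cfsg.HasNormalPComplement p M := by
    refine Transfer.hasNormalPComplement_of_le_frattini PM fun x hx => ?_
    have h1 : (x : M ⧸ L0) ∈ Cfsg.pResidual p (M ⧸ L0) :=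
      Transfer.map_pResidual_le (QuotientGroup.mk' L0) (Subgroup.mem_map_of_mem _ hx.1)
    have h2 : (x : M ⧸ L0) ∈ (Pb : Subgroup (M ⧸ L0)) := (hPb _).2 ⟨x, hx.2, rfl⟩
    have h3 : (x : M ⧸ L0) = 1 := by
      rw [← Subgroup.mem_bot, ← (Transfer.hasNormalPComplement_iff_inf_eq_bot Pb).1 hcomp]
      exact ⟨h1, h2⟩
    have h4 : (x : G) ∈ K0 := (QuotientGroup.eq_one_iff x).1 h3
    obtain ⟨c, hc, hcx⟩ := (hK0N ⟨x, hPN hx.2⟩).1 h4
    let g : Q →* (PM : Subgroup M) :=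
      { toFun := fun q => ⟨⟨(q : N), hPM q.2⟩, q.2⟩
        map_one' := rfl
        map_mul' := fun _ _ => rfl }
    refine ⟨g c, (Nilp.commutator_le_and_pow_mem_frattini PM.isPGroup').1 ?_, ?_⟩
    · have h5 : (commutator Q).map g ≤ commutator (PM : Subgroup M) := by
        rw [commutator_def, Subgroup.map_commutator, commutator_def]
        exact Subgroup.commutator_mono le_top le_top
      exact h5 ⟨c, hc, rfl⟩
    · exact Subtype.ext (congrArg (fun z : N => (z : G)) hcx)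
  set L : Subgroup G := (Cfsg.pResidual p M).map M.subtype with hL
  haveI : (Cfsg.pResidual p M).Characteristic := Transfer.pResidual_characteristic
  haveI hLn : L.Normal := ConjAct.normal_of_characteristic_of_normal
  have hLcop : ¬ p ∣ Nat.card L := by
    rw [hL, Subgroup.card_map_of_injective M.subtype_injective]
    exact Transfer.hasNormalPComplement_iff.1 hMcomp
  have hLP : M ≤ L ⊔ (P : Subgroup G) := by
    have := congrArg (Subgroup.map M.subtype) (Transfer.pResidual_sup_sylow PM)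
    rw [Subgroup.map_sup, ← MonoidHom.range_eq_map, Subgroup.range_subtype,
      show ((PM : Subgroup M)).map M.subtype = (P : Subgroup G) by
        rw [Sylow.coe_subtype, Subgroup.subgroupOf_map_subtype, inf_eq_left.2 hPM]] at this
    exact this.ge
  refine ⟨L, hLn, ?_, ?_⟩
  · have h1 := Sylow.normalizer_sup_eq_top (N := M) (P.subtype hPM)
    rw [Sylow.coe_subtype, Subgroup.subgroupOf_map_subtype, inf_eq_left.2 hPM] at h1
    refine top_le_iff.1 (h1 ▸ sup_le le_sup_right (hLP.trans ?_))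
    exact sup_le le_sup_left (hPN.trans le_sup_right)
  · rw [eq_bot_iff]
    rintro x ⟨hxL, hxN⟩
    have hxM : x ∈ M := Subgroup.map_subtype_le _ hxL
    have hxP : x ∈ (P : Subgroup G) := hMN ⟨x, hxN⟩ hxM
    obtain ⟨j, hj⟩ := (IsPGroup.iff_orderOf.1 P.isPGroup') ⟨x, hxP⟩
    rw [Subgroup.orderOf_mk] at hj
    have h1 : orderOf x ∣ Nat.card L :=
      Subgroup.orderOf_mk x hxL ▸ orderOf_dvd_natCard (⟨x, hxL⟩ : L)
    rw [hj] at h1
    rcases j with _ | j
    · exact Subgroup.mem_bot.2 (orderOf_eq_one_iff.1 (by simpa using hj))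
    · exact absurd ((dvd_pow_self p j.succ_ne_zero).trans h1) hLcop

/-- Let G be a finite group, p a prime and P a Sylow p-subgroup of G with normalizer N. Then every irreducible complex character of N of degree not divisible by p is the restriction of an irreducible character of G if and only if there is a normal subgroup K of G with KN = G and K ∩ N = 1. -/
theorem result {G : Type*} [Group G] [Finite G] (p : ℕ) [Fact p.Prime] (P : Sylow p G) :
    (∀ θ : Cfsg.IrrCharacter ↥(Subgroup.normalizer ((P : Subgroup G) : Set G)), ¬ p ∣ Cfsg.charDegree (θ : ↥(Subgroup.normalizer ((P : Subgroup G) : Set G)) → ℂ) →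
        ∃ χ : Cfsg.IrrCharacter G, ∀ x : ↥(Subgroup.normalizer ((P : Subgroup G) : Set G)), (χ : G → ℂ) x = (θ : ↥(Subgroup.normalizer ((P : Subgroup G) : Set G)) → ℂ) x) ↔
      ∃ K : Subgroup G, K.Normal ∧ K ⊔ Subgroup.normalizer ((P : Subgroup G) : Set G) = ⊤ ∧ K ⊓ Subgroup.normalizer ((P : Subgroup G) : Set G) = ⊥ := by
  refine ⟨exists_complement_of_extend P, ?_⟩
  rintro ⟨K, hKn, hsup, hinf⟩ θ -
  haveI := hKn
  exact exists_extension K _ hsup hinf θ

end Cfsg.Agent.S4931
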