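import Cfsg.Statements.S4937
import Cfsg.Agent.Lib.Contrib.SupplementExtend

set_option autoImplicit false
open Cfsg

namespace Cfsg.Agent.S4937

open Cfsg.Agent.Lib Cfsg.Agent.Lib.Blocks MonoidAlgebra

attribute [local instance] Classical.propDecidable

/-- Every coset has an orbit of length prime to `p` under `N`. -/
theorem exists_orbit {G : Type*} [Group G] [Finite G] (p : ℕ) [Fact p.Prime] (N : Subgroup G)
    [N.Normal] (P : Sylow p ↥N)
    (hsup : N ⊔ Subgroup.centralizer (((P : Subgroup ↥N).map N.subtype : Subgroup G) : Set G) = ⊤)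
    (x : G ⧸ N) :
    ∃ c : G, (c : G ⧸ N) = x ∧ ∃ S : Finset G, ¬ p ∣ S.card ∧
      (∀ s ∈ S, (s : G ⧸ N) = x) ∧ ∀ (n : N), ∀ s ∈ S, (n : G) * s * (n : G)⁻¹ ∈ S := by
  obtain ⟨g, rfl⟩ := QuotientGroup.mk_surjective x
  have hg : g ∈ (↑(N ⊔ Subgroup.centralizer (((P : Subgroup ↥N).map N.subtype : Subgroup G) : Set G)) : Set G) := by
    rw [hsup]; trivial
  rw [Subgroup.normal_mul] at hg
  obtain ⟨n₀, hn₀, c, hc, rfl⟩ := hg
  refine ⟨c, ?_, ?_⟩
  · rw [QuotientGroup.mk_mul, (QuotientGroup.eq_one_iff n₀).2 hn₀, one_mul]
  haveI : Fintype N := Fintype.ofFinite _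
  refine ⟨Finset.univ.image (fun n : N => (n : G) * c * (n : G)⁻¹), ?_, ?_, ?_⟩
  · let act : MulAction N G := MulAction.compHom G ((MulAut.conj).comp N.subtype : N →* MulAut G)
    have horb : ((Finset.univ.image (fun n : N => (n : G) * c * (n : G)⁻¹)) : Set G) =
        MulAction.orbit N c := by
      rw [Finset.coe_image, Finset.coe_univ, Set.image_univ]
      rfl
    rw [← Set.ncard_coe_finset, horb, ← MulAction.index_stabilizer]
    intro hp
    refine P.not_dvd_index (hp.trans (Subgroup.index_dvd_of_le fun n hn => ?_))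
    show (n : G) * c * (n : G)⁻¹ = c
    rw [Subgroup.mem_centralizer_iff.1 hc (n : G) ⟨n, hn, rfl⟩, mul_inv_cancel_right]
  · intro s hs
    obtain ⟨n, -, rfl⟩ := Finset.mem_image.1 hs
    rw [QuotientGroup.mk_mul, QuotientGroup.mk_mul, QuotientGroup.mk_inv,
      (QuotientGroup.eq_one_iff (n : G)).2 n.2, QuotientGroup.mk_mul,
      (QuotientGroup.eq_one_iff n₀).2 hn₀, one_mul, inv_one, mul_one]
  · intro n s hs
    obtain ⟨n', -, rfl⟩ := Finset.mem_image.1 hs
    exact Finset.mem_image.2 ⟨n * n', Finset.mem_univ _, by push_cast; group⟩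

variable {M : Ideal AlgInt} [M.IsPrime]

/-- The scalar functional along an embedding. -/
theorem omega_emb {C G : Type*} [Group C] [Group G] (f : C →* G) (φ : C → ℂ) (χ : G → ℂ)
    (h : ∀ c, φ c = χ (f c)) (y : MonoidAlgebra (localRing M) C) :
    omega χ (toC M G (BrauerMap.emb f y)) = omega φ (toC M C y) := by
  induction y using MonoidAlgebra.induction_linear with
  | zero => simp
  | add a b ha hb => rw [map_add, map_add, map_add, map_add, map_add, ha, hb]
  | single c r => simp [omega_single, h]

/-- Let G be a finite group, p a prime, M a maximal ideal of the algebraic integers containing p, N a normal subgroup of G and P a Sylow p-subgroup of N such that G = N·C_G(P). Let θ be an irreducible character in the principal p-block of N that is the restriction of some irreducible character of G. Then θ is the restriction of an irreducible character χ of G lying in the principal p-block of G such that, for every subgroup J of G containing N, the restriction of χ to J is an irreducible character of J lying in the principal p-block of J. -/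
theorem result {G : Type*} [Group G] [Finite G] (p : ℕ) [Fact p.Prime] (M : Ideal Cfsg.AlgInt) (hM : Cfsg.IsPModular p M) (N : Subgroup G) [N.Normal] (P : Sylow p ↥N)
    (hcov : N ⊔ Subgroup.centralizer (((P : Subgroup ↥N).map N.subtype : Subgroup G) : Set G) = ⊤)
    (θ : Cfsg.IrrCharacter ↥N) (hθ : θ ∈ Cfsg.principalBlock M ↥N)
    (hext : ∃ ψ : Cfsg.IrrCharacter G, ∀ x : ↥N, (ψ : G → ℂ) x = (θ : ↥N → ℂ) x) :
    ∃ χ : Cfsg.IrrCharacter G, χ ∈ Cfsg.principalBlock M G ∧ (∀ x : ↥N, (χ : G → ℂ) x = (θ : ↥N → ℂ) x) ∧
      ∀ J : Subgroup G, N ≤ J → ∃ ξ : Cfsg.IrrCharacter ↥J, ξ ∈ Cfsg.principalBlock M ↥J ∧ ∀ y : ↥J, (ξ : ↥J → ℂ) y = (χ : G → ℂ) y := by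
  classical
  haveI : M.IsPrime := hM.2.1.isPrime
  haveI : Fintype G := Fintype.ofFinite _
  haveI : Fintype N := Fintype.ofFinite _
  haveI := charP_residue hM
  obtain ⟨ψ, hψ⟩ := hext
  obtain ⟨ω, hωmul, hωval⟩ := Contrib.exists_omegaFixed (M := M) ψ θ hψ
  -- on the centre of the subalgebra of `N` it is the augmentation
  have hωN : ∀ a ∈ Subalgebra.center (Residue M) (MonoidAlgebra (Residue M) N),
      ω (Contrib.Supplement.incl (Residue M) N a) = Contrib.Supplement.aug (Residue M) N a := by
    intro a ha
    let A : RCenter M N := ⟨ofFun fun n => Function.surjInv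
        (IsLocalRing.residue_surjective (R := localRing M)) (a.coeff n), by
      rw [mem_center_iff]
      intro g h
      simp only [coeff_ofFun, mem_center_iff.1 ha g h]⟩
    have hA : toF M N (A : MonoidAlgebra (localRing M) N) = a := by
      ext n
      rw [coeff_mapRingHom, coeff_ofFun]
      exact Function.surjInv_eq (IsLocalRing.residue_surjective (R := localRing M)) _
    have hfix : Contrib.Supplement.Fixed N (BrauerMap.emb N.subtype (A : MonoidAlgebra (localRing M) N)) := by
      rw [Contrib.Supplement.fixed_iff_single]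
      intro n
      have := congrArg (BrauerMap.emb N.subtype) (Subalgebra.mem_center_iff.1 A.2 (single n 1))
      rw [map_mul, map_mul, show BrauerMap.emb (M := M) N.subtype (single n 1) = single (n : G) 1 by simp] at this
      exact this.symm
    obtain ⟨v, hv, hv'⟩ := hωval _ hfix
    have hincl : toF M G (BrauerMap.emb N.subtype (A : MonoidAlgebra (localRing M) N)) =
        Contrib.Supplement.incl (Residue M) N a := by
      rw [← hA]
      generalize (A : MonoidAlgebra (localRing M) N) = y
      induction y using MonoidAlgebra.induction_linear with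
      | zero => simp
      | add a b ha hb => simp only [map_add, ha, hb]
      | single c r => simp
    rw [hincl] at hv'
    have hveq : v = omegaR M θ A := Subtype.ext (by
      rw [hv, coe_omegaR]
      exact omega_emb N.subtype _ _ (fun n => (hψ n).symm) _)
    rw [hv', hveq, ← omegaBar_apply, ← omegaBar_eq_of_sameBlock (show SameBlock M
      (Chars.trivialIrr N : N → ℂ) (θ : N → ℂ) from hθ), ← Contrib.aug_toF_eq, hA]
  -- the twist
  obtain ⟨lam, hlam⟩ := Contrib.Supplement.exists_twist (p := p) N
    (map_mem_center (residue M) (blockIdem M (Contrib.isPBlock_principal (M := M) (G := N))).2)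
    ((congrArg (toF M N) (congrArg Subtype.val (blockIdem_mul_self _))).symm.trans (map_mul _ _ _)).symm
    Contrib.aug_blockIdem Contrib.isNilpotent_principal_mul_sub (exists_orbit p N P hcov) ω hωmul hωN
  obtain ⟨L, hL⟩ := Contrib.exists_hom_lift hM
    ((lam.toHomUnits⁻¹ : G ⧸ N →* (Residue M)ˣ) |> fun f => (Units.coeHom (Residue M)).comp f)
  let χ : IrrCharacter G := ⟨_, OsimaConverse.isIrrCharacter_mul_hom (L.comp (QuotientGroup.mk' N)) ψ⟩
  have hχ : ∀ g, (χ : G → ℂ) g = (ψ : G → ℂ) g * (L (g : G ⧸ N) : ℂ) := fun g => rfl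
  have hres : ∀ x : N, (χ : G → ℂ) x = (θ : N → ℂ) x := fun x => by
    rw [hχ, (QuotientGroup.eq_one_iff (x : G)).2 x.2, map_one, Units.val_one, mul_one, hψ]
  -- the fixed elements see the augmentation
  have key : ∀ w : MonoidAlgebra (localRing M) G, Contrib.Supplement.Fixed N w →
      MemLocalIdeal M (omega (fun _ => (1 : ℂ)) (toC M G w) - omega (χ : G → ℂ) (toC M G w)) := by
    intro w hw
    choose v hv hv' using fun x : G ⧸ N => hωval _ (Contrib.Supplement.fixed_comp N hw x)
    choose l hl hl' using hL
    have h1 : omega (χ : G → ℂ) (toC M G w) = ((∑ x, l x * v x : localRing M) : ℂ) := by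
      rw [AddSubmonoidClass.coe_finsetSum]
      conv_lhs => rw [← Contrib.Supplement.sum_comp N w]
      rw [map_sum, map_sum]
      refine Finset.sum_congr rfl fun x _ => ?_
      rw [Subring.coe_mul, hl, hv, omega_eq_sum, omega_eq_sum, Finset.mul_sum]
      refine Finset.sum_congr rfl fun g _ => ?_
      rw [coeff_mapRingHom, Contrib.Supplement.coeff_comp]
      split_ifs with hg
      · rw [hχ, hχ, hg, show ((1 : G) : G ⧸ N) = 1 from rfl, map_one, Units.val_one, mul_one]
        ring
      · simp
    have h2 : omega (fun _ => (1 : ℂ)) (toC M G w) = ((∑ g, w.coeff g : localRing M) : ℂ) := by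
      rw [AddSubmonoidClass.coe_finsetSum, omega_eq_sum]
      simp
    rw [h1, h2]
    refine residue_eq_iff.1 ?_
    rw [map_sum, map_sum]
    simp only [map_mul, hl', ← hv']
    have h3 : ∀ x, ω (toF M G (Contrib.Supplement.comp N x w)) =
        lam x * ∑ g : G, (if (g : G ⧸ N) = x then residue M (w.coeff g) else 0) := by
      intro x
      rw [hlam _ (fun n g => by
        simp only [coeff_mapRingHom, Contrib.Supplement.fixed_comp N hw x n g]),
        Finset.sum_eq_single x]
      · congr 1
        rw [show Contrib.Supplement.comp N x (toF M G (Contrib.Supplement.comp N x w)) =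
            Contrib.Supplement.comp N x (toF M G w) by
          ext g
          simp only [Contrib.Supplement.coeff_comp, coeff_mapRingHom]
          split_ifs <;> rfl]
        simp only [Contrib.Supplement.comp, map_sum, Contrib.Supplement.aug_single,
          Finset.sum_filter, coeff_mapRingHom]
        exact Finset.sum_congr rfl fun g _ => by split_ifs <;> simp
      · intro y _ hy
        have : Contrib.Supplement.comp N y (toF M G (Contrib.Supplement.comp N x w)) = 0 := by
          ext g
          simp only [Contrib.Supplement.coeff_comp, coeff_mapRingHom]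
          split_ifs with h h'
          · exact absurd (h.symm.trans h') hy
          · simp
          · simp
        rw [this, map_zero, mul_zero]
      · exact fun h => absurd (Finset.mem_univ x) h
    simp only [h3]
    have h4 : ∀ x : G ⧸ N, (((lam.toHomUnits x)⁻¹ : (Residue M)ˣ) : Residue M) * lam x = 1 :=
      fun x => Units.inv_mul (lam.toHomUnits x)
    refine Eq.trans ?_ (Finset.sum_congr rfl fun x _ => ((mul_assoc _ _ _).symm.trans
      ((congrArg (· * _) (h4 x)).trans (one_mul _))).symm)
    rw [Finset.sum_comm]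
    exact Finset.sum_congr rfl fun g _ => by simp
  refine ⟨χ, fun g => ?_, hres, fun J hNJ => ?_⟩
  · have := key (classSum (localRing M) g) (fun n x => mem_center_iff.1 (classSum_mem_center g) x n)
    rwa [map_classSum, omega_classSum (Chars.irr_isClassFunction χ),
      omega_classSum (fun _ _ => rfl)] at this
  · obtain ⟨n, ρ, hρ, hρχ⟩ := χ.2
    obtain ⟨m, τ, hτ, hτθ⟩ := θ.2
    haveI : Representation.IsIrreducible ((ρ.comp J.subtype).comp (Subgroup.inclusion hNJ) : Representation ℂ N (Fin n → ℂ)) := by
      obtain ⟨e⟩ := CharExt.nonempty_equiv_of_char_eq τ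
        ((ρ.comp J.subtype).comp (Subgroup.inclusion hNJ)) (funext fun x => by
          rw [hτθ, ← hres x, ← hρχ]
          rfl)
      exact Chars.isIrreducible_of_equiv e
    haveI := Clifford.isIrreducible_of_comp (ρ.comp J.subtype) (Subgroup.inclusion hNJ)
    let ξ : IrrCharacter J := Chars.toIrr (ρ.comp J.subtype)
    have hξ : ∀ y : J, (ξ : J → ℂ) y = (χ : G → ℂ) y := fun y => by
      rw [← hρχ]; rfl
    refine ⟨ξ, fun g => ?_, hξ⟩
    have hfix : Contrib.Supplement.Fixed N (BrauerMap.emb J.subtype (classSum (localRing M) g)) := by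
      rw [Contrib.Supplement.fixed_iff_single]
      intro n
      have := congrArg (BrauerMap.emb J.subtype) (Subalgebra.mem_center_iff.1
        (classSum_mem_center (k := localRing M) g) (single ⟨(n : G), hNJ n.2⟩ 1))
      rw [map_mul, map_mul, show BrauerMap.emb (M := M) J.subtype
        (single (⟨(n : G), hNJ n.2⟩ : J) 1) = single (n : G) 1 by simp] at this
      exact this.symm
    have := key _ hfix
    rwa [omega_emb J.subtype (fun _ => (1 : ℂ)) _ (fun _ => rfl), omega_emb J.subtype _ _ hξ,
      map_classSum, omega_classSum (Chars.irr_isClassFunction ξ),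
      omega_classSum (fun _ _ => rfl)] at this

end Cfsg.Agent.S4937
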