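import Cfsg.Statements.S4955
import Cfsg.Agent.Lib.KGV.Basic
-- import your own Cfsg.Agent.* helpers here

set_option autoImplicit false
open Cfsg

namespace Cfsg.Agent.S4955

/-- Elements of the centraliser of an element of the abelian normal subgroup. -/
theorem card_centralizer_eq {X : Type*} [Group X] (V : Subgroup X)
    (hab : ∀ a ∈ V, ∀ b ∈ V, a * b = b * a) (G : Subgroup X) (hGV : Subgroup.IsComplement' V G)
    (v : X) (hv : v ∈ V) :
    Nat.card (Subgroup.centralizer ({v} : Set X))
      = Nat.card ↥(G ⊓ Subgroup.centralizer ({v} : Set X)) * Nat.card V := by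
  rw [mul_comm, ← Nat.card_prod]
  let f : V × ↥(G ⊓ Subgroup.centralizer ({v} : Set X)) → Subgroup.centralizer ({v} : Set X) :=
    fun p => ⟨(p.1 : X) * (p.2 : X), Subgroup.mul_mem _
      (Subgroup.mem_centralizer_singleton_iff.mpr (hab _ p.1.2 v hv)) p.2.2.2⟩
  refine (Nat.card_congr (Equiv.ofBijective f ⟨fun p q h => ?_, fun c => ?_⟩)).symm
  · have h' : (p.1 : X) * (p.2 : X) = (q.1 : X) * (q.2 : X) := congrArg Subtype.val h
    have := hGV.1 (a₁ := (p.1, ⟨p.2, p.2.2.1⟩)) (a₂ := (q.1, ⟨q.2, q.2.2.1⟩)) h'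
    simp only [Prod.mk.injEq, Subtype.mk.injEq] at this
    exact Prod.ext this.1 (Subtype.ext this.2)
  · obtain ⟨⟨a, g⟩, h⟩ := hGV.2 (c : X)
    have ha : (a : X) ∈ Subgroup.centralizer ({v} : Set X) :=
      Subgroup.mem_centralizer_singleton_iff.mpr (hab _ a.2 v hv)
    have hg : (g : X) ∈ Subgroup.centralizer ({v} : Set X) := by
      rw [show (g : X) = (a : X)⁻¹ * c by rw [← h]; group]
      exact Subgroup.mul_mem _ (Subgroup.inv_mem _ ha) c.2
    exact ⟨(a, ⟨g, g.2, hg⟩), Subtype.ext h⟩

/-- Let X be a finite group with an abelian normal Sylow p-subgroup V (a normal p-subgroup of index prime to p in which any two elements commute), and let G be a complement to V in X. Then for every v in V, writing C for the centralizer of v in G, the number k(X) of conjugacy classes of X satisfies k(X) ≤ (order of C)·(order of V) − ((order of G) − k(G)); the statement is written with the subtracted term moved to the left. In particular, if some v in V is centralized by no nonidentity element of G, then k(X) is at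 most the order of V. -/
theorem result {X : Type*} [Group X] [Finite X] (p : ℕ) [Fact p.Prime] (V : Subgroup X) [V.Normal] (hVp : IsPGroup p V) (hidx : ¬ p ∣ V.index) (hab : ∀ a ∈ V, ∀ b ∈ V, a * b = b * a) (G : Subgroup X) (hGV : Subgroup.IsComplement' V G) (v : X) (hv : v ∈ V) : Nat.card (ConjClasses X) + Nat.card G ≤ Nat.card ↥(G ⊓ Subgroup.centralizer ({v} : Set X)) * Nat.card V + Nat.card (ConjClasses G) := by
  classical
  let := Fintype.ofFinite X
  let := Fintype.ofFinite G
  have hc := card_centralizer_eq V hab G hGV v hv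
  obtain ⟨a, ha⟩ : ∃ a : ℕ, v ^ p ^ a = 1 := by
    obtain ⟨a, ha⟩ := hVp ⟨v, hv⟩
    exact ⟨a, congrArg Subtype.val ha⟩
  let S : Finset X := Finset.univ.filter fun x => ∃ k : ℕ, k.Coprime (Nat.card X) ∧ v ^ k = x
  have hvS : v ∈ S := by
    simp only [S, Finset.mem_filter, Finset.mem_univ, true_and]
    exact ⟨1, Nat.coprime_one_left _, pow_one v⟩
  have hSclosed : ∀ l : ℕ, l.Coprime (Nat.card X) → ∀ x ∈ S, x ^ l ∈ S := by
    intro l hl x hx
    simp only [S, Finset.mem_filter, Finset.mem_univ, true_and] at hx ⊢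
    obtain ⟨k, hk, rfl⟩ := hx
    exact ⟨k * l, hk.mul_left hl, pow_mul v k l⟩
  have hScent : ∀ x ∈ S, Nat.card (Subgroup.centralizer ({x} : Set X))
      = Nat.card (Subgroup.centralizer ({v} : Set X)) := by
    intro x hx
    simp only [S, Finset.mem_filter, Finset.mem_univ, true_and] at hx
    obtain ⟨k, hk, rfl⟩ := hx
    rw [Cfsg.Agent.Lib.KGV.centralizer_pow_of_coprime hk]
  have hSV : ∀ x ∈ S, x ∈ V ∧ x ^ p ^ a = 1 := by
    intro x hx
    simp only [S, Finset.mem_filter, Finset.mem_univ, true_and] at hx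
    obtain ⟨k, hk, rfl⟩ := hx
    exact ⟨V.pow_mem hv k, by rw [← pow_mul, mul_comm, pow_mul, ha, one_pow]⟩
  -- inflation from the complement
  let e : G ≃* X ⧸ V := hGV.symm.QuotientMulEquiv.symm
  let π : X →* G := e.symm.toMonoidHom.comp (QuotientGroup.mk' V)
  have hπV : ∀ x ∈ V, π x = 1 := fun x hx => by
    simp [π, (QuotientGroup.eq_one_iff x).mpr hx]
  have hπs : Function.Surjective π :=
    e.symm.surjective.comp (QuotientGroup.mk'_surjective V)
  let inf : Cfsg.IrrCharacter G → Cfsg.IrrCharacter X := fun θ =>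
    ⟨fun x => (θ : G → ℂ) (π x), by
      obtain ⟨n, ρ, hρ, h⟩ := θ.2
      refine ⟨n, ρ.comp π, ?_, ?_⟩
      · have := hρ
        let F : Subrepresentation (ρ.comp π) ≃o Subrepresentation ρ :=
          { toFun := fun T => ⟨T.toSubmodule, fun g w hw => by
              obtain ⟨x, rfl⟩ := hπs g
              exact T.apply_mem_toSubmodule x hw⟩
            invFun := fun T => ⟨T.toSubmodule, fun x w hw => T.apply_mem_toSubmodule (π x) hw⟩
            left_inv := fun T => rfl
            right_inv := fun T => rfl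
            map_rel_iff' := Iff.rfl }
        exact F.isSimpleOrder
      · rw [← h]; rfl⟩
  have hinf : Function.Injective inf := fun θ θ' h => Subtype.ext (funext fun g => by
    obtain ⟨x, rfl⟩ := hπs g
    exact congrFun (congrArg Subtype.val h) x)
  let J : Finset (Cfsg.IrrCharacter X) := Finset.univ.image inf
  have key : ∀ χ : Cfsg.IrrCharacter X,
      (S.card : ℝ) * (if χ ∈ J then Complex.normSq ((χ : X → ℂ) 1) else 1)
        ≤ ∑ x ∈ S, Complex.normSq ((χ : X → ℂ) x) := by
    intro χ
    split_ifs with h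
    · obtain ⟨θ, -, rfl⟩ := Finset.mem_image.mp h
      rw [Finset.sum_congr rfl fun x hx => by
        show Complex.normSq (((inf θ : Cfsg.IrrCharacter X) : X → ℂ) x)
          = Complex.normSq (((inf θ : Cfsg.IrrCharacter X) : X → ℂ) 1)
        simp [inf, hπV x (hSV x hx).1], Finset.sum_const, nsmul_eq_mul]
    · obtain ⟨d, -, hd, hdvd⟩ := Cfsg.Agent.Lib.KGV.exists_degree_dvd_index V hab χ
      have hne : ∀ x ∈ S, (χ : X → ℂ) x ≠ 0 := fun x hx =>
        Cfsg.Agent.Lib.KGV.char_ne_zero_of_pow_prime_pow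
          (Cfsg.Agent.Lib.Chars.irr_isCharacter χ) Fact.out hd
          (fun hp => hidx (hp.trans hdvd)) (hSV x hx).2
      have := Cfsg.Agent.Lib.GaloisPos.card_ne_zero_le_sum_normSq
        (Cfsg.Agent.Lib.Chars.irr_isCharacter χ) S hSclosed
      rwa [Finset.filter_true_of_mem hne, ← mul_one (S.card : ℝ)] at this
  have h1 := Finset.sum_le_sum (s := Finset.univ) fun χ _ => key χ
  rw [← Finset.mul_sum, Finset.sum_comm (s := Finset.univ) (t := S),
    Finset.sum_congr rfl (fun x hx => (Cfsg.Agent.Lib.KGV.sum_normSq_eq_card_centralizer x).trans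
      (congrArg (Nat.cast (R := ℝ)) (hScent x hx))), Finset.sum_const, nsmul_eq_mul,
    mul_le_mul_iff_of_pos_left (by exact_mod_cast Finset.card_pos.mpr ⟨v, hvS⟩),
    Finset.sum_ite, Finset.sum_const, nsmul_eq_mul, mul_one, Finset.filter_univ_mem] at h1
  have h2 : ∑ χ ∈ J, Complex.normSq ((χ : X → ℂ) 1) = (Nat.card G : ℝ) := by
    rw [Finset.sum_image hinf.injOn]
    have h := Cfsg.Agent.Lib.KGV.sum_normSq_eq_card_centralizer (1 : G)
    have h' : Subgroup.centralizer ({1} : Set G) = ⊤ := by
      ext g; simp [Subgroup.mem_centralizer_singleton_iff]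
    rw [h', Subgroup.card_top] at h
    rw [← h]
    simp [inf]
  have h3 : (Finset.univ.filter fun χ => χ ∉ J).card + Nat.card (ConjClasses G)
      = Nat.card (ConjClasses X) := by
    have : J.card = Nat.card (ConjClasses G) := by
      rw [Finset.card_image_of_injective _ hinf, Finset.card_univ, ← Nat.card_eq_fintype_card,
        Cfsg.Agent.Lib.Chars.card_irrCharacter]
    rw [← this, Finset.filter_not, Finset.filter_univ_mem, ← Finset.compl_eq_univ_sdiff,
      Finset.card_compl_add_card, ← Nat.card_eq_fintype_card,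
      Cfsg.Agent.Lib.Chars.card_irrCharacter]
  rw [h2, hc] at h1
  have h1' : Nat.card G + (Finset.univ.filter fun χ => χ ∉ J).card
      ≤ Nat.card ↥(G ⊓ Subgroup.centralizer ({v} : Set X)) * Nat.card V := by exact_mod_cast h1
  omega

end Cfsg.Agent.S4955
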