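import Cfsg.Statements.S4956
import Mathlib
-- import your own Cfsg.Agent.* helpers here

set_option autoImplicit false
open Cfsg

namespace Cfsg.Agent.S4956

theorem pow_card_mem {X : Type*} [Group X] {H : Subgroup X} {x : X} (hx : x ∈ H) :
    x ^ Nat.card H = 1 := congrArg Subtype.val (pow_card_eq_one' (x := (⟨x, hx⟩ : H)))

/-- An element `v * h` with `h` in a coprime complement and `(v * h) ^ m = 1` is conjugate to `h`
by an element of the abelian normal subgroup. -/
theorem exists_conj_eq {X : Type*} [Group X] [Finite X] (V : Subgroup X) [V.Normal]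
    (hab : ∀ a ∈ V, ∀ b ∈ V, a * b = b * a) (m : ℕ) (hcop : (Nat.card V).Coprime m)
    (v h : X) (hv : v ∈ V) (hh : h ^ m = 1) (hb : (v * h) ^ m = 1) :
    ∃ u ∈ V, u * (v * h) * u⁻¹ = h := by
  let : CommGroup ↥V :=
    { (inferInstance : Group ↥V) with mul_comm := fun a b => Subtype.ext (hab a a.2 b b.2) }
  let θ : MulAut ↥V := MulAut.conjNormal h
  have hθ : ∀ w : ↥V, ((θ w : ↥V) : X) = h * w * h⁻¹ := fun w => MulAut.conjNormal_apply h w
  let c : ℕ → ↥V := fun j => Nat.rec (motive := fun _ => ↥V) 1 (fun _ w => ⟨v, hv⟩ * θ w) j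
  have hc : ∀ j : ℕ, (v * h) ^ j = (Subtype.val (c j)) * h ^ j := by
    intro j
    induction j with
    | zero => simp [c]
    | succ j ih =>
      rw [pow_succ' (v * h), ih, show c (j + 1) = ⟨v, hv⟩ * θ (c j) from rfl, Subgroup.coe_mul, hθ,
        pow_succ' h]
      group
  have hcm : c m = 1 := Subtype.ext (by simpa [hh, hb] using (hc m).symm)
  let U : ↥V := ∏ j ∈ Finset.range m, c j
  have hU : θ U = (⟨v, hv⟩ : ↥V)⁻¹ ^ m * U := by
    have h1 : ∏ j ∈ Finset.range m, c (j + 1) = U := by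
      have e1 := Finset.prod_range_succ' c m
      rw [show c 0 = 1 from rfl, mul_one] at e1
      rw [← e1, Finset.prod_range_succ, hcm, mul_one]
    have h2 : ∀ j, θ (c j) = (⟨v, hv⟩ : ↥V)⁻¹ * c (j + 1) := fun j => by
      rw [show c (j + 1) = ⟨v, hv⟩ * θ (c j) from rfl, inv_mul_cancel_left]
    rw [map_prod, Finset.prod_congr rfl fun j _ => h2 j, Finset.prod_mul_distrib, h1,
      Finset.prod_const, Finset.card_range]
  obtain ⟨k, hk⟩ : ∃ k : ℤ, ∀ w : ↥V, w ^ ((m : ℤ) * k) = w := by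
    refine ⟨(Nat.card ↥V).gcdB m, fun w => ?_⟩
    have hg := Nat.gcd_eq_gcd_ab (Nat.card ↥V) m
    rw [hcop.gcd_eq_one] at hg
    calc w ^ ((m : ℤ) * (Nat.card ↥V).gcdB m)
        = (w ^ Nat.card ↥V) ^ ((Nat.card ↥V).gcdA m) * w ^ ((m : ℤ) * (Nat.card ↥V).gcdB m) := by
          rw [pow_card_eq_one', one_zpow, one_mul]
      _ = w := by rw [← zpow_natCast, ← zpow_mul, ← zpow_add, ← hg]; simp
  have key : U ^ (-k) * ⟨v, hv⟩ * θ (U ^ (-k))⁻¹ = 1 := by
    rw [map_inv, map_zpow, hU, mul_zpow, inv_pow, inv_zpow', neg_neg, ← zpow_natCast,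
      ← zpow_mul, hk, mul_comm (U ^ (-k))]
    exact mul_inv_cancel _
  refine ⟨(U ^ (-k) : ↥V), (U ^ (-k) : ↥V).2, ?_⟩
  have := congrArg Subtype.val key
  simp only [Subgroup.coe_mul, hθ, Subgroup.coe_inv, Subgroup.coe_one] at this
  calc ((U ^ (-k) : ↥V) : X) * (v * h) * ((U ^ (-k) : ↥V) : X)⁻¹
      = ((U ^ (-k) : ↥V) : X) * v * (h * ((U ^ (-k) : ↥V) : X)⁻¹ * h⁻¹) * h := by group
    _ = h := by rw [this, one_mul]

/-- Let X be a finite group, V an abelian normal subgroup of X (any two elements of V commute) and G a complement to V in X whose order is coprime to that of V. Let S be a set of representatives of the orbits of G on V under conjugation: S lies in V and every element of V is conjugate under G to exactly one member of S. Then the number of conjugacy classes of X equals the sum, over s in S, of the number of conjugacy classes of the centralizer of s in G. -/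
theorem result {X : Type*} [Group X] [Finite X] (V : Subgroup X) [V.Normal] (hab : ∀ a ∈ V, ∀ b ∈ V, a * b = b * a) (G : Subgroup X) (hGV : Subgroup.IsComplement' V G) (hcop : (Nat.card V).Coprime (Nat.card G)) (S : Finset X) (hSV : ∀ s ∈ S, s ∈ V) (hrep : ∀ v ∈ V, ∃! s, s ∈ S ∧ ∃ g ∈ G, g * v * g⁻¹ = s) : Nat.card (ConjClasses X) = ∑ s ∈ S, Nat.card (ConjClasses ↥(G ⊓ Subgroup.centralizer ({s} : Set X))) := by
  classical
  obtain ⟨n, hn⟩ : ∃ n, n = Nat.card V := ⟨_, rfl⟩
  obtain ⟨m, hm⟩ : ∃ m, m = Nat.card G := ⟨_, rfl⟩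
  have hg : (1 : ℤ) = n * n.gcdA m + m * n.gcdB m := by
    have := Nat.gcd_eq_gcd_ab n m
    rw [hn, hm, hcop.gcd_eq_one] at this
    rw [hn, hm]; exact_mod_cast this
  let e : ℤ := m * n.gcdB m
  have hVn : ∀ x ∈ V, x ^ e = x := by
    intro x hx
    have h1 : x ^ n = 1 := hn ▸ pow_card_mem hx
    calc x ^ e = (x ^ n) ^ (n.gcdA m) * x ^ e := by rw [h1, one_zpow, one_mul]
      _ = x := by rw [← zpow_natCast, ← zpow_mul, ← zpow_add, ← hg, zpow_one]
  have hGm : ∀ x ∈ G, x ^ e = 1 := by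
    intro x hx
    have h1 : x ^ m = 1 := hm ▸ pow_card_mem hx
    rw [zpow_mul, zpow_natCast, h1, one_zpow]
  have hsplit : ∀ x : X, ∃ v ∈ V, ∃ g ∈ G, x = v * g := by
    intro x
    obtain ⟨⟨v, g⟩, h⟩ := hGV.2 x
    exact ⟨v, v.2, g, g.2, h.symm⟩
  have hdisj : ∀ x, x ∈ V → x ∈ G → x = 1 := fun x hx hx' =>
    Subgroup.disjoint_def.mp hGV.disjoint hx hx'
  let f : (Σ s : S, ConjClasses ↥(G ⊓ Subgroup.centralizer ({(s : X)} : Set X))) → ConjClasses X :=
    fun p => Quotient.liftOn p.2 (fun h => ConjClasses.mk ((p.1 : X) * (h : X))) (by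
      intro a b hab'
      obtain ⟨c, hc⟩ := isConj_iff.mp hab'
      refine ConjClasses.mk_eq_mk_iff_isConj.mpr (isConj_iff.mpr ⟨(c : X), ?_⟩)
      have hcs : (c : X) * (p.1 : X) = (p.1 : X) * c :=
        Subgroup.mem_centralizer_singleton_iff.mp c.2.2
      rw [← hc]
      simp only [Subgroup.coe_mul, Subgroup.coe_inv]
      calc (c : X) * ((p.1 : X) * a) * (c : X)⁻¹ = (c * (p.1 : X)) * a * (c : X)⁻¹ := by group
        _ = (p.1 : X) * (c * a * (c : X)⁻¹) := by rw [hcs]; group)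
  have hinj : Function.Injective f := by
    rintro ⟨⟨s, hs⟩, a⟩ ⟨⟨s', hs'⟩, b⟩ h
    induction a using Quotient.inductionOn with | _ a => ?_
    induction b using Quotient.inductionOn with | _ b => ?_
    obtain ⟨x, hx⟩ := isConj_iff.mp (ConjClasses.mk_eq_mk_iff_isConj.mp h)
    have hsa : Commute s (a : X) :=
      (Subgroup.mem_centralizer_singleton_iff.mp a.2.2).symm
    have hsb : Commute s' (b : X) :=
      (Subgroup.mem_centralizer_singleton_iff.mp b.2.2).symm
    have e1 : x * s * x⁻¹ = s' := by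
      have := congrArg (· ^ e) hx
      simp only at this
      rw [conj_zpow, hsa.mul_zpow, hsb.mul_zpow, hVn s (hSV s hs), hVn s' (hSV s' hs'),
        hGm _ a.2.1, hGm _ b.2.1, mul_one, mul_one] at this
      exact this
    have e2 : x * (a : X) * x⁻¹ = b := by
      simp only at hx
      rw [show x * (a : X) * x⁻¹ = (x * s * x⁻¹)⁻¹ * (x * (s * a) * x⁻¹) by group, e1, hx]
      group
    obtain ⟨v, hv, g, hgG, rfl⟩ := hsplit x
    have hgs : g * s * g⁻¹ = s' := by
      rw [← e1]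
      have hc := hab v hv (g * s * g⁻¹) (Subgroup.Normal.conj_mem inferInstance s (hSV s hs) g)
      calc g * s * g⁻¹ = (v * (g * s * g⁻¹)) * v⁻¹ := by rw [hc]; group
        _ = v * g * s * (v * g)⁻¹ := by group
    have hss : s' = s := (hrep s (hSV s hs)).unique ⟨hs', g, hgG, hgs⟩ ⟨hs, 1, G.one_mem, by group⟩
    subst hss
    have hga : g * (a : X) * g⁻¹ = b := by
      have hk : g * (a : X) * g⁻¹ ∈ G := G.mul_mem (G.mul_mem hgG a.2.1) (G.inv_mem hgG)
      have hmem : (g * (a : X) * g⁻¹)⁻¹ * (b : X) ∈ V := by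
        rw [← e2, show (g * (a : X) * g⁻¹)⁻¹ * (v * g * a * (v * g)⁻¹) =
          ((g * (a : X) * g⁻¹)⁻¹ * v * (g * (a : X) * g⁻¹)⁻¹⁻¹) * v⁻¹ by group]
        exact V.mul_mem (Subgroup.Normal.conj_mem inferInstance v hv _) (V.inv_mem hv)
      exact inv_mul_eq_one.mp (hdisj _ hmem (G.mul_mem (G.inv_mem hk) b.2.1))
    have hgC : g ∈ G ⊓ Subgroup.centralizer ({s'} : Set X) :=
      ⟨hgG, Subgroup.mem_centralizer_singleton_iff.mpr (mul_inv_eq_iff_eq_mul.mp hgs)⟩
    refine Sigma.ext rfl (heq_of_eq ?_)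
    exact ConjClasses.mk_eq_mk_iff_isConj.mpr (isConj_iff.mpr ⟨⟨g, hgC⟩, Subtype.ext hga⟩)
  have hsurj : Function.Surjective f := by
    intro C
    induction C using Quotient.inductionOn with | _ x => ?_
    have hxn : (x ^ e) ^ n = 1 := by
      rw [← zpow_natCast, ← zpow_mul, show (e : ℤ) * n = ((m * n : ℕ) : ℤ) * n.gcdB m by
        push_cast [e]; ring, zpow_mul, zpow_natCast]
      have : m * n = Nat.card X := by rw [hm, hn, mul_comm, hGV.card_mul_card]
      rw [this, pow_card_eq_one', one_zpow]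
    have haV : x ^ e ∈ V := by
      obtain ⟨v, hv, g, hgG, hxe⟩ := hsplit (x ^ e)
      have h1 : ((g : X) : X ⧸ V) ^ n = 1 := by
        have : ((x ^ e : X) : X ⧸ V) = (g : X ⧸ V) := by
          rw [hxe, QuotientGroup.mk_mul, (QuotientGroup.eq_one_iff v).mpr hv, one_mul]
        rw [← this, ← QuotientGroup.mk_pow, hxn, QuotientGroup.mk_one]
      have h2 : g ^ n = 1 := hdisj _ ((QuotientGroup.eq_one_iff _).mp
        (by rw [QuotientGroup.mk_pow]; exact h1)) (G.pow_mem hgG n)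
      have h3 : g ^ m = 1 := hm ▸ pow_card_mem hgG
      have : g = 1 := by
        have h4 := pow_gcd_eq_one.mpr ⟨h2, h3⟩
        rwa [hn, hm, hcop.gcd_eq_one, pow_one] at h4
      rw [hxe, this, mul_one]; exact hv
    obtain ⟨s, ⟨hs, g, hgG, hgs⟩, -⟩ := hrep _ haV
    let y := g * x * g⁻¹
    have hy : y ^ e = s := by simp only [y]; rw [conj_zpow]; exact hgs
    let b := y ^ (1 - e)
    have hbm : b ^ m = 1 := by
      simp only [b]
      rw [← zpow_natCast, ← zpow_mul, show (1 - e) * (m : ℤ) = ((n * m : ℕ) : ℤ) * n.gcdA m by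
        rw [show 1 - e = (n : ℤ) * n.gcdA m by simp only [e]; linarith]; push_cast; ring,
        zpow_mul, zpow_natCast]
      have : n * m = Nat.card X := by rw [hm, hn, hGV.card_mul_card]
      rw [this, pow_card_eq_one', one_zpow]
    have hbs : Commute s b := by rw [← hy]; exact Commute.zpow_zpow_self _ _ _
    have hsb : y = s * b := by rw [← hy]; simp only [b]; rw [← zpow_add]; simp
    obtain ⟨v, hv, h, hhG, hbv⟩ := hsplit b
    obtain ⟨u, hu, huc⟩ := exists_conj_eq V hab m (hm ▸ hcop) v h hv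
      (hm ▸ pow_card_mem hhG) (hbv ▸ hbm)
    have hus : Commute u s := hab u hu s (hSV s hs)
    have hhs : Commute s h := by
      rw [← huc, ← hbv]
      exact ((hus.symm.mul_right hbs).mul_right hus.symm.inv_right)
    refine ⟨⟨⟨s, hs⟩, ConjClasses.mk ⟨h, hhG, Subgroup.mem_centralizer_singleton_iff.mpr hhs.eq.symm⟩⟩,
      ConjClasses.mk_eq_mk_iff_isConj.mpr (IsConj.symm ?_)⟩
    refine isConj_iff.mpr ⟨u * g, ?_⟩
    calc u * g * x * (u * g)⁻¹ = u * (s * b) * u⁻¹ := by rw [← hsb]; simp only [y]; group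
      _ = (u * s) * b * u⁻¹ := by group
      _ = s * (u * b * u⁻¹) := by rw [hus.eq]; group
      _ = s * h := by rw [hbv, huc]
  rw [← Nat.card_congr (Equiv.ofBijective f ⟨hinj, hsurj⟩), Nat.card_sigma, Finset.sum_coe_sort S
    (fun s => Nat.card (ConjClasses ↥(G ⊓ Subgroup.centralizer ({s} : Set X))))]

end Cfsg.Agent.S4956
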