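import Cfsg.Statements.S4957
import Cfsg.Agent.Lib.TransKGV94.Bridge
import Cfsg.Agent.Lib.TransKGV94.Classes
import Cfsg.Agent.Lib.TransKGV94.Semi
import Cfsg.Agent.Lib.TransKGV94.DimTwo
import Cfsg.Agent.Lib.TransKGV94.ThreeFour
import Cfsg.Agent.Lib.TransKGV94.Lift
import Cfsg.Agent.Lib.TransKGV94.Classify
import Cfsg.Agent.Lib.SolvLinear.Two
import Cfsg.Agent.S0205
-- import your own Cfsg.Agent.* helpers here

set_option autoImplicit false
open Cfsg

namespace Cfsg.Agent.S4957

/-- An action on a group of prime exponent is linear. -/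
theorem exists_linear {W : Type*} [CommGroup W] {p : ℕ} [Fact p.Prime] (hexp : ∀ w : W, w ^ p = 1)
    {H : Type*} [Group H] (f : H →* MulAut W) :
    ∃ (_ : Module (ZMod p) (Additive W)) (ρ : H →* (Additive W ≃ₗ[ZMod p] Additive W)),
      ∀ (h : H) (a : Additive W), (ρ h a).toMul = f h a.toMul := by
  letI : Module (ZMod p) (Additive W) :=
    AddCommGroup.zmodModule (n := p) fun a => Additive.toMul.injective (by simpa using hexp a.toMul)
  let φ : H → (Additive W →+ Additive W) := fun h => MonoidHom.toAdditive (f h).toMonoidHom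
  let e : H → (Additive W ≃ₗ[ZMod p] Additive W) := fun h =>
        { toFun := fun a => φ h a
          map_add' := fun a b => map_add (φ h) a b
          map_smul' := fun c a => ZMod.map_smul (φ h) c a
          invFun := fun a => Additive.ofMul ((f h).symm a.toMul)
          left_inv := fun a => Additive.toMul.injective ((f h).symm_apply_apply a.toMul)
          right_inv := fun a => Additive.toMul.injective ((f h).apply_symm_apply a.toMul) }
  suffices hmul : ∀ g h : H, e (g * h) = (e h).trans (e g) by
    let ρ : H →* (Additive W ≃ₗ[ZMod p] Additive W) := MonoidHom.mk' e hmul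
    exact ⟨_, ρ, fun h a => rfl⟩
  intro g h
  refine LinearEquiv.ext fun a => Additive.toMul.injective ?_
  show f (g * h) a.toMul = f g (f h a.toMul)
  rw [map_mul]
  rfl

/-- Let X be a finite group and V a normal subgroup of X in which every element has order dividing the prime p, whose index in X is prime to p and which is its own centralizer in X; so V is an elementary abelian normal Sylow p-subgroup, and any complement G to V in X is a group of order prime to p acting faithfully on the vector space V by conjugation (the coprime linear setting of the k(GV) problem). Suppose a complement G to V in X is transitive by conjugation on the nonidentity elements of V. Then X has at most (order of V) conjugacy classes, and if equality holds then G is cyclic (hence, being transitive, a Singer cycle), or V has order 8 and G has order 21 (the nonabelian group of order 21 inside the simple group of order 168), or V has order 9 and G has order 16 (a semidihedral Sylow 2-subgroup of the 2-dimensional general linear group over the field with 3 elements). -/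
theorem result {X : Type*} [Group X] [Finite X] (p : ℕ) [Fact p.Prime] (V : Subgroup X) [V.Normal] (hVexp : ∀ v ∈ V, v ^ p = 1) (hidx : ¬ p ∣ V.index) (hself : Subgroup.centralizer (V : Set X) = V) (G : Subgroup X) (hGV : Subgroup.IsComplement' V G) (htrans : ∀ v ∈ V, ∀ w ∈ V, v ≠ 1 → w ≠ 1 → ∃ g ∈ G, g * v * g⁻¹ = w) : Nat.card (ConjClasses X) ≤ Nat.card V ∧ (Nat.card (ConjClasses X) = Nat.card V → (IsCyclic G ∨ (Nat.card V = 8 ∧ Nat.card G = 21) ∨ (Nat.card V = 9 ∧ Nat.card G = 16))) := by
  have hA := Cfsg.Agent.Lib.TransKGV94.classes p V hVexp hidx hself G hGV htrans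
  by_cases hV : V = ⊥
  · subst hV
    have htop : (⊤ : Subgroup X) = ⊥ := hself ▸ (eq_top_iff.2 fun x _ =>
      Subgroup.mem_centralizer_iff.2 fun y hy => by
        rw [Subgroup.mem_bot.1 hy, one_mul, mul_one]).symm
    haveI : Subsingleton X := subsingleton_of_forall_eq 1 fun x => Subgroup.mem_bot.1 (htop ▸ Subgroup.mem_top x)
    haveI : Subsingleton (ConjClasses X) := Quotient.mk_surjective.subsingleton
    refine ⟨?_, fun _ => Or.inl inferInstance⟩
    rw [Nat.card_of_subsingleton (ConjClasses.mk (1 : X)), Subgroup.card_bot]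
  haveI : Nontrivial V := (Subgroup.nontrivial_iff_ne_bot V).2 hV
  have hab : ∀ a ∈ V, ∀ b ∈ V, a * b = b * a := fun a ha b hb =>
    (Subgroup.mem_centralizer_iff.1 (hself.symm ▸ ha) b hb).symm
  letI : CommGroup ↥V :=
    { (inferInstance : Group ↥V) with mul_comm := fun a b => Subtype.ext (hab a a.2 b b.2) }
  obtain ⟨inst, ρ, hρ0⟩ := exists_linear (W := ↥V) (p := p) (fun w => Subtype.ext (hVexp w w.2))
    ((MulAut.conjNormal : X →* MulAut ↥V).comp G.subtype)
  letI := inst
  have hρa : ∀ (g : G) (a : Additive ↥V), ((ρ g a).toMul : X) = g * (a.toMul : X) * (g : X)⁻¹ :=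
    fun g a => by rw [hρ0]; exact MulAut.conjNormal_apply _ _
  have hρ : Function.Injective ρ := by
    rw [injective_iff_map_eq_one]
    intro g hg
    have hgV : (g : X) ∈ V := by
      rw [← hself]
      refine Subgroup.mem_centralizer_iff.2 fun w hw => ?_
      have h := hρa g (Additive.ofMul ⟨w, hw⟩)
      rw [hg] at h
      have h' : w = g * w * (g : X)⁻¹ := h
      calc w * g = g * w * (g : X)⁻¹ * g := by rw [← h']
        _ = g * w := by group
    exact Subtype.ext (Subgroup.mem_bot.1 (hGV.disjoint.le_bot ⟨hgV, g.2⟩))
  have ht : Cfsg.Agent.Lib.SolvLinear.IsVecTransitive ρ := by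
    intro a b ha hb
    obtain ⟨g, hg, h⟩ := htrans _ a.toMul.2 _ b.toMul.2
      (fun h => ha (Additive.toMul.injective (Subtype.ext h)))
      (fun h => hb (Additive.toMul.injective (Subtype.ext h)))
    exact ⟨⟨g, hg⟩, Additive.toMul.injective (Subtype.ext ((hρa ⟨g, hg⟩ a).trans h))⟩
  have hq : ¬ p ∣ Nat.card G := by rwa [← hGV.symm.index_eq_card]
  obtain ⟨a, ha⟩ := exists_ne (0 : Additive ↥V)
  have ha1 : (a.toMul : X) ≠ 1 := fun h => ha (Additive.toMul.injective (Subtype.ext h))
  have key := Cfsg.Agent.Lib.TransKGV94.linear_bound ρ Cfsg.Agent.Lib.TransKGV94.semi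
    (Cfsg.Agent.Lib.TransKGV94.dimTwo Cfsg.Agent.Lib.TransKGV94.lift)
    Cfsg.Agent.Lib.TransKGV94.threeFour
    (Cfsg.Agent.Lib.TransKGV94.classify Cfsg.Agent.Lib.TransKGV94.lift
      fun G _ _ h => Cfsg.Agent.S0205.result h) hρ ht hq
    (Cfsg.Agent.Lib.SolvLinear.isSemilinear_of_finrank_eq_one ht) a ha
  have hcardV : Nat.card (Additive ↥V) = Nat.card ↥V := Nat.card_congr Additive.toMul
  let e : Cfsg.Agent.Lib.TransKGV94.stab ρ a ≃* ↥(G ⊓ Subgroup.centralizer ({(a.toMul : X)} : Set X)) :=
    { toFun := fun g => ⟨(g : G), (g : G).2, Subgroup.mem_centralizer_singleton_iff.2 (by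
        have h := hρa (g : G) a
        rw [show ρ (g : G) a = a from g.2] at h
        calc ((g : G) : X) * (a.toMul : X) = (g : G) * (a.toMul : X) * ((g : G) : X)⁻¹ * (g : G) := by group
          _ = _ := by rw [← h])⟩
      invFun := fun g => ⟨⟨g, g.2.1⟩, Additive.toMul.injective (Subtype.ext ((hρa ⟨(g : X), g.2.1⟩ a).trans (by
        rw [Subgroup.mem_centralizer_singleton_iff.1 g.2.2]
        group)))⟩
      left_inv := fun g => rfl
      right_inv := fun g => rfl
      map_mul' := fun g h => rfl }
  have hek : Nat.card (ConjClasses (Cfsg.Agent.Lib.TransKGV94.stab ρ a)) =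
      Nat.card (ConjClasses ↥(G ⊓ Subgroup.centralizer ({(a.toMul : X)} : Set X))) :=
    Nat.card_congr
      { toFun := ConjClasses.map e.toMonoidHom
        invFun := ConjClasses.map e.symm.toMonoidHom
        left_inv := fun c => by
          induction c using Quotient.inductionOn with
          | h x => exact congrArg ConjClasses.mk (e.symm_apply_apply x)
        right_inv := fun c => by
          induction c using Quotient.inductionOn with
          | h x => exact congrArg ConjClasses.mk (e.apply_symm_apply x) }
  rw [hA _ a.toMul.2 ha1, ← hek]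
  rw [hcardV] at key
  exact key

end Cfsg.Agent.S4957
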