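import Cfsg.Statements.S4958
import Cfsg.Agent.Lib.KGV.AbelianPsi
import Cfsg.Agent.Lib.CharCount.Basic
-- import your own Cfsg.Agent.* helpers here

set_option autoImplicit false
open Cfsg

namespace Cfsg.Agent.S4958

open Cfsg.Agent.Lib Cfsg.Agent.Lib.KGV

/-- One irreducible factor between two invariant subgroups of an abelian group. -/
theorem exists_step {X : Type*} [Group X] [Finite X] {p : ℕ} [Fact p.Prime]
    {M : Ideal AlgInt} (hM : IsPModular p M) (C : Subgroup X)
    (hC : ∀ a ∈ C, ∀ b ∈ C, a * b = b * a) (W U : Subgroup X) (hUW : U < W)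
    (habW : ∀ a ∈ W, ∀ b ∈ W, a * b = b * a) (hexp : ∀ w ∈ W, w ^ p = 1)
    (hWi : ∀ h ∈ C, ∀ w ∈ W, h * w * h⁻¹ ∈ W) (hUi : ∀ h ∈ C, ∀ w ∈ U, h * w * h⁻¹ ∈ U)
    (hmax : ∀ Y : Subgroup X, (∀ h ∈ C, ∀ w ∈ Y, h * w * h⁻¹ ∈ Y) → U ≤ Y → Y ≤ W → Y = U ∨ Y = W) :
    ∃ (ψ : C → ℂ) (f : C → ℕ), IsCycComb ψ ∧ (∀ h, Complex.normSq (ψ h) = f h) ∧ ψ 1 = 1 ∧
      (∀ h : C, (∃ w ∈ W, (h : X) * w * (h : X)⁻¹ * w⁻¹ ∉ U) → MemLocalIdeal M (ψ h)) ∧
      ∀ h : C, f h * Nat.card ↥(W ⊓ Subgroup.centralizer ({(h : X)} : Set X)) * Nat.card U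
        ≤ Nat.card W * Nat.card ↥(U ⊓ Subgroup.centralizer ({(h : X)} : Set X)) := by
  classical
  have : M.IsPrime := Blocks.isPModular_isPrime hM
  let : CommGroup ↥W :=
    { (inferInstance : Group ↥W) with mul_comm := fun a b => Subtype.ext (habW a a.2 b b.2) }
  let cW : C → (↥W →* ↥W) := fun h =>
    { toFun := fun w => ⟨(h : X) * w * (h : X)⁻¹, hWi h h.2 w w.2⟩
      map_one' := Subtype.ext (by simp)
      map_mul' := fun a b => Subtype.ext (by simp) }
  let Q := ↥W ⧸ U.subgroupOf W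
  have hcU : ∀ h, U.subgroupOf W ≤ (U.subgroupOf W).comap (cW h) := fun h w hw =>
    Subgroup.mem_subgroupOf.mpr (hUi h h.2 _ (Subgroup.mem_subgroupOf.mp hw))
  let α : C →* AddMonoid.End (Additive Q) :=
    { toFun := fun h => MonoidHom.toAdditive (QuotientGroup.map _ _ (cW h) (hcU h))
      map_one' := by
        refine AddMonoidHom.ext fun a => ?_
        obtain ⟨w, rfl⟩ := QuotientGroup.mk'_surjective (U.subgroupOf W) a.toMul
        refine congrArg Additive.ofMul (congrArg QuotientGroup.mk (Subtype.ext ?_))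
        simp [cW]
      map_mul' := fun h k => by
        refine AddMonoidHom.ext fun a => ?_
        obtain ⟨w, rfl⟩ := QuotientGroup.mk'_surjective (U.subgroupOf W) a.toMul
        refine congrArg Additive.ofMul (congrArg QuotientGroup.mk (Subtype.ext ?_))
        simp [cW, mul_assoc] }
  have hαapp : ∀ (h : C) (w : W), α h (Additive.ofMul (QuotientGroup.mk w : Q))
      = Additive.ofMul (QuotientGroup.mk (cW h w) : Q) := fun h w => rfl
  let R := Subring.closure (Set.range α)
  have hR1 : R ≤ Subring.centralizer (Set.range α) := Subring.closure_le.mpr (by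
    rintro _ ⟨h, rfl⟩
    rw [SetLike.mem_coe, Subring.mem_centralizer_iff]
    rintro _ ⟨k, rfl⟩
    rw [← map_mul, ← map_mul]
    exact congrArg α (Subtype.ext (hC k k.2 h h.2)))
  have hR2 : R ≤ Subring.centralizer (R : Set (AddMonoid.End (Additive Q))) :=
    Subring.closure_le.mpr (by
      rintro _ ⟨h, rfl⟩
      rw [SetLike.mem_coe, Subring.mem_centralizer_iff]
      intro r hr
      exact ((Subring.mem_centralizer_iff.mp (hR1 hr)) (α h) ⟨h, rfl⟩).symm)
  -- a member of `R` is injective or zero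
  have hinj : ∀ r ∈ R, r ≠ 0 → ∀ a, r a = 0 → a = 0 := by
    intro r hr hr0 a ha
    let Y : Subgroup X :=
      { carrier := {x | ∃ hx : x ∈ W, r (Additive.ofMul (QuotientGroup.mk (⟨x, hx⟩ : W) : Q)) = 0}
        one_mem' := ⟨W.one_mem, map_zero r⟩
        mul_mem' := by
          rintro x y ⟨hx, ex⟩ ⟨hy, ey⟩
          refine ⟨W.mul_mem hx hy, ?_⟩
          rw [show (⟨x * y, W.mul_mem hx hy⟩ : W) = ⟨x, hx⟩ * ⟨y, hy⟩ from rfl, QuotientGroup.mk_mul,
            ofMul_mul, map_add, ex, ey, add_zero]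
        inv_mem' := by
          rintro x ⟨hx, ex⟩
          refine ⟨W.inv_mem hx, ?_⟩
          rw [show (⟨x⁻¹, W.inv_mem hx⟩ : W) = (⟨x, hx⟩ : W)⁻¹ from rfl, QuotientGroup.mk_inv,
            ofMul_inv, map_neg, ex, neg_zero] }
    have hYi : ∀ h ∈ C, ∀ w ∈ Y, h * w * h⁻¹ ∈ Y := by
      rintro h hh w ⟨hw, ew⟩
      refine ⟨hWi h hh w hw, ?_⟩
      have h2 : r (α ⟨h, hh⟩ (Additive.ofMul (QuotientGroup.mk (⟨w, hw⟩ : W) : Q))) = 0 := by
        have h3 := Subring.mem_centralizer_iff.mp (hR1 hr) (α ⟨h, hh⟩) ⟨_, rfl⟩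
        change (r * α ⟨h, hh⟩) _ = 0
        rw [← h3]
        change α ⟨h, hh⟩ (r _) = 0
        rw [ew, map_zero]
      exact h2
    have hUY : U ≤ Y := fun x hx => ⟨hUW.le hx, by
      rw [(QuotientGroup.eq_one_iff (⟨x, hUW.le hx⟩ : W)).mpr (Subgroup.mem_subgroupOf.mpr hx),
        ofMul_one, map_zero]⟩
    rcases hmax Y hYi hUY (fun x hx => hx.1) with hY | hY
    · obtain ⟨w, hw⟩ := QuotientGroup.mk'_surjective (U.subgroupOf W) a.toMul
      have ha' : a = Additive.ofMul (QuotientGroup.mk w : Q) := congrArg Additive.ofMul hw.symm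
      have hwY : (w : X) ∈ Y := ⟨w.2, by rw [← ha']; exact ha⟩
      rw [hY] at hwY
      rw [ha', (QuotientGroup.eq_one_iff w).mpr (Subgroup.mem_subgroupOf.mpr hwY), ofMul_one]
    · refine absurd (AddMonoidHom.ext fun b => ?_) hr0
      obtain ⟨w, hw⟩ := QuotientGroup.mk'_surjective (U.subgroupOf W) b.toMul
      have hb' : b = Additive.ofMul (QuotientGroup.mk w : Q) := congrArg Additive.ofMul hw.symm
      have hwY : (w : X) ∈ Y := by rw [hY]; exact w.2
      obtain ⟨_, ew⟩ := hwY
      rw [hb']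
      exact ew
  obtain ⟨w₀, hw₀W, hw₀U⟩ := SetLike.exists_of_lt hUW
  let a₀ : Additive Q := Additive.ofMul (QuotientGroup.mk (⟨w₀, hw₀W⟩ : W) : Q)
  have ha₀ : a₀ ≠ 0 := fun h => hw₀U (Subgroup.mem_subgroupOf.mp
    ((QuotientGroup.eq_one_iff (⟨w₀, hw₀W⟩ : W)).mp h))
  have : Finite (Additive Q) := Finite.of_equiv Q Additive.ofMul
  have hev : Function.Injective (fun r : R => (r : AddMonoid.End (Additive Q)) a₀) := by
    intro r s h
    by_contra hne
    refine ha₀ (hinj _ (sub_mem r.2 s.2) (sub_ne_zero.mpr fun e => hne (Subtype.ext e)) a₀ ?_)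
    simp only [AddMonoidHom.sub_apply, AddMonoid.End.natCast_apply] at *
    exact sub_eq_zero.mpr h
  have : Finite R := Finite.of_injective _ hev
  let := Fintype.ofFinite R
  let : CommRing R := { (inferInstance : Ring R) with
    mul_comm := fun r s => Subtype.ext ((Subring.mem_centralizer_iff.mp (hR2 s.2)) r r.2) }
  have : Nontrivial R := ⟨⟨1, 0, fun h => ha₀ (by
    have := congrArg (fun r : R => (r : AddMonoid.End (Additive Q)) a₀) h
    simpa using this)⟩⟩
  have : NoZeroDivisors R := ⟨fun {r s} hrs => by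
    by_contra! hne
    refine hne.2 (Subtype.ext (AddMonoidHom.ext fun a => ?_))
    exact hinj _ r.2 (fun h => hne.1 (Subtype.ext h)) _
      (DFunLike.congr_fun (congrArg Subtype.val hrs) a)⟩
  have : IsDomain R := NoZeroDivisors.to_isDomain R
  let : Field R := (Finite.isField_of_domain R).toField
  let θ : C →* Rˣ :=
    (MonoidHom.codRestrict α R fun h => Subring.subset_closure ⟨h, rfl⟩).toHomUnits
  have hθ : ∀ h : C, θ h = 1 ↔ ∀ w ∈ W, (h : X) * w * (h : X)⁻¹ * w⁻¹ ∈ U := by
    intro h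
    constructor
    · intro h1 w hw
      have h2 : α h = 1 := congrArg (fun r : Rˣ => ((r : R) : AddMonoid.End (Additive Q))) h1
      have h3 := hαapp h ⟨w, hw⟩
      rw [h2] at h3
      have h4 : (QuotientGroup.mk (cW h ⟨w, hw⟩ * (⟨w, hw⟩ : W)⁻¹) : Q) = 1 := by
        rw [QuotientGroup.mk_mul, QuotientGroup.mk_inv, mul_inv_eq_one]
        exact (congrArg Additive.toMul h3).symm
      exact Subgroup.mem_subgroupOf.mp ((QuotientGroup.eq_one_iff _).mp h4)
    · intro h1
      refine Units.ext (Subtype.ext (AddMonoidHom.ext fun a => ?_))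
      obtain ⟨w, hw⟩ := QuotientGroup.mk'_surjective (U.subgroupOf W) a.toMul
      have ha' : a = Additive.ofMul (QuotientGroup.mk w : Q) := congrArg Additive.ofMul hw.symm
      show α h a = a
      rw [ha', hαapp]
      refine congrArg Additive.ofMul ?_
      rw [← mul_inv_eq_one, ← QuotientGroup.mk_inv, ← QuotientGroup.mk_mul, QuotientGroup.eq_one_iff]
      exact Subgroup.mem_subgroupOf.mpr (h1 w w.2)
  have hRp : ∀ x : R, p • x = 0 := fun x => Subtype.ext (AddMonoidHom.ext fun a => by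
    have h1 : p • a = 0 := by
      obtain ⟨w, hw⟩ := QuotientGroup.mk'_surjective (U.subgroupOf W) a.toMul
      have ha' : a = Additive.ofMul (QuotientGroup.mk w : Q) := congrArg Additive.ofMul hw.symm
      rw [ha', ← ofMul_pow, ← QuotientGroup.mk_pow,
        show w ^ p = 1 from Subtype.ext (by simpa using hexp w w.2), QuotientGroup.mk_one, ofMul_one]
    show ((p • x : R) : AddMonoid.End (Additive Q)) a = 0
    show p • ((x : AddMonoid.End (Additive Q)) a) = 0
    rw [← map_nsmul, h1, map_zero])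
  obtain ⟨ψ, f, hψ, hf, hψ1, hne, heq⟩ := exists_factor hM hRp θ
  refine ⟨ψ, f, hψ, hf, hψ1, fun h ⟨w, hw, hwU⟩ => (hne h fun h1 => hwU ((hθ h).mp h1 w hw)).1,
    fun h => ?_⟩
  have hQ : Nat.card Q * Nat.card U = Nat.card W := by
    rw [← Nat.card_congr (Subgroup.subgroupOfEquivOfLe hUW.le).toEquiv]
    exact (Subgroup.card_eq_card_quotient_mul_card_subgroup (U.subgroupOf W)).symm
  have hle_card : Fintype.card R ≤ Nat.card Q := by
    rw [← Nat.card_eq_fintype_card, ← Nat.card_congr (Additive.toMul (α := Q))]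
    exact Nat.card_le_card_of_injective _ hev
  by_cases h1 : θ h = 1
  · rw [heq h h1, one_mul]
    let A : Subgroup X := W ⊓ Subgroup.centralizer ({(h : X)} : Set X)
    let φ : A →* Q := (QuotientGroup.mk' _).comp (Subgroup.inclusion (inf_le_left : A ≤ W))
    have hker : Nat.card φ.ker ≤ Nat.card ↥(U ⊓ Subgroup.centralizer ({(h : X)} : Set X)) := by
      refine Nat.card_le_card_of_injective (fun x => ⟨((x : A) : X), ?_, (x : A).2.2⟩)
        (fun x y hxy => Subtype.ext (Subtype.ext (congrArg Subtype.val hxy :)))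
      have h' : (QuotientGroup.mk (⟨((x : A) : X), (x : A).2.1⟩ : W) : Q) = 1 := x.2
      have h'' := (QuotientGroup.eq_one_iff (⟨((x : A) : X), (x : A).2.1⟩ : W)).mp h'
      exact Subgroup.mem_subgroupOf.mp h''
    have hA : Nat.card A ≤ Nat.card Q * Nat.card φ.ker := by
      rw [Subgroup.card_eq_card_quotient_mul_card_subgroup φ.ker,
        Nat.card_congr (QuotientGroup.quotientKerEquivRange φ).toEquiv]
      exact Nat.mul_le_mul_right _ (Nat.card_le_card_of_injective _ Subtype.val_injective)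
    calc Nat.card A * Nat.card U
        ≤ Nat.card Q * Nat.card ↥(U ⊓ Subgroup.centralizer ({(h : X)} : Set X)) * Nat.card U :=
          Nat.mul_le_mul_right _ (hA.trans (Nat.mul_le_mul_left _ hker))
      _ = _ := by rw [← hQ]; ring
  · rw [(hne h h1).2]
    have hle : W ⊓ Subgroup.centralizer ({(h : X)} : Set X)
        ≤ U ⊓ Subgroup.centralizer ({(h : X)} : Set X) := by
      refine le_inf (fun w hw => ?_) inf_le_right
      by_contra hwU
      apply h1
      let r : R := (θ h : R) - 1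
      by_contra hne1
      have hr : r ≠ 0 := sub_ne_zero.mpr fun e => hne1 (Units.ext e)
      refine hwU (Subgroup.mem_subgroupOf.mp ((QuotientGroup.eq_one_iff (⟨w, hw.1⟩ : W)).mp ?_))
      refine (Additive.ofMul (α := Q)).injective (hinj _ r.2 (fun e => hr (Subtype.ext e)) _ ?_)
      have e1 : cW h ⟨w, hw.1⟩ = ⟨w, hw.1⟩ := Subtype.ext (by
        show (h : X) * w * (h : X)⁻¹ = w
        rw [← Subgroup.mem_centralizer_singleton_iff.mp hw.2, mul_inv_cancel_right])
      show α h _ - _ = 0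
      rw [hαapp, e1]
      exact sub_self _
    calc Fintype.card R * Nat.card ↥(W ⊓ Subgroup.centralizer ({(h : X)} : Set X)) * Nat.card U
        ≤ Nat.card Q * Nat.card ↥(U ⊓ Subgroup.centralizer ({(h : X)} : Set X)) * Nat.card U :=
          Nat.mul_le_mul_right _ (Nat.mul_le_mul hle_card (Subgroup.card_le_of_le hle))
      _ = _ := by rw [← hQ]; ring

/-- Products over a chain of invariant subgroups. -/
theorem exists_psi {X : Type*} [Group X] [Finite X] {p : ℕ} [Fact p.Prime]
    {M : Ideal AlgInt} (hM : IsPModular p M) (C : Subgroup X) (hpC : ¬ p ∣ Nat.card C)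
    (hC : ∀ a ∈ C, ∀ b ∈ C, a * b = b * a) (V : Subgroup X)
    (hab : ∀ a ∈ V, ∀ b ∈ V, a * b = b * a) (hexp : ∀ w ∈ V, w ^ p = 1) :
    ∀ (n : ℕ) (W : Subgroup X), Nat.card W = n → W ≤ V → (∀ h ∈ C, ∀ w ∈ W, h * w * h⁻¹ ∈ W) →
    ∃ (ψ : C → ℂ) (f : C → ℕ), IsCycComb ψ ∧ (∀ h, Complex.normSq (ψ h) = f h) ∧ ψ 1 = 1 ∧
      (∀ h : C, (∃ w ∈ W, (h : X) * w * (h : X)⁻¹ ≠ w) → MemLocalIdeal M (ψ h)) ∧
      ∀ h : C, f h * Nat.card ↥(W ⊓ Subgroup.centralizer ({(h : X)} : Set X)) ≤ Nat.card W := by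
  classical
  have : M.IsPrime := Blocks.isPModular_isPrime hM
  let := Fintype.ofFinite (Subgroup X)
  intro n
  induction n using Nat.strong_induction_on with | _ n ih => ?_
  intro W hn hWV hWi
  by_cases hbot : W = ⊥
  · subst hbot
    exact ⟨fun _ => 1, fun _ => 1, isCycComb_one, fun _ => by simp, rfl,
      fun h ⟨w, hw, hne⟩ => absurd (by rw [Subgroup.mem_bot.mp hw]; group) hne, fun h => by simp⟩
  let S := (Finset.univ : Finset (Subgroup X)).filter fun Y =>
    Y < W ∧ ∀ h ∈ C, ∀ w ∈ Y, h * w * h⁻¹ ∈ Y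
  obtain ⟨U, hU, hUmax⟩ := S.exists_max_image (fun Y => Nat.card Y) ⟨⊥, by
    simp only [S, Finset.mem_filter, Finset.mem_univ, true_and]
    exact ⟨bot_lt_iff_ne_bot.mpr hbot, fun h _ w hw => by
      rw [Subgroup.mem_bot.mp hw]; simp⟩⟩
  simp only [S, Finset.mem_filter, Finset.mem_univ, true_and] at hU
  obtain ⟨hUW, hUi⟩ := hU
  have hmax : ∀ Y : Subgroup X, (∀ h ∈ C, ∀ w ∈ Y, h * w * h⁻¹ ∈ Y) → U ≤ Y → Y ≤ W →
      Y = U ∨ Y = W := by
    intro Y hY hUY hYW
    rcases hYW.lt_or_eq with hlt | h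
    · left
      have h1 := hUmax Y (by
        simp only [S, Finset.mem_filter, Finset.mem_univ, true_and]; exact ⟨hlt, hY⟩)
      exact (Subgroup.eq_of_le_of_card_ge hUY h1).symm
    · exact Or.inr h
  have hlt : Nat.card U < n := by
    rw [← hn]
    exact lt_of_not_ge fun h => hUW.ne (Subgroup.eq_of_le_of_card_ge hUW.le h)
  obtain ⟨ψ₁, f₁, hψ₁, hf₁, h₁1, hne₁, hle₁⟩ :=
    ih _ hlt U rfl (hUW.le.trans hWV) hUi
  obtain ⟨ψ₂, f₂, hψ₂, hf₂, h₂1, hne₂, hle₂⟩ := exists_step hM C hC W U hUW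
    (fun a ha b hb => hab a (hWV ha) b (hWV hb)) (fun w hw => hexp w (hWV hw)) hWi hUi hmax
  refine ⟨ψ₁ * ψ₂, fun h => f₁ h * f₂ h, isCycComb_mul hψ₁ hψ₂, fun h => by
    simp [hf₁, hf₂], by simp [h₁1, h₂1], ?_, fun h => ?_⟩
  · rintro h ⟨w, hw, hne⟩
    by_cases hmove : ∃ w ∈ W, (h : X) * w * (h : X)⁻¹ * w⁻¹ ∉ U
    · exact Blocks.memLocalIdeal_mul_left
        (Blocks.mem_localRing.mp (Blocks.isIntegral_mem_localRing (by
          obtain ⟨c, hc, rfl⟩ := hψ₁
          simp only [Finset.sum_apply, Pi.smul_apply, smul_eq_mul]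
          exact isIntegral_of_mem_cycInt (sum_mem fun x _ =>
            mul_mem (hc x) (char_mem_cycInt (Chars.irr_isCharacter x) _)))))
        (hne₂ h hmove)
    push Not at hmove
    refine Blocks.memLocalIdeal_mul_right (hne₁ h ?_)
      (Blocks.mem_localRing.mp (Blocks.isIntegral_mem_localRing (by
          obtain ⟨c, hc, rfl⟩ := hψ₂
          simp only [Finset.sum_apply, Pi.smul_apply, smul_eq_mul]
          exact isIntegral_of_mem_cycInt (sum_mem fun x _ =>
            mul_mem (hc x) (char_mem_cycInt (Chars.irr_isCharacter x) _)))))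
    by_contra! hfix
    apply hne
    let u := (h : X) * w * (h : X)⁻¹ * w⁻¹
    have hu : u ∈ U := hmove w hw
    have hhu : Commute (h : X) u := mul_inv_eq_iff_eq_mul.mp (hfix u hu)
    have hk : ∀ k : ℕ, (h : X) ^ k * w * ((h : X) ^ k)⁻¹ = u ^ k * w := by
      intro k
      induction k with
      | zero => simp
      | succ j hj =>
        calc (h : X) ^ (j + 1) * w * ((h : X) ^ (j + 1))⁻¹
            = (h : X) * ((h : X) ^ j * w * ((h : X) ^ j)⁻¹) * (h : X)⁻¹ := by
              rw [pow_succ']; group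
          _ = ((h : X) * u ^ j) * w * (h : X)⁻¹ := by rw [hj]; group
          _ = u ^ j * ((h : X) * w * (h : X)⁻¹) := by rw [(hhu.pow_right j).eq]; group
          _ = u ^ (j + 1) * w := by rw [pow_succ]; simp only [u]; group
    have h1 : u ^ Nat.card C = 1 := by
      have := hk (Nat.card C)
      rw [show (h : X) ^ Nat.card C = 1 from congrArg Subtype.val (pow_card_eq_one' (x := h))] at this
      simpa using this.symm
    have h2 : u = 1 := by
      have := pow_gcd_eq_one.mpr ⟨h1, hexp u (hWV (hUW.le hu))⟩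
      rwa [((Fact.out : p.Prime).coprime_iff_not_dvd.mpr hpC).symm.gcd_eq_one, pow_one] at this
    exact mul_inv_eq_one.mp h2
  · have hUpos : 0 < Nat.card U := Nat.card_pos
    refine Nat.le_of_mul_le_mul_right ?_ hUpos
    calc f₁ h * f₂ h * Nat.card ↥(W ⊓ Subgroup.centralizer ({(h : X)} : Set X)) * Nat.card U
        = f₁ h * (f₂ h * Nat.card ↥(W ⊓ Subgroup.centralizer ({(h : X)} : Set X)) * Nat.card U) := by
          ring
      _ ≤ f₁ h * (Nat.card W * Nat.card ↥(U ⊓ Subgroup.centralizer ({(h : X)} : Set X))) :=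
          Nat.mul_le_mul_left _ (hle₂ h)
      _ ≤ Nat.card W * Nat.card U := by
          rw [mul_left_comm]; exact Nat.mul_le_mul_left _ (hle₁ h)

/-- Let X be a finite group and V a normal subgroup of X in which every element has order dividing the prime p, whose index in X is prime to p and which is its own centralizer in X; so V is an elementary abelian normal Sylow p-subgroup, and any complement G to V in X is a group of order prime to p acting faithfully on the vector space V by conjugation (the coprime linear setting of the k(GV) problem). Let G be a complement to V in X and suppose that for some v in V the centralizer of v in G is abelian. Then the number of conjugacy classes of X is at most the order of V (the abelian-stabilizer criterion for the k(GV) problem). -/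
theorem result {X : Type*} [Group X] [Finite X] (p : ℕ) [Fact p.Prime] (V : Subgroup X) [V.Normal] (hVexp : ∀ v ∈ V, v ^ p = 1) (hidx : ¬ p ∣ V.index) (hself : Subgroup.centralizer (V : Set X) = V) (G : Subgroup X) (hGV : Subgroup.IsComplement' V G) (v : X) (hv : v ∈ V) (hab : ∀ a ∈ G ⊓ Subgroup.centralizer ({v} : Set X), ∀ b ∈ G ⊓ Subgroup.centralizer ({v} : Set X), a * b = b * a) : Nat.card (ConjClasses X) ≤ Nat.card V := by
  classical
  obtain ⟨M, hM⟩ := Cfsg.Agent.Lib.CharCount.exists_isPModular p Fact.out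
  have : M.IsPrime := Cfsg.Agent.Lib.Blocks.isPModular_isPrime hM
  have habV : ∀ a ∈ V, ∀ b ∈ V, a * b = b * a := fun a ha b hb => by
    rw [← hself] at hb
    exact hb a ha
  have hVp : IsPGroup p V := fun g => ⟨1, Subtype.ext (by simpa using hVexp g g.2)⟩
  have hpC : ¬ p ∣ Nat.card ↥(G ⊓ Subgroup.centralizer ({v} : Set X)) := fun h => hidx (by
    rw [hGV.symm.index_eq_card]
    exact h.trans (Subgroup.card_dvd_of_le inf_le_left))
  obtain ⟨ψ, f, hψ, hf, hψ1, hne, hle⟩ := exists_psi hM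
    (G ⊓ Subgroup.centralizer ({v} : Set X)) hpC hab V habV hVexp (Nat.card V) V rfl le_rfl
    (fun h _ w hw => Subgroup.Normal.conj_mem inferInstance w hw h)
  refine card_conjClasses_le_of_knorr V G hVp hidx habV hGV v hv hM ψ hψ f hf
    (by rw [hψ1]; exact Cfsg.Agent.Lib.Blocks.not_memLocalIdeal_one) (fun h hh => hne h ?_) hle
  by_contra! hfix
  apply hh
  have h1 : (h : X) ∈ Subgroup.centralizer (V : Set X) := fun w hw =>
    ((mul_inv_eq_iff_eq_mul.mp (hfix w hw)).symm)
  rw [hself] at h1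
  exact Subtype.ext (Subgroup.disjoint_def.mp hGV.disjoint h1 h.2.1)

end Cfsg.Agent.S4958
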