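import Cfsg.Statements.S4966
import Mathlib
-- import your own Cfsg.Agent.* helpers here

set_option autoImplicit false
open Cfsg

namespace Cfsg.Agent.S4966

universe u v w

variable {F : Type u} [Field F] {G : Type w} [Group G] [Finite G]

/-- An invariant subspace has an invariant complement in coprime characteristic. -/
theorem exists_compl {V : Type v} [AddCommGroup V] [Module F V] (hc : (Nat.card G : F) ≠ 0)
    (ρ : Representation F G V) (U : Submodule F V) (hU : ∀ g, ∀ u ∈ U, ρ g u ∈ U) :
    ∃ W : Submodule F V, IsCompl U W ∧ ∀ g, ∀ w ∈ W, ρ g w ∈ W := by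
  classical
  cases nonempty_fintype G
  obtain ⟨W₀, hW₀⟩ := U.exists_isCompl
  set π := U.projection W₀ hW₀
  set e : V →ₗ[F] V := (Nat.card G : F)⁻¹ • ∑ g : G, ρ g ∘ₗ π ∘ₗ ρ g⁻¹ with he
  have hmem : ∀ v, e v ∈ U := fun v => by
    simp only [he, LinearMap.smul_apply, LinearMap.coe_sum, Finset.sum_apply, LinearMap.comp_apply]
    exact U.smul_mem _ (U.sum_mem fun g _ => hU g _ (Submodule.projection_apply_mem hW₀ _))
  have hid : ∀ u ∈ U, e u = u := fun u hu => by
    simp only [he, LinearMap.smul_apply, LinearMap.coe_sum, Finset.sum_apply, LinearMap.comp_apply]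
    rw [Finset.sum_congr rfl (g := fun _ => u) fun g _ => by
      rw [Submodule.projection_apply_of_mem_left hW₀ (hU g⁻¹ u hu), ← Module.End.mul_apply,
        ← map_mul, mul_inv_cancel, map_one, Module.End.one_apply], Finset.sum_const,
      Finset.card_univ, ← Nat.card_eq_fintype_card, ← Nat.cast_smul_eq_nsmul F, smul_smul,
      inv_mul_cancel₀ hc, one_smul]
  have hcomm : ∀ h v, e (ρ h v) = ρ h (e v) := fun h v => by
    simp only [he, LinearMap.smul_apply, LinearMap.coe_sum, Finset.sum_apply, LinearMap.comp_apply,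
      map_smul, map_sum]
    congr 1
    refine Fintype.sum_equiv (Equiv.mulLeft h⁻¹) _ _ fun g => ?_
    simp [← Module.End.mul_apply, ← map_mul, ← mul_assoc]
  refine ⟨LinearMap.ker e, ⟨?_, ?_⟩, fun g w hw => ?_⟩
  · rw [Submodule.disjoint_def]
    intro x hx hx'
    rw [← hid x hx]
    exact hx'
  · rw [codisjoint_iff, eq_top_iff]
    intro v _
    refine Submodule.mem_sup.2 ⟨e v, hmem v, v - e v, ?_, add_sub_cancel _ _⟩
    rw [LinearMap.mem_ker, map_sub, hid _ (hmem v), sub_self]
  · rw [LinearMap.mem_ker] at hw ⊢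
    rw [hcomm, hw, map_zero]

/-- Projections along invariant complements commute with the action. -/
theorem projection_comm {V : Type v} [AddCommGroup V] [Module F V] (ρ : Representation F G V)
    {U W : Submodule F V} (h : IsCompl U W) (hU : ∀ g, ∀ u ∈ U, ρ g u ∈ U)
    (hW : ∀ g, ∀ w ∈ W, ρ g w ∈ W) (g : G) (v : V) :
    U.projection W h (ρ g v) = ρ g (U.projection W h v) := by
  obtain ⟨a, ha, b, hb, rfl⟩ := Submodule.mem_sup.1 (h.sup_eq_top ▸ Submodule.mem_top (x := v))
  simp only [map_add, Submodule.projection_apply_of_mem_left h ha,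
    Submodule.projection_apply_of_mem_right h hb, Submodule.projection_apply_of_mem_left h (hU g a ha),
    Submodule.projection_apply_of_mem_right h (hW g b hb), map_zero]

/-- In characteristic two, an invariant form with trivial right radical gives a symmetric one. -/
theorem exists_symm [CharP F 2] (hc : (Nat.card G : F) ≠ 0) (n : ℕ) :
    ∀ (V : Type v) [AddCommGroup V] [Module F V] [FiniteDimensional F V]
      (ρ : Representation F G V) (B : LinearMap.BilinForm F V),
      Module.finrank F V = n → (∀ y, (∀ x, B x y = 0) → y = 0) →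
      (∀ g x y, B (ρ g x) (ρ g y) = B x y) →
      ∃ S : LinearMap.BilinForm F V, (∀ x y, S x y = S y x) ∧
        (∀ g x y, S (ρ g x) (ρ g y) = S x y) ∧ ∀ x, (∀ y, S x y = 0) → x = 0 := by
  induction n using Nat.strong_induction_on with
  | _ n ih =>
    intro V _ _ _ ρ B hn hB hinv
    let S₀ : LinearMap.BilinForm F V := B + B.flip
    have hS₀ : ∀ x y, S₀ x y = B x y + B y x := fun x y => rfl
    by_cases hnd : ∀ x, (∀ y, S₀ x y = 0) → x = 0
    · exact ⟨S₀, fun x y => by rw [hS₀, hS₀, add_comm],
        fun g x y => by simp only [hS₀, hinv], hnd⟩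
    let K : Submodule F V := LinearMap.ker S₀
    have hK0 : K ≠ ⊥ := fun h => hnd fun x hx =>
      (Submodule.eq_bot_iff _).1 h x (LinearMap.ext hx)
    have hKinv : ∀ g, ∀ k ∈ K, ρ g k ∈ K := by
      intro g k hk
      refine LinearMap.ext fun y => ?_
      have h1 : S₀ (ρ g k) (ρ g (ρ g⁻¹ y)) = S₀ k (ρ g⁻¹ y) := by simp only [hS₀, hinv]
      rw [← Module.End.mul_apply, ← map_mul, mul_inv_cancel, map_one, Module.End.one_apply] at h1
      rw [h1, LinearMap.mem_ker.1 hk]
      simp
    have hKsymm : ∀ k ∈ K, ∀ y, B k y = B y k := by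
      intro k hk y
      have h1 := LinearMap.congr_fun (LinearMap.mem_ker.1 hk) y
      rw [hS₀, LinearMap.zero_apply] at h1
      exact CharTwo.add_eq_zero.1 h1
    -- a nondegenerate invariant piece carrying a symmetric form
    obtain ⟨R, hR0, hRinv, hRB, SR, hSRs, hSRi, hSRn⟩ : ∃ R : Submodule F V, R ≠ ⊥ ∧
        (∀ g, ∀ r ∈ R, ρ g r ∈ R) ∧ (∀ r ∈ R, (∀ r' ∈ R, B r' r = 0) → r = 0) ∧
        ∃ S : LinearMap.BilinForm F V, (∀ x y, S x y = S y x) ∧
          (∀ g, ∀ x ∈ R, ∀ y ∈ R, S (ρ g x) (ρ g y) = S x y) ∧
          ∀ x ∈ R, (∀ y ∈ R, S x y = 0) → x = 0 := by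
      let X : Submodule F V := K ⊓ LinearMap.ker ((LinearMap.lcomp F F K.subtype) ∘ₗ B.flip)
      have hX : ∀ x, x ∈ X ↔ x ∈ K ∧ ∀ k ∈ K, B k x = 0 := fun x => by
        simp [X, LinearMap.ext_iff]
      by_cases hX0 : X = ⊥
      · have hXr : ∀ r ∈ K, (∀ k ∈ K, B k r = 0) → r = 0 := fun r hr h =>
          (Submodule.eq_bot_iff _).1 hX0 r ((hX r).2 ⟨hr, h⟩)
        obtain ⟨W, hW, hWinv⟩ := exists_compl hc ρ K hKinv
        refine ⟨K, hK0, hKinv, hXr,
          B.compl₁₂ (K.projection W hW) (K.projection W hW), fun x y => ?_,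
          fun g x hx y hy => ?_, fun x hx h => hXr x hx fun k hk => ?_⟩
        · simp only [LinearMap.compl₁₂_apply]
          exact hKsymm _ (Submodule.projection_apply_mem hW x) _
        · simp only [LinearMap.compl₁₂_apply, projection_comm ρ hW hKinv hWinv, hinv]
        · have h1 := h k hk
          rw [LinearMap.compl₁₂_apply, Submodule.projection_apply_of_mem_left hW hx,
            Submodule.projection_apply_of_mem_left hW hk] at h1
          rw [← hKsymm x hx k]
          exact h1
      let Xp : Submodule F V := LinearMap.ker ((LinearMap.lcomp F F X.subtype) ∘ₗ B.flip)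
      have hXp : ∀ v, v ∈ Xp ↔ ∀ x ∈ X, B x v = 0 := fun v => by
        simp [Xp, LinearMap.ext_iff]
      have hXinv : ∀ g, ∀ x ∈ X, ρ g x ∈ X := by
        intro g x hx
        rw [hX] at hx ⊢
        refine ⟨hKinv g x hx.1, fun k hk => ?_⟩
        rw [← hinv g⁻¹, ← Module.End.mul_apply (ρ g⁻¹) (ρ g), ← map_mul, inv_mul_cancel, map_one,
          Module.End.one_apply]
        exact hx.2 _ (hKinv g⁻¹ k hk)
      have hXpinv : ∀ g, ∀ v ∈ Xp, ρ g v ∈ Xp := by
        intro g v hv
        rw [hXp] at hv ⊢
        intro x hx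
        rw [← hinv g⁻¹, ← Module.End.mul_apply (ρ g⁻¹) (ρ g), ← map_mul, inv_mul_cancel, map_one,
          Module.End.one_apply]
        exact hv _ (hXinv g⁻¹ x hx)
      obtain ⟨Y, hY, hYinv⟩ := exists_compl hc ρ Xp hXpinv
      have hXY : Disjoint X Y := by
        rw [Submodule.disjoint_def]
        intro x hx hxY
        exact Submodule.disjoint_def.1 hY.disjoint x
          ((hXp x).2 fun x' hx' => ((hX x).1 hx).2 x' ((hX x').1 hx').1) hxY
      have hxnz : ∀ x ∈ X, (∀ y ∈ Y, B x y = 0) → x = 0 := by
        intro x hx h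
        refine hB x fun v => ?_
        rw [← hKsymm x ((hX x).1 hx).1]
        obtain ⟨a, ha, b, hb, rfl⟩ :=
          Submodule.mem_sup.1 (hY.sup_eq_top ▸ Submodule.mem_top (x := v))
        rw [map_add, (hXp a).1 ha x hx, h b hb, add_zero]
      have hynz : ∀ y ∈ Y, (∀ x ∈ X, B x y = 0) → y = 0 := fun y hy h =>
        Submodule.disjoint_def.1 hY.disjoint y ((hXp y).2 h) hy
      have hXX : ∀ x ∈ X, ∀ x' ∈ X, B x x' = 0 := fun x hx x' hx' =>
        ((hX x').1 hx').2 x ((hX x).1 hx).1
      obtain ⟨W, hW, hWinv⟩ := exists_compl hc ρ (X ⊔ Y) (by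
        intro g r hr
        obtain ⟨a, ha, b, hb, rfl⟩ := Submodule.mem_sup.1 hr
        rw [map_add]
        exact Submodule.add_mem_sup (hXinv g a ha) (hYinv g b hb))
      have hcY : IsCompl Y (Xp) := hY.symm
      let πY : V →ₗ[F] V := Y.projection Xp hcY
      let πX : V →ₗ[F] V := LinearMap.id - πY
      let S1 : LinearMap.BilinForm F V := B.compl₁₂ πX πY
      refine ⟨X ⊔ Y, fun h => hX0 (le_bot_iff.1 (h ▸ le_sup_left)), ?_, ?_, S1 + S1.flip,
        fun x y => add_comm _ _, ?_, ?_⟩
      · intro g r hr
        obtain ⟨a, ha, b, hb, rfl⟩ := Submodule.mem_sup.1 hr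
        rw [map_add]
        exact Submodule.add_mem_sup (hXinv g a ha) (hYinv g b hb)
      · intro r hr h
        obtain ⟨a, ha, b, hb, rfl⟩ := Submodule.mem_sup.1 hr
        have hb0 : b = 0 := hynz b hb fun x hx => by
          have h1 := h x (Submodule.mem_sup_left hx)
          rwa [map_add, hXX x hx a ha, zero_add] at h1
        subst hb0
        rw [add_zero] at h ⊢
        exact hxnz a ha fun y hy => by
          rw [hKsymm a ((hX a).1 ha).1]
          exact h y (Submodule.mem_sup_right hy)
      · intro g x _ y _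
        have h1 : ∀ v, πY (ρ g v) = ρ g (πY v) := projection_comm ρ hcY hYinv hXpinv g
        have h2 : ∀ v, πX (ρ g v) = ρ g (πX v) := fun v => by
          simp only [πX, LinearMap.sub_apply, LinearMap.id_apply, h1, map_sub]
        simp only [S1, LinearMap.add_apply, LinearMap.BilinForm.flip_apply, LinearMap.compl₁₂_apply, h1, h2,
          hinv]
      · intro r hr h
        have hXle : ∀ x ∈ X, x ∈ Xp := fun x hx =>
          (hXp x).2 fun x' hx' => hXX x' hx' x hx
        have hYx : ∀ x ∈ X, πY x = 0 := fun x hx =>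
          Submodule.projection_apply_of_mem_right hcY (hXle x hx)
        have hYy : ∀ y ∈ Y, πY y = y := fun y hy =>
          Submodule.projection_apply_of_mem_left hcY hy
        obtain ⟨a, ha, b, hb, rfl⟩ := Submodule.mem_sup.1 hr
        have hval : ∀ c ∈ X, ∀ d ∈ Y, (S1 + S1.flip) (a + b) (c + d) = B a d + B c b := by
          intro c hc' d hd
          simp only [S1, πX, LinearMap.add_apply, LinearMap.BilinForm.flip_apply, LinearMap.compl₁₂_apply,
            LinearMap.sub_apply, LinearMap.id_apply, map_add, hYx a ha, hYx c hc', hYy b hb,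
            hYy d hd, sub_self, sub_zero, map_zero, LinearMap.zero_apply, zero_add, add_zero]
          abel
        have hb0 : b = 0 := hynz b hb fun x hx => by
          have h1 := (hval x hx 0 Y.zero_mem).symm.trans
            (h _ (Submodule.add_mem_sup hx Y.zero_mem))
          simpa using h1
        subst hb0
        rw [add_zero]
        exact hxnz a ha fun y hy => by
          have h1 := (hval 0 X.zero_mem y hy).symm.trans
            (h _ (Submodule.add_mem_sup X.zero_mem hy))
          simpa using h1
    -- the orthogonal complement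
    let f : V →ₗ[F] Module.Dual F R := (LinearMap.lcomp F F R.subtype) ∘ₗ B.flip
    let R' : Submodule F V := LinearMap.ker f
    have hR' : ∀ v, v ∈ R' ↔ ∀ r ∈ R, B r v = 0 := fun v => by simp [R', f, LinearMap.ext_iff]
    have hinj : Function.Injective (f ∘ₗ R.subtype) := by
      rw [← LinearMap.ker_eq_bot, Submodule.eq_bot_iff]
      intro r hr
      exact Subtype.ext (hRB r r.2 fun r' hr' => LinearMap.congr_fun (LinearMap.mem_ker.1 hr) ⟨r', hr'⟩)
    have hsurj : Function.Surjective (f ∘ₗ R.subtype) :=
      (LinearMap.injective_iff_surjective_of_finrank_eq_finrank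
        (Subspace.dual_finrank_eq).symm).1 hinj
    have hcompl : IsCompl R R' := by
      refine ⟨Submodule.disjoint_def.2 fun r hr hr' => hRB r hr ((hR' r).1 hr'), ?_⟩
      rw [codisjoint_iff, eq_top_iff]
      intro v _
      obtain ⟨r, hr⟩ := hsurj (f v)
      refine Submodule.mem_sup.2 ⟨r, r.2, v - r, ?_, add_sub_cancel _ _⟩
      rw [LinearMap.mem_ker, map_sub, sub_eq_zero]
      exact hr.symm
    have hR'inv : ∀ g, ∀ v ∈ R', ρ g v ∈ R' := by
      intro g v hv
      rw [hR'] at hv ⊢
      intro x hx
      rw [← hinv g⁻¹, ← Module.End.mul_apply (ρ g⁻¹) (ρ g), ← map_mul, inv_mul_cancel, map_one,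
        Module.End.one_apply]
      exact hv _ (hRinv g⁻¹ x hx)
    let ρ' : Representation F G R' :=
      { toFun := fun g => (ρ g).restrict (hR'inv g)
        map_one' := LinearMap.ext fun x => Subtype.ext (by simp)
        map_mul' := fun a b => LinearMap.ext fun x => Subtype.ext (by simp) }
    have hlt : Module.finrank F R' < n := by
      have h1 := Submodule.finrank_add_eq_of_isCompl hcompl
      have h2 : 0 < Module.finrank F R := by
        rw [Nat.pos_iff_ne_zero]
        exact fun h => hR0 (Submodule.finrank_eq_zero.1 h)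
      omega
    obtain ⟨S', hS's, hS'i, hS'n⟩ := ih _ hlt R' ρ'
      (B.compl₁₂ R'.subtype R'.subtype) rfl (fun y hy => Subtype.ext (hB y fun x => by
        obtain ⟨a, ha, b, hb, rfl⟩ :=
          Submodule.mem_sup.1 (hcompl.sup_eq_top ▸ Submodule.mem_top (x := x))
        rw [map_add, LinearMap.add_apply, (hR' _).1 y.2 a ha, zero_add]
        exact hy ⟨b, hb⟩)) (fun g x y => hinv g x y)
    refine ⟨SR.compl₁₂ (R.projection R' hcompl) (R.projection R' hcompl) +
        S'.compl₁₂ (R'.projectionOnto R hcompl.symm) (R'.projectionOnto R hcompl.symm),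
      fun x y => ?_, fun g x y => ?_, fun x hx => ?_⟩
    · simp only [LinearMap.add_apply, LinearMap.compl₁₂_apply]
      rw [hSRs, hS's]
    · simp only [LinearMap.add_apply, LinearMap.compl₁₂_apply,
        projection_comm ρ hcompl hRinv hR'inv]
      have h1 : ∀ v, R'.projectionOnto R hcompl.symm (ρ g v) =
          ρ' g (R'.projectionOnto R hcompl.symm v) := fun v => Subtype.ext (by
        rw [Submodule.coe_projectionOnto_apply, projection_comm ρ hcompl.symm hR'inv hRinv]
        rfl)
      rw [h1, h1, hS'i, hSRi g _ (Submodule.projection_apply_mem _ _) _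
        (Submodule.projection_apply_mem _ _)]
    · obtain ⟨a, ha, b, hb, rfl⟩ :=
        Submodule.mem_sup.1 (hcompl.sup_eq_top ▸ Submodule.mem_top (x := x))
      have ha0 : a = 0 := hSRn a ha fun y hy => by
        have h1 := hx y
        simpa [Submodule.projection_apply_of_mem_left hcompl ha,
          Submodule.projection_apply_of_mem_right hcompl hb,
          Submodule.projection_apply_of_mem_left hcompl hy,
          Submodule.projectionOnto_apply_of_mem_right hcompl.symm ha,
          Submodule.projectionOnto_apply_of_mem_right hcompl.symm hy] using h1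
      have hb0 : (⟨b, hb⟩ : R') = 0 := hS'n _ fun y => by
        have h1 := hx (y : V)
        simpa [ha0, Submodule.projection_apply_of_mem_right hcompl hb,
          Submodule.projectionOnto_apply_of_mem_left hcompl.symm hb,
          Submodule.projectionOnto_apply_left hcompl.symm y] using h1
      rw [ha0, zero_add]
      exact congrArg Subtype.val hb0

/-- Let F be a finite field of characteristic p, G a finite group of order prime to p, and V a finite-dimensional representation of G over F carrying a nondegenerate G-invariant bilinear form (equivalently, V is self-dual). Then V is the direct sum of two G-invariant subspaces U and W such that U carries a G-invariant alternating bilinear form that is nondegenerate on U and W carries a G-invariant symmetric bilinear form that is nondegenerate on W; moreover when p = 2 the decomposition can be chosen with G acting trivially on W. -/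
theorem result {F : Type*} [Field F] [Fintype F] (p : ℕ) [Fact p.Prime] [CharP F p] {G : Type*} [Group G] [Finite G] (hcop : ¬ p ∣ Nat.card G) {V : Type*} [AddCommGroup V] [Module F V] [FiniteDimensional F V] (ρ : Representation F G V) (B : LinearMap.BilinForm F V) (hB : B.Nondegenerate) (hBinv : ∀ g : G, ∀ x y : V, B (ρ g x) (ρ g y) = B x y) : ∃ U W : Submodule F V, IsCompl U W ∧ (∀ g : G, ∀ u ∈ U, ρ g u ∈ U) ∧ (∀ g : G, ∀ w ∈ W, ρ g w ∈ W) ∧ (∃ A : LinearMap.BilinForm F V, (∀ x : V, A x x = 0) ∧ (∀ g : G, ∀ x ∈ U, ∀ y ∈ U, A (ρ g x) (ρ g y) = A x y) ∧ (∀ x ∈ U, (∀ y ∈ U, A x y = 0) → x = 0)) ∧ (∃ S : LinearMap.BilinForm F V, (∀ x y : V, S x y = S y x) ∧ (∀ g : G, ∀ x ∈ W, ∀ y ∈ W, S (ρ g x) (ρ g y) = S x y) ∧ (∀ x ∈ W, (∀ y ∈ W, S x y = 0) → x = 0)) ∧ (p = 2 → ∀ g : G, ∀ w ∈ W, ρ g w = w) := by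
  classical
  cases nonempty_fintype G
  have hc : (Nat.card G : F) ≠ 0 := by rwa [Ne, CharP.cast_eq_zero_iff F p]
  by_cases h2 : p = 2
  · subst h2
    set e : V →ₗ[F] V := (Nat.card G : F)⁻¹ • ∑ g : G, ρ g with he
    set W : Submodule F V := LinearMap.range e
    set U : Submodule F V := LinearMap.ker e
    have hρe : ∀ g v, ρ g (e v) = e v := fun g v => by
      simp only [he, LinearMap.smul_apply, LinearMap.coe_sum, Finset.sum_apply, map_smul, map_sum]
      congr 1
      refine Fintype.sum_equiv (Equiv.mulLeft g) _ _ fun h => ?_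
      simp [map_mul]
    have heρ : ∀ g v, e (ρ g v) = e v := fun g v => by
      simp only [he, LinearMap.smul_apply, LinearMap.coe_sum, Finset.sum_apply]
      congr 1
      refine Fintype.sum_equiv (Equiv.mulRight g) _ _ fun h => ?_
      simp [map_mul]
    have hW1 : ∀ g, ∀ w ∈ W, ρ g w = w := by
      rintro g _ ⟨v, rfl⟩
      exact hρe g v
    have heid : ∀ w ∈ W, e w = w := fun w hw => by
      simp only [he, LinearMap.smul_apply, LinearMap.coe_sum, Finset.sum_apply]
      rw [Finset.sum_congr rfl (g := fun _ => w) fun g _ => hW1 g w hw, Finset.sum_const,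
        Finset.card_univ, ← Nat.card_eq_fintype_card, ← Nat.cast_smul_eq_nsmul F, smul_smul,
        inv_mul_cancel₀ hc, one_smul]
    have hUW : IsCompl U W := by
      refine ⟨Submodule.disjoint_def.2 fun x hx hx' => (heid x hx').symm.trans hx, ?_⟩
      rw [codisjoint_iff, eq_top_iff]
      intro v _
      refine Submodule.mem_sup.2 ⟨v - e v, ?_, e v, ⟨v, rfl⟩, sub_add_cancel _ _⟩
      rw [LinearMap.mem_ker, map_sub, heid _ ⟨v, rfl⟩, sub_self]
    have hUinv : ∀ g, ∀ u ∈ U, ρ g u ∈ U := fun g u hu => by
      rw [LinearMap.mem_ker, heρ]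
      exact hu
    have hWU : ∀ w ∈ W, ∀ u ∈ U, B w u = 0 := fun w hw u hu => by
      have h1 : B w (e u) = B w u := by
        simp only [he, LinearMap.smul_apply, LinearMap.coe_sum, Finset.sum_apply, map_smul, map_sum,
          smul_eq_mul]
        rw [Finset.sum_congr rfl (g := fun _ => B w u) fun g _ => by
          conv_lhs => rw [← hW1 g w hw]
          exact hBinv g w u, Finset.sum_const, Finset.card_univ, ← Nat.card_eq_fintype_card,
          nsmul_eq_mul, inv_mul_cancel_left₀ hc]
      rw [← h1, LinearMap.mem_ker.1 hu, map_zero]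
    let ρU : Representation F G U :=
      { toFun := fun g => (ρ g).restrict (hUinv g)
        map_one' := LinearMap.ext fun x => Subtype.ext (by simp)
        map_mul' := fun a b => LinearMap.ext fun x => Subtype.ext (by simp) }
    obtain ⟨S, hSs, hSi, hSn⟩ := exists_symm hc _ U ρU (B.compl₁₂ U.subtype U.subtype) rfl
      (fun y hy => Subtype.ext (hB.2 y fun x => by
        obtain ⟨a, ha, b, hb, rfl⟩ :=
          Submodule.mem_sup.1 (hUW.sup_eq_top ▸ Submodule.mem_top (x := x))
        rw [map_add, LinearMap.add_apply, hWU b hb y y.2, add_zero]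
        exact hy ⟨a, ha⟩)) (fun g x y => hBinv g x y)
    let π := U.projectionOnto W hUW
    have halt : ∀ u : U, S u u = 0 := by
      intro u
      have hadd : ∀ a b : U, S (a + b) (a + b) = S a a + S b b := fun a b => by
        simp only [map_add, LinearMap.add_apply, hSs b a]
        rw [add_assoc, ← add_assoc (S a b), CharTwo.add_self_eq_zero, zero_add]
      let q : U →+ F :=
        { toFun := fun a => S a a
          map_zero' := by simp
          map_add' := hadd }
      have h0 : (Nat.card G : F)⁻¹ • ∑ g : G, ρU g u = 0 := Subtype.ext (by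
        have := LinearMap.mem_ker.1 u.2
        simpa [he, ρU] using this)
      have h1 : ∑ g : G, ρU g u = 0 := (smul_eq_zero.1 h0).resolve_left (inv_ne_zero hc)
      have h2 : q (∑ g : G, ρU g u) = (Nat.card G : F) * S u u := by
        rw [map_sum, Finset.sum_congr rfl (g := fun _ => S u u)
          (show ∀ g ∈ Finset.univ, q (ρU g u) = S u u from fun g _ => hSi g u u),
          Finset.sum_const, Finset.card_univ, ← Nat.card_eq_fintype_card, nsmul_eq_mul]
      rw [h1, map_zero] at h2
      exact (mul_eq_zero.1 h2.symm).resolve_left hc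
    let b := Module.finBasis F W
    let c := fun i => (b.coord i) ∘ₗ W.projectionOnto U hUW.symm
    refine ⟨U, W, hUW, hUinv, fun g w hw => by rw [hW1 g w hw]; exact hw,
      ⟨S.compl₁₂ π π, fun x => halt _, fun g x hx y hy => ?_, fun x hx h => ?_⟩,
      ⟨∑ i, (LinearMap.mul F F).compl₁₂ (c i) (c i), fun x y => ?_, fun g x hx y hy => ?_,
        fun x hx h => ?_⟩, fun _ => hW1⟩
    · simp only [LinearMap.compl₁₂_apply, π,
        Submodule.projectionOnto_apply_of_mem_left hUW (hUinv g x hx),
        Submodule.projectionOnto_apply_of_mem_left hUW (hUinv g y hy),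
        Submodule.projectionOnto_apply_of_mem_left hUW hx,
        Submodule.projectionOnto_apply_of_mem_left hUW hy]
      exact hSi g ⟨x, hx⟩ ⟨y, hy⟩
    · exact congrArg Subtype.val (hSn ⟨x, hx⟩ fun y => by
        have h1 := h y y.2
        simpa only [LinearMap.compl₁₂_apply, π, Submodule.projectionOnto_apply_left,
          Submodule.projectionOnto_apply_of_mem_left hUW hx] using h1)
    · simp [mul_comm]
    · rw [hW1 g x hx, hW1 g y hy]
    · have h1 : ∀ i, b.coord i ⟨x, hx⟩ = 0 := fun i => by
        have h2 := h (b i) (b i).2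
        simpa [c, Submodule.projectionOnto_apply_of_mem_left hUW.symm hx,
          Finsupp.single_apply] using h2
      exact congrArg Subtype.val (b.forall_coord_eq_zero_iff.1 h1)
  · have h20 : (2 : F) ≠ 0 := by
      intro h
      have h' : p ∣ 2 := (CharP.cast_eq_zero_iff F p 2).1 (by exact_mod_cast h)
      exact h2 ((Nat.prime_dvd_prime_iff_eq Fact.out Nat.prime_two).1 h')
    let T : V →ₗ[F] V := (B.flip.toDual hB.flip).symm.toLinearMap ∘ₗ B
    have hT : ∀ x y, B x (T y) = B y x := fun x y => by
      have := LinearMap.BilinForm.apply_toDual_symm_apply (hB := hB.flip) (B y) x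
      exact this
    have hiso : ∀ x y, B (T x) (T y) = B x y := fun x y => by rw [hT, hT]
    have hTρ : ∀ g y, T (ρ g y) = ρ g (T y) := fun g y => by
      refine sub_eq_zero.1 (hB.2 _ fun x => ?_)
      have hx : x = ρ g (ρ g⁻¹ x) := by
        rw [← Module.End.mul_apply, ← map_mul, mul_inv_cancel, map_one, Module.End.one_apply]
      rw [map_sub, hT, hx, hBinv, hBinv, hT, sub_self]
    set f : Module.End F V := T + 1 with hf
    have hfρ : ∀ g, Commute f (ρ g) := fun g => LinearMap.ext fun v => by
      simp [hf, hTρ]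
    obtain ⟨m, hm⟩ := Filter.eventually_atTop.1 (LinearMap.eventually_isCompl_ker_pow_range_pow f)
    set n := m + 1 with hn
    set U := LinearMap.ker (f ^ n)
    set W := LinearMap.range (f ^ n)
    have hUW : IsCompl U W := hm n (by omega)
    have hUinv : ∀ g, ∀ u ∈ U, ρ g u ∈ U := fun g u hu => by
      rw [LinearMap.mem_ker, ← Module.End.mul_apply, ((hfρ g).pow_left n).eq,
        Module.End.mul_apply, LinearMap.mem_ker.1 hu, map_zero]
    have hWinv : ∀ g, ∀ w ∈ W, ρ g w ∈ W := by
      rintro g _ ⟨v, rfl⟩
      exact ⟨ρ g v, by rw [← Module.End.mul_apply, ((hfρ g).pow_left n).eq, Module.End.mul_apply]⟩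
    have hshift : ∀ z u, B (f z) (T u) = B z (f u) := fun z u => by
      simp only [hf, LinearMap.add_apply, Module.End.one_apply, map_add, hiso]
      abel
    have hcT : Commute f T := (Commute.refl T).add_left (Commute.one_left T)
    have hshiftn : ∀ k z u, B ((f ^ k) z) ((T ^ k) u) = B z ((f ^ k) u) := by
      intro k
      induction k with
      | zero => simp
      | succ k ih =>
        intro z u
        rw [pow_succ', pow_succ', Module.End.mul_apply, Module.End.mul_apply, hshift,
          ← Module.End.mul_apply f, (hcT.pow_right k).eq, Module.End.mul_apply, ih,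
          ← Module.End.mul_apply, ← pow_succ, pow_succ']
    have hTinj : Function.Injective T := by
      rw [← LinearMap.ker_eq_bot, Submodule.eq_bot_iff]
      intro y hy
      exact hB.1 y fun x => by rw [← hT, LinearMap.mem_ker.1 hy, map_zero]
    have hTn : Function.Bijective (T ^ n : Module.End F V) := by
      have hi : Function.Injective (T ^ n : Module.End F V) := by
        rw [Module.End.coe_pow]
        exact hTinj.iterate n
      exact ⟨hi, LinearMap.injective_iff_surjective.1 hi⟩
    have hWU : ∀ w ∈ W, ∀ u ∈ U, B w u = 0 := by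
      rintro _ ⟨z, rfl⟩ u hu
      obtain ⟨u', rfl⟩ := hTn.2 u
      have hu' : (f ^ n) u' = 0 := hTn.1 (by
        rw [map_zero, ← Module.End.mul_apply, ← ((hcT.pow_right n).pow_left n).eq,
          Module.End.mul_apply]
        exact LinearMap.mem_ker.1 hu)
      rw [hshiftn, hu', map_zero]
    have hUW0 : ∀ u ∈ U, ∀ w ∈ W, B u w = 0 := fun u hu w hw => by
      rw [← hT]
      refine hWU w hw _ ?_
      rw [LinearMap.mem_ker, ← Module.End.mul_apply, (hcT.pow_left n).eq, Module.End.mul_apply,
        LinearMap.mem_ker.1 hu, map_zero]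
    refine ⟨U, W, hUW, hUinv, hWinv, ⟨B - B.flip, fun x => by simp, fun g x _ y _ => ?_,
      fun x hx h => ?_⟩, ⟨B + B.flip, fun x y => add_comm _ _, fun g x _ y _ => ?_,
      fun x hx h => ?_⟩, fun hp => absurd hp h2⟩
    · simp [hBinv]
    · have hsym : ∀ y, B x y = B y x := fun y => by
        obtain ⟨a, ha, b, hb, rfl⟩ :=
          Submodule.mem_sup.1 (hUW.sup_eq_top ▸ Submodule.mem_top (x := y))
        have h1 := h a ha
        simp only [LinearMap.sub_apply, LinearMap.BilinForm.flip_apply, sub_eq_zero] at h1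
        rw [map_add, map_add, LinearMap.add_apply, h1, hUW0 x hx b hb, hWU b hb x hx]
      have hTx : T x = x := sub_eq_zero.1 (hB.2 _ fun y => by
        rw [map_sub, hT, hsym, sub_self])
      have hfk : ∀ k, (f ^ k) x = (2 : F) ^ k • x := by
        intro k
        induction k with
        | zero => simp
        | succ k ih =>
          rw [pow_succ', Module.End.mul_apply, ih, map_smul, pow_succ, mul_smul]
          congr 1
          rw [hf, LinearMap.add_apply, Module.End.one_apply, hTx, two_smul]
      have h1 := LinearMap.mem_ker.1 hx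
      rw [hfk] at h1
      exact (smul_eq_zero.1 h1).resolve_left (pow_ne_zero _ h20)
    · simp [hBinv]
    · have hfx : f x = 0 := hB.2 _ fun y => by
        obtain ⟨a, ha, b, hb, rfl⟩ :=
          Submodule.mem_sup.1 (hUW.sup_eq_top ▸ Submodule.mem_top (x := y))
        have h1 := h b hb
        simp only [LinearMap.add_apply, LinearMap.BilinForm.flip_apply] at h1
        rw [hf, LinearMap.add_apply, Module.End.one_apply, map_add, hT]
        simp only [map_add, LinearMap.add_apply, hWU x hx a ha, hUW0 a ha x hx]
        linear_combination h1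
      exact Submodule.disjoint_def.1 hUW.disjoint x
        (by rw [LinearMap.mem_ker, hn, pow_succ, Module.End.mul_apply, hfx, map_zero]) hx

end Cfsg.Agent.S4966
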