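import Cfsg.Statements.S4959
import Cfsg.Agent.S4966
import Cfsg.Agent.Lib.KGV.WeilPsi
import Cfsg.Agent.Lib.KGV.Knorr
import Cfsg.Agent.Lib.CharCount.Basic
-- import your own Cfsg.Agent.* helpers here

set_option autoImplicit false
open Cfsg

namespace Cfsg.Agent.S4959

open Cfsg.Agent.Lib Cfsg.Agent.Lib.Blocks Cfsg.Agent.Lib.KGV
open scoped ComplexConjugate

universe u v

variable {p : ℕ} [hp : Fact p.Prime] {H : Type u} [Group H] [Finite H] {U : Type v}
  [AddCommGroup U] [Module (ZMod p) U] [Finite U]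

theorem isCycComb_memLocalRing {M : Ideal AlgInt} [M.IsPrime] {ψ : H → ℂ} (hψ : IsCycComb ψ)
    (h : H) : MemLocalRing M (ψ h) := by
  obtain ⟨c, hc, rfl⟩ := hψ
  simp only [Finset.sum_apply, Pi.smul_apply, smul_eq_mul]
  exact cycInt_memLocalRing (sum_mem fun x _ =>
    mul_mem (hc x) (char_mem_cycInt (Chars.irr_isCharacter x) _))

/-- An action by additive maps as a linear representation. -/
noncomputable def zmodRep (f : H → U →+ U) (h1 : ∀ x, f 1 x = x)
    (hmul : ∀ a b x, f (a * b) x = f a (f b x)) : Representation (ZMod p) H U where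
  toFun h := (f h).toZModLinearMap p
  map_one' := LinearMap.ext fun x => h1 x
  map_mul' a b := LinearMap.ext fun x => hmul a b x

/-- A bi-additive map as a bilinear form. -/
noncomputable def zmodForm (f : U → U → ZMod p) (hl : ∀ a b c, f (a + b) c = f a c + f b c)
    (hr : ∀ a b c, f a (b + c) = f a b + f a c) : LinearMap.BilinForm (ZMod p) U :=
  (AddMonoidHom.mk' (fun x => (AddMonoidHom.mk' (f x) (hr x)).toZModLinearMap p)
    fun x x' => LinearMap.ext fun y => hl x x' y).toZModLinearMap p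

theorem zmod_two_cases : ∀ a : ZMod 2, a ≠ 0 → a = 1 := by decide

/-- The subrepresentation on an invariant subspace. -/
noncomputable def subRep (ρ : Representation (ZMod p) H U) (W : Submodule (ZMod p) U)
    (hW : ∀ g, ∀ w ∈ W, ρ g w ∈ W) : Representation (ZMod p) H W where
  toFun g := (ρ g).restrict (hW g)
  map_one' := LinearMap.ext fun x => Subtype.ext (by simp)
  map_mul' a b := LinearMap.ext fun x => Subtype.ext (by simp)

theorem hasPsi_of_trivial (hH : ¬ p ∣ Nat.card H) (ρ : Representation (ZMod p) H U)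
    (h1 : ∀ g, ρ g = 1) (M : Ideal AlgInt) : HasPsi ρ M := by
  refine ⟨fun _ => 1, isCycComb_one, rfl, fun h => ?_, fun h hh => absurd (h1 h) hh⟩
  have hb : movedPart ρ h = ⊥ := by
    have := (isCompl_fixed_moved hH ρ h).inf_eq_bot
    rwa [show fixedPart ρ h = ⊤ from eq_top_iff.2 fun x _ => mem_fixedPart.2 (by simp [h1]),
      top_inf_eq] at this
  rw [hb, map_one, Nat.card_unique, Nat.cast_one]

/-- The combinations multiply over invariant complements. -/
theorem hasPsi_prod (hH : ¬ p ∣ Nat.card H) {M : Ideal AlgInt} [M.IsPrime]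
    (ρ : Representation (ZMod p) H U) {A B : Submodule (ZMod p) U} (hAB : IsCompl A B)
    (hA : ∀ g, ∀ w ∈ A, ρ g w ∈ A) (hB : ∀ g, ∀ w ∈ B, ρ g w ∈ B)
    (h1 : HasPsi (subRep ρ A hA) M) (h2 : HasPsi (subRep ρ B hB) M) : HasPsi ρ M := by
  obtain ⟨ψ₁, hc₁, ho₁, hn₁, hm₁⟩ := h1
  obtain ⟨ψ₂, hc₂, ho₂, hn₂, hm₂⟩ := h2
  refine ⟨ψ₁ * ψ₂, isCycComb_mul hc₁ hc₂, by simp [ho₁, ho₂], fun h => ?_, fun h hh => ?_⟩
  · rw [Pi.mul_apply, Complex.normSq_mul, hn₁, hn₂, ← Nat.cast_mul]
    congr 1
    let Φ := Submodule.prodEquivOfIsCompl A B hAB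
    have hfix : Nat.card (fixedPart ρ h) =
        Nat.card (fixedPart (subRep ρ A hA) h) * Nat.card (fixedPart (subRep ρ B hB) h) := by
      rw [← Nat.card_prod]
      let f : fixedPart (subRep ρ A hA) h × fixedPart (subRep ρ B hB) h → fixedPart ρ h :=
        fun q => ⟨(q.1.1 : U) + (q.2.1 : U), mem_fixedPart.2 (by
          rw [map_add]
          exact congrArg₂ (· + ·) (congrArg Subtype.val (mem_fixedPart.1 q.1.2))
            (congrArg Subtype.val (mem_fixedPart.1 q.2.2)))⟩
      refine (Nat.card_eq_of_bijective f ⟨fun q q' he => ?_, fun x => ?_⟩).symm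
      · have := Φ.injective (a₁ := (q.1.1, q.2.1)) (a₂ := (q'.1.1, q'.2.1))
          (show (q.1.1 : U) + (q.2.1 : U) = (q'.1.1 : U) + (q'.2.1 : U) from congrArg Subtype.val he)
        simp only [Prod.mk.injEq] at this
        exact Prod.ext (Subtype.ext this.1) (Subtype.ext this.2)
      · obtain ⟨⟨a, b⟩, hab⟩ := Φ.surjective (x : U)
        have hx : (a : U) + b = x := hab
        have h3 := Φ.injective (a₁ := (subRep ρ A hA h a, subRep ρ B hB h b)) (a₂ := (a, b)) (by
          show ρ h a + ρ h b = a + b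
          rw [← map_add, hx]
          exact mem_fixedPart.1 x.2)
        simp only [Prod.mk.injEq] at h3
        exact ⟨(⟨a, mem_fixedPart.2 h3.1⟩, ⟨b, mem_fixedPart.2 h3.2⟩), Subtype.ext hx⟩
    refine Nat.eq_of_mul_eq_mul_left (Nat.card_pos (α := fixedPart ρ h)) ?_
    rw [card_fixed_mul_moved hH, hfix, mul_mul_mul_comm, card_fixed_mul_moved hH,
      card_fixed_mul_moved hH, ← Nat.card_prod, Nat.card_congr Φ.toEquiv]
  · by_cases hA1 : subRep ρ A hA h = 1
    · refine memLocalIdeal_mul_left (isCycComb_memLocalRing hc₁ h) (hm₂ h fun hB1 => hh ?_)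
      refine LinearMap.ext fun x => ?_
      obtain ⟨a, ha, b, hb, rfl⟩ :=
        Submodule.mem_sup.1 (hAB.sup_eq_top ▸ Submodule.mem_top (x := x))
      have e1 : ρ h a = a := congrArg Subtype.val (LinearMap.congr_fun hA1 ⟨a, ha⟩)
      have e2 : ρ h b = b := congrArg Subtype.val (LinearMap.congr_fun hB1 ⟨b, hb⟩)
      rw [map_add, e1, e2, Module.End.one_apply]
    · exact memLocalIdeal_mul_right (hm₁ h hA1) (isCycComb_memLocalRing hc₂ h)

/-- Symplectic modules in characteristic two. -/
theorem hasPsi_two (hH : ¬ p ∣ Nat.card H) (hp2 : p = 2) {M : Ideal AlgInt}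
    (hM : IsPModular p M) (ρ : Representation (ZMod p) H U)
    (A : LinearMap.BilinForm (ZMod p) U) (hA : A.IsAlt) (hnd : ∀ x, (∀ y, A x y = 0) → x = 0)
    (hAi : ∀ g x y, A (ρ g x) (ρ g y) = A x y) : HasPsi ρ M := by
  classical
  subst hp2
  cases nonempty_fintype H
  set bs := Module.finBasis (ZMod 2) U
  set b : LinearMap.BilinForm (ZMod 2) U :=
    ∑ i, ∑ j, (if i < j then A (bs i) (bs j) else 0) •
      (LinearMap.mul (ZMod 2) (ZMod 2)).compl₁₂ (bs.coord i) (bs.coord j) with hbdef
  have hb : b + b.flip = A := by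
    refine LinearMap.BilinForm.ext_basis bs fun k l => ?_
    have hval : ∀ k l, b (bs k) (bs l) = if k < l then A (bs k) (bs l) else 0 := fun k l => by
      simp only [hbdef, LinearMap.coe_sum, Finset.sum_apply, LinearMap.smul_apply,
        LinearMap.compl₁₂_apply, LinearMap.mul_apply', Module.Basis.coord_apply,
        Module.Basis.repr_self, Finsupp.single_apply, smul_eq_mul]
      rw [Finset.sum_eq_single k, Finset.sum_eq_single l]
      · simp
      · intro j _ hj; simp [hj.symm]
      · simp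
      · intro i _ hi; exact Finset.sum_eq_zero fun j _ => by simp [hi.symm]
      · simp
    rw [LinearMap.add_apply, LinearMap.add_apply, LinearMap.BilinForm.flip_apply, hval, hval]
    rcases lt_trichotomy k l with h | h | h
    · rw [if_pos h, if_neg (not_lt.2 h.le), add_zero]
    · subst h
      rw [if_neg (lt_irrefl _), hA (bs k), add_zero]
    · rw [if_neg (not_lt.2 h.le), if_pos h, zero_add, ← LinearMap.IsAlt.neg hA (bs l) (bs k)]
      exact (CharTwo.neg_eq _).symm
  let e : AddChar (ZMod 2) ℂ := AddChar.zmodChar 2 (ζ := (-1 : ℂ)) (by norm_num)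
  have he : ∀ a, a ≠ 0 → e a ≠ 1 := by
    intro a ha
    have h1 : a = 1 := zmod_two_cases a ha
    rw [h1, AddChar.zmodChar_apply, ZMod.val_one]
    norm_num
  have hodd : (Nat.card H : ZMod 2) = 1 := by
    have h0 : (Nat.card H : ZMod 2) ≠ 0 := by rwa [Ne, ZMod.natCast_eq_zero_iff]
    exact zmod_two_cases _ h0
  let q : U → ZMod 2 := fun u => ∑ g : H, b (ρ g u) (ρ g u)
  refine hasPsi_gauss hH hM ρ (fun u => e (q u)) he A hAi hnd (fun u => ?_) (fun u w => ?_)
    (fun g u => ?_)
  · rw [← AddChar.map_nsmul_eq_pow, nsmul_eq_mul, ZMod.natCast_self, zero_mul,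
      AddChar.map_zero_eq_one]
  · rw [← AddChar.map_add_eq_mul, ← AddChar.map_add_eq_mul]
    congr 1
    have h1 : ∀ g : H, b (ρ g (u + w)) (ρ g (u + w)) =
        b (ρ g u) (ρ g u) + b (ρ g w) (ρ g w) + A u w := fun g => by
      rw [← hAi g u w, ← hb]
      simp only [map_add, LinearMap.add_apply, LinearMap.BilinForm.flip_apply]
      ring
    simp only [q]
    rw [Finset.sum_congr rfl fun g _ => h1 g, Finset.sum_add_distrib, Finset.sum_add_distrib,
      Finset.sum_const, Finset.card_univ, ← Nat.card_eq_fintype_card, nsmul_eq_mul, hodd, one_mul]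
  · congr 1
    refine Fintype.sum_equiv (Equiv.mulRight g) _ _ fun x => ?_
    simp [map_mul]

/-- The real-vector criterion with the module given abstractly. -/
theorem kgv_aux {X : Type u} [Group X] [Finite X] (p : ℕ) [Fact p.Prime] (V : Subgroup X) [V.Normal]
    (hVexp : ∀ v ∈ V, v ^ p = 1) (hidx : ¬ p ∣ V.index)
    (hself : Subgroup.centralizer (V : Set X) = V) (G : Subgroup X)
    (hGV : Subgroup.IsComplement' V G) (v : X) (hv : v ∈ V) (U : Subgroup X) (hUV : U ≤ V)
    (hUfaith : ∀ h ∈ G, h * v * h⁻¹ = v → (∀ u ∈ U, h * u * h⁻¹ = u) → h = 1)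
    {U' : Type v} [AddCommGroup U'] [Finite U'] (ι : U' → X) (hιi : Function.Injective ι)
    (hιadd : ∀ x y, ι (x + y) = ι x * ι y) (hιm : ∀ x, ι x ∈ U) (hιs : ∀ u ∈ U, ∃ x, ι x = u)
    (φ : ↥(G ⊓ Subgroup.centralizer ({v} : Set X)) → U' →+ U')
    (hφ : ∀ h x, ι (φ h x) = (h : X) * ι x * (h : X)⁻¹) (f : U' → U' → ZMod p)
    (hfl : ∀ a b c, f (a + b) c = f a c + f b c) (hfr : ∀ a b c, f a (b + c) = f a b + f a c)
    (hfi : ∀ h x y, f (φ h x) (φ h y) = f x y) (hfnd : ∀ x, (∀ y, f x y = 0) → x = 0) :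
    Nat.card (ConjClasses X) ≤ Nat.card V := by
  classical
  obtain ⟨M, hM⟩ := CharCount.exists_isPModular p Fact.out
  have : M.IsPrime := isPModular_isPrime hM
  have habV : ∀ a ∈ V, ∀ b ∈ V, a * b = b * a := fun a ha b hb => by
    rw [← hself] at hb
    exact hb a ha
  have hVp : IsPGroup p V := fun g => ⟨1, Subtype.ext (by simpa using hVexp g g.2)⟩
  have hH : ¬ p ∣ Nat.card ↥(G ⊓ Subgroup.centralizer ({v} : Set X)) := fun h => hidx (by
    rw [hGV.symm.index_eq_card]
    exact h.trans (Subgroup.card_dvd_of_le inf_le_left))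
  have hfixv : ∀ h : ↥(G ⊓ Subgroup.centralizer ({v} : Set X)), (h : X) * v * (h : X)⁻¹ = v := fun h => by
    rw [Subgroup.mem_centralizer_singleton_iff.1 h.2.2, mul_inv_cancel_right]
  have hι0 : ι 0 = 1 := by
    have h := hιadd 0 0
    rw [add_zero] at h
    exact left_eq_mul.1 h
  have hexp : ∀ x : U', p • x = 0 := fun x => by
    have h1 : ∀ n : ℕ, ι (n • x) = ι x ^ n := fun n => by
      induction n with
      | zero => rw [zero_nsmul, pow_zero, hι0]
      | succ n ih => rw [succ_nsmul, hιadd, ih, pow_succ]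
    exact hιi (by rw [h1, hVexp _ (hUV (hιm x)), hι0])
  obtain ⟨instMod⟩ : Nonempty (Module (ZMod p) U') := ⟨AddCommGroup.zmodModule hexp⟩
  let ρ : Representation (ZMod p) ↥(G ⊓ Subgroup.centralizer ({v} : Set X)) U' :=
    zmodRep φ (fun x => hιi (by rw [hφ]; simp))
      (fun a b x => hιi (by rw [hφ, hφ, hφ]; simp [mul_assoc]))
  let B : LinearMap.BilinForm (ZMod p) U' := zmodForm f hfl hfr
  have hBi : ∀ g : ↥(G ⊓ Subgroup.centralizer ({v} : Set X)), ∀ x y, B (ρ g x) (ρ g y) = B x y := fun g x y => hfi g x y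
  have hBn : B.Nondegenerate := LinearMap.BilinForm.Nondegenerate.ofSeparatingLeft hfnd
  obtain ⟨U₁, W₁, hUW, hU₁, hW₁, ⟨A, hAalt, hAi, hAn⟩, ⟨S, hSs, hSi, hSn⟩, htriv⟩ :=
    S4966.result p hH ρ B hBn hBi
  have hA' : (A.compl₁₂ U₁.subtype U₁.subtype).IsAlt := fun x => hAalt x
  have hAn' : ∀ x : U₁, (∀ y, A.compl₁₂ U₁.subtype U₁.subtype x y = 0) → x = 0 := fun x hx =>
    Subtype.ext (hAn x x.2 fun y hy => hx ⟨y, hy⟩)
  have hAi' : ∀ g (x y : U₁), A.compl₁₂ U₁.subtype U₁.subtype (subRep ρ U₁ hU₁ g x)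
      (subRep ρ U₁ hU₁ g y) = A.compl₁₂ U₁.subtype U₁.subtype x y := fun g x y =>
    hAi g x x.2 y y.2
  have hpsi : HasPsi ρ M := by
    refine hasPsi_prod hH ρ hUW hU₁ hW₁ ?_ ?_
    · by_cases h2 : p = 2
      · exact hasPsi_two hH h2 hM _ _ hA' hAn' hAi'
      · refine hasPsi_weil hH (fun h => h2 ?_) hM _ _ hA' hAn' hAi'
        have h' : ((2 : ℕ) : ZMod p) = 0 := by exact_mod_cast h
        rw [ZMod.natCast_eq_zero_iff] at h'
        exact (Nat.prime_dvd_prime_iff_eq Fact.out Nat.prime_two).1 h'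
    · by_cases h2 : p = 2
      · exact hasPsi_of_trivial hH _
          (fun g => LinearMap.ext fun x => Subtype.ext (htriv h2 g x x.2)) M
      · have h20 : (2 : ZMod p) ≠ 0 := by
          intro h
          have h' : ((2 : ℕ) : ZMod p) = 0 := by exact_mod_cast h
          rw [ZMod.natCast_eq_zero_iff] at h'
          exact h2 ((Nat.prime_dvd_prime_iff_eq Fact.out Nat.prime_two).1 h')
        have hω := Complex.isPrimitiveRoot_exp p (Fact.out : p.Prime).ne_zero
        let e : AddChar (ZMod p) ℂ := AddChar.zmodChar p hω.pow_eq_one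
        refine hasPsi_gauss hH hM _ (fun x : W₁ => e (S x x)) (e := e) (fun a ha h => ?_)
          ((2 : ZMod p) • S.compl₁₂ W₁.subtype W₁.subtype) (fun g x y => ?_) (fun x hx => ?_)
          (fun x => ?_) (fun x y => ?_) (fun g x => ?_)
        · rw [AddChar.zmodChar_apply] at h
          refine ha ((ZMod.val_eq_zero a).1 ?_)
          exact Nat.eq_zero_of_dvd_of_lt ((hω.pow_eq_one_iff_dvd _).1 h) (ZMod.val_lt a)
        · show (2 : ZMod p) * S (ρ g x) (ρ g y) = 2 * S x y
          rw [hSi g x x.2 y y.2]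
        · refine Subtype.ext (hSn x x.2 fun y hy => ?_)
          exact (mul_eq_zero.1 (hx ⟨y, hy⟩ : (2 : ZMod p) * S x y = 0)).resolve_left h20
        · rw [← AddChar.map_nsmul_eq_pow, nsmul_eq_mul, ZMod.natCast_self, zero_mul,
            AddChar.map_zero_eq_one]
        · rw [← AddChar.map_add_eq_mul, ← AddChar.map_add_eq_mul]
          congr 1
          simp only [Submodule.coe_add, map_add, LinearMap.add_apply, LinearMap.smul_apply,
            LinearMap.compl₁₂_apply, Submodule.subtype_apply, smul_eq_mul, hSs (y : U') x]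
          ring
        · exact congrArg e (hSi g x x.2 x x.2)
  obtain ⟨ψ, hψ, hψ1, hψn, hψm⟩ := hpsi
  refine card_conjClasses_le_of_knorr V G hVp hidx habV hGV v hv hM ψ hψ
    (fun h => Nat.card (movedPart ρ h)) hψn (by rw [hψ1]; exact not_memLocalIdeal_one)
    (fun h hh => hψm h fun h1 => hh ?_) fun h => ?_
  · refine Subtype.ext (hUfaith h h.2.1 (hfixv h) fun u hu => ?_)
    obtain ⟨x, rfl⟩ := hιs u hu
    exact (hφ h x).symm.trans (congrArg ι (LinearMap.congr_fun h1 x))
  · rw [← Nat.card_prod]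
    refine Nat.card_le_card_of_injective
      (fun q : movedPart ρ h × ↥(V ⊓ Subgroup.centralizer ({(h : X)} : Set X)) =>
        (⟨ι (q.1 : U') * (q.2 : X), mul_mem (hUV (hιm _)) q.2.2.1⟩ : V)) ?_
    rintro ⟨a, c⟩ ⟨a', c'⟩ he
    have he' : ι (a : U') * c = ι (a' : U') * c' := congrArg Subtype.val he
    have e1 : ι ((a : U') - a') = (c' : X) * (c : X)⁻¹ := by
      have h2 : ι (a : U') = ι ((a : U') - a') * ι (a' : U') := by rw [← hιadd, sub_add_cancel]
      have h3 : ι ((a : U') - a') = ι (a : U') * (ι (a' : U'))⁻¹ := eq_mul_inv_iff_mul_eq.2 h2.symm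
      rw [h3, eq_mul_inv_iff_mul_eq, mul_assoc,
        habV _ (inv_mem (hUV (hιm _))) _ c.2.1, ← mul_assoc, he',
        mul_assoc, habV _ c'.2.1 _ (inv_mem (hUV (hιm _))),
        ← mul_assoc, mul_inv_cancel, one_mul]
    have hsub : (a : U') - a' ∈ fixedPart ρ h := by
      rw [mem_fixedPart]
      refine hιi ((hφ h _).trans ?_)
      rw [e1]
      have hc : (c' : X) * (c : X)⁻¹ ∈ Subgroup.centralizer ({(h : X)} : Set X) :=
        mul_mem c'.2.2 (inv_mem c.2.2)
      rw [← Subgroup.mem_centralizer_singleton_iff.1 hc, mul_inv_cancel_right]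
    have h0 : (a : U') - a' = 0 := Submodule.disjoint_def.1
      (isCompl_fixed_moved hH ρ h).disjoint _ hsub (sub_mem a.2 a'.2)
    have ha : a = a' := Subtype.ext (sub_eq_zero.1 h0)
    subst ha
    exact Prod.ext rfl (Subtype.ext (mul_left_cancel he'))


/-- Let X be a finite group and V a normal subgroup of X in which every element has order dividing the prime p, whose index in X is prime to p and which is its own centralizer in X; so V is an elementary abelian normal Sylow p-subgroup, and any complement G to V in X is a group of order prime to p acting faithfully on the vector space V by conjugation (the coprime linear setting of the k(GV) problem). Let G be a complement to V in X, let v be in V and let H be the centralizer of v in G. Suppose there is a subgroup U of V normalized by H, on which H acts faithfully, and carrying an H-invariant bi-additive pairing β with values in the integers modulo p that is nondegenerate on U (equivalently: the restriction of the module V to H has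 a faithful self-dual submodule; such a v is called a real vector for G). Then the number of conjugacy classes of X is at most the order of V (the real-vector criterion for the k(GV) problem). The pairing is given as a function on X whose relevant values are those on pairs from U. -/
theorem result {X : Type*} [Group X] [Finite X] (p : ℕ) [Fact p.Prime] (V : Subgroup X) [V.Normal] (hVexp : ∀ v ∈ V, v ^ p = 1) (hidx : ¬ p ∣ V.index) (hself : Subgroup.centralizer (V : Set X) = V) (G : Subgroup X) (hGV : Subgroup.IsComplement' V G) (v : X) (hv : v ∈ V) (U : Subgroup X) (hUV : U ≤ V) (hUinv : ∀ h ∈ G, h * v * h⁻¹ = v → ∀ u ∈ U, h * u * h⁻¹ ∈ U) (hUfaith : ∀ h ∈ G, h * v * h⁻¹ = v → (∀ u ∈ U, h * u * h⁻¹ = u) → h = 1) (β : X → X → ZMod p) (hβl : ∀ u ∈ U, ∀ u' ∈ U, ∀ w ∈ U, β (u * u') w = β u w + β u' w) (hβr : ∀ u ∈ U, ∀ w ∈ U, ∀ w' ∈ U, β u (w * w') = β u w + β u w') (hβinv : ∀ h ∈ G, h * v * h⁻¹ = v → ∀ u ∈ U, ∀ w ∈ U, β (h * u * h⁻¹) (h * w * h⁻¹) = β u w) (hβnd : ∀ u ∈ U, (∀ w ∈ U, β u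 w = 0) → u = 1) : Nat.card (ConjClasses X) ≤ Nat.card V := by
  classical
  have habV : ∀ a ∈ V, ∀ b ∈ V, a * b = b * a := fun a ha b hb => by
    rw [← hself] at hb
    exact hb a ha
  let _ : CommGroup U := { Subgroup.toGroup U with
    mul_comm := fun a b => Subtype.ext (habV a (hUV a.2) b (hUV b.2)) }
  have : Finite (Additive U) := Finite.of_equiv U Additive.ofMul
  have hfixv : ∀ h : ↥(G ⊓ Subgroup.centralizer ({v} : Set X)),
      (h : X) * v * (h : X)⁻¹ = v := fun h => by
    rw [Subgroup.mem_centralizer_singleton_iff.1 h.2.2, mul_inv_cancel_right]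
  refine kgv_aux p V hVexp hidx hself G hGV v hv U hUV hUfaith (U' := Additive U)
    (fun x => ((Additive.toMul x : U) : X))
    (fun x y h => (Additive.toMul (α := U)).injective (Subtype.ext h))
    (fun x y => rfl) (fun x => (Additive.toMul x).2)
    (fun u hu => ⟨Additive.ofMul ⟨u, hu⟩, rfl⟩)
    (fun h => AddMonoidHom.mk' (fun x => Additive.ofMul
      (⟨(h : X) * ((Additive.toMul x : U) : X) * (h : X)⁻¹,
        hUinv h h.2.1 (hfixv h) _ (Additive.toMul x).2⟩ : U))
      fun x y => (Additive.toMul (α := U)).injective (Subtype.ext (by simp [mul_assoc])))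
    (fun h x => rfl) (fun x y => β (Additive.toMul x : U) (Additive.toMul y : U))
    (fun x x' y => hβl _ (Additive.toMul x).2 _ (Additive.toMul x').2 _ (Additive.toMul y).2)
    (fun x y y' => hβr _ (Additive.toMul x).2 _ (Additive.toMul y).2 _ (Additive.toMul y').2)
    (fun h x y => hβinv h h.2.1 (hfixv h) _ (Additive.toMul x).2 _ (Additive.toMul y).2)
    (fun x hx => (Additive.toMul (α := U)).injective (Subtype.ext (hβnd _ (Additive.toMul x).2
      fun w hw => hx (Additive.ofMul ⟨w, hw⟩))))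

end Cfsg.Agent.S4959
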