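import Cfsg.Statements.S4964
import Cfsg.Agent.Lib.Blocks.Brauer
import Cfsg.Agent.Lib.Blocks.Covering
import Cfsg.Agent.Lib.BrauerMap.RepKernel
import Cfsg.Agent.Lib.Coprime.Quotient
import Cfsg.Agent.Lib.PGroup.Frattini
-- import your own Cfsg.Agent.* helpers here

set_option autoImplicit false
open Cfsg

namespace Cfsg.Agent.S4964

open Cfsg.Agent.Lib Cfsg.Agent.Lib.Blocks

universe u

variable {H : Type u} [Group H] [Fintype H] {p : ℕ} [Fact p.Prime] {M : Ideal AlgInt}

/-- Two characters whose central characters agree at the regular classes centralizing a normal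
`p`-subgroup lie in one block. -/
theorem sameBlock_of_regular_centralizing [M.IsPrime] (hM : IsPModular p M) (E : Subgroup H)
    [E.Normal] (hE : IsPGroup p E) {χ ψ : IrrCharacter H}
    (h : ∀ g : H, ¬ p ∣ orderOf g → g ∈ Subgroup.centralizer (E : Set H) →
      MemLocalIdeal M (centralChar (χ : H → ℂ) g - centralChar (ψ : H → ℂ) g)) :
    SameBlock M (χ : H → ℂ) (ψ : H → ℂ) := by
  classical
  let _ : Fintype (ConjClasses H) := Fintype.ofFinite _
  have hB : IsPBlock M (blockOf M (χ : H → ℂ)) := isPBlock_blockOf χ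
  have key : omegaBar M χ (blockIdem M hB) = omegaBar M ψ (blockIdem M hB) := by
    rw [omegaBar_eq_sum χ, omegaBar_eq_sum ψ]
    refine Finset.sum_congr rfl fun c _ => ?_
    by_cases hr : p ∣ orderOf (classRep c)
    · have h0 : (blockIdem M hB : MonoidAlgebra (localRing M) H).coeff (classRep c) = 0 :=
        Subtype.ext (by rw [coe_coeff_blockIdem, blockCoeff_eq_zero_of_pSingular hM hB hr,
          ZeroMemClass.coe_zero])
      rw [h0, map_zero, zero_mul, zero_mul]
    congr 1
    by_cases hc : classRep c ∈ Subgroup.centralizer (E : Set H)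
    · exact (omegaBar_eq_iff_of_classSum χ ψ _).2 (h _ hr hc)
    · have hz : ∀ φ : IrrCharacter H, omegaBar M φ (classSumR M (classRep c)) = 0 := by
        intro φ
        refine omegaBar_eq_zero_of_coeff_centralizer hM E hE φ fun x hx => ?_
        have hx' : ¬ IsConj (classRep c) x := by
          intro hconj
          obtain ⟨a, ha⟩ := isConj_iff.1 hconj.symm
          have hnorm : (Subgroup.centralizer (E : Set H)).Normal := inferInstance
          exact hc (ha ▸ hnorm.conj_mem x hx a)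
        simp only [classSumR, coeff_classSum, if_neg hx', map_zero]
      rw [hz, hz]
  rw [omegaBar_blockIdem, omegaBar_blockIdem, if_pos (mem_blockOf_self χ)] at key
  by_contra hn
  rw [if_neg (show ψ ∉ blockOf M (χ : H → ℂ) from hn)] at key
  exact one_ne_zero key

/-- A regular element centralizing a normal `p`-subgroup modulo a subgroup of its Frattini subgroup
lifts to a regular centralizing element whose centralizer maps onto the centralizer of the image. -/
theorem exists_lift (D N : Subgroup H) [D.Normal] [N.Normal] (hD : IsPGroup p D)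
    (hN : N ≤ (frattini D).map D.subtype) {c : H ⧸ N} (hc : ¬ p ∣ orderOf c)
    (hcc : c ∈ Subgroup.centralizer ((D.map (QuotientGroup.mk' N) : Subgroup (H ⧸ N)) : Set (H ⧸ N))) :
    ∃ x : H, (x : H ⧸ N) = c ∧
      (Subgroup.centralizer ({x} : Set H)).index = (Subgroup.centralizer ({c} : Set (H ⧸ N))).index := by
  obtain ⟨y, rfl⟩ := QuotientGroup.mk'_surjective N c
  set π := QuotientGroup.mk' N
  obtain ⟨u, x, hux, hcom, ⟨k, hu⟩, hx⟩ := exists_isPPart (p := p) y
  have hu1 : π u = 1 := by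
    have hp' : IsPPart p (π y) (π u) := by
      refine ⟨π x, by rw [← map_mul, hux], hcom.map π, ?_, fun hd => hx (hd.trans (orderOf_map_dvd π x))⟩
      obtain ⟨j, -, hj⟩ := (Nat.dvd_prime_pow Fact.out).1 (hu ▸ orderOf_map_dvd π u)
      exact ⟨j, hj⟩
    exact isPPart_unique hp' (isPPart_one_of_pRegular hc)
  have hxy : π x = π y := by rw [← hux, map_mul, hu1, one_mul]
  rw [← hxy] at hcc ⊢
  refine ⟨x, rfl, ?_⟩
  have hcen : Subgroup.zpowers x ≤ Subgroup.centralizer (D : Set H) := by
    refine Coprime.le_centralizer_of_frattini (by rw [Subgroup.normalizer_eq_top]; exact le_top)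
      ?_ ?_
    · obtain ⟨m, hm⟩ := IsPGroup.iff_card.1 (hD.to_subgroup (frattini D))
      rw [Nat.card_zpowers, hm]
      exact ((Nat.Prime.coprime_iff_not_dvd Fact.out).2 hx).symm.pow_right m
    · rintro a ⟨i, rfl⟩ d hd
      refine hN ((QuotientGroup.eq_one_iff _).1 ?_)
      have h1 := Subgroup.mem_centralizer_iff.1 (zpow_mem hcc i) (π d)
        (Subgroup.mem_map_of_mem _ hd)
      change π (x ^ i * d * (x ^ i)⁻¹ * d⁻¹) = 1
      rw [map_mul, map_mul, map_mul, map_inv, map_inv, map_zpow, ← h1]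
      group
  have hxD : ∀ d ∈ D, d * x = x * d :=
    Subgroup.mem_centralizer_iff.1 (hcen (Subgroup.mem_zpowers x))
  have hND : N ≤ D := hN.trans (Subgroup.map_subtype_le _)
  rw [← Subgroup.index_comap_of_surjective _ (QuotientGroup.mk'_surjective N)]
  congr 1
  ext g
  rw [Subgroup.mem_comap, Subgroup.mem_centralizer_singleton_iff,
    Subgroup.mem_centralizer_singleton_iff]
  refine ⟨fun h => by rw [← map_mul, h, map_mul], fun h => ?_⟩
  have hnN : x⁻¹ * (g * x * g⁻¹) ∈ N := by
    refine (QuotientGroup.eq_one_iff _).1 ?_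
    change π (x⁻¹ * (g * x * g⁻¹)) = 1
    rw [map_mul, map_inv, map_mul, map_mul, map_inv, show π g * π x = π x * π g from h]
    group
  set n := x⁻¹ * (g * x * g⁻¹) with hn
  obtain ⟨j, hj⟩ := IsPGroup.iff_orderOf.1 hD ⟨n, hND hnN⟩
  rw [← Subgroup.orderOf_coe] at hj
  have hreg : ¬ p ∣ orderOf (g * x * g⁻¹) := by
    rw [show g * x * g⁻¹ = (MulAut.conj g) x from rfl, MulEquiv.orderOf_eq]
    exact hx
  have hpart : IsPPart p (g * x * g⁻¹) n :=
    ⟨x, by rw [hxD n (hND hnN), hn, mul_inv_cancel_left], hxD n (hND hnN), ⟨j, hj⟩, hx⟩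
  have h0 : n = 1 := isPPart_unique hpart (isPPart_one_of_pRegular hreg)
  rw [hn, inv_mul_eq_one, eq_mul_inv_iff_mul_eq] at h0
  exact h0.symm

/-- Let D be a normal p-subgroup of the finite group G, let D′ be its commutator subgroup (normal in G), and fix a maximal ideal M of the algebraic integers containing p. Then (i) two irreducible characters of G ⧸ D′ lie in the same p-block if and only if their inflations to G do, and (ii) every p-block of G contains the inflation of some irreducible character of G ⧸ D′; so inflation induces a bijection between the p-blocks of G ⧸ D′ and the p-blocks of G. -/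
theorem result {G : Type*} [Group G] [Finite G] (p : ℕ) [Fact p.Prime] (M : Ideal Cfsg.AlgInt) (hM : Cfsg.IsPModular p M) (D : Subgroup G) [D.Normal] (hD : IsPGroup p D) : (∀ χ ψ : Cfsg.IrrCharacter (G ⧸ ⁅D, D⁆), Cfsg.SameBlock M (χ : G ⧸ ⁅D, D⁆ → ℂ) (ψ : G ⧸ ⁅D, D⁆ → ℂ) ↔ Cfsg.SameBlock M ((χ : G ⧸ ⁅D, D⁆ → ℂ) ∘ QuotientGroup.mk) ((ψ : G ⧸ ⁅D, D⁆ → ℂ) ∘ QuotientGroup.mk)) ∧ ∀ B : Set (Cfsg.IrrCharacter G), Cfsg.IsPBlock M B → ∃ χ : Cfsg.IrrCharacter (G ⧸ ⁅D, D⁆), ∃ θ ∈ B, (θ : G → ℂ) = (χ : G ⧸ ⁅D, D⁆ → ℂ) ∘ QuotientGroup.mk := by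
  classical
  cases nonempty_fintype G
  have : M.IsPrime := hM.2.1.isPrime
  let _ : Fintype D := Fintype.ofFinite _
  let _ : Fintype (G ⧸ ⁅D, D⁆) := Fintype.ofFinite _
  set π := QuotientGroup.mk' ⁅D, D⁆ with hπ
  have hN : ⁅D, D⁆ ≤ (frattini D).map D.subtype := by
    rw [← Subgroup.map_subtype_commutator]
    exact Subgroup.map_mono (PFrattini.commutator_le_frattini hD)
  refine ⟨fun χ ψ => ⟨fun h g => ?_, fun h => ?_⟩, fun B hB => ?_⟩
  · obtain ⟨m, hm⟩ : (Subgroup.centralizer ({π g} : Set (G ⧸ ⁅D, D⁆))).index ∣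
        (Subgroup.centralizer ({g} : Set G)).index := by
      rw [← Subgroup.index_comap_of_surjective _ (QuotientGroup.mk'_surjective ⁅D, D⁆)]
      refine Subgroup.index_dvd_of_le fun a ha => ?_
      rw [Subgroup.mem_centralizer_singleton_iff] at ha
      rw [Subgroup.mem_comap, Subgroup.mem_centralizer_singleton_iff, ← map_mul, ha, map_mul]
    have he : ∀ φ : G ⧸ ⁅D, D⁆ → ℂ, centralChar (φ ∘ QuotientGroup.mk) g =
        (m : ℂ) * centralChar φ (π g) := by
      intro φ
      have h1 : φ ((1 : G) : G ⧸ ⁅D, D⁆) = φ 1 := rfl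
      simp only [centralChar, Function.comp_apply, hm, Nat.cast_mul, h1, hπ,
        QuotientGroup.mk'_apply]
      ring
    rw [he, he, ← mul_sub]
    exact memLocalIdeal_mul_left (mem_localRing.1 (natCast_mem_localRing m)) (h (π g))
  · refine sameBlock_of_regular_centralizing hM (D.map π) (hD.map π) fun c hc hcc => ?_
    obtain ⟨x, rfl, hidx⟩ := exists_lift D ⁅D, D⁆ hD hN hc hcc
    have := h x
    simp only [centralChar, Function.comp_apply, hidx] at this
    exact this
  · obtain ⟨θ, hθB, hθ⟩ : ∃ θ ∈ B, ∑ n : D, (θ : G → ℂ) (n : G) ≠ 0 := by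
      by_contra! hcon
      have h0 : ∑ n : D, blockCoeff B (n : G)⁻¹ = 0 := by
        simp only [blockCoeff_eq_sum, ← Finset.mul_sum, inv_inv]
        rw [Finset.sum_comm]
        refine mul_eq_zero_of_right _ (Finset.sum_eq_zero fun θ _ => ?_)
        by_cases hθ : θ ∈ B
        · simp only [hθ, if_true, Chars.irr_inv, RingHomCompTriple.comp_apply, RingHom.id_apply,
            ← Finset.mul_sum, hcon θ hθ, mul_zero]
        · simp [hθ]
      have hsing : ∀ n : D, n ≠ 1 → blockCoeff B (n : G)⁻¹ = 0 := by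
        intro n hn
        refine blockCoeff_eq_zero_of_pSingular hM hB ?_
        obtain ⟨k, hk⟩ := IsPGroup.iff_orderOf.1 hD n
        rw [orderOf_inv, Subgroup.orderOf_coe, hk]
        refine dvd_pow_self p ?_
        rintro rfl
        exact hn (orderOf_eq_one_iff.1 (by simpa using hk))
      rw [Finset.sum_eq_single 1 (fun n _ hn => hsing n hn) (by simp), OneMemClass.coe_one,
        inv_one] at h0
      rw [blockCoeff_eq_sum, mul_eq_zero] at h0
      obtain ⟨θ₀, hθ₀⟩ := isPBlock_nonempty hB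
      refine h0.elim (by simp) fun hz => ?_
      have hr : ∀ θ : IrrCharacter G, (θ : G → ℂ) 1 * (θ : G → ℂ) 1 =
          (((charDegree (θ : G → ℂ)) ^ 2 : ℕ) : ℂ) := fun θ => by
        rw [BrauerMap.charDegree_cast (Chars.irr_isCharacter θ)]
        push_cast
        ring
      have h11 : ∀ θ : IrrCharacter G, (starRingEnd ℂ) ((θ : G → ℂ) 1) = (θ : G → ℂ) 1 :=
        fun θ => by rw [← Chars.irr_inv, inv_one]
      simp only [h11, hr, ← Finset.sum_filter, ← Nat.cast_sum, Nat.cast_eq_zero,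
        Finset.sum_eq_zero_iff, pow_eq_zero_iff two_ne_zero] at hz
      have h2 := hz θ₀ (by simpa using hθ₀)
      exact Chars.irr_apply_one_ne_zero θ₀
        (by rw [BrauerMap.charDegree_cast (Chars.irr_isCharacter θ₀), h2, Nat.cast_zero])
    have hker : ∀ x ∈ ⁅D, D⁆, (θ : G → ℂ) x = (θ : G → ℂ) 1 := fun x hx =>
      Covering.eq_one_of_sum_ne_zero θ hθ ⟨x, Subgroup.commutator_le_self D hx⟩
    obtain ⟨χ, hχ⟩ := Chars.exists_irr_quotient ⁅D, D⁆ θ hker
    exact ⟨χ, θ, hθB, funext fun g => (hχ g).symm⟩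

end Cfsg.Agent.S4964
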