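import Cfsg.Statements.S4965
import Mathlib
-- import your own Cfsg.Agent.* helpers here

set_option autoImplicit false
open Cfsg

namespace Cfsg.Agent.S4965

/-- Let X be a finite group with an abelian normal subgroup V (any two elements of V commute), and let φ be the action of X ⧸ V on V induced by conjugation (well defined because V is abelian; the hypothesis hφ says that the class of x acts as conjugation by x). Then X has at most as many conjugacy classes as the semidirect product of V by X ⧸ V formed with this action: the split extension has the largest class number among extensions with the given action. -/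
theorem result {X : Type*} [Group X] [Finite X] (V : Subgroup X) [V.Normal] (hab : ∀ a ∈ V, ∀ b ∈ V, a * b = b * a) (φ : X ⧸ V →* MulAut ↥V) (hφ : ∀ (x : X) (v : ↥V), ((φ (QuotientGroup.mk x) v : ↥V) : X) = x * v * x⁻¹) : Nat.card (ConjClasses X) ≤ Nat.card (ConjClasses (SemidirectProduct ↥V (X ⧸ V) φ)) := by
  classical
  have _ := hab
  let P := {p : X × X // Commute p.1 p.2}
  let π : P → (X ⧸ V) × (X ⧸ V) := fun p => ((p.1.1 : X ⧸ V), (p.1.2 : X ⧸ V))
  let base : P → P := fun p =>
    (⟨p, rfl⟩ : ∃ q : P, π q = π p).choose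
  have hbase : ∀ p, π (base p) = π p := fun p =>
    (⟨p, rfl⟩ : ∃ q : P, π q = π p).choose_spec
  have hbase_eq : ∀ p p', π p = π p' → base p = base p' := by
    intro p p' h
    simp only [base]
    simp_rw [h]
  have hv1 : ∀ p : P, p.1.1 * (base p).1.1⁻¹ ∈ V := fun p => by
    have h := congrArg Prod.fst (hbase p)
    simp only [π] at h
    rw [← QuotientGroup.eq_one_iff, QuotientGroup.mk_mul, QuotientGroup.mk_inv, h, mul_inv_cancel]
  have hv2 : ∀ p : P, p.1.2 * (base p).1.2⁻¹ ∈ V := fun p => by
    have h := congrArg Prod.snd (hbase p)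
    simp only [π] at h
    rw [← QuotientGroup.eq_one_iff, QuotientGroup.mk_mul, QuotientGroup.mk_inv, h, mul_inv_cancel]
  let f : P → {q : SemidirectProduct ↥V (X ⧸ V) φ × SemidirectProduct ↥V (X ⧸ V) φ // Commute q.1 q.2} := fun p =>
    ⟨((⟨⟨_, hv1 p⟩, (p.1.1 : X ⧸ V)⟩ : SemidirectProduct ↥V (X ⧸ V) φ), (⟨⟨_, hv2 p⟩, (p.1.2 : X ⧸ V)⟩ : SemidirectProduct ↥V (X ⧸ V) φ)), by
      have hp : p.1.1 * p.1.2 = p.1.2 * p.1.1 := p.2
      have hq : (base p).1.1 * (base p).1.2 = (base p).1.2 * (base p).1.1 := (base p).2
      have e1 := congrArg Prod.fst (hbase p)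
      have e2 := congrArg Prod.snd (hbase p)
      simp only [π] at e1 e2
      refine SemidirectProduct.ext (Subtype.ext ?_) ?_
      · simp only [SemidirectProduct.mul_left, Subgroup.coe_mul]
        rw [← e1, ← e2, hφ, hφ]
        apply mul_right_cancel (b := (base p).1.1 * (base p).1.2)
        calc _ = p.1.1 * p.1.2 := by group
          _ = p.1.2 * p.1.1 := hp
          _ = _ := by rw [hq]; group
      · simp only [SemidirectProduct.mul_right]
        rw [← QuotientGroup.mk_mul, hp, QuotientGroup.mk_mul]⟩
  have hf : Function.Injective f := by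
    intro p p' h
    have h' := congrArg Subtype.val h
    simp only [f, Prod.mk.injEq, SemidirectProduct.ext_iff] at h'
    obtain ⟨⟨a1, b1⟩, a2, b2⟩ := h'
    have hb := hbase_eq p p' (Prod.ext b1 b2)
    have a1' : p.1.1 * (base p).1.1⁻¹ = p'.1.1 * (base p').1.1⁻¹ := congrArg Subtype.val a1
    have a2' : p.1.2 * (base p).1.2⁻¹ = p'.1.2 * (base p').1.2⁻¹ := congrArg Subtype.val a2
    rw [hb] at a1' a2'
    exact Subtype.ext (Prod.ext (mul_right_cancel a1') (mul_right_cancel a2'))
  have : Finite (SemidirectProduct ↥V (X ⧸ V) φ) := Finite.of_equiv _ SemidirectProduct.equivProd.symm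
  have hc : Nat.card (SemidirectProduct ↥V (X ⧸ V) φ) = Nat.card X := by
    rw [Nat.card_congr SemidirectProduct.equivProd, Nat.card_prod, mul_comm,
      ← Subgroup.card_eq_card_quotient_mul_card_subgroup]
  have hle := Nat.card_le_card_of_injective f hf
  rw [card_comm_eq_card_conjClasses_mul_card, card_comm_eq_card_conjClasses_mul_card, hc] at hle
  exact Nat.le_of_mul_le_mul_right hle Nat.card_pos

end Cfsg.Agent.S4965
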