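import Cfsg.Statements.S4967
import Mathlib
-- import your own Cfsg.Agent.* helpers here

set_option autoImplicit false
open Cfsg

namespace Cfsg.Agent.S4967

open scoped IsMulCommutative

/-- Let F be a finite field with r elements and of characteristic p, H a finite abelian group of order prime to p, and V a faithful irreducible representation of H over F of dimension n (faithful: distinct elements act differently; irreducible: the only H-invariant subspaces are 0 and V). Call V self-dual when it carries a nondegenerate H-invariant bilinear form. If n = 1 and V is self-dual then H has order at most 2. If n ≥ 2 then V is self-dual if and only if n is even and the order of H divides r^(n/2) + 1. -/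
theorem result {F : Type*} [Field F] [Fintype F] (p : ℕ) [Fact p.Prime] [CharP F p] {H : Type*} [CommGroup H] [Finite H] (hcop : ¬ p ∣ Nat.card H) {V : Type*} [AddCommGroup V] [Module F V] [FiniteDimensional F V] (ρ : Representation F H V) (hfaith : Function.Injective ρ) (hirr : ∀ U : Submodule F V, (∀ h : H, ∀ u ∈ U, ρ h u ∈ U) → U = ⊥ ∨ U = ⊤) : (Module.finrank F V = 1 → (∃ B : LinearMap.BilinForm F V, B.Nondegenerate ∧ ∀ h : H, ∀ x y : V, B (ρ h x) (ρ h y) = B x y) → Nat.card H ≤ 2) ∧ (2 ≤ Module.finrank F V → ((∃ B : LinearMap.BilinForm F V, B.Nondegenerate ∧ ∀ h : H, ∀ x y : V, B (ρ h x) (ρ h y) = B x y) ↔ (Even (Module.finrank F V) ∧ Nat.card H ∣ Fintype.card F ^ (Module.finrank F V / 2) + 1))) := by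
  classical
  have : Finite V := Module.finite_of_finite F
  set n := Module.finrank F V with hn
  rcases Nat.eq_zero_or_pos n with h0 | hpos
  · exact ⟨fun h => by omega, fun h => by omega⟩
  have : Nontrivial V := Module.finrank_pos_iff.1 hpos
  obtain ⟨v, hv⟩ := exists_ne (0 : V)
  set K := Algebra.adjoin F (Set.range ρ) with hK
  have : IsMulCommutative K := Algebra.isMulCommutative_adjoin F (by
    rintro _ ⟨a, rfl⟩ _ ⟨b, rfl⟩
    rw [← map_mul, ← map_mul, mul_comm])
  let ι : H →* K :=
    { toFun := fun h => ⟨ρ h, Algebra.subset_adjoin ⟨h, rfl⟩⟩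
      map_one' := Subtype.ext (map_one ρ)
      map_mul' := fun a b => Subtype.ext (map_mul ρ a b) }
  have hι : Function.Injective ι := fun a b h => hfaith (congrArg Subtype.val h)
  have hρK : ∀ (a : K) (h : H) (x : V), (a : Module.End F V) (ρ h x) =
      ρ h ((a : Module.End F V) x) := fun a h x =>
    congrArg (fun z : K => (z : Module.End F V) x) (mul_comm a (ι h))
  let L : K →ₗ[F] V :=
    { toFun := fun a => (a : Module.End F V) v
      map_add' := fun _ _ => rfl
      map_smul' := fun _ _ => rfl }
  have hker : ∀ a : K, a ≠ 0 → ∀ x, (a : Module.End F V) x = 0 → x = 0 := by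
    intro a ha x hx
    rcases hirr (LinearMap.ker (a : Module.End F V)) (fun h u hu => by
      rw [LinearMap.mem_ker, hρK, LinearMap.mem_ker.1 hu, map_zero]) with h | h
    · exact (Submodule.eq_bot_iff _).1 h x hx
    · exact absurd (Subtype.ext (LinearMap.ker_eq_top.1 h)) ha
  have hLbij : Function.Bijective L := by
    refine ⟨(injective_iff_map_eq_zero L).2 fun a ha => ?_, fun x => ?_⟩
    · by_contra ha0
      exact hv (hker a ha0 v ha)
    · rcases hirr (LinearMap.range L) (fun h u hu => by
        obtain ⟨a, rfl⟩ := hu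
        exact ⟨ι h * a, rfl⟩) with h | h
      · exact absurd ((Submodule.eq_bot_iff _).1 h v ⟨1, rfl⟩) hv
      · exact (LinearMap.range_eq_top.1 h) x
  let Le : K ≃ₗ[F] V := LinearEquiv.ofBijective L hLbij
  have hnz : Nontrivial K := ⟨⟨0, 1, fun h => hv
    (congrArg (fun z : K => (z : Module.End F V) v) h).symm⟩⟩
  have hnzd : NoZeroDivisors K := ⟨fun {a b} hab => by
    by_contra hc
    push Not at hc
    exact hv (hker b hc.2 v (hker a hc.1 _ (congrArg (fun z : K => (z : Module.End F V) v) hab)))⟩
  have : IsDomain K := NoZeroDivisors.to_isDomain K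
  have : Finite K := Finite.of_injective L hLbij.1
  let _ : Field K := (Finite.isField_of_domain K).toField
  have hfin : Module.finrank F K = n := Le.finrank_eq
  have hgen : ∀ f g : K →ₐ[F] K, (∀ h, f (ι h) = g (ι h)) → f = g := by
    intro f g hfg
    refine AlgHom.ext fun ⟨a, ha⟩ => ?_
    induction ha using Algebra.adjoin_induction with
    | mem x hx =>
      obtain ⟨h, rfl⟩ := hx
      exact hfg h
    | algebraMap c => exact (f.commutes c).trans (g.commutes c).symm
    | add x y hx hy h1 h2 =>
      exact ((map_add f ⟨x, hx⟩ ⟨y, hy⟩).trans (congrArg₂ (· + ·) h1 h2)).trans (map_add g _ _).symm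
    | mul x y hx hy h1 h2 =>
      exact ((map_mul f ⟨x, hx⟩ ⟨y, hy⟩).trans (congrArg₂ (· * ·) h1 h2)).trans (map_mul g _ _).symm
  have : IsCyclic H := isCyclic_of_subgroup_isDomain ι hι
  refine ⟨fun h1 ⟨B, hB, hBi⟩ => ?_, fun h2 => ⟨fun ⟨B, hB, hBi⟩ => ?_, fun ⟨heven, hdvd⟩ => ?_⟩⟩
  · have hsq : ∀ h : H, h ^ 2 = 1 := by
      intro h
      obtain ⟨c, hc⟩ := (finrank_eq_one_iff_of_nonzero' (1 : K) one_ne_zero).1 (hfin.trans h1) (ι h)
      have hρ : ∀ x, ρ h x = c • x := fun x =>
        (congrArg (fun z : K => (z : Module.End F V) x) hc).symm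
      obtain ⟨w, hw⟩ : ∃ w, B v w ≠ 0 := by
        by_contra! hw
        exact hv (hB.1 v hw)
      have h3 := hBi h v w
      simp only [hρ, map_smul, LinearMap.smul_apply, smul_eq_mul] at h3
      have h4 : c * c = 1 := mul_right_cancel₀ hw (by rw [one_mul]; linear_combination h3)
      refine hι ?_
      rw [map_pow, map_one, ← hc, smul_pow, one_pow, sq, h4, one_smul]
    have hexp : Monoid.exponent H ∣ 2 := Monoid.exponent_dvd_of_forall_pow_eq_one hsq
    rw [IsCyclic.exponent_eq_card] at hexp
    exact Nat.le_of_dvd two_pos hexp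
  · have hadj : ∀ a : K, ∃ b : K, ∀ x y, B ((a : Module.End F V) x) y =
        B x ((b : Module.End F V) y) := by
      rintro ⟨a, ha⟩
      induction ha using Algebra.adjoin_induction with
      | mem x hx =>
        obtain ⟨h, rfl⟩ := hx
        refine ⟨ι h⁻¹, fun x y => ?_⟩
        conv_rhs => rw [← hBi h]
        rw [show ((ι h⁻¹ : K) : Module.End F V) = ρ h⁻¹ from rfl, ← Module.End.mul_apply (ρ h),
          ← map_mul, mul_inv_cancel, map_one, Module.End.one_apply]
      | algebraMap c =>
        exact ⟨algebraMap F K c, fun x y => by simp [Module.algebraMap_end_apply]⟩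
      | add x y hx hy h1 h2 =>
        obtain ⟨b1, hb1⟩ := h1
        obtain ⟨b2, hb2⟩ := h2
        exact ⟨b1 + b2, fun u w => by
          simp only [LinearMap.add_apply, map_add, Subalgebra.coe_add]
          rw [hb1, hb2]⟩
      | mul x y hx hy h1 h2 =>
        obtain ⟨b1, hb1⟩ := h1
        obtain ⟨b2, hb2⟩ := h2
        exact ⟨b2 * b1, fun u w => by
          simp only [Subalgebra.coe_mul, Module.End.mul_apply]
          rw [hb1, hb2]⟩
    choose s hs using hadj
    have huniq : ∀ a b : K, (∀ x y, B ((a : Module.End F V) x) y =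
        B x ((b : Module.End F V) y)) → s a = b := fun a b hb => Subtype.ext (LinearMap.ext fun y =>
      sub_eq_zero.1 (hB.2 _ fun x => by rw [map_sub, ← hs, hb, sub_self]))
    let σ : K →ₐ[F] K :=
      { toFun := s
        map_one' := huniq 1 1 fun x y => rfl
        map_zero' := huniq 0 0 fun x y => by simp
        map_add' := fun a b => huniq _ _ fun x y => by simp [hs]
        map_mul' := fun a b => huniq _ _ fun x y => by
          rw [mul_comm (s a)]
          simp only [Subalgebra.coe_mul, Module.End.mul_apply]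
          rw [hs, hs]
        commutes' := fun c => huniq _ _ fun x y => by simp [Module.algebraMap_end_apply] }
    have hσ : ∀ h, σ (ι h) = ι h⁻¹ := fun h => huniq _ _ fun x y => by
      conv_rhs => rw [← hBi h]
      rw [show ((ι h⁻¹ : K) : Module.End F V) = ρ h⁻¹ from rfl, ← Module.End.mul_apply (ρ h),
        ← map_mul, mul_inv_cancel, map_one, Module.End.one_apply]
      rfl
    have hσσ : σ * σ = 1 := hgen _ _ fun h => by
      rw [AlgHom.mul_apply, hσ, hσ, inv_inv, AlgHom.one_apply]
    obtain ⟨⟨j, hj⟩, hjσ⟩ := (FiniteField.bijective_frobeniusAlgHom_pow F K).2 σ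
    simp only at hjσ
    have hjn : j < n := hfin ▸ hj
    have hdiv : n ∣ 2 * j := by
      rw [← hfin, ← FiniteField.orderOf_frobeniusAlgHom]
      refine orderOf_dvd_of_pow_eq_one ?_
      rw [two_mul, pow_add, hjσ, hσσ]
    have hval : ∀ h : H, h ^ (Fintype.card F ^ j + 1) = 1 := by
      intro h
      refine hι ?_
      have h1 : ι h ^ (Fintype.card F ^ j) = ι h⁻¹ := by
        rw [← hσ h, ← hjσ, AlgHom.coe_pow, FiniteField.coe_frobeniusAlgHom, pow_iterate]
      rw [map_pow, map_one, pow_succ, h1, ← map_mul, inv_mul_cancel, map_one]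
    have hj0 : j ≠ 0 := by
      rintro rfl
      rw [pow_zero] at hjσ
      have hone : FiniteField.frobeniusAlgHom F K = 1 := hgen _ _ fun h => by
        have h1 : ι h⁻¹ = ι h := by rw [← hσ h, ← hjσ, AlgHom.one_apply]
        have h2 : ι h * ι h = 1 := by
          nth_rw 1 [← h1]
          rw [← map_mul, inv_mul_cancel, map_one]
        rw [AlgHom.one_apply]
        rcases mul_self_eq_one_iff.1 h2 with h3 | h3 <;> rw [h3]
        · exact map_one _
        · rw [map_neg, map_one]
      have := FiniteField.orderOf_frobeniusAlgHom F K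
      rw [hone, orderOf_one] at this
      omega
    obtain ⟨q, hq⟩ := hdiv
    have hq1 : q = 1 := by
      rcases Nat.lt_or_ge q 2 with h | h
      · interval_cases q
        · omega
        · rfl
      · have : n * 2 ≤ n * q := Nat.mul_le_mul_left n h
        omega
    subst hq1
    have hj2 : n / 2 = j := by omega
    refine ⟨⟨j, by omega⟩, ?_⟩
    rw [hj2, ← IsCyclic.exponent_eq_card (α := H)]
    exact Monoid.exponent_dvd_of_forall_pow_eq_one hval
  · set m := n / 2
    let σ : K →ₐ[F] K := FiniteField.frobeniusAlgHom F K ^ m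
    have hσ : ∀ h, σ (ι h) = ι h⁻¹ := fun h => by
      have h1 : h ^ (Fintype.card F ^ m + 1) = 1 :=
        orderOf_dvd_iff_pow_eq_one.1 ((orderOf_dvd_natCard h).trans hdvd)
      rw [pow_succ, mul_eq_one_iff_eq_inv] at h1
      rw [← h1, map_pow, AlgHom.coe_pow, FiniteField.coe_frobeniusAlgHom, pow_iterate]
    refine ⟨(Algebra.traceForm F K).compl₁₂ Le.symm.toLinearMap
      (σ.toLinearMap ∘ₗ Le.symm.toLinearMap), ⟨fun x hx => ?_, fun y hy => ?_⟩, fun h x y => ?_⟩
    · refine Le.symm.map_eq_zero_iff.1 ((traceForm_nondegenerate F K).1 _ fun z => ?_)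
      have hσb : Function.Bijective σ := Finite.injective_iff_bijective.1 σ.injective
      obtain ⟨z', rfl⟩ := hσb.2 z
      have h1 := hx (Le z')
      simpa using h1
    · have h1 : σ (Le.symm y) = 0 := (traceForm_nondegenerate F K).2 _ fun z => by
        have h1 := hy (Le z)
        simpa using h1
      rw [← map_zero σ] at h1
      exact Le.symm.map_eq_zero_iff.1 (σ.injective h1)
    · have hsym : ∀ z, Le.symm (ρ h z) = ι h * Le.symm z := fun z => by
        refine Le.symm_apply_eq.2 ?_
        have h1 : Le (ι h * Le.symm z) = ρ h (Le (Le.symm z)) := rfl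
        rw [h1, Le.apply_symm_apply]
      simp only [LinearMap.compl₁₂_apply, LinearMap.comp_apply, LinearEquiv.coe_coe,
        AlgHom.toLinearMap_apply, hsym, map_mul, hσ, Algebra.traceForm_apply]
      congr 1
      calc ι h * Le.symm x * (ι h⁻¹ * σ (Le.symm y))
          = (ι h * ι h⁻¹) * (Le.symm x * σ (Le.symm y)) := by ring
        _ = Le.symm x * σ (Le.symm y) := by rw [← map_mul, mul_inv_cancel, map_one, one_mul]

end Cfsg.Agent.S4967
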