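import Cfsg.Statements.S4989
import Cfsg.Agent.Lib.KGV.Basic
-- import your own Cfsg.Agent.* helpers here

set_option autoImplicit false
open Cfsg

namespace Cfsg.Agent.S4989

/-- Let H be a subgroup of the finite group G and χ an irreducible complex character of G. Then the inner product of the restriction of χ to H with itself, (1/#H)·Σ_{h ∈ H} |χ(h)|², is at most 1 + #(Z ∖ H)/#H, where Z is the set of zeros of χ in G. -/
theorem result {G : Type*} [Group G] [Finite G] (H : Subgroup G) (χ : Cfsg.IrrCharacter G) : (Nat.card ↥H : ℝ)⁻¹ * ∑ᶠ h : ↥H, ‖(χ : G → ℂ) h‖ ^ 2 ≤ 1 + (Set.ncard ({x : G | (χ : G → ℂ) x = 0} \ (H : Set G)) : ℝ) / (Nat.card ↥H : ℝ) := by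
  classical
  let := Fintype.ofFinite G
  open Cfsg.Agent.Lib in
  have hc := Chars.irr_isCharacter χ
  let s : Finset G := Finset.univ.filter fun g => g ∉ H
  have hs : ∀ k : ℕ, k.Coprime (Nat.card G) → ∀ g ∈ s, g ^ k ∈ s := by
    intro k hk g hg
    simp only [s, Finset.mem_filter, Finset.mem_univ, true_and] at hg ⊢
    obtain ⟨j, hj⟩ := Cfsg.Agent.Lib.KGV.pow_pow_of_coprime hk (Nat.card_pos (α := G))
    intro h
    apply hg
    rw [← hj g pow_card_eq_one']
    exact H.pow_mem h j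
  have h1 := Cfsg.Agent.Lib.GaloisPos.card_ne_zero_le_sum_normSq hc s hs
  have h2 : ∑ g ∈ Finset.univ.filter (fun g => g ∈ H), Complex.normSq ((χ : G → ℂ) g)
      + ∑ g ∈ s, Complex.normSq ((χ : G → ℂ) g) = (Nat.card G : ℝ) := by
    rw [Finset.sum_filter_add_sum_filter_not, Cfsg.Agent.Lib.KGV.sum_normSq_eq_card]
  have h3 : Set.ncard ({x : G | (χ : G → ℂ) x = 0} \ (H : Set G))
      = (s.filter fun g => ¬ (χ : G → ℂ) g ≠ 0).card := by
    rw [← Set.ncard_coe_finset]
    congr 1
    ext g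
    simp [s, and_comm]
  have h4 : (s.filter fun g => (χ : G → ℂ) g ≠ 0).card
      + (s.filter fun g => ¬ (χ : G → ℂ) g ≠ 0).card = s.card :=
    Finset.card_filter_add_card_filter_not _
  have h5 : (Finset.univ.filter fun g => g ∈ H).card + s.card = Nat.card G := by
    rw [Finset.card_filter_add_card_filter_not, Finset.card_univ, Nat.card_eq_fintype_card]
  have h6 : (Finset.univ.filter fun g => g ∈ H).card = Nat.card H := by
    rw [← Fintype.card_subtype, Nat.card_eq_fintype_card]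
  have hH : (0 : ℝ) < Nat.card H := by exact_mod_cast Nat.card_pos
  have h7 : ∑ᶠ h : ↥H, ‖(χ : G → ℂ) h‖ ^ 2
      = ∑ g ∈ Finset.univ.filter (fun g => g ∈ H), Complex.normSq ((χ : G → ℂ) g) := by
    rw [finsum_eq_sum_of_fintype, Finset.sum_subtype (Finset.univ.filter fun g => g ∈ H) (p := fun g => g ∈ H) (fun g => by simp)]
    exact Finset.sum_congr rfl fun h _ => (Complex.normSq_eq_norm_sq _).symm
  rw [h7, h3, inv_mul_le_iff₀ hH, mul_add, mul_one, mul_div_cancel₀ _ hH.ne']
  have h4' : ((s.filter fun g => (χ : G → ℂ) g ≠ 0).card : ℝ)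
      + ((s.filter fun g => ¬ (χ : G → ℂ) g ≠ 0).card : ℝ) = s.card := by exact_mod_cast h4
  have h5' : (Nat.card H : ℝ) + (s.card : ℝ) = Nat.card G := by
    rw [← h6]; exact_mod_cast h5
  linarith

end Cfsg.Agent.S4989
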