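import Cfsg.Statements.S4993
import Cfsg.Agent.Lib.PrimitiveDegree.Metanilpotent

set_option autoImplicit false
open Cfsg

namespace Cfsg.Agent.S4993

open Cfsg.Agent.Lib.PrimitiveDegree in
theorem factorBound_two_primes {G : Type*} [Group G] [Fintype G]
    [(Cfsg.fittingSubgroup G).Normal] (hmeta : Group.IsNilpotent (G ⧸ Cfsg.fittingSubgroup G))
    (p q : ℕ) [Fact p.Prime] [Fact q.Prime]
    (hpq : ∀ r : ℕ, r.Prime → r ∣ Nat.card G → r = p ∨ r = q) (Q : Sylow q G)
    [Fintype (Q : Subgroup G)] :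
    FactorBound p 2 ((Finset.univ : Finset (Q : Subgroup G)).map (Function.Embedding.subtype _))
      {y : G | IsPGroup p (Subgroup.zpowers y)} := by
  intro L _ V hVn hVp hVab hVmin hVnc
  classical
  set C := Subgroup.centralizer (V : Set (G ⧸ L)) with hC
  have hπ : Function.Surjective (QuotientGroup.mk' L) := QuotientGroup.mk'_surjective L
  set F := (Cfsg.fittingSubgroup G).map (QuotientGroup.mk' L) with hF
  haveI hFn : F.Normal := Subgroup.Normal.map inferInstance _ hπ
  haveI : Group.IsNilpotent (Cfsg.fittingSubgroup G) :=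
    Cfsg.Agent.Lib.Fitting.fittingSubgroup_isNilpotent
  haveI : Group.IsNilpotent F := Group.nilpotent_of_surjective _
    ((QuotientGroup.mk' L).subgroupMap_surjective (Cfsg.fittingSubgroup G))
  have hFC : F ≤ C := nilpotent_le_centralizer_minimal hVmin
  haveI : Group.IsNilpotent ((G ⧸ L) ⧸ C) := by
    haveI := hmeta
    refine Group.nilpotent_of_surjective (QuotientGroup.lift (Cfsg.fittingSubgroup G)
      ((QuotientGroup.mk' C).comp (QuotientGroup.mk' L)) ?_) ?_
    · intro x hx
      exact (QuotientGroup.eq_one_iff _).2 (hFC (Subgroup.mem_map.2 ⟨x, hx, rfl⟩))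
    · intro y
      obtain ⟨y, rfl⟩ := QuotientGroup.mk'_surjective C y
      obtain ⟨y, rfl⟩ := hπ y
      exact ⟨(y : G ⧸ Cfsg.fittingSubgroup G), rfl⟩
  have hpq' : ∀ r : ℕ, r.Prime → r ∣ Nat.card (G ⧸ L) → r = p ∨ r = q := fun r hr hd =>
    hpq r hr (hd.trans L.index_dvd_card)
  refine ⟨fun g y hy => ?_, ?_⟩
  · obtain ⟨P, hP⟩ := IsPGroup.exists_le_sylow (p := p) hy
    obtain ⟨hPC, -⟩ := action_of_metanilpotent hpq' hVp hVmin hVnc (P.mapSurjective hπ)
      (Q.mapSurjective hπ)
    have hyC : (y : G ⧸ L) ∈ C := hPC (by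
      rw [Sylow.coe_mapSurjective]
      exact Subgroup.mem_map.2 ⟨y, hP (Subgroup.mem_zpowers y), rfl⟩)
    have hset : V ⊓ Subgroup.centralizer ({((g * y : G) : G ⧸ L)} : Set (G ⧸ L)) =
        V ⊓ Subgroup.centralizer ({(g : G ⧸ L)} : Set (G ⧸ L)) := by
      ext x
      simp only [mem_inf_centralizer_singleton, QuotientGroup.mk_mul]
      refine and_congr_right fun hx => ?_
      have hyx : x * (y : G ⧸ L) = (y : G ⧸ L) * x := Subgroup.mem_centralizer_iff.1 hyC x hx
      rw [mul_assoc, ← hyx, ← mul_assoc, ← mul_assoc, mul_left_inj]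
    rw [fixDef, fixDef, hset]
  · obtain ⟨P⟩ : Nonempty (Sylow p (G ⧸ L)) := inferInstance
    obtain ⟨-, z, hzQ, hz, hzc⟩ := action_of_metanilpotent hpq' hVp hVmin hVnc P
      (Q.mapSurjective hπ)
    rw [Sylow.coe_mapSurjective] at hzQ
    obtain ⟨z₀, hz₀, rfl⟩ := Subgroup.mem_map.1 hzQ
    rw [Finset.sum_map, Finset.card_map, Finset.card_univ, ← Nat.card_eq_fintype_card]
    have hN := normal_inf_centralizer_of_central hzc
    have hbot : V ⊓ Subgroup.centralizer ({QuotientGroup.mk' L z₀} : Set (G ⧸ L)) = ⊥ :=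
      (hVmin _ hN inf_le_left).resolve_right fun h => hz
        (Subgroup.mem_centralizer_iff.2 fun w hw => by
          have hw' : w ∈ V ⊓ Subgroup.centralizer ({QuotientGroup.mk' L z₀} : Set (G ⧸ L)) := by
            rw [h]; exact hw
          exact (mem_inf_centralizer_singleton.1 hw').2.symm)
    rw [← fixDef_of_bot hbot]
    calc Nat.card (Q : Subgroup G) * fixDef p V (z₀ : G ⧸ L)
        = ∑ _s : (Q : Subgroup G), fixDef p V (z₀ : G ⧸ L) := by
          rw [Finset.sum_const, Finset.card_univ, smul_eq_mul, Nat.card_eq_fintype_card]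
      _ ≤ ∑ s : (Q : Subgroup G),
            (fixDef p V ((s : G) : G ⧸ L) + fixDef p V (((s : G) : G ⧸ L) * (z₀ : G ⧸ L))) :=
          Finset.sum_le_sum fun s _ => fixDef_triangle hVp _ _
      _ = _ := by
          rw [Finset.sum_add_distrib, two_mul]
          congr 1
          exact Fintype.sum_equiv (Equiv.mulRight (⟨z₀, hz₀⟩ : (Q : Subgroup G))) _ _
            fun s => by simp [QuotientGroup.mk_mul]

open Cfsg.Agent.Lib.PrimitiveDegree in
theorem exists_good {G : Type*} [Group G] [Fintype G] [Group.IsSolvable G]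
    [(Cfsg.fittingSubgroup G).Normal] (hmeta : Group.IsNilpotent (G ⧸ Cfsg.fittingSubgroup G))
    (χ : Cfsg.IrrCharacter G)
    (hprim : ¬ ∃ (H : Subgroup G), H ≠ ⊤ ∧ ∃ θ : ↥H → ℂ, Cfsg.IsCharacter ↥H θ ∧
      Cfsg.indFun H θ = (χ : G → ℂ))
    (p q : ℕ) [Fact p.Prime] [Fact q.Prime]
    (hpq : ∀ r : ℕ, r.Prime → r ∣ Nat.card G → r = p ∨ r = q) :
    ∃ (D : G → ℕ) (x : G), IsPGroup q (Subgroup.zpowers x) ∧
      (∀ g, D g ≤ (Subgroup.centralizer ({g} : Set G)).index.factorization p) ∧
      (∀ g y, IsPGroup p (Subgroup.zpowers y) → D (g * y) = D g) ∧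
      (Cfsg.charDegree (χ : G → ℂ)).factorization p ≤ D x := by
  classical
  obtain ⟨Q⟩ : Nonempty (Sylow q G) := inferInstance
  have := Fintype.ofFinite (Q : Subgroup G)
  obtain ⟨D, h1, h2, h3⟩ :=
    exists_deficiency_top χ hprim (factorBound_two_primes hmeta p q hpq Q)
  rw [Finset.sum_map, Finset.card_map, Finset.card_univ] at h3
  obtain ⟨x, -, hx⟩ := Finset.exists_max_image (Finset.univ : Finset (Q : Subgroup G))
    (fun s => D (s : G)) Finset.univ_nonempty
  refine ⟨D, x, Q.2.to_le (Subgroup.zpowers_le.2 x.2), h1, fun g y hy => h2 g y hy, ?_⟩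
  have h4 : ∑ s : (Q : Subgroup G), D (s : G) ≤ Fintype.card (Q : Subgroup G) * D x := by
    rw [← smul_eq_mul, ← Finset.card_univ, ← Finset.sum_const]
    exact Finset.sum_le_sum fun s hs => hx s hs
  have hmul : 2 * Fintype.card (Q : Subgroup G) * (Cfsg.charDegree (χ : G → ℂ)).factorization p ≤
      2 * Fintype.card (Q : Subgroup G) * D x := by
    calc _ ≤ 2 * ∑ s : (Q : Subgroup G), D (s : G) := h3
      _ ≤ 2 * (Fintype.card (Q : Subgroup G) * D x) := Nat.mul_le_mul_left _ h4
      _ = _ := by ring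
  exact Nat.le_of_mul_le_mul_left hmul
    (Nat.mul_pos two_pos (Fintype.card_pos (α := (Q : Subgroup G))))

open Cfsg.Agent.Lib.PrimitiveDegree in
theorem factorization_eq_zero {G : Type*} [Group G] [Fintype G] [Group.IsSolvable G]
    (χ : Cfsg.IrrCharacter G)
    (hprim : ¬ ∃ (H : Subgroup G), H ≠ ⊤ ∧ ∃ θ : ↥H → ℂ, Cfsg.IsCharacter ↥H θ ∧
      Cfsg.indFun H θ = (χ : G → ℂ))
    (r : ℕ) [Fact r.Prime] (hr : ¬ r ∣ Nat.card G) :
    (Cfsg.charDegree (χ : G → ℂ)).factorization r = 0 := by
  classical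
  obtain ⟨D, h1, -, h3⟩ := exists_deficiency_top χ hprim (p := r) (c := 1) (S := {1})
    (P := (∅ : Set G)) (by
      intro L _ V _ hVp _ _ hVnc
      refine absurd ?_ hVnc
      obtain ⟨k, hk⟩ := IsPGroup.iff_card.1 hVp
      rcases Nat.eq_zero_or_pos k with rfl | hk0
      · rw [pow_zero, Subgroup.card_eq_one] at hk
        rw [hk]
        exact bot_le
      · refine absurd ((dvd_pow_self r hk0.ne').trans ?_) hr
        rw [← hk]
        exact V.card_subgroup_dvd_card.trans L.index_dvd_card)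
  rw [Finset.sum_singleton, Finset.card_singleton] at h3
  have h4 := h1 1
  have h5 : (Subgroup.centralizer ({1} : Set G)).index.factorization r = 0 :=
    Nat.factorization_eq_zero_of_not_dvd fun h => hr (h.trans (Subgroup.index_dvd_card _))
  omega

/-- Let G be a group of odd order whose order has exactly two prime divisors and whose quotient by its Fitting subgroup is nilpotent (G is metanilpotent), and let χ be a primitive irreducible complex character of G (not induced from a character of any proper subgroup). Then χ(1) divides the size of some conjugacy class of G. -/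
theorem result {G : Type*} [Group G] [Fintype G] (hodd : Odd (Nat.card G)) (h2 : (Nat.card G).primeFactors.card = 2) [hF : (Cfsg.fittingSubgroup G).Normal] (hmeta : Group.IsNilpotent (G ⧸ Cfsg.fittingSubgroup G)) (χ : Cfsg.IrrCharacter G) (hprim : ¬ ∃ (H : Subgroup G), H ≠ ⊤ ∧ ∃ θ : ↥H → ℂ, Cfsg.IsCharacter ↥H θ ∧ Cfsg.indFun H θ = (χ : G → ℂ)) : ∃ g : G, Cfsg.charDegree (χ : G → ℂ) ∣ (Subgroup.centralizer ({g} : Set G)).index := by
  classical
  haveI : Group.IsNilpotent (Cfsg.fittingSubgroup G) :=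
    Cfsg.Agent.Lib.Fitting.fittingSubgroup_isNilpotent
  haveI := hmeta
  haveI : Group.IsSolvable G :=
    solvable_of_ker_le_range (Cfsg.fittingSubgroup G).subtype
      (QuotientGroup.mk' (Cfsg.fittingSubgroup G))
      (by rw [QuotientGroup.ker_mk', Subgroup.range_subtype])
  obtain ⟨p, q, hne, hset⟩ := Finset.card_eq_two.1 h2
  have hp : p.Prime := Nat.prime_of_mem_primeFactors (n := Nat.card G) (by rw [hset]; simp)
  have hq : q.Prime := Nat.prime_of_mem_primeFactors (n := Nat.card G) (by rw [hset]; simp)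
  haveI := Fact.mk hp
  haveI := Fact.mk hq
  have hpq : ∀ r : ℕ, r.Prime → r ∣ Nat.card G → r = p ∨ r = q := by
    intro r hr hd
    have : r ∈ (Nat.card G).primeFactors :=
      Nat.mem_primeFactors.2 ⟨hr, hd, Nat.card_pos.ne'⟩
    rw [hset, Finset.mem_insert, Finset.mem_singleton] at this
    exact this
  obtain ⟨D₁, x, hx, h11, h12, h13⟩ := exists_good hmeta χ hprim p q hpq
  obtain ⟨D₂, y, hy, h21, h22, h23⟩ :=
    exists_good hmeta χ hprim q p (fun r hr hd => (hpq r hr hd).symm)
  refine ⟨x * y, (Nat.factorization_le_iff_dvd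
    (Lib.Chars.charDegree_spec χ).1.ne' Subgroup.FiniteIndex.index_ne_zero).1 fun r => ?_⟩
  by_cases hr : r.Prime
  swap
  · rw [Nat.factorization_eq_zero_of_not_prime _ hr]
    exact Nat.zero_le _
  haveI := Fact.mk hr
  by_cases hd : r ∣ Nat.card G
  swap
  · rw [factorization_eq_zero χ hprim r hd]
    exact Nat.zero_le _
  rcases hpq r hr hd with rfl | rfl
  · exact h13.trans ((h12 x y hy).symm.le.trans (h11 (x * y)))
  · have hx' : IsPGroup r (Subgroup.zpowers (y⁻¹ * x * y)) := by
      have h := hx.map (MulAut.conj y⁻¹).toMonoidHom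
      rw [MonoidHom.map_zpowers, MulEquiv.coe_toMonoidHom, MulAut.conj_apply, inv_inv] at h
      exact h
    have h := h22 y (y⁻¹ * x * y) hx'
    rw [show y * (y⁻¹ * x * y) = x * y by group] at h
    exact h23.trans (h.symm.le.trans (h21 (x * y)))

end Cfsg.Agent.S4993
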