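import Cfsg.Statements.S4994
import Cfsg.Agent.Lib.PrimitiveDegree.Main

set_option autoImplicit false
open Cfsg

namespace Cfsg.Agent.S4994

open Cfsg.Agent.Lib.PrimitiveDegree in
theorem sum_coe_quotient {G : Type*} [Group G] [Fintype G] (L : Subgroup G) [L.Normal]
    [Fintype (G ⧸ L)] (f : G ⧸ L → ℕ) :
    ∑ g : G, f (g : G ⧸ L) = Nat.card L * ∑ h : G ⧸ L, f h := by
  classical
  have := Fintype.ofFinite L
  rw [show (∑ g : G, f (g : G ⧸ L)) = ∑ x : (G ⧸ L) × L, f x.1 from
      Fintype.sum_equiv (Subgroup.groupEquivQuotientProdSubgroup (s := L)) _ _ fun g => rfl,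
    Fintype.sum_prod_type, Finset.mul_sum]
  exact Finset.sum_congr rfl fun h _ => by
    show (∑ _y : L, f h) = _
    rw [Finset.sum_const, Finset.card_univ, smul_eq_mul, Nat.card_eq_fintype_card]

open Cfsg.Agent.Lib.PrimitiveDegree in
theorem factorBound_solvable {G : Type*} [Group G] [Fintype G] [Group.IsSolvable G]
    (p : ℕ) [Fact p.Prime] : FactorBound p 4 (Finset.univ : Finset G) (∅ : Set G) := by
  intro L _ V hVn hVp hVab hVmin hVnc
  classical
  refine ⟨fun g y hy => absurd hy (Set.notMem_empty y), ?_⟩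
  have := Fintype.ofFinite (G ⧸ L)
  have : Group.IsSolvable (G ⧸ L) := inferInstance
  have h := solvable_average hVp hVab hVmin hVnc
  rw [sum_coe_quotient L fun x => fixDef p V x, Finset.card_univ, ← Nat.card_eq_fintype_card,
    L.card_eq_card_quotient_mul_card_subgroup]
  rw [← Nat.card_eq_fintype_card] at h
  calc Nat.card (G ⧸ L) * Nat.card L * (Nat.card V).factorization p
      = Nat.card L * (Nat.card (G ⧸ L) * (Nat.card V).factorization p) := by ring
    _ ≤ Nat.card L * (4 * ∑ h : G ⧸ L, fixDef p V h) := Nat.mul_le_mul_left _ h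
    _ = _ := by ring

/-- Let G be a finite solvable group, χ a primitive irreducible complex character of G (not induced from a character of any proper subgroup) and p a prime dividing the order of G. Then there is an element g of G such that the p-part of χ(1) divides the cube of the p-part of the size of the conjugacy class of g. -/
theorem result {G : Type*} [Group G] [Fintype G] (hsolv : Group.IsSolvable G) (χ : Cfsg.IrrCharacter G) (hprim : ¬ ∃ (H : Subgroup G), H ≠ ⊤ ∧ ∃ θ : ↥H → ℂ, Cfsg.IsCharacter ↥H θ ∧ Cfsg.indFun H θ = (χ : G → ℂ)) (p : ℕ) [Fact p.Prime] (hp : p ∣ Nat.card G) : ∃ g : G, (Cfsg.charDegree (χ : G → ℂ)).factorization p ≤ 3 * ((Subgroup.centralizer ({g} : Set G)).index).factorization p := by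
  classical
  haveI := hsolv
  obtain ⟨D, hD, -, hsum⟩ :=
    Cfsg.Agent.Lib.PrimitiveDegree.exists_deficiency_top χ hprim (factorBound_solvable (G := G) p)
  obtain ⟨g, -, hg⟩ := Finset.exists_max_image (Finset.univ : Finset G) D Finset.univ_nonempty
  refine ⟨g, ?_⟩
  have h1 : ∑ s : G, D s ≤ Fintype.card G * D g := by
    rw [← smul_eq_mul, ← Finset.card_univ, ← Finset.sum_const]
    exact Finset.sum_le_sum fun s hs => hg s hs
  rw [Finset.card_univ] at hsum
  have h2 : Fintype.card G * (2 * (Cfsg.charDegree (χ : G → ℂ)).factorization p) ≤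
      Fintype.card G * (4 * D g) := by nlinarith
  have h3 := Nat.le_of_mul_le_mul_left h2 Fintype.card_pos
  have h4 := hD g
  omega

end Cfsg.Agent.S4994
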