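import Cfsg.Statements.S4997
import Cfsg.Agent.Lib.VanishingP.Main
import Cfsg.Agent.Lib.LocalChar.Core
-- import your own Cfsg.Agent.* helpers here

set_option autoImplicit false
open Cfsg

namespace Cfsg.Agent.S4997

/-- Let p be an odd prime and G a finite solvable group with exactly one conjugacy class consisting of vanishing elements (elements at which some irreducible complex character is zero) of order divisible by p. Let P be a Sylow p-subgroup of G. Then the order of P is at most p times the order of the largest normal p-subgroup of G. -/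
theorem result {G : Type*} [Group G] [Finite G] (hsolv : Group.IsSolvable G) (p : ℕ) [Fact p.Prime] (hp : p ≠ 2) (h1 : Set.ncard {C : ConjClasses G | (∀ g ∈ C.carrier, ∃ χ : Cfsg.IrrCharacter G, (χ : G → ℂ) g = 0) ∧ ∃ g ∈ C.carrier, p ∣ orderOf g} = 1) (P : Sylow p G) : Nat.card ↥(P : Subgroup G) ≤ p * Nat.card ↥(Cfsg.pCore p G) := by
  have hyp : Cfsg.Agent.Lib.VanishingP.OneVanOrder p G := by
    obtain ⟨C, hC⟩ := Set.ncard_eq_one.mp h1
    have key : ∀ x : G, Cfsg.Agent.Lib.VanishingP.Van x → p ∣ orderOf x →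
        ConjClasses.mk x = C := by
      rintro x ⟨χ, hχ⟩ hx
      refine Set.mem_singleton_iff.mp (hC.subset ⟨fun g hg => ⟨χ, ?_⟩, x, ConjClasses.mem_carrier_mk, hx⟩)
      obtain ⟨c, rfl⟩ := isConj_iff.mp
        (ConjClasses.mk_eq_mk_iff_isConj.mp (ConjClasses.mem_carrier_iff_mk_eq.mp hg)).symm
      rw [Cfsg.Agent.Lib.Chars.irr_isClassFunction χ x c, hχ]
    intro g g' hg hg' hd hd'
    obtain ⟨c, rfl⟩ := isConj_iff.mp
      (ConjClasses.mk_eq_mk_iff_isConj.mp ((key g hg hd).trans (key g' hg' hd').symm))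
    rw [← MulAut.conj_apply, MulEquiv.orderOf_eq]
  have hdvd := Cfsg.Agent.Lib.VanishingP.card_map_sylow_dvd hyp P
  have h2 := Subgroup.relIndex_ker (QuotientGroup.mk' (Cfsg.pCore p G))
    (K := (P : Subgroup G))
  rw [QuotientGroup.ker_mk'] at h2
  rw [← Cfsg.Agent.Lib.PSolvable.card_mul_relIndex
    (Cfsg.Agent.Lib.PSolvable.pCore_le_sylow P), h2, mul_comm]
  exact Nat.mul_le_mul_right _ (Nat.le_of_dvd (Fact.out : p.Prime).pos hdvd)

end Cfsg.Agent.S4997
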