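import Cfsg.Statements.S5001
import Cfsg.Agent.Lib.KGV.CycComb
import Cfsg.Agent.Lib.Chars.Integral
import Cfsg.Agent.Lib.Blocks.BlockOrth
-- import your own Cfsg.Agent.* helpers here

set_option autoImplicit false
open Cfsg

namespace Cfsg.Agent.S5001

open Cfsg.Agent.Lib

theorem charDegree_eq {G : Type*} [Group G] (χ : IrrCharacter G) :
    ((charDegree (χ : G → ℂ) : ℕ) : ℂ) = (χ : G → ℂ) 1 ∧ charDegree (χ : G → ℂ) ≠ 0 := by
  obtain ⟨n, hn, he⟩ := Chars.isIrrCharacter_exists_degree_pos χ.2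
  have : charDegree (χ : G → ℂ) = n := by rw [charDegree, he]; simp
  exact ⟨by rw [this, he], by omega⟩

/-- An element of the centre on which the character is scalar. -/
theorem char_mul_scalar {G : Type*} [Group G] [Finite G] (χ : IrrCharacter G) (z : G) (c : ℂ)
    (hc : ‖c‖ = 1) (h : (χ : G → ℂ) z = (χ : G → ℂ) 1 * c) (x : G) :
    (χ : G → ℂ) (x * z) = c * (χ : G → ℂ) x := by
  obtain ⟨n, ρ, hρ, hρχ⟩ := χ.2
  rw [← hρχ] at h ⊢
  have hn := Chars.finrank_pos_of_isIrreducible ρ
  obtain ⟨ω, hω⟩ := (Chars.norm_char_eq_iff ρ z).mp (by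
    rw [h, ρ.char_one, norm_mul, hc, mul_one, Complex.norm_natCast])
  have hωc : ω = c := by
    have h1 : ρ.character z = ω * (Module.finrank ℂ (Fin n → ℂ) : ℂ) := by
      show LinearMap.trace ℂ _ (ρ z) = _
      rw [hω, map_smul, LinearMap.trace_id, smul_eq_mul]
    rw [h, ρ.char_one, mul_comm] at h1
    exact (mul_right_cancel₀ (Nat.cast_ne_zero.mpr hn.ne') h1).symm
  show LinearMap.trace ℂ _ (ρ (x * z)) = c * LinearMap.trace ℂ _ (ρ x)
  rw [map_mul, hω, ← Module.End.one_eq_id, mul_smul_comm, mul_one, map_smul, smul_eq_mul, hωc]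

/-- Let p be a prime, G a finite group and B a p-block of G (relative to a maximal ideal M of the algebraic integers containing p) with defect group D. Let Z be a central p-subgroup of G contained in D and λ a linear character of Z (a homomorphism to the nonzero complex numbers). Say an irreducible character χ of G lies over λ when χ(z) = χ(1)λ(z) for all z ∈ Z. If some irreducible character in B lying over λ has height zero, then λ extends to a linear character of D. -/
theorem result {G : Type*} [Group G] [Finite G] (p : ℕ) [Fact p.Prime] (M : Ideal Cfsg.AlgInt) (hM : Cfsg.IsPModular p M) (B : Set (Cfsg.IrrCharacter G)) (hB : Cfsg.IsPBlock M B) (D : Subgroup G) (hD : Cfsg.IsDefectGroup p M B D) (Z : Subgroup G) (hZc : Z ≤ Subgroup.center G) (hZp : IsPGroup p ↥Z) (hZD : Z ≤ D) (lam : ↥Z →* ℂˣ) (χ : Cfsg.IrrCharacter G) (hχ : χ ∈ B) (hover : (∀ z : ↥Z, (χ : G → ℂ) z = (χ : G → ℂ) 1 * (lam z : ℂ))) (h0 : Cfsg.blockHeight p B (χ : G → ℂ) = 0) : (∃ μ : ↥D →* ℂˣ, ∀ z :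 ↥Z, μ ⟨(z : G), hZD z.2⟩ = lam z) := by
  classical
  have hMp : M.IsPrime := Cfsg.Agent.Lib.Blocks.isPModular_isPrime hM
  obtain ⟨g, ⟨hcR, hcU, hω⟩, P, hDeq⟩ := hD
  let := Fintype.ofFinite G
  let := Fintype.ofFinite D
  have hDcomm : ∀ u ∈ D, u * g = g * u := by
    intro w hw
    rw [hDeq] at hw
    obtain ⟨u, -, rfl⟩ := hw
    exact Subgroup.mem_centralizer_singleton_iff.mp u.2
  have hDp : IsPGroup p D := by rw [hDeq]; exact P.2.map _
  have hDcard : Nat.card D = Nat.card (P : Subgroup (Subgroup.centralizer ({g} : Set G))) := by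
    rw [hDeq]
    exact Nat.card_congr (Subgroup.equivMapOfInjective _ _ (Subgroup.centralizer ({g} : Set G)).subtype_injective).toEquiv.symm
  -- the `p`-parts
  set d := (Nat.card (Subgroup.centralizer ({g} : Set G))).factorization p with hd
  set a := (Nat.card G).factorization p with ha
  have hDd : Nat.card D = p ^ d := by rw [hDcard, P.card_eq_multiplicity]
  have hcl : (Subgroup.centralizer ({g} : Set G)).index.factorization p + d = a := by
    have h1 := (Subgroup.centralizer ({g} : Set G)).card_mul_index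
    rw [ha, ← h1, Nat.factorization_mul Nat.card_pos.ne' (Subgroup.centralizer ({g} : Set G)).index_ne_zero_of_finite]
    simp [hd, add_comm]
  -- the function `u ↦ χ (u * g)` on `D`
  let F : Cfsg.IrrCharacter G → D → ℂ := fun ψ u => (ψ : G → ℂ) ((u : G) * g)
  have hF : ∀ ψ, Cfsg.Agent.Lib.KGV.IsCycComb (F ψ) := fun ψ =>
    Cfsg.Agent.Lib.KGV.isCycComb_mul_commuting (Chars.irr_isCharacter ψ) D g hDcomm
  have hint : ∀ ψ θ, IsIntegral ℤ (classInner (F ψ) ((θ : Cfsg.IrrCharacter D) : D → ℂ)) :=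
    fun ψ θ => Cfsg.Agent.Lib.KGV.isIntegral_of_mem_cycInt
      (Cfsg.Agent.Lib.KGV.isCycComb_classInner_mem (hF ψ) θ)
  -- `g` is `p`-regular and products with non-trivial elements of `D` are `p`-singular
  have hgreg : ¬ p ∣ orderOf g := fun h => hcU (by
    rw [Blocks.blockCoeff_eq_zero_of_pSingular hM hB h]; exact Blocks.memLocalIdeal_zero)
  have hsing : ∀ u : D, u ≠ 1 → blockCoeff B ((u : G) * g) = 0 := by
    intro u hu
    apply Blocks.blockCoeff_eq_zero_of_pSingular hM hB
    obtain ⟨k, hk⟩ := IsPGroup.iff_orderOf.mp hDp u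
    rw [← Subgroup.orderOf_coe] at hk
    have hk0 : k ≠ 0 := fun h => hu (Subtype.ext (orderOf_eq_one_iff.mp (by rw [hk, h, pow_zero])))
    rw [Commute.orderOf_mul_eq_mul_orderOf_of_coprime (hDcomm u u.2) (by
      rw [hk]; exact Nat.Coprime.pow_left _ ((Fact.out : p.Prime).coprime_iff_not_dvd.mpr hgreg)), hk]
    exact dvd_mul_of_dvd_left (dvd_pow_self p hk0) _
  -- some member of the block has small `p`-part of the degree
  have hex : ∃ ψ ∈ B, (charDegree ((ψ : Cfsg.IrrCharacter G) : G → ℂ)).factorization p + d ≤ a := by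
    by_contra! hlt
    apply hcU
    have hsum : blockCoeff B g = ∑ u : D, blockCoeff B ((u : G) * g) := by
      rw [Finset.sum_eq_single_of_mem 1 (Finset.mem_univ _) fun u _ hu => hsing u hu]
      simp
    rw [hsum]
    simp only [Blocks.blockCoeff_eq_sum, ← Finset.mul_sum]
    rw [Finset.sum_comm, Finset.mul_sum]
    refine Blocks.memLocalIdeal_sum _ _ fun ψ _ => ?_
    by_cases hψ : ψ ∈ B
    · simp only [hψ, if_true, ← Finset.mul_sum]
      have hz : ∑ u : D, (starRingEnd ℂ) ((ψ : G → ℂ) ((u : G) * g)) =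
          (Nat.card D : ℂ) * (starRingEnd ℂ) (classInner (F ψ) (Chars.trivialIrr D : D → ℂ)) := by
        rw [classInner, map_mul, map_inv₀, map_natCast, mul_inv_cancel_left₀ Chars.natCard_ne_zero,
          map_sum]
        exact Finset.sum_congr rfl fun u _ => by simp [F, Chars.trivialIrr]
      rw [hz, ← (charDegree_eq ψ).1, ← mul_assoc, ← mul_assoc]
      refine Blocks.memLocalIdeal_mul_right ?_
        (Blocks.mem_localRing.mp (Blocks.isIntegral_mem_localRing
          (Chars.isIntegral_conj (hint _ _))))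
      rw [inv_mul_eq_div, div_mul_eq_mul_div, ← Nat.cast_mul]
      refine Blocks.memLocalIdeal_natCast_div hM Nat.card_pos.ne' ?_
      rw [Nat.factorization_mul (charDegree_eq ψ).2 Nat.card_pos.ne', hDd,
        (Fact.out : p.Prime).factorization_pow]
      rw [Finsupp.add_apply, Finsupp.single_eq_same]
      exact hlt ψ hψ
    · simp [hψ, Blocks.memLocalIdeal_zero]
  obtain ⟨ψ₀, hψ₀, hle₀⟩ := hex
  have hv : (charDegree (χ : G → ℂ)).factorization p ≤ (Subgroup.centralizer ({g} : Set G)).index.factorization p := by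
    have h1 : (charDegree (χ : G → ℂ)).factorization p ≤
        (charDegree (ψ₀ : G → ℂ)).factorization p :=
      (Nat.sub_eq_zero_iff_le.mp h0).trans (Nat.sInf_le ⟨ψ₀, hψ₀, rfl⟩)
    omega
  have hunit : ¬ MemLocalIdeal M ((χ : G → ℂ) g) := by
    intro hbad
    apply hω χ hχ
    rw [centralChar, ← (charDegree_eq χ).1, mul_comm ((Subgroup.centralizer ({g} : Set G)).index : ℂ), mul_div_assoc]
    exact Blocks.memLocalIdeal_mul_right hbad (Blocks.mem_localRing.mp
      (Blocks.natCast_div_mem_localRing hM (charDegree_eq χ).2 (Or.inl hv)))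
  -- a linear constituent
  have hθ : ∃ θ : Cfsg.IrrCharacter D, classInner (F χ) (θ : D → ℂ) ≠ 0 ∧ (θ : D → ℂ) 1 = 1 := by
    by_contra! hno
    apply hunit
    have h1 := congrFun (Chars.isClassFunction_eq_sum_classInner
      (Cfsg.Agent.Lib.KGV.isCycComb_isClassFunction (hF χ))) 1
    simp only [F, OneMemClass.coe_one, one_mul, Finset.sum_apply, Pi.smul_apply, smul_eq_mul] at h1
    rw [h1]
    refine Blocks.memLocalIdeal_sum _ _ fun θ _ => ?_
    by_cases hc0 : classInner (F χ) (θ : D → ℂ) = 0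
    · rw [hc0, zero_mul]; exact Blocks.memLocalIdeal_zero
    obtain ⟨n, hn, hθ1, hdvd⟩ := Chars.irr_degree_dvd_card θ
    rw [hθ1]
    refine Blocks.memLocalIdeal_mul_left
      (Blocks.mem_localRing.mp (Blocks.isIntegral_mem_localRing (hint χ θ))) ?_
    rw [Blocks.memLocalIdeal_natCast_iff hM]
    rw [hDd] at hdvd
    obtain ⟨j, -, rfl⟩ := (Nat.dvd_prime_pow (Fact.out : p.Prime)).mp hdvd
    rcases Nat.eq_zero_or_pos j with rfl | hj
    · exact absurd (by simpa using hθ1) (hno θ hc0)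
    · exact dvd_pow_self p hj.ne'
  obtain ⟨θ, hθc, hθ1⟩ := hθ
  obtain ⟨μ, hμ⟩ := Chars.exists_hom_of_degree_one (Chars.irr_isCharacter θ) hθ1
  refine ⟨μ, fun z => ?_⟩
  have hnorm : ‖(lam z : ℂ)‖ = 1 := Chars.norm_hom_apply lam z
  let zD : D := ⟨(z : G), hZD z.2⟩
  have hshift : ∀ u : D, F χ (u * zD) = (lam z : ℂ) * F χ u := by
    intro u
    have hzc : ∀ y : G, y * (z : G) = (z : G) * y := Subgroup.mem_center_iff.mp (hZc z.2)
    show (χ : G → ℂ) ((u : G) * (z : G) * g) = (lam z : ℂ) * (χ : G → ℂ) ((u : G) * g)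
    rw [mul_assoc, ← hzc g, ← mul_assoc]
    exact char_mul_scalar χ z _ hnorm (hover z) _
  have hkey : classInner (F χ) (θ : D → ℂ) =
      (lam z : ℂ) * (starRingEnd ℂ) (μ zD : ℂ) * classInner (F χ) (θ : D → ℂ) := by
    conv_lhs => rw [classInner, ← Equiv.sum_comp (Equiv.mulRight zD)]
    rw [classInner, mul_left_comm]
    congr 1
    rw [Finset.mul_sum]
    refine Finset.sum_congr rfl fun u _ => ?_
    have hμ' : ∀ w : D, (θ : D → ℂ) w = (μ w : ℂ) := fun w => by rw [hμ]
    simp only [Equiv.coe_mulRight, hshift, hμ', map_mul, Units.val_mul]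
    ring
  have h1 : (lam z : ℂ) * (starRingEnd ℂ) (μ zD : ℂ) = 1 :=
    (mul_left_eq_self₀.mp hkey.symm).resolve_right hθc
  apply Units.ext
  have hn2 : ‖(μ zD : ℂ)‖ = 1 := Chars.norm_hom_apply μ zD
  rw [← Complex.inv_eq_conj hn2] at h1
  exact ((mul_inv_eq_one₀ (μ zD).ne_zero).mp h1).symm

end Cfsg.Agent.S5001
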