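import Cfsg.Statements.S5011
import Mathlib
-- import your own Cfsg.Agent.* helpers here

set_option autoImplicit false
open Cfsg

namespace Cfsg.Agent.S5011

/-- Let G be a finite non-abelian simple group and ρ an irreducible complex representation of G on a space of dimension greater than one (irreducible in the sense that the only subspaces invariant under every ρ(x) are 0 and the whole space). Then for every non-identity element g of G, the centralizer of g does not act irreducibly: there is a non-zero proper subspace invariant under ρ(c) for every c commuting with g. -/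
theorem result {G : Type*} [Group G] [Finite G] [IsSimpleGroup G]
    (hG : ¬ IsMulCommutative G) {V : Type*} [AddCommGroup V] [Module ℂ V] [FiniteDimensional ℂ V]
    (ρ : Representation ℂ G V)
    (hirr : ∀ W : Submodule ℂ V, (∀ x : G, ∀ v ∈ W, ρ x v ∈ W) → W = ⊥ ∨ W = ⊤)
    (hdim : 1 < Module.finrank ℂ V) (g : G) (hg : g ≠ 1) :
    ∃ W : Submodule ℂ V, W ≠ ⊥ ∧ W ≠ ⊤ ∧ ∀ c ∈ Subgroup.centralizer ({g} : Set G), ∀ v ∈ W, ρ c v ∈ W := by
  classical
  by_contra hno
  push Not at hno
  have hnt : Nontrivial V := Module.nontrivial_of_finrank_pos (R := ℂ) (by omega)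
  -- an operator commuting with an irreducible family is scalar
  have schur : ∀ (f : Module.End ℂ V) (S : Set G), (∀ c ∈ S, Commute (ρ c) f) →
      (∀ W : Submodule ℂ V, (∀ c ∈ S, ∀ v ∈ W, ρ c v ∈ W) → W = ⊥ ∨ W = ⊤) →
      ∃ μ : ℂ, f = μ • (1 : Module.End ℂ V) := by
    intro f S hS hW
    obtain ⟨μ, hμ⟩ := Module.End.exists_eigenvalue f
    rcases hW (Module.End.eigenspace f μ) (fun c hc v hv => by
        rw [Module.End.mem_eigenspace_iff] at hv ⊢
        have h1 := LinearMap.congr_fun (hS c hc).eq v
        simp only [Module.End.mul_apply] at h1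
        rw [← h1, hv, map_smul]) with h | h
    · exact absurd h hμ
    · refine ⟨μ, LinearMap.ext fun v => ?_⟩
      have : v ∈ Module.End.eigenspace f μ := h ▸ Submodule.mem_top
      simpa using Module.End.mem_eigenspace_iff.mp this
  have hWC : ∀ W : Submodule ℂ V,
      (∀ c ∈ Subgroup.centralizer ({g} : Set G), ∀ v ∈ W, ρ c v ∈ W) → W = ⊥ ∨ W = ⊤ := by
    intro W hW
    by_cases h0 : W = ⊥
    · exact Or.inl h0
    by_cases h1 : W = ⊤
    · exact Or.inr h1
    obtain ⟨c, hc, v, hv, hn⟩ := hno W h0 h1
    exact absurd (hW c hc v hv) hn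
  obtain ⟨μ, hμ⟩ := schur (ρ g) _ (fun c hc => by
    have := (Subgroup.mem_centralizer_singleton_iff.mp hc)
    exact Commute.map (show Commute c g from this) ρ) hWC
  let N : Subgroup G :=
    { carrier := {x | ∀ f : Module.End ℂ V, Commute (ρ x) f}
      one_mem' := fun f => by rw [map_one]; exact Commute.one_left f
      mul_mem' := fun {a b} ha hb f => by rw [map_mul]; exact (ha f).mul_left (hb f)
      inv_mem' := fun {a} ha f => by
        have h1 : ρ a⁻¹ * ρ a = 1 := by rw [← map_mul]; simp
        have h2 : ρ a * ρ a⁻¹ = 1 := by rw [← map_mul]; simp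
        show ρ a⁻¹ * f = f * ρ a⁻¹
        calc ρ a⁻¹ * f = ρ a⁻¹ * (f * (ρ a * ρ a⁻¹)) := by rw [h2, mul_one]
          _ = ρ a⁻¹ * (ρ a * f) * ρ a⁻¹ := by rw [(ha f).eq]; simp only [mul_assoc]
          _ = f * ρ a⁻¹ := by rw [← mul_assoc, h1, one_mul] }
  have hN : N.Normal := ⟨fun a ha y f => by
    have e : ρ (y * a * y⁻¹) = ρ a := by
      rw [map_mul, map_mul, ← (ha (ρ y)).eq, mul_assoc, ← map_mul, mul_inv_cancel, map_one,
        mul_one]
    rw [e]; exact ha f⟩
  have hgN : g ∈ N := fun f => by rw [hμ]; exact (Commute.one_left f).smul_left μ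
  have htop : N = ⊤ := (hN.eq_bot_or_eq_top).resolve_left fun h => hg (by
    rw [h] at hgN; simpa using hgN)
  have hsc : ∀ x : G, ∃ c : ℂ, ρ x = c • (1 : Module.End ℂ V) := fun x =>
    schur (ρ x) Set.univ (fun c _ => by
      have hx : x ∈ N := htop ▸ Subgroup.mem_top x
      exact (hx (ρ c)).symm) fun W hW => hirr W fun y => hW y trivial
  obtain ⟨v, hv⟩ := exists_ne (0 : V)
  rcases hirr (Submodule.span ℂ {v}) (fun x w hw => by
    obtain ⟨c, hc⟩ := hsc x
    rw [hc]
    exact Submodule.smul_mem _ c hw) with h | h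
  · exact hv (by simpa using h)
  · have := finrank_span_singleton (K := ℂ) hv
    rw [h, finrank_top] at this
    omega

end Cfsg.Agent.S5011
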