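import Cfsg.Statements.S5012
import Cfsg.Agent.Lib.LieDefect.Small
import Cfsg.Agent.Lib.LieDefect.ClassicalGroups
import Cfsg.Agent.Lib.LieDefect.ChevGroups
import Cfsg.Agent.Lib.LieDefect.TwistedGroups

set_option autoImplicit false
open Cfsg

namespace Cfsg.Agent.S5012

/-- Let G be a finite simple group of Lie type in characteristic p. Then every p-block of G has defect zero or full defect: its defect is 0 or the exponent of p in the order of G (its defect groups are trivial or Sylow p-subgroups). -/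
theorem result {G : Type*} [Group G] [Finite G] (p : ℕ) [Fact p.Prime] (hG : Cfsg.IsLieTypeChar p G) (M : Ideal Cfsg.AlgInt) (hM : Cfsg.IsPModular p M) (B : Set (Cfsg.IrrCharacter G)) (hB : Cfsg.IsPBlock M B) : Cfsg.blockDefect p B = 0 ∨ Cfsg.blockDefect p B = (Nat.card G).factorization p := by
  suffices h : Lib.LieDefect.ZeroOrFull p G from h M hM B hB
  rcases hG with ⟨F, _, _, _, n, -, -, ⟨e⟩⟩ | ⟨F, _, _, _, m, -, -, ⟨e⟩⟩ |
    ⟨F, _, _, _, n, q, hF, -, -, ⟨e⟩⟩ | ⟨F, _, _, _, m, hm, hodd, ⟨e⟩⟩ |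
    ⟨F, _, _, _, m, hm, ⟨e⟩⟩ | ⟨F, _, _, _, m, a, b, hm, hab, ⟨e⟩⟩ |
    ⟨F, _, _, _, h⟩ | ⟨K, _, _, _, q, hq, h⟩ | ⟨hp, h⟩ | ⟨hp, h⟩ | ⟨hp, h⟩
  · exact Lib.LieDefect.zeroOrFull_PSL n e
  · exact Lib.LieDefect.zeroOrFull_PSp m e
  · exact Lib.LieDefect.zeroOrFull_PSU hF n e
  · exact Lib.LieDefect.zeroOrFull_POmegaOdd hm hodd e
  · exact Lib.LieDefect.zeroOrFull_POmegaPlus hm e
  · exact Lib.LieDefect.zeroOrFull_POmegaMinus hm hab e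
  · rcases h with ⟨-, ⟨e⟩⟩ | ⟨⟨e⟩⟩ | ⟨⟨e⟩⟩ | ⟨⟨e⟩⟩ | ⟨⟨e⟩⟩ <;>
      exact Lib.LieDefect.zeroOrFull_chev (by simp) e
  · rcases h with ⟨hK, ⟨e⟩⟩ | ⟨hK, ⟨e⟩⟩
    · exact Lib.LieDefect.zeroOrFull_twistedE6 hq hK e
    · exact Lib.LieDefect.zeroOrFull_twistedD4 hq hK e
  · subst hp
    exact Lib.LieDefect.zeroOrFull_suzuki h
  · subst hp
    obtain ⟨K, _, _, m, hm, hK, ⟨e⟩⟩ := h
    haveI : CharP K 2 := charP_of_card_eq_prime_pow hK
    exact Lib.LieDefect.zeroOrFull_twistedF4 hK e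
  · subst hp
    exact Lib.LieDefect.zeroOrFull_ree h

end Cfsg.Agent.S5012
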