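import Cfsg.Statements.S5015
import Mathlib
import Cfsg.Agent.Lib.RootSubgroups.RankOne

set_option autoImplicit false
open Cfsg Cfsg.Agent.Lib.RootSubgroups

namespace Cfsg.Agent.S5015

/-- Let a group Y act doubly transitively on a set Ω with at least three points, and suppose that the stabilizer of a point α contains a nilpotent subgroup A, normalized by that stabilizer, which acts regularly on the points other than α. Then for any y in Y moving α, the subgroups A and y A y⁻¹ are the unipotent subgroups of a rank one group, and the normal closure of A in Y (the subgroup generated by all conjugates of A) is generated by A and y A y⁻¹ alone. -/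
theorem result {Y Ω : Type*} [Group Y] [MulAction Y Ω]
    (h2 : MulAction.IsMultiplyPretransitive Y Ω 2) (hΩ : 3 ≤ ENat.card Ω) (α : Ω) (A : Subgroup Y)
    (hA : A ≤ MulAction.stabilizer Y α) (hAn : ∀ y ∈ MulAction.stabilizer Y α, Cfsg.conjBy A y = A)
    (hnil : Group.IsNilpotent A) (hreg : ∀ β γ : Ω, β ≠ α → γ ≠ α → ∃! a : Y, a ∈ A ∧ a • β = γ)
    (y : Y) (hy : y ∉ MulAction.stabilizer Y α) :
    Cfsg.IsRankOnePair A (Cfsg.conjBy A y) ∧ Subgroup.normalClosure (A : Set Y) = A ⊔ Cfsg.conjBy A y := by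
  have hαy : y • α ≠ α := fun he => hy (MulAction.mem_stabilizer_iff.2 he)
  set β := y • α with hβ
  have htr : ∀ γ δ : Ω, ∃ g : Y, g • γ = δ := by
    intro γ δ
    have : MulAction.IsPretransitive Y Ω :=
      MulAction.isPretransitive_of_is_two_pretransitive
    exact MulAction.exists_smul_eq Y γ δ
  have hwd : ∀ g g' : Y, g • α = g' • α → conjBy A g = conjBy A g' := by
    intro g g' he
    have hst : g'⁻¹ * g ∈ MulAction.stabilizer Y α := by
      rw [MulAction.mem_stabilizer_iff, mul_smul, he, inv_smul_smul]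
    have h1 := congrArg (fun C => conjBy C g') (hAn _ hst)
    simp only [← conjBy_mul, mul_inv_cancel_left] at h1
    exact h1
  obtain ⟨γ₀, hγα, hγβ⟩ := ENat.exists_ne_ne_of_three_le hΩ α β
  have hfix : ∀ a ∈ A, a • α = α := fun a ha => MulAction.mem_stabilizer_iff.1 (hA ha)
  have hregB : ∀ γ δ : Ω, γ ≠ β → δ ≠ β → ∃! b : Y, b ∈ conjBy A y ∧ b • γ = δ := by
    intro γ δ hγ hδ
    have hγ' : y⁻¹ • γ ≠ α := fun he => hγ (by rw [hβ, ← he, smul_inv_smul])
    have hδ' : y⁻¹ • δ ≠ α := fun he => hδ (by rw [hβ, ← he, smul_inv_smul])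
    obtain ⟨a, ⟨ha, hae⟩, hu⟩ := hreg _ _ hγ' hδ'
    refine ⟨y * a * y⁻¹, ⟨conj_mem_conjBy ha, ?_⟩, fun b hb => ?_⟩
    · rw [mul_smul, mul_smul, hae, smul_inv_smul]
    · have h1 : y⁻¹ * b * y = a := by
        refine hu _ ⟨mem_conjBy.1 hb.1, ?_⟩
        rw [mul_smul, mul_smul, smul_inv_smul, hb.2]
      rw [← h1]; simp [mul_assoc]
  have hne : A ≠ conjBy A y := by
    intro he
    obtain ⟨b, ⟨hb, hbe⟩, -⟩ := hregB α γ₀ hαy.symm hγβ
    rw [← he] at hb
    exact hγα (hbe.symm.trans (hfix b hb))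
  have hfixB : ∀ b ∈ conjBy A y, b • β = β := by
    intro b hb
    have h1 := hfix _ (mem_conjBy.1 hb)
    rw [mul_smul, mul_smul, inv_smul_eq_iff] at h1
    exact h1
  have hA1 : ∀ a ∈ A, a • β = β → a = 1 := fun a ha he =>
    (hreg β β hαy hαy).unique ⟨ha, he⟩ ⟨one_mem _, one_smul _ _⟩
  have hB1 : ∀ b ∈ conjBy A y, b • α = α → b = 1 := fun b hb he =>
    (hregB α α hαy.symm hαy.symm).unique ⟨hb, he⟩ ⟨one_mem _, one_smul _ _⟩
  have hpair : Cfsg.IsRankOnePair A (Cfsg.conjBy A y) := by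
    refine ⟨hne, hnil, nilpotent_conjBy hnil y, ?_, ?_⟩
    · intro a ha ha1
      have hγ : a⁻¹ • β ≠ β := fun he => ha1 (inv_eq_one.1 (hA1 _ (inv_mem ha) he))
      obtain ⟨b, ⟨hb, hbe⟩, -⟩ := hregB α (a⁻¹ • β) hαy.symm hγ
      refine ⟨b⁻¹, inv_mem hb, fun he => hαy ?_, ?_⟩
      · rw [inv_eq_one.1 he, one_smul] at hbe
        rw [← smul_left_cancel_iff a⁻¹, ← hbe, hfix _ (inv_mem ha)]
      · rw [inv_inv, ← conjBy_mul]
        exact hwd _ _ (by rw [mul_smul, ← hβ, hbe])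
    · intro b hb hb1
      have hγ : b⁻¹ • α ≠ α := fun he => hb1 (inv_eq_one.1 (hB1 _ (inv_mem hb) he))
      obtain ⟨a, ⟨ha, hae⟩, -⟩ := hreg β (b⁻¹ • α) hαy hγ
      refine ⟨a⁻¹, inv_mem ha, fun he => hαy ?_, ?_⟩
      · rw [inv_eq_one.1 he, one_smul] at hae
        rw [← smul_left_cancel_iff b⁻¹, ← hae, hfixB _ (inv_mem hb)]
      · rw [inv_inv, ← conjBy_mul]
        exact hwd _ _ (by rw [mul_smul, ← hβ, hae])
  refine ⟨hpair, le_antisymm ?_ (sup_le Subgroup.le_normalClosure ?_)⟩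
  · refine Subgroup.closure_le _ |>.2 ?_
    intro x hx
    obtain ⟨a, ha, hc⟩ := Group.mem_conjugatesOfSet_iff.1 hx
    obtain ⟨g, rfl⟩ := isConj_iff.1 hc
    have hxg : g * a * g⁻¹ ∈ conjBy A g := conj_mem_conjBy ha
    rcases eq_or_ne (g • α) α with hgα | hgα
    · rw [hwd g 1 (by rw [hgα, one_smul]), conjBy_one] at hxg
      exact Subgroup.mem_sup_left hxg
    · obtain ⟨c, ⟨hc', hce⟩, -⟩ := hreg β (g • α) hαy hgα
      rw [hwd g (c * y) (by rw [mul_smul, ← hβ, hce]), conjBy_mul] at hxg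
      exact conjBy_le_of_mem le_sup_right (Subgroup.mem_sup_left hc') hxg
  · rintro _ ⟨a, ha, rfl⟩
    exact Subgroup.normalClosure_normal.conj_mem a (Subgroup.le_normalClosure ha) y

end Cfsg.Agent.S5015
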