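import Cfsg.Statements.S5020
import Mathlib
import Cfsg.Agent.Lib.RootSubgroups.SpecialPrime
import Cfsg.Agent.Lib.RootSubgroups.SpecialPerfect
import Cfsg.Agent.Lib.Components.Quasisimple

set_option autoImplicit false
open Cfsg Cfsg.Agent.Lib.RootSubgroups Cfsg.Agent.Lib.RootSubgroups.RankOne

namespace Cfsg.Agent.S5020

/-- Let X be a special rank one group with abelian unipotent subgroups A and B, and H = N(A) ∩ N(B) its diagonal subgroup. Then either A has at most three elements and X is isomorphic to SL₂(2), SL₂(3) or PSL₂(3); or X = X' A with the commutator subgroup X' quasisimple and the commutator subgroup ⁅A, H⁆ having more than three elements. -/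
theorem result {X : Type*} [Group X] {A B : Subgroup X} (h : Cfsg.IsRankOneGroup X A B)
    (hs : Cfsg.IsSpecialRankOnePair A B) (hab : Cfsg.HasAbelianUnipotents A B) :
    (ENat.card A ≤ 3 ∧ (Nonempty (X ≃* Matrix.SpecialLinearGroup (Fin 2) (ZMod 2)) ∨
        Nonempty (X ≃* Matrix.SpecialLinearGroup (Fin 2) (ZMod 3)) ∨
        Nonempty (X ≃* Matrix.ProjectiveSpecialLinearGroup (Fin 2) (ZMod 3)))) ∨
    (commutator X ⊔ A = ⊤ ∧ Cfsg.IsQuasisimple (commutator X) ∧
      3 < ENat.card ↥(⁅A, Cfsg.rankOneDiagonal A B⁆ : Subgroup X)) := by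
  by_cases hcard : ENat.card A ≤ 3
  · refine Or.inl ⟨hcard, ?_⟩
    haveI : Finite A := ENat.card_lt_top.1 (lt_of_le_of_lt hcard (ENat.coe_lt_top 3))
    rw [ENat.card_eq_coe_natCard] at hcard
    have hcard' : Nat.card A ≤ 3 := by exact_mod_cast hcard
    obtain ⟨a, ha, ha1⟩ := exists_mem_ne_one_of_ne_bot (left_ne_bot h.2)
    haveI : Nontrivial A := ⟨⟨⟨a, ha⟩, 1, fun he => ha1 (congrArg Subtype.val he)⟩⟩
    have h2 : 1 < Nat.card A := Finite.one_lt_card
    have hp : (Nat.card A).Prime := by interval_cases (Nat.card A) <;> norm_num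
    haveI : Fact (Nat.card A).Prime := ⟨hp⟩
    obtain ⟨b, hb⟩ := exists_partner h.2 ha ha1
    have hap : a ^ Nat.card A = 1 :=
      congrArg Subtype.val (pow_card_eq_one' (G := A) (x := ⟨a, ha⟩))
    have hclosA : A ≤ Subgroup.closure ({a, b} : Set X) := by
      intro x hx
      have hx' : (⟨x, hx⟩ : A) ∈ Subgroup.zpowers (⟨a, ha⟩ : A) :=
        mem_zpowers_of_prime_card rfl (fun he => ha1 (congrArg Subtype.val he))
      obtain ⟨n, hn⟩ := hx'
      have : a ^ n = x := congrArg Subtype.val hn
      rw [← this]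
      exact zpow_mem (Subgroup.subset_closure (by simp)) n
    have htop : Subgroup.closure ({a, b} : Set X) = ⊤ := by
      rw [← top_le_iff, ← h.1]
      refine sup_le hclosA ?_
      have hm : mu a b ∈ Subgroup.closure ({a, b} : Set X) :=
        mul_mem (mul_mem (Subgroup.subset_closure (by simp))
          (inv_mem (Subgroup.subset_closure (by simp)))) (Subgroup.subset_closure (by simp))
      rw [← hb.conjBy_mu_left]
      exact conjBy_le_of_mem hclosA hm
    have e : ↥(Subgroup.closure ({a, b} : Set X)) ≃* X :=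
      (MulEquiv.subgroupCongr htop).trans Subgroup.topEquiv
    rcases sl2_closure_equiv hs hb hap with hf | hf
    · obtain hc | hc : Nat.card A = 2 ∨ Nat.card A = 3 := by omega
      · rw [hc] at hf
        obtain ⟨f⟩ := hf
        exact Or.inl ⟨e.symm.trans f⟩
      · rw [hc] at hf
        obtain ⟨f⟩ := hf
        exact Or.inr (Or.inl ⟨e.symm.trans f⟩)
    · obtain hc | hc : Nat.card A = 2 ∨ Nat.card A = 3 := by omega
      · rw [hc] at hf
        obtain ⟨f⟩ := hf
        haveI : Fact (Nat.Prime 2) := ⟨Nat.prime_two⟩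
        have hz : Subgroup.center (Lib.SL2.SLtwo (ZMod 2)) = ⊥ :=
          Lib.SL2.center_eq_bot_even (show ((2 : ZMod 2)) = 0 from rfl)
        exact Or.inl ⟨e.symm.trans (f.trans
          ((QuotientGroup.quotientMulEquivOfEq hz).trans QuotientGroup.quotientBot))⟩
      · rw [hc] at hf
        obtain ⟨f⟩ := hf
        exact Or.inr (Or.inr ⟨e.symm.trans f⟩)
  · right
    have hlt : 3 < ENat.card A := not_le.1 hcard
    have hc : commutator X = ⊤ := by
      have := commutator_sup_eq hs hab.1 hlt
      rwa [h.1] at this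
    haveI : Group.IsPerfect X := ⟨hc⟩
    refine ⟨by rw [hc, top_sup_eq], ?_, ?_⟩
    · exact Lib.Components.quasisimple_of_mulEquiv
        ((MulEquiv.subgroupCongr hc).trans Subgroup.topEquiv).symm (isQuasisimple_of_perfect h)
    · rwa [commutator_diagonal_eq hs hab.1 hlt]

end Cfsg.Agent.S5020
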