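import Cfsg.Statements.S5023
import Mathlib
import Cfsg.Agent.Lib.RootSubgroups.Quadratic

set_option autoImplicit false
open Cfsg Cfsg.Agent.Lib.RootSubgroups Cfsg.Agent.Lib.RootSubgroups.RankOne

namespace Cfsg.Agent.S5023

/-- Let X be a rank one group with unipotent subgroups A and B that acts faithfully on an abelian group V (written additively) with A acting quadratically: a' • (a • v − v) = a • v − v for all a, a' in A and v in V. Then A is either torsion-free or an elementary abelian p-group for some prime p. -/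
theorem result {X : Type*} [Group X] {A B : Subgroup X} (h : Cfsg.IsRankOneGroup X A B)
    {V : Type*} [AddCommGroup V] [DistribMulAction X V] (hf : ∀ x : X, (∀ v : V, x • v = v) → x = 1)
    (hq : ∀ a ∈ A, ∀ a' ∈ A, ∀ v : V, a' • (a • v - v) = a • v - v) :
    (∀ a ∈ A, a ≠ 1 → ¬ IsOfFinOrder a) ∨ ∃ p : ℕ, p.Prime ∧ Cfsg.IsElementaryAbelian p A := by
  set ρ := actHom X V with hρ
  have hinj : ∀ x : X, ρ x = 1 → x = 1 := fun x hx =>
    hf x fun v => congrArg (fun f : AddMonoid.End V => f v) hx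
  have hmul : ∀ {C : Subgroup X},
      (∀ a ∈ C, ∀ a' ∈ C, ∀ v : V, a' • (a • v - v) = a • v - v) →
      ∀ a ∈ C, ∀ c ∈ C, ρ (a * c) - 1 = (ρ a - 1) + (ρ c - 1) := by
    intro C hC a ha c hc
    have h0 : (ρ a - 1) * (ρ c - 1) = 0 := sub_one_mul_sub_one hC hc ha
    have h1 : ρ (a * c) - 1 = (ρ a - 1) + (ρ c - 1) + (ρ a - 1) * (ρ c - 1) := by
      rw [map_mul]; noncomm_ring
    rw [h1, h0, add_zero]
  have heq : ∀ x y : X, ρ x - 1 = ρ y - 1 → x = y := by
    intro x y he
    have h1 : ρ x = ρ y := sub_left_inj.1 he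
    exact inv_mul_eq_one.1 (hinj _ (by rw [map_mul, ← h1, ← map_mul, inv_mul_cancel, map_one]))
  have hpow : ∀ {C : Subgroup X},
      (∀ a ∈ C, ∀ a' ∈ C, ∀ v : V, a' • (a • v - v) = a • v - v) →
      ∀ a ∈ C, ∀ n : ℕ, ρ (a ^ n) - 1 = n • (ρ a - 1) := by
    intro C hC a ha n
    induction n with
    | zero => simp
    | succ n ih => rw [pow_succ, hmul hC _ (pow_mem ha n) a ha, ih, succ_nsmul]
  have hX : ∃ x y : X, ∃ n : V, y • (x • n - n) ≠ x • n - n := by
    by_contra hc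
    push Not at hc
    apply not_isNilpotent h
    refine @CommGroup.isNilpotent _ { (inferInstance : Group X) with mul_comm := ?_ }
    intro x y
    have hall : ∀ a ∈ (⊤ : Subgroup X), ∀ a' ∈ (⊤ : Subgroup X), ∀ v : V,
        a' • (a • v - v) = a • v - v := fun a _ a' _ v => hc a a' v
    apply heq
    rw [hmul hall x trivial y trivial, hmul hall y trivial x trivial, add_comm]
  have hA : IsMulCommutative A := by
    refine ⟨⟨fun x y => Subtype.ext ?_⟩⟩
    apply heq
    rw [Subgroup.coe_mul, Subgroup.coe_mul, hmul hq _ x.2 _ y.2, hmul hq _ y.2 _ x.2, add_comm]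
  rcases Classical.em (∀ a ∈ A, a ≠ 1 → ¬ IsOfFinOrder a) with ht | ht
  · exact Or.inl ht
  right
  push Not at ht
  obtain ⟨a₀, ha₀, ha₀1, hfin⟩ := ht
  obtain ⟨p, hp, hdvd⟩ := Nat.exists_prime_and_dvd (n := orderOf a₀) (mt orderOf_eq_one_iff.1 ha₀1)
  set a := a₀ ^ (orderOf a₀ / p) with ha
  have hpa : orderOf a = p := by
    rw [ha, orderOf_pow_of_dvd (Nat.div_pos (Nat.le_of_dvd hfin.orderOf_pos hdvd) hp.pos).ne'
      (Nat.div_dvd_of_dvd hdvd), Nat.div_div_self hdvd hfin.orderOf_pos.ne']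
  have haA : a ∈ A := pow_mem ha₀ _
  have ha1 : a ≠ 1 := fun h' => by
    rw [h', orderOf_one] at hpa; exact hp.one_lt.ne hpa
  -- `pV` is invariant and `a` acts trivially on it, so all of `X` is quadratic on it
  have hcs : ∀ (z : X) (w : V), p • (z • w) = z • (p • w) := fun z w =>
    (map_nsmul (DistribSMul.toAddMonoidHom V z) p w).symm
  let K : Subgroup X :=
    { carrier := {x | ∀ v : V, x • (p • v) = p • v}
      one_mem' := fun v => one_smul _ _
      mul_mem' := fun {x y} hx hy v => by rw [mul_smul, hy, hx]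
      inv_mem' := fun {x} hx v => by rw [inv_smul_eq_iff, hx] }
  have hKn : K.Normal := by
    refine ⟨fun x hx g v => ?_⟩
    show (g * x * g⁻¹) • (p • v) = p • v
    rw [mul_smul, mul_smul, ← hcs, hx, hcs, smul_inv_smul]
  have haK : a ∈ K := fun v => by
    have h1 : ρ a ^ p = 1 := by rw [← map_pow, ← hpa, pow_orderOf_eq_one, map_one]
    have h2 : p • (ρ a - 1) = 0 := by rw [← hpow hq a haA p, map_pow, h1, sub_self]
    have h3 : p • (a • v - v) = 0 := congrArg (fun f : AddMonoid.End V => f v) h2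
    rw [smul_sub, sub_eq_zero] at h3
    rw [← hcs, h3]
  have hKA : K ⊔ A = ⊤ := by
    rcases normal_sup_or_central h hKn with h1 | h1
    · exact h1
    · exfalso
      refine ha1 (eq_one_of_mem_normalizer h.2 haA
        (Subgroup.center_le_normalizer _ (h1 haK)))
  have hrep : ∀ x : X, ∃ c ∈ A, ∀ v : V, x • (p • v) = c • (p • v) := by
    intro x
    have hx : x ∈ K ⊔ A := hKA ▸ Subgroup.mem_top x
    obtain ⟨k, hk, c, hc, rfl⟩ := Subgroup.mem_sup_of_normal_left.1 hx
    refine ⟨c, hc, fun v => ?_⟩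
    rw [mul_smul, ← hcs]
    exact hk _
  have hprod : ∀ x y : X, p • ((ρ y - 1) * (ρ x - 1)) = 0 := by
    intro x y
    refine DFunLike.ext _ _ fun v => ?_
    show p • (y • (x • v - v) - (x • v - v)) = 0
    obtain ⟨c, hc, hx⟩ := hrep x
    obtain ⟨c', hc', hy⟩ := hrep y
    have e1 : p • (x • v - v) = p • (c • v - v) := by
      rw [smul_sub, smul_sub, hcs, hcs, hx]
    calc p • (y • (x • v - v) - (x • v - v))
        = y • (p • (x • v - v)) - p • (x • v - v) := by rw [smul_sub, hcs]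
      _ = c' • (p • (c • v - v)) - p • (c • v - v) := by rw [e1, hy]
      _ = p • (c' • (c • v - v) - (c • v - v)) := by rw [← hcs, ← smul_sub]
      _ = 0 := by rw [hq c hc c' hc', sub_self, smul_zero]
  refine ⟨p, hp, hA, fun a' ha' => ?_⟩
  rcases eq_or_ne a' 1 with rfl | ha'1
  · exact one_pow p
  obtain ⟨b', hb'⟩ := exists_partner h.2 ha' ha'1
  obtain ⟨-, he⟩ := partner_identity h hq hX hb'
  have hBA : conjBy A (a' * b'⁻¹) = B := by
    rw [conjBy_mul, hb'.2.2.2.2, conjBy_conjBy_inv]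
  have hqB : ∀ b ∈ B, ∀ c ∈ B, ∀ v : V, c • (b • v - v) = b • v - v := by
    rw [← hBA]; exact quadratic_conj hq
  have h0 : p • (ρ a' - 1) + p • (ρ b' - 1) = 0 := by
    rw [← nsmul_add]
    refine (congrArg (fun z => p • z) he).trans ?_
    have h3p : ∀ x y z : X, p • ((ρ z - 1) * (ρ y - 1) * (ρ x - 1)) = 0 := fun x y z => by
      rw [nsmul_eq_mul, ← mul_assoc, ← nsmul_eq_mul, hprod, zero_mul]
    rw [nsmul_add, ← hρ, h3p, h3p, add_zero]
  rw [← hpow hq a' ha' p, ← hpow hqB b' hb'.2.2.1 p] at h0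
  have h1 : a' ^ p * b' ^ p = 1 := by
    apply hinj
    have h2 : (ρ (a' ^ p) - 1) * (ρ (b' ^ p) - 1) = 0 := by
      rw [hpow hq a' ha' p, hpow hqB b' hb'.2.2.1 p, smul_mul_assoc, mul_smul_comm, hprod,
        nsmul_zero]
    have h3 : ρ (a' ^ p) * ρ (b' ^ p) = 1 + ((ρ (a' ^ p) - 1) + (ρ (b' ^ p) - 1))
        + (ρ (a' ^ p) - 1) * (ρ (b' ^ p) - 1) := by noncomm_ring
    rw [map_mul, h3, h0, h2, add_zero, add_zero]
  refine eq_one_of_mem_mem h.2 (pow_mem ha' p) ?_
  rw [mul_eq_one_iff_eq_inv.1 h1]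
  exact inv_mem (pow_mem hb'.2.2.1 p)

end Cfsg.Agent.S5023
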