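import Cfsg.Statements.S5026
import Mathlib
import Cfsg.Agent.Lib.RootSubgroups.RootSet

set_option autoImplicit false
open Cfsg Cfsg.Agent.Lib.RootSubgroups Cfsg.Agent.Lib.RootSubgroups.RootSet

namespace Cfsg.Agent.S5026

/-- Let S be a degenerate set of abstract root subgroups of G (a set of abstract transvection groups) and let a, b be commuting non-identity elements of members of S with a b ≠ 1. Then the members of S centralizing a b are exactly those centralizing both a and b. -/
theorem result {G : Type*} [Group G] {S : Set (Subgroup G)} (hS : Cfsg.IsRootSubgroupSet S) (hdeg : Cfsg.IsDegenerateRootSet S)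
    {a b : G} (ha : a ∈ Cfsg.rootElements S) (hb : b ∈ Cfsg.rootElements S) (hab : a * b = b * a) (hab1 : a * b ≠ 1) :
    Cfsg.centralizingMembers S (Subgroup.zpowers (a * b)) =
      Cfsg.centralizingMembers S (Subgroup.zpowers a) ∩ Cfsg.centralizingMembers S (Subgroup.zpowers b) := by
  obtain ⟨ha1, A, hA, haA⟩ := ha
  obtain ⟨hb1, B, hB, hbB⟩ := hb
  have hcomm : ∀ (x : G) (E : Subgroup G),
      E ≤ Subgroup.centralizer (Subgroup.zpowers x : Set G) ↔ ∀ e ∈ E, e * x = x * e := by
    intro x E
    rw [Subgroup.zpowers_eq_closure, Subgroup.centralizer_closure]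
    simp only [SetLike.le_def, Subgroup.mem_centralizer_singleton_iff]
  have key : ∀ (a b : G) (A B : Subgroup G), A ∈ S → B ∈ S → a ∈ A → b ∈ B → a ≠ 1 →
      a * b = b * a → a * b ≠ 1 → ∀ E ∈ S, (∀ e ∈ E, e * (a * b) = (a * b) * e) →
      ∀ e ∈ E, e * a = a * e := by
    intro a b A B hA hB haA hbB ha1 hab hab1 E hE hEc e he
    by_contra hne
    have hp : IsRankOnePair A E := by
      rcases hS.pair A hA E hE with h | h | h
      · exact absurd (commute_of_commutator_eq_bot h haA he).symm hne
      · exact h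
      · exact absurd h (hdeg A hA E hE)
    have hfix : conjBy E (a * b) = E := by
      refine conjBy_self_of_mem_normalizer (Subgroup.centralizer_le_normalizer _ ?_)
      exact Subgroup.mem_centralizer_iff.2 hEc
    have hbE : conjBy E b = conjBy E a⁻¹ := by
      rw [conjBy_mul, conjBy_eq_iff] at hfix
      exact hfix
    have hEm := RankOne.mem_unipotentSubgroups_right hp
    have hmem : conjBy E b ∈ unipotentSubgroups A E := hbE ▸
      RankOne.conjBy_mem_unipotentSubgroups hEm (Subgroup.mem_sup_left (inv_mem haA))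
    have hmne : conjBy E b ≠ E := hbE ▸ fun h =>
      ha1 (inv_eq_one.1 (RankOne.eq_one_of_conjBy_eq hp (inv_mem haA) h))
    obtain ⟨hpB, -, hΩ⟩ := moved_sup hS hB hE hA hE hp hEm hbB hmem hmne
    have hBm : B ∈ unipotentSubgroups A E := hΩ ▸ RankOne.mem_unipotentSubgroups_left hpB
    have hb1 : b ≠ 1 := fun h => hmne (by rw [h, conjBy_one])
    have hBA : B = A := by
      refine RankOne.eq_left_of_fixed hp hBm haA ha1 ?_
      by_contra hne'
      have h1 := RankOne.inf_eq_bot_of_mem hp
        (RankOne.conjBy_mem_unipotentSubgroups hBm (Subgroup.mem_sup_left haA)) hBm hne'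
      have h2 : b ∈ conjBy B a ⊓ B := ⟨by
        have h3 := conj_mem_conjBy (g := a) hbB
        rwa [hab, mul_inv_cancel_right] at h3, hbB⟩
      rw [h1, Subgroup.mem_bot] at h2
      exact hb1 h2
    exact hab1 (RankOne.eq_one_of_conjBy_eq hp (mul_mem haA (hBA ▸ hbB)) hfix)
  ext E
  simp only [centralizingMembers, Set.mem_inter_iff, Set.mem_ofPred_eq, hcomm]
  refine ⟨fun ⟨hE, hc⟩ => ⟨⟨hE, key a b A B hA hB haA hbB ha1 hab hab1 E hE hc⟩,
    hE, key b a B A hB hA hbB haA hb1 hab.symm (hab ▸ hab1) E hE (fun e he => hab ▸ hc e he)⟩,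
    fun ⟨⟨hE, h1⟩, _, h2⟩ => ⟨hE, fun e he => ?_⟩⟩
  rw [← mul_assoc, h1 e he, mul_assoc, h2 e he, mul_assoc]

end Cfsg.Agent.S5026
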