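import Cfsg.Statements.S5027
import Mathlib
import Cfsg.Agent.Lib.RootSubgroups.RootSet

set_option autoImplicit false
open Cfsg Cfsg.Agent.Lib.RootSubgroups Cfsg.Agent.Lib.RootSubgroups.RootSet

namespace Cfsg.Agent.S5027

/-- Let S be a set of abstract root subgroups of G such that every member of S has a rank one partner in S (the graph of rank one pairs on S has no isolated vertex). Then the second centre of G equals its centre. -/
theorem result {G : Type*} [Group G] {S : Set (Subgroup G)} (hS : Cfsg.IsRootSubgroupSet S)
    (hF : ∀ A ∈ S, ¬ Cfsg.IsIsolatedIn (Cfsg.FAdj S) S A) : Subgroup.upperCentralSeries G 2 = Subgroup.center G := by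
  refine le_antisymm (fun z hz => ?_) ?_
  · have hz' := Subgroup.mem_upperCentralSeries_succ_iff.1 hz
    rw [Subgroup.upperCentralSeries_one] at hz'
    rw [Subgroup.mem_center_iff]
    have hall : (⨆ A ∈ S, A) ≤ Subgroup.centralizer {z} := by
      refine iSup₂_le fun A hA a ha => ?_
      rw [Subgroup.mem_centralizer_singleton_iff]
      by_contra hne
      obtain ⟨B, hB, hp⟩ := exists_partner_of_not_isolated (hF A hA) hA
      have hc := hz' a
      set c := z * a * z⁻¹ * a⁻¹ with hcdef
      have hc1 : c ≠ 1 := fun h => hne (by
        rw [hcdef, mul_inv_eq_one, mul_inv_eq_iff_eq_mul] at h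
        exact h.symm)
      have ha1 : a ≠ 1 := fun h => hne (by rw [h]; simp)
      refine no_central_translate hS hA hB hp (z := c) ?_ hc1 ha ha1 ⟨?_, conjBy A z, hS.conj_mem A hA z, ?_⟩
      · exact Subgroup.center_le_centralizer _ hc
      · rw [hcdef, inv_mul_cancel_right]
        exact fun h => ha1 (conj_eq_one_iff.1 h)
      · rw [hcdef, inv_mul_cancel_right]
        exact conj_mem_conjBy ha
    rw [hS.generates] at hall
    exact fun g => Subgroup.mem_centralizer_singleton_iff.1 (hall (Subgroup.mem_top g))
  · rw [← Subgroup.upperCentralSeries_one]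
    exact Subgroup.upperCentralSeries_mono G (by norm_num)

end Cfsg.Agent.S5027
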