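import Cfsg.Statements.S5030
import Mathlib
import Cfsg.Agent.Lib.RootSubgroups.ClassTwo

set_option autoImplicit false
open Cfsg Cfsg.Agent.Lib.RootSubgroups Cfsg.Agent.Lib.RootSubgroups.RootSet
open scoped commutatorElement

namespace Cfsg.Agent.S5030

/-- Let S be a set of abstract root subgroups of G and A, B, C ∈ S with ⁅A, B⁆ ∈ S and ⁅B, C⁆ ∈ S, where A and C are different and commute. For a non-identity b ∈ B put X = ⟨A, b⁻¹ C b⟩ and Y = ⟨b⁻¹ A b, C⟩ and R = ⟨A, B, C⟩. Then X and Y are either both abelian or both nilpotent of class exactly two; X and Y commute elementwise; XY is normal in R with R = (XY) B; and R is nilpotent. -/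
theorem result {G : Type*} [Group G] {S : Set (Subgroup G)} (hS : Cfsg.IsRootSubgroupSet S)
    {A B C : Subgroup G} (hA : A ∈ S) (hB : B ∈ S) (hC : C ∈ S) (hAB : ⁅A, B⁆ ∈ S) (hBC : ⁅B, C⁆ ∈ S)
    (hAC : C ∈ Cfsg.commutingPartners S A)
    {b : G} (hb : b ∈ B) (hb1 : b ≠ 1) :
    ((IsMulCommutative ↥(A ⊔ Cfsg.conjBy C b⁻¹) ∧ IsMulCommutative ↥(Cfsg.conjBy A b⁻¹ ⊔ C)) ∨
      ((¬ IsMulCommutative ↥(A ⊔ Cfsg.conjBy C b⁻¹) ∧
          ⁅⁅A ⊔ Cfsg.conjBy C b⁻¹, A ⊔ Cfsg.conjBy C b⁻¹⁆, A ⊔ Cfsg.conjBy C b⁻¹⁆ = ⊥) ∧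
        (¬ IsMulCommutative ↥(Cfsg.conjBy A b⁻¹ ⊔ C) ∧
          ⁅⁅Cfsg.conjBy A b⁻¹ ⊔ C, Cfsg.conjBy A b⁻¹ ⊔ C⁆, Cfsg.conjBy A b⁻¹ ⊔ C⁆ = ⊥))) ∧
    ⁅A ⊔ Cfsg.conjBy C b⁻¹, Cfsg.conjBy A b⁻¹ ⊔ C⁆ = ⊥ ∧
    (∀ r ∈ A ⊔ B ⊔ C, Cfsg.conjBy ((A ⊔ Cfsg.conjBy C b⁻¹) ⊔ (Cfsg.conjBy A b⁻¹ ⊔ C)) r =
      (A ⊔ Cfsg.conjBy C b⁻¹) ⊔ (Cfsg.conjBy A b⁻¹ ⊔ C)) ∧
    ((A ⊔ Cfsg.conjBy C b⁻¹) ⊔ (Cfsg.conjBy A b⁻¹ ⊔ C)) ⊔ B = A ⊔ B ⊔ C ∧
    Group.IsNilpotent ↥(A ⊔ B ⊔ C) := by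
  obtain ⟨-, hne, hcAC⟩ := hAC
  have c1 : RootCommutatorCase S A B := commCase_of_commutator_mem hS hA hB hAB
  have c2 : RootCommutatorCase S C B := commCase_symm (commCase_of_commutator_mem hS hB hC hBC)
  have hb' : b⁻¹ ∈ B := inv_mem hb
  have hb'1 : b⁻¹ ≠ 1 := inv_ne_one.2 hb1
  set A' := conjBy A b⁻¹ with hA'
  set C' := conjBy C b⁻¹ with hC'
  have hA'S : A' ∈ S := hS.conj_mem A hA _
  have hC'S : C' ∈ S := hS.conj_mem C hC _
  have hAA' : ⁅A, A'⁆ = ⊥ :=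
    commutator_eq_bot_comm.1 (conjBy_commute hS hA (commCase_symm c1) hb')
  have hCC' : ⁅C, C'⁆ = ⊥ :=
    commutator_eq_bot_comm.1 (conjBy_commute hS hC (commCase_symm c2) hb')
  have hA'C' : ⁅A', C'⁆ = ⊥ := commutator_conjBy_eq_bot.2 hcAC
  set X := A ⊔ C' with hX
  set Y := A' ⊔ C with hY
  have self : ∀ {E : Subgroup G}, E ∈ S → ⁅E, E⁆ = ⊥ := fun hE => commutator_self_eq_bot hS hE
  have hAY : ⁅A, Y⁆ = ⊥ := le_centralizer_sup hAA' hcAC
  have hC'Y : ⁅C', Y⁆ = ⊥ :=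
    le_centralizer_sup (commutator_eq_bot_comm.1 hA'C') (commutator_eq_bot_comm.1 hCC')
  have hXY : ⁅X, Y⁆ = ⊥ := commutator_eq_bot_comm.1
    (le_centralizer_sup (commutator_eq_bot_comm.1 hAY) (commutator_eq_bot_comm.1 hC'Y))
  set K₁ := ⁅A, B⁆ with hK₁
  set K₂ := ⁅C, B⁆ with hK₂
  have iff_key : ⁅A, C'⁆ = ⊥ ↔ ⁅A', C⁆ = ⊥ := by
    have h1 : ⁅A, C'⁆ = ⊥ ↔ ⁅conjBy A b, C⁆ = ⊥ := by
      rw [← commutator_conjBy_eq_bot (g := b), hC', conjBy_conjBy_inv]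
    have h2 : ∀ y ∈ B, ⁅conjBy A y, C⁆ = ⊥ → ⁅conjBy A y⁻¹, C⁆ = ⊥ := by
      intro y hy h
      refine commutator_eq_bot_of_forall_comm fun x hx c hc => ?_
      obtain ⟨a, ha, rfl⟩ := hx
      have ec : a * c = c * a := commute_of_commutator_eq_bot hcAC ha hc
      have ey : (y * a * y⁻¹) * c = c * (y * a * y⁻¹) :=
        commute_of_commutator_eq_bot h (conj_mem_conjBy ha) hc
      have hcen : ⁅y, a⁆ * y = y * ⁅y, a⁆ := by
        refine commCase_comm_right c1 ?_ hy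
        rw [Subgroup.commutator_comm]
        exact Subgroup.commutator_mem_commutator hy ha
      have e1 : ⁅y, a⁆ = y * a * y⁻¹ * a⁻¹ := commutatorElement_def y a
      have e2 : y⁻¹ * a * y = (⁅y, a⁆)⁻¹ * a := by
        calc y⁻¹ * a * y = y⁻¹ * ((⁅y, a⁆)⁻¹ * (y * a * y⁻¹)) * y := by
              rw [e1]; simp [mul_assoc]
          _ = (y⁻¹ * (⁅y, a⁆)⁻¹ * y) * a := by simp [mul_assoc]
          _ = (⁅y, a⁆)⁻¹ * a := by
              rw [mul_assoc y⁻¹, (Commute.inv_left hcen : Commute (⁅y, a⁆)⁻¹ y).eq,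
                inv_mul_cancel_left]
      show y⁻¹ * a * (y⁻¹)⁻¹ * c = c * (y⁻¹ * a * (y⁻¹)⁻¹)
      rw [inv_inv, e2]
      have eq : Commute (⁅y, a⁆) c := by
        rw [e1]; exact Commute.mul_left ey (Commute.inv_left ec)
      exact (Commute.mul_left eq.inv_left ec).eq
    rw [h1]
    exact ⟨h2 b hb, fun h => by simpa using h2 b⁻¹ hb' (by simpa [hA'] using h)⟩
  have hdi : ∀ {P Q : Subgroup G}, P ∈ S → Q ∈ S → ¬ IsRankOnePair P Q → ⁅P, Q⁆ ≠ ⊥ →
      ¬ IsMulCommutative ↥(P ⊔ Q) ∧ ⁅⁅P ⊔ Q, P ⊔ Q⁆, P ⊔ Q⁆ = ⊥ := by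
    intro P Q hP hQ hn hne
    have h3 := ((hS.pair P hP Q hQ).resolve_left hne).resolve_left hn
    refine ⟨fun hc => hne (commutator_eq_bot_of_forall_comm fun p hp q hq =>
      congrArg Subtype.val (hc.is_comm.comm ⟨p, Subgroup.mem_sup_left hp⟩
        ⟨q, Subgroup.mem_sup_right hq⟩)),
      (commutator_le_commutator_central (self hP) (self hQ) (commCase_left_commute h3)
        (commCase_right_commute h3)).2⟩
  have hnX : ¬ IsRankOnePair A C' := not_rankOne_conj hS hA hC c2 hcAC hb' hb'1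
  have hnY : ¬ IsRankOnePair A' C := fun h => not_rankOne_conj hS hC hA c1
    (commutator_eq_bot_comm.1 hcAC) hb' hb'1 (Cfsg.RankOnePair_symm h)
  have hcl : ∀ {P Q : Subgroup G}, P ∈ S → Q ∈ S → ¬ IsRankOnePair P Q →
      ⁅⁅P ⊔ Q, P ⊔ Q⁆, P ⊔ Q⁆ = ⊥ := by
    intro P Q hP hQ hn
    by_cases h : ⁅P, Q⁆ = ⊥
    · exact (commutator_le_commutator_central (self hP) (self hQ) (by rw [h]; simp)
        (by rw [h]; simp)).2
    · exact (hdi hP hQ hn h).2
  -- the normal subgroup `X Y`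
  set N := X ⊔ Y with hN
  have hAN : A ≤ N := le_sup_left.trans le_sup_left
  have hCN : C ≤ N := le_sup_right.trans le_sup_right
  have hK₁N : K₁ ≤ N := by
    rw [hK₁, ← c1.2.2.2 b⁻¹ hb' hb'1, Subgroup.closure_le]
    rintro _ ⟨a, ha, rfl⟩
    show a * b⁻¹ * a⁻¹ * b⁻¹⁻¹ ∈ N
    rw [show a * b⁻¹ * a⁻¹ * b⁻¹⁻¹ = a * (b⁻¹ * a⁻¹ * b⁻¹⁻¹) by simp [mul_assoc]]
    exact mul_mem (hAN ha)
      ((le_sup_left : A' ≤ Y).trans le_sup_right (conj_mem_conjBy (inv_mem ha)))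
  have hK₂N : K₂ ≤ N := by
    rw [hK₂, ← c2.2.2.2 b⁻¹ hb' hb'1, Subgroup.closure_le]
    rintro _ ⟨a, ha, rfl⟩
    show a * b⁻¹ * a⁻¹ * b⁻¹⁻¹ ∈ N
    rw [show a * b⁻¹ * a⁻¹ * b⁻¹⁻¹ = a * (b⁻¹ * a⁻¹ * b⁻¹⁻¹) by simp [mul_assoc]]
    exact mul_mem (hCN ha)
      ((le_sup_right : C' ≤ X).trans le_sup_left (conj_mem_conjBy (inv_mem ha)))
  have hN4 : N = A ⊔ C ⊔ (K₁ ⊔ K₂) := by
    refine le_antisymm ?_ (sup_le (sup_le hAN hCN) (sup_le hK₁N hK₂N))
    have l1 : A' ≤ A ⊔ K₁ := conjBy_left_le_line c1 hb'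
    have l2 : C' ≤ C ⊔ K₂ := conjBy_left_le_line c2 hb'
    exact sup_le
      (sup_le (le_sup_left.trans le_sup_left)
        (l2.trans (sup_le_sup le_sup_right le_sup_right)))
      (sup_le (l1.trans (sup_le_sup le_sup_left le_sup_left))
        (le_sup_right.trans le_sup_left))
  have hBN : ∀ y ∈ B, conjBy N y ≤ N := by
    intro y hy
    rw [hN4, conjBy_sup, conjBy_sup, conjBy_sup,
      conjBy_self_of_mem_normalizer (A := K₁) (Subgroup.normalizer_commutator_ge_right A B hy),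
      conjBy_self_of_mem_normalizer (A := K₂) (Subgroup.normalizer_commutator_ge_right C B hy)]
    exact sup_le
      (sup_le ((conjBy_left_le_line c1 hy).trans (sup_le_sup le_sup_left le_sup_left))
        ((conjBy_left_le_line c2 hy).trans (sup_le_sup le_sup_right le_sup_right)))
      le_sup_right
  have hBnorm : B ≤ Subgroup.normalizer (N : Set G) := fun y hy => by
    refine conjBy_eq_self_iff.1 (le_antisymm (hBN y hy) ?_)
    conv_lhs => rw [← conjBy_conjBy_inv N y]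
    exact conjBy_mono y (hBN y⁻¹ (inv_mem hy))
  have hR : N ⊔ B = A ⊔ B ⊔ C := by
    refine le_antisymm (sup_le ?_ (le_sup_right.trans le_sup_left))
      (sup_le (sup_le (hAN.trans le_sup_left) le_sup_right) (hCN.trans le_sup_left))
    rw [hN4]
    refine sup_le (sup_le (le_sup_left.trans le_sup_left) le_sup_right) (sup_le ?_ ?_) <;>
      refine Subgroup.commutator_le.2 fun p hp q hq => ?_
    · have h1 : p ∈ A ⊔ B ⊔ C := Subgroup.mem_sup_left (Subgroup.mem_sup_left hp)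
      have h2 : q ∈ A ⊔ B ⊔ C := Subgroup.mem_sup_left (Subgroup.mem_sup_right hq)
      exact mul_mem (mul_mem (mul_mem h1 h2) (inv_mem h1)) (inv_mem h2)
    · have h1 : p ∈ A ⊔ B ⊔ C := Subgroup.mem_sup_right hp
      have h2 : q ∈ A ⊔ B ⊔ C := Subgroup.mem_sup_left (Subgroup.mem_sup_right hq)
      exact mul_mem (mul_mem (mul_mem h1 h2) (inv_mem h1)) (inv_mem h2)
  have hRnorm : A ⊔ B ⊔ C ≤ Subgroup.normalizer (N : Set G) :=
    sup_le (sup_le (hAN.trans Subgroup.le_normalizer) hBnorm) (hCN.trans Subgroup.le_normalizer)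
  refine ⟨?_, hXY, fun r hr => conjBy_self_of_mem_normalizer (hRnorm hr), hR, ?_⟩
  · by_cases h : ⁅A, C'⁆ = ⊥
    · exact Or.inl ⟨isMulCommutative_sup (self hA) (self hC'S) h,
        isMulCommutative_sup (self hA'S) (self hC) (iff_key.1 h)⟩
    · exact Or.inr ⟨hdi hA hC'S hnX h, hdi hA'S hC hnY (mt iff_key.2 h)⟩
  -- nilpotency
  set R := A ⊔ B ⊔ C with hRdef
  have hZN : ⁅⁅N, N⁆, N⁆ = ⊥ := by
    have hx : ⁅⁅X, X⁆, Y⁆ = ⊥ := eq_bot_iff.2 ((Subgroup.commutator_mono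
      (Subgroup.commutator_le.2 fun p hp q hq =>
        mul_mem (mul_mem (mul_mem hp hq) (inv_mem hp)) (inv_mem hq)) le_rfl).trans hXY.le)
    have hy : ⁅⁅Y, Y⁆, X⁆ = ⊥ := eq_bot_iff.2 ((Subgroup.commutator_mono
      (Subgroup.commutator_le.2 fun p hp q hq =>
        mul_mem (mul_mem (mul_mem hp hq) (inv_mem hp)) (inv_mem hq)) le_rfl).trans
        (commutator_eq_bot_comm.1 hXY).le)
    have h1 := le_centralizer_sup (hcl hA hC'S hnX) hx
    have h2 := le_centralizer_sup hy (hcl hA'S hC hnY)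
    have h3 : ⁅⁅X, X⁆ ⊔ ⁅Y, Y⁆, N⁆ = ⊥ := by
      rw [commutator_eq_bot_comm]
      exact le_centralizer_sup (commutator_eq_bot_comm.1 h1) (commutator_eq_bot_comm.1 h2)
    refine eq_bot_iff.2 ((Subgroup.commutator_mono ?_ le_rfl).trans h3.le)
    exact commutator_sup_self_le (le_normalizer_of_commute (commutator_eq_bot_comm.1 h3))
      le_sup_left le_sup_right (hXY.le.trans bot_le)
  set W := ⁅K₁, K₂⁆ with hW
  set Z := ⁅A, K₂⁆ ⊔ ⁅K₁, C⁆ ⊔ W with hZ
  have hZle : Z ≤ ⁅N, N⁆ :=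
    sup_le (sup_le (Subgroup.commutator_mono hAN hK₂N) (Subgroup.commutator_mono hK₁N hCN))
      (Subgroup.commutator_mono hK₁N hK₂N)
  have hZc : ∀ z ∈ Z, ∀ n ∈ N, z * n = n * z := fun z hz n hn =>
    commute_of_commutator_eq_bot hZN (hZle hz) hn
  have hWB : ⁅W, B⁆ = ⊥ := by
    have hB1 : K₁ ≤ Subgroup.centralizer (B : Set G) := fun x hx =>
      Subgroup.mem_centralizer_iff.2 fun y hy => (commCase_comm_right c1 hx hy).symm
    have hB2 : K₂ ≤ Subgroup.centralizer (B : Set G) := fun x hx =>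
      Subgroup.mem_centralizer_iff.2 fun y hy => (commCase_comm_right c2 hx hy).symm
    exact Subgroup.commutator_eq_bot_iff_le_centralizer.2 (Subgroup.commutator_le.2 fun p hp q hq =>
      mul_mem (mul_mem (mul_mem (hB1 hp) (hB2 hq)) (inv_mem (hB1 hp))) (inv_mem (hB2 hq)))
  have hWR : ⁅W, R⁆ = ⊥ := by
    rw [← hR]
    exact le_centralizer_sup
      (commutator_eq_bot_of_forall_comm fun w hw n hn => hZc w (Subgroup.mem_sup_right hw) n hn) hWB
  have hRW : R ≤ Subgroup.normalizer (W : Set G) :=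
    le_normalizer_of_commute (commutator_eq_bot_comm.1 hWR)
  have hZB : ⁅Z, B⁆ ≤ W := by
    have hZnW : Z ≤ Subgroup.normalizer (W : Set G) := fun z hz => hRW (by
      rw [← hR]
      refine Subgroup.mem_sup_left ?_
      have := hZle hz
      exact (Subgroup.commutator_le.2 fun p hp q hq =>
        mul_mem (mul_mem (mul_mem hp hq) (inv_mem hp)) (inv_mem hq) : ⁅N, N⁆ ≤ N) this)
    have hbase : ∀ {P Q : Subgroup G}, ⁅P, Q⁆ ≤ Z →
        (∀ p ∈ P, ∀ q ∈ Q, ∀ y ∈ B, ⁅⁅p, q⁆, y⁆ ∈ W) → ⁅⁅P, Q⁆, B⁆ ≤ W := by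
      intro P Q hPQ h
      refine Subgroup.commutator_le.2 fun z hz y hy => ?_
      induction hz using Subgroup.closure_induction with
      | mem z hz => obtain ⟨p, hp, q, hq, rfl⟩ := hz; exact h p hp q hq y hy
      | one => simp
      | mul x z hx _ ih1 ih2 =>
        have e : ⁅x * z, y⁆ = x * ⁅z, y⁆ * x⁻¹ * ⁅x, y⁆ := by simp [commutatorElement_def, mul_assoc]
        rw [e]
        exact mul_mem ((Subgroup.mem_normalizer_iff.1 (hZnW (hPQ hx)) _).1 ih2) ih1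
      | inv x hx ih =>
        have e : ⁅x⁻¹, y⁆ = x⁻¹ * (⁅x, y⁆)⁻¹ * (x⁻¹)⁻¹ := by simp [commutatorElement_def, mul_assoc]
        rw [e]
        exact (Subgroup.mem_normalizer_iff.1 (inv_mem (hZnW (hPQ hx))) _).1 (inv_mem ih)
    refine commutator_sup_left_le (sup_le ?_ (le_sup_right.trans hZnW)) ?_
      ((Subgroup.commutator_le.2 fun w hw y hy => by
        rw [commutatorElement_eq_one_iff_mul_comm.2 (commute_of_commutator_eq_bot hWB hw hy)]
        exact one_mem _))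
    · exact le_sup_left.trans hZnW
    refine commutator_sup_left_le (le_sup_left.trans hZnW)
      (hbase (le_sup_left.trans le_sup_left) ?_) (hbase (le_sup_right.trans le_sup_left) ?_)
    · intro a ha k hk y hy
      have hya : ⁅y, a⁆ ∈ K₁ := by
        rw [hK₁, Subgroup.commutator_comm]; exact Subgroup.commutator_mem_commutator hy ha
      have hyk : y * k * y⁻¹ = k := by
        rw [← commCase_comm_right c2 hk hy, mul_inv_cancel_right]
      have e : ⁅⁅a, k⁆, y⁆ = ⁅a, k⁆ * (⁅y * a * y⁻¹, y * k * y⁻¹⁆)⁻¹ := by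
        simp [commutatorElement_def, mul_assoc]
      have e2 : ⁅⁅y, a⁆ * a, k⁆ = ⁅y, a⁆ * ⁅a, k⁆ * (⁅y, a⁆)⁻¹ * ⁅⁅y, a⁆, k⁆ := by
        simp [commutatorElement_def, mul_assoc]
      rw [show y * a * y⁻¹ = ⁅y, a⁆ * a by simp [commutatorElement_def], hyk, e2] at e
      rw [e, ← hZc _ (Subgroup.mem_sup_left (Subgroup.mem_sup_left
          (Subgroup.commutator_mem_commutator ha hk))) _ (hK₁N hya), mul_inv_cancel_right,
        mul_inv_rev, ← mul_assoc]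
      rw [show ⁅a, k⁆ * (⁅⁅y, a⁆, k⁆)⁻¹ * (⁅a, k⁆)⁻¹ = (⁅⁅y, a⁆, k⁆)⁻¹ from by
        have hw : ⁅⁅y, a⁆, k⁆ ∈ Z :=
          Subgroup.mem_sup_right (Subgroup.commutator_mem_commutator hya hk)
        have hak : ⁅a, k⁆ ∈ N := mul_mem (mul_mem (mul_mem (hAN ha) (hK₂N hk)) (inv_mem (hAN ha)))
          (inv_mem (hK₂N hk))
        rw [← hZc _ (inv_mem hw) _ hak, mul_inv_cancel_right]]
      exact inv_mem (Subgroup.commutator_mem_commutator hya hk)
    · intro k hk c hc y hy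
      have hyc : ⁅y, c⁆ ∈ K₂ := by
        rw [hK₂, Subgroup.commutator_comm]; exact Subgroup.commutator_mem_commutator hy hc
      have hyk : y * k * y⁻¹ = k := by
        rw [← commCase_comm_right c1 hk hy, mul_inv_cancel_right]
      have e : ⁅⁅k, c⁆, y⁆ = ⁅k, c⁆ * (⁅y * k * y⁻¹, y * c * y⁻¹⁆)⁻¹ := by
        simp [commutatorElement_def, mul_assoc]
      have e2 : ⁅k, ⁅y, c⁆ * c⁆ = ⁅k, ⁅y, c⁆⁆ * (⁅y, c⁆ * ⁅k, c⁆ * (⁅y, c⁆)⁻¹) := by
        simp [commutatorElement_def, mul_assoc]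
      rw [show y * c * y⁻¹ = ⁅y, c⁆ * c by simp [commutatorElement_def], hyk, e2] at e
      rw [e, ← hZc _ (Subgroup.mem_sup_left (Subgroup.mem_sup_right
          (Subgroup.commutator_mem_commutator hk hc))) _ (hK₂N hyc), mul_inv_cancel_right,
        mul_inv_rev, ← mul_assoc, mul_inv_cancel, one_mul]
      exact inv_mem (Subgroup.commutator_mem_commutator hk hyc)
  have hK₁R : K₁ ≤ R := hK₁N.trans (hR ▸ le_sup_left)
  have hK₂R : K₂ ≤ R := hK₂N.trans (hR ▸ le_sup_left)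
  have hZR : ⁅Z, R⁆ ≤ W := by
    rw [← hR, Subgroup.commutator_comm]
    refine commutator_sup_left_le (hR.le.trans hRW) ?_ (by rwa [Subgroup.commutator_comm])
    exact Subgroup.commutator_le.2 fun n hn z hz => by
      rw [commutatorElement_eq_one_iff_mul_comm.2 (hZc z hz n hn).symm]
      exact one_mem _
  have hRZ : R ≤ Subgroup.normalizer (Z : Set G) := by
    rw [← hR]
    refine sup_le (le_normalizer_of_commute (commutator_eq_bot_of_forall_comm
      fun n hn z hz => (hZc z hz n hn).symm)) fun y hy => ?_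
    have hle : ∀ y ∈ B, ∀ z ∈ Z, y * z * y⁻¹ ∈ Z := fun y hy z hz => by
      have h1 : ⁅z, y⁆ ∈ W := hZB (Subgroup.commutator_mem_commutator hz hy)
      have : y * z * y⁻¹ = (⁅z, y⁆)⁻¹ * z := by simp [commutatorElement_def, mul_assoc]
      rw [this]
      exact mul_mem (Subgroup.mem_sup_right (inv_mem h1)) hz
    refine conjBy_eq_self_iff.1 (le_antisymm ?_ ?_)
    · rintro _ ⟨z, hz, rfl⟩; exact hle y hy z hz
    · intro z hz
      refine mem_conjBy.2 ?_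
      simpa using hle y⁻¹ (inv_mem hy) z hz
  set K := K₁ ⊔ K₂ ⊔ Z with hKdef
  have hKN : K ≤ N := sup_le (sup_le hK₁N hK₂N) (hZle.trans (Subgroup.commutator_le.2
    fun p hp q hq => mul_mem (mul_mem (mul_mem hp hq) (inv_mem hp)) (inv_mem hq)))
  have hcomm0 : ∀ {P Q M : Subgroup G}, ⁅P, Q⁆ = ⊥ → ⁅P, Q⁆ ≤ M :=
    fun h => h.le.trans bot_le
  have hKR : ⁅K, R⁆ ≤ Z := by
    have hKnZ : K ≤ Subgroup.normalizer (Z : Set G) :=
      (hKN.trans (hR ▸ le_sup_left)).trans hRZ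
    refine commutator_sup_left_le hKnZ ?_ (hZR.trans le_sup_right)
    refine commutator_sup_left_le (le_sup_left.trans hKnZ) ?_ ?_ <;>
      rw [Subgroup.commutator_comm] <;>
      refine commutator_sup_left_le hRZ (commutator_sup_left_le (le_sup_left.trans hRZ) ?_ ?_) ?_
    · exact hcomm0 (commCase_left_commute c1)
    · exact hcomm0 (commCase_right_commute c1)
    · rw [Subgroup.commutator_comm]; exact le_sup_right.trans le_sup_left
    · exact le_sup_left.trans le_sup_left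
    · exact hcomm0 (commCase_right_commute c2)
    · exact hcomm0 (commCase_left_commute c2)
  have hRR : ⁅R, R⁆ ≤ K := by
    have hRK : R ≤ Subgroup.normalizer (K : Set G) := fun r hr => by
      have hle : ∀ r ∈ R, conjBy K r ≤ K := by
        rintro r hr _ ⟨x, hx, rfl⟩
        have h1 : ⁅x, r⁆ ∈ K := le_sup_right (a := K₁ ⊔ K₂) (hKR (Subgroup.commutator_mem_commutator hx hr))
        show r * x * r⁻¹ ∈ K
        rw [show r * x * r⁻¹ = (⁅x, r⁆)⁻¹ * x by simp [commutatorElement_def, mul_assoc]]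
        exact mul_mem (inv_mem h1) hx
      refine conjBy_eq_self_iff.1 (le_antisymm (hle r hr) ?_)
      conv_lhs => rw [← conjBy_conjBy_inv K r]
      exact conjBy_mono r (hle r⁻¹ (inv_mem hr))
    refine commutator_sup_self_le hRK
      (commutator_sup_self_le (le_sup_left.trans hRK) (hcomm0 (self hA)) (hcomm0 (self hB))
        (le_sup_left.trans le_sup_left))
      (hcomm0 (self hC))
      (commutator_sup_left_le (le_sup_left.trans hRK) (hcomm0 hcAC) ?_)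
    rw [Subgroup.commutator_comm]; exact le_sup_right.trans le_sup_left
  rw [Subgroup.nilpotent_iff_lowerCentralSeries]
  refine ⟨4, ?_⟩
  apply Subgroup.map_injective R.subtype_injective
  rw [Subgroup.map_bot, Subgroup.map_lowerCentralSeries, ← MonoidHom.range_eq_map,
    Subgroup.range_subtype, eq_bot_iff]
  rw [Subgroup.lowerCentralSeries_succ, Subgroup.lowerCentralSeries_succ,
    Subgroup.lowerCentralSeries_succ, Subgroup.lowerCentralSeries_succ,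
    Subgroup.lowerCentralSeries_zero]
  refine (Subgroup.commutator_mono ((Subgroup.commutator_mono ((Subgroup.commutator_mono hRR le_rfl).trans
    hKR) le_rfl).trans hZR) le_rfl).trans hWR.le

end Cfsg.Agent.S5030
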