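import Cfsg.Statements.S5037
import Mathlib
import Cfsg.Agent.Lib.RootSubgroups.Inclusion

set_option autoImplicit false
open Cfsg Cfsg.Agent.Lib.RootSubgroups Cfsg.Agent.Lib.RootSubgroups.RootSet

namespace Cfsg.Agent.S5037

/-- Let S be a class of abstract root subgroups of G that is either degenerate or non-degenerate (so either the commutator case never occurs, or all three cases occur), and A ≠ C members of S. If every member of S commuting with A commutes with C, then A and C have the same commuting members of S; and if every rank one partner of A is a rank one partner of C, then A and C commute and have the same rank one partners. -/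
theorem result {G : Type*} [Group G] {S : Set (Subgroup G)} (hS : Cfsg.IsRootSubgroupClass S)
    (hdn : Cfsg.IsDegenerateRootSet S ∨ Cfsg.IsNondegenerateRootSet S)
    {A C : Subgroup G} (hA : A ∈ S) (hC : C ∈ S) (hAC : A ≠ C) :
    (Cfsg.centralizingMembers S A ⊆ Cfsg.centralizingMembers S C →
      Cfsg.centralizingMembers S A = Cfsg.centralizingMembers S C) ∧
    (Cfsg.rankOnePartners S A ⊆ Cfsg.rankOnePartners S C →
      ⁅A, C⁆ = ⊥ ∧ Cfsg.rankOnePartners S A = Cfsg.rankOnePartners S C) := by
  by_cases hiso : ∀ B ∈ S, ¬ IsIsolatedIn (FAdj S) S B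
  · refine ⟨fun h => Set.Subset.antisymm h ?_, pairSub hS.1 hiso hA hC⟩
    exact commSub_iff.1 ((commSub_iff.2 h).antisymm hS.1 hiso hA hC)
  · push Not at hiso
    obtain ⟨B, hB, hBi⟩ := hiso
    have hno : ∀ X ∈ S, ∀ Y ∈ S, ¬ IsRankOnePair X Y := fun X hX Y hY hp =>
      class_not_isolated hS.1 hS.2 hX (not_isolated_of_pair hX hY hp) B hB hBi
    rcases hdn with hd | hd
    · have hcomm : ∀ X ∈ S, ∀ Y ∈ S, ⁅X, Y⁆ = ⊥ := fun X hX Y hY => by
        rcases hS.1.pair X hX Y hY with h | h | h
        · exact h
        · exact absurd h (hno X hX Y hY)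
        · exact absurd h (hd X hX Y hY)
      have hall : ∀ X ∈ S, centralizingMembers S X = S := fun X hX =>
        Set.ext fun Y => ⟨fun h => h.1, fun hY => ⟨hY,
          Subgroup.commutator_eq_bot_iff_le_centralizer.1 (hcomm Y hY X hX)⟩⟩
      have hemp : ∀ X ∈ S, rankOnePartners S X = ∅ := fun X hX =>
        Set.eq_empty_iff_forall_notMem.2 fun Y hY => hno X hX Y hY.1 hY.2
      exact ⟨fun _ => by rw [hall A hA, hall C hC],
        fun _ => ⟨hcomm A hA C hC, by rw [hemp A hA, hemp C hC]⟩⟩
    · obtain ⟨X, hX, Y, hY, hp⟩ := hd.2.1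
      exact absurd hp (hno X hX Y hY)

end Cfsg.Agent.S5037
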