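import Cfsg.Statements.S5040
import Mathlib
import Cfsg.Agent.Lib.RootSubgroups.ClassLines

set_option autoImplicit false
open Cfsg Cfsg.Agent.Lib.RootSubgroups Cfsg.Agent.Lib.RootSubgroups.RootSet

namespace Cfsg.Agent.S5040

/-- Let S be a non-degenerate class of abstract root subgroups of G and Δ a weak TI-subset of S. Then the members of Δ commute with one another elementwise. -/
theorem result {G : Type*} [Group G] {S : Set (Subgroup G)} (hS : Cfsg.IsRootSubgroupClass S) (hnd : Cfsg.IsNondegenerateRootSet S)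
    {Δ : Set (Subgroup G)} (hΔ : Cfsg.IsWeakTISubset S Δ) : Cfsg.IsAbelianFamily Δ := by
  obtain ⟨hsub, -, hne, hTI⟩ := hΔ
  have hni := nondegenerate_not_isolated hS hnd
  let K : Subgroup G :=
    { carrier := {g | (fun A => conjBy A g) '' Δ = Δ}
      one_mem' := by
        show (fun A => conjBy A (1 : G)) '' Δ = Δ
        simp only [conjBy_one, Set.image_id']
      mul_mem' := fun {x y} hx hy => by
        show (fun A => conjBy A (x * y)) '' Δ = Δ
        simp only [conjBy_mul]
        rw [← Set.image_image (g := fun A => conjBy A x), hy, hx]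
      inv_mem' := fun {x} hx => by
        show (fun A => conjBy A x⁻¹) '' Δ = Δ
        conv_lhs => rw [← hx]
        simp only [Set.image_image, conjBy_inv_conjBy, Set.image_id'] }
  have hK : ∀ {A E : Subgroup G}, A ∈ Δ → E ∈ S → ⁅A, E⁆ = ⊥ → E ≤ K := by
    intro A E hA hE hc e he
    rcases eq_or_ne e 1 with rfl | he1
    · exact K.one_mem
    rcases hTI e ⟨he1, E, hE, he⟩ with h | h
    · exact h
    · exfalso
      refine Set.disjoint_left.1 h ⟨A, hA, rfl⟩ ?_
      show conjBy A e ∈ Δ
      rw [conjBy_self_of_mem_normalizer (Subgroup.centralizer_le_normalizer _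
        (Subgroup.commutator_eq_bot_iff_le_centralizer.1 (commutator_eq_bot_comm.1 hc) he))]
      exact hA
  have hmove : ∀ {A : Subgroup G} {x : G}, A ∈ Δ → x ∈ K → conjBy A x ∈ Δ := by
    intro A x hA hx
    have h : (fun A => conjBy A x) '' Δ = Δ := hx
    rw [← h]
    exact ⟨A, hA, rfl⟩
  have hpair : ∀ A ∈ Δ, ∀ B ∈ Δ, IsRankOnePair A B → False := by
    intro A hA B hB hp
    have htop : K = ⊤ := line_generation hS hnd (hsub hA) (hsub hB) hp
      (fun C hC => hK hA hC.1.1 hC.1.2.2)
      (hK hB (hsub hB) (commutator_self_eq_bot hS.1 (hsub hB)))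
    refine hne (Set.Subset.antisymm hsub fun E hE => ?_)
    obtain ⟨g, rfl⟩ := hS.2.2 A (hsub hA) E hE
    exact hmove hA (htop ▸ Subgroup.mem_top g)
  intro A hA B hB a ha b hb
  rcases hS.1.pair A (hsub hA) B (hsub hB) with h | h | h
  · exact commute_of_commutator_eq_bot h ha hb
  · exact (hpair A hA B hB h).elim
  · exfalso
    obtain ⟨D, hcy⟩ := completion hS.1 hni (hsub hA) (hsub hB) h
    have hDK : D ≤ K := hK hA hcy.memD
      (commutator_eq_bot_of_forall_comm fun x hx d hd => hcy.commDA hd hx)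
    have hBK : B ≤ K := hK hB (hsub hB) (commutator_self_eq_bot hS.1 (hsub hB))
    obtain ⟨x, hx, hxD⟩ := RankOne.mem_unipotentSubgroups_right hcy.isRankOnePair
    exact hpair B hB D (hxD ▸ hmove hB (sup_le hBK hDK hx)) hcy.isRankOnePair

end Cfsg.Agent.S5040
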