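import Cfsg.Statements.S5049
import Mathlib
import Cfsg.Agent.Lib.PSolvable.Core

set_option autoImplicit false
open Cfsg
open scoped commutatorElement

namespace Cfsg.Agent.S5049

/-- Let G be a finite group generated by a set D of odd transpositions (root involutions with no product of order 4), Q = O₂(G), and for a ∈ D let Q_a be the commutator subgroup of Q with a. Then every member of D commuting with a centralizes Q_a; and for b ∈ D with ab of odd order greater than 1, the centralizer of ab in Q is the intersection of the centralizers of a and b in Q. -/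
theorem result {G : Type*} [Group G] [Finite G] {D : Set G} (hD : Cfsg.IsOddTranspositionSet D) {a : G} (ha : a ∈ D) :
    (∀ e ∈ Cfsg.commutingMembers D a, ∀ q ∈ ⁅Cfsg.pCore 2 G, Subgroup.zpowers a⁆, e * q = q * e) ∧
    (∀ b ∈ Cfsg.oddPartners D a,
      Cfsg.pCore 2 G ⊓ Subgroup.centralizer {a * b} = Cfsg.pCore 2 G ⊓ Subgroup.centralizer {a} ⊓ Subgroup.centralizer {b}) := by
  set Q := Cfsg.pCore 2 G with hQdef
  have hQn : Q.Normal := Cfsg.pCore_normal 2 G
  have hQp : IsPGroup 2 Q := Lib.PSolvable.pCore_isPGroup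
  have hsq : ∀ {x}, x ∈ D → x * x = 1 := fun {x} hx => by
    rw [← sq, ← hD.1.orderOf_eq x hx, pow_orderOf_eq_one]
  have hinv : ∀ {x}, x ∈ D → x⁻¹ = x := fun hx => inv_eq_of_mul_eq_one_left (hsq hx)
  have hp2 : ∀ {x y : G}, x ∈ D → y ∈ D → (x * y) ^ 2 ∈ Q → x * y = y * x := by
    intro x y hx hy hq
    rcases hD.1.pair x hx y hy with h | h | h
    · exact h
    · obtain ⟨k, hk⟩ := hQp ⟨_, hq⟩
      have h1 : (x * y) ^ (2 ^ (k + 1)) = 1 := by
        have h0 := congrArg Subtype.val hk
        simp only [SubmonoidClass.coe_pow, OneMemClass.coe_one] at h0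
        rw [pow_succ', pow_mul]; exact h0
      obtain ⟨i, -, hi⟩ := (Nat.dvd_prime_pow Nat.prime_two).1 (orderOf_dvd_of_pow_eq_one h1)
      rw [hi] at h
      rcases i with _ | i
      · rw [pow_zero, orderOf_eq_one_iff] at hi
        have h3 : x = y := (eq_inv_of_mul_eq_one_left hi).trans (hinv hy)
        rw [h3]
      · rw [pow_succ] at h
        exact absurd h (by simp [Nat.odd_mul, parity_simps])
    · exact absurd h.1 (hD.2 x hx y hy)
  have hconj : ∀ {e a q : G}, e ∈ D → a ∈ D → e * a = a * e → q ∈ Q →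
      e * (q * a * q⁻¹) = (q * a * q⁻¹) * e := by
    intro e a q he ha hea hq
    refine hp2 he (hD.1.conj_mem a ha q) ?_
    rw [← QuotientGroup.eq_one_iff]
    have hq1 : (QuotientGroup.mk q : G ⧸ Q) = 1 := (QuotientGroup.eq_one_iff q).2 hq
    have h2 : (e * a) * (e * a) = 1 := by
      conv_lhs => arg 2; rw [hea]
      rw [mul_assoc, ← mul_assoc a a, hsq ha, one_mul, hsq he]
    rw [QuotientGroup.mk_pow, QuotientGroup.mk_mul, QuotientGroup.mk_mul, QuotientGroup.mk_mul,
      QuotientGroup.mk_inv, hq1, one_mul, inv_one, mul_one, ← QuotientGroup.mk_mul,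
      ← QuotientGroup.mk_pow, sq, h2, QuotientGroup.mk_one]
  refine ⟨?_, fun b hb => le_antisymm ?_ ?_⟩
  · rintro e ⟨he, hea⟩
    have hle : ⁅Q, Subgroup.zpowers a⁆ ≤ Subgroup.centralizer {e} := by
      refine Subgroup.commutator_le.2 fun q hq x hx => Subgroup.mem_centralizer_singleton_iff.2 ?_
      obtain ⟨n, rfl⟩ := hx
      have h1 : Commute e a := hea
      have h2 : Commute e (q * a ^ n * q⁻¹) := by
        rw [← conj_zpow]
        exact Commute.zpow_right (hconj he ha hea hq) n
      rw [commutatorElement_def]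
      exact ((h2.mul_right (h1.zpow_right n).inv_right)).eq.symm
    exact fun q hq => (Subgroup.mem_centralizer_singleton_iff.1 (hle hq)).symm
  · rintro q ⟨hq, hc⟩
    obtain ⟨hbD, hbne, hodd⟩ := hb
    have hc' : q * (a * b) = a * b * q := Subgroup.mem_centralizer_singleton_iff.1 hc
    set a' := q * a * q⁻¹ with ha'
    set b' := q * b * q⁻¹ with hb'
    have hprod : a' * b' = a * b := by
      calc a' * b' = q * (a * b) * q⁻¹ := by simp [ha', hb', mul_assoc]
        _ = a * b := by rw [hc', mul_inv_cancel_right]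
    have hb'D : b' ∈ D := hD.1.conj_mem b hbD q
    have ha'D : a' ∈ D := hD.1.conj_mem a ha q
    set t := a * a' with ht
    have hca : Commute a a' := hconj ha ha rfl hq
    have hcb : Commute b b' := hconj hbD hbD rfl hq
    have ht2 : t = b * b' := by
      have h1 : a' = a * b * b' := by
        rw [← hprod, mul_assoc, hsq hb'D, mul_one]
      calc t = a * (a * b * b') := by rw [ht, h1]
        _ = (a * a) * b * b' := by simp only [mul_assoc]
        _ = b * b' := by rw [hsq ha, one_mul]
    have hta : Commute t a := ((Commute.refl a).mul_right hca).symm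
    have htb : Commute t b := ht2 ▸ ((Commute.refl b).mul_right hcb).symm
    have htt : t * t = 1 := by
      conv_lhs => arg 2; rw [ht, hca.eq]
      rw [ht, mul_assoc, ← mul_assoc a', hsq ha'D, one_mul, hsq ha]
    have hab : orderOf (b * a) = orderOf (a * b) := by
      rw [← orderOf_inv (a * b), mul_inv_rev, hinv ha, hinv hbD]
    have hnot1 : orderOf (a * b) ≠ 1 := by
      rw [ne_eq, orderOf_eq_one_iff]
      intro h
      exact hbne ((eq_inv_of_mul_eq_one_left h).trans (hinv hbD)).symm
    have ht1 : t = 1 := by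
      by_contra hne
      have hot : orderOf t = 2 := @orderOf_eq_prime _ _ _ _ ⟨Nat.prime_two⟩ (by rw [sq, htt]) hne
      have hba' : b * a' = b * a * t := by rw [ht, mul_assoc b a, ← mul_assoc a a, hsq ha, one_mul]
      have hcm : Commute (b * a) t := (htb.mul_right hta).symm
      have ho : orderOf (b * a') = orderOf (a * b) * 2 := by
        rw [hba', hcm.orderOf_mul_eq_mul_orderOf_of_coprime (by rw [hot, hab]; exact hodd.coprime_two_right),
          hot, hab]
      rcases hD.1.pair b hbD a' ha'D with h | h | h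
      · have h1 : (b * a') ^ 2 = 1 := by
          rw [sq]
          conv_lhs => arg 2; rw [h]
          rw [mul_assoc, ← mul_assoc a', hsq ha'D, one_mul, hsq hbD]
        have h2 := orderOf_dvd_of_pow_eq_one h1
        rw [ho] at h2
        exact hnot1 (Nat.dvd_one.1 (Nat.dvd_of_mul_dvd_mul_right two_pos (by simpa using h2)))
      · rw [ho] at h
        exact absurd h (by simp [Nat.odd_mul, parity_simps])
      · exact hD.2 b hbD a' ha'D h.1
    have hfix : ∀ {x x' : G}, x ∈ D → x' = q * x * q⁻¹ → x * x' = 1 → q * x = x * q := by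
      intro x x' hx hx' h1
      rw [hx'] at h1
      have h2 : q * x * q⁻¹ = x := by rw [← inv_eq_of_mul_eq_one_right h1, hinv hx]
      exact mul_inv_eq_iff_eq_mul.1 h2
    exact ⟨⟨hq, Subgroup.mem_centralizer_singleton_iff.2 (hfix ha ha' (ht ▸ ht1))⟩,
      Subgroup.mem_centralizer_singleton_iff.2 (hfix hbD hb' (ht2 ▸ ht1))⟩
  · rintro q ⟨⟨hq, hqa⟩, hqb⟩
    refine ⟨hq, Subgroup.mem_centralizer_singleton_iff.2 ?_⟩
    rw [← mul_assoc, Subgroup.mem_centralizer_singleton_iff.1 hqa, mul_assoc,
      Subgroup.mem_centralizer_singleton_iff.1 hqb, mul_assoc]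

end Cfsg.Agent.S5049
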