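import Cfsg.Statements.S5057
import Mathlib
import Cfsg.Agent.Lib.RootSubgroups.Conj

set_option autoImplicit false
open Cfsg

namespace Cfsg.Agent.S5057

/-- The involutions of the alternating group of degree 6 form a class of root involutions (a single conjugacy class of involutions generating the group, any two of which commute, have product of odd order, or have product of order 4 whose square is again an involution of the class), and the product of any two of them has order at most 5. -/
theorem result :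
    Cfsg.IsRootInvolutionClass {g : ↥(alternatingGroup (Fin 6)) | orderOf g = 2} ∧
    ∀ d ∈ {g : ↥(alternatingGroup (Fin 6)) | orderOf g = 2}, ∀ e ∈ {g : ↥(alternatingGroup (Fin 6)) | orderOf g = 2},
      orderOf (d * e) ≤ 5 := by
  have hdec : ∀ g : ↥(alternatingGroup (Fin 6)),
      (g = 1 ∨ g ^ 2 = 1 ∨ g ^ 3 = 1 ∨ g ^ 4 = 1 ∨ g ^ 5 = 1) ∧
        (g ^ 2 = 1 → g = 1 ∨ (g : Equiv.Perm (Fin 6)).support.card = 4) := by decide +kernel
  have hord : ∀ g : ↥(alternatingGroup (Fin 6)), orderOf g ≤ 5 := by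
    intro g
    rcases (hdec g).1 with h | h | h | h | h
    · rw [h, orderOf_one]; norm_num
    all_goals exact le_trans (orderOf_le_of_pow_eq_one (by norm_num) h) (by norm_num)
  set D := {g : ↥(alternatingGroup (Fin 6)) | orderOf g = 2} with hD
  have hsq : ∀ {d}, d ∈ D → d * d = 1 := fun {d} hd => by
    have h2 : orderOf d = 2 := hd
    rw [← sq, ← h2, pow_orderOf_eq_one]
  have hcyc : ∀ d ∈ D, (d : Equiv.Perm (Fin 6)).cycleType = Multiset.replicate 2 2 ∧
      (d : Equiv.Perm (Fin 6)).support.card = 4 := by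
    intro d hd
    have h2 : orderOf d = 2 := hd
    have hne : d ≠ 1 := fun h => by rw [h, orderOf_one] at h2; norm_num at h2
    have hc := ((hdec d).2 (by rw [sq]; exact hsq hd)).resolve_left hne
    haveI : Fact (Nat.Prime 2) := ⟨Nat.prime_two⟩
    obtain ⟨n, hn⟩ := Equiv.Perm.cycleType_prime_order (σ := (d : Equiv.Perm (Fin 6)))
      (by rw [← Subgroup.orderOf_coe] at h2; rw [h2]; exact Nat.prime_two)
    rw [← Subgroup.orderOf_coe] at h2
    rw [h2] at hn
    have hs := Equiv.Perm.sum_cycleType (d : Equiv.Perm (Fin 6))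
    rw [hn, Multiset.sum_replicate, hc, smul_eq_mul] at hs
    exact ⟨by rw [hn, show n + 1 = 2 by omega], hc⟩
  have hconj : ∀ d ∈ D, ∀ g, g * d * g⁻¹ ∈ D := by
    intro d hd g
    show orderOf (g * d * g⁻¹) = 2
    rw [show g * d * g⁻¹ = MulAut.conj g d from rfl, MulEquiv.orderOf_eq]; exact hd
  obtain ⟨d₀, hd₀⟩ : ∃ d, d ∈ D :=
    ⟨⟨Equiv.swap 0 1 * Equiv.swap 2 3, Equiv.Perm.mem_alternatingGroup.2 (by decide)⟩,
      @orderOf_eq_prime _ _ _ _ ⟨Nat.prime_two⟩ (by decide) (by decide)⟩
  refine ⟨⟨⟨fun d hd => hd, ?_, hconj, ?_⟩, ⟨d₀, hd₀⟩, ?_⟩, fun d _ e _ => hord _⟩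
  · haveI : IsSimpleGroup ↥(alternatingGroup (Fin 6)) := alternatingGroup.isSimpleGroup (by simp)
    have hn : (Subgroup.closure D).Normal := by
      refine ⟨fun x hx g => ?_⟩
      induction hx using Subgroup.closure_induction with
      | mem y hy => exact Subgroup.subset_closure (hconj y hy g)
      | one => simp
      | mul y z _ _ h1 h2 => simpa [mul_assoc] using mul_mem h1 h2
      | inv y _ h1 => simpa [mul_assoc] using inv_mem h1
    refine hn.eq_bot_or_eq_top.resolve_left fun h => ?_
    have h1 := Subgroup.subset_closure hd₀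
    rw [h, SetLike.mem_coe, Subgroup.mem_bot] at h1
    have h2 : orderOf d₀ = 2 := hd₀
    rw [h1, orderOf_one] at h2
    norm_num at h2
  · intro a ha b hb
    by_cases hc : a * b = b * a
    · exact Or.inl hc
    right
    have h2 : (a * b) ^ 2 ≠ 1 := by
      intro h
      apply hc
      rw [sq] at h
      calc a * b = (a * b)⁻¹ := eq_inv_of_mul_eq_one_left h
        _ = b * a := by
          rw [mul_inv_rev, inv_eq_of_mul_eq_one_left (hsq hb), inv_eq_of_mul_eq_one_left (hsq ha)]
    have hle := hord (a * b)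
    have hpos : 0 < orderOf (a * b) := orderOf_pos _
    have h1 : ∀ n, orderOf (a * b) = n → n ∣ 2 → False := fun n hn hdvd =>
      h2 (orderOf_dvd_iff_pow_eq_one.1 (hn.symm ▸ hdvd))
    obtain h | h | h | h | h : orderOf (a * b) = 1 ∨ orderOf (a * b) = 2 ∨ orderOf (a * b) = 3 ∨
        orderOf (a * b) = 4 ∨ orderOf (a * b) = 5 := by omega
    · exact (h1 1 h (by norm_num)).elim
    · exact (h1 2 h (by norm_num)).elim
    · exact Or.inl (by rw [h]; decide)
    · refine Or.inr ⟨h, ?_⟩
      show orderOf ((a * b) ^ 2) = 2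
      rw [orderOf_pow_of_dvd (by norm_num) (by rw [h]; norm_num), h]
    · exact Or.inl (by rw [h]; decide)
  · intro a ha b hb
    have h1 : IsConj (a : Equiv.Perm (Fin 6)) (b : Equiv.Perm (Fin 6)) :=
      Equiv.Perm.isConj_of_cycleType_eq (by rw [(hcyc a ha).1, (hcyc b hb).1])
    obtain ⟨g, hg⟩ := isConj_iff.1 (alternatingGroup.isConj_of h1 (by rw [(hcyc a ha).2]; simp))
    exact ⟨g, hg.symm⟩

end Cfsg.Agent.S5057
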