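import Cfsg.Statements.S5060
import Mathlib
import Cfsg.Agent.Lib.RootSubgroups.SL2RingFinite

set_option autoImplicit false
open Cfsg Cfsg.Agent.Lib.RootSubgroups

namespace Cfsg.Agent.S5060

/-- Let k ⊆ K be fields with the characteristic of k not 2 and k not of order 3, and let α ∈ K be a non-zero element algebraic over k. Then the subgroup of SL₂(K) generated by the upper unitriangular matrices with entry c and the lower unitriangular matrices with entry cα, c ranging over k, is exactly the group of matrices of SL₂(K) with all entries in k(α). -/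
theorem result {k K : Type*} [Field k] [Field K] [Algebra k K] (hk2 : ringChar k ≠ 2) (hk3 : Nat.card k ≠ 3)
    (α : K) (hα : IsAlgebraic k α) (hα0 : α ≠ 0) :
    (Subgroup.closure ({g : Matrix.SpecialLinearGroup (Fin 2) K | ∃ c : k, (g : Matrix (Fin 2) (Fin 2) K) = !![1, algebraMap k K c; 0, 1]} ∪
        {g : Matrix.SpecialLinearGroup (Fin 2) K | ∃ c : k, (g : Matrix (Fin 2) (Fin 2) K) = !![1, 0; algebraMap k K c * α, 1]}) :
      Set (Matrix.SpecialLinearGroup (Fin 2) K)) =
    {g : Matrix.SpecialLinearGroup (Fin 2) K | ∀ i j : Fin 2, (g : Matrix (Fin 2) (Fin 2) K) i j ∈ IntermediateField.adjoin k ({α} : Set K)} := by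
  haveI : FiniteDimensional k (IntermediateField.adjoin k ({α} : Set K)) :=
    IntermediateField.adjoin.finiteDimensional hα.isIntegral
  set a : IntermediateField.adjoin k ({α} : Set K) :=
    ⟨α, IntermediateField.mem_adjoin_simple_self k α⟩ with ha
  have h2 : (2 : k) ≠ 0 := Ring.two_ne_zero hk2
  have hgen : Algebra.adjoin k ({a} : Set (IntermediateField.adjoin k ({α} : Set K))) = ⊤ := by
    rw [eq_top_iff]
    intro x _
    have hx : (x : K) ∈ Algebra.adjoin k ({α} : Set K) := by
      rw [← IntermediateField.adjoin_simple_toSubalgebra_of_isAlgebraic hα]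
      exact x.2
    rw [Algebra.adjoin_singleton_eq_range_aeval] at hx ⊢
    obtain ⟨f, hf⟩ := hx
    refine ⟨f, Subtype.ext ?_⟩
    rw [← hf]
    exact (Polynomial.aeval_algHom_apply
      (IntermediateField.adjoin k ({α} : Set K)).val a f).symm
  have ha0 : a ≠ 0 := fun h => hα0 (congrArg Subtype.val h)
  have htop := SL2Ring.full_field h2 hk3 hgen ha0
  set φ : SL2Ring.SLR (IntermediateField.adjoin k ({α} : Set K)) →* SL2Ring.SLR K :=
    Matrix.SpecialLinearGroup.map (algebraMap (IntermediateField.adjoin k ({α} : Set K)) K) with hφ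
  have himg : φ '' SL2Ring.gens k a =
      ({g : Matrix.SpecialLinearGroup (Fin 2) K | ∃ c : k,
          (g : Matrix (Fin 2) (Fin 2) K) = !![1, algebraMap k K c; 0, 1]} ∪
        {g : Matrix.SpecialLinearGroup (Fin 2) K | ∃ c : k,
          (g : Matrix (Fin 2) (Fin 2) K) = !![1, 0; algebraMap k K c * α, 1]}) := by
    ext g
    constructor
    · rintro ⟨_, (⟨c, rfl⟩ | ⟨c, rfl⟩), rfl⟩
      · exact Or.inl ⟨c, by rw [hφ, SL2Ring.map_ux]; rfl⟩
      · exact Or.inr ⟨c, by rw [hφ, SL2Ring.map_ly, map_mul]; rfl⟩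
    · rintro (⟨c, hc⟩ | ⟨c, hc⟩)
      · exact ⟨_, Or.inl ⟨c, rfl⟩, Subtype.ext (by rw [hφ, SL2Ring.map_ux, hc]; rfl)⟩
      · exact ⟨_, Or.inr ⟨c, rfl⟩, Subtype.ext (by rw [hφ, SL2Ring.map_ly, map_mul, hc]; rfl)⟩
  rw [← himg, ← MonoidHom.map_closure]
  ext g
  constructor
  · rintro ⟨h, -, rfl⟩ i j
    exact (h i j).2
  · intro hg
    refine ⟨⟨Matrix.of fun i j => ⟨g i j, hg i j⟩, ?_⟩, htop ▸ Subgroup.mem_top _, ?_⟩
    · apply (algebraMap (IntermediateField.adjoin k ({α} : Set K)) K).injective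
      rw [map_one, RingHom.map_det]
      exact g.2
    · apply Subtype.ext
      ext i j
      rfl

end Cfsg.Agent.S5060
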