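import Cfsg.Statements.S5064
import Mathlib
import Cfsg.Agent.Lib.RootSubgroups.QuadPairDichotomy
import Cfsg.Agent.Lib.RootSubgroups.QuadPairUnipotent

set_option autoImplicit false
universe u
open Cfsg Cfsg.Agent.Lib.RootSubgroups

namespace Cfsg.Agent.S5064

/-- Let k be a field of characteristic not 2 with k not of order 3, M a finite-dimensional k-vector space and G ≤ GL(M) such that (G, M) is a quadratic pair (M irreducible for G, and G generated by its quadratically acting elements σ whose scalar family 1 + c(σ − 1), c ∈ k, lies in G). Write 𝒬_d for the quadratic elements of G of minimal commutator rank, E(σ) for the subgroup generated by the members of 𝒬_d with the same fixed space and commutator space as σ, and Σ for the set of these subgroups. If σ, τ ∈ 𝒬_d and the subgroup H generated by their two scalar families does not act unipotently on M, then H is isomorphic to SL₂ over a simple algebraic extension k(λ) of k. -/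
theorem result {k : Type u} [Field k] (hk2 : ringChar k ≠ 2) (hk3 : Nat.card k ≠ 3)
    {M : Type u} [AddCommGroup M] [Module k M] [FiniteDimensional k M]
    {G : Subgroup (LinearMap.GeneralLinearGroup k M)} (hG : Cfsg.IsQuadraticPair G)
    {σ τ : LinearMap.GeneralLinearGroup k M} (hσ : σ ∈ Cfsg.minimalQuadraticElements G) (hτ : τ ∈ Cfsg.minimalQuadraticElements G)
    (hH : ¬ Cfsg.IsUnipotentOn (Subgroup.closure (Cfsg.scalarFamily σ ∪ Cfsg.scalarFamily τ))) :
    ∃ (K : Type u) (_ : Field K) (_ : Algebra k K) (lam : K), IsAlgebraic k lam ∧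
      IntermediateField.adjoin k ({lam} : Set K) = ⊤ ∧
      Nonempty (↥(Subgroup.closure (Cfsg.scalarFamily σ ∪ Cfsg.scalarFamily τ)) ≃* Matrix.SpecialLinearGroup (Fin 2) K) := by
  have h2 : (2 : k) ≠ 0 := Ring.two_ne_zero hk2
  have h0 : QuadPair.Opp σ τ := QuadPair.opp_of_not_nilpotent h2 hk3 hσ hτ fun hz =>
    hH (QuadPair.isUnipotentOn_pair (QuadPair.sq_zero hσ) (QuadPair.sq_zero hτ) hz)
  obtain ⟨L, hL, hA, lam, φ, m⟩ := h0.exists_sl2 h2 hk3 hσ hτ
  have := m.finite
  refine ⟨L, hL, hA, lam, Algebra.IsAlgebraic.isAlgebraic lam, ?_,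
    ⟨((MonoidHom.ofInjective m.inj).trans (MulEquiv.subgroupCongr m.range)).symm⟩⟩
  rw [eq_top_iff]
  intro x _
  exact IntermediateField.algebra_adjoin_le_adjoin k _ (m.adjoin ▸ Algebra.mem_top)

end Cfsg.Agent.S5064
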