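import Cfsg.Statements.S5065
import Mathlib
import Cfsg.Agent.Lib.RootSubgroups.QuadPairRankOne
import Cfsg.Agent.Lib.RootSubgroups.QuadPairClassTwo

set_option autoImplicit false
universe u
open Cfsg Cfsg.Agent.Lib.RootSubgroups Cfsg.Agent.Lib.RootSubgroups.QuadPair

namespace Cfsg.Agent.S5065

/-- Let k be a field of characteristic not 2 with k not of order 3, M a finite-dimensional k-vector space and G ≤ GL(M) such that (G, M) is a quadratic pair (M irreducible for G, and G generated by its quadratically acting elements σ whose scalar family 1 + c(σ − 1), c ∈ k, lies in G). Write 𝒬_d for the quadratic elements of G of minimal commutator rank, E(σ) for the subgroup generated by the members of 𝒬_d with the same fixed space and commutator space as σ, and Σ for the set of these subgroups. For σ, τ ∈ 𝒬_d put A = E(σ), B = E(τ) and X = ⟨A, B⟩. Then either X acts unipotently on M, or A and B are the unipotent subgroups of a special rank one group X; in the latter case X contains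 exactly one central involution acting as −1 on the commutator space [M, X] and trivially on the fixed space C_M(X), and M is the direct sum of C_M(X) and [M, X]. -/
theorem result {k : Type u} [Field k] (hk2 : ringChar k ≠ 2) (hk3 : Nat.card k ≠ 3)
    {M : Type u} [AddCommGroup M] [Module k M] [FiniteDimensional k M]
    {G : Subgroup (LinearMap.GeneralLinearGroup k M)} (hG : Cfsg.IsQuadraticPair G)
    {σ τ : LinearMap.GeneralLinearGroup k M} (hσ : σ ∈ Cfsg.minimalQuadraticElements G) (hτ : τ ∈ Cfsg.minimalQuadraticElements G) :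
    Cfsg.IsUnipotentOn (Cfsg.sameActionSubgroup G σ ⊔ Cfsg.sameActionSubgroup G τ) ∨
    (Cfsg.IsSpecialRankOnePair (Cfsg.sameActionSubgroup G σ) (Cfsg.sameActionSubgroup G τ) ∧
      (∃! i : LinearMap.GeneralLinearGroup k M, i ∈ Cfsg.sameActionSubgroup G σ ⊔ Cfsg.sameActionSubgroup G τ ∧ i ≠ 1 ∧ i * i = 1 ∧
        (∀ x ∈ Cfsg.sameActionSubgroup G σ ⊔ Cfsg.sameActionSubgroup G τ, i * x = x * i) ∧
        (∀ m ∈ Cfsg.commutatorSubmodule (Cfsg.sameActionSubgroup G σ ⊔ Cfsg.sameActionSubgroup G τ), (i : M →ₗ[k] M) m = -m) ∧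
        (∀ m ∈ Cfsg.fixedSubmodule (Cfsg.sameActionSubgroup G σ ⊔ Cfsg.sameActionSubgroup G τ), (i : M →ₗ[k] M) m = m)) ∧
      IsCompl (Cfsg.fixedSubmodule (Cfsg.sameActionSubgroup G σ ⊔ Cfsg.sameActionSubgroup G τ))
        (Cfsg.commutatorSubmodule (Cfsg.sameActionSubgroup G σ ⊔ Cfsg.sameActionSubgroup G τ))) := by
  have h2 : (2 : k) ≠ 0 := Ring.two_ne_zero hk2
  by_cases h0 : Opp σ τ
  swap
  · exact Or.inl (isUnipotentOn_sup h2 hk3 hσ hτ h0)
  refine Or.inr ⟨h0.isSpecialRankOnePair h2 hk3 hσ hτ, ?_, ?_⟩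
  · obtain ⟨i, hiX, hfix, hneg⟩ := h0.exists_involution h2 hk3 hσ hτ
    have hi1 : ∀ x, (i : Module.End k M) (nil σ x) = -(nil σ x) :=
      fun x => hneg _ (Submodule.mem_sup_left ⟨x, rfl⟩)
    have hi2 : ∀ x, (i : Module.End k M) (nil τ x) = -(nil τ x) :=
      fun x => hneg _ (Submodule.mem_sup_right ⟨x, rfl⟩)
    refine ⟨i, ⟨hiX, ?_, ?_, ?_, ?_, ?_⟩, ?_⟩
    · intro hi
      refine nil_ne_zero hσ (LinearMap.ext fun x => ?_)
      have h := hi1 x
      rw [hi, Units.val_one, Module.End.one_apply, eq_neg_iff_add_eq_zero, ← two_smul k,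
        smul_eq_zero] at h
      exact h.resolve_left h2
    · refine Units.ext (h0.ext_of hσ hτ (fun x hx hx' => ?_) (fun x => ?_) fun x => ?_)
      · rw [Units.val_mul, Module.End.mul_apply, hfix x ⟨hx, hx'⟩, hfix x ⟨hx, hx'⟩]; rfl
      · rw [Units.val_mul, Module.End.mul_apply, hi1, map_neg, hi1, neg_neg]; rfl
      · rw [Units.val_mul, Module.End.mul_apply, hi2, map_neg, hi2, neg_neg]; rfl
    · intro g hg
      obtain ⟨hg0, hgr⟩ := sup_spaces hg
      have hgW : ∀ z ∈ LinearMap.range (nil σ) ⊔ LinearMap.range (nil τ),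
          (g : Module.End k M) z ∈ LinearMap.range (nil σ) ⊔ LinearMap.range (nil τ) := by
        intro z hz
        rw [coe_eq g]
        exact add_mem hz (hgr ⟨z, rfl⟩)
      refine Units.ext (h0.ext_of hσ hτ (fun x hx hx' => ?_) (fun x => ?_) fun x => ?_) <;>
        rw [Units.val_mul, Units.val_mul, Module.End.mul_apply, Module.End.mul_apply]
      · have e : (g : Module.End k M) x = x := by
          rw [coe_eq g, LinearMap.add_apply, hg0 x hx hx', add_zero]; rfl
        rw [e, hfix x ⟨hx, hx'⟩, e]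
      · rw [hi1, map_neg, hneg _ (hgW _ (Submodule.mem_sup_left ⟨x, rfl⟩))]
      · rw [hi2, map_neg, hneg _ (hgW _ (Submodule.mem_sup_right ⟨x, rfl⟩))]
    · rw [commutator_eq hσ hτ]; exact hneg
    · rw [fixed_eq hσ hτ]; exact hfix
    · rintro j ⟨-, -, -, -, hjn, hjf⟩
      rw [commutator_eq hσ hτ] at hjn
      rw [fixed_eq hσ hτ] at hjf
      refine Units.ext (h0.ext_of hσ hτ (fun x hx hx' => ?_) (fun x => ?_) fun x => ?_)
      · rw [hfix x ⟨hx, hx'⟩]; exact hjf x ⟨hx, hx'⟩
      · rw [hi1]; exact hjn _ (Submodule.mem_sup_left ⟨x, rfl⟩)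
      · rw [hi2]; exact hjn _ (Submodule.mem_sup_right ⟨x, rfl⟩)
  · rw [fixed_eq hσ hτ, commutator_eq hσ hτ]
    refine ⟨Submodule.disjoint_def.2 fun x hx hx' => ?_, codisjoint_iff.2 (h0.sup_eq_top hσ hτ)⟩
    obtain ⟨i, -, hfix, hneg⟩ := h0.exists_involution h2 hk3 hσ hτ
    have h := hneg x hx'
    rw [hfix x hx, eq_neg_iff_add_eq_zero, ← two_smul k, smul_eq_zero] at h
    exact h.resolve_left h2

end Cfsg.Agent.S5065
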