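import Cfsg.Statements.S5067
import Mathlib
import Mathlib.GroupTheory.Nilpotent

set_option autoImplicit false
open Cfsg
open scoped commutatorElement

namespace Cfsg.Agent.S5067

/-- Let P be a non-abelian nilpotent p-group (every element of p-power order; P possibly infinite) generated by two abelian subgroups E and F. Then the normal closure of E in P, and likewise that of F, has nilpotency class strictly smaller than that of P. -/
theorem result {P : Type*} [Group P] {p : ℕ} [Fact p.Prime] (hP : IsPGroup p P) [Group.IsNilpotent P]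
    (hna : ¬ IsMulCommutative P) {E F : Subgroup P} (hE : IsMulCommutative ↥E) (hF : IsMulCommutative ↥F) (hgen : E ⊔ F = ⊤) :
    Group.nilpotencyClass ↥(Subgroup.normalClosure (E : Set P)) < Group.nilpotencyClass P ∧
    Group.nilpotencyClass ↥(Subgroup.normalClosure (F : Set P)) < Group.nilpotencyClass P := by
  have key : ∀ E : Subgroup P, IsMulCommutative ↥E →
      Group.nilpotencyClass ↥(Subgroup.normalClosure (E : Set P)) < Group.nilpotencyClass P := by
    intro E hE
    set M := E ⊔ commutator P with hM
    have hMn : M.Normal := Subgroup.Normal.of_commutator_le P (le_sup_right : commutator P ≤ M)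
    set N := Subgroup.normalClosure (E : Set P) with hN
    have hle : N ≤ M := Subgroup.normalClosure_le_normal fun x hx => Subgroup.mem_sup_left hx
    set γ := fun i => (⊤ : Subgroup P).lowerCentralSeries i with hγ
    have hMM : ⁅M, M⁆ ≤ γ 2 := by
      have hn : (γ 2).Normal := inferInstanceAs ((⊤ : Subgroup P).lowerCentralSeries 2).Normal
      let q := QuotientGroup.mk' (γ 2)
      rw [← QuotientGroup.ker_mk' (γ 2), ← Subgroup.map_eq_bot_iff, Subgroup.map_commutator,
        hM, Subgroup.map_sup]
      have hcen : ∀ x ∈ commutator P, ∀ y : P, q x * q y = q y * q x := by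
        intro x hx y
        have h1 : ⁅x, y⁆ ∈ γ 2 := Subgroup.commutator_mem_commutator hx (Subgroup.mem_top y)
        have h2 : q ⁅x, y⁆ = 1 := (QuotientGroup.eq_one_iff _).2 h1
        rwa [map_commutatorElement, commutatorElement_eq_one_iff_mul_comm] at h2
      rw [Subgroup.commutator_eq_bot_iff_le_centralizer]
      have h3 : (commutator P).map q ≤ Subgroup.centralizer ((E.map q ⊔ (commutator P).map q :
          Subgroup (P ⧸ γ 2)) : Set (P ⧸ γ 2)) := by
        rintro _ ⟨x, hx, rfl⟩
        rw [Subgroup.mem_centralizer_iff]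
        intro z _
        obtain ⟨y, rfl⟩ := QuotientGroup.mk'_surjective _ z
        exact (hcen x hx y).symm
      refine sup_le (Subgroup.le_centralizer_iff.1 (sup_le ?_ ?_)) h3
      · rintro _ ⟨x, hx, rfl⟩
        rw [Subgroup.mem_centralizer_iff]
        rintro _ ⟨y, hy, rfl⟩
        haveI := hE
        rw [← map_mul, ← map_mul]
        exact congrArg q (congrArg Subtype.val (hE.is_comm.comm (⟨y, hy⟩ : E) ⟨x, hx⟩))
      · rintro _ ⟨x, hx, rfl⟩
        rw [Subgroup.mem_centralizer_iff]
        rintro _ ⟨y, -, rfl⟩
        exact (hcen x hx y).symm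
    have hind : ∀ i, M.lowerCentralSeries (i + 1) ≤ γ (i + 2) := by
      intro i
      induction i with
      | zero => exact hMM
      | succ i ih => exact Subgroup.commutator_mono ih le_top
    have hc2 : 2 ≤ Group.nilpotencyClass P := by
      by_contra hlt
      push Not at hlt
      apply hna
      have h1 : (⊤ : Subgroup P).lowerCentralSeries 1 = ⊥ :=
        Subgroup.lowerCentralSeries_eq_bot_iff_nilpotencyClass_le.2 (by omega)
      refine ⟨⟨fun x y => ?_⟩⟩
      have h2 : ⁅x, y⁆ ∈ (⊤ : Subgroup P).lowerCentralSeries 1 :=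
        Subgroup.commutator_mem_commutator (Subgroup.mem_top x) (Subgroup.mem_top y)
      rw [h1, Subgroup.mem_bot, commutatorElement_eq_one_iff_mul_comm] at h2
      exact h2
    obtain ⟨i, hi⟩ : ∃ i, Group.nilpotencyClass P = i + 2 :=
      ⟨Group.nilpotencyClass P - 2, by omega⟩
    have hbot : N.lowerCentralSeries (i + 1) = ⊥ := by
      rw [eq_bot_iff]
      refine le_trans (Subgroup.lowerCentralSeries_mono _ hle) ((hind i).trans (le_of_eq ?_))
      exact Subgroup.lowerCentralSeries_eq_bot_iff_nilpotencyClass_le.2 hi.le
    have h3 : (⊤ : Subgroup ↥N).lowerCentralSeries (i + 1) = ⊥ := by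
      rw [← Subgroup.map_eq_bot_iff_of_injective _ N.subtype_injective,
        Subgroup.top_subtype_lowerCentralSeries, hbot]
    have h4 := (Subgroup.lowerCentralSeries_eq_bot_iff_nilpotencyClass_le).1 h3
    omega
  exact ⟨key E hE, key F hF⟩

end Cfsg.Agent.S5067
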