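import Cfsg.Statements.S5069
import Mathlib
import Cfsg.Agent.Lib.RootSubgroups.QuadPairQuasisimple
import Cfsg.Agent.Lib.RootSubgroups.SubgroupOfSet

set_option autoImplicit false
universe u
open Cfsg Cfsg.Agent.Lib.RootSubgroups Cfsg.Agent.Lib.RootSubgroups.QuadPair

namespace Cfsg.Agent.S5069

/-- Let k be a field of characteristic not 2 with k not of order 3, M a finite-dimensional k-vector space and G ≤ GL(M) such that (G, M) is a quadratic pair (M irreducible for G, and G generated by its quadratically acting elements σ whose scalar family 1 + c(σ − 1), c ∈ k, lies in G). Write 𝒬_d for the quadratic elements of G of minimal commutator rank, E(σ) for the subgroup generated by the members of 𝒬_d with the same fixed space and commutator space as σ, and Σ for the set of these subgroups. Then Σ is a disjoint union of finitely many parts Σ₁, …, Σ_r such that the subgroups G_i generated by the Σ_i commute pairwise, each G_i is quasisimple, and inside G_i the members of Σ_i form a class of abstract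 root subgroups in which every rank one pair A, B contains subgroups A₀ ≤ A, B₀ ≤ B generating an image of SL₂(k₁) with central kernel on unitriangular subgroups for some field k₁ with at least four elements. -/
theorem result {k : Type u} [Field k] (hk2 : ringChar k ≠ 2) (hk3 : Nat.card k ≠ 3)
    {M : Type u} [AddCommGroup M] [Module k M] [FiniteDimensional k M]
    {G : Subgroup (LinearMap.GeneralLinearGroup k M)} (hG : Cfsg.IsQuadraticPair G) :
    ∃ (r : ℕ) (part : Fin r → Set (Subgroup (LinearMap.GeneralLinearGroup k M))),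
      (⋃ i, part i) = Cfsg.quadraticRootSubgroups G ∧ (∀ i j, i ≠ j → Disjoint (part i) (part j)) ∧ (∀ i, (part i).Nonempty) ∧
      (∀ i j, i ≠ j → ⁅(⨆ A ∈ part i, A), (⨆ A ∈ part j, A)⁆ = ⊥) ∧
      (∀ i, Cfsg.IsQuasisimple ↥(⨆ A ∈ part i, A) ∧
        Cfsg.IsRootSubgroupClass ((fun A : Subgroup (LinearMap.GeneralLinearGroup k M) => A.subgroupOf (⨆ B ∈ part i, B)) '' (part i)) ∧
        ∀ A ∈ part i, ∀ B ∈ Cfsg.rankOnePartners (part i) A, ∃ A₀ B₀ : Subgroup (LinearMap.GeneralLinearGroup k M), A₀ ≤ A ∧ B₀ ≤ B ∧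
          ∃ (k₁ : Type u) (_ : Field k₁), 3 < ENat.card k₁ ∧ Cfsg.IsPSL2PairOver k₁ A₀ B₀) := by
  have h2 : (2 : k) ≠ 0 := Ring.two_ne_zero hk2
  have hirr := hG.1
  classical
  have hfin := finite_parts h2 hk3 hirr
  let e := hfin.toFinset.equivFin
  have hrep : ∀ i : Fin hfin.toFinset.card, ∃ A, A ∈ quadraticRootSubgroups G ∧
      part G A = (e.symm i).1 := fun i => hfin.mem_toFinset.1 (e.symm i).2
  choose rep hrepS hrepP using hrep
  have hdiff : ∀ i j, part G (rep i) = part G (rep j) → i = j := by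
    intro i j h
    rw [hrepP, hrepP] at h
    exact e.symm.injective (Subtype.ext h)
  refine ⟨hfin.toFinset.card, fun i => part G (rep i), ?_, ?_, fun i => ⟨_, self_mem_part (hrepS i)⟩,
    fun i j hij => partGroup_commute h2 hk3 hirr fun h => hij (hdiff i j h), fun i => ⟨?_, ?_, ?_⟩⟩
  · refine Set.Subset.antisymm (Set.iUnion_subset fun i B hB => hB.1) fun B hB => ?_
    have hm : part G B ∈ hfin.toFinset := hfin.mem_toFinset.2 ⟨B, hB, rfl⟩
    refine Set.mem_iUnion.2 ⟨e ⟨_, hm⟩, ?_⟩
    rw [hrepP, Equiv.symm_apply_apply]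
    exact self_mem_part hB
  · intro i j hij
    rw [Set.disjoint_left]
    intro B hi hj
    exact hij (hdiff i j (by rw [← part_eq hi, ← part_eq hj]))
  · exact partGroup_quasisimple h2 hk3 hirr (hrepS i)
  · refine Inside.isRootSubgroupClass rfl ?_ ?_ ?_ ?_ ⟨_, self_mem_part (hrepS i)⟩ ?_
    · exact fun A hA => root_comm hA.1
    · exact fun A hA => root_ne_bot hA.1
    · exact fun A hA g hg => (partGroup_le_stab h2 hk3 hirr hg A hA).1
    · rintro A hA B hB
      by_cases hc : ⁅A, B⁆ = ⊥
      · exact Or.inl hc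
      by_cases hp : IsRankOnePair A B
      · exact Or.inr (Or.inl hp)
      obtain ⟨σ, hσ, rfl⟩ := hA.1
      obtain ⟨τ, hτ, rfl⟩ := hB.1
      rcases root_trichotomy h2 hk3 hirr hσ hτ with h | h | ⟨-, -, h⟩
      · exact absurd h hc
      · exact absurd (h.isSpecialRankOnePair h2 hk3 hσ hτ).1 hp
      · refine Or.inr (Or.inr ⟨?_, h.2⟩)
        have hm := (mem_part_of_bracket h2 hk3 hirr hA.1 hB.1 hc).2 hp
        rwa [part_eq hA] at hm
    · intro A hA B hB
      obtain ⟨g, hg, h⟩ := exists_conj_part (G := G) (A := A) (B := B) (by rw [part_eq hA]; exact hB)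
      refine ⟨g, ?_, h⟩
      rwa [partGroup, part_eq hA] at hg
  · rintro A ⟨⟨σ, hσ, rfl⟩, -⟩ B ⟨⟨⟨τ, hτ, rfl⟩, -⟩, hp⟩
    exact ((rankOne_iff_opp h2 hk3 hirr hσ hτ).1 hp).psl_pair h2 hk3 hσ hτ

end Cfsg.Agent.S5069
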