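import Cfsg.Statements.S5075
import Cfsg.Agent.Lib.H66.Transvection.Decomp
import Cfsg.Agent.Lib.H66.Transvection.Paired

set_option autoImplicit false
open Cfsg

namespace Cfsg.Agent.S5075

open Cfsg.Agent.Lib.H66.Transvection Module

variable {p : ℕ} [Fact p.Prime] {V : Type*} [AddCommGroup V] [Module (ZMod p) V] [Finite V]

theorem aux_decomp {n : ℕ} {X Kc : Fin n → Submodule (ZMod p) V} (hc : ∀ j, IsCompl (X j) (Kc j))
    (hle : ∀ j j', j ≠ j' → X j' ≤ Kc j) :
    DirectSum.IsInternal (Fin.cons (⨅ j, Kc j) X : Fin (n + 1) → Submodule (ZMod p) V) := by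
  classical
  rw [DirectSum.isInternal_submodule_iff_iSupIndep_and_iSup_eq_top]
  constructor
  · intro i
    refine Fin.cases ?_ (fun j => ?_) i
    · have h1 : ∀ s : Finset (Fin n), Disjoint (⨅ j, Kc j) (s.sup X) := by
        intro s
        induction s using Finset.induction with
        | empty => simp
        | @insert a s ha ih =>
          rw [Finset.sup_insert, Submodule.disjoint_def]
          intro v hv hv'
          obtain ⟨x, hx, y, hy, rfl⟩ := Submodule.mem_sup.mp hv'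
          have hy' : y ∈ Kc a := (Finset.sup_le fun b hb => hle a b (fun h => ha (h ▸ hb))) hy
          have : x = 0 := Submodule.disjoint_def.mp (hc a).disjoint x hx
            (by simpa using (Kc a).sub_mem (Submodule.mem_iInf Kc |>.mp hv a) hy')
          subst this
          rw [zero_add] at hv ⊢
          exact Submodule.disjoint_def.mp ih y hv hy
      rw [Fin.cons_zero]
      refine (h1 Finset.univ).mono_right (iSup₂_le fun k hk => ?_)
      induction k using Fin.cases with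
      | zero => exact absurd rfl hk
      | succ b => rw [Fin.cons_succ]; exact Finset.le_sup (Finset.mem_univ b)
    · rw [Fin.cons_succ]
      refine (hc j).disjoint.mono_right (iSup₂_le fun k hk => ?_)
      induction k using Fin.cases with
      | zero => rw [Fin.cons_zero]; exact iInf_le _ j
      | succ b => rw [Fin.cons_succ]; exact hle j b (fun h => hk (h ▸ rfl))
  · rw [eq_top_iff]
    intro v _
    have h2 : ∀ (s : Finset (Fin n)) (v : V), ∃ w ∈ s.sup X, ∀ j ∈ s, v - w ∈ Kc j := by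
      intro s
      induction s using Finset.induction with
      | empty => exact fun v => ⟨0, by simp, by simp⟩
      | @insert a s ha ih =>
        intro v
        obtain ⟨w, hw, hws⟩ := ih v
        obtain ⟨x, hx, k, hk, he⟩ := exists_split (hc a) (v - w)
        have hk' : v - (x + w) = k := by rw [sub_add_eq_sub_sub, sub_right_comm, he]; abel
        refine ⟨x + w, by rw [Finset.sup_insert]; exact Submodule.mem_sup.mpr ⟨x, hx, w, hw, rfl⟩,
          fun j hj => ?_⟩
        rcases Finset.mem_insert.mp hj with rfl | hj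
        · rw [hk']; exact hk
        · have : v - (x + w) = (v - w) - x := by abel
          rw [this]
          exact (Kc j).sub_mem (hws j hj) (hle j a (fun h => ha (h ▸ hj)) hx)
    obtain ⟨w, hw, hws⟩ := h2 Finset.univ v
    set W : Fin (n + 1) → Submodule (ZMod p) V := Fin.cons (⨅ j, Kc j) X
    have hw' : w ∈ ⨆ i, W i := by
      have h3 : Finset.univ.sup X ≤ ⨆ i, W i :=
        Finset.sup_le fun b _ => le_iSup_of_le b.succ (le_of_eq (by simp [W]))
      exact h3 hw
    have hv' : v - w ∈ ⨆ i, W i := by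
      refine le_iSup W 0 ?_
      simp only [W, Fin.cons_zero, Submodule.mem_iInf]
      exact fun j => hws j (Finset.mem_univ j)
    simpa using (⨆ i, W i).add_mem hv' hw'

theorem aux_rep {H : Subgroup (V ≃ₗ[ZMod p] V)} {X Kc Y : Submodule (ZMod p) V} (hY : Y = X)
    (hb : Blk H X Kc) :
    ∃ ρ : ↥(blockGroup H X Kc) →* (↥Y ≃ₗ[ZMod p] ↥Y),
      (∀ (h : ↥(blockGroup H X Kc)) (v : ↥Y), ((ρ h v : ↥Y) : V) = (h : V ≃ₗ[ZMod p] V) (v : V)) ∧
      ((ρ.range : Set (↥Y ≃ₗ[ZMod p] ↥Y)) =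
          {f : ↥Y ≃ₗ[ZMod p] ↥Y | LinearMap.det (f : ↥Y →ₗ[ZMod p] ↥Y) = 1} ∨
        ∃ B : LinearMap.BilinForm (ZMod p) ↥Y, B.IsAlt ∧ B.Nondegenerate ∧
          (ρ.range : Set (↥Y ≃ₗ[ZMod p] ↥Y)) = {f : ↥Y ≃ₗ[ZMod p] ↥Y | ∀ x y, B (f x) (f y) = B x y}) := by
  subst hY
  exact ⟨blockRep H Y Kc, blockRep_apply, blockRep_range hb⟩

theorem aux_bot {Y : Submodule (ZMod p) V} (hY : Y = ⊥) :
    ∃ ρ : ↥(⊥ : Subgroup (V ≃ₗ[ZMod p] V)) →* (↥Y ≃ₗ[ZMod p] ↥Y),
      (∀ (h : ↥(⊥ : Subgroup (V ≃ₗ[ZMod p] V))) (v : ↥Y), ((ρ h v : ↥Y) : V) = (h : V ≃ₗ[ZMod p] V) (v : V)) ∧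
      ((ρ.range : Set (↥Y ≃ₗ[ZMod p] ↥Y)) =
          {f : ↥Y ≃ₗ[ZMod p] ↥Y | LinearMap.det (f : ↥Y →ₗ[ZMod p] ↥Y) = 1} ∨
        ∃ B : LinearMap.BilinForm (ZMod p) ↥Y, B.IsAlt ∧ B.Nondegenerate ∧
          (ρ.range : Set (↥Y ≃ₗ[ZMod p] ↥Y)) = {f : ↥Y ≃ₗ[ZMod p] ↥Y | ∀ x y, B (f x) (f y) = B x y}) := by
  subst hY
  refine ⟨1, fun h v => ?_, Or.inl ?_⟩
  · rw [Subgroup.mem_bot.mp h.2]; rfl
  · ext f
    have hf : f = 1 := LinearEquiv.ext fun x => Subsingleton.elim _ _
    subst hf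
    simp only [SetLike.mem_coe, Subgroup.one_mem, Set.mem_setOf_eq, true_iff]
    rw [← LinearEquiv.coe_det, map_one, Units.val_one]

/-- Let p be an odd prime, V a finite-dimensional vector space over the field with p elements, and H a group of linear automorphisms of V generated by transvections (elements of order p fixing a hyperplane pointwise) and having no nontrivial normal p-subgroup. Then for some n ≥ 1 there are a decomposition V = V₀ ⊕ V₁ ⊕ ⋯ ⊕ Vₙ into H-invariant subspaces and a decomposition of H as the internal direct product of normal subgroups H₁, …, Hₙ such that Hⱼ acts trivially on every Vᵢ with i ≠ j, and Hⱼ induces on Vⱼ exactly the special linear group of Vⱼ or exactly the isometry group of a non-degenerate alternating form on Vⱼ. -/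
theorem result {p : ℕ} [Fact p.Prime] (hp : Odd p) {V : Type*} [AddCommGroup V] [Module (ZMod p) V] [Finite V]
    (H : Subgroup (V ≃ₗ[ZMod p] V)) (T : Set (V ≃ₗ[ZMod p] V)) (hHT : H = Subgroup.closure T)
    (hT : ∀ t ∈ T, orderOf t = p ∧
      Module.finrank (ZMod p) ↥(LinearMap.ker ((t : V →ₗ[ZMod p] V) - LinearMap.id)) + 1 =
        Module.finrank (ZMod p) V)
    (hOp : Cfsg.pCore p ↥H = ⊥) :
    ∃ (n : ℕ) (W : Fin (n + 1) → Submodule (ZMod p) V) (K : Fin n → Subgroup (V ≃ₗ[ZMod p] V)),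
      1 ≤ n ∧ DirectSum.IsInternal W ∧
      (∀ h ∈ H, ∀ i, (W i).map (h : V →ₗ[ZMod p] V) = W i) ∧
      (∀ j, K j ≤ H ∧ ((K j).subgroupOf H).Normal) ∧ ⨆ j, K j = H ∧
      (∀ j, K j ⊓ (⨆ j' ∈ {j' : Fin n | j' ≠ j}, K j') = ⊥) ∧
      (∀ j j', j ≠ j' → ∀ a ∈ K j, ∀ b ∈ K j', a * b = b * a) ∧
      (∀ j, ∀ h ∈ K j, ∀ i : Fin (n + 1), i ≠ j.succ → ∀ v ∈ W i, h v = v) ∧
      (∀ j, ∃ ρ : ↥(K j) →* (↥(W j.succ) ≃ₗ[ZMod p] ↥(W j.succ)),
        (∀ (h : ↥(K j)) (v : ↥(W j.succ)), ((ρ h v : ↥(W j.succ)) : V) = (h : V ≃ₗ[ZMod p] V) (v : V)) ∧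
        ((ρ.range : Set (↥(W j.succ) ≃ₗ[ZMod p] ↥(W j.succ))) =
            {f : ↥(W j.succ) ≃ₗ[ZMod p] ↥(W j.succ) | LinearMap.det (f : ↥(W j.succ) →ₗ[ZMod p] ↥(W j.succ)) = 1} ∨
          ∃ B : LinearMap.BilinForm (ZMod p) ↥(W j.succ), B.IsAlt ∧ B.Nondegenerate ∧
            (ρ.range : Set (↥(W j.succ) ≃ₗ[ZMod p] ↥(W j.succ))) = {f : ↥(W j.succ) ≃ₗ[ZMod p] ↥(W j.succ) | ∀ x y, B (f x) (f y) = B x y})) := by
  classical
  have hP := paired_of_pCore_eq_bot hp H hOp
  let M := {q : Submodule (ZMod p) V × Submodule (ZMod p) V // MaxBlk H q.1 q.2}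
  haveI : Finite (Submodule (ZMod p) V) :=
    Finite.of_injective (fun W : Submodule (ZMod p) V => (W : Set V)) SetLike.coe_injective
  haveI : Finite M := Subtype.finite
  have hcover : ∀ t ∈ T, ∃ q : M, t ∈ blockGroup H q.1.1 q.1.2 := by
    intro t ht
    obtain ⟨ho, hk⟩ := hT t ht
    obtain ⟨u, φ, hu, hφ, h0, rfl⟩ := exists_tv_of_finrank ho hk
    have htv : Tv H u φ := ⟨h0, by rw [hHT]; exact Subgroup.subset_closure ht⟩
    obtain ⟨X, K, hb, huX, hφK⟩ := exists_maxBlk hp hP hu hφ htv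
    exact ⟨⟨(X, K), hb⟩, Subgroup.subset_closure ⟨u, huX, φ, hφK, htv, rfl⟩⟩
  rcases isEmpty_or_nonempty M with hM | hM
  · have hH : H = ⊥ := by
      rw [hHT, Subgroup.closure_eq_bot_iff]
      intro t ht
      exact isEmptyElim (hcover t ht).choose
    subst hH
    refine ⟨1, ![⊤, ⊥], fun _ => ⊥, le_rfl, ?_, ?_, fun j => ⟨le_rfl, ?_⟩, by simp, fun j => by simp,
      fun j j' _ a ha b hb => by rw [Subgroup.mem_bot.mp ha, Subgroup.mem_bot.mp hb], ?_, fun j => ?_⟩
    · rw [DirectSum.isInternal_submodule_iff_isCompl _ (i := (0 : Fin 2)) (j := 1) (by decide)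
        (by ext i; fin_cases i <;> simp)]
      simpa using isCompl_top_bot
    · intro h hh i
      rw [Subgroup.mem_bot.mp hh]; exact Submodule.map_id _
    · simpa [Subgroup.bot_subgroupOf] using (inferInstance : (⊥ : Subgroup _).Normal)
    · intro j h hh i _ v _
      rw [Subgroup.mem_bot.mp hh]; rfl
    · exact aux_bot (by fin_cases j; rfl)
  obtain ⟨n, ⟨e⟩⟩ := Finite.exists_equiv_fin M
  let X : Fin n → Submodule (ZMod p) V := fun j => (e.symm j).1.1
  let Kc : Fin n → Submodule (ZMod p) V := fun j => (e.symm j).1.2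
  have hmb : ∀ j, MaxBlk H (X j) (Kc j) := fun j => (e.symm j).2
  have hle : ∀ j j', j ≠ j' → X j' ≤ Kc j := fun j j' hne =>
    maxBlk_le hp hP (hmb j) (hmb j') fun h => hne (e.symm.injective (Subtype.ext h))
  have hsup : ⨆ j, blockGroup H (X j) (Kc j) = H := by
    refine le_antisymm (iSup_le fun j => blockGroup_le) ?_
    conv_lhs => rw [hHT]
    rw [Subgroup.closure_le]
    intro t ht
    obtain ⟨q, hq⟩ := hcover t ht
    refine le_iSup (fun j => blockGroup H (X j) (Kc j)) (e q) ?_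
    simpa [X, Kc] using hq
  have hcomm : ∀ j j', j ≠ j' → ∀ a ∈ blockGroup H (X j) (Kc j), ∀ b ∈ blockGroup H (X j') (Kc j'),
      a * b = b * a := fun j j' hne => blockGroup_comm (hle j j' hne) (hle j' j hne.symm)
  set W : Fin (n + 1) → Submodule (ZMod p) V := Fin.cons (⨅ j, Kc j) X with hW
  have hfix : ∀ j, ∀ h ∈ blockGroup H (X j) (Kc j), ∀ i : Fin (n + 1), i ≠ j.succ → ∀ v ∈ W i, h v = v := by
    intro j h hh i hi v hv
    refine (blockGroup_fix hh).1 v ?_
    induction i using Fin.cases with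
    | zero => rw [hW, Fin.cons_zero] at hv; exact iInf_le Kc j hv
    | succ b => rw [hW, Fin.cons_succ] at hv; exact hle j b (fun h => hi (h ▸ rfl)) hv
  refine ⟨n, W, fun j => blockGroup H (X j) (Kc j), ?_,
    aux_decomp (fun j => (hmb j).1.1) hle, ?_, fun j => ⟨blockGroup_le, ?_⟩, hsup, ?_, hcomm, hfix,
    fun j => aux_rep (by simp [hW]) (hmb j).1⟩
  · exact (e hM.some).pos
  · intro h hh i
    rw [← hsup] at hh
    induction hh using Subgroup.iSup_induction' with
    | hp j g hg =>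
      by_cases hi : i = j.succ
      · subst hi; rw [hW, Fin.cons_succ]; exact (blockGroup_fix hg).2
      · refine le_antisymm ?_ fun v hv => ⟨v, hv, hfix j g hg i hi v hv⟩
        rintro _ ⟨v, hv, rfl⟩
        simpa [hfix j g hg i hi v hv] using hv
    | h1 => exact Submodule.map_id _
    | hmul a b _ _ iha ihb =>
      rw [LinearEquiv.coe_toLinearMap_mul, Module.End.mul_eq_comp, Submodule.map_comp, ihb, iha]
  · rw [Subgroup.normal_subgroupOf_iff_le_normalizer blockGroup_le]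
    conv_lhs => rw [← hsup]
    refine iSup_le fun j' => ?_
    by_cases hne : j = j'
    · subst hne; exact Subgroup.le_normalizer
    refine le_trans ?_ (Subgroup.centralizer_le_normalizer _)
    intro b hb
    exact Subgroup.mem_centralizer_iff.mpr fun a ha => hcomm j j' hne a ha b hb
  · intro j
    rw [eq_bot_iff]
    rintro g ⟨hg, hg'⟩
    let P : Subgroup (V ≃ₗ[ZMod p] V) :=
      { carrier := {g | ∀ x ∈ X j, g x = x}
        one_mem' := fun _ _ => rfl
        mul_mem' := fun {f g} hf hg x hx => by rw [LinearEquiv.mul_apply, hg x hx, hf x hx]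
        inv_mem' := fun {f} hf x hx => by
          rw [LinearEquiv.coe_inv, LinearEquiv.symm_apply_eq]; exact (hf x hx).symm }
    have hP' : (⨆ j' ∈ {j' : Fin n | j' ≠ j}, blockGroup H (X j') (Kc j')) ≤ P :=
      iSup₂_le fun j' hj' g hg x hx => (blockGroup_fix hg).1 x (hle j' j hj' hx)
    rw [Subgroup.mem_bot]
    ext v
    obtain ⟨x, hx, k, hk, rfl⟩ := exists_split (hmb j).1.1 v
    rw [map_add, hP' hg' x hx, (blockGroup_fix hg).1 k hk]
    rfl

end Cfsg.Agent.S5075
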