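import Cfsg.Statements.S5083
import Cfsg.Agent.Lib.Fusion.Alperin
import Cfsg.Agent.Lib.Fusion.GroupFusion

set_option autoImplicit false
open Cfsg
open Cfsg.FusionSystem Cfsg.Agent.Lib.Fusion

namespace Cfsg.Agent.S5083

/-- If F is a saturated fusion system over a finite p-group S in which Aut_F(P) is a p-group for every P ≤ S, then F is the inner fusion system of S (all its maps are conjugations by elements of S). -/
theorem result {Ω : Type*} [Group Ω] {S : Subgroup Ω} [Finite S] (p : ℕ) [Fact p.Prime] (hS : IsPGroup p S) (F : Cfsg.FusionSystem S) (hF : F.IsSaturated p) (h : ∀ P : Subgroup Ω, P ≤ S → IsPGroup p (F.autGroup P)) : F = Cfsg.innerFusionSystem S := by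
  refine fusionSystem_ext fun P => Set.Subset.antisymm ?_ ?_
  · refine le_of_autGroup_le hS hF (innerFusionSystem S) ?_
      (fun Q hQ => absurd hQ (not_isEssential_of_isPGroup (h Q hQ.1.1))) P
    obtain ⟨-, hsyl⟩ := isFullyAutomized_iff.1
      (isFullyAutomized_of_isFullyNormalized hS hF (isFullyNormalized_top F))
    have := finite_autGroup (F := F) (le_refl S)
    rw [← hsyl.eq_of_le (h S le_rfl) le_rfl hsyl.1]
    exact autInducedBy_le_autGroup le_rfl
  · rintro φ ⟨hP, g, hg, hφ⟩
    exact mem_of_conj hP hg hφ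

end Cfsg.Agent.S5083
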