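import Cfsg.Statements.S5088
import Cfsg.Agent.Lib.Fusion.Normal
import Cfsg.Agent.Lib.Fusion87.Inner

set_option autoImplicit false
open Cfsg
open Cfsg.FusionSystem Cfsg.Agent.Lib.Fusion

namespace Cfsg.Agent.S5088

/-- In a saturated fusion system over a finite p-group, a subgroup Q is normal in the system if and only if there is a chain of subgroups 1 = Q₀ ≤ Q₁ ≤ ⋯ ≤ Qₙ = Q such that each Qᵢ with i ≥ 1 is strongly closed in the system and [Q, Qᵢ] ≤ Qᵢ₋₁. -/
theorem result {Ω : Type*} [Group Ω] {S : Subgroup Ω} [Finite S] (p : ℕ) [Fact p.Prime] (hS : IsPGroup p S) (F : Cfsg.FusionSystem S) (hF : F.IsSaturated p) (Q : Subgroup Ω) : F.IsNormal Q ↔ ∃ (n : ℕ) (Qs : Fin (n + 1) → Subgroup Ω), Qs 0 = ⊥ ∧ Qs (Fin.last n) = Q ∧ Monotone Qs ∧ ∀ i : Fin n, F.StronglyClosed (Qs i.succ) ∧ ⁅Q, Qs i.succ⁆ ≤ Qs (Fin.castSucc i) := by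
  constructor
  · intro hQ
    have : Finite Q := finite_of_le hQ.1
    have := (hS.to_le hQ.1).isNilpotent
    refine ⟨Group.nilpotencyClass Q,
      fun i => (Subgroup.upperCentralSeries Q (i : ℕ)).map Q.subtype, ?_, ?_, ?_, fun i => ⟨?_, ?_⟩⟩
    · simp
    · simp [← MonoidHom.range_eq_map]
    · exact fun i j hij => Subgroup.map_mono (Subgroup.upperCentralSeries_mono Q (Fin.le_def.1 hij))
    · refine stronglyClosed_of_isNormal (isNormal_of_characteristic hQ (Subgroup.map_subtype_le _) ?_)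
      rw [Subgroup.subgroupOf, Subgroup.comap_map_eq_self_of_injective Q.subtype_injective]
      infer_instance
    · rw [Subgroup.commutator_le]
      intro q hq x hx
      rw [commutatorElement_def]
      exact Cfsg.Agent.Lib.Fusion87.upperCentralSeries_step (i : ℕ) hx hq
  · rintro ⟨n, Qs, h0, hl, -, h⟩
    refine Cfsg.Agent.Lib.Fusion87.isNormal_of_series hS hF
      (fun i => Qs ⟨min i n, by omega⟩) (n := n) ?_ ?_ ?_ ?_
    · rw [← h0]; exact congrArg Qs (Fin.ext (by simp))
    · rw [← hl]; exact congrArg Qs (Fin.ext (by simp))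
    · intro i hi
      rcases Nat.eq_zero_or_pos i with rfl | hi0
      · rw [show (⟨min 0 n, _⟩ : Fin (n + 1)) = 0 by ext; simp, h0]
        exact stronglyClosed_bot
      · have := (h ⟨i - 1, by omega⟩).1
        convert this using 2
        exact Fin.ext (by simp; omega)
    · intro i hi x hx q hq
      have h1 := (Subgroup.commutator_le.1 (h ⟨i, hi⟩).2) q hq x (by
        rwa [show (⟨i, hi⟩ : Fin n).succ = ⟨min (i + 1) n, by omega⟩ from Fin.ext (by simp; omega)])
      rw [commutatorElement_def] at h1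
      show _ ∈ Qs ⟨min i n, by omega⟩
      rwa [show (⟨min i n, by omega⟩ : Fin (n + 1)) = Fin.castSucc ⟨i, hi⟩ from Fin.ext (by simp; omega)]

end Cfsg.Agent.S5088
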