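import Cfsg.Statements.S5089
import Cfsg.Agent.Lib.Fusion.Normal

set_option autoImplicit false
open Cfsg
open Cfsg.FusionSystem Cfsg.Agent.Lib.Fusion

namespace Cfsg.Agent.S5089

/-- A saturated fusion system over a finite p-group has a nontrivial subgroup that is normal in the system (O_p(F) ≠ 1) if and only if some nontrivial abelian subgroup is strongly closed in the system. -/
theorem result {Ω : Type*} [Group Ω] {S : Subgroup Ω} [Finite S] (p : ℕ) [Fact p.Prime] (hS : IsPGroup p S) (F : Cfsg.FusionSystem S) (hF : F.IsSaturated p) : F.core ≠ ⊥ ↔ ∃ Q : Subgroup Ω, Q ≠ ⊥ ∧ IsMulCommutative Q ∧ F.StronglyClosed Q := by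
  constructor
  · intro hne
    have hN := isNormal_core (F := F)
    have : Finite F.core := finite_of_le hN.1
    have hp : IsPGroup p F.core := hS.to_le hN.1
    refine ⟨(Subgroup.center F.core).map F.core.subtype, ?_, ?_, ?_⟩
    · have : Nontrivial F.core := (Subgroup.nontrivial_iff_ne_bot _).2 hne
      rw [Ne, Subgroup.map_eq_bot_iff_of_injective _ F.core.subtype_injective]
      exact hp.bot_lt_center.ne'
    · refine ⟨⟨?_⟩⟩
      rintro ⟨_, a, ha, rfl⟩ ⟨_, b, hb, rfl⟩
      exact Subtype.ext (congrArg F.core.subtype (Subgroup.mem_center_iff.1 hb a))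
    · refine stronglyClosed_of_isNormal (isNormal_of_characteristic hN (Subgroup.map_subtype_le _) ?_)
      rw [Subgroup.subgroupOf, Subgroup.comap_map_eq_self_of_injective F.core.subtype_injective]
      infer_instance
  · rintro ⟨Q, hne, hab, hQ⟩ hcore
    exact hne (le_bot_iff.1 (hcore ▸ le_core (isNormal_of_isMulCommutative hS hF hQ hab)))

end Cfsg.Agent.S5089
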