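import Cfsg.Statements.S5095
import Cfsg.Agent.Lib.Fusion87.Centric

set_option autoImplicit false
open Cfsg
open Cfsg.FusionSystem Cfsg.Agent.Lib.Fusion

namespace Cfsg.Agent.S5095

/-- In a saturated fusion system over a finite p-group S: if Q ≤ P ≤ S with Q centric, and two maps of the system with source P agree on Q, then they differ by an inner automorphism of P induced by an element of the centre of Q. -/
theorem result {Ω : Type*} [Group Ω] {S : Subgroup Ω} [Finite S] (p : ℕ) [Fact p.Prime] (hS : IsPGroup p S) (F : Cfsg.FusionSystem S) (hF : F.IsSaturated p) (P Q : Subgroup Ω) (hQP : Q ≤ P) (hQ : F.IsCentric Q) (φ φ' : P →* Ω) (hφ : φ ∈ F.Hom P) (hφ' : φ' ∈ F.Hom P) (h : ∀ x : P, (x : Ω) ∈ Q → φ x = φ' x) : ∃ z : P, (z : Ω) ∈ Q ∧ (z : Ω) ∈ Subgroup.centralizer (Q : Set Ω) ∧ ∀ y : P, φ' y = φ (z * y * z⁻¹) := by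
  suffices key : ∀ n (Q : Subgroup Ω) (φ : P →* Ω), Nat.card P - Nat.card Q ≤ n → Q ≤ P →
      F.IsCentric Q → φ ∈ F.Hom P → (∀ x : P, (x : Ω) ∈ Q → φ x = φ' x) →
      ∃ z : P, (z : Ω) ∈ Q ∧ (z : Ω) ∈ Subgroup.centralizer (Q : Set Ω) ∧
        ∀ y : P, φ' y = φ (z * y * z⁻¹) from key _ Q φ le_rfl hQP hQ hφ h
  clear h hφ φ hQ hQP Q
  intro n
  induction n using Nat.strong_induction_on with
  | _ n ih =>
    intro Q φ hn hQP hQ hφ h
    have hPS := src_le hφ
    haveI : Finite P := finite_of_le hPS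
    haveI : Finite Q := finite_of_le hQ.1
    by_cases hQe : Q = P
    · exact ⟨1, Q.one_mem, Subgroup.one_mem _, fun y => by
        rw [one_mul, inv_one, mul_one]; exact (h y (hQe.symm ▸ y.2)).symm⟩
    set N := normalizerIn P Q with hN
    have hNP : N ≤ P := inf_le_left
    have hQN : Q ≤ N := le_inf hQP Subgroup.le_normalizer
    have hlt : Nat.card Q < Nat.card N :=
      Cfsg.Agent.Lib.Fusion87.card_lt_normalizerIn (hS.to_le hPS) hQP hQe
    have hNS : N ≤ S := hNP.trans hPS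
    haveI : Finite N := finite_of_le hNS
    -- `φ'` and `φ` differ on `N` by elements of `Q`
    have hval : ∀ x : N, ∃ q : Q, φ' (Subgroup.inclusion hNP x) =
        φ (Subgroup.inclusion hNP x * ⟨q, hQP q.2⟩) := by
      intro x
      set x' : P := Subgroup.inclusion hNP x with hx'
      have hQ'c := isCentric_of_isConj hQ (isConj_imgSub hφ hQP)
      have hmem : (φ x')⁻¹ * φ' x' ∈ centralizerIn S (imgSub φ Q) := by
        refine ⟨S.mul_mem (S.inv_mem (val_mem hφ _)) (val_mem hφ' _), ?_⟩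
        intro w hw
        obtain ⟨y, hy, rfl⟩ := mem_imgSub.1 hw
        have hxy : ((x' * y * x'⁻¹ : P) : Ω) ∈ Q := (Subgroup.mem_normalizer_iff.1 x.2.2 y).1 hy
        have h1 := h _ hxy
        rw [map_mul, map_mul, map_inv, map_mul, map_mul, map_inv, ← h y hy] at h1
        calc φ y * ((φ x')⁻¹ * φ' x') = (φ x')⁻¹ * (φ x' * φ y * (φ x')⁻¹) * φ' x' := by group
          _ = (φ x')⁻¹ * φ' x' * φ y := by rw [h1]; group
      obtain ⟨y, hy, hyx⟩ := mem_imgSub.1 (centralizerIn_le_of_isCentric hQ'c hmem)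
      refine ⟨⟨y, hy⟩, ?_⟩
      rw [map_mul]
      show φ' x' = φ x' * φ y
      rw [hyx, mul_inv_cancel_left]
    have hφN := restrict_mem hφ hNP
    have hinj := F.injective_of_mem hφN
    have hr : ∀ x : N, φ' (Subgroup.inclusion hNP x) ∈ (φ.comp (Subgroup.inclusion hNP)).range := by
      intro x
      obtain ⟨q, hq⟩ := hval x
      exact ⟨x * ⟨q, hQN q.2⟩, hq.symm⟩
    obtain ⟨b, hb, hbx⟩ := exists_comp (restrict_mem hφ' hNP) (rangeInv_mem hφN) hr
    have hbN : ∀ x : N, b x ∈ N := fun x => (hbx x).symm ▸ rangeInv_mem_src _ _ _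
    obtain ⟨β, hβ, hβx⟩ := exists_aut_of_hom hb hbN
    -- `φ' = φ ∘ β` on `N`
    have hβφ : ∀ x : N, φ' (Subgroup.inclusion hNP x) = φ (Subgroup.inclusion hNP (β x)) := by
      intro x
      have e : β x = ⟨rangeInv _ hinj ⟨_, hr x⟩, rangeInv_mem_src _ _ _⟩ :=
        Subtype.ext ((hβx x).trans (hbx x))
      rw [e]
      exact (apply_rangeInv (φ.comp (Subgroup.inclusion hNP)) hinj ⟨_, hr x⟩ _).symm
    have hinj' : Function.Injective fun x : N => φ (Subgroup.inclusion hNP x) := hinj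
    have hfix : ∀ x : N, (x : Ω) ∈ Q → β x = x := fun x hx =>
      hinj' ((hβφ x).symm.trans (h _ hx).symm)
    have hval' : ∀ x : N, ∃ q : N, (q : Ω) ∈ Q ∧ β x = x * q := by
      intro x
      obtain ⟨q, hq⟩ := hval x
      exact ⟨⟨q, hQN q.2⟩, q.2, hinj' ((hβφ x).symm.trans hq)⟩
    have hp : ∃ k, β ^ p ^ k = 1 := by
      obtain ⟨k, hk⟩ := IsPGroup.iff_card.1 (hS.to_le hNS)
      refine ⟨k, MulEquiv.ext fun x => ?_⟩
      obtain ⟨q, hq, hqx⟩ := hval' x
      have hit : ∀ j : ℕ, (β ^ j) x = x * q ^ j := by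
        intro j
        induction j with
        | zero => simp
        | succ j ih => rw [pow_succ', MulAut.mul_apply, ih, map_mul, map_pow, hfix q hq, hqx,
            mul_assoc, pow_succ']
      rw [hit, MulAut.one_apply, ← hk, pow_card_eq_one', mul_one]
    obtain ⟨z, hz, hzx⟩ := Cfsg.Agent.Lib.Fusion87.exists_conj_of_fixes hS hF hQ hQN hβ hNS hfix hp
    have hzC : z ∈ Subgroup.centralizer (Q : Set Ω) := by
      intro w hw
      have h1 := hzx ⟨w, hQN hw⟩
      rw [hfix ⟨w, hQN hw⟩ hw] at h1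
      exact eq_mul_inv_iff_mul_eq.1 h1
    -- recurse with `φ ∘ c_z`
    set z' : P := ⟨z, hQP hz⟩ with hz'
    have hφz : φ.comp (MulAut.conj z').toMonoidHom ∈ F.Hom P :=
      comp_of_apply (F.conj_mem hPS (hQ.1 hz)) hφ fun x => ⟨(z' * x * z'⁻¹).2, rfl⟩
    obtain ⟨w, hwN, hwC, hw⟩ := ih (Nat.card P - Nat.card N)
      (by have := Subgroup.card_le_of_le hNP; omega) N _ le_rfl hNP (isCentric_mono hQ hQN hNS)
      hφz fun x hx => by
        have h1 := hβφ ⟨x, hx⟩
        have e : Subgroup.inclusion hNP (β ⟨x, hx⟩) = z' * x * z'⁻¹ := Subtype.ext (hzx ⟨x, hx⟩)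
        rw [e] at h1
        exact h1.symm
    have hwQC : (w : Ω) ∈ Subgroup.centralizer (Q : Set Ω) := fun v hv => hwC v (hQN hv)
    refine ⟨z' * w, Q.mul_mem hz (centralizerIn_le_of_isCentric hQ ⟨hPS w.2, hwQC⟩),
      Subgroup.mul_mem _ hzC hwQC, fun y => ?_⟩
    rw [hw y]
    show φ (z' * (w * y * w⁻¹) * z'⁻¹) = _
    rw [mul_inv_rev]
    simp only [mul_assoc]

end Cfsg.Agent.S5095
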