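import Cfsg.Statements.S5102
import Cfsg.Agent.Lib.Fusion.NormExt

set_option autoImplicit false
open Cfsg
open Cfsg.FusionSystem Cfsg.Agent.Lib.Fusion

namespace Cfsg.Agent.S5102

/-- A normal p-subgroup of a finite group G is normal in the fusion system of G on a Sylow p-subgroup. -/
theorem result {G : Type*} [Group G] [Finite G] (p : ℕ) [Fact p.Prime] (S : Sylow p G) (R : Subgroup G) [R.Normal] (hR : IsPGroup p R) : (Cfsg.groupFusionSystem (S : Subgroup G)).IsNormal R := by
  refine ⟨?_, fun P φ hφ => ?_⟩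
  · exact hR.le_sylow_of_normal S
  · obtain ⟨hP, hφS, g, hg⟩ := hφ
    have hRS : R ≤ (S : Subgroup G) := hR.le_sylow_of_normal S
    have hgR : ∀ x ∈ R, g * x * g⁻¹ ∈ R := fun x hx => Subgroup.Normal.conj_mem inferInstance x hx g
    refine ⟨conjHom (P ⊔ R) g, ⟨sup_le hP hRS, ?_, g, fun x => rfl⟩, fun x => (hg x).symm, ?_⟩
    · refine hom_sup_mem (conjHom (P ⊔ R) g) (fun x => ?_) (fun x => hRS (hgR x x.2))
      show g * (x : G) * g⁻¹ ∈ (S : Subgroup G)
      rw [← hg x]
      exact hφS x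
    · refine le_antisymm ?_ fun y hy => ?_
      · intro y hy
        obtain ⟨x, hx, rfl⟩ := mem_imgSub.1 hy
        exact hgR x hx
      · refine mem_imgSub.2 ⟨⟨g⁻¹ * y * g, Subgroup.mem_sup_right ?_⟩, ?_, ?_⟩
        · exact Subgroup.Normal.conj_mem' inferInstance y hy g
        · exact Subgroup.Normal.conj_mem' inferInstance y hy g
        · show g * (g⁻¹ * y * g) * g⁻¹ = y
          group

end Cfsg.Agent.S5102
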