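import Cfsg.Statements.S5106
import Cfsg.Agent.Lib.Fusion.Normal
import Cfsg.Agent.Lib.Fusion87.Inner

set_option autoImplicit false
open Cfsg
open Cfsg.FusionSystem Cfsg.Agent.Lib.Fusion

namespace Cfsg.Agent.S5106

/-- In a saturated fusion system over a finite p-group S, a subgroup R ≤ S is normal in the system if and only if every map of the system whose source is a subgroup of R is the restriction of an element of Aut_F(R). -/
theorem result {Ω : Type*} [Group Ω] {S : Subgroup Ω} [Finite S] (p : ℕ) [Fact p.Prime] (hS : IsPGroup p S) (F : Cfsg.FusionSystem S) (hF : F.IsSaturated p) (R : Subgroup Ω) (hRS : R ≤ S) : F.IsNormal R ↔ ∀ (P : Subgroup Ω) (hPR : P ≤ R) (φ : P →* Ω), φ ∈ F.Hom P → ∃ α ∈ F.autGroup R, ∀ x : P, ((α (Subgroup.inclusion hPR x) : R) : Ω) = φ x := by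
  constructor
  · intro hR P hPR φ hφ
    obtain ⟨ψ, hψ, ha, hb⟩ := hR.2 P φ hφ
    have : Finite R := finite_of_le hRS
    obtain ⟨α, hα, hαx⟩ := exists_aut_of_hom
      (restrict_mem hψ (le_sup_right : R ≤ P ⊔ R)) fun x => hb.le (apply_mem_imgSub ψ _ x.2)
    refine ⟨α, hα, fun x => ?_⟩
    rw [hαx, ← ha x]
    rfl
  · intro h
    have : Finite R := finite_of_le hRS
    have := (hS.to_le hRS).isNilpotent
    have hsc : ∀ U : Subgroup R, U.Characteristic → F.StronglyClosed (U.map R.subtype) := by
      intro U hU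
      refine ⟨(Subgroup.map_subtype_le U).trans hRS, fun P hP φ hφ x => ?_⟩
      obtain ⟨α, -, hα⟩ := h P (hP.trans (Subgroup.map_subtype_le U)) φ hφ
      obtain ⟨u, hu, hux⟩ := hP x.2
      rw [← hα]
      refine ⟨α u, ?_, ?_⟩
      · have h1 : u ∈ U.comap α.toMonoidHom := by
          rw [Subgroup.characteristic_iff_comap_eq.1 hU α]
          exact hu
        exact h1
      · exact congrArg (fun y => ((α y : R) : Ω)) (Subtype.ext hux)
    refine Cfsg.Agent.Lib.Fusion87.isNormal_of_series hS hF
      (fun i => (Subgroup.upperCentralSeries R i).map R.subtype) (n := Group.nilpotencyClass R)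
      (by simp) (by simp [← MonoidHom.range_eq_map]) (fun i _ => hsc _ inferInstance)
      fun i _ x hx q hq => Cfsg.Agent.Lib.Fusion87.upperCentralSeries_step i hx hq

end Cfsg.Agent.S5106
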