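import Cfsg.Statements.S5107
import Cfsg.Agent.Lib.Fusion.Normal
import Cfsg.Agent.Lib.Fusion.GroupFusion

set_option autoImplicit false
open Cfsg
open Cfsg.FusionSystem Cfsg.Agent.Lib.Fusion

namespace Cfsg.Agent.S5107

/-- If a Sylow p-subgroup S of a finite group G has nilpotency class at most two and its centre is strongly closed in S with respect to G, then every map of the fusion system of G on S is conjugation by an element of N_G(S), and S is the largest subgroup normal in that fusion system. -/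
theorem result {G : Type*} [Group G] [Finite G] (p : ℕ) [Fact p.Prime] (S : Sylow p G) (hcl : ⁅(S : Subgroup G), (S : Subgroup G)⁆ ≤ (S : Subgroup G) ⊓ Subgroup.centralizer ((S : Subgroup G) : Set G)) (hZ : Cfsg.IsStronglyClosed ((S : Subgroup G) ⊓ Subgroup.centralizer ((S : Subgroup G) : Set G)) (S : Subgroup G)) : (∀ (P : Subgroup G) (φ : P →* G), φ ∈ (Cfsg.groupFusionSystem (S : Subgroup G)).Hom P → ∃ g ∈ Subgroup.normalizer ((S : Subgroup G) : Set G), ∀ x : P, φ x = g * (x : G) * g⁻¹) ∧ (Cfsg.groupFusionSystem (S : Subgroup G)).core = S := by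
  have hF := isSaturated_groupFusion S
  set Z := (S : Subgroup G) ⊓ Subgroup.centralizer ((S : Subgroup G) : Set G) with hZdef
  have hZsc : (groupFusionSystem (S : Subgroup G)).StronglyClosed Z := by
    refine ⟨hZ.1, fun R hR φ hφ x => ?_⟩
    obtain ⟨-, hS', g, hg⟩ := hφ
    rw [hg]
    exact hZ.2 _ (hR x.2) g (hg x ▸ hS' x)
  have hSsc : (groupFusionSystem (S : Subgroup G)).StronglyClosed (S : Subgroup G) :=
    ⟨le_rfl, fun R _ φ hφ x => val_mem hφ x⟩
  have hN : (groupFusionSystem (S : Subgroup G)).IsNormal (S : Subgroup G) := by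
    refine Cfsg.Agent.Lib.Fusion87.isNormal_of_series S.2 hF
      (fun i => if i = 0 then ⊥ else if i = 1 then Z else (S : Subgroup G)) (n := 2) rfl rfl
      (fun i _ => ?_) fun i hi x hx q hq => ?_
    · by_cases h0 : i = 0
      · rw [if_pos h0]; exact stronglyClosed_bot
      · rw [if_neg h0]
        by_cases h1 : i = 1
        · rw [if_pos h1]; exact hZsc
        · rw [if_neg h1]; exact hSsc
    · interval_cases i
      · rw [if_neg (by omega : ¬ (0 + 1 = 0)), if_pos rfl] at hx
        rw [if_pos rfl, Subgroup.mem_bot, hx.2 q hq, mul_inv_cancel_right, mul_inv_cancel]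
      · rw [if_neg (by omega : ¬ (1 + 1 = 0)), if_neg (by omega : ¬ (1 + 1 = 1))] at hx
        rw [if_neg (by omega : ¬ ((1 : ℕ) = 0)), if_pos rfl]
        have := hcl (Subgroup.commutator_mem_commutator hq hx)
        rwa [commutatorElement_def] at this
  refine ⟨fun P φ hφ => ?_, le_antisymm (core_le _) (le_core hN)⟩
  obtain ⟨ψ, hψ, ha, hb⟩ := hN.2 P φ hφ
  obtain ⟨-, -, g, hg⟩ := hψ
  refine ⟨g, ?_, fun x => by rw [← ha, hg]; rfl⟩
  have hmap : ∀ x ∈ (S : Subgroup G), g * x * g⁻¹ ∈ (S : Subgroup G) := fun x hx => by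
    have h1 := hb.le (apply_mem_imgSub ψ (⟨x, Subgroup.mem_sup_right hx⟩) hx)
    rwa [hg] at h1
  exact Subgroup.mem_normalizer_fintype hmap

end Cfsg.Agent.S5107
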