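import Cfsg.Statements.S5111
import Cfsg.Agent.Lib.Fusion.Alperin
import Cfsg.Agent.Lib.Fusion87.Reduction

set_option autoImplicit false
open Cfsg
open Cfsg.FusionSystem Cfsg.Agent.Lib.Fusion

namespace Cfsg.Agent.S5111

/-- A fusion system over a finite p-group S is saturated if and only if the inner automorphisms of S form a Sylow p-subgroup of Aut_F(S) and every fully normalized subgroup of S is receptive. -/
theorem result {Ω : Type*} [Group Ω] {S : Subgroup Ω} [Finite S] (p : ℕ) [Fact p.Prime] (hS : IsPGroup p S) (F : Cfsg.FusionSystem S) : F.IsSaturated p ↔ (F.IsFullyAutomized p S ∧ ∀ P : Subgroup Ω, F.IsFullyNormalized P → F.IsReceptive P) := by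
  constructor
  · intro hF
    exact ⟨isFullyAutomized_of_isFullyNormalized hS hF (isFullyNormalized_top F),
      fun P hP => isReceptive_of_isFullyNormalized hS hF hP⟩
  rintro ⟨hauto, hrec⟩
  suffices key : ∀ n (P : Subgroup Ω), Nat.card S - Nat.card P ≤ n → F.IsFullyNormalized P →
      F.IsFullyAutomized p P by
    intro P hP
    obtain ⟨Q, hc, hn⟩ := exists_isFullyNormalized_conj F hP
    exact ⟨Q, hc, key _ Q le_rfl hn, hrec Q hn⟩
  intro n
  induction n using Nat.strong_induction_on with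
  | _ n ih =>
    intro P hn hP
    by_cases hPS : P = S
    · exact hPS ▸ hauto
    by_contra hnot
    haveI := finite_mulAut hP.1
    haveI : Finite P := finite_of_le hP.1
    set A := autInducedBy S P with hA
    set B := F.autGroup P with hB
    have hAB : A ≤ B := autInducedBy_le_autGroup hP.1
    have hAp : IsPGroup p A := isPGroup_autInducedBy hS
    -- a `p`-automorphism normalizing the induced ones, not induced
    obtain ⟨φ, hφB, hφA, hnorm, k, hk⟩ : ∃ φ ∈ B, φ ∉ A ∧ (∀ g ∈ A, φ * g * φ⁻¹ ∈ A) ∧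
        ∃ k, φ ^ p ^ k = 1 := by
      obtain ⟨R, hR⟩ := (hAp.of_equiv (Subgroup.subgroupOfEquivOfLe hAB).symm).exists_le_sylow
      have hne : A.subgroupOf B ≠ R := fun e => hnot
        (isFullyAutomized_iff.2 ⟨hP.1, isSylowIn_of_sylow hAB R e.symm⟩)
      haveI := R.2.isNilpotent
      have hlt : (A.subgroupOf B).subgroupOf (R : Subgroup B) < ⊤ :=
        lt_top_iff_ne_top.2 fun h => hne (le_antisymm hR (Subgroup.subgroupOf_eq_top.1 h))
      obtain ⟨r, hr, hrA⟩ := SetLike.exists_of_lt (Group.normalizerCondition_of_isNilpotent _ hlt)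
      refine ⟨(r : B), (r : B).2, fun h => hrA h, fun g hg => ?_, ?_⟩
      · exact (Subgroup.mem_normalizer_iff.1 hr ⟨⟨g, hAB hg⟩, hR hg⟩).1 hg
      · obtain ⟨k, hk⟩ := R.2 r
        exact ⟨k, congrArg (fun x : (R : Subgroup B) => ((x : B) : MulAut P)) hk⟩
    set N := normalizerIn S P with hN
    have hPN : P ≤ N := le_normalizerIn hP.1
    haveI : Finite N := finite_normalizerIn P
    have hext : N ≤ extender S P (autHom φ) := fun g hg =>
      mem_extender_of_conj_mem hg.1 hg.2 (hnorm _ (mem_autInducedBy.2 ⟨g, hg.1, fun x => rfl⟩))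
    obtain ⟨ψ, hψ, hag⟩ :=
      (hrec P hP).2 P (autHom φ) (autGroup_hom_mem hP.1 hφB) (range_autHom φ)
    have hψN := restrict_mem hψ hext
    have hagN : ∀ (x : N) (hx : (x : Ω) ∈ P),
        ψ.comp (Subgroup.inclusion hext) x = φ ⟨x, hx⟩ := fun x hx => hag x hx (hext x.2)
    have himg : imgSub (ψ.comp (Subgroup.inclusion hext)) P = P := by
      rw [imgSub_of_agree hPN (φ := autHom φ) fun x hQ hN => hagN ⟨x, hN⟩ hQ, range_autHom]
    obtain ⟨a, ha, hax⟩ := exists_aut_of_hom hψN fun x => by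
      have h := apply_mem_normalizerIn hψN x x.2.2
      rwa [himg] at h
    haveI : Finite (MulAut N) := finite_mulAut inf_le_left
    obtain ⟨j, m, hm, hord⟩ :=
      Nat.exists_eq_pow_mul_and_not_dvd (orderOf_pos a).ne' p (Fact.out : p.Prime).ne_one
    have hpow : ∀ (i : ℕ) (x : N) (hx : (x : Ω) ∈ P),
        ((a ^ i) x : Ω) = ((φ ^ i) ⟨x, hx⟩ : Ω) := by
      intro i
      induction i with
      | zero => intro x hx; rfl
      | succ i hi =>
        intro x hx
        rw [pow_succ', pow_succ', MulAut.mul_apply, MulAut.mul_apply, hax]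
        have h1 : ((a ^ i) x : Ω) ∈ P := (hi x hx).symm ▸ ((φ ^ i) _).2
        rw [hagN _ h1]
        exact congrArg (fun y : P => (φ y : Ω)) (Subtype.ext (hi x hx))
    have ham : a ^ m ∈ F.autGroup N := Subgroup.pow_mem _ ha m
    have hamp : (a ^ m) ^ p ^ j = 1 := by
      rw [← pow_mul, mul_comm, ← hord, pow_orderOf_eq_one]
    have hφm : φ ^ m ∉ A := fun h => by
      obtain ⟨t, ht⟩ := exists_pow_eq_self_of_coprime (x := φ) (n := m) (by
        refine Nat.Coprime.coprime_dvd_right (orderOf_dvd_of_pow_eq_one hk) ?_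
        exact Nat.Coprime.pow_right _ (Nat.coprime_comm.1
          ((Fact.out : p.Prime).coprime_iff_not_dvd.2 hm)))
      exact hφA (ht ▸ Subgroup.pow_mem _ h t)
    -- a fully normalized conjugate of the normalizer is fully automized by induction
    obtain ⟨M, hNM, hM⟩ := exists_isFullyNormalized_conj F (inf_le_left : N ≤ S)
    have hcard : Nat.card M = Nat.card N := isConj_card hNM
    have hlt : Nat.card P < Nat.card N :=
      Cfsg.Agent.Lib.Fusion87.card_lt_normalizerIn hS hP.1 hPS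
    obtain ⟨hMS, hsyl⟩ := isFullyAutomized_iff.1 (ih (Nat.card S - Nat.card M) (by
      have h1 : Nat.card M ≤ Nat.card S := Subgroup.card_le_of_le hM.1
      rw [hcard] at h1 ⊢
      omega) M le_rfl hM)
    haveI := finite_mulAut hMS
    obtain ⟨γ, hγ, hγr⟩ := hNM
    set e := isoOnto γ (F.injective_of_mem hγ) hγr with he
    have hem : M.subtype.comp e.toMonoidHom ∈ F.Hom N := mem_congr hγ fun x => rfl
    set b : F.autGroup M := ⟨MulAut.congr e (a ^ m), congr_mem_autGroup e hem ham⟩ with hb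
    have hbp : (b : MulAut M) ^ p ^ j = 1 := by
      show (MulAut.congr e (a ^ m)) ^ p ^ j = 1
      exact (map_pow (MulAut.congr e) (a ^ m) (p ^ j)).symm.trans
        ((congrArg (MulAut.congr e) hamp).trans (map_one (MulAut.congr e)))
    obtain ⟨i, -, hi⟩ :=
      (Nat.dvd_prime_pow (Fact.out : p.Prime)).1 (orderOf_dvd_of_pow_eq_one hbp)
    have hL : IsPGroup p (Subgroup.zpowers (b : MulAut M)) :=
      IsPGroup.of_card (n := i) ((Nat.card_zpowers _).trans hi)
    obtain ⟨δ, hδ, hle⟩ := hsyl.exists_conj_le hL (Subgroup.zpowers_le.2 b.2)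
    obtain ⟨s, hs, hsx⟩ := mem_autInducedBy.1 (hle ⟨_, Subgroup.mem_zpowers _, rfl⟩)
    obtain ⟨γ', hγ', hγ'x⟩ := exists_comp hem (autGroup_hom_mem hMS hδ) fun x => (e x).2
    have hγ'e : ∀ x, γ' x = (δ (e x) : Ω) := fun x => hγ'x x
    have hconj : ∀ x : N, γ' ((a ^ m) x) = s * γ' x * s⁻¹ := by
      intro x
      have h := hsx (δ (e x))
      rw [hγ'e, hγ'e, ← h]
      show _ = (δ ((b : MulAut M) (δ⁻¹ (δ (e x)))) : Ω)
      rw [MulAut.inv_apply_self]
      show _ = (δ (e ((a ^ m) (e.symm (e x)))) : Ω)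
      exact congrArg (fun y => (δ (e ((a ^ m) y)) : Ω)) (e.symm_apply_apply x).symm
    -- `s` lies in the image of `N`
    have hP' : F.IsConj P (imgSub γ' P) := isConj_imgSub hγ' hPN
    have hinj := F.injective_of_mem hγ'
    have hsN : s ∈ normalizerIn S (imgSub γ' P) := by
      refine ⟨hs, Subgroup.mem_normalizer_iff.2 fun y => ⟨fun hy => ?_, fun hy => ?_⟩⟩
      · obtain ⟨x, hx, rfl⟩ := mem_imgSub.1 hy
        exact mem_imgSub.2 ⟨_, (hpow m x hx).symm ▸ ((φ ^ m) _).2, hconj x⟩
      · obtain ⟨x, hx, hxy⟩ := mem_imgSub.1 hy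
        set w : P := (φ ^ m)⁻¹ ⟨x, hx⟩ with hw
        have h1 : (a ^ m) ⟨w, hPN w.2⟩ = x := Subtype.ext (by
          rw [hpow m ⟨w, hPN w.2⟩ w.2]
          exact congrArg Subtype.val ((φ ^ m).apply_symm_apply ⟨(x : Ω), hx⟩))
        have h2 := hconj ⟨w, hPN w.2⟩
        rw [h1, hxy] at h2
        exact mem_imgSub.2 ⟨_, w.2, (mul_left_cancel (mul_right_cancel h2)).symm⟩
    have heq : imgSub γ' N = normalizerIn S (imgSub γ' P) := by
      haveI := finite_normalizerIn (S := S) (imgSub γ' P)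
      refine imgSub_eq_of_le_of_card hγ' le_rfl ?_ (hP.2 _ hP')
      intro y hy
      obtain ⟨x, -, rfl⟩ := mem_imgSub.1 hy
      exact apply_mem_normalizerIn hγ' x x.2.2
    obtain ⟨u, -, hu⟩ := mem_imgSub.1 (heq.ge hsN)
    refine hφm (mem_autInducedBy.2 ⟨u, u.2.1, fun x => ?_⟩)
    have h1 := hconj ⟨x, hPN x.2⟩
    rw [← hu, ← map_inv, ← map_mul, ← map_mul] at h1
    exact (hpow m ⟨x, hPN x.2⟩ x.2).symm.trans (congrArg Subtype.val (hinj h1))

end Cfsg.Agent.S5111
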