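import Cfsg.Statements.S5114
import Cfsg.Agent.Lib.Fusion.PrimeIndex

set_option autoImplicit false
open Cfsg
open Cfsg.FusionSystem Cfsg.Agent.Lib.Fusion

namespace Cfsg.Agent.S5114

/-- Let F be a saturated fusion system over a finite p-group S and E a fusion system over S contained in F. If Aut_E(P) contains the subgroup of Aut_F(P) generated by its elements of p-power order for every subgroup P that is centric in F, then the same holds for every subgroup of S (E has index prime to p in F), every map of F with source a subgroup P of S is an element of Aut_F(S) composed with a map of E, and a subgroup is centric in E exactly when it is centric in F. -/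
theorem result {Ω : Type*} [Group Ω] {S : Subgroup Ω} [Finite S] (p : ℕ) [Fact p.Prime] (hS : IsPGroup p S) (F : Cfsg.FusionSystem S) (hF : F.IsSaturated p) (E : Cfsg.FusionSystem S) (hEF : E.IsSubsystemOf F) (h : ∀ P : Subgroup Ω, F.IsCentric P → (Subgroup.closure {α : ↥(F.autGroup P) | ∃ k : ℕ, orderOf α = p ^ k}).map (F.autGroup P).subtype ≤ E.autGroup P) : E.HasPrimeToPIndexIn F p ∧ (∀ (P : Subgroup Ω) (φ : P →* Ω), φ ∈ F.Hom P → ∃ α ∈ F.autGroup S, ∃ φ₀ ∈ E.Hom P, ∀ (x : P) (hx : φ₀ x ∈ S), φ x = ((α ⟨φ₀ x, hx⟩ : S) : Ω)) ∧ ∀ P : Subgroup Ω, E.IsCentric P ↔ F.IsCentric P := by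
  have hD : HasPAut E F p := by
    intro P hP α hα ⟨k, hk⟩
    refine (mem_autGroup hP.1).1 (h P hP ⟨⟨α, hα⟩, Subgroup.subset_closure ?_, rfl⟩)
    obtain ⟨i, -, hi⟩ := (Nat.dvd_prime_pow (Fact.out : p.Prime)).1
      (orderOf_dvd_of_pow_eq_one (x := (⟨α, hα⟩ : F.autGroup P)) (Subtype.ext hk))
    exact ⟨i, hi⟩
  refine ⟨⟨hEF, fun P hP => ?_⟩, fun P φ hφ => exists_decomp hS hF hD hφ, fun P => ⟨?_, ?_⟩⟩
  · rw [Subgroup.map_le_iff_le_comap, Subgroup.closure_le]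
    rintro α ⟨k, hk⟩
    exact (mem_autGroup hP).2 (autHom_mem_of_hasPAut hS hF hD hP α.2
      ⟨k, congrArg Subtype.val (hk ▸ pow_orderOf_eq_one α : α ^ p ^ k = 1)⟩)
  · rintro ⟨hP, hc⟩
    refine ⟨hP, fun Q hQ => ?_⟩
    obtain ⟨φ, hφ, rfl⟩ := hQ
    obtain ⟨a, -, φ₀, hφ₀, hx⟩ := exists_decomp hS hF hD hφ
    intro y hy
    obtain ⟨w, hw⟩ : ∃ w : S, a w = ⟨y, hy.1⟩ := ⟨a.symm ⟨y, hy.1⟩, a.apply_symm_apply _⟩
    have hwc : (w : Ω) ∈ centralizerIn S φ₀.range := by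
      refine ⟨w.2, ?_⟩
      rintro _ ⟨x, rfl⟩
      have h1 := hy.2 (φ x) ⟨x, rfl⟩
      have h2 : a ⟨φ₀ x, val_mem hφ₀ x⟩ * a w = a w * a ⟨φ₀ x, val_mem hφ₀ x⟩ := by
        rw [hw]
        refine Subtype.ext ?_
        rw [Subgroup.coe_mul, Subgroup.coe_mul, ← hx x (val_mem hφ₀ x)]
        exact h1
      rw [← map_mul, ← map_mul] at h2
      exact congrArg Subtype.val (a.injective h2)
    obtain ⟨x, hxw⟩ := hc _ (isConj_range hφ₀) hwc
    refine ⟨x, ?_⟩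
    rw [hx x (val_mem hφ₀ x), show (⟨φ₀ x, val_mem hφ₀ x⟩ : S) = w from Subtype.ext hxw, hw]
  · rintro ⟨hP, hc⟩
    exact ⟨hP, fun Q ⟨φ, hφ, hr⟩ => hc Q ⟨φ, hEF P hφ, hr⟩⟩

end Cfsg.Agent.S5114
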