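import Cfsg.Statements.S5115
import Cfsg.Agent.Lib.Fusion.ConstrainedSub

set_option autoImplicit false
open Cfsg
open Cfsg.FusionSystem Cfsg.Agent.Lib.Fusion

namespace Cfsg.Agent.S5115

/-- If the 2-fusion system of a finite group G on a Sylow 2-subgroup S is constrained, then for every subnormal subgroup H of G the 2-fusion system of H on S ∩ H is constrained. -/
theorem result {G : Type*} [Group G] [Finite G] (S : Sylow 2 G) (hF : (Cfsg.groupFusionSystem (S : Subgroup G)).IsConstrained 2) (H : Subgroup G) (hH : H.IsSubnormal) : (Cfsg.groupFusionSystem ((S : Subgroup G).subgroupOf H)).IsConstrained 2 := by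
  have hS := S.2
  suffices key : ∀ K : Subgroup G, K.IsSubnormal → IsSylowIn 2 ((S : Subgroup G) ⊓ K) K ∧
      (fusionSystemOfSubgroup K ((S : Subgroup G) ⊓ K) inf_le_right).IsConstrained 2 by
    obtain ⟨hsyl, hcon⟩ := key H hH
    set A : Subgroup G := (S : Subgroup G) ⊓ H with hA
    set T' : Subgroup H := (S : Subgroup G).subgroupOf H with hT'
    have hAp : IsPGroup 2 A := hS.to_le inf_le_left
    obtain ⟨L, _, _, ι, -, ⟨hinj, hreal⟩, hsylL, hC⟩ := exists_model_of_isConstrained hAp hcon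
    let j : ↥T' →* ↥A := (H.subtype.comp T'.subtype).codRestrict A fun x => ⟨x.2, x.1.2⟩
    have hj : Function.Bijective j := ⟨fun x y h => Subtype.ext (Subtype.ext
      (congrArg (fun z : ↥A => (z : G)) h : ((x : H) : G) = ((y : H) : G))), fun y => ⟨⟨⟨y, y.2.2⟩, y.2.1⟩, rfl⟩⟩
    refine isConstrained_of_isModel (G := L) (ι := ι.comp j)
      ⟨inferInstance, ⟨hinj.comp hj.1, fun P hP φ hφ => ?_⟩, ?_, hC⟩
    · set P₀ : Subgroup G := P.map H.subtype with hP₀
      have hP₀A : P₀ ≤ A := by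
        rintro _ ⟨x, hx, rfl⟩
        exact ⟨hP hx, x.2⟩
      let e : P ≃* P₀ := P.equivMapOfInjective H.subtype H.subtype_injective
      let φ₀ : P₀ →* G := H.subtype.comp (φ.comp e.symm.toMonoidHom)
      have hφ₀ : ∀ y, φ₀ y ∈ A := fun y => ⟨hφ _, (φ _).2⟩
      have he : ∀ x : P, φ₀ (e x) = (φ x : G) := fun x => by
        show ((φ (e.symm (e x))) : G) = _
        rw [e.symm_apply_apply]
      have hee : ∀ x : P, ((e x : P₀) : G) = ((x : H) : G) := fun x => rfl
      have h1 := hreal P₀ hP₀A φ₀ hφ₀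
      constructor
      · rintro ⟨-, -, g, hg⟩
        obtain ⟨c, hc⟩ := h1.1 ⟨hP₀A, hφ₀, g, g.2, fun y => by
          obtain ⟨x, rfl⟩ := e.surjective y
          rw [he, hg, hee]
          rfl⟩
        refine ⟨c, fun x => ?_⟩
        have h2 := hc (e x)
        have e1 : (⟨φ₀ (e x), hφ₀ (e x)⟩ : A) = j ⟨φ x, hφ x⟩ := Subtype.ext (he x)
        rw [e1] at h2
        exact h2
      · rintro ⟨c, hc⟩
        obtain ⟨-, -, g, hgH, hg⟩ := h1.2 ⟨c, fun y => by
          obtain ⟨x, rfl⟩ := e.surjective y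
          have e1 : (⟨φ₀ (e x), hφ₀ (e x)⟩ : A) = j ⟨φ x, hφ x⟩ := Subtype.ext (he x)
          rw [e1]
          exact hc x⟩
        refine ⟨hP, hφ, ⟨g, hgH⟩, fun x => Subtype.ext ?_⟩
        rw [← he, hg, hee]
        rfl
    · obtain ⟨T₀, hT₀⟩ := hsylL
      exact ⟨T₀, by rw [hT₀, MonoidHom.range_comp, MonoidHom.range_eq_top.2 hj.2,
        ← MonoidHom.range_eq_map]⟩
  intro K hK
  induction hK with
  | top =>
    refine ⟨by rw [inf_top_eq]; exact isSylowIn_top S, ?_⟩
    have hgen : ∀ (T : Subgroup G) (hT : T ≤ ⊤), T = (S : Subgroup G) →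
        (fusionSystemOfSubgroup ⊤ T hT).IsConstrained 2 := by
      rintro T hT rfl
      rw [← groupFusionSystem_eq]
      exact hF
    exact hgen _ _ (inf_top_eq _)
  | step H K hHK _ hn ih =>
    obtain ⟨hsylK, hconK⟩ := ih
    have hnorm : ∀ k ∈ K, ∀ h ∈ H, k * h * k⁻¹ ∈ H := fun k hk h hh =>
      hn.conj_mem ⟨h, hHK hh⟩ hh ⟨k, hk⟩
    have hsyl : IsSylowIn 2 ((S : Subgroup G) ⊓ H) H := by
      have h1 := isSylowIn_inf_of_normalized hsylK hHK hnorm
      rwa [inf_assoc, inf_eq_right.2 hHK] at h1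
    refine ⟨hsyl, isConstrained_of_stronglyClosed (hS.to_le inf_le_left) hconK ?_ _
      (isSaturated_fusionOfSubgroup hsyl) ?_⟩
    · refine ⟨inf_le_inf_left _ hHK, fun R hR φ hφ x => ?_⟩
      obtain ⟨-, hφT, g, hgK, hg⟩ := hφ
      refine ⟨(hφT x).1, ?_⟩
      rw [hg]
      exact hnorm g hgK _ (hR x.2).2
    · rintro P φ ⟨hP, hφT, g, hgH, hg⟩
      exact ⟨hP.trans (inf_le_inf_left _ hHK), fun x => inf_le_inf_left _ hHK (hφT x),
        g, hHK hgH, hg⟩

end Cfsg.Agent.S5115
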