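import Cfsg.Statements.S5130
import Cfsg.Agent.Lib.Fusion.StrongFactor
import Cfsg.Agent.Lib.Fusion.LocalGlobal

set_option autoImplicit false
open Cfsg

namespace Cfsg.Agent.S5130

/-- Let F be a saturated fusion system over a finite p-group S that is the direct product of two subgroups S₁ and S₂, each strongly closed in F. Let R be the full subsystem of F over S₁ (all maps of F between subgroups of S₁) and R′ the subsystem over S₁ of those maps that extend to the subgroup generated with S₂ fixing S₂ elementwise. Then R and R′ are saturated, R′ is normal in F and in R, and R is weakly normal in F. -/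
theorem result {Ω : Type*} [Group Ω] {S : Subgroup Ω} [Finite S] (p : ℕ) [Fact p.Prime] (hS : IsPGroup p S) (F : Cfsg.FusionSystem S) (hF : F.IsSaturated p) (S₁ S₂ : Subgroup Ω) (hprod : Cfsg.IsInternalDirectProduct S₁ S₂ S) (h₁ : F.StronglyClosed S₁) (h₂ : F.StronglyClosed S₂) (R R' : Cfsg.FusionSystem S₁) (hR : ∀ P : Subgroup Ω, P ≤ S₁ → R.Hom P = F.Hom P) (hR' : ∀ P : Subgroup Ω, P ≤ S₁ → R'.Hom P = F.centralizerHom S₂ P) : R.IsSaturated p ∧ R'.IsSaturated p ∧ R'.IsNormalIn F p ∧ R'.IsNormalIn R p ∧ R.IsWeaklyNormalIn F p := by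
  open Lib.Fusion Cfsg.FusionSystem in
  have hsp : StrongFactor.Split F S₁ S₂ :=
    ⟨h₁, h₂, hprod.2.2.1, hprod.2.2.2.1, hprod.2.2.2.2⟩
  have hA := h₁.1
  have hRsat := hsp.isSaturated_full hR hS hF
  have hR'sat := hsp.isSaturated_cent hR' hS hF
  have hsubF : R'.IsSubsystemOf F := hsp.subsystem_cent hR'
  have hsubRF : R.IsSubsystemOf F := fun P φ hφ => by
    rwa [hR P (Lib.Fusion.src_le hφ)] at hφ
  have hsubR : R'.IsSubsystemOf R := fun P φ hφ => by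
    rw [hR P (Lib.Fusion.src_le hφ)]; exact hsubF P hφ
  have hcl : R.StronglyClosed S₁ := ⟨le_rfl, fun _ _ _ hφ x => Lib.Fusion.val_mem hφ x⟩
  have haut : R.autGroup S₁ = F.autGroup S₁ := hsp.autGroup_eq hR le_rfl
  -- transport by an automorphism of `S₁`
  have transR : ∀ (P : Subgroup Ω) (hP : P ≤ S₁) (φ : P →* Ω), φ ∈ R.Hom P → ∀ α ∈ F.autGroup S₁,
      ∃ χ ∈ R.Hom (Lib.Fusion.imgSub (Lib.Fusion.autHom α) P),
        ∀ (x : P) (hφx : φ x ∈ S₁) (hαx : ((α ⟨x, hP x.2⟩ : S₁) : Ω) ∈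
          Lib.Fusion.imgSub (Lib.Fusion.autHom α) P),
          χ ⟨_, hαx⟩ = ((α ⟨φ x, hφx⟩ : S₁) : Ω) := by
    intro P hP φ hφ α hα
    rw [hR P hP] at hφ
    obtain ⟨θ, hθ, hθx⟩ := Lib.Fusion.exists_transport (Lib.Fusion.autGroup_hom_mem hA hα) hφ hP
      (fun x => h₁.2 P hP φ hφ x)
    refine ⟨θ, ?_, fun x hφx hαx => hθx x hαx⟩
    rw [hR _ (by rintro _ ⟨y, -, rfl⟩; exact (α y).2)]
    exact hθ
  have transR' : ∀ (P : Subgroup Ω) (hP : P ≤ S₁) (φ : P →* Ω), φ ∈ R'.Hom P → ∀ α ∈ F.autGroup S₁,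
      ∃ χ ∈ R'.Hom (Lib.Fusion.imgSub (Lib.Fusion.autHom α) P),
        ∀ (x : P) (hφx : φ x ∈ S₁) (hαx : ((α ⟨x, hP x.2⟩ : S₁) : Ω) ∈
          Lib.Fusion.imgSub (Lib.Fusion.autHom α) P),
          χ ⟨_, hαx⟩ = ((α ⟨φ x, hφx⟩ : S₁) : Ω) := by
    intro P hP φ hφ α hα
    rw [hR' P hP] at hφ
    obtain ⟨hφF, -, -, ψ, hψ, hψx, hψB⟩ := hφ
    obtain ⟨β, hβ, hβx⟩ := hsp.exists_extension_aut hS hF hα
    have hU : P ⊔ S₂ ≤ S := sup_le (hP.trans hA) h₂.1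
    obtain ⟨θ, hθ, hθx⟩ := Lib.Fusion.exists_transport (Lib.Fusion.autGroup_hom_mem le_rfl hβ) hψ hU
      (fun x => Lib.Fusion.val_mem hψ x)
    set P' := Lib.Fusion.imgSub (Lib.Fusion.autHom α) P with hP'
    have hP'A : P' ≤ S₁ := by rintro _ ⟨y, -, rfl⟩; exact (α y).2
    have hle : P' ⊔ S₂ ≤ Lib.Fusion.imgSub (Lib.Fusion.autHom β) (P ⊔ S₂) := by
      refine sup_le ?_ fun y hy => ?_
      · rintro _ ⟨x, hx, rfl⟩
        exact ⟨⟨x, hA x.2⟩, Subgroup.mem_sup_left hx, hβx x⟩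
      · obtain ⟨z, hz, hzy⟩ := Lib.FusionFactor.exists_eq_of_stronglyClosed F h₂
          (Lib.Fusion.autGroup_hom_mem le_rfl hβ) h₂.1 hy
        exact ⟨z, Subgroup.mem_sup_right hz, hzy⟩
    set θ' := θ.comp (Subgroup.inclusion hle) with hθ'
    have hθ'm : θ' ∈ F.Hom (P' ⊔ S₂) := Lib.Fusion.restrict_mem hθ hle
    refine ⟨θ'.comp (Subgroup.inclusion le_sup_left), ?_, fun x hφx hαx => ?_⟩
    · rw [hR' _ hP'A]
      refine ⟨Lib.Fusion.restrict_mem hθ'm _, hP'A.trans hsp.le_centralizerIn,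
        fun y => hsp.le_centralizerIn (h₁.2 P' hP'A _ (Lib.Fusion.restrict_mem hθ'm le_sup_left) y),
        θ', hθ'm, fun y => rfl, fun y => ?_⟩
      obtain ⟨z, hz, hzy⟩ := Lib.FusionFactor.exists_eq_of_stronglyClosed F h₂
        (Lib.Fusion.autGroup_hom_mem le_rfl hβ) h₂.1 y.2
      have h1 := hθx (⟨z, Subgroup.mem_sup_right hz⟩ : ↥(P ⊔ S₂))
        (Lib.Fusion.apply_mem_imgSub (Lib.Fusion.autHom β) _ (Subgroup.mem_sup_right hz))
      have h2 : ψ ⟨z, Subgroup.mem_sup_right hz⟩ = z := hψB ⟨z, hz⟩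
      refine Eq.trans ?_ (Eq.trans h1 ?_)
      · exact congrArg θ (Subtype.ext hzy.symm)
      · exact (congrArg (Lib.Fusion.autHom β) (Subtype.ext h2)).trans hzy
    · have h1 := hθx (Subgroup.inclusion le_sup_left x)
        (Lib.Fusion.apply_mem_imgSub (Lib.Fusion.autHom β) _ (Subgroup.mem_sup_left x.2))
      refine Eq.trans ?_ (Eq.trans h1 ?_)
      · exact congrArg θ (Subtype.ext (hβx ⟨x, hP x.2⟩).symm)
      · refine Eq.trans ?_ (hβx ⟨φ x, hφx⟩)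
        exact congrArg (Lib.Fusion.autHom β) (Subtype.ext (hψx x))
  -- Frattini
  have frat : ∀ (P : Subgroup Ω), P ≤ S₁ → ∀ (φ : P →* Ω), φ ∈ F.Hom P →
      ∃ α ∈ F.autGroup S₁, ∃ φ₀ ∈ R'.Hom P, ∀ (x : P) (hx : φ₀ x ∈ S₁),
        φ x = ((α ⟨φ₀ x, hx⟩ : S₁) : Ω) := by
    intro P hP φ hφ
    obtain ⟨β, hβ, φ₀, hφ₀, hx⟩ := hsp.exists_frattini_fix hS hF hP hφ
    have := Lib.Fusion.finite_of_le hA
    obtain ⟨α, hα, hαx⟩ := Lib.Fusion.exists_aut_of_hom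
      (φ := (Lib.Fusion.autHom β).comp (Subgroup.inclusion hA))
      (Lib.Fusion.restrict_mem (Lib.Fusion.autGroup_hom_mem le_rfl hβ) hA)
      (fun x => Lib.Fusion.stronglyClosed_map h₁ (Lib.Fusion.autGroup_hom_mem le_rfl hβ) _ x.2)
    exact ⟨α, hα, φ₀, (hR' P hP).symm ▸ hφ₀, fun x hxA => (hx x (hA hxA)).trans (hαx ⟨_, hxA⟩).symm⟩
  refine ⟨hRsat, hR'sat, ?_, ?_, ⟨hRsat, hF, hsubRF, h₁, transR, fun P hP φ hφ => ?_⟩⟩
  · refine ⟨⟨hR'sat, hF, hsubF, h₁, transR', frat⟩, fun α hα => ?_⟩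
    have hαm := Lib.Fusion.autGroup_hom_mem le_rfl hα
    rw [hR' _ le_rfl] at hαm
    obtain ⟨-, -, -, ψ, hψ, hψx, hψB⟩ := hαm
    set U := S₁ ⊔ FusionSystem.centralizerIn S S₁
    have hUle : U ≤ S₁ ⊔ S₂ := by
      rw [hprod.2.2.2.2]; exact sup_le hA inf_le_left
    have hUge : S₁ ⊔ S₂ ≤ U := sup_le_sup le_rfl (hsp.centralizes le_rfl)
    have : Finite U := Lib.Fusion.finite_of_le (sup_le hA inf_le_left : U ≤ S)
    obtain ⟨β, hβ, hβx⟩ := Lib.Fusion.exists_aut_of_hom (φ := ψ.comp (Subgroup.inclusion hUle))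
      (Lib.Fusion.restrict_mem hψ hUle)
      (fun x => hUge (hprod.2.2.2.2.ge (Lib.Fusion.val_mem hψ _)))
    refine ⟨β, hβ, fun x => (hβx _).trans (hψx x), fun c hc => ?_⟩
    obtain ⟨a, ha, b, hb, hab⟩ := hsp.exists_decomp hc.1
    have hac : a ∈ Subgroup.centralizer (S₁ : Set Ω) := by
      have := Subgroup.mul_mem _ hc.2 (Subgroup.inv_mem _ (hsp.centralizes le_rfl hb).2)
      rwa [hab, mul_inv_cancel_right] at this
    have hc' : Subgroup.inclusion hUle c =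
        Subgroup.inclusion le_sup_left ⟨a, ha⟩ * Subgroup.inclusion le_sup_right ⟨b, hb⟩ :=
      Subtype.ext hab
    rw [hβx, MonoidHom.comp_apply, hc', map_mul, hψx, hψB, hab]
    have hαa : (Lib.Fusion.autHom α ⟨a, ha⟩ : Ω) ∈ Subgroup.centralizer (S₁ : Set Ω) := by
      intro y hy
      obtain ⟨y', hy'⟩ := α.surjective ⟨y, hy⟩
      have h1 : y' * ⟨a, ha⟩ = ⟨a, ha⟩ * y' := Subtype.ext (hac y' y'.2)
      have h2 := congrArg (fun q => (α q : Ω)) h1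
      simpa [hy'] using h2
    have hcomm : ∀ w ∈ S₁, b⁻¹ * w * b = w := fun w hw => by
      rw [mul_assoc, hprod.2.2.1 w hw b hb, inv_mul_cancel_left]
    rw [show (a * b)⁻¹ * ((Lib.Fusion.autHom α ⟨a, ha⟩ : Ω) * b) =
      b⁻¹ * (a⁻¹ * Lib.Fusion.autHom α ⟨a, ha⟩) * b by group,
      hcomm (a⁻¹ * Lib.Fusion.autHom α ⟨a, ha⟩) (S₁.mul_mem (S₁.inv_mem ha) (α ⟨a, ha⟩).2)]
    exact ⟨S₁.mul_mem (S₁.inv_mem ha) (α ⟨a, ha⟩).2, Subgroup.mul_mem _ (Subgroup.inv_mem _ hac) hαa⟩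
  · refine ⟨⟨hR'sat, hRsat, hsubR, hcl, fun P hP φ hφ α hα => transR' P hP φ hφ α (haut ▸ hα),
      fun P hP φ hφ => ?_⟩, fun α hα => ?_⟩
    · obtain ⟨α, hα, rest⟩ := frat P hP φ (hsubRF P hφ)
      exact ⟨α, haut.symm ▸ hα, rest⟩
    · set U := S₁ ⊔ FusionSystem.centralizerIn S₁ S₁
      have hUle : U ≤ S₁ := sup_le le_rfl inf_le_left
      have hαR : Lib.Fusion.autHom α ∈ R.Hom S₁ := hsubR _ (Lib.Fusion.autGroup_hom_mem le_rfl hα)
      have : Finite U := Lib.Fusion.finite_of_le (hUle.trans hA : U ≤ S)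
      obtain ⟨β, hβ, hβx⟩ := Lib.Fusion.exists_aut_of_hom
        (φ := (Lib.Fusion.autHom α).comp (Subgroup.inclusion hUle))
        (Lib.Fusion.restrict_mem hαR hUle) (fun x => Subgroup.mem_sup_left (α _).2)
      refine ⟨β, hβ, fun x => hβx _, fun c hc => ?_⟩
      rw [hβx]
      refine ⟨S₁.mul_mem (S₁.inv_mem hc.1) (α _).2, Subgroup.mul_mem _ (Subgroup.inv_mem _ hc.2) ?_⟩
      intro y hy
      obtain ⟨y', hy'⟩ := α.surjective ⟨y, hy⟩
      have h1 : y' * Subgroup.inclusion hUle c = Subgroup.inclusion hUle c * y' :=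
        Subtype.ext (hc.2 y' y'.2)
      have h2 := congrArg (fun q => (α q : Ω)) h1
      simpa [hy', Lib.Fusion.autHom] using h2
  · refine ⟨1, Subgroup.one_mem _, φ, (hR P hP).symm ▸ hφ, fun x hx => rfl⟩

end Cfsg.Agent.S5130
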