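import Cfsg.Statements.S5139
import Cfsg.Agent.Lib.Fusion.PPowerIndex
import Cfsg.Agent.Lib.Fusion.GroupFusion
import Cfsg.Agent.Lib.Fusion.ConstrainedSub
import Cfsg.Agent.S5093

set_option autoImplicit false
open Cfsg
open Cfsg.FusionSystem Cfsg.Agent.Lib.Fusion
open Cfsg.Agent.Lib

namespace Cfsg.Agent.S5139

/-- Let G be a finite group with Sylow p-subgroup S and O^p(G) the subgroup generated by the elements of order prime to p. Then the p-residual subsystem of the fusion system of G on S — the saturated subsystem of p-power index over the hyperfocal subgroup — is the fusion system of O^p(G) on S ∩ O^p(G): its maps are exactly the conjugation maps by elements of O^p(G) between subgroups of S ∩ O^p(G). -/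
theorem result {G : Type*} [Group G] [Finite G] (p : ℕ) [Fact p.Prime] (S : Sylow p G) (E : Cfsg.FusionSystem ((Cfsg.groupFusionSystem (S : Subgroup G)).hyperfocalSubgroup p)) (hE : (Cfsg.groupFusionSystem (S : Subgroup G)).IsPResidual p E) : ∃ h : (S : Subgroup G) ⊓ Cfsg.pResidual p G ≤ Cfsg.pResidual p G, ∀ P : Subgroup G, E.Hom P = (Cfsg.fusionSystemOfSubgroup (Cfsg.pResidual p G) ((S : Subgroup G) ⊓ Cfsg.pResidual p G) h).Hom P := by
  set N := Cfsg.pResidual p G with hN
  refine ⟨inf_le_right, ?_⟩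
  obtain ⟨hEs, hEi⟩ := hE
  have hgen : ∀ (T : Subgroup G) (hTN : T ≤ N) (E : Cfsg.FusionSystem T), T = (S : Subgroup G) ⊓ N →
      E.IsSaturated p → E.HasPPowerIndexIn (Cfsg.groupFusionSystem (S : Subgroup G)) p →
      ∀ P, E.Hom P = (Cfsg.fusionSystemOfSubgroup N T hTN).Hom P := by
    rintro T hTN E rfl hEs hEi P
    have hTp : IsPGroup p ((S : Subgroup G) ⊓ N : Subgroup G) := S.2.to_le inf_le_left
    have hsyl : IsSylowIn p ((S : Subgroup G) ⊓ N) N :=
      isSylowIn_inf_of_normalized (isSylowIn_top S) le_top fun k _ h hh =>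
        Transfer.pResidual_normal.conj_mem h hh k
    set D := Cfsg.fusionSystemOfSubgroup N ((S : Subgroup G) ⊓ N) hTN with hD
    have hDF : D.IsSubsystemOf (Cfsg.groupFusionSystem (S : Subgroup G)) := fun R φ ⟨hR, hφ, g, _, hg⟩ =>
      ⟨hR.trans inf_le_left, fun x => (hφ x).1, g, hg⟩
    refine Set.Subset.antisymm ((le_of_pResidual_le hTp hEs fun Q hQ => ?_) P)
      (le_of_hasPPowerIndexIn hTp (isSaturated_fusionOfSubgroup hsyl) hDF hEi P)
    refine (map_pResidual_autGroup_mono hEi.1 Q).trans ?_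
    rw [Subgroup.map_le_iff_le_comap, Transfer.pResidual_le_iff]
    intro α hα
    show (α : MulAut Q) ∈ D.autGroup Q
    rw [autGroup_fusionOfSubgroup hQ, mem_autInducedBy]
    obtain ⟨-, -, g, hg⟩ := autGroup_hom_mem (F := Cfsg.groupFusionSystem (S : Subgroup G)) (hQ.trans inf_le_left) α.2
    obtain ⟨k, hk⟩ := Transfer.exists_pow_mem_pResidual (p := p) g
    have hpow : ∀ j : ℕ, ∀ x : Q, (((α : MulAut Q) ^ j) x : G) = g ^ j * (x : G) * (g ^ j)⁻¹ := by
      intro j
      induction j with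
      | zero => simp
      | succ j ih =>
        intro x
        rw [pow_succ', MulAut.mul_apply, show (((α : MulAut Q) (((α : MulAut Q) ^ j) x)) : G) =
          g * (((α : MulAut Q) ^ j) x : G) * g⁻¹ from hg _, ih, pow_succ']
        group
    obtain ⟨t, ht⟩ := exists_pow_eq_self_of_coprime (x := α) (n := p ^ k) (Nat.Coprime.pow_left k hα.symm)
    refine ⟨g ^ (p ^ k * t), by rw [pow_mul]; exact N.pow_mem hk t, fun x => ?_⟩
    rw [← hpow]
    have ht' : ((α : MulAut Q) ^ (p ^ k * t)) = (α : MulAut Q) := by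
      rw [pow_mul]; exact congrArg Subtype.val ht
    rw [ht']
  have hhyp := Cfsg.Agent.S5093.result p S
  intro P
  have h := hgen _ (hhyp.le.trans inf_le_right) E hhyp hEs hEi P
  rw [h]
  ext φ
  constructor
  · rintro ⟨h1, h2, h3⟩
    exact ⟨h1.trans hhyp.le, fun x => hhyp.le (h2 x), h3⟩
  · rintro ⟨h1, h2, h3⟩
    exact ⟨h1.trans hhyp.ge, fun x => hhyp.ge (h2 x), h3⟩

end Cfsg.Agent.S5139
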