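import Cfsg.Statements.S5147
import Cfsg.Agent.Lib.Fusion.CentralQuotient
import Cfsg.Agent.S5115

set_option autoImplicit false
open Cfsg
open Cfsg.FusionSystem Cfsg.Agent.Lib.Fusion

namespace Cfsg.Agent.S5147

/-- Let G be a finite group with Sylow 2-subgroup S whose 2-fusion system on S is constrained, and L a component of G (a subnormal quasisimple subgroup). Then the 2-fusion system of L/Z(L) on the image of S ∩ L is constrained. -/
theorem result {G : Type*} [Group G] [Finite G] (S : Sylow 2 G) (hF : (Cfsg.groupFusionSystem (S : Subgroup G)).IsConstrained 2) (L : Subgroup G) (hL : Cfsg.IsComponent L) : (Cfsg.groupFusionSystem (((S : Subgroup G).subgroupOf L).map (QuotientGroup.mk' (Subgroup.center L)))).IsConstrained 2 := by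
  have key : ∀ K : Subgroup G, K.IsSubnormal → IsSylowIn 2 ((S : Subgroup G) ⊓ K) K := by
    intro K hK
    induction hK with
    | top => rw [inf_top_eq]; exact isSylowIn_top S
    | step H K hHK _ hn ih =>
      have h1 := isSylowIn_inf_of_normalized ih hHK fun k hk h hh =>
        hn.conj_mem ⟨h, hHK hh⟩ hh ⟨k, hk⟩
      rwa [inf_assoc, inf_eq_right.2 hHK] at h1
  have hT : ((key L hL.1).toSylow : Subgroup L) = (S : Subgroup G).subgroupOf L := by
    rw [IsSylowIn.coe_toSylow, Subgroup.inf_subgroupOf_right]
  have h := Cfsg.Agent.S5115.result S hF L hL.1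
  rw [← hT] at h ⊢
  exact isConstrained_centralQuotient _ h (Subgroup.center L) le_rfl

end Cfsg.Agent.S5147
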