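import Cfsg.Statements.S5152
import Cfsg.Agent.Lib.Fusion.LocalConstrained

set_option autoImplicit false
open Cfsg
open Cfsg.FusionSystem Cfsg.Agent.Lib.Fusion

namespace Cfsg.Agent.S5152

/-- Dichotomy for saturated fusion systems: a saturated fusion system over a finite p-group is of characteristic p-type (the normalizer system of every nontrivial fully normalized subgroup is constrained) or of component type (the centralizer system of some fully normalized subgroup of order p has a component). -/
theorem result {Ω : Type*} [Group Ω] {S : Subgroup Ω} [Finite S] (p : ℕ) [Fact p.Prime] (hS : IsPGroup p S) (F : Cfsg.FusionSystem S) (hF : F.IsSaturated p) : F.IsOfCharacteristicPType p ∨ F.IsOfComponentType p := by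
  by_cases hct : F.IsOfComponentType p
  · exact Or.inr hct
  refine Or.inl fun U hU1 hU E hE => ?_
  refine LocalConstrained.isConstrained_normalizerSystem hS hF (fun X hX hXn C hC => ?_) hU1 hU hE
  haveI : Finite (centralizerIn S X) := finite_of_le inf_le_left
  haveI : Finite (S ⊓ Subgroup.centralizer (X : Set Ω) : Subgroup Ω) := finite_of_le inf_le_left
  refine (Components.isConstrained_iff_no_component (hS.to_le (inf_le_left : centralizerIn S X ≤ S))
    (isSaturated_centralizerSystem hS hF (isFullyCentralized_of_isFullyNormalized hS hF hXn) hC)).2
    fun ⟨T, D, hD⟩ => hct ⟨X, hX, hXn, C, hC, T, D, hD⟩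
end Cfsg.Agent.S5152
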