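import Cfsg.Statements.S5160
import Mathlib
import Cfsg.Agent.Lib.Fusion.Simple

set_option autoImplicit false
open Cfsg

namespace Cfsg.Agent.S5160

/-- Let G be a finite group with nontrivial Sylow p-subgroup S and F its fusion system on S. Suppose (a) no nontrivial proper subgroup of S is strongly closed in F, and (b) the automorphisms of S induced by G are generated by those induced, for R running over the fully normalized radical centric subgroups of F, by the subgroup of N_G(R) generated by its elements of p-power order. Then F is simple. -/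
theorem result {G : Type*} [Group G] [Finite G] (p : ℕ) [Fact p.Prime] (S : Sylow p G) (hS1 : (S : Subgroup G) ≠ ⊥) (ha : ∀ T : Subgroup G, (Cfsg.groupFusionSystem (S : Subgroup G)).StronglyClosed T → T = ⊥ ∨ T = (S : Subgroup G)) (hb : Cfsg.autInducedBy ⊤ (S : Subgroup G) = ⨆ (R : Subgroup G) (_ : (Cfsg.groupFusionSystem (S : Subgroup G)).IsFullyNormalized R ∧ (Cfsg.groupFusionSystem (S : Subgroup G)).IsRadical p R ∧ (Cfsg.groupFusionSystem (S : Subgroup G)).IsCentric R), Cfsg.autInducedBy (Subgroup.closure {g : G | g ∈ Subgroup.normalizer (R : Set G) ∧ ∃ k : ℕ, orderOf g = p ^ k}) (S : Subgroup G)) : (Cfsg.groupFusionSystem (S : Subgroup G)).IsSimple p := by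
  haveI : Fact p.Prime := ‹_›
  refine Lib.Fusion.isSimple_of_criterion S.2 (Lib.Fusion.isSaturated_groupFusion S) hS1 ha ?_
  rw [Lib.Fusion.autGroup_groupFusion le_rfl]
  refine hb.le.trans (iSup₂_le fun R hR α hα => ?_)
  obtain ⟨hRn, -, hRc⟩ := hR
  obtain ⟨g, hg, hgx⟩ := Lib.Fusion.mem_autInducedBy.1 hα
  set X := {g : G | g ∈ Subgroup.normalizer (R : Set G) ∧ ∃ k : ℕ, orderOf g = p ^ k}
  have hgN : g ∈ Subgroup.normalizer (R : Set G) := (Subgroup.closure_le _).2 (fun _ h => h.1) hg
  refine Subgroup.subset_closure ⟨?_, R, hRc, Lib.Fusion.conjAut R g hgN, ?_, fun x => hgx _⟩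
  · exact Lib.Fusion.mem_autInducedBy.2 ⟨g, trivial, hgx⟩
  · let f := Subgroup.normalizerMonoidHom R
    set D := Subgroup.closure {β : MulAut R | β ∈ (Cfsg.groupFusionSystem (S : Subgroup G)).autGroup R ∧
      ∃ k : ℕ, orderOf β = p ^ k} with hD
    have hle : Subgroup.closure X ≤ (D.comap f).map (Subgroup.normalizer (R : Set G)).subtype := by
      refine (Subgroup.closure_le _).2 ?_
      rintro x ⟨hxN, k, hk⟩
      refine ⟨⟨x, hxN⟩, Subgroup.subset_closure ⟨?_, ?_⟩, rfl⟩
      · rw [Lib.Fusion.autGroup_groupFusion hRn.1]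
        exact Lib.Fusion.mem_autInducedBy.2 ⟨x, trivial, fun _ => rfl⟩
      · refine ((Nat.dvd_prime_pow (m := k) (Fact.out : p.Prime)).1 ?_).imp fun j hj => hj.2
        rw [← hk, ← Subgroup.orderOf_mk x hxN]
        exact orderOf_map_dvd f _
    obtain ⟨y, hy, hyg⟩ := hle hg
    obtain rfl : y = ⟨g, hgN⟩ := Subtype.ext hyg
    exact hy

end Cfsg.Agent.S5160
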