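import Cfsg.Statements.S5163
import Cfsg.Agent.Lib.Fusion.SLData

set_option autoImplicit false
open Cfsg

namespace Cfsg.Agent.S5163

/-- For a finite field K of characteristic p and n ≥ 3, the p-fusion system of the projective special linear group PSL_n(K) on a Sylow p-subgroup is simple. -/
theorem result {K : Type*} [Field K] [Fintype K] (p : ℕ) [Fact p.Prime] [CharP K p] (n : ℕ) (hn : 3 ≤ n) (S : Sylow p (Matrix.ProjectiveSpecialLinearGroup (Fin n) K)) : (Cfsg.groupFusionSystem (S : Subgroup (Matrix.ProjectiveSpecialLinearGroup (Fin n) K))).IsSimple p := by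
  classical
  haveI : Finite (Matrix.SpecialLinearGroup (Fin n) K) :=
    Finite.of_injective _ Matrix.SpecialLinearGroup.toGL_injective
  haveI : Finite (Matrix.ProjectiveSpecialLinearGroup (Fin n) K) :=
    Finite.of_surjective _ Lib.PSLAut.proj_surjective
  have hker : (Lib.PSLAut.proj : Lib.PSLAut.SLn n K →* Lib.PSLAut.PSLn n K).ker =
      Subgroup.center (Lib.PSLAut.SLn n K) := QuotientGroup.ker_mk' _
  refine Lib.Fusion.isSimple_groupFusion_of_cover Lib.PSLAut.proj Lib.PSLAut.proj_surjective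
    hker.le ?_ (Lib.Fusion.SLData.uniSL n K) (Lib.Fusion.SLData.isPGroup_uniSL p) ?_
    (Lib.Fusion.SLData.not_dvd_index_uniSL p) S ?_ ?_
  · rw [hker, Nat.coprime_comm, (Fact.out : p.Prime).coprime_iff_not_dvd]
    intro hdvd
    obtain ⟨x, hx⟩ := exists_prime_orderOf_dvd_card' p hdvd
    obtain ⟨c, -, hc⟩ := Matrix.SpecialLinearGroup.mem_center_iff.1 x.2
    have h1 : ((x : Lib.PSLAut.SLn n K) : Matrix (Fin n) (Fin n) K) ^ p = 1 := by
      have := pow_orderOf_eq_one x
      rw [hx] at this
      rw [← Matrix.SpecialLinearGroup.coe_pow, ← Subgroup.coe_pow, this]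
      rfl
    rw [← hc, ← map_pow] at h1
    have hcp : c ^ p = 1 := by
      have := congrFun (congrFun h1 ⟨0, by omega⟩) ⟨0, by omega⟩
      simpa [Matrix.scalar_apply] using this
    have hc1 : c = 1 := frobenius_inj K p (by simpa [frobenius_def] using hcp)
    have : x = 1 := by
      refine Subtype.ext (Subtype.ext ?_)
      rw [← hc, hc1, map_one]
      rfl
    rw [this, orderOf_one] at hx
    exact (Fact.out : p.Prime).ne_one hx.symm
  · intro h
    have hlt : (⟨0, by omega⟩ : Fin n) < ⟨1, by omega⟩ := Nat.one_pos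
    have hm := Lib.Fusion.SLData.tr_mem_uniSL (F := K) hlt 1
    rw [h, Subgroup.mem_bot] at hm
    have := congrArg (fun s : Lib.PSLAut.SLn n K => s ⟨0, by omega⟩ ⟨1, by omega⟩) hm
    simp [Lib.Fusion.SLData.coe_tr] at this
  · exact fun z hzU hz1 hc T hzT _ hT =>
      Lib.Fusion.SLData.uniSL_le_of_central p hn hzU hz1 hc T hzT hT
  · exact Lib.Fusion.SLData.normalizer_le p hn _ hker.ge

end Cfsg.Agent.S5163
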