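import Cfsg.Statements.S5164
import Cfsg.Agent.Lib.Fusion.AltMain

set_option autoImplicit false
open Cfsg

namespace Cfsg.Agent.S5164

open Cfsg.Agent.Lib.Fusion.AltBlocks Equiv

theorem block_iff {ι ρ : Type} [Fintype ι] [DecidableEq ι] [Fintype ρ] [DecidableEq ρ] (p : ℕ)
    [Fact p.Prime] (hk : p = 2 → 3 ≤ Fintype.card ι) (Q : Sylow p (Perm ι)) :
    IsMulCommutative (altSylow p ρ (Q : Subgroup (Perm ι))) ↔ Fintype.card ι < p := by
  have hp := (Fact.out : p.Prime)
  set P := blockSylow p ρ (Q : Subgroup (Perm ι))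
  constructor
  · intro hc
    by_contra hlt
    have hQ : (Q : Subgroup (Perm ι)) ≠ ⊥ := by
      intro h
      have h1 := Q.card_eq_multiplicity
      rw [h, Subgroup.card_bot, Nat.card_perm, Nat.card_eq_fintype_card] at h1
      have h2 := hp.factorization_pos_of_dvd (Nat.factorial_ne_zero _)
        (hp.dvd_factorial.2 (not_lt.1 hlt))
      exact absurd h1.symm (Nat.one_lt_pow h2.ne' hp.one_lt).ne'
    obtain ⟨q, hq, hq1⟩ := (Subgroup.bot_or_exists_ne_one _).resolve_left hQ
    obtain ⟨i, hi⟩ : ∃ i, q i ≠ i := by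
      by_contra h
      push Not at h
      exact hq1 (Equiv.ext h)
    have comm : ∀ t : ι → ZMod p, Perm.sign (tr t : Perm (Pts ι p ρ)) = 1 →
        Perm.sign (la q : Perm (Pts ι p ρ)) = 1 → (fun k => t (q⁻¹ k)) = t := by
      intro t h1 h2
      have h := congrArg Subtype.val (congrArg Subtype.val (hc.is_comm.comm
        (⟨⟨_, Perm.mem_alternatingGroup.2 h2⟩, la_mem_blockSylow hq⟩ : altSylow p ρ (Q : Subgroup (Perm ι)))
        ⟨⟨_, Perm.mem_alternatingGroup.2 h1⟩, tr_mem_blockSylow _ t⟩))
      have h' : la q * tr t = (tr t * la q : Perm (Pts ι p ρ)) := h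
      refine tr_injective (ρ := ρ) ?_
      rw [← la_conj_tr, h', mul_inv_cancel_right]
    have hqinv : q⁻¹ (q i) = i := by simp
    rcases eq_or_ne p 2 with h2 | h2
    · subst h2
      obtain ⟨j, hj⟩ : ((Finset.univ.erase i).erase (q i)).Nonempty := by
        rw [← Finset.card_pos, Finset.card_erase_of_mem (Finset.mem_erase.2 ⟨hi, Finset.mem_univ _⟩),
          Finset.card_erase_of_mem (Finset.mem_univ _), Finset.card_univ]
        have := hk rfl
        omega
      simp only [Finset.mem_erase, Finset.mem_univ, and_true] at hj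
      have h := congrFun (comm (Pi.single i 1 + Pi.single j 1) (sign_tr_single_pair rfl hj.2.symm)
        (by rw [sign_la, Int.units_pow_two])) (q i)
      simp only [hqinv, Pi.add_apply, Pi.single_eq_same, Pi.single_eq_of_ne hj.2.symm,
        Pi.single_eq_of_ne hi, Pi.single_eq_of_ne hj.1.symm, add_zero] at h
      exact one_ne_zero h
    · obtain ⟨m, hm⟩ := Q.2 ⟨q, hq⟩
      have hm' : q ^ p ^ m = 1 := congrArg Subtype.val hm
      have h := congrFun (comm (Pi.single i 1) (sign_tr_of_odd h2 _)
        (sign_eq_one_of_pow h2 (k := m) (by rw [la_pow, hm', la_one]))) (q i)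
      simp only [hqinv, Pi.single_eq_same, Pi.single_eq_of_ne hi] at h
      exact one_ne_zero h
  · intro hlt
    have hQ : ∀ q ∈ (Q : Subgroup (Perm ι)), q = 1 := by
      have h1 := Q.card_eq_multiplicity
      rw [Nat.card_perm, Nat.card_eq_fintype_card (α := ι),
        Nat.factorization_eq_zero_of_not_dvd (hp.dvd_factorial.not.2 (not_le.2 hlt)), pow_zero] at h1
      intro q hq
      rw [Subgroup.card_eq_one.1 h1] at hq
      exact hq
    refine ⟨⟨?_⟩⟩
    rintro ⟨⟨x, hxA⟩, t, q, hq, hx⟩ ⟨⟨y, hyA⟩, s, q', hq', hy⟩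
    refine Subtype.ext (Subtype.ext ?_)
    show x * y = y * x
    rw [show x = tr t * la q from hx, show y = tr s * la q' from hy]
    show (tr t * la q : Perm (Pts ι p ρ)) * (tr s * la q') = tr s * la q' * (tr t * la q)
    rw [hQ q hq, hQ q' hq', la_one, mul_one, mul_one, tr_mul, tr_mul, add_comm]

/-- For n ≥ 6 and a prime p, a nontrivial Sylow p-subgroup of the alternating group of degree n is abelian if and only if n < p². -/
theorem result (n p : ℕ) (hn : 6 ≤ n) [Fact p.Prime] (S : Sylow p (alternatingGroup (Fin n))) (hS : (S : Subgroup (alternatingGroup (Fin n))) ≠ ⊥) : IsMulCommutative S ↔ n < p ^ 2 := by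
  classical
  have hp := (Fact.out : p.Prime)
  have hρ : Fintype.card (Fin (n % p)) < p := by simpa using Nat.mod_lt n hp.pos
  obtain ⟨Q⟩ := (inferInstance : Nonempty (Sylow p (Perm (Fin (n / p)))))
  have e : Pts (Fin (n / p)) p (Fin (n % p)) ≃ Fin n := Fintype.equivFinOfCardEq (by
    simp only [Fintype.card_sum, Fintype.card_prod, ZMod.card, Fintype.card_fin]
    rw [mul_comm]; exact Nat.div_add_mod n p)
  let f : alternatingGroup (Pts (Fin (n / p)) p (Fin (n % p))) ≃* alternatingGroup (Fin n) :=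
    Equiv.altCongrHom e
  set U := altSylow p (Fin (n % p)) (Q : Subgroup (Perm (Fin (n / p))))
  have hU : IsPGroup p U :=
    (isPGroup_blockSylow Q.2).comap_of_injective (alternatingGroup _).subtype Subtype.val_injective
  have hUi : ¬ p ∣ U.index := fun h =>
    not_dvd_index_blockSylow hρ Q (h.trans (relIndex_dvd_index_of_normal_right _ _))
  let P : Sylow p (alternatingGroup (Fin n)) := (hU.map f.toMonoidHom).toSylow fun h =>
    hUi (h.trans (Subgroup.index_map_dvd _ f.surjective))
  let φ : U ≃* (S : Subgroup (alternatingGroup (Fin n))) :=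
    (U.equivMapOfInjective f.toMonoidHom f.injective).trans (Sylow.equiv P S)
  have hk : p = 2 → 3 ≤ Fintype.card (Fin (n / p)) := by
    rintro rfl
    rw [Fintype.card_fin]
    omega
  refine Iff.trans ?_ ((block_iff (ρ := Fin (n % p)) p hk Q).trans ?_)
  · exact ⟨fun h => ⟨⟨fun a b => φ.injective (by rw [map_mul, map_mul]; exact h.is_comm.comm _ _)⟩⟩,
      fun h => ⟨⟨fun a b => φ.symm.injective (by rw [map_mul, map_mul]; exact h.is_comm.comm _ _)⟩⟩⟩
  · rw [Fintype.card_fin, Nat.div_lt_iff_lt_mul hp.pos, sq]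

end Cfsg.Agent.S5164
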