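import Cfsg.Statements.S5171
import Cfsg.Agent.Lib.Fusion.SpNormalizer

set_option autoImplicit false
open Cfsg

namespace Cfsg.Agent.S5171

/-- For a finite field K of characteristic p and m ≥ 2, excluding the case m = 2 with K of two elements, the p-fusion system of the projective symplectic group PSp_{2m}(K) on a Sylow p-subgroup is simple. -/
theorem result {K : Type*} [Field K] [Fintype K] (p : ℕ) [Fact p.Prime] [CharP K p] (m : ℕ) (hm : 2 ≤ m) (hex : m = 2 → 3 ≤ Fintype.card K) (S : Sylow p (Cfsg.PSp m K)) : (Cfsg.groupFusionSystem (S : Subgroup (Cfsg.PSp m K))).IsSimple p := by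
  classical
  have hker : (QuotientGroup.mk' (Subgroup.center (Matrix.symplecticGroup (Fin m) K))).ker =
      Subgroup.center (Matrix.symplecticGroup (Fin m) K) := QuotientGroup.ker_mk' _
  haveI : Finite (Cfsg.PSp m K) := Finite.of_surjective _ (QuotientGroup.mk'_surjective _)
  refine Lib.Fusion.isSimple_groupFusion_of_cover
    (QuotientGroup.mk' (Subgroup.center (Matrix.symplecticGroup (Fin m) K)))
    (QuotientGroup.mk'_surjective _) hker.le ?_ (Lib.Fusion.SpData.uniSp m K)
    (Lib.Fusion.SpData.isPGroup_uniSp p) ?_ (Lib.Fusion.SpData.not_dvd_index_uniSp p) S ?_ ?_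
  · rw [hker, Lib.Classical.natCard_center_symplecticGroup m (by omega), Nat.coprime_comm,
      (Fact.out : p.Prime).coprime_iff_not_dvd]
    intro hdvd
    have h2 : p = 2 := (Nat.prime_dvd_prime_iff_eq Fact.out Nat.prime_two).1
      (hdvd.trans (Nat.gcd_dvd_left 2 _))
    obtain ⟨f, -, hf⟩ := FiniteField.card K p
    have h3 : p ∣ Fintype.card K := by rw [hf]; exact dvd_pow_self p f.ne_zero
    have h1 := Nat.dvd_sub h3 (hdvd.trans (Nat.gcd_dvd_right 2 _))
    rw [Nat.sub_sub_self Fintype.card_pos] at h1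
    exact (Fact.out : p.Prime).ne_one (Nat.dvd_one.1 h1)
  · intro h
    have hmem := Lib.Fusion.SpData.sie_mem (Lib.Fusion.SpData.longMat (⟨0, by omega⟩ : Fin m) (1 : K))
      (Lib.Fusion.SpData.longMat_symm _ _)
    rw [h, Subgroup.mem_bot] at hmem
    have h' := congrArg (fun A : Lib.Fusion.SpData.SpG m K =>
      (A : Matrix (Fin m ⊕ Fin m) (Fin m ⊕ Fin m) K) (Sum.inl ⟨0, by omega⟩) (Sum.inr ⟨0, by omega⟩)) hmem
    simp [Lib.Fusion.SpData.coe_sie, Lib.Fusion.SpData.longMat] at h'
  · exact fun z hzU hz1 hc T hzT _ hT =>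
      Lib.Fusion.SpData.uniSp_le_of_central hm hex hzU hz1 hc T hzT hT
  · exact Lib.Fusion.SpData.normalizer_le p hm _ hker.ge

end Cfsg.Agent.S5171
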