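import Cfsg.Statements.S5178
import Cfsg.Agent.Lib.Fusion.ExtraspecialNormal

set_option autoImplicit false
universe u
open Cfsg

namespace Cfsg.Agent.S5178

/-- Let p be an odd prime, S a finite p-group containing an extraspecial subgroup Q of index p, and F a saturated fusion system over S whose largest subgroup normal in F is trivial. Then the centre of S equals the centre of Q. -/
theorem result {Ω : Type u} [Group Ω] {S : Subgroup Ω} [Finite S] (p : ℕ) [Fact p.Prime] (hp : Odd p) (hS : IsPGroup p S)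
    (Q : Subgroup Ω) (hQS : Q ≤ S) (hQ : Cfsg.IsExtraspecial p ↥Q) (hQi : (Q.subgroupOf S).index = p)
    (F : Cfsg.FusionSystem S) (hF : F.IsSaturated p) (hO : F.core = ⊥) :
    S ⊓ Subgroup.centralizer (S : Set Ω) = Q ⊓ Subgroup.centralizer (Q : Set Ω) := by
  open Lib.Fusion.CentralCommutator in
  have hsub : S ⊓ Subgroup.centralizer (S : Set Ω) ≤ Q := by
    intro x hx
    by_contra hxQ
    obtain ⟨W, hW, hW1⟩ := (Setting.exists_normal ⟨hS, hQS, hQ, hQi, x, hx, hxQ⟩ hF hp :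
      ∃ W, F.IsNormal W ∧ W ≠ ⊥)
    exact hW1 (le_bot_iff.1 (hO ▸ Lib.Fusion.le_core hW))
  refine le_antisymm (fun x hx => ⟨hsub hx, fun y hy => hx.2 y (hQS hy)⟩) ?_
  -- `Z(Q)` has order `p` and is normal in `S`
  by_cases hout : ∃ x ∈ S ⊓ Subgroup.centralizer (S : Set Ω), x ∉ Q
  · exact Lib.Fusion.CentralCommutator.Setting.centre_le ⟨hS, hQS, hQ, hQi, hout⟩
  have := Lib.Fusion.finite_of_le hQS
  have hQn : (Q.subgroupOf S).Normal :=
    Subgroup.normal_of_index_eq_minFac_card ?_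
  swap
  · obtain ⟨k, hk⟩ := hS.exists_card_eq
    have hk0 : k ≠ 0 := fun h0 => by
      rw [h0, pow_zero, Lib.Fusion.CentralCommutator.card_eq_mul_of_index hQS hQi] at hk
      exact (Fact.out : p.Prime).ne_one (Nat.eq_one_of_mul_eq_one_left hk)
    rw [hQi, hk, (Fact.out : p.Prime).pow_minFac hk0]
  have hZ := Lib.Fusion.CentralCommutator.card_inf_centralizer hQ
  set Z := Q ⊓ Subgroup.centralizer (Q : Set Ω) with hZdef
  have hn : (Z.subgroupOf S).Normal := by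
    refine ⟨fun z hz g => ⟨hQn.conj_mem z hz.1 g, fun y hy => ?_⟩⟩
    have hy' : (g : Ω)⁻¹ * y * g ∈ Q := by
      have := hQn.conj_mem ⟨y, hQS hy⟩ hy g⁻¹
      rwa [inv_inv] at this
    have h1 : (g : Ω)⁻¹ * y * g * z = (z : Ω) * ((g : Ω)⁻¹ * y * g) := hz.2 _ hy'
    show y * ((g : Ω) * z * (g : Ω)⁻¹) = (g : Ω) * z * (g : Ω)⁻¹ * y
    calc y * ((g : Ω) * z * (g : Ω)⁻¹) = g * ((g : Ω)⁻¹ * y * g * z) * (g : Ω)⁻¹ := by group
      _ = g * ((z : Ω) * ((g : Ω)⁻¹ * y * g)) * (g : Ω)⁻¹ := by rw [h1]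
      _ = _ := by group
  have hne : Z.subgroupOf S ≠ ⊥ := fun hb => by
    have h1 : Nat.card Z = 1 := by
      rw [← Nat.card_congr (Subgroup.subgroupOfEquivOfLe (inf_le_left.trans hQS : Z ≤ S)).toEquiv, hb,
        Subgroup.card_bot]
    exact (Fact.out : p.Prime).ne_one (hZ.symm.trans h1)
  have : Group.IsNilpotent S := hS.isNilpotent
  obtain ⟨c, hc, hc1⟩ := (Subgroup.bot_or_exists_ne_one
    (Z.subgroupOf S ⊓ Subgroup.center S)).resolve_left (Lib.Nilp.inf_center_ne_bot_of_normal hne)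
  intro z hz
  obtain ⟨k, hk⟩ := Lib.Fusion.CentralCommutator.exists_zpow_eq hZ hc.1
    (fun h => hc1 (Subtype.ext h)) hz
  rw [← hk]
  exact Subgroup.zpow_mem _ (show (c : Ω) ∈ S ⊓ Subgroup.centralizer (S : Set Ω) from ⟨c.2,
    fun y hy => congrArg Subtype.val (Subgroup.mem_center_iff.1 hc.2 ⟨y, hy⟩)⟩) k

end Cfsg.Agent.S5178
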