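import Cfsg.Statements.S5179
import Cfsg.Agent.Lib.Fusion.ExtraspecialIndex

set_option autoImplicit false
universe u
open Cfsg

namespace Cfsg.Agent.S5179

/-- Let p be an odd prime, S a finite p-group of order at least p⁶ containing an extraspecial subgroup Q of index p, and F a saturated fusion system over S whose largest subgroup normal in F is trivial. Then no proper subgroup of Q is essential in F: an essential subgroup of F contained in Q equals Q. -/
theorem result {Ω : Type u} [Group Ω] {S : Subgroup Ω} [Finite S] (p : ℕ) [Fact p.Prime] (hp : Odd p) (hS : IsPGroup p S)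
    (Q : Subgroup Ω) (hQS : Q ≤ S) (hQ : Cfsg.IsExtraspecial p ↥Q) (hQi : (Q.subgroupOf S).index = p)
    (h6 : p ^ 6 ≤ Nat.card S)
    (F : Cfsg.FusionSystem S) (hF : F.IsSaturated p) (hO : F.core = ⊥)
    (E : Subgroup Ω) (hEQ : E ≤ Q) (hE : F.IsEssential p E) : E = Q := by
  open Lib.Fusion.CentralCommutator in
  have hpair : CentralPair p Q E (Q ⊓ Subgroup.centralizer (Q : Set Ω)) :=
    ⟨hEQ, card_inf_centralizer hQ,
      fun z hz => Lib.Fusion.centralizerIn_le_of_isCentric hE.1
        ⟨hQS hz.1, fun x hx => hz.2 x (hEQ hx)⟩,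
      fun g hg z hz => hz.2 g hg, fun g hg x hx => comm_mem hQ hg (hEQ hx)⟩
  by_cases hab : ∀ a ∈ E, ∀ b ∈ E, a * b = b * a
  · exfalso
    have h1 := Lib.Fusion.CentralCommutator.card_le_of_commute hS hE hpair hQS
    have := Lib.Fusion.finite_of_le hQS
    have h2 := Lib.Fusion.CentralCommutator.card_le_cube hQ hEQ hab h1
    rw [Lib.Fusion.CentralCommutator.card_eq_mul_of_index hQS hQi] at h6
    have h3 : p ^ 6 ≤ p ^ 4 := h6.trans (by rw [pow_succ p 3]; exact Nat.mul_le_mul_right p h2)
    exact absurd ((Nat.pow_le_pow_iff_right (Fact.out : p.Prime).one_lt).1 h3) (by norm_num)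
  · push Not at hab
    obtain ⟨a, ha, b, hb, hne⟩ := hab
    exact Lib.Fusion.CentralCommutator.eq_of_not_commute hS hE hpair hQS ha hb hne

end Cfsg.Agent.S5179
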