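import Cfsg.Statements.S5188
import Cfsg.Agent.Lib.EssentialFour.Group
import Cfsg.Agent.Lib.RankTwoAut.Abelian
import Cfsg.Agent.Lib.RankTwoAut.Small

set_option autoImplicit false
universe u
open Cfsg

namespace Cfsg.Agent.S5188

open Subgroup Cfsg.FusionSystem Cfsg.Agent.Lib
open scoped commutatorElement

variable {p : ℕ} [hp : Fact p.Prime] {Ω : Type u} [Group Ω] {S : Subgroup Ω} [Finite S]
  {F : Cfsg.FusionSystem S} (hS : IsPGroup p S) {H : Subgroup Ω} (hH : F.IsEssential p H)

include hS hH

/-- An essential subgroup has no invariant series with steps of order at most `p`. -/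
theorem false_of_flag (K₁ K₂ K₃ : Subgroup H) (h₁ : K₁.Normal) (h₂ : K₂.Normal) (h₃ : K₃.Normal)
    (l₁₂ : K₁ ≤ K₂) (l₂₃ : K₂ ≤ K₃) (c₁ : Nat.card K₁ ≤ p) (c₂ : Nat.card K₂ ≤ Nat.card K₁ * p)
    (c₃ : Nat.card K₃ ≤ Nat.card K₂ * p) (c₄ : Nat.card H ≤ Nat.card K₃ * p)
    (i₁ : ∀ a ∈ F.autGroup H, ∀ y ∈ K₁, a y ∈ K₁) (i₂ : ∀ a ∈ F.autGroup H, ∀ y ∈ K₂, a y ∈ K₂)
    (i₃ : ∀ a ∈ F.autGroup H, ∀ y ∈ K₃, a y ∈ K₃) : False := by
  have : Finite H := Fusion.finite_of_le hH.1.1
  have hHp : IsPGroup p H := hS.to_le hH.1.1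
  have hstep : ∀ A B : Subgroup H, A ≤ B → A.Normal → Nat.card B ≤ Nat.card A * p →
      ∃ y₀ ∈ B, ∀ y ∈ B, ∃ k : ℤ, (y₀ ^ k)⁻¹ * y ∈ A := by
    intro A B hle hAn hB
    by_cases heq : A = B
    · exact ⟨1, one_mem _, fun y hy => ⟨0, by simpa [heq] using hy⟩⟩
    obtain ⟨y₀, hy₀, hy₀'⟩ := SetLike.exists_of_lt (lt_of_le_of_ne hle heq)
    refine ⟨y₀, hy₀, fun y hy => ?_⟩
    have heq' : zpowers y₀ ⊔ A = B := by
      refine eq_of_le_of_card_ge (sup_le (zpowers_le.2 hy₀) hle) (hB.trans ?_)
      rw [mul_comm]
      exact EssentialFour.card_le_prime_mul_of_lt hHp (lt_of_le_of_ne le_sup_right fun e =>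
        hy₀' (e ▸ mem_sup_left (mem_zpowers y₀)))
    rw [← heq'] at hy
    obtain ⟨a, ha, b, hb, rfl⟩ := mem_sup_of_normal_right.1 hy
    obtain ⟨k, rfl⟩ := mem_zpowers_iff.1 ha
    exact ⟨k, by simpa using hb⟩
  refine Fusion87.false_of_chain hS hH
    ⟨4, fun i => if i = 0 then ⊥ else if i = 1 then K₁ else if i = 2 then K₂ else
        if i = 3 then K₃ else ⊤,
      rfl, rfl, fun i => ?_, fun i => ?_, fun i => ?_⟩ (fun a ha i y hy => ?_)
  · rcases i with _ | _ | _ | _ | i <;> simp [l₁₂, l₂₃]
  · rcases i with _ | _ | _ | _ | i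
    · exact Subgroup.normal_bot
    · exact h₁
    · exact h₂
    · exact h₃
    · exact Subgroup.normal_top
  · rcases i with _ | _ | _ | _ | i
    · exact hstep ⊥ K₁ bot_le inferInstance (by rw [card_bot, one_mul]; exact c₁)
    · exact hstep K₁ K₂ l₁₂ h₁ c₂
    · exact hstep K₂ K₃ l₂₃ h₂ c₃
    · exact hstep K₃ ⊤ le_top h₃ (by rw [card_top]; exact c₄)
    · exact ⟨1, one_mem _, fun y _ => ⟨0, mem_top _⟩⟩
  · rcases i with _ | _ | _ | _ | i
    · rw [mem_bot.1 hy, map_one]; exact one_mem _
    · exact i₁ a ha y hy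
    · exact i₂ a ha y hy
    · exact i₃ a ha y hy
    · exact mem_top _

/-- The non-abelian case with Frattini subgroup of order `p` and non-cyclic centre. -/
theorem frattini_prime_case (hcard : Nat.card H = p ^ 4) (hΦ : Nat.card (frattini H) = p)
    (hna : ¬ IsMulCommutative H) (hZ : ¬ IsCyclic (Subgroup.center H)) :
    (Odd p ∧ ∃ (E : Type) (_ : Group E) (_ : Finite E), Cfsg.IsExtraspecial p E ∧ Nat.card E = p ^ 3 ∧
        (∀ x : E, x ^ p = 1) ∧ Nonempty (↥H ≃* E × Multiplicative (ZMod p))) ∨
      (p = 2 ∧ Nonempty (↥H ≃* QuaternionGroup 2 × Multiplicative (ZMod 2))) := by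
  have : Finite H := Fusion.finite_of_le hH.1.1
  have hG : IsPGroup p H := hS.to_le hH.1.1
  set Φ := frattini H with hΦd
  set Z := Subgroup.center H with hZd
  have hΦZ : Φ ≤ Z := NormalElem.le_center_of_card_prime hG hΦ.le
  have hΦp : ∀ w ∈ Φ, w ^ p = 1 := fun w hw => by
    have h1 : (⟨w, hw⟩ : Φ) ^ p = 1 := by rw [← hΦ]; exact pow_card_eq_one'
    simpa using congrArg Subtype.val h1
  have hsq : ∀ x : H, x ^ p ∈ Φ := PFrattini.pow_mem_frattini hG
  obtain ⟨x, y, hxy⟩ : ∃ x y : H, x * y ≠ y * x := by
    by_contra hcon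
    push Not at hcon
    exact hna ⟨⟨hcon⟩⟩
  obtain ⟨-, hZc, htop⟩ := EssentialFour.center_eq hG hcard hΦ hxy
  have hZp : ∀ w ∈ Z, w ^ p = 1 := by
    intro w hw
    have h1 : orderOf (⟨w, hw⟩ : Z) ∣ p ^ 2 := hZc ▸ orderOf_dvd_natCard _
    obtain ⟨i, hi, hie⟩ := (Nat.dvd_prime_pow hp.out).1 h1
    have hi1 : i ≤ 1 := by
      by_contra hlt
      exact hZ (isCyclic_of_orderOf_eq_card _ (hie.trans (by rw [show i = 2 by omega, hZc])))
    have h2 := orderOf_dvd_iff_pow_eq_one.1
      (hie ▸ (Nat.pow_dvd_pow p hi1).trans (pow_one p).dvd : orderOf (⟨w, hw⟩ : Z) ∣ p)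
    simpa using congrArg Subtype.val h2
  obtain ⟨z, hz, hzΦ⟩ := SetLike.exists_of_lt (lt_of_le_of_ne hΦZ fun e => by
    have h1 := congrArg (fun K : Subgroup H => Nat.card K) e
    simp only [hΦ, hZc] at h1
    nlinarith [hp.out.two_le])
  have hzo : orderOf z = p := orderOf_eq_prime (hZp z hz) fun e => hzΦ (e ▸ one_mem _)
  have hZz : Φ ⊔ zpowers z = Z := by
    refine eq_of_le_of_card_ge (sup_le hΦZ (zpowers_le.2 hz)) ?_
    have h1 := EssentialFour.card_le_prime_mul_of_lt hG (lt_of_le_of_ne
      (le_sup_left : Φ ≤ Φ ⊔ zpowers z) fun e => hzΦ (e ▸ mem_sup_right (mem_zpowers z)))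
    rw [hΦ, ← pow_two] at h1
    rw [hZc]
    exact h1
  have hΦinv : ∀ a ∈ F.autGroup H, ∀ w ∈ Φ, a w ∈ Φ := fun a _ w hw =>
    characteristic_iff_le_comap.1 frattini_characteristic a hw
  have hZinv : ∀ a ∈ F.autGroup H, ∀ w ∈ Z, a w ∈ Z := fun a _ w hw =>
    characteristic_iff_le_comap.1 (inferInstance : (Subgroup.center H).Characteristic) a hw
  rcases hp.out.eq_two_or_odd' with rfl | hodd
  · -- `p = 2`
    refine Or.inr ⟨rfl, ?_⟩
    have hΦu : ∀ u ∈ Φ, ∀ v ∈ Φ, u ≠ 1 → v ≠ 1 → u = v := by
      intro u hu v hv hu1 hv1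
      obtain ⟨s, t, hst, huniv⟩ := Nat.card_eq_two_iff.1 hΦ
      have h : ∀ w : Φ, w = s ∨ w = t := fun w => by
        simpa using (huniv.symm ▸ Set.mem_univ w : w ∈ ({s, t} : Set Φ))
      rcases h ⟨u, hu⟩ with a | a <;> rcases h ⟨v, hv⟩ with b | b <;> rcases h 1 with c | c <;>
        first
          | exact congrArg Subtype.val (a.trans b.symm)
          | exact absurd (congrArg Subtype.val (a.trans c.symm)) hu1
          | exact absurd (congrArg Subtype.val (b.trans c.symm)) hv1
    have hcm : ∀ g h : H, ⁅g, h⁆ ∈ Φ := fun g h =>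
      PFrattini.commutator_le_frattini hG (commutator_mem_commutator (mem_top g) (mem_top h))
    have hmul : ∀ g h : H, (g * h) * (g * h) = g * g * (h * h) * ⁅h⁻¹, g⁻¹⁆ := by
      intro g h
      have hc := mem_center_iff.1 (hΦZ (hcm h⁻¹ g⁻¹))
      calc g * h * (g * h) = g * g * h * ⁅h⁻¹, g⁻¹⁆ * h := by
            simp only [commutatorElement_def]; group
        _ = _ := by rw [mul_assoc (g * g * h), ← hc h]; group
    have hcomm' : ∀ g h : H, g * h ≠ h * g → ⁅h⁻¹, g⁻¹⁆ ≠ 1 := fun g h hgh e => by
      rw [commutatorElement_eq_one_iff_mul_comm] at e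
      apply hgh
      have e' := congrArg (fun w => w⁻¹) e
      simpa [mul_inv_rev] using e'
    by_cases hall : ∀ w : H, w * w = 1 → w ∈ Z
    · -- every element outside the centre has order four
      have hx1 : x * x ≠ 1 := fun e => hxy (by
        have := mem_center_iff.1 (hall x e) y
        exact this.symm)
      have hy1 : y * y ≠ 1 := fun e => hxy (mem_center_iff.1 (hall y e) x)
      have hxx : x * x ∈ Φ := by rw [← pow_two]; exact hsq x
      have hyy : y * y ∈ Φ := by rw [← pow_two]; exact hsq y
      have heq : y * y = x * x := hΦu _ hyy _ hxx hy1 hx1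
      have hx4 : x ^ 4 = 1 := by
        have := hΦp _ hxx
        rwa [← pow_two, ← pow_mul] at this
      have hconj : y * x * y⁻¹ = x⁻¹ := by
        have hcne : ⁅y, x⁆ ≠ 1 := fun e => hxy (commutatorElement_eq_one_iff_mul_comm.1 e).symm
        have hceq : ⁅y, x⁆ = x * x := hΦu _ (hcm y x) _ hxx hcne hx1
        calc y * x * y⁻¹ = ⁅y, x⁆ * x := by simp only [commutatorElement_def]; group
          _ = x⁻¹ := by
            rw [hceq]
            apply eq_inv_of_mul_eq_one_left
            rw [← hx4]
            simp [pow_succ, mul_assoc]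
      let f := EssentialFour.quaternionHom hx4 (show y * y = x ^ 2 by rw [pow_two]; exact heq) hconj
      obtain ⟨hxr, hyr⟩ := EssentialFour.quaternionHom_a hx4
        (show y * y = x ^ 2 by rw [pow_two]; exact heq) hconj
      refine EssentialFour.exists_prod_zpowers hcard (A := QuaternionGroup 2) ?_ (f := f) hz hzo ?_
      · rw [Nat.card_eq_fintype_card, QuaternionGroup.card]; rfl
      · refine top_le_iff.1 (htop.symm.le.trans ?_)
        refine sup_le (sup_le (le_sup_of_le_left (zpowers_le.2 hxr))
          (le_sup_of_le_left (zpowers_le.2 hyr))) ?_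
        rw [← hZd, ← hZz]
        refine sup_le ?_ le_sup_right
        intro w hw
        refine mem_sup_left ?_
        by_cases hw1 : w = 1
        · rw [hw1]; exact one_mem _
        · rw [hΦu w hw _ hxx hw1 hx1]
          exact mul_mem hxr hxr
    · -- an invariant flag
      exfalso
      push Not at hall
      obtain ⟨f, hf, hfZ⟩ := hall
      obtain ⟨r, hr⟩ : ∃ r : H, r * r ≠ 1 := by
        by_contra hcon
        push Not at hcon
        refine hxy ?_
        have e1 := hcon (x * y)
        rw [← inv_eq_iff_mul_eq_one, mul_inv_rev, inv_eq_of_mul_eq_one_right (hcon x),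
          inv_eq_of_mul_eq_one_right (hcon y)] at e1
        exact e1.symm
      have hrr : r * r ∈ Φ := by rw [← pow_two]; exact hsq r
      have hrZ : r ∉ Z := fun h => hr (by rw [← pow_two]; exact hZp r h)
      set W := Z ⊔ zpowers r with hW
      have hWn : W.Normal := Subgroup.Normal.of_commutator_le _
        (((PFrattini.commutator_le_frattini hG).trans hΦZ).trans le_sup_left)
      have hWc : Nat.card W = 2 ^ 3 := by
        have h1 := EssentialFour.card_le_prime_mul_of_lt hG (lt_of_le_of_ne
          (le_sup_left : Z ≤ W) fun e => hrZ (e ▸ mem_sup_right (mem_zpowers r)))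
        have h2 := EssentialFour.card_sup_zpowers_le (p := 2) (A := Z) (g := r) (hΦZ (hsq r))
        rw [hZc] at h1 h2
        exact le_antisymm (h2.trans_eq (by norm_num)) ((by norm_num : 2 ^ 3 ≤ 2 * 2 ^ 2).trans h1)
      have hsquares : ∀ v : H, v * v ≠ 1 → v ∈ W := by
        intro v hv
        by_cases hc : r * v = v * r
        · -- an element commuting with `r`
          by_contra hvW
          have hle : W ⊔ zpowers v ≤ centralizer ({r} : Set H) := by
            refine sup_le (sup_le (fun w hw => mem_centralizer_singleton_iff.2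
              (mem_center_iff.1 hw r).symm) (zpowers_le.2 (mem_centralizer_singleton_iff.2 rfl))) ?_
            exact zpowers_le.2 (mem_centralizer_singleton_iff.2 hc.symm)
          have h3 := (EssentialFour.card_le_prime_mul_of_lt hG (lt_of_le_of_ne
            (le_sup_left : W ≤ W ⊔ zpowers v) fun e => hvW (e ▸ mem_sup_right (mem_zpowers v))))
          rw [hWc] at h3
          have ht : centralizer ({r} : Set H) = ⊤ := eq_top_of_le_card _
            (by rw [hcard]; exact (by norm_num : 2 ^ 4 ≤ 2 * 2 ^ 3).trans (h3.trans (card_le_of_le hle)))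
          exact hrZ (mem_center_iff.2 fun g => mem_centralizer_singleton_iff.1 (ht ▸ mem_top g))
        · -- otherwise all elements outside the centre have order four
          exfalso
          have hvv : v * v ∈ Φ := by rw [← pow_two]; exact hsq v
          obtain ⟨hK, -, -⟩ := EssentialFour.center_eq hG hcard hΦ hc
          have hmem : ∀ w : H, w * r = r * w → w * v = v * w → w ∈ Z := fun w h1 h2 => by
            rw [hZd, hK]
            exact mem_inf.2 ⟨mem_centralizer_singleton_iff.2 h1, mem_centralizer_singleton_iff.2 h2⟩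
          have hZsq : ∀ w ∈ Z, ∀ u : H, (w * u) * (w * u) = u * u := fun w hw u => by
            rw [show w * u * (w * u) = w * (u * w) * u by group, mem_center_iff.1 hw u,
              show w * (w * u) * u = w * w * (u * u) by group, ← pow_two, hZp w hw, one_mul]
          have hinv2 : ∀ w ∈ Φ, w * w = 1 := fun w hw => by rw [← pow_two]; exact hΦp w hw
          have hrv2 : (r * v) * (r * v) ≠ 1 := by
            rw [hmul, hΦu _ hvv _ hrr hv hr, hinv2 _ hrr, one_mul]
            exact hcomm' r v hc
          by_cases h1 : f * r = r * f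
          · by_cases h2 : f * v = v * f
            · exact hfZ (hmem f h1 h2)
            · -- `f r` is central
              have hfr : f * r⁻¹ ∈ Z := by
                refine hmem _ ?_ ?_
                · rw [mul_assoc, inv_mul_cancel, ← mul_assoc, ← h1, mul_assoc, mul_inv_cancel]
                · have e1 : ⁅f, v⁆ = ⁅r, v⁆ := hΦu _ (hcm f v) _ (hcm r v)
                    (fun e => h2 (commutatorElement_eq_one_iff_mul_comm.1 e))
                    (fun e => hc (commutatorElement_eq_one_iff_mul_comm.1 e))
                  have e2 : f * v * f⁻¹ = r * v * r⁻¹ := by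
                    simp only [commutatorElement_def, mul_left_inj] at e1
                    exact e1
                  have e3 : (f * r⁻¹) * v * (f * r⁻¹)⁻¹ = v := by
                    have hcomm : Commute f r := h1
                    rw [show f * r⁻¹ = r⁻¹ * f from hcomm.inv_right.eq]
                    calc r⁻¹ * f * v * (r⁻¹ * f)⁻¹ = r⁻¹ * (f * v * f⁻¹) * r := by group
                      _ = v := by rw [e2]; group
                  exact mul_inv_eq_iff_eq_mul.1 e3
              have := hZsq _ hfr r
              rw [inv_mul_cancel_right, hf] at this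
              exact hr this.symm
          · by_cases h2 : f * v = v * f
            · have hfv : f * v⁻¹ ∈ Z := by
                refine hmem _ ?_ ?_
                · have e1 : ⁅f, r⁆ = ⁅v, r⁆ := hΦu _ (hcm f r) _ (hcm v r)
                    (fun e => h1 (commutatorElement_eq_one_iff_mul_comm.1 e))
                    (fun e => hc (commutatorElement_eq_one_iff_mul_comm.1 e).symm)
                  have e2 : f * r * f⁻¹ = v * r * v⁻¹ := by
                    simp only [commutatorElement_def, mul_left_inj] at e1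
                    exact e1
                  have e3 : (f * v⁻¹) * r * (f * v⁻¹)⁻¹ = r := by
                    have hcomm : Commute f v := h2
                    rw [show f * v⁻¹ = v⁻¹ * f from hcomm.inv_right.eq]
                    calc v⁻¹ * f * r * (v⁻¹ * f)⁻¹ = v⁻¹ * (f * r * f⁻¹) * v := by group
                      _ = r := by rw [e2]; group
                  exact mul_inv_eq_iff_eq_mul.1 e3
                · rw [mul_assoc, inv_mul_cancel, ← mul_assoc, ← h2, mul_assoc, mul_inv_cancel]
              have := hZsq _ hfv v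
              rw [inv_mul_cancel_right, hf] at this
              exact hv this.symm
            · have hfrv : f * (r * v)⁻¹ ∈ Z := by
                have key : ∀ u : H, ⁅f, u⁆ ≠ 1 → ⁅r * v, u⁆ ≠ 1 → f * (r * v)⁻¹ * u = u * (f * (r * v)⁻¹) := by
                  intro u hu1 hu2
                  have e1 : f * u * f⁻¹ = (r * v) * u * (r * v)⁻¹ := by
                    have e := hΦu _ (hcm f u) _ (hcm (r * v) u) hu1 hu2
                    simp only [commutatorElement_def, mul_left_inj] at e
                    exact e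
                  have e2 : f⁻¹ = f := inv_eq_of_mul_eq_one_right hf
                  have e4 : (r * v)⁻¹ * u * (r * v) = f⁻¹ * u * f := by
                    have hc2 : ∀ w : H, ∀ q : H, q * q ∈ Φ → q⁻¹ * w * q = q * w * q⁻¹ := by
                      intro w q hq
                      have h5 := mem_center_iff.1 (hΦZ hq) w
                      calc q⁻¹ * w * q = q⁻¹ * (w * (q * q)) * q⁻¹ := by group
                        _ = q * w * q⁻¹ := by rw [h5]; group
                    rw [hc2 u _ (by rw [← pow_two]; exact hsq _), hc2 u f (by rw [hf]; exact one_mem _)]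
                    exact e1.symm
                  have e3 : f * (r * v)⁻¹ * u * (f * (r * v)⁻¹)⁻¹ = u := by
                    calc f * (r * v)⁻¹ * u * (f * (r * v)⁻¹)⁻¹
                        = f * ((r * v)⁻¹ * u * (r * v)) * f⁻¹ := by group
                      _ = u := by rw [e4]; group
                  exact mul_inv_eq_iff_eq_mul.1 e3
                have hne : ∀ g h : H, g * h ≠ h * g → ⁅g, h⁆ ≠ 1 := fun g h hgh e =>
                  hgh (commutatorElement_eq_one_iff_mul_comm.1 e)
                refine hmem _ (key r (hne f r h1) (hne _ r ?_)) (key v (hne f v h2) (hne _ v ?_))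
                · rw [mul_assoc]
                  exact fun e => hc (mul_left_cancel e).symm
                · intro e
                  rw [← mul_assoc] at e
                  exact hc (mul_right_cancel e)
              have := hZsq _ hfrv (r * v)
              rw [inv_mul_cancel_right, hf] at this
              exact hrv2 this.symm
      refine false_of_flag hS hH Φ Z W inferInstance inferInstance hWn hΦZ le_sup_left hΦ.le
        (by rw [hΦ, hZc]; norm_num) (by rw [hWc, hZc]; norm_num) (by rw [hcard, hWc]; norm_num)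
        hΦinv hZinv fun a ha w hw => ?_
      refine (sup_le (fun u hu => ?_) (zpowers_le.2 ?_) : W ≤ W.comap a.toMonoidHom) hw
      · exact mem_sup_left (hZinv a ha u hu)
      · refine hsquares _ fun e => hr (a.injective ?_)
        rw [map_mul, map_one]
        exact e
  · -- `p` odd
    have hp2 : p ≠ 2 := fun e => by rw [e] at hodd; exact absurd hodd (by decide)
    let f : H →* H := MonoidHom.mk' (fun w => w ^ p) fun a b => by
      have hc := mem_center_iff.1 (hΦZ (PFrattini.commutator_le_frattini hG
        (commutator_mem_commutator (mem_top b⁻¹) (mem_top a⁻¹))))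
      rw [CoprimeOmega.mul_pow_of_commute (x := a) (z := b) (c := ⁅b⁻¹, a⁻¹⁆)
        (by simp only [commutatorElement_def]; group) (hc a).symm (hc b).symm]
      obtain ⟨q, hq⟩ := hp.out.dvd_choose_self two_ne_zero (lt_of_le_of_ne hp.out.two_le (Ne.symm hp2))
      rw [hq, pow_mul, hΦp _ (PFrattini.commutator_le_frattini hG
        (commutator_mem_commutator (mem_top b⁻¹) (mem_top a⁻¹))), one_pow, mul_one]
    by_cases hexp : ∀ w : H, w ^ p = 1
    · -- exponent `p`
      refine Or.inl ⟨hodd, ?_⟩
      set E₀ := Φ ⊔ zpowers x ⊔ zpowers y with hE₀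
      have hxΦ : x ∉ Φ := fun h => hxy (mem_center_iff.1 (hΦZ h) y).symm
      have hn1 : (Φ ⊔ zpowers x).Normal := Subgroup.Normal.of_commutator_le _
        ((PFrattini.commutator_le_frattini hG).trans le_sup_left)
      have hc1 : Nat.card ↥(Φ ⊔ zpowers x) = p ^ 2 := by
        have h1 := EssentialFour.card_le_prime_mul_of_lt hG (lt_of_le_of_ne
          (le_sup_left : Φ ≤ Φ ⊔ zpowers x) fun e => hxΦ (e ▸ mem_sup_right (mem_zpowers x)))
        have h2 := EssentialFour.card_sup_zpowers_le (p := p) (A := Φ) (g := x) (hsq x)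
        rw [hΦ, ← pow_two] at h1 h2
        exact le_antisymm h2 h1
      have hc2 : Nat.card E₀ = p ^ 3 := by
        have hle : Φ ⊔ zpowers x ≤ centralizer ({x} : Set H) := sup_le (fun w hw =>
          mem_centralizer_singleton_iff.2 (mem_center_iff.1 (hΦZ hw) x).symm)
          (zpowers_le.2 (mem_centralizer_singleton_iff.2 rfl))
        have h1 := EssentialFour.card_le_prime_mul_of_lt hG (lt_of_le_of_ne
          (le_sup_left : Φ ⊔ zpowers x ≤ E₀) fun e => hxy (mem_centralizer_singleton_iff.1
            (hle (e ▸ mem_sup_right (mem_zpowers y)))).symm)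
        have h2 := EssentialFour.card_sup_zpowers_le (p := p) (A := Φ ⊔ zpowers x) (g := y)
          (mem_sup_left (hsq y))
        rw [hc1] at h1 h2
        exact le_antisymm (h2.trans_eq (by ring)) ((by ring : p ^ 3 = p * p ^ 2).trans_le h1)
      have : Small.{0} E₀ := Countable.toSmall _
      let m : Shrink.{0} E₀ ≃* E₀ := Shrink.mulEquiv
      have : Finite (Shrink.{0} E₀) := Finite.of_equiv _ m.symm.toEquiv
      have hm : Nat.card (Shrink.{0} E₀) = p ^ 3 := (Nat.card_congr m.toEquiv).trans hc2
      have hx0 : x ∈ E₀ := mem_sup_left (mem_sup_right (mem_zpowers x))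
      have hy0 : y ∈ E₀ := mem_sup_right (mem_zpowers y)
      refine ⟨Shrink.{0} E₀, inferInstance, inferInstance,
        Fusion87.isExtraspecial_of_card_cube hm (fun hc => hxy ?_), hm,
        fun w => ?_, ?_⟩
      · have := hc.is_comm.comm (m.symm ⟨x, hx0⟩) (m.symm ⟨y, hy0⟩)
        rw [← map_mul, ← map_mul] at this
        exact congrArg Subtype.val (m.symm.injective this)
      · apply m.injective
        apply Subtype.ext
        rw [map_pow, map_one, SubmonoidClass.coe_pow, hexp]
        rfl
      · refine EssentialFour.exists_prod_zpowers hcard hm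
          (f := E₀.subtype.comp m.toMonoidHom) hz hzo ?_
        have hr : (E₀.subtype.comp m.toMonoidHom).range = E₀ := by
          rw [MonoidHom.range_comp, MonoidHom.range_eq_top.2 m.surjective, ← MonoidHom.range_eq_map,
            range_subtype]
        rw [hr]
        refine top_le_iff.1 (htop.symm.le.trans ?_)
        refine sup_le (sup_le (le_sup_of_le_left (zpowers_le.2 hx0)) (le_sup_of_le_left (zpowers_le.2 hy0))) ?_
        rw [← hZd, ← hZz]
        exact sup_le (le_sup_of_le_left (le_sup_left.trans le_sup_left)) le_sup_right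
    · exfalso
      have hker : Z ≤ f.ker := fun w hw => hZp w hw
      have hrange : f.range ≤ Φ := by rintro _ ⟨w, rfl⟩; exact hsq w
      have hne : f.range ≠ ⊥ := fun e => hexp fun w => by
        have : f w ∈ f.range := ⟨w, rfl⟩
        rwa [e, mem_bot] at this
      have hr : Nat.card f.range = p := ((Nat.dvd_prime hp.out).1 (hΦ ▸ card_dvd_of_le hrange)).resolve_left
        fun e => hne (eq_bot_of_card_eq _ e)
      have hk := f.ker.card_mul_index
      rw [index_ker, hr, hcard] at hk
      have hk' : Nat.card f.ker = p ^ 3 := Nat.eq_of_mul_eq_mul_right hp.out.pos (hk.trans (by ring))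
      refine false_of_flag hS hH Φ Z f.ker inferInstance inferInstance inferInstance hΦZ hker hΦ.le
        (by rw [hΦ, hZc, pow_two]) (by rw [hk', hZc]; exact le_of_eq (by ring))
        (by rw [hcard, hk']; exact le_of_eq (by ring)) hΦinv hZinv fun a _ w hw => ?_
      show a w ^ p = 1
      rw [← map_pow, show w ^ p = 1 from hw, map_one]

end Cfsg.Agent.S5188

namespace Cfsg.Agent.S5188


/-- Let F be a saturated fusion system over a finite p-group S and H an essential subgroup of order p⁴. Then H is isomorphic to one of: C_p⁴ or C_{p²} × C_p × C_p (any p); C_{p²} × C_{p²} with p ∈ {2, 3}; p^{1+2}_+ × C_p with p odd (the direct product of an extraspecial group of order p³ and exponent p with a group of order p); Q₈ × C₂ (p = 2); or the non-abelian group of order p⁴ of exponent p² whose centre is cyclic of order p² (the central product of an extraspecial group of order p³ with a cyclic group of order p²; for p = 2 this is D₈ ∘ C₄). -/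
theorem result {Ω : Type u} [Group Ω] {S : Subgroup Ω} [Finite S] (p : ℕ) [Fact p.Prime] (hS : IsPGroup p S)
    (F : Cfsg.FusionSystem S) (hF : F.IsSaturated p) (H : Subgroup Ω) (hH : F.IsEssential p H) (hcard : Nat.card H = p ^ 4) :
    Cfsg.IsElementaryAbelian p H ∨
      Nonempty (↥H ≃* Multiplicative (ZMod (p ^ 2) × ZMod p × ZMod p)) ∨
      ((p = 2 ∨ p = 3) ∧ Nonempty (↥H ≃* Multiplicative (ZMod (p ^ 2) × ZMod (p ^ 2)))) ∨
      (Odd p ∧ ∃ (E : Type) (_ : Group E) (_ : Finite E), Cfsg.IsExtraspecial p E ∧ Nat.card E = p ^ 3 ∧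
        (∀ x : E, x ^ p = 1) ∧ Nonempty (↥H ≃* E × Multiplicative (ZMod p))) ∨
      (p = 2 ∧ Nonempty (↥H ≃* QuaternionGroup 2 × Multiplicative (ZMod 2))) ∨
      (¬ IsMulCommutative ↥H ∧ (∀ x ∈ H, x ^ (p ^ 2) = 1) ∧ IsCyclic ↥(Subgroup.center ↥H) ∧
        Nat.card (Subgroup.center ↥H) = p ^ 2) := by
  have : Finite H := Cfsg.Agent.Lib.Fusion.finite_of_le hH.1.1
  have hp : p.Prime := Fact.out
  have hG : IsPGroup p H := hS.to_le hH.1.1
  have h2 := Cfsg.Agent.Lib.RankTwoAut.sq_le_index_frattini hS hF hH
  obtain ⟨i, hi⟩ := hG.index (frattini H)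
  obtain ⟨j, hj⟩ := IsPGroup.iff_card.1 (hG.to_subgroup (frattini H))
  have hij := (frattini H).card_mul_index
  rw [hj, hi, hcard, ← pow_add] at hij
  have hij' := Nat.pow_right_injective hp.two_le hij
  rw [hi, Nat.pow_le_pow_iff_right hp.one_lt] at h2
  rcases (show j = 0 ∨ (j = 1 ∧ i = 3) ∨ (j = 2 ∧ i = 2) by omega) with rfl | ⟨rfl, rfl⟩ | ⟨rfl, rfl⟩
  · exact Or.inl (Cfsg.Agent.Lib.RankTwoAut.elementary_of_frattini_bot hS hH
      (Subgroup.eq_bot_of_card_eq _ (by rw [hj, pow_zero])))
  · rw [pow_one] at hj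
    by_cases hab : IsMulCommutative H
    · exact Or.inr (Or.inl (Cfsg.Agent.Lib.EssentialFour.abelian_rank_three hG hcard
        hab.is_comm.comm hj))
    by_cases hZ : IsCyclic (Subgroup.center H)
    · refine Or.inr (Or.inr (Or.inr (Or.inr (Or.inr ⟨hab, fun x hx => ?_, hZ, ?_⟩))))
      · have h1 := Cfsg.Agent.Lib.EssentialFour.pow_sq_eq_one hG (k := 1) (by rw [pow_one, hj]) ⟨x, hx⟩
        rw [pow_one, ← pow_two] at h1
        simpa using congrArg Subtype.val h1
      · obtain ⟨x, y, hxy⟩ : ∃ x y : H, x * y ≠ y * x := by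
          by_contra hcon
          push Not at hcon
          exact hab ⟨⟨hcon⟩⟩
        exact (Cfsg.Agent.Lib.EssentialFour.center_eq hG hcard hj hxy).2.1
    rcases frattini_prime_case hS hH hcard hj hab hZ with h | h
    · exact Or.inr (Or.inr (Or.inr (Or.inl h)))
    · exact Or.inr (Or.inr (Or.inr (Or.inr (Or.inl h))))
  · by_cases hab : IsMulCommutative H
    · refine Or.inr (Or.inr (Or.inl ?_))
      obtain ⟨k, hk0, hc, hexp, hord, hiso⟩ :=
        Cfsg.Agent.Lib.RankTwoAut.abelian_homocyclic hS hF hH hab.is_comm.comm hi.le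
      rw [hcard, ← pow_add] at hc
      obtain rfl : k = 2 := by
        have := Nat.pow_right_injective hp.two_le hc
        omega
      refine ⟨?_, hiso⟩
      by_contra hp23
      have h4 : p ≠ 4 := fun e => absurd (e ▸ hp) (by decide)
      have h5 : 5 ≤ p := by have := hp.two_le; omega
      exact absurd (Cfsg.Agent.Lib.RankTwoAut.exponent_eq_one hS hF hH hab.is_comm.comm hi.le h5
        hexp hord) (by omega)
    · exfalso
      refine Cfsg.Agent.Lib.EssentialFour.false_of_index_sq hG hcard hab hi fun W hW hΦW hWi => ?_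
      have : W.Normal := Subgroup.normal_of_characteristic (h := hW)
      refine Cfsg.Agent.Lib.RankTwoAut.false_of_invariant hS hF hH hΦW hWi.dvd ?_
        fun α _ w hw => Subgroup.characteristic_iff_le_comap.1 hW α hw
      have e := Subgroup.relIndex_mul_index hΦW
      rw [hWi, hi, pow_two] at e
      exact (Nat.eq_of_mul_eq_mul_right hp.pos e).dvd

end Cfsg.Agent.S5188
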