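import Cfsg.Statements.S5189
import Cfsg.Agent.Lib.RankThreeNormal61.Induct
import Cfsg.Agent.Lib.RankThreeNormal61.Bridge
import Cfsg.Agent.Lib.RankTwoAut.Small
-- import your own Cfsg.Agent.* helpers here

set_option autoImplicit false
universe u
open Cfsg Cfsg.FusionSystem Cfsg.Agent.Lib Cfsg.Agent.Lib.Fusion Cfsg.Agent.Lib.Fusion87
open Cfsg.Agent.Lib.RankThreeNormal61 Cfsg.Agent.Lib.RankThreeEss69
open scoped commutatorElement

namespace Cfsg.Agent.S5189

/-- Let p be an odd prime, S a finite p-group of sectional p-rank exactly 3, and F a saturated fusion system over S whose largest subgroup normal in F is trivial. Suppose S has two distinct essential subgroups E₁, E₂ each of which is invariant under every F-automorphism of S. Then S is isomorphic to a Sylow p-subgroup of Sp(4,p), and one of E₁, E₂ is extraspecial of order p³ and exponent p while the other is elementary abelian of order p³. -/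
theorem result {Ω : Type u} [Group Ω] {S : Subgroup Ω} [Finite S] (p : ℕ) [Fact p.Prime] (hp : Odd p) (hS : IsPGroup p S)
    (hsr : Cfsg.SectionalPRankLE p 3 ↥S ∧ ¬ Cfsg.SectionalPRankLE p 2 ↥S)
    (F : Cfsg.FusionSystem S) (hF : F.IsSaturated p) (hO : F.core = ⊥)
    (E₁ E₂ : Subgroup Ω) (hne : E₁ ≠ E₂) (hE₁ : F.IsEssential p E₁) (hE₂ : F.IsEssential p E₂)
    (hc₁ : (∀ φ : MulAut ↥S, φ ∈ F.autGroup S → (E₁.subgroupOf S).map φ.toMonoidHom = E₁.subgroupOf S))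
    (hc₂ : (∀ φ : MulAut ↥S, φ ∈ F.autGroup S → (E₂.subgroupOf S).map φ.toMonoidHom = E₂.subgroupOf S)) :
    (∃ P : Sylow p ↥(Matrix.symplecticGroup (Fin 2) (ZMod p)),
        Nonempty (↥S ≃* ↥(P : Subgroup ↥(Matrix.symplecticGroup (Fin 2) (ZMod p))))) ∧
      ((Cfsg.IsExtraspecial p ↥E₁ ∧ Nat.card E₁ = p ^ 3 ∧ (∀ x ∈ E₁, x ^ p = 1) ∧
          Cfsg.IsElementaryAbelian p E₂ ∧ Nat.card E₂ = p ^ 3) ∨
        (Cfsg.IsExtraspecial p ↥E₂ ∧ Nat.card E₂ = p ^ 3 ∧ (∀ x ∈ E₂, x ^ p = 1) ∧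
          Cfsg.IsElementaryAbelian p E₁ ∧ Nat.card E₁ = p ^ 3)) := by
  classical
  have hp2 : p ≠ 2 := fun h => by
    subst h
    exact absurd hp (by decide)
  have hmap : ∀ {E : Subgroup Ω}, F.IsEssential p E → (E.subgroupOf S).map S.subtype = E := fun h =>
    Subgroup.map_subgroupOf_eq_of_le h.1.1
  have hnorm : ∀ {E : Subgroup Ω}, F.IsEssential p E →
      (∀ g : S, ∀ x ∈ E.subgroupOf S, g * x * g⁻¹ ∈ E.subgroupOf S) → normalizerIn S E = S := by
    intro E hE h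
    refine le_antisymm inf_le_left (le_inf le_rfl fun g hg => ?_)
    rw [Subgroup.mem_normalizer_iff]
    refine fun x => ⟨fun hx => h ⟨g, hg⟩ ⟨x, hE.1.1 hx⟩ hx, fun hx => ?_⟩
    have h2 := h ⟨g, hg⟩⁻¹ ⟨g * x * g⁻¹, hE.1.1 hx⟩ hx
    rw [Subgroup.mem_subgroupOf] at h2
    simpa [mul_assoc] using h2
  by_cases h3 : ∀ a b c : S, ⁅⁅a, b⁆, c⁆ = 1
  · exfalso
    have hall : ∀ E, F.IsEssential p E → normalizerIn S E = S := by
      intro E hE
      refine hnorm hE fun g x hx => ?_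
      have hc : (⁅g, x⁆ : S) ∈ E.subgroupOf S := by
        refine centralizerIn_le_of_isCentric hE.1 ⟨(⁅g, x⁆ : S).2, Subgroup.mem_centralizer_iff.2 ?_⟩
        intro y hy
        exact congrArg Subtype.val (commutatorElement_eq_one_iff_mul_comm.1 (h3 g x ⟨y, hE.1.1 hy⟩)).symm
      rw [conj_eq_comm_mul]
      exact mul_mem hc hx
    obtain ⟨D, hD⟩ := exists_normalSys hS hF hp2 hsr.1 hall hsr.2 hO
    obtain ⟨⟨e, v, u, z, hrel⟩, hcard⟩ := NormalSys.exists_block D hD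
    exact hrel.triple_ne_one hp2 hcard (h3 _ _ _)
  push Not at h3
  have hinv : ∀ {E : Subgroup Ω}, (∀ φ : MulAut S, φ ∈ F.autGroup S →
      (E.subgroupOf S).map φ.toMonoidHom = E.subgroupOf S) →
      ∀ φ ∈ F.autGroup S, ∀ x ∈ E.subgroupOf S, φ x ∈ E.subgroupOf S := fun h φ hφ x hx =>
    (h φ hφ).le (Subgroup.mem_map_of_mem _ hx)
  have hQ : ∀ E, (E = E₁ ∨ E = E₂) → F.IsEssential p E ∧ normalizerIn S E = S := by
    rintro E (rfl | rfl)
    · exact ⟨hE₁, hnorm hE₁ fun g x hx => hinv hc₁ _ (inn_le_autGroup le_rfl ⟨g, rfl⟩) x hx⟩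
    · exact ⟨hE₂, hnorm hE₂ fun g x hx => hinv hc₂ _ (inn_le_autGroup le_rfl ⟨g, rfl⟩) x hx⟩
  have hsub : ∀ {E : Subgroup S} {E0 : Subgroup Ω}, E.map S.subtype = E0 → E = E0.subgroupOf S :=
    fun {E E0} h => by rw [← h]; exact (Subgroup.comap_map_eq_self_of_injective S.subtype_injective E).symm
  have hQimg : ∀ E : Subgroup S, (E.map S.subtype = E₁ ∨ E.map S.subtype = E₂) → ∀ σ ∈ F.autGroup S,
      ((E.map σ.toMonoidHom).map S.subtype = E₁ ∨ (E.map σ.toMonoidHom).map S.subtype = E₂) := by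
    rintro E (h | h) σ hσ
    · rw [hsub h, hc₁ σ hσ, hmap hE₁]; exact Or.inl rfl
    · rw [hsub h, hc₂ σ hσ, hmap hE₂]; exact Or.inr rfl
  obtain ⟨D, hDe, hDg, -⟩ := exists_normalSys_of hS hF hp2 hsr.1 (fun _ h => hsr.2 h)
    (fun E => E = E₁ ∨ E = E₂) hQ hQimg
  set A := E₁.subgroupOf S with hA
  set B := E₂.subgroupOf S with hB
  have hP : D.Pair A B := by
    refine ⟨(hDe A).2 (Or.inl (hmap hE₁)), (hDe B).2 (Or.inr (hmap hE₂)), fun h => hne ?_, ?_, ?_, ?_⟩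
    · rw [← hmap hE₁, ← hmap hE₂, ← hA, h]
    · intro E hE
      exact ((hDe E).1 hE).imp hsub hsub
    · rw [hDg]; exact hinv hc₁
    · rw [hDg]; exact hinv hc₂
  have hgi : NormalSys.GlobInner D := by
    intro γ hγ
    rw [hDg] at hγ
    haveI := finite_autGroup (F := F) (le_refl S)
    have hfn : F.IsFullyNormalized S := ⟨le_rfl, fun Q _ => by
      rw [show normalizerIn S S = S from le_antisymm inf_le_left (le_inf le_rfl Subgroup.le_normalizer)]
      exact Subgroup.card_le_of_le inf_le_left⟩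
    obtain ⟨-, R, hR⟩ := isFullyAutomized_of_isFullyNormalized hS hF hfn
    rw [← inn_eq_autInducedBy] at hR
    haveI : (R : Subgroup (F.autGroup S)).Normal := hR ▸ inn_normal_subgroupOf F S
    refine ⟨_, (Fact.out : p.Prime).coprime_iff_not_dvd.2 R.not_dvd_index, ?_⟩
    have hmem : (⟨γ, hγ⟩ : F.autGroup S) ^ (R : Subgroup (F.autGroup S)).index ∈
        (R : Subgroup (F.autGroup S)) := Subgroup.pow_index_mem _ _
    generalize (R : Subgroup (F.autGroup S)).index = k at hmem ⊢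
    rw [hR, Subgroup.mem_subgroupOf, SubgroupClass.coe_pow] at hmem
    obtain ⟨g, hg⟩ := hmem
    exact ⟨g, hg.symm⟩
  have hcore := NormalSys.coreFree_of_class _ D A B hP hgi rfl h3
  obtain ⟨⟨e, v, u, z, hrel⟩, hcard⟩ := NormalSys.exists_block D hcore
  refine ⟨exists_sylow_iso hp2 hrel hcard, ?_⟩
  haveI := D.normal hP.h1
  have hbot : NormalSys.Common D A B ⊥ := ⟨bot_le, bot_le, fun γ _ x hx => by
    rw [Subgroup.mem_bot.1 hx, map_one]; exact one_mem _, NormalSys.bot_inv, NormalSys.bot_inv⟩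
  obtain ⟨-, htype⟩ := NormalSys.block_type hP hbot bot_le
    (fun x hx => by rw [Subgroup.mem_bot.1 hx, one_pow])
    (by rw [Subgroup.card_bot, one_mul, hcard]) (by simpa only [Subgroup.mem_bot, ne_eq] using h3)
  have hcardE : ∀ {E : Subgroup Ω}, F.IsEssential p E → D.IsEss (E.subgroupOf S) → Nat.card E = p ^ 3 := by
    intro E hE hE'
    rw [← Nat.card_congr (Subgroup.subgroupOfEquivOfLe hE.1.1).toEquiv]
    refine Nat.eq_of_mul_eq_mul_right (Fact.out : p.Prime).pos ?_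
    rw [NormalSys.card_E_mul hE', hcard, ← pow_succ]
  have h1 := hcardE hE₁ hP.h1
  have h2 := hcardE hE₂ hP.h2
  have hel : ∀ {E : Subgroup Ω}, F.IsEssential p E → IsElementaryAbelian p (E.subgroupOf S) →
      IsElementaryAbelian p E := fun {E} hE h => ElemAbelian.of_comm_of_pow
    (fun a ha b hb => congrArg Subtype.val
      (ElemAbelian.comm h (a := (⟨a, hE.1.1 ha⟩ : S)) (b := (⟨b, hE.1.1 hb⟩ : S)) ha hb))
    fun a ha => congrArg Subtype.val (h.2 (⟨a, hE.1.1 ha⟩ : S) ha)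
  have hboth : ¬ (IsElementaryAbelian p E₁ ∧ IsElementaryAbelian p E₂) := by
    rintro ⟨ha, hb⟩
    obtain ⟨a, b, c, habc⟩ := h3
    obtain ⟨r, hr2, hr1⟩ := SetLike.not_le_iff_exists.1 hP.not_le
    have k1 : ((⁅a, b⁆ : S) : Ω) ∈ E₁ := NormalSys.comm_mem_E hP.h1 a b
    have k2 : ((⁅a, b⁆ : S) : Ω) ∈ E₂ := NormalSys.comm_mem_E hP.h2 a b
    have hz : (⁅a, b⁆ : S) ∈ Subgroup.center S := NormalSys.mem_center_of hP.h1 hr1
      (fun x hx => Subtype.ext (ElemAbelian.comm ha hx k1)) (Subtype.ext (ElemAbelian.comm hb hr2 k2))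
    exact habc (commutatorElement_eq_one_iff_mul_comm.2 (Subgroup.mem_center_iff.1 hz c).symm)
  have hext : ∀ {E : Subgroup Ω}, F.IsEssential p E → Nat.card E = p ^ 3 → ¬ IsElementaryAbelian p E →
      IsExtraspecial p E ∧ ∀ x ∈ E, x ^ p = 1 := fun {E} hE hc hn => by
    rcases RankTwoAut.structure_cube hS hF hE hc with h | h | h
    exacts [absurd h hn, h.2, absurd h.1 hp2]
  rcases htype with ⟨h, -⟩ | ⟨h, -⟩
  · obtain ⟨hx, hxp⟩ := hext hE₂ h2 fun h' => hboth ⟨hel hE₁ h, h'⟩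
    exact Or.inr ⟨hx, h2, hxp, hel hE₁ h, h1⟩
  · obtain ⟨hx, hxp⟩ := hext hE₁ h1 fun h' => hboth ⟨h', hel hE₂ h⟩
    exact Or.inl ⟨hx, h1, hxp, hel hE₂ h, h2⟩

end Cfsg.Agent.S5189
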