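import Cfsg.Statements.S5191
import Mathlib

set_option autoImplicit false
open Pointwise
open Cfsg

namespace Cfsg.Agent.S5191

/-- Fusion in a finite group G and in its quotient by O_{p'}(G) agree. Let S be a Sylow p-subgroup of G, N = O_{p'}(G) and P ≤ S. If an element of G/N conjugates the image of P into the image of S, then some element g of G conjugates P into S and induces the same map on P modulo N. (Together with the injectivity of S → G/N this says that g ↦ gN induces an isomorphism of the fusion system of G on S with that of G/N on SN/N.) -/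
theorem result {G : Type*} [Group G] [Finite G] {p : ℕ} [Fact p.Prime]
    [hN : (Cfsg.pPrimeCore p G).Normal] (S : Sylow p G) (P : Subgroup G) (hP : P ≤ (S : Subgroup G))
    (γ : G ⧸ Cfsg.pPrimeCore p G)
    (hγ : ∀ x ∈ P, γ * QuotientGroup.mk x * γ⁻¹ ∈ ((S : Subgroup G).map (QuotientGroup.mk' (Cfsg.pPrimeCore p G)))) :
    ∃ g : G, ∀ x ∈ P, g * x * g⁻¹ ∈ S ∧
      (QuotientGroup.mk (g * x * g⁻¹) : G ⧸ Cfsg.pPrimeCore p G) = γ * QuotientGroup.mk x * γ⁻¹ := by
  induction γ using QuotientGroup.induction_on with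
  | H g =>
  set H := (S : Subgroup G) ⊔ Cfsg.pPrimeCore p G with hH
  set P' := P.map (MulAut.conj g).toMonoidHom with hP'
  have hP'H : P' ≤ H := by
    rintro _ ⟨x, hx, rfl⟩
    obtain ⟨s, hs, hse⟩ := hγ x hx
    rw [← QuotientGroup.mk_inv, ← QuotientGroup.mk_mul, ← QuotientGroup.mk_mul,
      QuotientGroup.mk'_apply, QuotientGroup.eq] at hse
    have := H.mul_mem ((le_sup_left : (S : Subgroup G) ≤ H) hs) ((le_sup_right : Cfsg.pPrimeCore p G ≤ H) hse)
    simpa using this
  have hpP' : IsPGroup p (P'.subgroupOf H) :=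
    ((S.2.to_le hP).map _).comap_subtype
  obtain ⟨R, hR⟩ := hpP'.exists_le_sylow
  obtain ⟨a, ha⟩ := MulAction.exists_smul_eq H R (S.subtype le_sup_left)
  obtain ⟨s, hs, n, hn, hsn⟩ := Subgroup.mem_sup_of_normal_right.1 a.2
  refine ⟨n * g, fun x hx => ⟨?_, ?_⟩⟩
  · have hxP : MulAut.conj g x ∈ P' := ⟨x, hx, rfl⟩
    have h1 : a * ⟨_, hP'H hxP⟩ * a⁻¹ ∈ (S.subtype (le_sup_left : (S : Subgroup G) ≤ H) : Subgroup H) := by
      rw [← ha]
      exact ⟨⟨_, hP'H hxP⟩, hR hxP, rfl⟩
    have h2 : (a : G) * (g * x * g⁻¹) * (a : G)⁻¹ ∈ (S : Subgroup G) := h1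
    rw [← hsn] at h2
    have h3 := (S : Subgroup G).mul_mem ((S : Subgroup G).mul_mem
      ((S : Subgroup G).inv_mem hs) h2) hs
    show n * g * x * (n * g)⁻¹ ∈ (S : Subgroup G)
    simpa [mul_assoc, mul_inv_rev] using h3
  · have hn1 : (QuotientGroup.mk n : G ⧸ Cfsg.pPrimeCore p G) = 1 := (QuotientGroup.eq_one_iff n).2 hn
    simp [QuotientGroup.mk_mul, QuotientGroup.mk_inv, hn1, mul_inv_rev, mul_assoc]

end Cfsg.Agent.S5191
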