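import Cfsg.Statements.S5192
import Cfsg.Agent.Lib.Fusion.BisetTransfer
import Cfsg.Agent.Lib.Fusion.Hyperfocal
import Mathlib.GroupTheory.Perm.Cycle.Type
import Mathlib.GroupTheory.GroupAction.ConjAct
import Mathlib.GroupTheory.Index

set_option autoImplicit false
set_option linter.style.haveILetI false
open Cfsg Cfsg.FusionSystem Cfsg.Agent.Lib.Fusion Cfsg.Agent.Lib.Fusion.Marks

namespace Cfsg.Agent.S5192

universe u

section Combinatorics

variable {G : Type*} [Group G] [Finite G]

/-- A class function, divisible at `b` by `m |C(b)|` on a conjugation invariant set, sums to a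
multiple of `m |G|`. -/
theorem dvd_sum_classFunction [Fintype G] (P : G → Prop) [DecidablePred P]
    (hP : ∀ c b, P b → P (c * b * c⁻¹)) (f : G → ℕ) (hf : ∀ c b, f (c * b * c⁻¹) = f b) (m : ℕ)
    (h : ∀ b, P b → m * Nat.card (Subgroup.centralizer ({b} : Set G)) ∣ f b) :
    m * Nat.card G ∣ ∑ b ∈ Finset.univ.filter P, f b := by
  classical
  rw [← Finset.sum_fiberwise (Finset.univ.filter P) (ConjClasses.mk : G → ConjClasses G) f]
  refine Finset.dvd_sum fun K _ => ?_
  by_cases hK : ∃ b, P b ∧ ConjClasses.mk b = K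
  · obtain ⟨b, hb, rfl⟩ := hK
    have hmem : (Finset.univ.filter P).filter (fun a => ConjClasses.mk a = ConjClasses.mk b) =
        Finset.univ.filter (fun a => a ∈ MulAction.orbit (ConjAct G) b) := by
      ext a
      rw [ConjAct.orbit_eq_carrier_conjClasses]
      simp only [Finset.mem_filter, Finset.mem_univ, true_and, ConjClasses.mem_carrier_iff_mk_eq]
      refine ⟨fun h => h.2, fun h => ⟨?_, h⟩⟩
      obtain ⟨c, hc⟩ := isConj_iff.mp (ConjClasses.mk_eq_mk_iff_isConj.mp h.symm)
      exact hc ▸ hP c b hb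
    rw [hmem, Finset.sum_congr rfl (g := fun _ => f b), Finset.sum_const, smul_eq_mul]
    · obtain ⟨k, hk⟩ := h b hb
      have hos := (MulAction.stabilizer (ConjAct G) b).card_eq_card_quotient_mul_card_subgroup
      rw [← Nat.card_congr (MulAction.orbitEquivQuotientStabilizer (ConjAct G) b),
        ← Subgroup.nat_card_centralizer_nat_card_stabilizer] at hos
      have hG : Nat.card (ConjAct G) = Nat.card G :=
        (Nat.card_congr ConjAct.toConjAct.toEquiv).symm
      rw [hG] at hos
      have hcard : (Finset.univ.filter (fun a => a ∈ MulAction.orbit (ConjAct G) b)).card =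
          Nat.card (MulAction.orbit (ConjAct G) b) := by
        rw [← Fintype.card_subtype, ← Nat.card_eq_fintype_card]
      rw [hcard, hk, hos]
      exact ⟨k, by ring⟩
    · intro a ha
      rw [Finset.mem_filter, ConjAct.orbit_eq_carrier_conjClasses,
        ConjClasses.mem_carrier_iff_mk_eq] at ha
      obtain ⟨c, hc⟩ := isConj_iff.mp (ConjClasses.mk_eq_mk_iff_isConj.mp ha.2.symm)
      rw [← hc, hf]
  · rw [Finset.filter_eq_empty_iff.mpr]
    · simp
    · intro a ha hKa
      exact hK ⟨a, (Finset.mem_filter.mp ha).2, hKa⟩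

omit [Finite G] in
/-- A free action makes the order of the group divide the number of points. -/
theorem card_dvd_of_free {Y : Type*} [MulAction G Y]
    (h : ∀ (g : G) (y : Y), g • y = y → g = 1) : Nat.card G ∣ Nat.card Y := by
  have e := MulAction.selfEquivOrbitsQuotientProd (G := G) (X := Y)
    (fun y => (Subgroup.eq_bot_iff_forall _).mpr fun g hg => h g y hg)
  rw [Nat.card_congr e, Nat.card_prod]
  exact dvd_mul_left _ _

end Combinatorics

section Transfer

variable {Ω : Type u} [Group Ω] {S : Subgroup Ω} {F : FusionSystem S}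
variable {X : Type u} [MulAction (↥S × ↥S) X]

theorem two_dvd_mul {A B : ℕ} {a b : ℕ} (hA : A = 2 ^ a) (hB : B = 2 ^ b) (h : A < B) :
    2 * A ∣ B := by
  subst hA; subst hB
  rw [← pow_succ']
  exact Nat.pow_dvd_pow 2 ((Nat.pow_lt_pow_iff_right one_lt_two).mp h)

theorem mem_fixedSet_tdiag_zpowers {b : Ω} {φ : Subgroup.zpowers b →* Ω}
    (hφ : φ ∈ F.Hom (Subgroup.zpowers b)) (hb : b ∈ S) (x : X) :
    x ∈ fixedSet X (tdiag S (Subgroup.zpowers b) φ) ↔
      ((⟨φ ⟨b, Subgroup.mem_zpowers b⟩, val_mem hφ _⟩ : ↥S), (⟨b, hb⟩ : ↥S)) • x = x := by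
  rw [mem_fixedSet_iff_le]
  constructor
  · intro h
    exact h (show ((⟨φ ⟨b, Subgroup.mem_zpowers b⟩, val_mem hφ _⟩ : ↥S), (⟨b, hb⟩ : ↥S)) ∈
      tdiag S (Subgroup.zpowers b) φ from ⟨Subgroup.mem_zpowers b, rfl⟩)
  · intro h z ⟨hz, e⟩
    obtain ⟨n, hn⟩ := Subgroup.mem_zpowers_iff.mp hz
    have hz2 : z.2 = (⟨b, hb⟩ : ↥S) ^ n := by
      apply Subtype.ext
      rw [Subgroup.coe_zpow]
      exact hn.symm
    have hz1 : z.1 = (⟨φ ⟨b, Subgroup.mem_zpowers b⟩, val_mem hφ _⟩ : ↥S) ^ n := by
      apply Subtype.ext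
      rw [Subgroup.coe_zpow, ← e, ← map_zpow]
      congr 1
      apply Subtype.ext
      rw [Subgroup.coe_zpow]
      exact hn.symm
    have : z = ((⟨φ ⟨b, Subgroup.mem_zpowers b⟩, val_mem hφ _⟩ : ↥S), (⟨b, hb⟩ : ↥S)) ^ n :=
      Prod.ext hz1 hz2
    rw [this]
    exact zpow_mem (show _ ∈ MulAction.stabilizer (↥S × ↥S) x from h) n

/-- The number of points fixed by `(i, b)` is a multiple of twice the centralizer order of `b`,
when `b` is not fully normalized among the conjugates of `i`. -/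
theorem dvd_card_fixed [Finite S] [Finite X] (hX : IsLeftCharBiset F X) (hS : IsPGroup 2 S)
    {i : ↥S} (hi2 : orderOf i = 2) (b : ↥S)
    (hbad : F.IsConjElt (i : Ω) (b : Ω) → ¬ F.IsFullyNormalized (Subgroup.zpowers (b : Ω))) :
    2 * Nat.card (Subgroup.centralizer ({b} : Set ↥S)) ∣
      Nat.card {x : X // (i, b) • x = x} := by
  rcases isEmpty_or_nonempty {x : X // (i, b) • x = x} with he | ⟨⟨x, hx⟩⟩
  · rw [Nat.card_of_isEmpty (α := {x : X // (i, b) • x = x})]
    exact dvd_zero _
  obtain ⟨P, φ₀, hφ₀, e⟩ := hX.twisted x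
  have hm : (i, b) ∈ MulAction.stabilizer (↥S × ↥S) x := hx
  rw [e] at hm
  obtain ⟨hbP, hbi⟩ := hm
  simp only at hbP hbi
  have hbP' : Subgroup.zpowers (b : Ω) ≤ P := by rwa [Subgroup.zpowers_le]
  set φ : Subgroup.zpowers (b : Ω) →* Ω := φ₀.comp (Subgroup.inclusion hbP') with hφd
  have hφ : φ ∈ F.Hom (Subgroup.zpowers (b : Ω)) := restrict_mem hφ₀ hbP'
  have hφb : φ ⟨b, Subgroup.mem_zpowers _⟩ = (i : Ω) := hbi
  have hb2 : orderOf (b : Ω) = 2 := by
    have h1 := orderOf_injective φ (F.injective_of_mem hφ) ⟨b, Subgroup.mem_zpowers _⟩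
    rw [hφb, Subgroup.orderOf_mk, Subgroup.orderOf_coe, hi2] at h1
    exact h1.symm
  have hrange : φ.range = Subgroup.zpowers (i : Ω) := by
    rw [MonoidHom.range_eq_map]
    have htop : (⊤ : Subgroup (Subgroup.zpowers (b : Ω))) =
        Subgroup.zpowers (⟨b, Subgroup.mem_zpowers _⟩ : Subgroup.zpowers (b : Ω)) := by
      refine ((Subgroup.eq_top_iff' _).mpr fun z => ?_).symm
      obtain ⟨n, hn⟩ := Subgroup.mem_zpowers_iff.mp z.2
      exact Subgroup.mem_zpowers_iff.mpr ⟨n, Subtype.ext (by rw [Subgroup.coe_zpow]; exact hn)⟩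
    rw [htop, MonoidHom.map_zpowers, hφb]
  have hconj : F.IsConjElt (i : Ω) (b : Ω) := by
    obtain ⟨ι, hι, -, hι1, -⟩ := exists_inverse hφ hrange
    refine ⟨ι, hι, ?_⟩
    have := hι1 ⟨b, Subgroup.mem_zpowers _⟩ (by rw [hφb]; exact Subgroup.mem_zpowers _)
    rw [← this]
    congr 1
    exact Subtype.ext hφb.symm
  have hbS : Subgroup.zpowers (b : Ω) ≤ S := by
    rw [Subgroup.zpowers_le]
    exact b.2
  have hnf := hbad hconj
  simp only [IsFullyNormalized, hbS, true_and, not_forall, not_le] at hnf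
  obtain ⟨Q, ⟨χ, hχ, rfl⟩, hlt⟩ := hnf
  set k : ↥S := ⟨χ ⟨b, Subgroup.mem_zpowers _⟩, val_mem hχ _⟩ with hk
  -- normalizers of subgroups of order two are centralizers
  have hN : ∀ (c : ↥S), orderOf (c : Ω) = 2 → ∀ R : Subgroup Ω, R = Subgroup.zpowers (c : Ω) →
      Nat.card (normalizerIn S R) = Nat.card (Subgroup.centralizer ({c} : Set ↥S)) := by
    intro c hc R hR
    subst hR
    have hc2 : (c : Ω) * c = 1 := by rw [← pow_two, ← hc]; exact pow_orderOf_eq_one _
    have hc1 : (c : Ω) ≠ 1 := fun h => by rw [h, orderOf_one] at hc; omega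
    have hz : ∀ y ∈ Subgroup.zpowers (c : Ω), y = 1 ∨ y = c := by
      intro y hy
      obtain ⟨n, rfl⟩ := Subgroup.mem_zpowers_iff.mp hy
      rw [← zpow_mod_orderOf, hc]
      rcases Int.emod_two_eq_zero_or_one n with h | h <;> simp [h]
    have heq : (normalizerIn S (Subgroup.zpowers (c : Ω))).subgroupOf S =
        Subgroup.centralizer ({c} : Set ↥S) := by
      ext s
      rw [Subgroup.mem_subgroupOf, normalizerIn, Subgroup.mem_inf,
        Subgroup.mem_centralizer_singleton_iff]
      constructor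
      · rintro ⟨-, hs⟩
        have := ((Subgroup.mem_normalizer_iff.mp hs) (c : Ω)).mp (Subgroup.mem_zpowers _)
        rcases hz _ this with h | h
        · exact absurd (conj_eq_one_iff.mp h) hc1
        · apply Subtype.ext
          calc (s : Ω) * c = (s : Ω) * c * (s : Ω)⁻¹ * s := by group
            _ = c * s := by rw [h]
      · intro hs
        refine ⟨s.2, Subgroup.mem_normalizer_iff.mpr fun y => ?_⟩
        have hs' : (s : Ω) * c * (s : Ω)⁻¹ = c := by
          have := congrArg Subtype.val hs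
          simp only [Subgroup.coe_mul] at this
          rw [this, mul_inv_cancel_right]
        constructor
        · intro hy
          rcases hz _ hy with rfl | rfl
          · simp
          · rw [hs']; exact Subgroup.mem_zpowers _
        · intro hy
          rcases hz _ hy with h | h
          · rw [conj_eq_one_iff.mp h]
            exact one_mem _
          · have : y = c := by
              have := h.trans hs'.symm
              simpa using this
            rw [this]; exact Subgroup.mem_zpowers _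
    rw [← heq]
    exact (Nat.card_congr (Subgroup.subgroupOfEquivOfLe inf_le_left).toEquiv).symm
  have hkr : χ.range = Subgroup.zpowers (k : Ω) := by
    rw [MonoidHom.range_eq_map]
    have htop : (⊤ : Subgroup (Subgroup.zpowers (b : Ω))) =
        Subgroup.zpowers (⟨b, Subgroup.mem_zpowers _⟩ : Subgroup.zpowers (b : Ω)) := by
      refine ((Subgroup.eq_top_iff' _).mpr fun z => ?_).symm
      obtain ⟨n, hn⟩ := Subgroup.mem_zpowers_iff.mp z.2
      exact Subgroup.mem_zpowers_iff.mpr ⟨n, Subtype.ext (by rw [Subgroup.coe_zpow]; exact hn)⟩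
    rw [htop, MonoidHom.map_zpowers]
  have hk2 : orderOf (k : Ω) = 2 := by
    rw [hk, orderOf_injective χ (F.injective_of_mem hχ), Subgroup.orderOf_mk, hb2]
  rw [hN b hb2 _ rfl, hN k hk2 _ hkr] at hlt
  obtain ⟨a₁, ha₁⟩ := (hS.to_subgroup (Subgroup.centralizer ({b} : Set ↥S))).exists_card_eq
  obtain ⟨a₂, ha₂⟩ := (hS.to_subgroup (Subgroup.centralizer ({k} : Set ↥S))).exists_card_eq
  refine (two_dvd_mul ha₁ ha₂ hlt).trans ?_
  -- left stability
  have hst : Nat.card {x : X // (i, b) • x = x} = Nat.card {x : X // (k, b) • x = x} := by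
    have h1 := hX.stable _ φ hφ χ hχ
    have e1 : ((⟨φ ⟨b, Subgroup.mem_zpowers _⟩, val_mem hφ _⟩ : ↥S), (⟨b, b.2⟩ : ↥S)) = (i, b) :=
      Prod.ext (Subtype.ext hφb) rfl
    calc Nat.card {x : X // (i, b) • x = x}
        = mark X (tdiag S (Subgroup.zpowers (b : Ω)) φ) := Nat.card_congr
          (Equiv.subtypeEquivRight fun y => by
            rw [mem_fixedSet_tdiag_zpowers hφ b.2, e1])
      _ = mark X (tdiag S (Subgroup.zpowers (b : Ω)) χ) := h1
      _ = Nat.card {x : X // (k, b) • x = x} := Nat.card_congr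
          (Equiv.subtypeEquivRight fun y => by
            rw [mem_fixedSet_tdiag_zpowers hχ b.2]).symm
  rw [hst]
  let _ : MulAction (Subgroup.centralizer ({k} : Set ↥S)) {x : X // (k, b) • x = x} :=
    { smul := fun c y => ⟨((c : ↥S), (1 : ↥S)) • y.1, by
        have hc := Subgroup.mem_centralizer_singleton_iff.mp c.2
        have : (k, b) * ((c : ↥S), (1 : ↥S)) = ((c : ↥S), (1 : ↥S)) * (k, b) :=
          Prod.ext hc.symm (by simp)
        rw [← mul_smul, this, mul_smul, y.2]⟩
      one_smul := fun y => Subtype.ext (one_smul _ y.1)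
      mul_smul := fun c d y => Subtype.ext (by
        show _ • y.1 = _ • _ • y.1
        rw [← mul_smul, Prod.mk_mul_mk, one_mul]
        rfl) }
  exact card_dvd_of_free fun c y hc => Subtype.ext (hX.left_free (congrArg Subtype.val hc))

/-- The transfer of a map of kernel not containing well placed conjugates takes the value `g`. -/
theorem transfer_ne_one [Finite S] [Finite X] (hX : IsLeftCharBiset F X) (hS : IsPGroup 2 S)
    (hF : F.IsSaturated 2) {A : Type*} [CommGroup A] (hA : Nat.card A = 2)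
    {π : ↥S →* A} {h : X → A} (hh : IsRightSection π h) {i : ↥S} (hi2 : orderOf i = 2)
    (hbad : ∀ b : ↥S, π b = 1 → F.IsConjElt (i : Ω) (b : Ω) →
      ¬ F.IsFullyNormalized (Subgroup.zpowers (b : Ω))) :
    transferAlong hh (bisetEmbed S X i) ≠ 1 := by
  classical
  have : Finite A := Nat.finite_of_card_ne_zero (by omega)
  letI := Fintype.ofFinite A
  letI := Fintype.ofFinite X
  letI := Fintype.ofFinite ↥S
  letI := Fintype.ofFinite (Quotient (rightSetoid S X))
  set g := bisetEmbed S X i with hg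
  have hii : i * i = 1 := by rw [← pow_two, ← hi2]; exact pow_orderOf_eq_one i
  have hgg : g * g = 1 := by rw [hg, ← map_mul, hii, map_one]
  have hperm : ∀ q, orbitPerm g (orbitPerm g q) = q := by
    intro q
    induction q using Quotient.inductionOn' with
    | h x =>
      rw [orbitPerm_mk, orbitPerm_mk, ← Equiv.Perm.mul_apply, ← Subgroup.coe_mul, hgg]
      rfl
  set t := transferTerm hh g with ht
  have hpair : ∀ q, t q * t (orbitPerm g q) = 1 := by
    intro q
    rw [ht, mul_comm, ← transferTerm_mul, hgg]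
    induction q using Quotient.inductionOn' with
    | h x => rw [transferTerm_mk]; exact div_self' _
  set Fx := Finset.univ.filter (fun q => orbitPerm g q = q) with hFx
  have hprod : transferAlong hh g = ∏ q ∈ Fx, t q := by
    rw [transferAlong_apply, ← Finset.prod_filter_mul_prod_filter_not Finset.univ
      (fun q => orbitPerm g q = q), ← hFx, mul_eq_left]
    refine Finset.prod_involution (fun q _ => orbitPerm g q) (fun q _ => hpair q) ?_ ?_ ?_
    · intro q hq _
      exact (Finset.mem_filter.mp hq).2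
    · intro q hq
      refine Finset.mem_filter.mpr ⟨Finset.mem_univ _, ?_⟩
      rw [hperm]
      exact fun h => (Finset.mem_filter.mp hq).2 h.symm
    · intro q _
      exact hperm q
  -- the number of fixed orbits is odd
  have hodd : ¬ 2 ∣ Fx.card := by
    have h1 := Equiv.Perm.card_compl_support_modEq (p := 2) (n := 1) (σ := orbitPerm g)
      (by ext q; rw [pow_one, pow_two]; exact hperm q)
    have h2 : (orbitPerm g).supportᶜ = Fx := by
      ext q
      simp [hFx]
    have h3 := hX.not_dvd_card_quotient hS hF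
    rw [Nat.card_eq_fintype_card] at h3
    intro h
    rw [h2] at h1
    exact h3 ((Nat.ModEq.dvd_iff h1 dvd_rfl).mp h)
  -- counting the fixed orbits with trivial term
  set Bd := Fx.filter (fun q => t q = 1) with hBd
  let M := {x : X // ∃ b : ↥S, π b = 1 ∧ (i, b) • x = x}
  have hterm : ∀ (x : X) (b : ↥S), (i, b) • x = x → t (Quotient.mk'' x) = π b ∧
      orbitPerm g (Quotient.mk'' x) = Quotient.mk'' x := by
    intro x b hxb
    have h1 : (g : Equiv.Perm X) x = ((1 : ↥S), b⁻¹) • x := by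
      rw [hg, bisetEmbed_apply]
      conv_rhs => rw [← hxb, ← mul_smul, Prod.mk_mul_mk, one_mul, inv_mul_cancel]
    refine ⟨?_, ?_⟩
    · rw [ht, transferTerm_mk, h1, hh, map_inv, inv_inv, mul_div_cancel_right]
    · rw [orbitPerm_mk, h1]
      exact (Quotient.sound' ⟨b⁻¹, rfl⟩ : (Quotient.mk'' x : Quotient (rightSetoid S X)) = _).symm
  have hMiff : ∀ x : X, (∃ b : ↥S, π b = 1 ∧ (i, b) • x = x) ↔ Quotient.mk'' x ∈ Bd := by
    intro x
    constructor
    · rintro ⟨b, hb, hxb⟩
      obtain ⟨h1, h2⟩ := hterm x b hxb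
      exact Finset.mem_filter.mpr ⟨Finset.mem_filter.mpr ⟨Finset.mem_univ _, h2⟩, h1.trans hb⟩
    · intro hq
      obtain ⟨hq1, hq2⟩ := Finset.mem_filter.mp hq
      have h2 := (Finset.mem_filter.mp hq1).2
      rw [orbitPerm_mk] at h2
      obtain ⟨b, hb⟩ := Quotient.exact' h2
      rw [hg, bisetEmbed_apply, ← mul_smul, Prod.mk_mul_mk, one_mul, mul_one] at hb
      exact ⟨b, (hterm x b hb).1.symm.trans hq2, hb⟩
  have hM1 : Nat.card M = Bd.card * Nat.card ↥S := by
    rw [← Fintype.card_coe, ← Nat.card_eq_fintype_card, ← Nat.card_prod]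
    refine (Nat.card_congr (Equiv.ofBijective
      (fun z : Bd × ↥S => (⟨((1 : ↥S), z.2) • z.1.1.out, (hMiff _).mpr (by
        have e : (Quotient.mk'' (((1 : ↥S), z.2) • z.1.1.out) : Quotient (rightSetoid S X)) =
            z.1.1 := by
          conv_rhs => rw [← Quotient.out_eq' z.1.1]
          exact (Quotient.sound' (⟨z.2, rfl⟩ : (rightSetoid S X).r z.1.1.out _)).symm
        rw [e]
        exact z.1.2)⟩ : M)) ⟨?_, ?_⟩)).symm
    · rintro ⟨⟨q, hq⟩, c⟩ ⟨⟨q', hq'⟩, c'⟩ hzz
      have hv : ((1 : ↥S), c) • q.out = ((1 : ↥S), c') • q'.out := congrArg Subtype.val hzz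
      have hq₂ : ((1 : ↥S), c'⁻¹ * c) • q.out = q'.out := by
        rw [show ((1 : ↥S), c'⁻¹ * c) = ((1 : ↥S), c'⁻¹) * ((1 : ↥S), c) by
          rw [Prod.mk_mul_mk, one_mul], mul_smul, hv, ← mul_smul, Prod.mk_mul_mk, one_mul,
          inv_mul_cancel, Prod.mk_one_one, one_smul]
      obtain rfl : q = q' := by
        rw [← Quotient.out_eq' q, ← Quotient.out_eq' q']
        exact Quotient.sound' ⟨c'⁻¹ * c, hq₂⟩
      rw [inv_mul_eq_one.mp (hX.right_free hq₂)]
    · rintro ⟨x, hx⟩
      obtain ⟨c, hc⟩ := Quotient.mk_out (s := rightSetoid S X) x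
      exact ⟨⟨⟨⟦x⟧, (hMiff x).mp hx⟩, c⟩, Subtype.ext hc⟩
  have hM2 : Nat.card M = ∑ b ∈ Finset.univ.filter (fun b : ↥S => π b = 1),
      Nat.card {x : X // (i, b) • x = x} := by
    rw [Finset.sum_subtype (p := fun b : ↥S => π b = 1) _ (by simp), ← Nat.card_sigma]
    refine (Nat.card_congr (Equiv.ofBijective
      (fun z : Σ b : {b : ↥S // π b = 1}, {x : X // (i, b.1) • x = x} =>
        (⟨z.2.1, z.1.1, z.1.2, z.2.2⟩ : M)) ⟨?_, ?_⟩)).symm
    · rintro ⟨⟨b, hb⟩, x, hx⟩ ⟨⟨b', hb'⟩, x', hx'⟩ hzz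
      obtain rfl : x = x' := congrArg Subtype.val hzz
      simp only at hx hx'
      have : ((1 : ↥S), b'⁻¹ * b) • x = x := by
        have : ((1 : ↥S), b'⁻¹ * b) = (i, b')⁻¹ * (i, b) := by
          rw [Prod.inv_mk, Prod.mk_mul_mk, inv_mul_cancel]
        rw [this, mul_smul, hx, inv_smul_eq_iff, hx']
      obtain rfl := inv_mul_eq_one.mp (hX.right_free this)
      rfl
    · rintro ⟨x, b, hb, hxb⟩
      exact ⟨⟨⟨b, hb⟩, x, hxb⟩, rfl⟩
  have heven : 2 ∣ Bd.card := by
    have h1 : 2 * Nat.card ↥S ∣ Nat.card M := by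
      rw [hM2]
      refine dvd_sum_classFunction (fun b => π b = 1) ?_ _ ?_ 2
        (fun b hb => dvd_card_fixed hX hS hi2 b (hbad b hb))
      · intro c b hb
        simp only [map_mul, map_inv, hb, mul_one, mul_inv_cancel]
      · intro c b
        refine Nat.card_congr (Equiv.subtypeEquiv
          (MulAction.toPerm (((1 : ↥S), c⁻¹) : ↥S × ↥S)) fun x => ?_)
        rw [MulAction.toPerm_apply, ← mul_smul, ← inv_smul_eq_iff (g := ((1 : ↥S), c⁻¹)) ,
          ← mul_smul]
        have : ((1 : ↥S), c⁻¹)⁻¹ * ((i, b) * ((1 : ↥S), c⁻¹)) = (i, c * b * c⁻¹) := by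
          simp [mul_assoc]
        rw [this]
    rw [hM1] at h1
    exact (Nat.mul_dvd_mul_iff_right Nat.card_pos).mp h1
  -- the product
  obtain ⟨z, hz⟩ : ∃ z : A, z ≠ 1 := by
    by_contra hc
    push Not at hc
    have : Subsingleton A := ⟨fun a b => (hc a).trans (hc b).symm⟩
    rw [Nat.card_unique] at hA
    omega
  have hz' : ∀ a : A, a = 1 ∨ a = z := by
    intro a
    by_contra hc
    push Not at hc
    have : ({1, z, a} : Finset A).card ≤ Fintype.card A := Finset.card_le_univ _
    rw [Finset.card_insert_of_notMem (by simp [hz.symm, hc.1.symm]),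
      Finset.card_insert_of_notMem (by simpa using hc.2.symm), Finset.card_singleton,
      ← Nat.card_eq_fintype_card, hA] at this
    omega
  have hzz : z ^ 2 = 1 := by rw [← hA]; exact pow_card_eq_one'
  rw [hprod, ← Finset.prod_filter_mul_prod_filter_not Fx (fun q => t q = 1), ← hBd,
    Finset.prod_eq_one (s := Bd) (fun q hq => (Finset.mem_filter.mp hq).2), one_mul,
    Finset.prod_eq_pow_card (b := z) (fun q hq =>
      (hz' _).resolve_left (Finset.mem_filter.mp hq).2)]
  have hsplit := Finset.card_filter_add_card_filter_not (s := Fx) (fun q => t q = 1)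
  rw [← hBd] at hsplit
  obtain ⟨k, hk⟩ : Odd (Fx.filter (fun q => ¬ t q = 1)).card := by
    rw [Nat.odd_iff]
    omega
  rw [hk, pow_add, pow_mul, hzz, one_pow, one_mul, pow_one]
  exact hz

end Transfer


/-- A Thompson-type transfer for saturated fusion systems. Let F be a saturated fusion system on a finite 2-group S, T a subgroup of S of index 2, and i an involution of S such that every fully normalized F-conjugate of i lies in S but outside T. Then i does not lie in the hyperfocal subgroup of F (the Sylow group of the 2-residual subsystem). -/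
theorem result {Ω : Type*} [Group Ω] [Finite Ω] {S : Subgroup Ω}
    (hS : IsPGroup 2 ↥S) (F : Cfsg.FusionSystem S) (hF : F.IsSaturated 2)
    (T : Subgroup Ω) (hTS : T ≤ S) (hT : T.relIndex S = 2)
    (i : Ω) (hi : i ∈ S) (hi2 : orderOf i = 2)
    (h : ∀ j : Ω, F.IsConjElt i j → F.IsFullyNormalized (Subgroup.zpowers j) → j ∉ T) :
    i ∉ F.hyperfocalSubgroup 2 := by
  have : Fact (Nat.Prime 2) := ⟨Nat.prime_two⟩
  obtain ⟨X, _, _, hX⟩ := exists_leftCharBiset hS hF
  have hN : (T.subgroupOf S).Normal := Subgroup.normal_of_index_eq_two hT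
  have hQ : Nat.card (↥S ⧸ T.subgroupOf S) = 2 := hT
  have : IsCyclic (↥S ⧸ T.subgroupOf S) := isCyclic_of_prime_card hQ
  letI : CommGroup (↥S ⧸ T.subgroupOf S) := IsCyclic.commGroup
  set π : ↥S →* ↥S ⧸ T.subgroupOf S := QuotientGroup.mk' (T.subgroupOf S) with hπ
  obtain ⟨f, hf⟩ := exists_rightSection hX π
  let τ : ↥S →* ↥S ⧸ T.subgroupOf S := (transferAlong hf).comp (bisetEmbed S X)
  have hi' : orderOf (⟨i, hi⟩ : ↥S) = 2 := by rw [Subgroup.orderOf_mk, hi2]
  have hne : τ ⟨i, hi⟩ ≠ 1 := transfer_ne_one hX hS hF hQ hf hi' fun b hb hc hfn => by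
    have : b ∈ T.subgroupOf S := (QuotientGroup.eq_one_iff b).mp hb
    exact h b hc hfn (Subgroup.mem_subgroupOf.mp this)
  have hle : F.focalSubgroup ≤ τ.ker.map S.subtype := by
    rw [FusionSystem.focalSubgroup, Subgroup.closure_le]
    rintro _ ⟨P, φ, x, hφ, rfl⟩
    refine ⟨(⟨x, src_le hφ x.2⟩ : ↥S)⁻¹ * ⟨φ x, val_mem hφ x⟩, ?_, rfl⟩
    show τ _ = 1
    rw [map_mul, map_inv]
    have := hX.apply_map (transferAlong hf) hφ x
    show (τ _)⁻¹ * τ _ = 1
    rw [show τ ⟨φ x, val_mem hφ x⟩ = τ ⟨x, src_le hφ x.2⟩ from this, inv_mul_cancel]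
  intro hmem
  obtain ⟨y, hy, hyi⟩ := hle (hyperfocalSubgroup_le_focalSubgroup (p := 2) F hmem)
  exact hne (by rw [show (⟨i, hi⟩ : ↥S) = y from Subtype.ext hyi.symm]; exact hy)

end Cfsg.Agent.S5192
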