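import Cfsg.Statements.S5196
import Cfsg.Agent.Lib.Fusion.CentralFunctor

set_option autoImplicit false
universe u
open Cfsg Cfsg.FusionSystem Cfsg.Agent.Lib.Fusion

namespace Cfsg.Agent.S5196

/-- Let p be an odd prime and W a positive characteristic p-functor: W assigns to every finite p-group Q (in a fixed universe) a subgroup W(Q), nontrivial when Q is, carried to W(R) by every isomorphism Q ≅ R; assume also Z(Q) ≤ W(Q) for every finite p-group Q. Suppose W satisfies the local condition: for every finite group G with Sylow p-subgroup P, O_p(G) ∩ Z(G) = O_p(G) ∩ Z(N_G(W(P))). Then W controls weak closure of elements in every saturated fusion system F over a finite p-group S: the centre of the normalizer fusion system of W(S) in F equals the centre of F. (For p = 2 no functor satisfies the local condition, so p is taken odd.) -/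
theorem result {p : ℕ} [Fact p.Prime] (hp : p ≠ 2) (W : ∀ (Q : Type u) [Group Q], Subgroup Q) (hW1 : ∀ (Q : Type u) [Group Q] [Finite Q], IsPGroup p Q → Nontrivial Q → W Q ≠ ⊥) (hW2 : ∀ (Q R : Type u) [Group Q] [Group R] [Finite Q], IsPGroup p Q → ∀ φ : Q ≃* R, (W Q).map φ.toMonoidHom = W R) (hWZ : ∀ (Q : Type u) [Group Q] [Finite Q], IsPGroup p Q → Subgroup.center Q ≤ W Q) (hC : ∀ (G : Type u) [Group G] [Finite G] (P : Sylow p G), Cfsg.pCore p G ⊓ Subgroup.center G = Cfsg.pCore p G ⊓ (Subgroup.center ↥(Subgroup.normalizer (((W ↥(P : Subgroup G)).map (P : Subgroup G).subtype : Subgroup G) : Set G))).map (Subgroup.normalizer (((W ↥(P : Subgroup G)).map (P : Subgroup G).subtype : Subgroup G) : Set G)).subtype) {Ω : Type u} [Group Ω] {S : Subgroup Ω} [Finite S] (hS : IsPGroup p S) (F : Cfsg.FusionSystem S) (hF : F.IsSaturated p) (N : Cfsg.FusionSystem (Cfsg.FusionSystem.normalizerIn S ((W ↥S).map S.subtype))) (hN : F.IsNormalizerSystem ((W ↥S).map S.subtype) N) : N.center = F.center := by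
  have hWn : normalizerIn S ((W ↥S).map S.subtype) = S :=
    le_antisymm inf_le_left
      (le_inf le_rfl (Subgroup.le_normalizer.trans (normalizer_le_normalizer_wSub hW2 hS)))
  refine le_antisymm (fun z hz => ?_) (center_le_normalizer_center hWn hN)
  haveI := finite_normalizerIn (S := S) ((W ↥S).map S.subtype)
  have hz' := mem_center_of_mem_center hz
  rw [hWn] at hz'
  refine mem_center_of_functor 1 W hW1 hW2 (fun _ => True) (fun _ _ h => h) (fun _ h => h)
    ?_ hS hF trivial hN hz ⟨z, hz', pow_one z⟩
  intro Ω₁ _ S₁ _ F₁ _ L _ _ ι P _ _ _ hc z hzP _ hfix g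
  have hzQ : z ∈ Cfsg.pCore p L := hc (Subgroup.centralizer_le
    (SetLike.coe_subset_coe.mpr (Cfsg.Agent.Lib.PSolvable.pCore_le_sylow P)) hzP.2)
  set M := Subgroup.normalizer
    (((W ↥(P : Subgroup L)).map (P : Subgroup L).subtype : Subgroup L) : Set L) with hM
  have hzM : z ∈ M :=
    (Subgroup.le_normalizer.trans (normalizer_le_normalizer_wSub hW2 P.2)) hzP.1
  have : z ∈ Cfsg.pCore p L ⊓ Subgroup.center L := by
    rw [hC L P]
    refine ⟨hzQ, ⟨z, hzM⟩, Subgroup.mem_center_iff.mpr fun m => Subtype.ext ?_, rfl⟩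
    exact hfix m m.2
  exact Subgroup.mem_center_iff.mp this.2 g

end Cfsg.Agent.S5196
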