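import Cfsg.Statements.S5203
import Cfsg.Agent.Lib.Fusion.PPowerIndex
import Cfsg.Agent.Lib.Fusion.PPrimeResidual
import Cfsg.Agent.Lib.Fusion.Hyperfocal

set_option autoImplicit false
open Cfsg Cfsg.FusionSystem Cfsg.Agent.Lib Cfsg.Agent.Lib.Fusion

namespace Cfsg.Agent.S5203

universe u

variable {Ω : Type u} [Group Ω] {S T : Subgroup Ω} {F : Cfsg.FusionSystem S}
  {E : Cfsg.FusionSystem T} {p : ℕ}

theorem finite_of_subsystem (hEF : E.IsSubsystemOf F) : T ≤ S :=
  src_le (hEF T (E.conj_mem le_rfl T.one_mem))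

/-- A subsystem of `p`-power index has the same hyperfocal subgroup. -/
theorem hyperfocal_eq [Finite S] [Fact p.Prime] (hS : IsPGroup p S)
    (h : E.HasPPowerIndexIn F p) : E.hyperfocalSubgroup p = F.hyperfocalSubgroup p := by
  obtain ⟨hEF, hhyp, hres⟩ := h
  have hTS : T ≤ S := finite_of_subsystem hEF
  refine le_antisymm ?_ ?_
  · refine (Subgroup.closure_le _).2 ?_
    rintro _ ⟨P, α, x, hP, hα, rfl⟩
    obtain ⟨β, hβ, hβe⟩ := map_pResidual_autGroup_mono hEF P ⟨α, hα, rfl⟩
    exact Subgroup.subset_closure ⟨P, β, x, hP.trans hTS, hβ, by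
      rw [show (β : MulAut P) = (α : MulAut P) from hβe]⟩
  set W := E.hyperfocalSubgroup p with hW
  refine (Subgroup.closure_le _).2 ?_
  rintro _ ⟨P, α, x, hPS, hα, rfl⟩
  haveI : Finite P := Fusion.finite_of_le hPS
  haveI : Finite (P ⊓ T : Subgroup Ω) := Fusion.finite_of_le (inf_le_left.trans hPS)
  let K : Subgroup (F.autGroup P) :=
    { carrier := {a | ∀ x : P, (x : Ω)⁻¹ * ((a : MulAut P) x : Ω) ∈ W}
      one_mem' := fun x => by simp
      mul_mem' := by
        intro a b ha hb x
        simpa [mul_assoc] using W.mul_mem (hb x) (ha ((b : MulAut P) x))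
      inv_mem' := by
        intro a ha x
        have := W.inv_mem (ha ((a : MulAut P)⁻¹ x))
        rw [MulAut.apply_inv_self, mul_inv_rev, inv_inv] at this
        exact this }
  suffices h : pResidual p (F.autGroup P) ≤ K from h hα x
  refine Transfer.pResidual_le_iff.2 fun a ha x => ?_
  set y : P := x⁻¹ * (a : MulAut P) x with hy
  have hmove : ∀ z : P, (z : Ω)⁻¹ * ((a : MulAut P) z : Ω) ∈ T := fun z =>
    hhyp (Subgroup.subset_closure ⟨P, a, z, hPS, Transfer.mem_pResidual_of_coprime ha, rfl⟩)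
  have hinf : ∀ z : P, (z : Ω) ∈ T → ((a : MulAut P) z : Ω) ∈ P ⊓ T := fun z hz =>
    ⟨((a : MulAut P) z).2, by
      have := T.mul_mem hz (hmove z)
      rwa [mul_inv_cancel_left] at this⟩
  obtain ⟨β, hβ, hβx⟩ := exists_aut_of_hom
    (restrict_mem (autGroup_hom_mem hPS a.2) (inf_le_left : P ⊓ T ≤ P)) fun z => hinf _ z.2.2
  have hβE : β ∈ E.autGroup (P ⊓ T) ∧
      ∀ z : (P ⊓ T : Subgroup Ω), (z : Ω)⁻¹ * (β z : Ω) ∈ W := by
    have hpow : ∀ (j : ℕ) (z : (P ⊓ T : Subgroup Ω)), ((β ^ j) z : Ω) =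
        (((a : MulAut P) ^ j) (Subgroup.inclusion inf_le_left z) : Ω) := by
      intro j
      induction j with
      | zero => intro z; rfl
      | succ j ih =>
        intro z
        rw [pow_succ', pow_succ', MulAut.mul_apply, MulAut.mul_apply, hβx]
        show (((a : MulAut P) (Subgroup.inclusion inf_le_left ((β ^ j) z))) : Ω) = _
        exact congrArg (fun w => ((a : MulAut P) w : Ω)) (Subtype.ext (ih z))
    have hcop : (orderOf (⟨β, hβ⟩ : F.autGroup (P ⊓ T))).Coprime p := by
      refine Nat.Coprime.coprime_dvd_left (orderOf_dvd_of_pow_eq_one (Subtype.ext ?_)) ha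
      refine MulEquiv.ext fun z => Subtype.ext ?_
      show ((β ^ orderOf a) z : Ω) = (z : Ω)
      rw [hpow]
      have := congrArg Subtype.val (pow_orderOf_eq_one a)
      simp only [Subgroup.coe_pow, Subgroup.coe_one] at this
      rw [this]
      rfl
    obtain ⟨hβE, hcopE⟩ : ∃ hb : β ∈ E.autGroup (P ⊓ T),
        (orderOf (⟨β, hb⟩ : E.autGroup (P ⊓ T))).Coprime p := by
      have hb : β ∈ E.autGroup (P ⊓ T) :=
        hres _ inf_le_right ⟨⟨β, hβ⟩, Transfer.mem_pResidual_of_coprime hcop, rfl⟩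
      exact ⟨hb, by rwa [Subgroup.orderOf_mk] at hcop ⊢⟩
    exact ⟨hβE, fun z => Subgroup.subset_closure
      ⟨P ⊓ T, ⟨β, hβE⟩, z, inf_le_right, Transfer.mem_pResidual_of_coprime hcopE, rfl⟩⟩
  have hnormal : ∀ t ∈ T, ∀ w ∈ W, t * w * t⁻¹ ∈ W := fun t ht w hw =>
    hyperfocalSubgroup_conj E p ht hw
  -- the moved part is fixed modulo `W`
  have hyT : (y : Ω) ∈ T := by
    show (x : Ω)⁻¹ * ((a : MulAut P) x : Ω) ∈ T
    exact hmove x
  have hit : ∀ j : ℕ,
      ((y : Ω) ^ j)⁻¹ * ((x : Ω)⁻¹ * (((a : MulAut P) ^ j) x : Ω)) ∈ W := by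
    intro j
    induction j with
    | zero => simp
    | succ j ih =>
      -- `a (a^j x) = a x * a (x⁻¹ a^j x)`
      set u : P := x⁻¹ * ((a : MulAut P) ^ j) x with hu
      have e : ((a : MulAut P) ^ (j + 1)) x = x * y * (a : MulAut P) u := by
        rw [pow_succ', MulAut.mul_apply, hy, mul_inv_cancel_left, ← map_mul, hu,
          mul_inv_cancel_left]
      have huT : (u : Ω) ∈ T := by
        have h1 : (u : Ω) = (y : Ω) ^ j * (((y : Ω) ^ j)⁻¹ * (u : Ω)) :=
          (mul_inv_cancel_left _ _).symm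
        rw [h1]
        refine T.mul_mem (T.pow_mem hyT j) ?_
        exact hhyp' hEF (by simpa [hu] using ih)
      have h2 : (u : Ω)⁻¹ * ((a : MulAut P) u : Ω) ∈ W := by
        have := hβE.2 ⟨u, u.2, huT⟩
        rwa [hβx] at this
      rw [e]
      have h3 : ((y : Ω) ^ j)⁻¹ * (u : Ω) * ((u : Ω)⁻¹ * ((a : MulAut P) u : Ω)) ∈ W :=
        W.mul_mem (by simpa [hu] using ih) h2
      simpa [pow_succ', mul_assoc] using h3
  have hm := hit (orderOf a)
  have e : ((a : MulAut P) ^ orderOf a) = 1 := by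
    exact (SubmonoidClass.coe_pow a (orderOf a)).symm.trans
      (congrArg Subtype.val (pow_orderOf_eq_one a))
  rw [e, MulAut.one_apply, inv_mul_cancel, mul_one, inv_mem_iff] at hm
  show (y : Ω) ∈ W
  obtain ⟨k, hk⟩ := (hS.to_le hPS) y
  have hk' : (y : Ω) ^ p ^ k = 1 := by simpa using congrArg Subtype.val hk
  obtain ⟨t, ht⟩ := exists_pow_eq_self_of_coprime (x := (y : Ω)) (n := orderOf a) (by
    exact Nat.Coprime.coprime_dvd_right (orderOf_dvd_of_pow_eq_one hk')
      (Nat.Coprime.pow_right k ha))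
  rw [← ht]
  exact W.pow_mem hm t
where
  hhyp' (hEF : E.IsSubsystemOf F) {w : Ω} (hw : w ∈ E.hyperfocalSubgroup p) : w ∈ T :=
    hyperfocalSubgroup_le_self E p hw

theorem hasPPowerIndexIn_self [Finite S] : F.HasPPowerIndexIn F p :=
  ⟨fun _ _ h => h, hyperfocalSubgroup_le_self F p, fun _ _ => Subgroup.map_subtype_le _⟩

theorem hasPPowerIndexIn_trans [Finite S] [Fact p.Prime] (hS : IsPGroup p S)
    (h : E.HasPPowerIndexIn F p) {U : Subgroup Ω} {D : Cfsg.FusionSystem U}
    (hD : D.HasPPowerIndexIn E p) : D.HasPPowerIndexIn F p := by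
  have hUT : U ≤ T := finite_of_subsystem hD.1
  refine ⟨fun P φ hφ => h.1 P (hD.1 P hφ), (hyperfocal_eq hS h).symm.trans_le hD.2.1,
    fun P hP => le_trans ?_ (hD.2.2 P hP)⟩
  rintro _ ⟨α, hα, rfl⟩
  have h1 : pResidual p (F.autGroup P) ≤
      ((pResidual p (E.autGroup P)).map (E.autGroup P).subtype).comap (F.autGroup P).subtype := by
    refine Transfer.pResidual_le_iff.2 fun g hg => ?_
    have hgE : (g : MulAut P) ∈ E.autGroup P :=
      h.2.2 P (hP.trans hUT) ⟨g, Transfer.mem_pResidual_of_coprime hg, rfl⟩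
    exact Transfer.mem_map_pResidual_of_coprime hgE (by rwa [← Subgroup.orderOf_coe] at hg)
  exact h1 hα

/-- A limit reached through a copy of the hyperfocal subgroup. -/
theorem limit_step {U V : Subgroup Ω} (hU : U = F.hyperfocalSubgroup p)
    (D D' : Cfsg.FusionSystem U) {L : Cfsg.FusionSystem V} (hD : D.IsSaturated p)
    (hDi : D.HasPPowerIndexIn F p) (hD' : D.IsPPrimeResidual p D')
    (hL : L.IsResidualLimitOf D' p) : L.IsResidualLimitOf F p := by
  subst hU
  exact .step F p D D' ⟨hD, hDi⟩ hD' hL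

theorem stable_step [Finite S] [Fact p.Prime] (hS : IsPGroup p S) (hres : F.IsPPrimeResidual p F)
    {U : Subgroup Ω} (hU : U = S) (D D' : Cfsg.FusionSystem U)
    (hD : D.IsSaturated p) (hDi : D.HasPPowerIndexIn F p) (hD' : D.IsPPrimeResidual p D') :
    D'.IsPPrimeResidual p D' ∧ D'.hyperfocalSubgroup p = F.hyperfocalSubgroup p ∧
      ∀ P, D'.Hom P = F.Hom P := by
  subst hU
  obtain rfl : D = F := hasPPowerIndexIn_unique hS hD hDi hres.1 hasPPowerIndexIn_self
  obtain rfl : D' = D :=
    fusionSystem_eq_of_le (fun P => (isPPrimeResidual_unique hD' hres P).le)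
      (fun P => (isPPrimeResidual_unique hD' hres P).ge)
  exact ⟨hres, rfl, fun _ => rfl⟩

/-- A stable system is its only limit. -/
theorem limit_of_stable {V : Subgroup Ω} {L : Cfsg.FusionSystem V}
    {U : Subgroup Ω} {G : Cfsg.FusionSystem U} (h : L.IsResidualLimitOf G p) :
    ∀ [Fact p.Prime] [Finite U], IsPGroup p U → G.hyperfocalSubgroup p = U →
      G.IsPPrimeResidual p G →
      ∀ P, L.Hom P = G.Hom P := by
  induction h with
  | stable F p _ _ => intro _ _ _ _ _ P; rfl
  | step F p D D' hD hD' _ ih =>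
    intro _ _ hS hyp hres P
    haveI : Finite (F.hyperfocalSubgroup p) :=
      Fusion.finite_of_le (hyperfocalSubgroup_le_self F p)
    obtain ⟨h1, h2, h3⟩ := stable_step hS hres hyp D D' hD.1 hD.2 hD'
    exact (ih (hS.to_le (hyperfocalSubgroup_le_self F p)) h2 h1 P).trans (h3 P)

/-- Residual limits are unique. -/
theorem limit_unique {V : Subgroup Ω} {L : Cfsg.FusionSystem V}
    {U : Subgroup Ω} {G : Cfsg.FusionSystem U} (h : L.IsResidualLimitOf G p) :
    ∀ [Fact p.Prime] [Finite U], IsPGroup p U → ∀ {V' : Subgroup Ω} {L' : Cfsg.FusionSystem V'},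
      L'.IsResidualLimitOf G p → ∀ P, L'.Hom P = L.Hom P := by
  induction h with
  | stable F p hyp hres =>
    intro _ _ hS V' L' h' P
    exact limit_of_stable h' hS hyp hres P
  | step F p D D' hD hD' hL ih =>
    intro _ _ hS V' L' h' P
    haveI : Finite (F.hyperfocalSubgroup p) :=
      Fusion.finite_of_le (hyperfocalSubgroup_le_self F p)
    have hH := hS.to_le (hyperfocalSubgroup_le_self F p)
    cases h' with
    | stable _ _ hyp hres =>
      exact (limit_of_stable (IsResidualLimitOf.step F p D D' hD hD' hL) hS hyp hres P).symm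
    | step _ _ D₂ D₂' hD₂ hD₂' hL₂ =>
      obtain rfl : D₂ = D := hasPPowerIndexIn_unique hH hD₂.1 hD₂.2 hD.1 hD.2
      obtain rfl : D₂' = D' :=
        fusionSystem_eq_of_le (fun P => (isPPrimeResidual_unique hD₂' hD' P).le)
          (fun P => (isPPrimeResidual_unique hD₂' hD' P).ge)
      exact ih hH hL₂ P

/-- Let F be a saturated fusion system over a finite p-group S and E a normal subsystem of F over T that has p-power index in F. Then every residual limit of E has the same maps as every residual limit of F (the residual limit is reached by alternately passing to the p-residual and the p'-residual subsystem until nothing changes). -/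
theorem result {Ω : Type*} [Group Ω] {S : Subgroup Ω} [Finite S] (p : ℕ) [Fact p.Prime] (hS : IsPGroup p S) (F : Cfsg.FusionSystem S) (hF : F.IsSaturated p) {T : Subgroup Ω} (E : Cfsg.FusionSystem T) (hE : E.IsNormalIn F p) (hidx : E.HasPPowerIndexIn F p) {U V : Subgroup Ω} (Finf : Cfsg.FusionSystem U) (hFinf : Finf.IsResidualLimitOf F p) (Einf : Cfsg.FusionSystem V) (hEinf : Einf.IsResidualLimitOf E p) : ∀ P : Subgroup Ω, Finf.Hom P = Einf.Hom P := by

  haveI : Finite T := Fusion.finite_of_le (finite_of_subsystem hidx.1)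
  have hhyp := hyperfocal_eq hS hidx
  have hlim : Einf.IsResidualLimitOf F p := by
    cases hEinf with
    | stable _ _ hyp hres =>
      exact limit_step (hyp.symm.trans hhyp) E E hres.1 hidx hres (.stable E p hyp hres)
    | step _ _ D D' hD hD' hL =>
      exact limit_step hhyp D D' hD.1 (hasPPowerIndexIn_trans hS hidx hD.2) hD' hL
  exact fun P => limit_unique hlim hS hFinf P

end Cfsg.Agent.S5203
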