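import Cfsg.Statements.S5201
import Cfsg.Agent.S5203
import Cfsg.Agent.Lib.Fusion.ResLimit.Chain

set_option autoImplicit false
open Cfsg

namespace Cfsg.Agent.S5201

/-- A reduction to normal subsystems. Let F be a saturated fusion system over a finite p-group S and E a normal subsystem of F over T whose centralizer in S lies in T (every subgroup Y of C_S(T) with E contained in the centralizer fusion system of Y in F satisfies Y ≤ T), and suppose Aut_F(T)/Aut_E(T) is p-solvable. Then F and E have the same residual limit: if F∞ is the residual limit of F (reached by alternately passing to the p-residual and the p'-residual subsystem until nothing changes) and E∞ that of E, then F∞ and E∞ have the same maps. -/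
theorem result {Ω : Type*} [Group Ω] {S : Subgroup Ω} [Finite S] (p : ℕ) [Fact p.Prime] (hS : IsPGroup p S) (F : Cfsg.FusionSystem S) (hF : F.IsSaturated p) {T : Subgroup Ω} (E : Cfsg.FusionSystem T) (hE : E.IsNormalIn F p) (hCE : ∀ Y : Subgroup Ω, Y ≤ Cfsg.FusionSystem.centralizerIn S T → (∀ C : Cfsg.FusionSystem (Cfsg.FusionSystem.centralizerIn S Y), F.IsCentralizerSystem Y C → E.IsSubsystemOf C) → Y ≤ T) [hn : ((E.autGroup T).subgroupOf (F.autGroup T)).Normal] (hsolv : Cfsg.IsPSolvable p (↥(F.autGroup T) ⧸ (E.autGroup T).subgroupOf (F.autGroup T))) {U V : Subgroup Ω} (Finf : Cfsg.FusionSystem U) (hFinf : Finf.IsResidualLimitOf F p) (Einf : Cfsg.FusionSystem V) (hEinf : Einf.IsResidualLimitOf E p) : ∀ P : Subgroup Ω, Finf.Hom P = Einf.Hom P := by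
  obtain ⟨G, hG, hEG, hAut, hlim⟩ := Cfsg.Agent.Lib.Fusion.ResLimit.exists_system hS hE hsolv
  have hTS : T ≤ S := hE.1.2.2.2.1.1
  have hcf : Cfsg.Agent.Lib.Fusion.centFix F E p hTS ≤ T :=
    hCE _ Cfsg.Agent.Lib.Fusion.centFix_le_centralizerIn fun C hC P => by
      rw [hC P]
      exact Cfsg.Agent.Lib.Fusion.hom_subset_centralizerHom_centFix hS hE P
  have hWS : T ⊔ Cfsg.FusionSystem.centralizerIn S T ≤ S := hG.1.2.2.2.1.1
  haveI : Finite (T ⊔ Cfsg.FusionSystem.centralizerIn S T : Subgroup Ω) :=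
    Cfsg.Agent.Lib.Fusion.finite_of_le hWS
  haveI : Finite T := Cfsg.Agent.Lib.Fusion.finite_of_le hTS
  have h := Cfsg.Agent.Lib.Fusion.ResLimit.limit_transfer (hlim Finf hFinf) E (hS.to_le hWS)
    hG.1.1 hEG (Cfsg.Agent.Lib.Fusion.ResLimit.hyperfocal_le hS hE hTS hcf hG hEG hAut)
  exact fun P => (Cfsg.Agent.S5203.limit_unique h (hS.to_le hTS) hEinf P).symm

end Cfsg.Agent.S5201
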