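import Cfsg.Statements.S5206
import Cfsg.Agent.Lib.Fusion.QdWitness
import Cfsg.Agent.Lib.Fusion.GroupFusion

set_option autoImplicit false
universe u
open Cfsg Cfsg.FusionSystem Cfsg.Agent.Lib.Fusion Cfsg.Agent.Lib

namespace Cfsg.Agent.S5206

/-- Let p be an odd prime, G a finite group and P a Sylow p-subgroup of G. Then the fusion system of G on P is Qd(p)-free (Qd(p), the natural semidirect product of an elementary abelian group of order p² by SL₂(p), is not involved in any model of the normalizer system of a fully normalized centric subgroup) if and only if Qd(p) is not involved in G. -/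
theorem result {G : Type u} [Group G] [Finite G] {p : ℕ} [Fact p.Prime] (hp : p ≠ 2) (P : Sylow p G) : (Cfsg.groupFusionSystem (P : Subgroup G)).IsSectionFree p ↥(Cfsg.qd p) ↔ ¬ Cfsg.Involves ↥(Cfsg.qd p) G := by
  rw [isSectionFree_qd_iff P.2 (isSaturated_groupFusion P)]
  refine not_congr ⟨fun hw => ?_, fun h => ?_⟩
  · obtain ⟨Q, hQ, f, hadd, hsurj, hact⟩ := hw
    refine QdWitness.involves_of_hasGroupWitness ⟨Q, P.2.to_le hQ, f, hadd, hsurj, fun A => ?_⟩
    obtain ⟨α, hα, hαA⟩ := hact A
    rw [autGroup_groupFusion hQ] at hα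
    obtain ⟨g, hg, -, rfl⟩ := mem_autInducedBy_normalizer.1 hα
    exact ⟨g, hg, fun x hx => hαA x⟩
  · refine hasQdWitness_of_realized (ι := (P : Subgroup G).subtype)
      ⟨Subgroup.subtype_injective _, fun R hR φ hφ => ?_⟩ ⟨P, (Subgroup.range_subtype _).symm⟩ h
    exact ⟨fun ⟨_, _, g, hg⟩ => ⟨g, fun x => hg x⟩, fun ⟨g, hg⟩ => ⟨hR, hφ, g, fun x => hg x⟩⟩

end Cfsg.Agent.S5206
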