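import Cfsg.Statements.S5214
import Mathlib
import Cfsg.Agent.Lib.SuzukiTwo.Second
import Cfsg.Agent.Lib.Fusion87.Resistant

set_option autoImplicit false
open Cfsg

namespace Cfsg.Agent.S5214

/-- Let S be a Suzuki 2-group (a finite nonabelian 2-group with more than one involution admitting a cyclic group of automorphisms permuting its involutions regularly). Then S is normal in every saturated fusion system over S (such a group is resistant). -/
theorem result {Ω : Type*} [Group Ω] {S : Subgroup Ω} [Finite S] (hS : IsPGroup 2 S) (F : Cfsg.FusionSystem S) (hF : F.IsSaturated 2) (hsz : Cfsg.IsSuzukiTwoGroup ↥S) : F.IsNormal S := by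
  haveI : Fact (Nat.Prime 2) := ⟨Nat.prime_two⟩
  obtain ⟨k, hk⟩ := Cfsg.Agent.Lib.SuzukiTwo.exists_regGen hsz
  have hc := (Cfsg.Agent.Lib.SuzukiTwo.squares_central hsz hk).2
  have hz := Cfsg.Agent.Lib.SuzukiTwo.center_elementary hsz
  refine Cfsg.Agent.Lib.Fusion87.isNormal_of_class_two hS hF (fun x hx h y hy => ?_)
    fun x hx y hy => ?_
  · have h' : (⟨x, hx⟩ : S) * ⟨x, hx⟩ = 1 := Subtype.ext (by rw [← pow_two, Subgroup.coe_pow]; exact h)
    have := Subgroup.mem_center_iff.mp
      (Cfsg.Agent.Lib.SuzukiTwo.involution_central hk hsz.2.1 h') ⟨y, hy⟩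
    exact (congrArg Subtype.val this).symm
  · have := hz _ (hc (⟨x, hx⟩ : S) ⟨y, hy⟩)
    rw [← pow_two] at this
    exact congrArg Subtype.val this

end Cfsg.Agent.S5214
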