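import Cfsg.Statements.S5218
import Cfsg.Agent.Lib.Fusion.BoundedClassNormal
import Cfsg.Agent.Lib.Fusion.ThompsonF

set_option autoImplicit false
open Cfsg Cfsg.FusionSystem Cfsg.Agent.Lib.Fusion

namespace Cfsg.Agent.S5218

/-- Let p be a prime, n a natural number, S a nontrivial finite p-group of nilpotence class at most n(p−1)+1, and F a saturated fusion system over S. Then the subgroup generated by the pⁿ-th powers of the elements of Z(S) is normal in F. -/
theorem result {Ω : Type*} [Group Ω] {S : Subgroup Ω} [Finite S] (p : ℕ) [Fact p.Prime] (hS : IsPGroup p S) (F : Cfsg.FusionSystem S) (hF : F.IsSaturated p) (n : ℕ) (hS1 : S ≠ ⊥) (hcl : Subgroup.lowerCentralSeries S (n * (p - 1) + 1) = ⊥) : F.IsNormal (Cfsg.powerClosure p n (S ⊓ Subgroup.centralizer (S : Set Ω))) := by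
  have hmem : ∀ a ∈ Cfsg.powerClosure p n (S ⊓ Subgroup.centralizer (S : Set Ω)),
      ∃ y ∈ S ⊓ Subgroup.centralizer (S : Set Ω), a = y ^ p ^ n := by
    intro a ha
    induction ha using Subgroup.closure_induction with
    | mem x hx => exact hx
    | one => exact ⟨1, one_mem _, (one_pow _).symm⟩
    | mul a b _ _ ha hb =>
      obtain ⟨y, hy, rfl⟩ := ha
      obtain ⟨w, hw, rfl⟩ := hb
      exact ⟨y * w, mul_mem hy hw,
        ((show Commute y w from (Subgroup.mem_centralizer_iff.mp hy.2 w hw.1).symm).mul_pow _).symm⟩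
    | inv a _ ha =>
      obtain ⟨y, hy, rfl⟩ := ha
      exact ⟨y⁻¹, inv_mem hy, (inv_pow y _).symm⟩
  refine isNormal_of_class hS hF hcl le_rfl hmem ?_
  refine Subgroup.characteristic_iff_le_comap.mpr fun φ x hx => ?_
  obtain ⟨y, hy, hxy⟩ := hmem _ hx
  have hc := Subgroup.characteristic_iff_le_comap.mp (center_characteristic S) φ
    (show (⟨y, hy.1⟩ : S) ∈ (S ⊓ Subgroup.centralizer (S : Set Ω)).subgroupOf S from hy)
  refine Subgroup.subset_closure ⟨((φ ⟨y, hy.1⟩ : S) : Ω), hc, ?_⟩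
  rw [show x = (⟨y, hy.1⟩ : S) ^ p ^ n from Subtype.ext hxy, map_pow]
  rfl

end Cfsg.Agent.S5218
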