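import Cfsg.Statements.S5219
import Cfsg.Agent.S5218

set_option autoImplicit false
open Cfsg Cfsg.FusionSystem Cfsg.Agent.Lib.Fusion
open scoped commutatorElement

namespace Cfsg.Agent.S5219

/-- The factors of the upper central series have exponent dividing that of the centre. -/
theorem pow_mem_upperCentralSeries {G : Type*} [Group G] {k : ℕ}
    (hk : ∀ z ∈ Subgroup.center G, z ^ k = 1) :
    ∀ (i : ℕ) (x : G), x ∈ Subgroup.upperCentralSeries G (i + 1) →
      x ^ k ∈ Subgroup.upperCentralSeries G i := by
  intro i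
  induction i with
  | zero =>
    intro x hx
    rw [Subgroup.upperCentralSeries_one] at hx
    rw [Subgroup.upperCentralSeries_zero, Subgroup.mem_bot]
    exact hk x hx
  | succ i ih =>
    intro x hx
    rw [Subgroup.mem_upperCentralSeries_succ_iff] at hx ⊢
    intro g
    let q := QuotientGroup.mk' (Subgroup.upperCentralSeries G i)
    have hu : ∀ a : G, a ∈ Subgroup.upperCentralSeries G (i + 1) → ∀ b : G,
        q a * q b = q b * q a := by
      intro a ha b
      have := (QuotientGroup.eq_one_iff _).mpr (Subgroup.mem_upperCentralSeries_succ_iff.mp ha b)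
      rw [← QuotientGroup.mk'_apply] at this
      rw [map_commutatorElement] at this
      exact commutatorElement_eq_one_iff_mul_comm.mp this
    have hxg : q x * q g * (q x)⁻¹ = q ⁅x, g⁆ * q g := by
      rw [map_commutatorElement, commutatorElement_def]
      group
    have hind : ∀ j : ℕ, q x ^ j * q g * (q x ^ j)⁻¹ = q ⁅x, g⁆ ^ j * q g := by
      intro j
      induction j with
      | zero => simp
      | succ j ihj =>
        have hc : Commute (q x) (q ⁅x, g⁆ ^ j) :=
          (show Commute (q x) (q ⁅x, g⁆) from (hu _ (hx g) x).symm).pow_right j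
        calc q x ^ (j + 1) * q g * (q x ^ (j + 1))⁻¹
            = q x * (q x ^ j * q g * (q x ^ j)⁻¹) * (q x)⁻¹ := by rw [pow_succ']; group
          _ = q ⁅x, g⁆ ^ j * (q x * q g * (q x)⁻¹) := by
              rw [ihj, ← mul_assoc (q x), hc.eq]; group
          _ = q ⁅x, g⁆ ^ (j + 1) * q g := by rw [hxg, ← mul_assoc, pow_succ]
    refine (QuotientGroup.eq_one_iff _).mp ?_
    rw [← QuotientGroup.mk'_apply, map_commutatorElement, commutatorElement_def, map_pow, hind,
      mul_inv_cancel_right, ← map_pow]
    exact (QuotientGroup.eq_one_iff _).mpr (ih _ (hx g))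

/-- Let p be a prime, n a natural number, S a nontrivial finite p-group of nilpotence class at most n(p−1)+1, and F a saturated fusion system over S with no nontrivial normal subgroup (O_p(F) = 1). Then S has exponent dividing p^(n²(p−1)+n). -/
theorem result {Ω : Type*} [Group Ω] {S : Subgroup Ω} [Finite S] (p : ℕ) [Fact p.Prime] (hS : IsPGroup p S) (F : Cfsg.FusionSystem S) (hF : F.IsSaturated p) (n : ℕ) (hS1 : S ≠ ⊥) (hcl : Subgroup.lowerCentralSeries S (n * (p - 1) + 1) = ⊥) (hcore : F.core = ⊥) : Monoid.exponent ↥S ∣ p ^ (n ^ 2 * (p - 1) + n) := by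
  have hbot : ∀ z ∈ S ⊓ Subgroup.centralizer (S : Set Ω), z ^ p ^ n = 1 := by
    intro z hz
    have h1 : Cfsg.powerClosure p n (S ⊓ Subgroup.centralizer (S : Set Ω)) ≤ F.core :=
      le_sSup (Cfsg.Agent.S5218.result p hS F hF n hS1 hcl)
    rw [hcore] at h1
    exact Subgroup.mem_bot.mp (h1 (Subgroup.subset_closure ⟨z, hz, rfl⟩))
  have hk : ∀ z ∈ Subgroup.center S, z ^ p ^ n = 1 := fun z hz => Subtype.ext
    (hbot _ ⟨z.2, Subgroup.mem_centralizer_iff.mpr fun s hs =>
      congrArg Subtype.val (Subgroup.mem_center_iff.mp hz ⟨s, hs⟩)⟩)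
  set m := n * (p - 1) + 1 with hm
  have htop : Subgroup.upperCentralSeries S m = ⊤ := by
    refine Subgroup.lowerCentralSeries_eq_bot_iff_upperCentralSeries_eq_top.mp ?_
    refine (Subgroup.map_eq_bot_iff_of_injective _ S.subtype_injective).mp ?_
    rw [Subgroup.top_subtype_lowerCentralSeries, hcl]
  have hdesc : ∀ (i : ℕ) (x : S), x ∈ Subgroup.upperCentralSeries S i → x ^ p ^ (n * i) = 1 := by
    intro i
    induction i with
    | zero => intro x hx; simpa using hx
    | succ i ih =>
      intro x hx
      rw [Nat.mul_succ, Nat.add_comm, pow_add, pow_mul]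
      exact ih _ (pow_mem_upperCentralSeries hk i x hx)
  have he : n ^ 2 * (p - 1) + n = n * m := by rw [hm]; ring
  rw [he]
  exact Monoid.exponent_dvd_of_forall_pow_eq_one fun x => hdesc m x (htop ▸ Subgroup.mem_top x)

end Cfsg.Agent.S5219
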