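import Cfsg.Statements.S5222
import Cfsg.Agent.Lib.Fusion.Tate
import Cfsg.Agent.Lib.Fusion.KNormalizer

set_option autoImplicit false
open scoped commutatorElement
open Cfsg Cfsg.FusionSystem Cfsg.Agent.Lib.Fusion

namespace Cfsg.Agent.S5222

theorem key {Ω : Type*} [Group Ω] {S : Subgroup Ω} [Finite S] {p : ℕ} [Fact p.Prime]
    (hS : IsPGroup p S) (F : Cfsg.FusionSystem S) (hA : F.autGroup S ≤ autInducedBy S S)
    {T Q : Subgroup Ω} (hT : T = S) (N : Cfsg.FusionSystem T) (hsat : N.IsSaturated p)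
    (hsub : N.IsSubsystemOf F) (hQ : N.StronglyClosed Q) (h1 : ⁅S, S⁆ ≤ Q)
    (h2 : Q ≤ (frattini ↥S).map S.subtype) (P : Subgroup Ω) :
    N.Hom P = (Cfsg.innerFusionSystem T).Hom P := by
  subst hT
  exact hom_eq_inner_of_focal_le_frattini hS hsat
    ((focalSubgroup_le_of_stronglyClosed hS hsat ((autGroup_mono hsub T).trans hA) hQ h1).trans h2) P

/-- Let F be a saturated fusion system over a finite p-group S whose normalizer fusion system of S is the inner fusion system of S (Aut_F(S) is a p-group). Then for every subgroup Q of S with [S, S] ≤ Q ≤ Φ(S), the normalizer fusion system of Q in F is the inner fusion system of N_S(Q) = S. -/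
theorem result {Ω : Type*} [Group Ω] {S : Subgroup Ω} [Finite S] (p : ℕ) [Fact p.Prime] (hS : IsPGroup p S) (F : Cfsg.FusionSystem S) (hF : F.IsSaturated p) (hN : ∀ N : Cfsg.FusionSystem (Cfsg.FusionSystem.normalizerIn S S), F.IsNormalizerSystem S N → ∀ P : Subgroup Ω, N.Hom P = (Cfsg.innerFusionSystem (Cfsg.FusionSystem.normalizerIn S S)).Hom P) (Q : Subgroup Ω) (h1 : (commutator ↥S).map S.subtype ≤ Q) (h2 : Q ≤ (frattini ↥S).map S.subtype) : ∀ N : Cfsg.FusionSystem (Cfsg.FusionSystem.normalizerIn S Q), F.IsNormalizerSystem Q N → ∀ P : Subgroup Ω, N.Hom P = (Cfsg.innerFusionSystem (Cfsg.FusionSystem.normalizerIn S Q)).Hom P := by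
  intro M hM P
  rw [map_commutator_top_subtype] at h1
  have hQS : Q ≤ S := h2.trans (Subgroup.map_subtype_le _)
  have hQn : normalizerIn S Q = S := by
    refine le_antisymm inf_le_left (le_inf le_rfl fun g hg => Subgroup.mem_normalizer_iff.mpr fun x => ?_)
    have key : ∀ g ∈ S, ∀ x ∈ Q, g * x * g⁻¹ ∈ Q := fun g hg x hx => by
      have := Q.mul_mem (h1 (Subgroup.commutator_mem_commutator hg (hQS hx))) hx
      simpa [commutatorElement_def, mul_assoc] using this
    refine ⟨key g hg x, fun hx => ?_⟩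
    simpa [mul_assoc] using key _ (inv_mem hg) _ hx
  have hFN : F.IsFullyNormalized Q :=
    ⟨hQS, fun R _ => by rw [hQn]; exact Subgroup.card_le_of_le inf_le_left⟩
  have hsat := isSaturated_normalizerSystem hS hF hFN hM
  refine key hS F (autGroup_le_of_normalizer_inner hN) hQn M hsat
    (fun R φ hφ => by rw [hM R] at hφ; exact hφ.1) ⟨le_normalizerIn hQS, fun R hR φ hφ x => ?_⟩ h1 h2 P
  rw [hM R] at hφ
  obtain ⟨-, -, -, ψ, -, hψe, hψQ⟩ := hφ
  rw [← hψe x]
  exact hψQ.le (apply_mem_imgSub ψ _ (hR x.2))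

end Cfsg.Agent.S5222
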