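import Cfsg.Statements.S5223
import Cfsg.Agent.Lib.Fusion.Tate
import Cfsg.Agent.Lib.Fusion87.Stabilizer

set_option autoImplicit false
open Cfsg Cfsg.FusionSystem Cfsg.Agent.Lib.Fusion

namespace Cfsg.Agent.S5223

/-- Let F be a saturated fusion system over a finite p-group S. Suppose there are subgroups Q₀ = S, Q₁, …, Qₙ = 1 (not required to be nested) such that for each i < n the focal subgroup of Qᵢ (generated by the elements x⁻¹φ(x), x ∈ Qᵢ, φ a map of F defined on the cyclic group generated by x) lies in Qᵢ₊₁. Then F is the inner fusion system of S. -/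
theorem result {Ω : Type*} [Group Ω] {S : Subgroup Ω} [Finite S] (p : ℕ) [Fact p.Prime] (hS : IsPGroup p S) (F : Cfsg.FusionSystem S) (hF : F.IsSaturated p) (n : ℕ) (Q : Fin (n + 1) → Subgroup Ω) (hQ0 : Q 0 = S) (hQn : Q (Fin.last n) = ⊥) (hstep : ∀ i : Fin n, Subgroup.closure {y : Ω | ∃ x ∈ Q i.castSucc, ∃ φ ∈ F.Hom (Subgroup.zpowers x), y = x⁻¹ * φ ⟨x, Subgroup.mem_zpowers x⟩} ≤ Q i.succ) : ∀ P : Subgroup Ω, F.Hom P = (Cfsg.innerFusionSystem S).Hom P := by
  refine hom_eq_inner_of_hyperfocal_eq_bot hS hF (eq_bot_iff.mpr ((Subgroup.closure_le _).2 ?_))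
  rintro _ ⟨P, α, x, hP, hα, rfl⟩
  have hfix : ∀ (β : F.autGroup P), (orderOf β).Coprime p →
      ∀ (i : Fin (n + 1)) (y : P), (y : Ω) ∈ Q i → (β : MulAut P) y = y := by
    intro β hβ i
    induction i using Fin.reverseInduction with
    | last =>
      intro y hy
      rw [hQn, Subgroup.mem_bot] at hy
      have : y = 1 := Subtype.ext hy
      rw [this, map_one]
    | cast i ih =>
      intro y hy
      refine Cfsg.Agent.Lib.Fusion87.fix_of_step (p := p) _ ?_ y (ih _ ?_) ?_
      · rwa [Subgroup.orderOf_coe]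
      · refine hstep i (Subgroup.subset_closure ⟨y, hy, _,
          restrict_mem (autGroup_hom_mem hP β.2) (Subgroup.zpowers_le.mpr y.2), rfl⟩)
      · obtain ⟨k, hk⟩ := (hS.to_le hP) (y⁻¹ * (β : MulAut P) y)
        exact ⟨k, hk⟩
  have : ∀ y : P, (α : MulAut P) y = y := by
    refine Subgroup.closure_induction (p := fun (β : F.autGroup P) _ => ∀ y : P, (β : MulAut P) y = y)
      (fun β hβ y => hfix β hβ 0 y (hQ0.symm ▸ hP y.2)) (fun _ => rfl) ?_ ?_ hα
    · intro a b _ _ ha hb y
      simp [ha, hb]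
    · intro a _ ha y
      conv_lhs => rw [← ha y]
      simp
  simp [this x]

end Cfsg.Agent.S5223
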