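import Cfsg.Statements.S5225
import Cfsg.Agent.Lib.Fusion.YoshidaFusion
import Cfsg.Agent.Lib.Fusion.KNormalizer
import Cfsg.Agent.Lib.Fusion.InnerReduction

set_option autoImplicit false
open Cfsg Cfsg.FusionSystem Cfsg.Agent.Lib.Fusion

namespace Cfsg.Agent.S5225

/-- Yoshida's Theorem for fusion systems. Let F be a saturated fusion system over a finite p-group S and N the normalizer fusion system of S in F. If the focal subgroups of F and N differ (N does not control transfer in F), then S has a quotient isomorphic to the wreath product C_p ≀ C_p (realised as a Sylow p-subgroup of the symmetric group of degree p²). -/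
theorem result {Ω : Type*} [Group Ω] {S : Subgroup Ω} [Finite S] (p : ℕ) [Fact p.Prime] (hS : IsPGroup p S) (F : Cfsg.FusionSystem S) (hF : F.IsSaturated p) (N : Cfsg.FusionSystem (Cfsg.FusionSystem.normalizerIn S S)) (hN : F.IsNormalizerSystem S N) (hne : N.focalSubgroup ≠ F.focalSubgroup) : ∃ (W : Sylow p (Equiv.Perm (Fin (p ^ 2)))) (f : ↥S →* ↥(W : Subgroup (Equiv.Perm (Fin (p ^ 2))))), Function.Surjective f := by
  by_contra hcon
  have hfree : Cfsg.Agent.Lib.YoshidaTransfer.NoWreathQuotient p ↥S := fun W f hf => hcon ⟨W, f, hf⟩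
  have hfn := isFullyNormalized_top F
  have hNsat := isSaturated_normalizerSystem hS hF hfn hN
  have hSn : normalizerIn S S = S := normalizerIn_self S
  apply hne
  refine (?_ : F.focalSubgroup = N.focalSubgroup).symm
  revert N
  intro N hN hne hNsat
  have key : ∀ (T : Subgroup Ω) (hT : T = S) (N : Cfsg.FusionSystem T), N.IsSaturated p →
      N.IsSubsystemOf F → F.Hom S ⊆ N.Hom S → F.focalSubgroup = N.focalSubgroup := by
    rintro T rfl N hNs hNF hS'
    exact focalSubgroup_eq_of_noWreathQuotient hS hF hfree hNs hNF hS'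
  refine key _ hSn N hNsat (fun P φ hφ => ((hN P).subset hφ).1) fun φ hφ => ?_
  rw [hN]
  refine ⟨hφ, hSn.ge, fun x => hSn.symm ▸ val_mem hφ x,
    φ.comp (Subgroup.inclusion (sup_idem S).le), restrict_mem hφ _, fun x => rfl, ?_⟩
  refine Subgroup.eq_of_le_of_card_ge ?_ (card_imgSub
    (F.injective_of_mem (restrict_mem hφ (sup_idem S).le)) le_sup_right).ge
  intro y hy
  obtain ⟨z, -, rfl⟩ := mem_imgSub.1 hy
  exact val_mem hφ _

end Cfsg.Agent.S5225
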