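import Cfsg.Statements.S5226
import Cfsg.Agent.Lib.Fusion87.Normal
import Cfsg.Agent.Lib.Fusion.NormExt

set_option autoImplicit false
open Cfsg Cfsg.FusionSystem Cfsg.Agent.Lib.Fusion Cfsg.Agent.Lib.Fusion87

namespace Cfsg.Agent.S5226

open scoped commutatorElement

variable {Ω : Type*} [Group Ω] {S : Subgroup Ω} {F : Cfsg.FusionSystem S} {p : ℕ}

theorem apply_mem_of_weaklyClosed {W P : Subgroup Ω} (hW : F.WeaklyClosed W) {φ : P →* Ω}
    (hφ : φ ∈ F.Hom P) (hWP : W ≤ P) (x : P) (hx : (x : Ω) ∈ W) : φ x ∈ W :=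
  (hW.2 _ (restrict_mem hφ hWP)).le ⟨⟨x, hx⟩, rfl⟩

theorem weaklyClosed_le_normalizer {W : Subgroup Ω} (hW : F.WeaklyClosed W) :
    S ≤ Subgroup.normalizer (W : Set Ω) := by
  intro s hs
  have key : ∀ t ∈ S, ∀ x ∈ W, t * x * t⁻¹ ∈ W := fun t ht x hx =>
    apply_mem_of_weaklyClosed hW (F.conj_mem hW.1 ht) le_rfl ⟨x, hx⟩ hx
  rw [Subgroup.mem_normalizer_iff]
  refine fun x => ⟨key s hs x, fun hx => ?_⟩
  have := key _ (inv_mem hs) _ hx
  simpa [mul_assoc] using this

theorem series_step [Fact p.Prime] [Finite S] (hS : IsPGroup p S) {Q : Subgroup Ω}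
    (hQ : F.StronglyClosed Q) (c : ℕ → Subgroup Ω) (j : ℕ) (h0 : c 0 = ⊥)
    (hcQ : c (j + 1) ≤ Q) (hnorm : S ≤ Subgroup.normalizer (c (j + 1) : Set Ω))
    (hwc : ∀ i ≤ j, F.WeaklyClosed (c i))
    (hcent : ∀ i ≤ j, ∀ x ∈ c (i + 1), ∀ q ∈ Q, ⁅x, q⁆ ∈ c i)
    {R : Subgroup Ω} (hRc : F.IsCentric R) (hRr : F.IsRadical p R)
    (hR : ∀ i ≤ j, c i ≤ R) : c (j + 1) ≤ R := by
  have hRS := hRc.1
  haveI := finite_mulAut (S := S) hRS
  refine le_of_normalizerIn_le hS hRS (hcQ.trans hQ.1) hnorm fun g hg hgN => ?_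
  have hinv : ∀ i ≤ j, ∀ (b : F.autGroup R) (x : R), (x : Ω) ∈ c i →
      (((b : MulAut R) x : R) : Ω) ∈ c i := fun i hi b x hx =>
    apply_mem_of_weaklyClosed (hwc i hi) (autGroup_hom_mem hRS b.2) (hR i hi) x hx
  have hinvQ : ∀ (b : F.autGroup R) (x : R), (x : Ω) ∈ Q → (((b : MulAut R) x : R) : Ω) ∈ Q :=
    fun b x hx => stronglyClosed_apply hQ (autGroup_hom_mem hRS b.2) x hx
  let K : Subgroup (F.autGroup R) :=
    { carrier := {a | (∀ x : R, ((a : MulAut R) x : Ω) * (x : Ω)⁻¹ ∈ Q) ∧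
        (∀ x : R, (x : Ω) ∈ Q → ((a : MulAut R) x : Ω) * (x : Ω)⁻¹ ∈ c j) ∧
        ∀ i < j, ∀ x : R, (x : Ω) ∈ c (i + 1) → ((a : MulAut R) x : Ω) * (x : Ω)⁻¹ ∈ c i}
      one_mem' := ⟨fun x => by simp, fun x _ => by simp, fun i _ x _ => by simp⟩
      mul_mem' := by
        rintro a b ⟨ha, hb2, ha'⟩ ⟨hb, hc2, hb'⟩
        refine ⟨fun x => ?_, fun x hx => ?_, fun i hi x hx => ?_⟩
        · simpa [mul_assoc] using Q.mul_mem (ha ((b : MulAut R) x)) (hb x)
        · simpa [mul_assoc] using (c j).mul_mem (hb2 _ (hinvQ b x hx)) (hc2 x hx)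
        · simpa [mul_assoc] using (c i).mul_mem (ha' i hi _ (hinv _ hi b x hx)) (hb' i hi x hx)
      inv_mem' := by
        rintro a ⟨ha, ha2, ha'⟩
        refine ⟨fun x => ?_, fun x hx => ?_, fun i hi x hx => ?_⟩
        · simpa using Q.inv_mem (ha (((a⁻¹ : F.autGroup R) : MulAut R) x))
        · simpa using (c j).inv_mem (ha2 _ (hinvQ a⁻¹ x hx))
        · simpa using (c i).inv_mem (ha' i hi _ (hinv _ hi a⁻¹ x hx)) }
  haveI hKn : K.Normal := by
    refine ⟨?_⟩
    rintro a ⟨ha, ha2, ha'⟩ b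
    have key : ∀ T : Subgroup Ω, (∀ x : R, (x : Ω) ∈ T → (((b : MulAut R) x : R) : Ω) ∈ T) →
        ∀ x : R, ((a : MulAut R) ((b : MulAut R)⁻¹ x) : Ω) * (((b : MulAut R)⁻¹ x : R) : Ω)⁻¹ ∈ T →
        ((((b * a * b⁻¹ : F.autGroup R) : MulAut R) x : R) : Ω) * (x : Ω)⁻¹ ∈ T := by
      intro T hT x hx
      have h := hT ((a : MulAut R) ((b : MulAut R)⁻¹ x) * ((b : MulAut R)⁻¹ x)⁻¹) hx
      rw [map_mul, map_inv, MulAut.apply_inv_self] at h
      exact h
    exact ⟨fun x => key Q (hinvQ b) x (ha _),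
      fun x hx => key _ (hinv j le_rfl b) x (ha2 _ (hinvQ b⁻¹ x hx)),
      fun i hi x hx => key _ (hinv i hi.le b) x (ha' i hi _ (hinv _ hi b⁻¹ x hx))⟩
  have hnsub : ∀ T : Subgroup Ω, S ≤ Subgroup.normalizer (T : Set Ω) → ∀ (y : R) (z : Ω),
      z * (y : Ω)⁻¹ ∈ T → (y : Ω)⁻¹ * z ∈ T := by
    intro T hT y z h
    have := (Subgroup.mem_normalizer_iff.mp (hT (S.inv_mem (hRS y.2))) _).mp h
    simpa [mul_assoc] using this
  have hKp : IsPGroup p K := by
    refine isPGroup_of_coprime_trivial fun a ha => ?_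
    obtain ⟨⟨a, haK, haK2, haK'⟩, rfl⟩ : ∃ a' : K, a' = a := ⟨a, rfl⟩
    rw [← Subgroup.orderOf_coe, ← Subgroup.orderOf_coe] at ha
    have hpk : ∀ z : R, ∃ k, z ^ p ^ k = 1 := fun z => (hS.to_le hRS) z
    have hfix : ∀ i ≤ j, ∀ x : R, (x : Ω) ∈ c i → (a : MulAut R) x = x := by
      intro i
      induction i with
      | zero =>
        intro _ x hx
        rw [h0, Subgroup.mem_bot] at hx
        rw [show x = 1 from Subtype.ext hx, map_one]
      | succ i ih =>
        intro hi x hx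
        exact fix_of_step _ ha x (ih (by omega) _ (hnsub _ (weaklyClosed_le_normalizer
          (hwc i (by omega))) x _ (haK' i hi x hx))) (hpk _)
    have hfixQ : ∀ x : R, (x : Ω) ∈ Q → (a : MulAut R) x = x := fun x hx =>
      fix_of_step _ ha x (hfix j le_rfl _ (hnsub _ (weaklyClosed_le_normalizer (hwc j le_rfl)) x _
        (haK2 x hx))) (hpk _)
    refine Subtype.ext (Subtype.ext (MulEquiv.ext fun x => ?_))
    exact fix_of_step _ ha x (hfixQ _ (hnsub _ (stronglyClosed_le_normalizer' hQ) x _ (haK x))) (hpk _)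
  refine mem_of_radical hRc hRr K hKp (hQ.1 (hcQ hg)) hgN
    fun a ha => ⟨fun x => ?_, fun x hx => ?_, fun i hi x hx => ?_⟩
  · rw [ha, conjAut_apply]
    have h1 : (x : Ω) * g⁻¹ * (x : Ω)⁻¹ ∈ Q := (Subgroup.mem_normalizer_iff.1
      (stronglyClosed_le_normalizer' hQ (hRS x.2)) _).1 (Q.inv_mem (hcQ hg))
    simpa [mul_assoc] using Q.mul_mem (hcQ hg) h1
  · rw [ha, conjAut_apply]
    simpa [commutatorElement_def] using hcent j le_rfl g hg x hx
  · rw [ha, conjAut_apply]
    simpa [commutatorElement_def, mul_assoc] using (c i).inv_mem (hcent i hi.le x hx g (hcQ hg))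

/-- Let F be a saturated fusion system over a finite p-group S and Q a subgroup of S. Then Q is normal in F (F equals the normalizer system of Q) if and only if Q is strongly closed in F and admits a central series 1 = Q₀ ≤ Q₁ ≤ ⋯ ≤ Qₙ = Q ([Qᵢ₊₁, Q] ≤ Qᵢ) all of whose proper terms are weakly closed in F. -/
theorem result {Ω : Type*} [Group Ω] {S : Subgroup Ω} [Finite S] (p : ℕ) [Fact p.Prime] (hS : IsPGroup p S) (F : Cfsg.FusionSystem S) (hF : F.IsSaturated p) (Q : Subgroup Ω) : F.IsNormal Q ↔ F.StronglyClosed Q ∧ ∃ (n : ℕ) (C : Fin (n + 1) → Subgroup Ω), C 0 = ⊥ ∧ C (Fin.last n) = Q ∧ Monotone C ∧ (∀ i : Fin n, ⁅C i.succ, Q⁆ ≤ C i.castSucc) ∧ ∀ i : Fin n, F.WeaklyClosed (C i.castSucc) := by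
  constructor
  · intro hQ
    haveI : Finite Q := finite_of_le hQ.1
    haveI := (hS.to_le hQ.1).isNilpotent
    refine ⟨stronglyClosed_of_isNormal hQ, Group.nilpotencyClass Q,
      fun i => (Subgroup.upperCentralSeries Q i).map Q.subtype, ?_, ?_, ?_, ?_, ?_⟩
    · show (Subgroup.upperCentralSeries Q 0).map Q.subtype = ⊥
      rw [Subgroup.upperCentralSeries_zero, Subgroup.map_bot]
    · show (Subgroup.upperCentralSeries Q (Fin.last _ : ℕ)).map Q.subtype = Q
      rw [Fin.val_last, Subgroup.upperCentralSeries_nilpotencyClass, ← MonoidHom.range_eq_map,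
        Subgroup.range_subtype]
    · intro a b hab
      exact Subgroup.map_mono (Subgroup.upperCentralSeries_mono Q hab)
    · intro i
      rw [Subgroup.commutator_le]
      rintro _ ⟨x, hx, rfl⟩ q hq
      have h1 := (Subgroup.mem_upperCentralSeries_succ_iff (G := Q)).1 (by simpa using hx) ⟨q, hq⟩
      exact ⟨_, h1, by simp [commutatorElement_def, mul_assoc]⟩
    · intro i
      have hN := isNormal_of_characteristic hQ (Subgroup.map_subtype_le
        (Subgroup.upperCentralSeries Q i.castSucc)) (by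
        rw [Subgroup.subgroupOf, Subgroup.comap_map_eq_self_of_injective Q.subtype_injective]
        infer_instance)
      refine ⟨hN.1, fun φ hφ => ?_⟩
      haveI := finite_of_le hN.1
      exact range_eq_self hφ fun x => stronglyClosed_apply (stronglyClosed_of_isNormal hN) hφ x x.2
  · rintro ⟨hsc, n, C, hC0, hCn, hmono, hcent, hwc⟩
    refine isNormal_of_le_centric_radical hS hF hsc fun R _ hRc hRr => ?_
    let c : ℕ → Subgroup Ω := fun i => C ⟨min i n, by omega⟩
    have hcw : ∀ i, i < n → F.WeaklyClosed (c i) := fun i hi => by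
      show F.WeaklyClosed (C _)
      convert hwc ⟨i, hi⟩ using 2
      exact Fin.ext (by simp; omega)
    have hcn : c n = Q := by
      show C _ = Q
      rw [← hCn]; congr 1; exact Fin.ext (by simp)
    have key : ∀ j ≤ n, c j ≤ R := by
      intro j
      induction j using Nat.strong_induction_on with
      | _ j ih =>
        intro hj
        rcases j with _ | j
        · show C _ ≤ R
          rw [show (⟨min 0 n, by omega⟩ : Fin (n + 1)) = 0 from Fin.ext (by simp), hC0]
          exact bot_le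
        refine series_step hS hsc c j ?_ ?_ ?_ (fun i hi => hcw i (by omega)) ?_ hRc hRr
          (fun i hi => ih i (by omega) (by omega))
        · show C _ = ⊥
          rw [← hC0]; congr 1
        · rw [← hcn]
          exact hmono (Fin.mk_le_mk.mpr (by omega))
        · rcases lt_or_eq_of_le hj with h | h
          · exact weaklyClosed_le_normalizer (hcw _ h)
          · rw [h, hcn]; exact stronglyClosed_le_normalizer' hsc
        · intro i hi x hx q hq
          have h1 := hcent ⟨i, by omega⟩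
          rw [Subgroup.commutator_le] at h1
          have e1 : c (i + 1) = C (Fin.succ ⟨i, by omega⟩) :=
            congrArg C (Fin.ext (by simp; omega))
          have e2 : c i = C (Fin.castSucc ⟨i, by omega⟩) :=
            congrArg C (Fin.ext (by simp; omega))
          exact e2 ▸ h1 x (e1 ▸ hx) q hq
    exact hcn ▸ key n le_rfl

end Cfsg.Agent.S5226
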