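import Cfsg.Statements.S5234
import Cfsg.Agent.Lib.Fusion.SmallOmega
import Cfsg.Agent.Lib.Fusion.Normal
import Cfsg.Agent.Lib.Regular.SmallRank

set_option autoImplicit false
open Cfsg

namespace Cfsg.Agent.S5234

/-- Let p be an odd prime, F a saturated fusion system over a finite p-group S and P a metacyclic subgroup of S strongly closed in F. Then P is normal in F. -/
theorem result {Ω : Type*} [Group Ω] {S : Subgroup Ω} [Finite S] (p : ℕ) [Fact p.Prime] (hS : IsPGroup p S) (F : Cfsg.FusionSystem S) (hF : F.IsSaturated p) (P : Subgroup Ω) (hP : F.StronglyClosed P) (hp : p ≠ 2) (hm : Cfsg.IsMetacyclic ↥P) : F.IsNormal P := by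
  haveI : Finite P := Lib.Fusion.finite_of_le hP.1
  by_cases hc : IsCyclic P
  · exact Lib.Fusion.isNormal_of_isMulCommutative hS hF hP inferInstance
  obtain ⟨hel, hcard⟩ := Lib.Regular.omegaOne_of_isMetacyclic hp (hS.to_le hP.1) hm hc
  set V : Subgroup Ω := (Cfsg.omegaOne p (⊤ : Subgroup P)).map P.subtype
  haveI : IsMulCommutative V := by
    haveI := hel.1
    exact Subgroup.map_isMulCommutative _ _
  refine Lib.Fusion.SmallOmega.isNormal_of_small_omega hS hF hp hP (V := V) (Subgroup.map_subtype_le _) ?_ ?_ ?_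
  · rintro _ ⟨x, hx, rfl⟩
    rw [← map_pow, hel.2 x hx, map_one]
  · intro x hx hxp
    exact ⟨⟨x, hx⟩, Subgroup.subset_closure ⟨Subgroup.mem_top _, Subtype.ext hxp⟩, rfl⟩
  · rw [Subgroup.card_map_of_injective P.subtype_injective, hcard]

end Cfsg.Agent.S5234
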