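import Cfsg.Statements.S5236
import Cfsg.Agent.Lib.Fusion.SmallSeries
import Cfsg.Agent.Lib.Fusion.Normal

set_option autoImplicit false
open Cfsg

namespace Cfsg.Agent.S5236

/-- Let p be an odd prime, F a saturated fusion system over a finite p-group S and P a subgroup of S strongly closed in F. Then P is normal in F if and only if Ω₁(P) (the subgroup generated by the elements of order p of P) has a chain of subgroups 1 = Q₀ ≤ Q₁ ≤ ⋯ ≤ Qₙ = Ω₁(P), each strongly closed in F, with [Qᵢ₊₁, P] ≤ Qᵢ for all i. -/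
theorem result {Ω : Type*} [Group Ω] {S : Subgroup Ω} [Finite S] (p : ℕ) [Fact p.Prime] (hS : IsPGroup p S) (F : Cfsg.FusionSystem S) (hF : F.IsSaturated p) (hp : p ≠ 2) (P : Subgroup Ω) (hP : F.StronglyClosed P) : F.IsNormal P ↔ ∃ (n : ℕ) (Q : Fin (n + 1) → Subgroup Ω), Q 0 = ⊥ ∧ Q (Fin.last n) = Cfsg.omegaOne p P ∧ Monotone Q ∧ (∀ i : Fin (n + 1), F.StronglyClosed (Q i)) ∧ ∀ i : Fin n, ⁅Q i.succ, P⁆ ≤ Q i.castSucc := by
  constructor
  · intro hN
    haveI : Finite P := Lib.Fusion.finite_of_le hP.1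
    haveI : Group.IsNilpotent P := (hS.to_le hP.1).isNilpotent
    set O : Subgroup P := Cfsg.omegaOne p (⊤ : Subgroup P) with hO
    have hOmap : O.map P.subtype = Cfsg.omegaOne p P := by
      rw [hO, Cfsg.omegaOne, Cfsg.omegaOne, MonoidHom.map_closure]
      congr 1
      ext x
      constructor
      · rintro ⟨y, ⟨-, hy⟩, rfl⟩
        exact ⟨y.2, congrArg Subtype.val hy⟩
      · rintro ⟨hx, hxp⟩
        exact ⟨⟨x, hx⟩, ⟨Subgroup.mem_top _, Subtype.ext hxp⟩, rfl⟩
    haveI hOc : O.Characteristic := by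
      refine Subgroup.characteristic_iff_map_le.2 fun φ => ?_
      rw [hO, Cfsg.omegaOne, MonoidHom.map_closure]
      refine Subgroup.closure_mono ?_
      rintro _ ⟨y, ⟨-, hy⟩, rfl⟩
      exact ⟨Subgroup.mem_top _, by rw [← map_pow, hy, map_one]⟩
    refine ⟨Group.nilpotencyClass P,
      fun i => (O ⊓ Subgroup.upperCentralSeries P i).map P.subtype, ?_, ?_, ?_, ?_, ?_⟩
    · simp
    · show (O ⊓ Subgroup.upperCentralSeries P (Group.nilpotencyClass P)).map P.subtype = _
      rw [Subgroup.upperCentralSeries_nilpotencyClass, inf_top_eq, hOmap]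
    · exact fun i j hij => Subgroup.map_mono (inf_le_inf_left _ (Subgroup.upperCentralSeries_mono P hij))
    · intro i
      refine Lib.Fusion.stronglyClosed_of_isNormal (Lib.Fusion.isNormal_of_characteristic hN
        (Subgroup.map_subtype_le _) ?_)
      rw [Subgroup.subgroupOf, Subgroup.comap_map_eq_self_of_injective P.subtype_injective]
      infer_instance
    · intro i
      refine Subgroup.commutator_le.2 ?_
      rintro _ ⟨x, hx, rfl⟩ q hq
      refine ⟨x * ⟨q, hq⟩ * x⁻¹ * (⟨q, hq⟩ : P)⁻¹, ⟨?_, ?_⟩, rfl⟩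
      · have hn : O.Normal := inferInstance
        have h1 := O.mul_mem hx.1 (hn.conj_mem _ (O.inv_mem hx.1) ⟨q, hq⟩)
        simpa [mul_assoc] using h1
      · exact (Subgroup.mem_upperCentralSeries_succ_iff (G := P)).1 hx.2 ⟨q, hq⟩
  · rintro ⟨n, Q, h0, hn, -, hsc, hcomm⟩
    refine Lib.Fusion.SmallSeries.isNormal_of_small_central_series hS hF hP
      (fun i => Q ⟨min i n, by omega⟩) (n := n) ?_ ?_ (fun i => hsc _) ?_
    · show Q ⟨min 0 n, by omega⟩ = ⊥
      rw [show Q ⟨min 0 n, by omega⟩ = Q 0 from congrArg Q (Fin.ext (Nat.zero_min n)), h0]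
    · intro x hx hxs
      rw [show Q ⟨min n n, by omega⟩ = Q (Fin.last n) from congrArg Q (Fin.ext (by simp)), hn]
      exact Subgroup.subset_closure ⟨hx, hxs.resolve_right fun h => hp h.1⟩
    · intro i hi x hx q hq
      have h := hcomm ⟨i, hi⟩
      have hx' : x ∈ Q (⟨i, hi⟩ : Fin n).succ := by
        rw [show Q (⟨i, hi⟩ : Fin n).succ = Q ⟨min (i + 1) n, by omega⟩ from
          congrArg Q (Fin.ext (show i + 1 = min (i + 1) n by omega))]
        exact hx
      have h2 := h (Subgroup.commutator_mem_commutator hx' hq)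
      have h3 := (Q (⟨i, hi⟩ : Fin n).castSucc).inv_mem h2
      show _ ∈ Q ⟨min i n, _⟩
      rw [show Q ⟨min i n, by omega⟩ = Q (⟨i, hi⟩ : Fin n).castSucc from
        congrArg Q (Fin.ext (by simp; omega))]
      simpa [commutatorElement_def, mul_assoc] using h3

end Cfsg.Agent.S5236
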