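import Cfsg.Statements.S5243
import Cfsg.Agent.Lib.Fusion.CharacterSubsystem

set_option autoImplicit false
open Cfsg Cfsg.FusionSystem Cfsg.Agent.Lib.Fusion Cfsg.Agent.Lib.Fusion.CharacterSubsystem

namespace Cfsg.Agent.S5243

/-- Let F be a saturated fusion system over a finite p-group S, E a normal subsystem of F over T ≤ S, and χ a surjective homomorphism from Aut_F(T) onto a nontrivial finite group Δ of order prime to p whose kernel contains Aut_E(T). Then there is a proper normal subsystem F₀ of F over S containing E such that Aut_{F₀}(S) consists of those α ∈ Aut_F(S) whose restriction to T is an element of Aut_F(T) in the kernel of χ; moreover every p'-residual subsystem O^{p'}(F) of F is contained in F₀. -/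
theorem result {Ω : Type*} [Group Ω] {S : Subgroup Ω} [Finite S] (p : ℕ) [Fact p.Prime] (hS : IsPGroup p S) (F : Cfsg.FusionSystem S) (hF : F.IsSaturated p) {T : Subgroup Ω} (hTS : T ≤ S) (E : Cfsg.FusionSystem T) (hE : E.IsNormalIn F p) {Δ : Type*} [Group Δ] [Finite Δ] [Nontrivial Δ] (hΔ : (Nat.card Δ).Coprime p) (χ : ↥(F.autGroup T) →* Δ) (hχ : Function.Surjective χ) (hker : (E.autGroup T).subgroupOf (F.autGroup T) ≤ χ.ker) : ∃ F₀ : Cfsg.FusionSystem S, F₀.IsNormalIn F p ∧ ¬ (∀ P : Subgroup Ω, F₀.Hom P = F.Hom P) ∧ E.IsSubsystemOf F₀ ∧ (∀ α : MulAut ↥S, α ∈ F₀.autGroup S ↔ α ∈ F.autGroup S ∧ ∃ β : ↥(F.autGroup T), χ β = 1 ∧ ∀ t : ↥T, (((β : MulAut ↥T) t : ↥T) : Ω) = ((α ⟨(t : Ω), hTS t.2⟩ : ↥S) : Ω)) ∧ ∀ R : Cfsg.FusionSystem S, F.IsPPrimeResidual p R → R.IsSubsystemOf F₀ := by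
  set K : Subgroup (MulAut ↥T) := χ.ker.map (F.autGroup T).subtype with hKdef
  have hK : K ≤ F.autGroup T := Subgroup.map_subtype_le _
  have hmemK : ∀ {g : MulAut ↥T}, g ∈ K ↔ ∃ h : g ∈ F.autGroup T, χ ⟨g, h⟩ = 1 := by
    intro g
    constructor
    · rintro ⟨y, hy, rfl⟩
      exact ⟨y.2, hy⟩
    · rintro ⟨h, hh⟩
      exact ⟨⟨g, h⟩, hh, rfl⟩
  haveI : Finite T := Cfsg.Agent.Lib.Fusion.finite_of_le hTS
  haveI := Cfsg.Agent.Lib.Fusion.finite_mulAut (S := S) hTS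
  have hEF : E.IsSubsystemOf F := hE.1.2.2.1
  have c : CharData F E K p := by
    refine ⟨hS, hF, hE.1, actInvariant_of_stronglyInvariant hTS
      (stronglyInvariant_of_isWeaklyNormalIn hS hE.1), hK, ?_, ?_, ?_⟩
    · rintro g hg k ⟨y, hy, rfl⟩
      exact ⟨⟨g, hg⟩ * y * ⟨g, hg⟩⁻¹, (inferInstance : χ.ker.Normal).conj_mem y hy ⟨g, hg⟩, rfl⟩
    · intro g hg
      exact hmemK.2 ⟨autGroup_mono hEF T hg,
        hker (x := ⟨g, autGroup_mono hEF T hg⟩) hg⟩
    · intro g hg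
      have hgF : g ∈ F.autGroup T := autInducedBy_le_autGroup hTS hg
      refine hmemK.2 ⟨hgF, ?_⟩
      obtain ⟨k, hk⟩ := isPGroup_autInducedBy (p := p) hS ⟨g, hg⟩
      have h1 : (⟨g, hgF⟩ : F.autGroup T) ^ p ^ k = 1 :=
        Subtype.ext (congrArg Subtype.val hk :)
      refine orderOf_eq_one_iff.1 (Nat.eq_one_of_dvd_coprimes
        (Nat.Coprime.pow_right k hΔ) (orderOf_dvd_natCard _) (orderOf_dvd_of_pow_eq_one ?_))
      rw [← map_pow, h1, map_one]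
  refine ⟨genSystem c, isNormalIn_genSystem c, genSystem_ne c ?_, subsystem_genSystem c,
    fun α => ?_, fun R hR =>
      hR.2.2 _ (isSaturated_genSystem c) (hasPrimeToPIndexIn_genSystem c)⟩
  · intro hle
    obtain ⟨d, hd⟩ := exists_ne (1 : Δ)
    obtain ⟨g, rfl⟩ := hχ d
    obtain ⟨h, hh⟩ := hmemK.1 (hle g.2)
    exact hd hh
  · rw [mem_autGroup_genSystem c]
    constructor
    · rintro ⟨h1, b, hb, hbx⟩
      obtain ⟨hbF, hb1⟩ := hmemK.1 hb
      exact ⟨h1, ⟨b, hbF⟩, hb1, hbx⟩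
    · rintro ⟨h1, b, hb1, hbx⟩
      exact ⟨h1, b, hmemK.2 ⟨b.2, hb1⟩, hbx⟩

end Cfsg.Agent.S5243
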