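import Cfsg.Statements.S5245
import Cfsg.Agent.Lib.Fusion87.Supersoluble
import Cfsg.Agent.Lib.Fusion.Alperin
import Cfsg.Agent.Lib.Fusion.Hyperfocal
import Cfsg.Agent.Lib.CharP.Basic
import Cfsg.Agent.Lib.Coprime.Basic

set_option autoImplicit false
open Cfsg Cfsg.FusionSystem Cfsg.Agent.Lib Cfsg.Agent.Lib.Fusion

namespace Cfsg.Agent.S5245

universe u

variable {Ω : Type u} [Group Ω] {S T : Subgroup Ω}

theorem mem_autGroup_inner {α : MulAut T} (hα : α ∈ (innerFusionSystem T).autGroup T) :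
    α ∈ autInducedBy T T := by
  obtain ⟨-, g, hg, h⟩ := autGroup_hom_mem le_rfl hα
  exact mem_autInducedBy.mpr ⟨g, hg, h⟩

/-- A `p'`-automorphism in the system of a subgroup gives a saturated subsystem which is not
inner. -/
theorem exists_subsystem [Finite S] {p : ℕ} [Fact p.Prime] (hS : IsPGroup p S)
    (F : FusionSystem S) (hT : T ≤ S) {β : MulAut T} (hβ : β ∈ F.autGroup T)
    (hcop : (orderOf β).Coprime p) (hne : β ≠ 1) :
    ∃ E : FusionSystem T, E.IsSaturated p ∧ E.IsSubsystemOf F ∧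
      (¬ ∀ P : Subgroup Ω, E.Hom P = (innerFusionSystem T).Hom P) ∧
      ∀ P, ∀ φ ∈ E.Hom P, ∃ (hP : P ≤ T), ∃ (t : T), ∃ k ∈ Subgroup.zpowers β,
        ∀ x : P, φ x = t * (k ⟨x, hP x.2⟩ : Ω) * (t : Ω)⁻¹ := by
  classical
  have : Finite T := finite_of_le hT
  have hTp : IsPGroup p T := hS.of_injective _ (Subgroup.inclusion_injective hT)
  have : Finite (MulAut T) := finite_mulAut (S := S) hT
  set H := Subgroup.zpowers β
  have : Finite (↥T ⋊[H.subtype] ↥H) := Finite.of_equiv _ SemidirectProduct.equivProd.symm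
  set ι : T →* ↥T ⋊[H.subtype] ↥H := SemidirectProduct.inl
  have hι : Function.Injective ι := SemidirectProduct.inl_injective
  have hidx : ι.range.index = Nat.card H := by
    rw [SemidirectProduct.range_inl_eq_ker_rightHom, Subgroup.index_ker,
      MonoidHom.range_eq_top.2 SemidirectProduct.rightHom_surjective, Subgroup.card_top]
  have hp : IsPGroup p ι.range := hTp.of_surjective ι.rangeRestrict ι.rangeRestrict_surjective
  have hH : (Nat.card H).Coprime p := by rw [Nat.card_zpowers]; exact hcop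
  set E := Fusion87.systemOfHom ι hι with hE
  have hform : ∀ P, ∀ φ ∈ E.Hom P, ∃ (hP : P ≤ T), ∃ (t : T), ∃ k ∈ H,
      ∀ x : P, φ x = t * (k ⟨x, hP x.2⟩ : Ω) * (t : Ω)⁻¹ := by
    rintro P φ ⟨hP, hφ, g, hg⟩
    refine ⟨hP, g.left, g.right, g.right.2, fun x => ?_⟩
    have h1 := hg x
    have h2 : g * ι ⟨x, hP x.2⟩ * g⁻¹ =
        ι (g.left * (g.right : MulAut T) ⟨x, hP x.2⟩ * g.left⁻¹) := by
      conv_lhs => rw [← SemidirectProduct.inl_left_mul_inr_right g]
      rw [map_mul, map_mul, SemidirectProduct.inl_aut (φ := H.subtype) g.right ⟨x, hP x.2⟩ |>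
        (show _ → _ from fun h => (show ι ((g.right : MulAut T) ⟨x, hP x.2⟩) = _ from h)),
        map_inv, map_inv, mul_inv_rev]
      simp only [ι, mul_assoc]
    rw [h2] at h1
    exact congrArg (fun z : T => (z : Ω)) (hι h1)
  refine ⟨E, isSaturated_of_isRealizedBy (Fusion87.systemOfHom_isRealizedBy ι hι)
    ⟨hp.toSylow (by rw [hidx]; exact (Nat.Prime.coprime_iff_not_dvd Fact.out).1 hH.symm),
      IsPGroup.toSylow_coe _ _⟩, fun P φ hφ => ?_, fun h => ?_, hform⟩
  · obtain ⟨hP, t, k, hk, hφe⟩ := hform P φ hφ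
    have hkF : k ∈ F.autGroup T := (Subgroup.zpowers_le.mpr hβ) hk
    refine mem_congr (φ := (conjHom T (t : Ω)).comp
      ((k.toMonoidHom).comp (Subgroup.inclusion hP))) ?_ fun x => hφe x
    refine comp_of_apply (restrict_mem (autGroup_hom_mem hT hkF) hP) (F.conj_mem hT (hT t.2))
      fun x => ⟨(k (Subgroup.inclusion hP x)).2, rfl⟩
  · have hmem : autHom β ∈ E.Hom T := by
      refine ⟨le_rfl, fun x => (β x).2, SemidirectProduct.inr ⟨β, Subgroup.mem_zpowers β⟩, fun x => ?_⟩
      exact (SemidirectProduct.inl_aut (φ := H.subtype) ⟨β, Subgroup.mem_zpowers β⟩ x).trans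
        (by rw [map_inv])
    rw [h] at hmem
    obtain ⟨-, g, hg, hgβ⟩ := hmem
    have hin : β ∈ autInducedBy T T := mem_autInducedBy.mpr ⟨g, hg, hgβ⟩
    obtain ⟨j, hj⟩ := IsPGroup.iff_orderOf.mp (isPGroup_autInducedBy (P := T) hTp) ⟨β, hin⟩
    rw [Subgroup.orderOf_mk] at hj
    refine hne (orderOf_eq_one_iff.mp ?_)
    exact Nat.eq_one_of_dvd_coprimes (hcop.pow_right j) dvd_rfl hj.dvd


/-- Let F be an extremely sparse fusion system over a finite p-group S (saturated, not the inner system, and every saturated fusion system over any subgroup T of S contained in F is F itself or the inner system of T). Then S is normal in F, the focal and hyperfocal subgroups of F are both S, and Aut_F(S) is generated by the inner automorphisms of S together with a single automorphism of prime order q ≠ p (F is the fusion system of the semidirect product of S by a cyclic group of prime order). -/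
theorem result {Ω : Type*} [Group Ω] {S : Subgroup Ω} [Finite S] (p : ℕ) [Fact p.Prime] (hS : IsPGroup p S) (F : Cfsg.FusionSystem S) (hF : F.IsSaturated p) (hxs : ¬ (∀ P : Subgroup Ω, F.Hom P = (Cfsg.innerFusionSystem S).Hom P) ∧ ∀ (T : Subgroup Ω) (E : Cfsg.FusionSystem T), E.IsSaturated p → E.IsSubsystemOf F → (T = S ∧ ∀ P : Subgroup Ω, E.Hom P = F.Hom P) ∨ (∀ P : Subgroup Ω, E.Hom P = (Cfsg.innerFusionSystem T).Hom P)) : F.IsNormal S ∧ F.focalSubgroup = S ∧ F.hyperfocalSubgroup p = S ∧ ∃ (q : ℕ) (β : MulAut ↥S), q.Prime ∧ q ≠ p ∧ β ∈ F.autGroup S ∧ orderOf β = q ∧ (F.autGroup S : Subgroup (MulAut ↥S)) = Cfsg.Inn ↥S ⊔ Subgroup.zpowers β := by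
  classical
  obtain ⟨hni, hsub⟩ := hxs
  have hSfin : Finite (MulAut S) := finite_mulAut (S := S) le_rfl
  -- a `p'`-automorphism of prime order in `Aut_F(S)`
  have hsmall : ∀ T : Subgroup Ω, T ≤ S → T ≠ S → IsPGroup p (F.autGroup T) := by
    intro T hT hne
    have : Finite (MulAut T) := finite_mulAut (S := S) hT
    refine CharP.isPGroup_of_forall fun β hβ hcop => ?_
    by_contra hb
    obtain ⟨E, hE, hEF, hEi, -⟩ := exists_subsystem hS F hT hβ hcop hb
    rcases hsub T E hE hEF with ⟨h, -⟩ | h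
    · exact hne h
    · exact hEi h
  have hbig : ¬ IsPGroup p (F.autGroup S) := by
    intro hp
    apply hni
    intro P
    refine Set.Subset.antisymm (le_of_autGroup_le hS hF (innerFusionSystem S) ?_ ?_ P) ?_
    · obtain ⟨Q, hQ, ⟨-, R, hR⟩, -⟩ := hF S le_rfl
      obtain rfl : Q = S := Subgroup.eq_of_le_of_card_ge (isConj_le_right hQ) (isConj_card hQ).ge
      have htop : (R : Subgroup (F.autGroup Q)) = ⊤ := R.3 (hp.to_subgroup ⊤) le_top ▸ rfl
      rw [hR, Subgroup.subgroupOf_eq_top] at htop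
      intro α hα
      obtain ⟨g, hg, h⟩ := mem_autInducedBy.mp (htop hα)
      exact (mem_autGroup le_rfl).mpr ⟨le_rfl, g, hg, h⟩
    · intro R hR
      rcases eq_or_ne R S with rfl | hne
      · exact absurd hR (not_isEssential_of_isPGroup hp)
      · exact absurd hR (not_isEssential_of_isPGroup (hsmall R hR.1.1 hne))
    · rintro φ ⟨hP, g, hg, h⟩
      exact mem_of_conj hP hg h
  obtain ⟨q, β, hq, hqp, hβ, hord⟩ :
      ∃ (q : ℕ) (β : MulAut S), q.Prime ∧ q ≠ p ∧ β ∈ F.autGroup S ∧ orderOf β = q := by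
    by_contra hc
    push Not at hc
    refine hbig (CharP.isPGroup_of_forall fun β hβ hcop => ?_)
    by_contra hb
    have h1 : orderOf β ≠ 1 := fun h => hb (orderOf_eq_one_iff.mp h)
    set q := (orderOf β).minFac with hq
    have hqp : q.Prime := Nat.minFac_prime h1
    have hqd : q ∣ orderOf β := Nat.minFac_dvd _
    refine hc q (β ^ (orderOf β / q)) hqp (fun h => ?_) (pow_mem hβ _) ?_
    · exact ((Fact.out : p.Prime).coprime_iff_not_dvd.mp hcop.symm) (h ▸ hqd)
    · rw [orderOf_pow, Nat.gcd_eq_right (Nat.div_dvd_of_dvd hqd), Nat.div_div_self hqd (orderOf_pos β).ne']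
  have hcop : (orderOf β).Coprime p := by
    rw [hord]
    exact (Nat.coprime_primes hq Fact.out).mpr hqp
  have hne : β ≠ 1 := fun h => hq.one_lt.ne' (by rw [← hord, h, orderOf_one])
  obtain ⟨E, hE, hEF, hEi, hform⟩ := exists_subsystem hS F le_rfl hβ hcop hne
  have hEeq : ∀ P, E.Hom P = F.Hom P := (hsub S E hE hEF).elim (fun h => h.2) (fun h => absurd h hEi)
  have hInn : Inn S ≤ F.autGroup S := inn_le_autGroup le_rfl
  have haut : F.autGroup S = Inn S ⊔ Subgroup.zpowers β := by
    refine le_antisymm (fun α hα => ?_) (sup_le hInn (Subgroup.zpowers_le.mpr hβ))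
    have h1 := autGroup_hom_mem le_rfl hα
    rw [← hEeq] at h1
    obtain ⟨hP, t, k, hk, hαe⟩ := hform _ _ h1
    have : α = MulAut.conj t * k := by
      ext x
      rw [MulAut.mul_apply, MulAut.conj_apply, ← autHom_apply, hαe]
      rfl
    rw [this]
    exact Subgroup.mul_mem_sup ⟨t, rfl⟩ hk
  have hnormal : F.IsNormal S := by
    refine ⟨le_rfl, fun P φ hφ => ?_⟩
    have h1 := hφ
    rw [← hEeq] at h1
    obtain ⟨hP, t, k, hk, hφe⟩ := hform _ _ h1
    have hkF : k ∈ F.autGroup S := (Subgroup.zpowers_le.mpr hβ) hk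
    let ψ₀ : S →* Ω := (conjHom S (t : Ω)).comp k.toMonoidHom
    have hψ₀ : ψ₀ ∈ F.Hom S := comp_of_apply (autGroup_hom_mem le_rfl hkF)
      (F.conj_mem le_rfl t.2) fun x => ⟨(k x).2, rfl⟩
    have hle : P ⊔ S ≤ S := sup_le hP le_rfl
    refine ⟨ψ₀.comp (Subgroup.inclusion hle), restrict_mem hψ₀ hle, fun x => (hφe x).symm, ?_⟩
    refine Subgroup.eq_of_le_of_card_ge ?_ ?_
    · rintro _ ⟨x, -, rfl⟩
      exact val_mem hψ₀ _
    · rw [Subgroup.card_map_of_injective (F.injective_of_mem (restrict_mem hψ₀ hle)),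
        Nat.card_congr (Subgroup.subgroupOfEquivOfLe (le_sup_right : S ≤ P ⊔ S)).toEquiv]
  -- the commutator with `β` is everything
  let T₀ : Subgroup S := Subgroup.closure (Set.range fun x : S => x⁻¹ * β x)
  have hT₀ : T₀ = ⊤ := by
    by_contra hTne
    set T := T₀.map S.subtype with hTd
    have hTS : T ≤ S := Subgroup.map_subtype_le T₀
    have hTne' : T ≠ S := by
      intro h
      refine hTne (Subgroup.map_injective S.subtype_injective ?_)
      rw [← MonoidHom.range_eq_map, Subgroup.range_subtype]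
      exact h
    have hinv : ∀ x : S, (x : Ω) ∈ T → (β x : Ω) ∈ T := by
      rintro x ⟨y, hy, hyx⟩
      obtain rfl : y = x := Subtype.ext hyx
      refine ⟨β y, ?_, rfl⟩
      rw [show β y = y * (y⁻¹ * β y) by group]
      exact T₀.mul_mem hy (Subgroup.subset_closure ⟨y, rfl⟩)
    have hres : (autHom β).comp (Subgroup.inclusion hTS) ∈ F.Hom T :=
      restrict_mem (autGroup_hom_mem le_rfl hβ) hTS
    have : Finite T := finite_of_le hTS
    have hr : ((autHom β).comp (Subgroup.inclusion hTS)).range = T := by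
      refine Subgroup.eq_of_le_of_card_ge ?_ (card_range hres).ge
      rintro _ ⟨x, rfl⟩
      exact hinv ⟨x, hTS x.2⟩ x.2
    have hβT := autOfHom_mem hres hr
    have hval : ∀ (n : ℕ) (x : T),
        (((autOfHom _ (F.injective_of_mem hres) hr) ^ n) x : Ω) = ((β ^ n) ⟨x, hTS x.2⟩ : Ω) := by
      intro n
      induction n with
      | zero => exact fun x => rfl
      | succ n ih =>
        intro x
        rw [pow_succ, pow_succ, MulAut.mul_apply, MulAut.mul_apply, ih]
        rfl
    have : Finite (MulAut T) := finite_mulAut (S := S) hTS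
    have hd : orderOf (autOfHom _ (F.injective_of_mem hres) hr) ∣ q := by
      apply orderOf_dvd_of_pow_eq_one
      ext x
      rw [hval, ← hord, pow_orderOf_eq_one]
      rfl
    obtain ⟨j, hj⟩ := IsPGroup.iff_orderOf.mp (hsmall T hTS hTne') ⟨_, hβT⟩
    rw [Subgroup.orderOf_mk] at hj
    have h1 : autOfHom _ (F.injective_of_mem hres) hr = 1 := orderOf_eq_one_iff.mp
      (Nat.eq_one_of_dvd_coprimes (((Nat.coprime_primes hq Fact.out).mpr hqp).pow_right j) hd hj.dvd)
    apply hne
    -- `β` fixes every commutator with itself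
    have hfix : ∀ x ∈ T₀, β x = x := fun x hx => Subtype.ext (by
      have h2 := hval 1 ⟨x, ⟨x, hx, rfl⟩⟩
      rw [pow_one, pow_one, h1] at h2
      exact h2.symm)
    have hpow : ∀ (x : S) (n : ℕ), (β ^ n) x = x * (x⁻¹ * β x) ^ n := by
      intro x n
      induction n with
      | zero => simp
      | succ n ih =>
        rw [pow_succ', MulAut.mul_apply, ih, map_mul, map_pow,
          hfix _ (Subgroup.subset_closure ⟨x, rfl⟩), pow_succ', ← mul_assoc, mul_inv_cancel_left]
    ext x
    have h3 : (x⁻¹ * β x) ^ q = 1 := by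
      have h4 := hpow x q
      rw [← hord, pow_orderOf_eq_one, MulAut.one_apply, left_eq_mul] at h4
      rwa [← hord]
    obtain ⟨j', hj'⟩ := hS (x⁻¹ * β x)
    have h5 : x⁻¹ * β x = 1 := orderOf_eq_one_iff.mp (Nat.eq_one_of_dvd_coprimes
      (((Nat.coprime_primes hq Fact.out).mpr hqp).pow_right j')
      (orderOf_dvd_of_pow_eq_one h3) (orderOf_dvd_of_pow_eq_one hj'))
    rw [MulAut.one_apply]
    exact congrArg Subtype.val (inv_mul_eq_one.mp h5).symm
  have hhyp : F.hyperfocalSubgroup p = S := by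
    refine le_antisymm ?_ ?_
    · rw [FusionSystem.hyperfocalSubgroup, Subgroup.closure_le]
      rintro _ ⟨P, α, x, hP, -, rfl⟩
      exact S.mul_mem (S.inv_mem (hP x.2)) (hP ((α : MulAut P) x).2)
    · have h1 : T₀.map S.subtype ≤ F.hyperfocalSubgroup p := by
        rw [Subgroup.map_le_iff_le_comap, Subgroup.closure_le]
        rintro _ ⟨x, rfl⟩
        refine Subgroup.subset_closure ⟨S, ⟨β, hβ⟩, x, le_rfl, ?_, rfl⟩
        refine Subgroup.subset_closure ?_
        show ((orderOf (⟨β, hβ⟩ : F.autGroup S))).Coprime p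
        rw [Subgroup.orderOf_mk]
        exact hcop
      rwa [hT₀, ← MonoidHom.range_eq_map, Subgroup.range_subtype] at h1
  refine ⟨hnormal, le_antisymm ?_ (hhyp.ge.trans (hyperfocalSubgroup_le_focalSubgroup F)), hhyp,
    q, β, hq, hqp, hβ, hord, haut⟩
  rw [FusionSystem.focalSubgroup, Subgroup.closure_le]
  rintro _ ⟨P, φ, x, hφ, rfl⟩
  exact S.mul_mem (S.inv_mem (src_le hφ x.2)) (val_mem hφ x)

end Cfsg.Agent.S5245
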