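import Cfsg.Statements.S5247
import Cfsg.Agent.Lib.Fusion.PStableLocal

set_option autoImplicit false
open Pointwise
open Cfsg

namespace Cfsg.Agent.S5247

open Cfsg.FusionSystem
open Cfsg.Agent.Lib.Fusion

theorem quadStable_of_isCyclic {Ω : Type*} [Group Ω] {p : ℕ} [Fact p.Prime] {Q : Subgroup Ω} [Finite Q]
    (hp : IsPGroup p Q) (hQ : IsCyclic Q) (A : Subgroup (MulAut Q)) : QuadStable p A := by
  intro χ hχ hq
  have hfix : ∀ a : Q, χ (a⁻¹ * χ a) = a⁻¹ * χ a := fun a => (quad_iff_fix χ a).1 (hq a)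
  have hpow : ∀ (n : ℕ) (a : Q), (χ ^ n) a = a * (a⁻¹ * χ a) ^ n := by
    intro n
    induction n with
    | zero => intro a; simp
    | succ n ih =>
      intro a
      rw [pow_succ', MulAut.mul_apply, ih, map_mul, map_pow, hfix, pow_succ', ← mul_assoc,
        mul_inv_cancel_left]
  have hord : orderOf χ ∣ Nat.card Q := by
    refine orderOf_dvd_of_pow_eq_one ?_
    ext a
    rw [hpow, pow_card_eq_one', mul_one]
    rfl
  have hcomm : ∀ f g : MulAut Q, f * g = g * f := by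
    intro f g
    ext x
    obtain ⟨c, hc⟩ := hQ.exists_generator
    obtain ⟨i, rfl⟩ := hc x
    obtain ⟨j, hj⟩ := hc (f c)
    obtain ⟨k, hk⟩ := hc (g c)
    simp only [MulAut.mul_apply, map_zpow] at hj hk ⊢
    rw [← hk, map_zpow, ← hj, map_zpow, ← hk, ← zpow_mul, ← zpow_mul, ← zpow_mul, ← zpow_mul]
    ring_nf
  refine ⟨⟨χ, hχ⟩, ?_, rfl⟩
  refine Cfsg.Agent.Lib.PSolvable.le_pCore (N := Subgroup.zpowers ⟨χ, hχ⟩) (hN := ⟨fun x hx g => ?_⟩) ?_
    (Subgroup.mem_zpowers _)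
  · rwa [show g * x * g⁻¹ = x from Subtype.ext (by
      show (g : MulAut Q) * x * (g : MulAut Q)⁻¹ = x
      rw [hcomm, inv_mul_cancel_left])]
  · intro y
    obtain ⟨i, hi⟩ := y.2
    obtain ⟨n, hn⟩ := IsPGroup.iff_card.mp hp
    have h1 : (⟨χ, hχ⟩ : A) ^ p ^ n = 1 :=
      Subtype.ext (orderOf_dvd_iff_pow_eq_one.1 (hn ▸ hord))
    refine ⟨n, Subtype.ext ?_⟩
    rw [Subgroup.coe_pow, ← hi, ← zpow_natCast, ← zpow_mul, mul_comm, zpow_mul, zpow_natCast,
      h1, one_zpow]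
    rfl

/-- Let p be an odd prime and F a saturated fusion system over a finite p-group S. Call a fusion system E (over any subgroup) p-stable when, for every fully E-normalized subgroup Q and every χ ∈ Aut_E(Q) with χ(a⁻¹)·a·χ(a⁻¹)·χ(χ(a)) = 1 for all a ∈ Q (χ acts quadratically), χ lies in O_p(Aut_E(Q)). Then F is p-stable if and only if every normalizer fusion system N_F(R) of every non-cyclic fully F-normalized subgroup R of S is p-stable. -/
theorem result {Ω : Type*} [Group Ω] {S : Subgroup Ω} [Finite S] (p : ℕ) [Fact p.Prime] (hS : IsPGroup p S) (F : Cfsg.FusionSystem S) (hF : F.IsSaturated p) (hp : p ≠ 2) : (∀ Q : Subgroup Ω, F.IsFullyNormalized Q → ∀ χ : MulAut ↥Q, χ ∈ F.autGroup Q → (∀ a : ↥Q, (χ a⁻¹) * a * (χ a⁻¹) * (χ (χ a)) = 1) → χ ∈ ((Cfsg.pCore p ↥(F.autGroup Q)).map (F.autGroup Q).subtype : Subgroup (MulAut ↥Q))) ↔ ∀ R : Subgroup Ω, F.IsFullyNormalized R → ¬ IsCyclic ↥R → ∀ N : Cfsg.FusionSystem (Cfsg.FusionSystem.normalizerIn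 S R), F.IsNormalizerSystem R N → (∀ Q : Subgroup Ω, N.IsFullyNormalized Q → ∀ χ : MulAut ↥Q, χ ∈ N.autGroup Q → (∀ a : ↥Q, (χ a⁻¹) * a * (χ a⁻¹) * (χ (χ a)) = 1) → χ ∈ ((Cfsg.pCore p ↥(N.autGroup Q)).map (N.autGroup Q).subtype : Subgroup (MulAut ↥Q))) := by
  refine ⟨fun h R _ _ N hN => IsPStableSystem.normalizerSystem h hN, fun h Q hQ => ?_⟩
  have : Finite Q := finite_of_le hQ.1
  by_cases hc : IsCyclic Q
  · exact quadStable_of_isCyclic (hS.to_le hQ.1) hc _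
  obtain ⟨N, hN⟩ := exists_normalizerSystem F hQ.1
  have : Finite (normalizerIn S Q) := finite_normalizerIn Q
  have hQN : Q ≤ normalizerIn S Q := le_normalizerIn hQ.1
  refine quadStable_mono ?_ (IsPStableSystem.quadStable (h Q hQ hc N hN) hQN)
  intro β hβ
  refine (mem_autGroup hQN).2 ?_
  rw [hN Q]
  have hβH := autGroup_hom_mem hQ.1 hβ
  have hsup : Q ⊔ Q ≤ Q := sup_le le_rfl le_rfl
  refine ⟨hβH, hQN, fun x => hQN (β x).2, _, restrict_mem hβH hsup, fun x => rfl, ?_⟩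
  refine (imgSub_of_agree (φ := autHom β) le_sup_right ?_).trans (range_autHom β)
  exact fun x hx hN => rfl

end Cfsg.Agent.S5247
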