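import Cfsg.Statements.S5249
import Cfsg.Agent.Lib.Fusion.QdFree

set_option autoImplicit false
open Cfsg Cfsg.FusionSystem Cfsg.Agent.Lib.Fusion

namespace Cfsg.Agent.S5249

/-- Let p be an odd prime, G a finite group in which Qd(p) (the natural semidirect product of an elementary abelian group of order p² by SL₂(p)) is not involved, and P a Sylow p-subgroup of G. Then the fusion system of G on P is a solvable fusion system. -/
theorem result {G : Type*} [Group G] [Finite G] {p : ℕ} [Fact p.Prime] (hp : p ≠ 2) (hqd : ¬ Cfsg.Involves ↥(Cfsg.qd p) G) (P : Sylow p G) : (Cfsg.groupFusionSystem (P : Subgroup G)).IsSolvableSystem := by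
  intro R hR hRS _ E hE hcore
  have hsat := isSaturated_groupFusion P
  have hfin : Finite (↥(P : Subgroup G) ⧸ R.subgroupOf (P : Subgroup G)) := inferInstance
  have hS' : IsPGroup p (⊤ : Subgroup (↥(P : Subgroup G) ⧸ R.subgroupOf (P : Subgroup G))) :=
    (P.2.to_quotient _).to_subgroup ⊤
  have hEsat : E.IsSaturated p := isSaturated_of_surjectiveMorphism P.2 hsat
    (isSurjectiveMorphism_of_isFactorSystem P.2 hsat hR hE)
  have hn := isNormal_centerThompsonA_of_not_witness hp hS' hEsat
    fun hw => not_witness_groupFusion P hqd (hw.of_factor hE)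
  have htop : (⊤ : Subgroup (↥(P : Subgroup G) ⧸ R.subgroupOf (P : Subgroup G))) ≠ ⊥ := by
    intro h
    refine hRS (le_antisymm hR.1 fun x hx => ?_)
    exact (QuotientGroup.eq_one_iff (⟨x, hx⟩ : ↥(P : Subgroup G))).mp
      (Subgroup.mem_bot.mp (h ▸ Subgroup.mem_top _))
  exact centerThompsonAOf_ne_bot hS' htop (le_bot_iff.mp (hcore ▸ le_sSup hn))

end Cfsg.Agent.S5249
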