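import Cfsg.Statements.S5251
import Cfsg.Agent.Lib.Fusion.CentralizerClosed
import Cfsg.Agent.Lib.Fusion.ModT
import Cfsg.Agent.Lib.AbelianMaximal.Essential

set_option autoImplicit false
open Cfsg Cfsg.FusionSystem Cfsg.Agent.Lib Cfsg.Agent.Lib.Fusion

namespace Cfsg.Agent.S5251

/-- Let F be a saturated fusion system over a finite p-group S, E a normal subsystem of F over T, and P an F-centric subgroup of S such that P ∩ T is not E-centric. Then some F-conjugate P* of P satisfies Out_S(P*) ∩ O_p(Out_F(P*)) ≠ 1: there is an element of N_S(P*) outside P* whose conjugation action on P* lies in O_p(Aut_F(P*)). In particular P is not both centric and radical in F. -/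
theorem result {Ω : Type*} [Group Ω] {S : Subgroup Ω} [Finite S] (p : ℕ) [Fact p.Prime] (hS : IsPGroup p S) (F : Cfsg.FusionSystem S) (hF : F.IsSaturated p) {T : Subgroup Ω} (E : Cfsg.FusionSystem T) (hE : E.IsNormalIn F p) (P : Subgroup Ω) (hP : F.IsCentric P) (hPT : ¬ E.IsCentric (P ⊓ T)) : (∃ φ ∈ F.Hom P, ∃ x ∈ S ⊓ Subgroup.normalizer (φ.range : Set Ω), x ∉ φ.range ∧ ∃ α ∈ ((Cfsg.pCore p ↥(F.autGroup φ.range)).map (F.autGroup φ.range).subtype : Subgroup (MulAut ↥φ.range)), ∀ y : ↥φ.range, ((α y : ↥φ.range) : Ω) = x * (y : Ω) * x⁻¹) ∧ ¬ F.IsRadical p P := by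
  obtain ⟨⟨-, -, hEF, hT, -, -⟩, -⟩ := hE
  have hPS := hP.1
  have hQ0 : ¬ ∀ Q : Subgroup Ω, E.IsConj (P ⊓ T) Q → centralizerIn T Q ≤ Q :=
    fun e => hPT ⟨inf_le_right, e⟩
  push Not at hQ0
  obtain ⟨Q', hQ', hC'⟩ := hQ0
  obtain ⟨c, hc, hcQ'⟩ := SetLike.not_le_iff_exists.1 hC'
  have hQ'F : F.IsConj (P ⊓ T) Q' := by
    obtain ⟨φ, hφ, hr⟩ := hQ'
    exact ⟨φ, hEF _ hφ, hr⟩
  have hQ'S := isConj_le_right hQ'F
  obtain ⟨Q, hQc, hQn⟩ := exists_isFullyNormalized_conj F hQ'S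
  -- `C_T(Q) ≰ Q`
  obtain ⟨ψ, hψ, -, hψQ⟩ := exists_map_to_fullyNormalized hS hF hQn hQc
  have hcN : c ∈ normalizerIn S Q' :=
    centralizerIn_le_normalizerIn Q' ⟨hT.1 hc.1, hc.2⟩
  obtain ⟨d, hdT, hdQ, hdC⟩ : ∃ d : Ω, d ∈ T ∧ d ∉ Q ∧ d ∈ Subgroup.centralizer (Q : Set Ω) := by
    refine ⟨ψ ⟨c, hcN⟩, stronglyClosed_map hT hψ _ hc.1, fun e => hcQ' ?_, ?_⟩
    · rw [← hψQ] at e
      exact (apply_mem_imgSub_iff (F.injective_of_mem hψ) (⟨c, hcN⟩ : normalizerIn S Q')).1 e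
    · rw [← hψQ]
      exact apply_mem_centralizer ψ ⟨c, hcN⟩ hc.2
  -- move `P`
  obtain ⟨χ, hχ, -, hχQ⟩ := exists_map_to_fullyNormalized hS hF hQn (isConj_trans hQ'F hQc)
  have hPN : P ≤ normalizerIn S (P ⊓ T) := fun x hx => ⟨hPS hx, conjSub_eq_self_iff.1 (by
    rw [conjSub_inf, conjSub_self_of_mem hx,
      conjSub_eq_self_iff.2 (stronglyClosed_le_normalizer hT (hPS hx))])⟩
  set φ := χ.comp (Subgroup.inclusion hPN) with hφdef
  have hφ : φ ∈ F.Hom P := restrict_mem hχ hPN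
  have hinter : φ.range ⊓ T = Q := by
    rw [← hχQ]
    refine le_antisymm ?_ ?_
    · rintro _ ⟨⟨x, rfl⟩, hxT⟩
      refine apply_mem_imgSub χ (Subgroup.inclusion hPN x) ⟨x.2, ?_⟩
      obtain ⟨θ, hθ, -, hθx, -⟩ := exists_inverse hφ rfl
      have h1 := stronglyClosed_map hT hθ ⟨φ x, ⟨x, rfl⟩⟩ hxT
      rwa [hθx x ⟨x, rfl⟩] at h1
    · intro y hy
      obtain ⟨x, hx, rfl⟩ := mem_imgSub.1 hy
      exact ⟨⟨⟨x, hx.1⟩, rfl⟩, stronglyClosed_map hT hχ x hx.2⟩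
  set R := φ.range with hR
  have hRS : R ≤ S := range_le hφ
  set W := centralizerIn T Q with hW
  have hWS : W ≤ S := inf_le_left.trans hT.1
  have hdW : d ∈ W := ⟨hdT, hdC⟩
  have hdR : d ∉ R := fun e => hdQ (hinter ▸ ⟨e, hdT⟩)
  have hRW : R ≤ Subgroup.normalizer (W : Set Ω) := by
    intro r hr
    have hrT := stronglyClosed_le_normalizer hT (hRS hr)
    have hrQ : r ∈ Subgroup.normalizer (Q : Set Ω) := conjSub_eq_self_iff.1 (by
      rw [← hinter, conjSub_inf, conjSub_self_of_mem hr, conjSub_eq_self_iff.2 hrT])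
    refine conjSub_eq_self_iff.1 ?_
    show conjSub r (T ⊓ Subgroup.centralizer (Q : Set Ω)) = T ⊓ _
    rw [conjSub_inf, conjSub_centralizer, conjSub_eq_self_iff.2 hrQ, conjSub_eq_self_iff.2 hrT]
  have hsup : R ⊔ W ≤ S := sup_le hRS hWS
  haveI : Finite (R ⊔ W : Subgroup Ω) := finite_of_le hsup
  obtain ⟨g, ⟨hgM, hgN⟩, hgR⟩ := SetLike.exists_of_lt
    (lt_normalizerIn (S := R ⊔ W) (hS.to_le hsup)
      (lt_of_le_of_ne le_sup_left fun e => hdR (e ▸ Subgroup.mem_sup_right hdW)))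
  have hgprod : g ∈ ((R ⊔ W : Subgroup Ω) : Set Ω) := hgM
  rw [Subgroup.coe_mul_of_left_le_normalizer_right R W hRW] at hgprod
  obtain ⟨r, hr, x, hx, rfl⟩ := hgprod
  have hxN : x ∈ Subgroup.normalizer (R : Set Ω) := by
    have := mul_mem (inv_mem (Subgroup.le_normalizer hr)) hgN
    rwa [inv_mul_cancel_left] at this
  have hxR : x ∉ R := fun e => hgR (R.mul_mem hr e)
  -- the chain stabilizer
  haveI := finite_of_le hRS
  set V := Q.subgroupOf R with hV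
  set K := AbelianMaximal.stab V ⊓ F.autGroup R with hK
  have hVinv : ∀ κ ∈ F.autGroup R, ∀ q : R, q ∈ V → κ q ∈ V := fun κ hκ q hq => by
    have h1 : (q : Ω) ∈ R ⊓ T := hinter.symm ▸ (hq : (q : Ω) ∈ Q)
    show (κ q : Ω) ∈ Q
    rw [← hinter]
    exact ⟨(κ q).2, stronglyClosed_map hT (autGroup_hom_mem hRS hκ) q h1.2⟩
  have hKn : (K.subgroupOf (F.autGroup R)).Normal := by
    refine ⟨fun m hm g => Subgroup.mem_inf.2 ⟨AbelianMaximal.stab_conj (fun u => ⟨fun hu => ?_,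
      hVinv _ g.2 u⟩) (Subgroup.mem_inf.1 hm).1, (g * m * g⁻¹).2⟩⟩
    have := hVinv _ (inv_mem g.2) _ hu
    rwa [MulAut.inv_apply_self] at this
  have hKp : IsPGroup p (K.subgroupOf (F.autGroup R)) :=
    ((AbelianMaximal.isPGroup_stab' (hS.to_le hRS) V).to_le inf_le_left).of_equiv
      (Subgroup.subgroupOfEquivOfLe (inf_le_right : K ≤ F.autGroup R)).symm
  have hα : conjAut R x hxN ∈ F.autGroup R :=
    autInducedBy_le_autGroup hRS (mem_autInducedBy.2 ⟨x, hWS hx, fun _ => rfl⟩)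
  have hαK : conjAut R x hxN ∈ AbelianMaximal.stab V := by
    refine ⟨fun q hq => Subtype.ext ?_, fun q => ?_⟩
    · rw [conjAut_apply, ← hx.2 (q : Ω) hq, mul_inv_cancel_right]
    · show ((conjAut R x hxN q * q⁻¹ : R) : Ω) ∈ Q
      rw [← hinter]
      refine ⟨(conjAut R x hxN q * q⁻¹).2, ?_⟩
      rw [Subgroup.coe_mul, Subgroup.coe_inv, conjAut_apply,
        show x * (q : Ω) * x⁻¹ * (q : Ω)⁻¹ = x * ((q : Ω) * x⁻¹ * (q : Ω)⁻¹) by group]
      exact T.mul_mem hx.1 (stronglyClosed_conj hT (hRS q.2) (T.inv_mem hx.1))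
  have hmem : (⟨_, hα⟩ : F.autGroup R) ∈ pCore p (F.autGroup R) :=
    PSolvable.le_pCore (hN := hKn) hKp (Subgroup.mem_inf.2 ⟨hαK, hα⟩)
  have hcore : conjAut R x hxN ∈
      (pCore p (F.autGroup R)).map (F.autGroup R).subtype := ⟨_, hmem, rfl⟩
  refine ⟨⟨φ, hφ, x, ⟨hWS hx, hxN⟩, hxR, _, hcore, fun y => rfl⟩, fun hrad => hxR ?_⟩
  exact mem_of_conjAut_mem_inn (isCentric_of_isConj hP (isConj_range hφ)) (hWS hx)
    (hgN := hxN) ((isRadical_of_range hrad hφ rfl).2 ▸ hcore)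

end Cfsg.Agent.S5251
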