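import Cfsg.Statements.S5253
import Cfsg.Agent.Lib.Fusion.CentralFunctor
import Cfsg.Agent.Lib.Fusion.QuadraticCenter

set_option autoImplicit false
universe u
open Cfsg Cfsg.FusionSystem Cfsg.Agent.Lib.Fusion

namespace Cfsg.Agent.S5253

/-- Let p be a prime and W a positive characteristic p-functor with Z(Q) ≤ W(Q): W assigns to every finite p-group Q (in a fixed universe) a subgroup W(Q), nontrivial when Q is, carried to W(R) by every isomorphism Q ≅ R, and containing the centre of Q. Suppose that for every finite group G with Sylow p-subgroup P in which W(P) is not normal there is g ∈ P outside O_p(G) with [Z(O_p(G)), g, g] = 1. Then for every saturated fusion system F over a finite p-group S and every normalizer fusion system N of W(S) in F, every p-th power of an element of Z(S) that lies in the centre of N lies in the centre of F. -/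
theorem result {p : ℕ} [Fact p.Prime] (W : ∀ (Q : Type u) [Group Q], Subgroup Q) (hW1 : ∀ (Q : Type u) [Group Q] [Finite Q], IsPGroup p Q → Nontrivial Q → W Q ≠ ⊥) (hW2 : ∀ (Q R : Type u) [Group Q] [Group R] [Finite Q], IsPGroup p Q → ∀ φ : Q ≃* R, (W Q).map φ.toMonoidHom = W R) (hWZ : ∀ (Q : Type u) [Group Q] [Finite Q], IsPGroup p Q → Subgroup.center Q ≤ W Q) (hq : ∀ (G : Type u) [Group G] [Finite G] (P : Sylow p G), ¬ (((W ↥(P : Subgroup G)).map (P : Subgroup G).subtype : Subgroup G)).Normal → ∃ g : G, g ∈ (P : Subgroup G) ∧ g ∉ Cfsg.pCore p G ∧ ⁅⁅Subgroup.center ↥(Cfsg.pCore p G) |>.map (Cfsg.pCore p G).subtype, Subgroup.zpowers g⁆, Subgroup.zpowers g⁆ = ⊥) {Ω : Type u} [Group Ω] {S : Subgroup Ω} [Finite S] (hS : IsPGroup p S) (F : Cfsg.FusionSystem S) (hF : F.IsSaturated p) (N : Cfsg.FusionSystem (Cfsg.FusionSystem.normalizerIn S ((W ↥S).map S.subtype))) (hN : F.IsNormalizerSystem ((W ↥S).map S.subtype) N) : Subgroup.closure ((fun z => z ^ p) '' ((S ⊓ Subgroup.centralizer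 (S : Set Ω) : Subgroup Ω) : Set Ω)) ⊓ N.center ≤ F.center := by
  rintro z ⟨hz, hzN⟩
  haveI := finite_normalizerIn (S := S) ((W ↥S).map S.subtype)
  refine mem_center_of_functor p W hW1 hW2 (fun _ => True) (fun _ _ h => h) (fun _ h => h)
    ?_ hS hF trivial hN hzN ?_
  · intro Ω₁ _ S₁ _ F₁ _ L _ _ ι P _ _ _ hc z hzP hk hfix g
    obtain ⟨y, hy, rfl⟩ := hk
    refine pow_central_of_quadratic W hW2 (fun G _ _ Q hn _ => ?_) L P hc hy hfix g
    obtain ⟨g₀, h1, h2, h3⟩ := hq G Q hn
    refine ⟨g₀, h1, h2, fun v hv => quadratic_of_commutator h3 v ?_⟩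
    exact ⟨⟨v, hv.1⟩, Subgroup.mem_center_iff.mpr fun q => Subtype.ext
      (Subgroup.mem_centralizer_iff.mp hv.2 q q.2), rfl⟩
  · clear hzN
    induction hz using Subgroup.closure_induction with
    | mem x hx =>
      obtain ⟨y, hy, rfl⟩ := hx
      exact ⟨y, hy, rfl⟩
    | one => exact ⟨1, one_mem _, one_pow p⟩
    | mul a b _ _ ha hb =>
      obtain ⟨y, hy, rfl⟩ := ha
      obtain ⟨w, hw, rfl⟩ := hb
      exact ⟨y * w, mul_mem hy hw,
        (show Commute y w from (Subgroup.mem_centralizer_iff.mp hy.2 w hw.1).symm).mul_pow p⟩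
    | inv a _ ha =>
      obtain ⟨y, hy, rfl⟩ := ha
      exact ⟨y⁻¹, inv_mem hy, inv_pow y p⟩

end Cfsg.Agent.S5253
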