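import Cfsg.Statements.S5255
import Cfsg.Agent.Lib.Fusion.ModT

set_option autoImplicit false
open Pointwise
open Cfsg

namespace Cfsg.Agent.S5255

open Cfsg.FusionSystem
open Cfsg.Agent.Lib.Fusion

/-- Let F be a saturated fusion system over a finite p-group S and T a subgroup of S strongly closed in F. Then T·C_S(T) is strongly closed in F. -/
theorem result {Ω : Type*} [Group Ω] {S : Subgroup Ω} [Finite S] (p : ℕ) [Fact p.Prime] (hS : IsPGroup p S) (F : Cfsg.FusionSystem S) (hF : F.IsSaturated p) (T : Subgroup Ω) (hT : F.StronglyClosed T) : F.StronglyClosed (T ⊔ Cfsg.FusionSystem.centralizerIn S T) := by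
  have hCS : centralizerIn S T ≤ S := inf_le_left
  refine ⟨sup_le hT.1 hCS, fun R hR φ hφ x => ?_⟩
  obtain ⟨ψ, hψ, hψT, hd⟩ := exists_map_sup_stronglyClosed hS hF hT hφ
  have hx : (x : Ω) ∈ centralizerIn S T ⊔ T := sup_comm T (centralizerIn S T) ▸ hR x.2
  obtain ⟨c, hc, t, ht, hct⟩ := (mem_sup_stronglyClosed hT hCS).1 hx
  have hcR : c ∈ R ⊔ T := by
    have := mul_mem (Subgroup.mem_sup_left (T := T) x.2) (Subgroup.mem_sup_right (inv_mem ht))
    rwa [← hct, mul_inv_cancel_right] at this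
  have hψc : ψ ⟨c, hcR⟩ ∈ centralizerIn S T := by
    have h := apply_mem_centralizerIn hψ ⟨c, hcR⟩ (P := T) hc.2
    rwa [hψT] at h
  have hψt : ψ (Subgroup.inclusion le_sup_right ⟨t, ht⟩) ∈ T := stronglyClosed_map hT hψ _ ht
  have hsplit : Subgroup.inclusion le_sup_left x =
      (⟨c, hcR⟩ : ↥(R ⊔ T)) * Subgroup.inclusion le_sup_right ⟨t, ht⟩ := Subtype.ext hct.symm
  have hψx : ψ (Subgroup.inclusion le_sup_left x) ∈ T ⊔ centralizerIn S T := by
    rw [hsplit, map_mul]
    exact mul_mem (Subgroup.mem_sup_right hψc) (Subgroup.mem_sup_left hψt)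
  have := mul_mem (Subgroup.mem_sup_left (T := centralizerIn S T) (inv_mem (hd x))) hψx
  simpa using this

end Cfsg.Agent.S5255
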