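import Cfsg.Statements.S5256
import Cfsg.Agent.Lib.Fusion.InducedAut

set_option autoImplicit false
open Pointwise
open Cfsg

namespace Cfsg.Agent.S5256

open Cfsg.FusionSystem
open Cfsg.Agent.Lib.Fusion

/-- Let F be a saturated fusion system over a finite p-group S, T a subgroup of S strongly closed in F, and E a factor system F/T realised along a homomorphism θ of S with kernel T. Then the hyperfocal subgroup of E is the image under θ of the hyperfocal subgroup of F (hyp(F/T) = T·hyp(F)/T). -/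
theorem result {Ω : Type*} [Group Ω] {S : Subgroup Ω} [Finite S] (p : ℕ) [Fact p.Prime] (hS : IsPGroup p S) (F : Cfsg.FusionSystem S) (hF : F.IsSaturated p) (T : Subgroup Ω) (hT : F.StronglyClosed T) {Ω' : Type*} [Group Ω'] {S' : Subgroup Ω'} (θ : ↥S →* Ω') (E : Cfsg.FusionSystem S') (hE : F.IsFactorSystem T θ E) : E.hyperfocalSubgroup p = ((F.hyperfocalSubgroup p).subgroupOf S).map θ := by
  refine le_antisymm ?_ ?_
  · rw [hyperfocalSubgroup, Subgroup.closure_le]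
    rintro _ ⟨P', β, y, hP', hβ, rfl⟩
    have hQ := preimageAlong_le_self θ P'
    obtain ⟨f, hf, hsurj⟩ := exists_inducedAutHom hS hF hT hE hQ
    have himg : imageAlong θ (preimageAlong θ P') = P' := by
      ext z
      constructor
      · rintro ⟨s, hs, rfl⟩
        exact ((mem_preimageAlong_iff θ P').1 hs).2
      · intro hz
        obtain ⟨s, rfl⟩ := hE.2.2.1.ge (hP' hz)
        exact ⟨s, (mem_preimageAlong_iff θ P').2 ⟨s.2, hz⟩, rfl⟩
    generalize hQdef : preimageAlong θ P' = Q at hQ f hf hsurj himg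
    subst himg
    have : Finite Q := finite_of_le hQ
    have : Finite (MulAut Q) := finite_mulAut hQ
    obtain ⟨α, hα, rfl⟩ := pResidual_le_map_of_surjective f (hsurj hQdef) hβ
    obtain ⟨⟨x, hx⟩, hxQ, hxy⟩ := y.2
    have hy : y = ⟨θ ⟨x, hQ hxQ⟩, ⟨⟨x, hx⟩, hxQ, rfl⟩⟩ := Subtype.ext hxy.symm
    subst hy
    refine ⟨(⟨x, hx⟩ : S)⁻¹ * ⟨_, hQ ((α : MulAut Q) ⟨x, hxQ⟩).2⟩, ?_, ?_⟩
    · show (x : Ω)⁻¹ * _ ∈ F.hyperfocalSubgroup p
      exact Subgroup.subset_closure ⟨Q, α, ⟨x, hxQ⟩, hQ, hα, rfl⟩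
    · rw [map_mul, map_inv]
      exact congrArg _ (hf α ⟨x, hxQ⟩ _).symm
  · rw [Subgroup.map_le_iff_le_comap]
    intro s hs
    suffices h : F.hyperfocalSubgroup p ≤ ((E.hyperfocalSubgroup p).comap θ).map S.subtype by
      obtain ⟨t, ht, hts⟩ := h hs
      exact (Subtype.ext hts : t = s) ▸ ht
    rw [hyperfocalSubgroup, Subgroup.closure_le]
    rintro _ ⟨P, α, x, hP, hα, rfl⟩
    obtain ⟨f, hf, -⟩ := exists_inducedAutHom hS hF hT hE hP
    refine ⟨(⟨x, hP x.2⟩ : S)⁻¹ * ⟨_, hP ((α : MulAut P) x).2⟩, ?_, rfl⟩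
    show θ _ ∈ E.hyperfocalSubgroup p
    refine Subgroup.subset_closure ⟨imageAlong θ P, f α, ⟨θ ⟨x, hP x.2⟩, ⟨_, x.2, rfl⟩⟩, ?_,
      Cfsg.Agent.Lib.Transfer.map_pResidual_le f ⟨α, hα, rfl⟩, ?_⟩
    · rw [← hE.2.2.1]
      exact Subgroup.map_le_range θ _
    · rw [map_mul, map_inv]
      exact congrArg _ (hf α x _).symm

end Cfsg.Agent.S5256
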