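import Cfsg.Statements.S5264
import Cfsg.Agent.Lib.FusionOrderFive.PearlCase
import Cfsg.Agent.Lib.FusionOrderFive.CubeCase

set_option autoImplicit false
open Cfsg Cfsg.Agent.Lib.FusionOrderFive

namespace Cfsg.Agent.S5264

/-- Let p be an odd prime other than 7, S a finite p-group of order p^5, and F a saturated fusion system over S with no nontrivial normal subgroup and with hyperfocal subgroup equal to S (so F is its own p-residual subsystem). Then S has an abelian subgroup of index p. -/
theorem result {Ω : Type*} [Group Ω] {S : Subgroup Ω} [Finite S] (p : ℕ) [Fact p.Prime] (hS : IsPGroup p ↥S) (F : Cfsg.FusionSystem S) (hF : F.IsSaturated p) (hp : p ≠ 2) (hp7 : p ≠ 7) (hcard : Nat.card S = p ^ 5) (hcore : F.core = ⊥) (hhyp : F.hyperfocalSubgroup p = S) : ∃ A : Subgroup Ω, A ≤ S ∧ IsMulCommutative ↥A ∧ (A.subgroupOf S).index = p := by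
  by_contra hno
  have h : Setup p S F :=
    { hS := hS, hF := hF, hp2 := hp, hcard := hcard, hcore := hcore,
      hno := fun A hA hab hc => hno ⟨A, hA, ⟨⟨fun a b => Subtype.ext (hab a a.2 b b.2)⟩⟩, by
        have h1 := (A.subgroupOf S).card_mul_index
        rw [Nat.card_congr (Subgroup.subgroupOfEquivOfLe hA).toEquiv, hc, hcard, pow_succ p 4] at h1
        exact Nat.eq_of_mul_eq_mul_left (pow_pos (Fact.out : p.Prime).pos 4) h1⟩ }
  obtain ⟨R, hE, α, hα, w, hw, hαw⟩ := exists_moving h
  obtain ⟨hab, hexp, hc | hc⟩ := structure_moving h hE hα hw hαw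
  · exact hyperfocal_ne_of_split h (pearl_case h hp7 hE hab hexp hc hw hαw) hhyp
  · exact hyperfocal_ne_of_split h (cube_case h hE hab hexp hc).2 hhyp

end Cfsg.Agent.S5264
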