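import Cfsg.Statements.S5265
import Cfsg.Agent.Lib.CentreIndexSq.Two

set_option autoImplicit false
open Cfsg Cfsg.Agent.Lib Cfsg.Agent.Lib.Fusion

namespace Cfsg.Agent.S5265

/-- Let p be a prime, S a nontrivial finite p-group whose centre has index at most p², and F a saturated fusion system over S with no nontrivial normal subgroup and with hyperfocal subgroup equal to S. Then S is extraspecial of order p³; for odd p it has exponent p, and for p = 2 it is dihedral of order 8. -/
theorem result {Ω : Type*} [Group Ω] {S : Subgroup Ω} [Finite S] (p : ℕ) [Fact p.Prime] (hS : IsPGroup p ↥S) (F : Cfsg.FusionSystem S) (hF : F.IsSaturated p) (hS1 : S ≠ ⊥) (hcore : F.core = ⊥) (hhyp : F.hyperfocalSubgroup p = S) (hZ : (Subgroup.center ↥S).index ≤ p ^ 2) : Cfsg.IsExtraspecial p ↥S ∧ Nat.card S = p ^ 3 ∧ (p ≠ 2 → Monoid.exponent ↥S = p) ∧ (p = 2 → Nonempty (↥S ≃* DihedralGroup 4)) := by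
  have hnab : ∃ a b : S, a * b ≠ b * a := by
    by_contra hcon
    push Not at hcon
    have hsc : F.StronglyClosed S := ⟨le_rfl, fun R _ φ hφ x => val_mem hφ x⟩
    exact hS1 (eq_bot_iff.2
      (hcore ▸ le_core (isNormal_of_isMulCommutative hS hF hsc ⟨⟨hcon⟩⟩)))
  have h : CentreIndexSq.SmallQuot p S := ⟨hS, hnab, hZ⟩
  by_cases hp2 : p = 2
  · subst hp2
    obtain ⟨h1, h2, h3⟩ := CentreIndexSq.structure_two h hF hcore hhyp
    exact ⟨h1, h2, fun e => absurd rfl e, fun _ => h3⟩
  · obtain ⟨h1, h2, h3⟩ := CentreIndexSq.structure_odd h hF hcore hp2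
    exact ⟨h1, h2, fun _ => h3, fun e => absurd e hp2⟩

end Cfsg.Agent.S5265
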