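import Cfsg.Statements.S5270
import Cfsg.Agent.Lib.H66.MaxClass.Basic
import Cfsg.Agent.Lib.PLemmas.MaximalClass
import Cfsg.Agent.Lib.Fusion.Alperin
import Cfsg.Agent.Lib.EssentialFour.Group

set_option autoImplicit false
open Cfsg Cfsg.FusionSystem Cfsg.Agent.Lib Cfsg.Agent.Lib.Fusion

namespace Cfsg.Agent.S5270

open Cfsg.Agent.Lib.H66.MaxClass Subgroup
open scoped commutatorElement

theorem upperCentralSeries_two_eq {P : Type*} [Group P] [Finite P] {p n : ℕ} [Fact p.Prime]
    (h : IsMax p P n) (hn : 4 ≤ n) : Subgroup.upperCentralSeries P 2 = L P (n - 3) := by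
  have hQ := h.quotient (m := n - 2) (by omega) (by omega)
  have hc := hQ.center_eq (by omega)
  rw [show n - 2 + 1 - 2 = n - 3 by omega, IsMax.map_L h] at hc
  have hZ := h.center_eq (by omega)
  ext x
  constructor
  · intro hx
    have h1 : (x : P ⧸ L P (n - 2)) ∈ center (P ⧸ L P (n - 2)) := by
      rw [mem_center_iff]
      intro y
      induction y using QuotientGroup.induction_on with
      | _ g =>
        have h2 := Subgroup.mem_upperCentralSeries_succ_iff.1 hx g
        rw [Subgroup.upperCentralSeries_one, hZ] at h2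
        rw [← QuotientGroup.mk_mul, ← QuotientGroup.mk_mul, QuotientGroup.eq]
        have h3 := Subgroup.mem_upperCentralSeries_succ_iff.1 (inv_mem hx) g⁻¹
        rw [Subgroup.upperCentralSeries_one, hZ, commutatorElement_def, inv_inv, inv_inv] at h3
        rw [show (g * x)⁻¹ * (x * g) = x⁻¹ * g⁻¹ * x * g by group]
        exact h3
    rw [hc] at h1
    obtain ⟨a, ha, he⟩ := h1
    have h2 : a⁻¹ * x ∈ L P (n - 2) := QuotientGroup.eq.1 he
    have := mul_mem ha (L_anti (by omega : n - 3 ≤ n - 2) h2)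
    rwa [mul_inv_cancel_left] at this
  · intro hx
    refine Subgroup.mem_upperCentralSeries_succ_iff.2 fun g => ?_
    rw [Subgroup.upperCentralSeries_one, hZ]
    have h1 := comm_top_mem hx g
    rw [show n - 3 + 1 = n - 2 by omega] at h1
    exact h1


/-- The second centre. -/
abbrev Z2' {Ω : Type*} [Group Ω] (S : Subgroup Ω) : Subgroup ↥S := Subgroup.upperCentralSeries ↥S 2

/-- The centre. -/
abbrev Zc' {Ω : Type*} [Group Ω] (S : Subgroup Ω) : Subgroup ↥S := Subgroup.center ↥S

/-- The second centre, in the ambient group. -/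
abbrev W' {Ω : Type*} [Group Ω] (S : Subgroup Ω) : Subgroup Ω := (Z2' S).map S.subtype

/-- The centre, in the ambient group. -/
abbrev Z' {Ω : Type*} [Group Ω] (S : Subgroup Ω) : Subgroup Ω := (Zc' S).map S.subtype

/-- Let p ≥ 5 be a prime, S a finite p-group of maximal class of order p^n with n ≥ 4, and F a saturated fusion system over S. If some map of F defined on the second centre Z₂(S) with image Z₂(S) does not carry Z(S) into itself, then the centralizer C_S(Z₂(S)) is an F-essential subgroup. -/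
theorem result {Ω : Type*} [Group Ω] {S : Subgroup Ω} [Finite S] (p : ℕ) [Fact p.Prime] (hS : IsPGroup p ↥S) (n : ℕ) (hn : Nat.card S = p ^ n) (h4 : 4 ≤ n) (hmax : Subgroup.lowerCentralSeries S (n - 2) ≠ ⊥) (F : Cfsg.FusionSystem S) (hF : F.IsSaturated p) (hp : 5 ≤ p) (φ : ↥((Subgroup.upperCentralSeries ↥S 2).map S.subtype) →* Ω) (hφ : φ ∈ F.Hom ((Subgroup.upperCentralSeries ↥S 2).map S.subtype)) (hφZ : φ.range = ((Subgroup.upperCentralSeries ↥S 2).map S.subtype)) (hmove : ∃ (z : Ω) (hz : z ∈ ((Subgroup.upperCentralSeries ↥S 2).map S.subtype)), z ∈ ((Subgroup.center ↥S).map S.subtype) ∧ φ ⟨z, hz⟩ ∉ ((Subgroup.center ↥S).map S.subtype)) : F.IsEssential p (S ⊓ Subgroup.centralizer (((Subgroup.upperCentralSeries ↥S 2).map S.subtype) : Set Ω)) := by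
  classical
  have hP : H66.MaxClass.IsMax p ↥S n := by
    refine ⟨hn, by omega, le_antisymm (Lib.PLemmas.nilpotencyClass_le hS hn (by omega)) ?_⟩
    haveI : Group.IsNilpotent ↥S := hS.isNilpotent
    by_contra h
    refine hmax ?_
    have hbot : (⊤ : Subgroup ↥S).lowerCentralSeries (n - 2) = ⊥ :=
      Subgroup.lowerCentralSeries_eq_bot_iff_nilpotencyClass_le.mpr (by omega)
    have h2 := congrArg (Subgroup.map S.subtype) hbot
    rwa [Subgroup.map_lowerCentralSeries, ← MonoidHom.range_eq_map, Subgroup.range_subtype,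
      Subgroup.map_bot] at h2
  have hU := upperCentralSeries_two_eq hP h4
  have hcent := hP.center_eq (by omega)
  have hcardZ : Nat.card (Zc' S) = p := by
    show Nat.card (Subgroup.center ↥S) = p
    rw [hcent, hP.card_L (by omega) (by omega), show n - 1 - (n - 2) = 1 by omega, pow_one]
  have hcard2 : Nat.card (Z2' S) = p ^ 2 := by
    show Nat.card (Subgroup.upperCentralSeries ↥S 2) = p ^ 2
    rw [hU, hP.card_L (by omega) (by omega), show n - 1 - (n - 3) = 2 by omega]
  have hle : (Zc' S) ≤ (Z2' S) := by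
    show Subgroup.center ↥S ≤ Subgroup.upperCentralSeries ↥S 2
    rw [← Subgroup.upperCentralSeries_one ↥S]
    exact Subgroup.upperCentralSeries_mono ↥S (by norm_num)
  have hlt : (Zc' S) < (Z2' S) := lt_of_le_of_ne hle fun e => by
    rw [e, hcard2] at hcardZ
    nlinarith [(Fact.out : p.Prime).two_le]
  obtain ⟨w, hw, hwZ⟩ := SetLike.exists_of_lt hlt
  have hgen : (Zc' S) ⊔ Subgroup.zpowers w = (Z2' S) := by
    refine Subgroup.eq_of_le_of_card_ge (sup_le hle (Subgroup.zpowers_le.2 hw)) ?_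
    have h1 := EssentialFour.card_le_prime_mul_of_lt hS (lt_of_le_of_ne
      (le_sup_left : (Zc' S) ≤ (Zc' S) ⊔ Subgroup.zpowers w)
      fun e => hwZ (e ▸ Subgroup.mem_sup_right (Subgroup.mem_zpowers w)))
    rw [hcardZ] at h1
    rw [hcard2, pow_two]
    exact h1
  set C := S ⊓ Subgroup.centralizer ((W' S) : Set Ω) with hC
  have hCw : C.subgroupOf S = Subgroup.centralizer ({w} : Set ↥S) := by
    ext g
    rw [Subgroup.mem_subgroupOf, Subgroup.mem_centralizer_singleton_iff]
    constructor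
    · intro hg
      exact Subtype.ext (hg.2 _ ⟨w, hw, rfl⟩).symm
    · intro hg
      refine ⟨g.2, ?_⟩
      rintro _ ⟨z, hz, rfl⟩
      have hle' : (Zc' S) ⊔ Subgroup.zpowers w ≤ Subgroup.centralizer ({g} : Set ↥S) := sup_le
        (fun u hu => Subgroup.mem_centralizer_singleton_iff.2 (Subgroup.mem_center_iff.1 hu g).symm)
        (Subgroup.zpowers_le.2 (Subgroup.mem_centralizer_singleton_iff.2 hg.symm))
      rw [hgen] at hle'
      exact congrArg Subtype.val (Subgroup.mem_centralizer_singleton_iff.1 (hle' hz))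
  have hidx : (Subgroup.centralizer ({w} : Set ↥S)).index ∣ p := by
    have := EssentialFour.index_centralizer_dvd (h := w) (N := (Zc' S)) le_rfl fun g => by
      rw [← commutatorElement_inv]
      refine (Zc' S).inv_mem ?_
      have h1 := Subgroup.mem_upperCentralSeries_succ_iff.1 hw g
      rwa [Subgroup.upperCentralSeries_one] at h1
    rwa [hcardZ] at this
  have hCS : C ≤ S := inf_le_left
  have hmax' : ∀ Q : Subgroup Ω, C < Q → Q ≤ S → Q = S := by
    intro Q hCQ hQS
    have h1 := Subgroup.relIndex_mul_index (show C.subgroupOf S ≤ Q.subgroupOf S from fun x hx => hCQ.le hx)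
    rw [hCw] at h1
    rcases (Nat.dvd_prime (Fact.out : p.Prime)).1 hidx with h | h
    · rw [h] at h1
      refine le_antisymm hQS fun g hg => ?_
      have h2 := Nat.eq_one_of_mul_eq_one_left h1
      exact Subgroup.mem_subgroupOf.1 (Subgroup.index_eq_one.1 h2 ▸ Subgroup.mem_top (⟨g, hg⟩ : ↥S))
    · rw [h] at h1
      rcases (Nat.dvd_prime (Fact.out : p.Prime)).1 ⟨_, h1.symm⟩ with h2 | h2
      · exfalso
        refine hCQ.not_ge fun g hg => ?_
        have h3 := Subgroup.relIndex_eq_one.1 h2 (Subgroup.mem_subgroupOf.2 hg : (⟨g, hQS hg⟩ : ↥S) ∈ Q.subgroupOf S)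
        rw [← hCw] at h3
        exact h3
      · rw [h2] at h1
        refine le_antisymm hQS fun g hg => ?_
        have h3 := Nat.eq_of_mul_eq_mul_left (Fact.out : p.Prime).pos (h1.trans (mul_one p).symm)
        exact Subgroup.mem_subgroupOf.1 (Subgroup.index_eq_one.1 h3 ▸ Subgroup.mem_top (⟨g, hg⟩ : ↥S))
  have hlt : C < S := by
    refine lt_of_le_of_ne hCS fun e => hwZ (Subgroup.mem_center_iff.2 fun g => ?_)
    have : g ∈ Subgroup.centralizer ({w} : Set ↥S) := by
      rw [← hCw, Subgroup.mem_subgroupOf, e]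
      exact g.2
    exact Subgroup.mem_centralizer_singleton_iff.1 this
  have hWS : (W' S) ≤ S := Subgroup.map_subtype_le _
  have hnorm : ∀ g ∈ S, g ∈ Subgroup.normalizer ((W' S) : Set Ω) := by
    intro g hg
    have hfwd : ∀ u : ↥S, ∀ y ∈ (W' S), (u : Ω) * y * (u : Ω)⁻¹ ∈ (W' S) := by
      rintro u _ ⟨z, hz, rfl⟩
      exact ⟨u * z * u⁻¹, (inferInstance : (Z2' S).Normal).conj_mem z hz u, rfl⟩
    refine Subgroup.mem_normalizer_iff.2 fun y => ⟨hfwd ⟨g, hg⟩ y, fun hy => ?_⟩
    have := hfwd ⟨g, hg⟩⁻¹ _ hy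
    simpa [mul_assoc] using this
  have hWfn : F.IsFullyNormalized (W' S) := by
    have := finite_of_le (S := S) (P := normalizerIn S (W' S)) inf_le_left
    refine ⟨hWS, fun Q _ => Subgroup.card_le_of_le fun x hx => ?_⟩
    exact ⟨hx.1, hnorm x hx.1⟩
  have hCn : F.IsFullyNormalized C := by
    have := finite_of_le (S := S) (P := normalizerIn S C) inf_le_left
    refine ⟨hCS, fun Q _ => Subgroup.card_le_of_le fun x hx => ⟨hx.1, ?_⟩⟩
    have hn' := hnorm x hx.1
    refine Subgroup.mem_normalizer_iff.2 fun y => ?_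
    constructor
    · intro hy
      refine ⟨S.mul_mem (S.mul_mem hx.1 hy.1) (S.inv_mem hx.1), fun z hz => ?_⟩
      have hz' : x⁻¹ * z * x ∈ (W' S) := by
        have := (Subgroup.mem_normalizer_iff.1 hn' (x⁻¹ * z * x)).2 (by simpa [mul_assoc] using hz)
        exact this
      have h1 : (x⁻¹ * z * x) * y = y * (x⁻¹ * z * x) := hy.2 _ hz'
      calc z * (x * y * x⁻¹) = x * ((x⁻¹ * z * x) * y) * x⁻¹ := by group
        _ = x * y * x⁻¹ * z := by rw [h1]; group
    · intro hy
      refine ⟨?_, fun z hz => ?_⟩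
      · have := S.mul_mem (S.mul_mem (S.inv_mem hx.1) hy.1) hx.1
        simpa [mul_assoc] using this
      · have h1 : (x * z * x⁻¹) * (x * y * x⁻¹) = (x * y * x⁻¹) * (x * z * x⁻¹) :=
          hy.2 _ ((Subgroup.mem_normalizer_iff.1 hn' z).1 hz)
        calc z * y = x⁻¹ * ((x * z * x⁻¹) * (x * y * x⁻¹)) * x := by group
          _ = y * z := by rw [h1]; group
  by_contra hess
  have hext := isEssential_or_extendable_eq hS hF hlt hCn hess
  -- the extension of `φ` to `C`
  obtain ⟨ψ, hψ, hψe⟩ := (isReceptive_of_isFullyNormalized hS hF hWfn).2 (W' S) φ hφ hφZ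
  have hCext : C ≤ extender S (W' S) φ := fun c hc => mem_extender.2 ⟨hc.1, hnorm c hc.1, 1, S.one_mem,
    fun x hx => by
      rw [one_mul, inv_one, mul_one]
      congr 1
      apply Subtype.ext
      show c * (x : Ω) * c⁻¹ = x
      rw [← hc.2 _ x.2, mul_inv_cancel_right]⟩
  set ψC := ψ.comp (Subgroup.inclusion hCext) with hψC
  have hψCmem : ψC ∈ F.Hom C := restrict_mem hψ hCext
  have hWC : (W' S) ≤ C := by
    rintro _ ⟨z, hz, rfl⟩
    refine ⟨z.2, ?_⟩
    rintro _ ⟨z', hz', rfl⟩
    have hcomm := IsPGroup.commutative_of_card_eq_prime_sq hcard2 ⟨z', hz'⟩ ⟨z, hz⟩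
    exact congrArg (fun u : (Z2' S) => ((u : ↥S) : Ω)) hcomm
  have : Finite C := finite_of_le hCS
  have hψr : ψC.range = C := by
    refine Subgroup.eq_of_le_of_card_ge ?_ (card_range hψCmem).ge
    rintro _ ⟨c, rfl⟩
    refine ⟨val_mem hψCmem c, ?_⟩
    intro y hy
    obtain ⟨z, rfl⟩ := hφZ.ge hy
    have h1 : φ z = ψC ⟨z, hWC z.2⟩ := (hψe z z.2 (hCext (hWC z.2))).symm
    rw [h1, ← map_mul, ← map_mul]
    congr 1
    exact Subtype.ext (c.2.2 _ z.2)
  have hα := autOfHom_mem hψCmem hψr
  rw [← hext] at hα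
  -- extendable automorphisms preserve the centre
  let K : Subgroup (MulAut C) :=
    { carrier := {α | ∀ c : C, (α c : Ω) ∈ (Z' S) ↔ (c : Ω) ∈ (Z' S)}
      one_mem' := fun _ => Iff.rfl
      mul_mem' := fun {a b} ha hb c => (ha _).trans (hb c)
      inv_mem' := fun {a} ha c => by
        have := ha (a⁻¹ c)
        rw [MulAut.apply_inv_self] at this
        exact this.symm }
  have hK : extendable F C ≤ K := by
    refine (Subgroup.closure_le K).2 ?_
    rintro β ⟨Q, hCQ, χ, hχ, h⟩
    have hQ := hmax' Q hCQ (src_le hχ)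
    subst Q
    have hmemZ : ∀ (u : Ω) (hu : u ∈ S), u ∈ (Z' S) ↔ ∀ g ∈ S, u * g = g * u := by
      intro u hu
      constructor
      · rintro ⟨z, hz, rfl⟩ g hg
        exact congrArg Subtype.val (Subgroup.mem_center_iff.1 hz ⟨g, hg⟩).symm
      · intro hall
        exact ⟨⟨u, hu⟩, Subgroup.mem_center_iff.2 fun g => Subtype.ext (hall g g.2).symm, rfl⟩
    have : Finite S := finite_of_le (src_le hχ)
    have hsurj : χ.range = S := Subgroup.eq_of_le_of_card_ge (range_le hχ) (card_range hχ).ge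
    intro c
    have hc : (c : Ω) ∈ S := hCQ.le c.2
    have hval : (β c : Ω) = χ ⟨c, hc⟩ := (h c).symm
    rw [hval, hmemZ _ (val_mem hχ _), hmemZ _ hc]
    constructor
    · intro hall g hg
      have h1 := hall _ (val_mem hχ ⟨g, hg⟩)
      rw [← map_mul, ← map_mul] at h1
      exact congrArg Subtype.val (F.injective_of_mem hχ h1)
    · intro hall g hg
      obtain ⟨y, rfl⟩ := hsurj.ge hg
      rw [← map_mul, ← map_mul]
      congr 1
      exact Subtype.ext (hall y y.2)
  obtain ⟨z, hz, hzZ, hzm⟩ := hmove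
  have h1 := (hK hα ⟨z, hWC hz⟩).2 hzZ
  refine hzm ?_
  rw [← hψe z hz (hCext (hWC hz))]
  exact h1

end Cfsg.Agent.S5270
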