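import Cfsg.Statements.S5271
import Cfsg.Agent.Lib.WeakEmbedding.Main

set_option autoImplicit false
open Cfsg

namespace Cfsg.Agent.S5271

open Cfsg.FusionSystem Cfsg.Agent.Lib.Fusion Cfsg.Agent.Lib.WeakEmbedding

/-- A nilpotency criterion for fusion systems. Let F be a saturated fusion system over a finite p-group S of order at least p². Call a subgroup Q of S weakly embedded in F when there is a subgroup P of S strongly closed in F such that both the product QP and the intersection Q ∩ P are strongly closed in F. Then F is the inner fusion system of S if and only if there is a subgroup D of S with 1 < D < S such that every subgroup of S of the same order as D is weakly embedded in F and, for every fully normalized subgroup H of S of that order, the normalizer fusion system of H in F is the inner fusion system of N_S(H). -/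
theorem result {Ω : Type*} [Group Ω] {S : Subgroup Ω} [Finite S] (p : ℕ) [Fact p.Prime] (hS : IsPGroup p ↥S) (F : Cfsg.FusionSystem S) (hF : F.IsSaturated p) (hcard : p ^ 2 ≤ Nat.card S) : (∀ P : Subgroup Ω, F.Hom P = (Cfsg.innerFusionSystem S).Hom P) ↔ ∃ D : Subgroup Ω, ⊥ < D ∧ D < S ∧ (∀ Q : Subgroup Ω, Q ≤ S → Nat.card ↥Q = Nat.card ↥D → ∃ P : Subgroup Ω, F.StronglyClosed P ∧ F.StronglyClosed (Q ⊔ P) ∧ F.StronglyClosed (Q ⊓ P)) ∧ (∀ H : Subgroup Ω, F.IsFullyNormalized H → Nat.card ↥H = Nat.card ↥D → ∀ N : Cfsg.FusionSystem (Cfsg.FusionSystem.normalizerIn S H), F.IsNormalizerSystem H N → ∀ P : Subgroup Ω, N.Hom P = (Cfsg.innerFusionSystem (Cfsg.FusionSystem.normalizerIn S H)).Hom P) := by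
  have hp := (Fact.out : p.Prime)
  obtain ⟨a, ha⟩ := exists_pow_card hS (le_refl S)
  have ha2 : 2 ≤ a := by
    rw [ha] at hcard
    exact (Nat.pow_le_pow_iff_right hp.one_lt).1 hcard
  constructor
  · intro h
    obtain ⟨D, -, hDS, hD⟩ := exists_card_between hS (bot_le : (⊥ : Subgroup Ω) ≤ S) le_rfl (k := a - 1)
      (by rw [Subgroup.card_bot]; exact Nat.one_le_pow _ _ hp.pos)
      (ha ▸ Nat.pow_le_pow_right hp.pos (Nat.sub_le a 1))
    have hlt : p ^ (a - 1) < p ^ a := Nat.pow_lt_pow_right hp.one_lt (by omega)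
    have hnorm : ∀ Q : Subgroup Ω, Q ≤ S → Nat.card Q = p ^ (a - 1) →
        normalizerIn S Q = S := by
      intro Q hQS hQ
      have hne : Q ≠ S := fun e => by rw [e, ha] at hQ; omega
      obtain ⟨g, hgS, hgN, hgQ⟩ := exists_mem_normalizerIn hS hQS le_rfl hne
      have hle : normalizerIn S Q ≤ S := normalizerIn_le Q
      obtain ⟨b, hb⟩ := exists_pow_card hS hle
      haveI := finite_of_le hle
      have h1 : Nat.card Q < Nat.card (normalizerIn S Q) :=
        Set.Finite.card_lt_card (Set.toFinite _) ((le_normalizerIn hQS).lt_of_ne fun e =>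
          hgQ (e.ge ⟨hgS, hgN⟩))
      rw [hQ, hb, Nat.pow_lt_pow_iff_right hp.one_lt] at h1
      refine Subgroup.eq_of_le_of_card_ge hle ?_
      rw [hb, ha]
      exact Nat.pow_le_pow_right hp.pos (by omega)
    refine ⟨D, bot_lt_iff_ne_bot.2 fun e => ?_, lt_of_le_of_ne hDS fun e => ?_, ?_, ?_⟩
    · rw [e, Subgroup.card_bot] at hD
      exact (Nat.one_lt_pow (by omega : a - 1 ≠ 0) hp.one_lt).ne hD
    · rw [e, ha] at hD
      omega
    · intro Q hQS hQ
      rw [hD] at hQ
      refine ⟨⊥, stronglyClosed_bot, ?_, ?_⟩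
      · rw [sup_bot_eq]
        refine ⟨hQS, fun R hR φ hφ x => ?_⟩
        rw [h R] at hφ
        obtain ⟨-, g, hg, hgx⟩ := hφ
        rw [hgx x]
        exact (Subgroup.mem_normalizer_iff.1 ((hnorm Q hQS hQ).ge hg).2 _).1 (hR x.2)
      · rw [inf_bot_eq]
        exact stronglyClosed_bot
    · intro H hH hHc N hN P
      rw [hD] at hHc
      exact normalizer_hom_eq_inner h hH.1 (hnorm H hH.1 hHc) hN P
  · rintro ⟨D, hD1, hDS, hW, hL⟩
    obtain ⟨k, hk⟩ := exists_pow_card hS hDS.le
    have hk1 : 1 ≤ k := Nat.one_le_iff_ne_zero.2 fun e =>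
      hD1.ne' (Subgroup.card_eq_one.1 (by rw [hk, e, pow_zero]))
    have hkS : p ^ k < Nat.card S := by
      rw [← hk]
      exact Set.Finite.card_lt_card (Set.toFinite (S : Set Ω)) hDS
    exact isInner_of_weAt hS hF hk1 hkS (fun Q hQS hQ => hW Q hQS (hQ.trans hk.symm))
      (fun H hH hHc N hN => hL H hH (hHc.trans hk.symm) N hN)

end Cfsg.Agent.S5271
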