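import Cfsg.Statements.S5272
import Cfsg.Agent.Lib.Fusion.GlaubermanThompsonF

set_option autoImplicit false
open Cfsg Cfsg.FusionSystem Cfsg.Agent.Lib.Fusion

namespace Cfsg.Agent.S5272

/-- An axiomatic Glauberman–Thompson nilpotency criterion for fusion systems. Let p be an odd prime, F a saturated fusion system over a finite p-group S, and 𝒜 a nonempty family of abelian subgroups of S. For Q ≤ S write I(Q) for the intersection of the members of 𝒜 contained in Q. Assume (invariance) that for every Q ≤ S containing a member of 𝒜, every F-automorphism of Q maps I(Q) into itself, and (replacement) that for every subgroup B of S of nilpotency class at most 2, if some member of 𝒜 contains [B,B] but not B, then B normalizes some member of 𝒜 that contains [B,B] but not B. Then F is the inner fusion system of S if and only if the normalizer fusion system of I(S) in F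 is the inner fusion system of N_S(I(S)). -/
theorem result {Ω : Type*} [Group Ω] {S : Subgroup Ω} [Finite S] (p : ℕ) [Fact p.Prime] (hS : IsPGroup p ↥S) (F : Cfsg.FusionSystem S) (hF : F.IsSaturated p) (hp : p ≠ 2) (𝒜 : Set (Subgroup Ω)) (h𝒜 : ∀ A ∈ 𝒜, A ≤ S ∧ IsMulCommutative ↥A) (hne : 𝒜.Nonempty) (hinv : ∀ Q : Subgroup Ω, Q ≤ S → (∃ A ∈ 𝒜, A ≤ Q) → ∀ α ∈ F.autGroup Q, ∀ x : ↥Q, (x : Ω) ∈ (⨅ A ∈ {A : Subgroup Ω | A ∈ 𝒜 ∧ A ≤ Q}, A) → (((α : MulAut ↥Q) x : ↥Q) : Ω) ∈ (⨅ A ∈ {A : Subgroup Ω | A ∈ 𝒜 ∧ A ≤ Q}, A)) (hrep : ∀ B : Subgroup Ω, B ≤ S → ⁅⁅B, B⁆, B⁆ = ⊥ → (∃ A ∈ 𝒜, ⁅B, B⁆ ≤ A ∧ ¬ B ≤ A) → ∃ A ∈ 𝒜, ⁅B, B⁆ ≤ A ∧ ¬ B ≤ A ∧ B ≤ Subgroup.normalizer (A : Set Ω)) : (∀ P : Subgroup Ω, F.Hom P = (Cfsg.innerFusionSystem S).Hom P) ↔ ∀ N : Cfsg.FusionSystem (Cfsg.FusionSystem.normalizerIn S (⨅ A ∈ 𝒜, A)), F.IsNormalizerSystem (⨅ A ∈ 𝒜, A) N → ∀ P : Subgroup Ω, N.Hom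 P = (Cfsg.innerFusionSystem (Cfsg.FusionSystem.normalizerIn S (⨅ A ∈ 𝒜, A))).Hom P := by
  obtain ⟨A₀, hA₀⟩ := hne
  have hIS : (⨅ A ∈ 𝒜, A) ≤ S := (iInf₂_le A₀ hA₀).trans (h𝒜 A₀ hA₀).1
  have hall : (⨅ A ∈ {A : Subgroup Ω | A ∈ 𝒜 ∧ A ≤ S}, A) = (⨅ A ∈ 𝒜, A : Subgroup Ω) :=
    le_antisymm (le_iInf₂ fun A hA => iInf₂_le A ⟨hA, (h𝒜 A hA).1⟩)
      (le_iInf₂ fun A hA => iInf₂_le A hA.1)
  have hn : normalizerIn S (⨅ A ∈ 𝒜, A) = S := by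
    refine le_antisymm inf_le_left (le_inf le_rfl ?_)
    have key : ∀ g ∈ S, ∀ x ∈ (⨅ A ∈ 𝒜, A : Subgroup Ω), g * x * g⁻¹ ∈
        (⨅ A ∈ 𝒜, A : Subgroup Ω) := by
      intro g hg x hx
      have hα : conjAut S g (Subgroup.le_normalizer hg) ∈ F.autGroup S :=
        autInducedBy_le_autGroup le_rfl
          (mem_autInducedBy_normalizer.2 ⟨g, Subgroup.le_normalizer hg, hg, rfl⟩)
      have h1 := hinv S le_rfl ⟨A₀, hA₀, (h𝒜 A₀ hA₀).1⟩ _ hα ⟨x, hIS hx⟩ (hall.ge hx)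
      rw [hall] at h1
      exact h1
    intro g hg
    rw [Subgroup.mem_normalizer_iff]
    refine fun x => ⟨key g hg x, fun hx => ?_⟩
    simpa [mul_assoc] using key _ (S.inv_mem hg) _ hx
  exact ⟨fun h N hN => normalizer_hom_eq_inner h hIS hn hN,
    fun h => isInner_of_family hp hS hF h𝒜 ⟨A₀, hA₀⟩ hinv (fun B hB _ => hrep B hB) hn h⟩

end Cfsg.Agent.S5272
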