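import Cfsg.Statements.S5273
import Mathlib
import Cfsg.Agent.Lib.Fusion.KNormalizer
import Cfsg.Agent.Lib.Fusion.ModT
import Cfsg.Agent.Lib.Fusion.Biset
import Cfsg.Agent.Lib.FixedOrder.Omega
import Cfsg.Agent.Lib.PLemmas.AlperinExponent
import Cfsg.Agent.Lib.PGroup.Critical
import Cfsg.Agent.Lib.CharP.Basic

set_option autoImplicit false
open Cfsg Cfsg.FusionSystem Cfsg.Agent.Lib.Fusion

namespace Cfsg.Agent.S5273

universe u

open scoped commutatorElement

/-- A `p'`-automorphism fixing the elements of small order of a self-centralising normal subgroup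
is trivial. -/
theorem aut_eq_one_of_fix {G : Type*} [Group G] [Finite G] {p : ℕ} [Fact p.Prime]
    (hG : IsPGroup p G) {n : ℕ} (hn1 : p ∣ n) (hn2 : p ∣ n.choose 2) (C : Subgroup G) [C.Normal]
    (hcent : Subgroup.centralizer (C : Set G) ≤ C) {β : MulAut G} (hβ : (orderOf β).Coprime p)
    (hinv : ∀ x ∈ C, β x ∈ C) (hfix : ∀ x ∈ C, x ^ n = 1 → β x = x) : β = 1 := by
  classical
  have : Finite (MulAut G) :=
    Finite.of_injective (fun f : MulAut G => (f : G → G)) DFunLike.coe_injective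
  let φ : Subgroup.zpowers β →* MulAut G := (Subgroup.zpowers β).subtype
  have : Finite (G ⋊[φ] Subgroup.zpowers β) :=
    Finite.of_equiv _ SemidirectProduct.equivProd.symm
  let b : G ⋊[φ] Subgroup.zpowers β :=
    SemidirectProduct.inr ⟨β, Subgroup.mem_zpowers β⟩
  let P : Subgroup (G ⋊[φ] Subgroup.zpowers β) := (SemidirectProduct.inl (φ := φ)).range
  let D : Subgroup (G ⋊[φ] Subgroup.zpowers β) := C.map (SemidirectProduct.inl (φ := φ))
  have hb : ∀ x : G, b * SemidirectProduct.inl x * b⁻¹ = SemidirectProduct.inl (β x) := by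
    intro x
    rw [← map_inv]
    exact (SemidirectProduct.inl_aut (φ := φ) ⟨β, Subgroup.mem_zpowers β⟩ x).symm
  have hbo : (orderOf b).Coprime p := by
    rw [orderOf_injective _ SemidirectProduct.inr_injective, Subgroup.orderOf_mk]
    exact hβ
  have hPp : IsPGroup p P :=
    IsPGroup.of_equiv hG (MonoidHom.ofInjective (SemidirectProduct.inl_injective (φ := φ)))
  have hD : ∀ x ∈ C, β x = x := by
    have h1 := Lib.FixedOrder.commute_of_commute_pow_eq_one hn1 hn2 hbo (D := D)
      ((hG.to_subgroup C).map _) ?_ ?_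
    · intro x hx
      apply SemidirectProduct.inl_injective (φ := φ)
      rw [← hb, h1 _ ⟨x, hx, rfl⟩]
      group
    · rintro _ ⟨x, hx, rfl⟩
      rw [hb]
      exact ⟨β x, hinv x hx, rfl⟩
    · rintro _ ⟨x, hx, rfl⟩ hxn
      have h2 : x ^ n = 1 := SemidirectProduct.inl_injective (φ := φ) (by rw [map_pow, hxn, map_one])
      have h3 := hb x
      rw [hfix x hx h2, mul_inv_eq_iff_eq_mul] at h3
      exact h3
  have hle := Lib.Critical.le_centralizer_of_le_centralizer_critical (P := P) (C := D)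
    (A := Subgroup.zpowers b) ?_ ?_ ?_ ?_ ?_ ?_
  · ext x
    rw [MulAut.one_apply]
    apply SemidirectProduct.inl_injective (φ := φ)
    have h2 := Subgroup.mem_centralizer_iff.mp (hle (Subgroup.mem_zpowers b))
      (SemidirectProduct.inl x) ⟨x, rfl⟩
    rw [← hb, mul_inv_eq_iff_eq_mul]
    exact h2.symm
  · rintro _ ⟨x, -, rfl⟩; exact ⟨x, rfl⟩
  · rw [Subgroup.commutator_le]
    rintro _ ⟨x, rfl⟩ _ ⟨y, hy, rfl⟩
    rw [← map_commutatorElement]
    refine ⟨_, ?_, rfl⟩
    rw [commutatorElement_def]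
    exact C.mul_mem ((inferInstance : C.Normal).conj_mem y hy x) (C.inv_mem hy)
  · rintro _ ⟨⟨x, rfl⟩, hx⟩
    refine ⟨x, hcent fun y hy => ?_, rfl⟩
    apply SemidirectProduct.inl_injective (φ := φ)
    rw [map_mul, map_mul]
    exact hx _ ⟨y, hy, rfl⟩
  · rw [Subgroup.zpowers_le, Subgroup.mem_normalizer_iff]
    intro y
    constructor
    · rintro ⟨x, rfl⟩
      exact ⟨β x, (hb x).symm⟩
    · rintro ⟨x, hx⟩
      refine ⟨β.symm x, ?_⟩
      have := hb (β.symm x)
      rw [MulEquiv.apply_symm_apply, hx] at this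
      simpa using this
  · rw [Nat.card_zpowers]
    obtain ⟨k, hk⟩ := hPp.exists_card_eq
    rw [hk]
    exact hbo.pow_right k
  · rw [Subgroup.zpowers_le]
    rintro _ ⟨x, hx, rfl⟩
    have h2 := hb x
    rw [hD x hx, mul_inv_eq_iff_eq_mul] at h2
    exact h2.symm

section SmallAbelian

variable {Ω : Type u} [Group Ω] {S : Subgroup Ω}

/-- `P` contains `B` and all its elements of small order centralising `B`. -/
def Good (n : ℕ) (B P : Subgroup Ω) : Prop :=
  B ≤ P ∧ ∀ x ∈ P, x ∈ Subgroup.centralizer (B : Set Ω) → x ^ n = 1 → x ∈ B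

theorem Good.image {n : ℕ} {B B' P : Subgroup Ω} (h : Good n B P) (φ : P →* Ω)
    (hinj : Function.Injective φ) (hB : imgSub φ B = B') : Good n B' φ.range := by
  subst hB
  refine ⟨imgSub_le_range φ, ?_⟩
  rintro _ ⟨x, rfl⟩ hx hxn
  rw [apply_mem_imgSub_iff hinj]
  refine h.2 x x.2 (fun b hb => ?_) ?_
  · have h1 : φ (⟨b, h.1 hb⟩ * x) = φ (x * ⟨b, h.1 hb⟩) := by
      rw [map_mul, map_mul]
      exact hx _ (apply_mem_imgSub φ ⟨b, h.1 hb⟩ hb)
    exact congrArg Subtype.val (hinj h1)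
  · have h1 : φ (x ^ n) = φ 1 := by rw [map_pow, map_one, hxn]
    have h2 := congrArg Subtype.val (hinj h1)
    rwa [SubmonoidClass.coe_pow] at h2

/-- **Small exponent abelian subgroups control fusion.** -/
theorem hom_subset_of_small_abelian [Finite S] {p : ℕ} [Fact p.Prime] (hS : IsPGroup p S)
    {E F : FusionSystem S} (hE : E.IsSaturated p) (hF : F.IsSaturated p) (hEF : E.IsSubsystemOf F)
    (e : ℕ) (he : p ^ e ≠ 2) (hn1 : p ∣ p ^ e) (hn2 : p ∣ (p ^ e).choose 2)
    (H : ∀ A : Subgroup Ω, A ≤ S → IsMulCommutative A → (∀ a ∈ A, a ^ p ^ e = 1) →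
      ∀ φ ∈ F.Hom A, φ ∈ E.Hom A)
    (P : Subgroup Ω) : F.Hom P ⊆ E.Hom P := by
  suffices key : ∀ k (P : Subgroup Ω) (φ : P →* Ω), φ ∈ F.Hom P →
      Nat.card S - Nat.card P ≤ k → φ ∈ E.Hom P from fun φ hφ => key _ P φ hφ le_rfl
  intro k
  induction k using Nat.strong_induction_on with
  | _ k ih =>
    intro R φ hφ hk
    have hRS := src_le hφ
    have hbig : ∀ Q : Subgroup Ω, Nat.card R < Nat.card Q → ∀ ψ ∈ F.Hom Q, ψ ∈ E.Hom Q := by
      intro Q hQ ψ hψ
      have := Subgroup.card_le_of_le (src_le hψ)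
      exact ih (Nat.card S - Nat.card Q) (by omega) Q ψ hψ le_rfl
    have : Finite R := finite_of_le hRS
    have hRp : IsPGroup p R := hS.of_injective _ (Subgroup.inclusion_injective hRS)
    -- a maximal normal abelian subgroup of small exponent
    obtain ⟨B₁, -, hB₁, hmax⟩ := Finite.exists_le_maximal
      (p := fun B : Subgroup R => B.Normal ∧ IsMulCommutative B ∧ ∀ b ∈ B, b ^ p ^ e = 1)
      (a := ⊥) ⟨inferInstance, inferInstance, fun b hb => by rw [Subgroup.mem_bot.1 hb, one_pow]⟩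
    obtain ⟨hBn, hBc, hBe⟩ := hB₁
    have hgood₁ := Lib.PLemmas.mem_of_maximal_normal_abelian_exponent hRp e he B₁ hBe
      (fun B h1 h2 h3 h4 => le_antisymm (hmax ⟨h1, h2, h3⟩ h4) h4)
    set B := B₁.map R.subtype with hBdef
    have hBR : B ≤ R := Subgroup.map_subtype_le B₁
    have hBS : B ≤ S := hBR.trans hRS
    have hgood : Good (p ^ e) B R := by
      refine ⟨hBR, fun x hxR hx hxn => ⟨⟨x, hxR⟩, hgood₁ ⟨x, hxR⟩ ?_ ?_, rfl⟩⟩
      · intro b hb
        exact Subtype.ext (hx _ ⟨b, hb, rfl⟩)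
      · exact Subtype.ext (by rw [SubmonoidClass.coe_pow]; exact hxn)
    have hnormB : ∀ g ∈ R, g ∈ Subgroup.normalizer (B : Set Ω) := by
      intro g hg
      refine Subgroup.mem_normalizer_iff.mpr fun y => ⟨?_, fun hy => ?_⟩
      · rintro ⟨b, hb, rfl⟩
        exact ⟨_, hBn.conj_mem b hb ⟨g, hg⟩, rfl⟩
      · obtain ⟨b, hb, hby⟩ := hy
        refine ⟨_, hBn.conj_mem b hb ⟨g, hg⟩⁻¹, ?_⟩
        change (g⁻¹ : Ω) * b * g⁻¹⁻¹ = y
        rw [show (b : Ω) = g * y * g⁻¹ from hby]
        group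
    have hBcomm : IsMulCommutative B := by
      refine ⟨⟨?_⟩⟩
      rintro ⟨_, a, ha, rfl⟩ ⟨_, b, hb, rfl⟩
      have := congrArg Subtype.val (hBc.1.1 ⟨a, ha⟩ ⟨b, hb⟩)
      exact Subtype.ext (congrArg (fun z : R => (z : Ω)) this)
    have hBexp : ∀ a ∈ B, a ^ p ^ e = 1 := by
      rintro _ ⟨a, ha, rfl⟩
      rw [← map_pow, hBe a ha, map_one]
    -- the restriction to `B`
    set φB := φ.comp (Subgroup.inclusion hBR) with hφBd
    have hφBE : φB ∈ E.Hom B := H B hBS hBcomm hBexp φB (restrict_mem hφ hBR)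
    set B' := φB.range with hB'
    have hB'S : B' ≤ S := range_le hφBE
    obtain ⟨φ₀, hφ₀, hrec, hmax₀⟩ := exists_maxNormalizer hS hE hB'S
    set B0 := φ₀.range with hB0
    have hB0S : B0 ≤ S := hrec.1
    obtain ⟨ψ₀, hψ₀, hψ₀e⟩ := hrec.2 B' φ₀ hφ₀ rfl
    have hφnorm : ∀ g : R, φ g ∈ Subgroup.normalizer (B' : Set Ω) := by
      intro g
      have hfwd : ∀ g : R, ∀ y ∈ B', φ g * y * (φ g)⁻¹ ∈ B' := by
        rintro g _ ⟨b, rfl⟩
        refine ⟨⟨(g : Ω) * b * (g : Ω)⁻¹,
          (Subgroup.mem_normalizer_iff.mp (hnormB g g.2) _).mp b.2⟩, ?_⟩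
        show φ _ = _ * φ _ * _
        rw [← map_inv, ← map_mul, ← map_mul]
        rfl
      refine Subgroup.mem_normalizer_iff.mpr fun y => ⟨hfwd g y, fun hy => ?_⟩
      have := hfwd g⁻¹ _ hy
      rw [map_inv] at this
      simpa [mul_assoc] using this
    have hφext : ∀ g : R, φ g ∈ extender S B' φ₀ := fun g =>
      mem_extender.mpr ⟨val_mem hφ g, hφnorm g, hmax₀ _ (val_mem hφ g) (hφnorm g)⟩
    obtain ⟨g', hg', hg'e⟩ := exists_comp hφ (hEF _ hψ₀) hφext
    -- the map on `B` and its extension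
    obtain ⟨a, ha, hae⟩ := exists_comp hφBE hφ₀ (fun b => ⟨b, rfl⟩)
    have har : a.range = B0 := by
      refine le_antisymm ?_ ?_
      · rintro _ ⟨b, rfl⟩
        exact ⟨_, (hae b).symm⟩
      · rintro _ ⟨⟨_, b, rfl⟩, rfl⟩
        exact ⟨b, hae b⟩
    obtain ⟨ψa, hψa, hψae⟩ := hrec.2 B a ha har
    have hRext : ∀ g : R, (g : Ω) ∈ extender S B a := by
      intro g
      obtain ⟨t, htS, ht⟩ := hmax₀ _ (val_mem hφ g) (hφnorm g)
      refine mem_extender.mpr ⟨hRS g.2, hnormB g g.2, t, htS, fun x hx => ?_⟩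
      have heq : φ g * φB x * (φ g)⁻¹ = φB ⟨(g : Ω) * x * (g : Ω)⁻¹, hx⟩ := by
        show _ * φ _ * _ = φ _
        rw [← map_inv, ← map_mul, ← map_mul]
        rfl
      have hmem : φ g * φB x * (φ g)⁻¹ ∈ B' := heq ▸ ⟨_, rfl⟩
      rw [hae, hae, ← ht ⟨φB x, ⟨x, rfl⟩⟩ hmem]
      congr 1
      exact Subtype.ext heq.symm
    set h := ψa.comp (Subgroup.inclusion (fun g hg => hRext ⟨g, hg⟩ : R ≤ extender S B a)) with hh
    have hhE : h ∈ E.Hom R := restrict_mem hψa _
    have hhB : ∀ (b : Ω) (hb : b ∈ B), h ⟨b, hBR hb⟩ = a ⟨b, hb⟩ := fun b hb => hψae b hb _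
    have hgB : ∀ (b : Ω) (hb : b ∈ B), g' ⟨b, hBR hb⟩ = a ⟨b, hb⟩ := by
      intro b hb
      rw [hg'e, hae]
      exact hψ₀e _ ⟨⟨b, hb⟩, rfl⟩ _
    have hhimg : imgSub h B = B0 := by
      rw [← har]
      ext y
      rw [mem_imgSub]
      constructor
      · rintro ⟨x, hx, rfl⟩
        exact ⟨⟨x, hx⟩, (hhB x hx).symm⟩
      · rintro ⟨⟨b, hb⟩, rfl⟩
        exact ⟨⟨b, hBR hb⟩, hb, hhB b hb⟩
    -- the difference
    obtain ⟨ι, hι, hιr, hι1, hι2⟩ := exists_inverse hhE (rfl : h.range = h.range)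
    obtain ⟨δ, hδ, hδe⟩ := exists_comp (hEF _ hι) hg' (fun y => hιr.le ⟨y, rfl⟩)
    suffices hδE : δ ∈ E.Hom h.range by
      -- undo the normalisation
      have hg'E : g' ∈ E.Hom R := by
        refine comp_of_apply hhE hδE fun x => ⟨⟨x, rfl⟩, ?_⟩
        rw [hδe]
        congr 1
        exact Subtype.ext (hι1 x _).symm
      obtain ⟨κ, hκ, -, hκ1, -⟩ := exists_inverse hψ₀ (rfl : ψ₀.range = ψ₀.range)
      refine comp_of_apply hg'E hκ fun x => ⟨⟨⟨φ x, hφext x⟩, (hg'e x).symm⟩, ?_⟩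
      have := hκ1 ⟨φ x, hφext x⟩ ⟨⟨φ x, hφext x⟩, rfl⟩
      refine this.symm.trans ?_
      congr 1
      exact Subtype.ext (hg'e x).symm
    -- the normalizer system with automorphisms induced by `S`
    set T := normalizerIn S B0 with hT
    set K := autInducedBy S B0 with hK
    have hTS : T ≤ S := inf_le_left
    have hTK : ∀ g ∈ T, ∃ k ∈ K, ∀ x : B0, (k x : Ω) = g * (x : Ω) * g⁻¹ := fun g hg =>
      ⟨conjAut B0 g hg.2, mem_autInducedBy.mpr ⟨g, hg.1, fun x => rfl⟩, fun x => rfl⟩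
    set M := extSystem F B0 T K hB0S hTS hTK with hM
    have hfc : F.IsFullyCentralized B0 := by
      have hEc := isFullyCentralized_of_isReceptive hrec
      refine ⟨hB0S, fun Q ⟨χ, hχ, hχr⟩ => hEc.2 Q ⟨χ, H B0 hB0S ?_ ?_ χ hχ, hχr⟩⟩
      · refine ⟨⟨fun x y => ?_⟩⟩
        obtain ⟨u, hu⟩ := har.ge x.2
        obtain ⟨v, hv⟩ := har.ge y.2
        apply Subtype.ext
        rw [Subgroup.coe_mul, Subgroup.coe_mul, ← hu, ← hv, ← map_mul, ← map_mul,
          hBcomm.1.1 u v]
      · intro x hx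
        obtain ⟨u, hu⟩ := har.ge hx
        rw [← hu, ← map_pow, show u ^ p ^ e = 1 from Subtype.ext
          (by rw [SubmonoidClass.coe_pow]; exact hBexp _ u.2), map_one]
    have hKF : K ≤ F.autGroup B0 := autInducedBy_le_autGroup hB0S
    have hKp : IsPGroup p K := isPGroup_autInducedBy hS
    have hMsat : M.IsSaturated p := by
      refine isSaturated_kNormalizer (K := K) hS hF
        (isReceptive_of_isFullyCentralized hS hF hfc) ?_ (fun g => ?_) M fun P => rfl
      · rw [inf_idem, inf_eq_right.mpr hKF]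
        refine ⟨le_rfl, hKp, ?_⟩
        rw [Subgroup.relIndex_self]
        exact (Fact.out : p.Prime).not_dvd_one
      · exact ⟨fun hg => ⟨hg.1, hTK g hg⟩,
          fun ⟨hgS, k, _, hk⟩ => ⟨hgS, mem_normalizer_of_aut hk⟩⟩
    have hTp : IsPGroup p T := hS.of_injective _ (Subgroup.inclusion_injective hTS)
    have : Finite T := finite_of_le hTS
    have hMF : ∀ (P : Subgroup Ω) (χ : P →* Ω), χ ∈ M.Hom P → χ ∈ F.Hom P := fun P χ hχ => hχ.1
    -- good subgroups are preserved
    have himage : ∀ (P : Subgroup Ω) (χ : P →* Ω), χ ∈ M.Hom P → Good (p ^ e) B0 P →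
        Good (p ^ e) B0 χ.range := by
      rintro P χ ⟨hχ, hPT, hχT, ψ, hψ, hψχ, k, hk, hψk⟩ hG
      refine hG.image χ (F.injective_of_mem hχ) ?_
      have hval : ∀ b : B0, χ ⟨b, hG.1 b.2⟩ = (k b : Ω) := fun b => by
        rw [← hψk b, ← hψχ]
        congr 1
      ext y
      rw [mem_imgSub]
      constructor
      · rintro ⟨x, hx, rfl⟩
        rw [show x = ⟨((⟨x, hx⟩ : B0) : Ω), hG.1 hx⟩ from Subtype.ext rfl, hval]
        exact (k _).2
      · intro hy
        refine ⟨⟨k.symm ⟨y, hy⟩, hG.1 (k.symm ⟨y, hy⟩).2⟩, (k.symm ⟨y, hy⟩).2, ?_⟩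
        rw [hval, MulEquiv.apply_symm_apply]
    have main : ∀ (P : Subgroup Ω) (χ : P →* Ω), χ ∈ M.Hom P → Nat.card R ≤ Nat.card P →
        (Nat.card P = Nat.card R → Good (p ^ e) B0 P) → χ ∈ E.Hom P := by
      refine fun P χ hχ => hom_induction (F := M) hTp hMsat
        (fun P χ => Nat.card R ≤ Nat.card P → (Nat.card P = Nat.card R → Good (p ^ e) B0 P) →
          χ ∈ E.Hom P) ?_ ?_ ?_ ?_ P χ hχ
      · intro P Q χ hPQ hχ hC h1 h2
        have : Finite Q := finite_of_le (src_le hχ)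
        have h3 := Subgroup.card_le_of_le hPQ
        refine restrict_mem (hC (h1.trans h3) fun h4 => ?_) hPQ
        obtain rfl : P = Q := Subgroup.eq_of_le_of_card_ge hPQ (by omega)
        exact h2 h4
      · intro P Q χ ω ψ hχ hψ hω hC hC' h1 h2
        have : Finite Q := finite_of_le (src_le hψ)
        have hle : χ.range ≤ Q := by
          rintro _ ⟨x, rfl⟩
          exact (hω x).1
        have h3 : Nat.card P ≤ Nat.card Q := (card_range hχ).symm.le.trans (Subgroup.card_le_of_le hle)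
        refine comp_of_apply (hC h1 h2) (hC' (h1.trans h3) fun h4 => ?_) hω
        obtain rfl : χ.range = Q := Subgroup.eq_of_le_of_card_ge hle
          (by rw [card_range hχ]; omega)
        exact himage P χ hχ (h2 (by omega))
      · intro P Q χ ψ hχ hψ hr hinv hC h1 h2
        have hc : Nat.card Q = Nat.card P := by rw [← hr, card_range hχ]
        have hψr : ψ.range = P := by
          refine le_antisymm ?_ ?_
          · rintro _ ⟨⟨y, hy⟩, rfl⟩
            obtain ⟨x, rfl⟩ := hr.ge hy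
            rw [hinv]
            exact x.2
          · intro x hx
            exact ⟨⟨χ ⟨x, hx⟩, hr.le ⟨_, rfl⟩⟩, hinv _ _⟩
        have hGP : Nat.card P = Nat.card R → Good (p ^ e) B0 P := fun h4 => by
          rw [← hψr]
          exact himage Q ψ hψ (h2 (by omega))
        obtain ⟨ψ', hψ', -, hψ'1, -⟩ := exists_inverse (hC (by omega) hGP) hr
        refine mem_congr hψ' fun y => ?_
        obtain ⟨y, hy⟩ := y
        obtain ⟨x, rfl⟩ := hr.ge hy
        rw [hinv x hy, hψ'1 x hy]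
      · intro Q hQa hQr _ α hα h1 h2
        have hQT := hQr.1
        have hQS := hQT.trans hTS
        rcases lt_or_eq_of_le h1 with hlt | heq
        · exact hbig Q hlt _ (hMF _ _ (autGroup_hom_mem hQT hα))
        have hG := h2 heq.symm
        have : Finite Q := finite_of_le hQS
        have : Finite (MulAut Q) := finite_mulAut hQS
        have hQp : IsPGroup p Q := hS.of_injective _ (Subgroup.inclusion_injective hQS)
        have hpg : IsPGroup p (M.autGroup Q) := by
          refine Lib.CharP.isPGroup_of_forall fun β hβ hcop => ?_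
          obtain ⟨-, -, -, ψ, hψ, hψβ, l, hl, hψl⟩ := autGroup_hom_mem hQT hβ
          have hval : ∀ b : B0, (β ⟨b, hG.1 b.2⟩ : Ω) = (l b : Ω) := fun b => by
            rw [← hψl b, ← autHom_apply, ← hψβ]
            congr 1
          have hl1 : l = 1 := by
            have hd : orderOf l ∣ orderOf β := by
              apply orderOf_dvd_of_pow_eq_one
              have hiter : ∀ (m : ℕ) (b : B0),
                  ((β ^ m) ⟨b, hG.1 b.2⟩ : Ω) = ((l ^ m) b : Ω) := by
                intro m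
                induction m with
                | zero => exact fun b => rfl
                | succ m ihm =>
                  intro b
                  rw [pow_succ, pow_succ, MulAut.mul_apply, MulAut.mul_apply,
                    show β ⟨b, hG.1 b.2⟩ = ⟨(l b : Ω), hG.1 (l b).2⟩ from Subtype.ext (hval b)]
                  exact ihm (l b)
              ext b
              rw [← hiter, pow_orderOf_eq_one]
              rfl
            obtain ⟨j, hj⟩ := IsPGroup.iff_orderOf.mp hKp ⟨l, hl⟩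
            rw [Subgroup.orderOf_mk] at hj
            rw [← orderOf_eq_one_iff]
            exact Nat.eq_one_of_dvd_coprimes (hcop.pow_right j) hd hj.dvd
          subst hl1
          set BQ : Subgroup Q := B0.subgroupOf Q with hBQ
          have : BQ.Normal := by
            refine ⟨fun b hb g => ?_⟩
            have hgN : (g : Ω) ∈ Subgroup.normalizer (B0 : Set Ω) := (hQT g.2).2
            exact (Subgroup.mem_normalizer_iff.mp hgN _).mp hb
          have hBQc : BQ ≤ Subgroup.centralizer (BQ : Set Q) := by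
            intro x hx y hy
            obtain ⟨u, hu⟩ := har.ge hx
            obtain ⟨v, hv⟩ := har.ge hy
            apply Subtype.ext
            rw [Subgroup.coe_mul, Subgroup.coe_mul, show (x : Ω) = a u from hu.symm,
              show (y : Ω) = a v from hv.symm, ← map_mul, ← map_mul, hBcomm.1.1 v u]
          have hfixB : ∀ x ∈ BQ, β x = x := fun x hx =>
            Subtype.ext (by rw [show x = ⟨x, hG.1 hx⟩ from rfl]; exact hval ⟨x, hx⟩)
          refine aut_eq_one_of_fix hQp hn1 hn2 (Subgroup.centralizer (BQ : Set Q))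
            (fun x hx y hy => hx y (hBQc hy)) hcop ?_ ?_
          · intro x hx y hy
            rw [← hfixB y hy, ← map_mul, ← map_mul, hx y hy]
          · intro x hx hxn
            refine hfixB x (hG.2 x x.2 (fun y hy => ?_) ?_)
            · exact congrArg Subtype.val (hx ⟨y, hG.1 hy⟩ hy)
            · rw [← SubmonoidClass.coe_pow, hxn]; rfl
        obtain ⟨-, R₁, hR₁⟩ := hQa
        have htop : (R₁ : Subgroup (M.autGroup Q)) = ⊤ := R₁.3 (hpg.to_subgroup ⊤) le_top ▸ rfl
        rw [hR₁, Subgroup.subgroupOf_eq_top] at htop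
        obtain ⟨t, ht, hte⟩ := mem_autInducedBy.mp (htop hα)
        exact mem_of_conj hQS (hTS ht) hte
    -- `δ` belongs to the system
    have hR1T : h.range ≤ T := by
      rintro _ ⟨g, rfl⟩
      refine ⟨val_mem hhE g, Subgroup.mem_normalizer_iff.mpr fun y => ?_⟩
      rw [← hhimg]
      have hfwd : ∀ g : R, ∀ y ∈ imgSub h B, h g * y * (h g)⁻¹ ∈ imgSub h B := by
        intro g y hy
        obtain ⟨x, hx, rfl⟩ := mem_imgSub.1 hy
        rw [← map_inv, ← map_mul, ← map_mul]
        exact apply_mem_imgSub h _ ((Subgroup.mem_normalizer_iff.mp (hnormB g g.2) _).mp hx)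
      refine ⟨hfwd g y, fun hy => ?_⟩
      have := hfwd g⁻¹ _ hy
      rw [map_inv] at this
      simpa [mul_assoc] using this
    have hg'T : ∀ g : R, g' g ∈ T := by
      intro g
      refine ⟨val_mem hg' g, Subgroup.mem_normalizer_iff.mpr fun y => ?_⟩
      have hfwd : ∀ g : R, ∀ y ∈ B0, g' g * y * (g' g)⁻¹ ∈ B0 := by
        intro g y hy
        obtain ⟨⟨b, hb⟩, rfl⟩ := har.ge hy
        rw [← hgB b hb, ← map_inv, ← map_mul, ← map_mul]
        have hm := (Subgroup.mem_normalizer_iff.mp (hnormB g g.2) _).mp hb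
        exact har.le ⟨⟨_, hm⟩, (hgB _ hm).symm⟩
      refine ⟨hfwd g y, fun hy => ?_⟩
      have := hfwd g⁻¹ _ hy
      rw [map_inv] at this
      simpa [mul_assoc] using this
    have hB0R1 : B0 ≤ h.range := hhimg ▸ imgSub_le_range h
    have hδB : ∀ (b : Ω) (hb : b ∈ B0), δ ⟨b, hB0R1 hb⟩ = b := by
      intro b hb
      obtain ⟨⟨c, hc⟩, rfl⟩ := har.ge hb
      rw [hδe]
      conv_rhs => rw [← hgB c hc]
      congr 1
      apply Subtype.ext
      refine Eq.trans ?_ (hι1 ⟨c, hBR hc⟩ ⟨_, rfl⟩)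
      congr 1
      exact congrArg ι (Subtype.ext (hhB c hc).symm)
    have hsup : h.range ⊔ B0 = h.range := sup_eq_left.mpr hB0R1
    refine main h.range δ ⟨hδ, hR1T, fun y => by rw [hδe]; exact hg'T _,
      δ.comp (Subgroup.inclusion hsup.le), restrict_mem hδ hsup.le, fun x => rfl, 1, K.one_mem,
      fun x => hδB x x.2⟩ (card_range hhE).ge fun _ => hgood.image h (E.injective_of_mem hhE) hhimg

end SmallAbelian


/-- Small-exponent abelian subgroups control fusion. Let E and F be saturated fusion systems over the same finite p-group S with E contained in F. Suppose that E and F have the same maps between A and B for all subgroups A, B of S that are elementary abelian when p is odd, respectively abelian of exponent dividing 4 when p = 2. Then E = F (they have the same maps on every subgroup). -/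
theorem result {Ω : Type*} [Group Ω] {S : Subgroup Ω} [Finite S] (p : ℕ) [Fact p.Prime] (hS : IsPGroup p ↥S) (E F : Cfsg.FusionSystem S) (hE : E.IsSaturated p) (hF : F.IsSaturated p) (hEF : E.IsSubsystemOf F) (hodd : p ≠ 2 → ∀ A B : Subgroup Ω, A ≤ S → B ≤ S → Cfsg.IsElementaryAbelian p A → Cfsg.IsElementaryAbelian p B → E.homSet A B = F.homSet A B) (htwo : p = 2 → ∀ A B : Subgroup Ω, A ≤ S → B ≤ S → IsMulCommutative ↥A → IsMulCommutative ↥B → (∀ a ∈ A, a ^ 4 = 1) → (∀ b ∈ B, b ^ 4 = 1) → E.homSet A B = F.homSet A B) : ∀ P : Subgroup Ω, E.Hom P = F.Hom P := by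
  intro P
  refine Set.Subset.antisymm (hEF P) ?_
  have hp : p.Prime := Fact.out
  rcases eq_or_ne p 2 with rfl | hp2
  · refine hom_subset_of_small_abelian hS hE hF hEF 2 (by norm_num) (by norm_num) (by decide) ?_ P
    intro A hA hAc hA4 φ hφ
    have hcomm : IsMulCommutative φ.range := by
      refine ⟨⟨?_⟩⟩
      rintro ⟨_, a, rfl⟩ ⟨_, b, rfl⟩
      apply Subtype.ext
      show φ a * φ b = φ b * φ a
      rw [← map_mul, hAc.1.1 a b, map_mul]
    have h4 : ∀ b ∈ φ.range, b ^ 4 = 1 := by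
      rintro _ ⟨a, rfl⟩
      rw [← map_pow, show a ^ 4 = 1 from Subtype.ext (by rw [SubmonoidClass.coe_pow]; exact hA4 a a.2),
        map_one]
    have hh := htwo rfl A φ.range hA (range_le hφ) hAc hcomm (by simpa using hA4) h4
    have hmem : φ ∈ F.homSet A φ.range := ⟨hφ, fun x => ⟨x, rfl⟩⟩
    exact (hh ▸ hmem).1
  · refine hom_subset_of_small_abelian hS hE hF hEF 1 ?_ (by rw [pow_one])
      (by rw [pow_one]; exact hp.dvd_choose_self (by norm_num) (lt_of_le_of_ne hp.two_le hp2.symm)) ?_ P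
    · rw [pow_one]; exact hp2
    intro A hA hAc hA1 φ hφ
    rw [pow_one] at hA1
    have hcomm : IsMulCommutative φ.range := by
      refine ⟨⟨?_⟩⟩
      rintro ⟨_, a, rfl⟩ ⟨_, b, rfl⟩
      apply Subtype.ext
      show φ a * φ b = φ b * φ a
      rw [← map_mul, hAc.1.1 a b, map_mul]
    have h1 : ∀ b ∈ φ.range, b ^ p = 1 := by
      rintro _ ⟨a, rfl⟩
      rw [← map_pow, show a ^ p = 1 from Subtype.ext (by rw [SubmonoidClass.coe_pow]; exact hA1 a a.2),
        map_one]
    have hh := hodd hp2 A φ.range hA (range_le hφ) ⟨hAc, hA1⟩ ⟨hcomm, h1⟩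
    have hmem : φ ∈ F.homSet A φ.range := ⟨hφ, fun x => ⟨x, rfl⟩⟩
    exact (hh ▸ hmem).1

end Cfsg.Agent.S5273
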