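import Cfsg.Statements.S5278
import Cfsg.Agent.Lib.Fusion.Model
import Cfsg.Agent.Lib.WeakClosure87.Group87
import Cfsg.Agent.Lib.WeakClosure87.Bad87

set_option autoImplicit false
open Cfsg Cfsg.FusionSystem
open Cfsg.Agent.Lib.Fusion Cfsg.Agent.Lib.WeakClosure87

namespace Cfsg.Agent.S5278

theorem mem_normalizer_of_forall_mem {G : Type*} [Group G] {N Y : Subgroup G}
    (h : ∀ g ∈ N, ∀ y ∈ Y, g * y * g⁻¹ ∈ Y) : ∀ g ∈ N, g ∈ Subgroup.normalizer (Y : Set G) := by
  intro g hg
  rw [Subgroup.mem_normalizer_iff]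
  refine fun x => ⟨h g hg x, fun hx => ?_⟩
  simpa [mul_assoc] using h g⁻¹ (N.inv_mem hg) _ hx

/-- Let p be an odd prime, F a saturated fusion system over a finite p-group S, and T a subgroup of Z(S) such that the normalizer fusion system of J(S) in F is contained in the normalizer fusion system of T, J(S) being the subgroup generated by the abelian subgroups of S of largest order. Then either T is weakly closed in F, or Aut_F(T) has a nontrivial cyclic subgroup X of order prime to p that permutes transitively the non-identity elements of the commutator [T, X] (the subgroup of T generated by the elements ψ(t)·t⁻¹ with ψ in X and t in T). -/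
theorem result {Ω : Type*} [Group Ω] {S : Subgroup Ω} [Finite S] (p : ℕ) [Fact p.Prime] (hS : IsPGroup p ↥S) (F : Cfsg.FusionSystem S) (hF : F.IsSaturated p) (hp : p ≠ 2) (T : Subgroup Ω) (hT : T ≤ S ⊓ Subgroup.centralizer (S : Set Ω)) (hJT : ∀ NJ : Cfsg.FusionSystem (Cfsg.FusionSystem.normalizerIn S (Cfsg.thompsonSubgroupAOf S)), F.IsNormalizerSystem (Cfsg.thompsonSubgroupAOf S) NJ → ∀ NT : Cfsg.FusionSystem (Cfsg.FusionSystem.normalizerIn S T), F.IsNormalizerSystem T NT → NJ.IsSubsystemOf NT) : F.WeaklyClosed T ∨ ∃ X : Subgroup (MulAut ↥T), X ≤ F.autGroup T ∧ X ≠ ⊥ ∧ IsCyclic ↥X ∧ (Nat.card ↥X).Coprime p ∧ ∀ a b : ↥T, a ∈ Subgroup.closure {y : ↥T | ∃ ψ ∈ X, ∃ t : ↥T, y = ψ t * t⁻¹} → b ∈ Subgroup.closure {y : ↥T | ∃ ψ ∈ X, ∃ t : ↥T, y = ψ t * t⁻¹} → a ≠ 1 → b ≠ 1 → ∃ ψ ∈ X, ψ a = b := by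
  classical
  have hTS : T ≤ S := hT.trans inf_le_left
  by_cases hwc : F.WeaklyClosed T
  · exact Or.inl hwc
  refine Or.inr ?_
  -- an extremal bad subgroup
  let sset : Set (Subgroup Ω) := {Y | F.IsFullyNormalized Y ∧ IsBad F T Y}
  have hfin : sset.Finite :=
    (Set.finite_range fun K : Subgroup S => K.map S.subtype).subset fun Y hY =>
      ⟨Y.subgroupOf S, Subgroup.map_subgroupOf_eq_of_le hY.2.2.1⟩
  have hne : sset.Nonempty := by
    by_contra hempty
    refine hwc ⟨hTS, fun φ hφ => ?_⟩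
    haveI := Lib.Fusion.finite_of_le (S := S) hTS
    refine range_eq_self hφ fun x => ?_
    exact (fixes_of_not_isBad hS hF hT 0 (fun R hRa hRr _ hb => hempty
      ⟨R, isFullyNormalized_of_automized_receptive hS hRa hRr, hb⟩) hφ (Nat.zero_le _) x).1 x.2
  obtain ⟨X, ⟨hXn, hXb⟩, hXmax⟩ := Set.exists_max_image sset
    (fun Y => Nat.card (normalizerIn S Y) * (Nat.card S + 1) + Nat.card Y) hfin hne
  obtain ⟨hTX, hXS, α, hα, x0, hx0, hαx0⟩ := hXb
  set N := normalizerIn S X with hNdef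
  have hXN : X ≤ N := le_normalizerIn hXS
  have hNS : N ≤ S := normalizerIn_le X
  haveI : Finite N := finite_normalizerIn X
  haveI : Finite X := Lib.Fusion.finite_of_le hXS
  set n := Nat.card N with hn
  have hnoS : ¬ IsBad F T S := by
    rintro ⟨-, -, β, hβ, x, hx, hβx⟩
    exact hβx (not_isBad_of_thompson_le hT hJT hβ le_rfl (thompsonSubgroupAOf_le S) x hx)
  have hmax' : ∀ Y, F.IsFullyNormalized Y → IsBad F T Y → Nat.card (normalizerIn S Y) ≤ n ∧
      (n ≤ Nat.card (normalizerIn S Y) → Nat.card Y ≤ Nat.card X) := by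
    intro Y hYn hYb
    have h : Nat.card (normalizerIn S Y) * (Nat.card S + 1) + Nat.card Y ≤
        n * (Nat.card S + 1) + Nat.card X := hXmax Y ⟨hYn, hYb⟩
    have hXc : Nat.card X ≤ Nat.card S := Subgroup.card_le_of_le hXS
    constructor
    · by_contra hlt
      push Not at hlt
      nlinarith [Nat.mul_le_mul_right (Nat.card S + 1) (Nat.succ_le_of_lt hlt)]
    · intro hle
      nlinarith [Nat.mul_le_mul_right (Nat.card S + 1) hle]
  have hfix : ∀ (P : Subgroup Ω) (φ : P →* Ω), φ ∈ F.Hom P → n ≤ Nat.card P →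
      ∀ x : P, ((x : Ω) ∈ T ↔ φ x ∈ T) := fun P φ hφ hP =>
    fixes_of_not_isBad hS hF hT n (fun R hRa hRr hR hb => by
      have hRn := isFullyNormalized_of_automized_receptive hS hRa hRr
      have hRle : R ≤ normalizerIn S R := le_normalizerIn hb.2.1
      haveI := finite_normalizerIn (S := S) R
      have heq : R = normalizerIn S R :=
        Subgroup.eq_of_le_of_card_ge hRle ((hmax' R hRn hb).1.trans hR)
      rcases eq_or_lt_of_le hb.2.1 with hRS | hRS
      · exact hnoS (hRS ▸ hb)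
      · exact (lt_normalizerIn hS hRS).ne heq) hφ hP
  have hmax'' : ∀ Y, IsBad F T Y → n ≤ Nat.card (normalizerIn S Y) →
      Nat.card (normalizerIn S Y) ≤ n ∧ Nat.card Y ≤ Nat.card X := by
    intro Y hYb hYn
    have hYS : Y ≤ S := hYb.2.1
    obtain ⟨Q, hQ, hQn⟩ := exists_isFullyNormalized_conj F hYS
    obtain ⟨ψ, hψ, hψN, himg⟩ := exists_map_to_fullyNormalized hS hF hQn hQ
    have hQb : IsBad F T Q :=
      himg ▸ isBad_map hYb (le_normalizerIn hYS) hψ (hfix _ ψ hψ hYn)
    haveI := finite_normalizerIn (S := S) Q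
    have hle : Nat.card (normalizerIn S Y) ≤ Nat.card (normalizerIn S Q) :=
      Nat.card_le_card_of_injective (fun y => (⟨ψ y, hψN y⟩ : normalizerIn S Q)) fun a b h =>
        F.injective_of_mem hψ (congrArg Subtype.val h)
    obtain ⟨h1, h2⟩ := hmax' Q hQn hQb
    exact ⟨hle.trans h1, isConj_card hQ ▸ h2 (hYn.trans hle)⟩
  -- it is centric
  have hXc : F.IsFullyCentralized X := isFullyCentralized_of_isFullyNormalized hS hF hXn
  have hXr : F.IsReceptive X := isReceptive_of_isFullyNormalized hS hF hXn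
  have hφX : autHom α ∈ F.Hom X := autGroup_hom_mem hXS hα
  have hCX : centralizerIn S X ≤ X := by
    set Y := X ⊔ centralizerIn S X with hY
    have hYS : Y ≤ S := sup_le hXS (centralizerIn_le X)
    obtain ⟨ψ, hψ, hag⟩ := hXr.2 X (autHom α) hφX (range_autHom α)
    have hYe : Y ≤ extender S X (autHom α) := sup_centralizerIn_le_extender hφX
    have hXe : X ≤ extender S X (autHom α) := le_sup_left.trans hYe
    have himg : imgSub ψ X = X :=
      (imgSub_of_agree hXe (φ := autHom α) fun x hP hN => hag x hP hN).trans (range_autHom α)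
    set χ := ψ.comp (Subgroup.inclusion hYe) with hχ
    have hmap : ∀ y : Y, χ y ∈ Y := by
      have hh : Y ≤ (Y.comap χ).map Y.subtype := by
        refine sup_le (fun y hy => ⟨⟨y, Subgroup.mem_sup_left hy⟩, ?_, rfl⟩)
          (fun y hy => ⟨⟨y, Subgroup.mem_sup_right hy⟩, ?_, rfl⟩)
        · refine Subgroup.mem_sup_left ?_
          show ψ ⟨y, _⟩ ∈ X
          rw [hag y hy]
          exact (α _).2
        · refine Subgroup.mem_sup_right ?_
          have h := apply_mem_centralizerIn hψ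
            ⟨y, hYe (Subgroup.mem_sup_right hy)⟩ hy.2 (P := X)
          rwa [himg] at h
      intro y
      obtain ⟨z, hz, e⟩ := hh y.2
      rwa [← Subtype.ext e]
    haveI := Lib.Fusion.finite_of_le (S := S) hYS
    obtain ⟨β, hβ, hβa⟩ := exists_aut_of_hom (restrict_mem hψ hYe) hmap
    have hYb : IsBad F T Y := by
      refine ⟨hTX.trans le_sup_left, hYS, β, hβ, ⟨x0, Subgroup.mem_sup_left x0.2⟩, hx0, ?_⟩
      rw [hβa]
      show ψ ⟨x0, _⟩ ∉ T
      rw [hag x0 x0.2]
      exact hαx0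
    have hNY : N ≤ normalizerIn S Y := by
      refine fun g hg => ⟨hg.1, mem_normalizer_of_forall_mem (N := N) ?_ g hg⟩
      intro g hg
      have hh : Y ≤ Y.comap (MulAut.conj g).toMonoidHom := by
        refine sup_le (fun y hy => ?_) (fun y hy => ?_)
        · exact Subgroup.mem_sup_left ((Subgroup.mem_normalizer_iff.1 hg.2 y).1 hy)
        · refine Subgroup.mem_sup_right ⟨S.mul_mem (S.mul_mem hg.1 hy.1) (S.inv_mem hg.1), ?_⟩
          refine Subgroup.mem_centralizer_iff.2 fun z hz => ?_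
          have h1 := Subgroup.mem_centralizer_iff.1 hy.2 _
            ((Subgroup.mem_normalizer_iff''.1 hg.2 z).1 hz)
          show z * (g * y * g⁻¹) = g * y * g⁻¹ * z
          calc z * (g * y * g⁻¹) = g * (g⁻¹ * z * g * y) * g⁻¹ := by group
            _ = g * (y * (g⁻¹ * z * g)) * g⁻¹ := by rw [h1]
            _ = g * y * g⁻¹ * z := by group
      exact hh
    haveI := finite_normalizerIn (S := S) Y
    have h := (hmax'' Y hYb (Subgroup.card_le_of_le hNY)).2
    have heq : X = Y := Subgroup.eq_of_le_of_card_ge le_sup_left h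
    exact le_sup_right.trans heq.ge
  have hcentric : F.IsCentric X := isCentric_of_isFullyCentralized hXc hCX
  -- larger subgroups over the normalizer
  have hbig : ∀ Y, X < Y → Y ≤ N → N ≤ Subgroup.normalizer (Y : Set Ω) → ¬ IsBad F T Y := by
    intro Y hXY hYN hNY hYb
    haveI := finite_normalizerIn (S := S) Y
    haveI := Lib.Fusion.finite_of_le (S := S) (hYN.trans hNS)
    have h := (hmax'' Y hYb (Subgroup.card_le_of_le (le_inf hNS hNY))).2
    exact hXY.ne (Subgroup.eq_of_le_of_card_ge hXY.le h)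
  -- an abelian subgroup of largest order outside `X`
  have hJX : ¬ thompsonSubgroupAOf N ≤ X := by
    intro hJX
    set J := thompsonSubgroupAOf N with hJ
    have hαJ : ∀ x : X, (x : Ω) ∈ J → ((α x : X) : Ω) ∈ J := fun x hx =>
      apply_mem_thompson (F.injective_of_mem hφX) hJX (fun y _ => hXN (α y).2) x hx
    rcases eq_or_lt_of_le hNS with hNeq | hNlt
    · refine hαx0 (not_isBad_of_thompson_le hT hJT hα hXS ?_ x0 hx0)
      rw [← hNeq]
      exact hJX
    · have hTJ : T ≤ J := le_thompson hT (hTX.trans hXN) hNS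
      haveI := Lib.Fusion.finite_of_le (S := S) (hJX.trans hXS)
      obtain ⟨β, hβ, hβa⟩ := exists_aut_of_hom (restrict_mem hφX hJX) fun y => hαJ _ y.2
      have hJb : IsBad F T J := by
        refine ⟨hTJ, hJX.trans hXS, β, hβ, ⟨x0, hTJ hx0⟩, hx0, ?_⟩
        rw [hβa]
        exact hαx0
      have hlt := lt_normalizerIn hS hNlt
      have hle : normalizerIn S N ≤ normalizerIn S J :=
        inf_le_inf_left _ (normalizer_le_normalizer_thompson N)
      haveI := finite_normalizerIn (S := S) N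
      haveI := finite_normalizerIn (S := S) J
      have h1 : n < Nat.card (normalizerIn S N) :=
        lt_of_le_of_ne (Subgroup.card_le_of_le hlt.le) fun h =>
          hlt.ne (Subgroup.eq_of_le_of_card_ge hlt.le h.ge)
      have h2 := h1.trans_le (Subgroup.card_le_of_le hle)
      exact absurd (hmax'' J hJb h2.le).1 h2.not_ge
  obtain ⟨A, hA, hAX⟩ : ∃ A ∈ maxAbelianSubgroups N, ¬ A ≤ X.subgroupOf N := by
    by_contra! h
    refine hJX ?_
    rw [thompsonSubgroupAOf, Subgroup.map_le_iff_le_comap]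
    exact sSup_le fun A hA => h A hA
  -- the model
  obtain ⟨L, _, _, ι, hι, hRn, -, ⟨S0, hS0⟩, hmodel⟩ := exists_localModel hS hF hcentric
    (isFullyAutomized_of_isFullyNormalized hS hF hXn) hXr
  set R := (X.subgroupOf N).map ι with hR
  set TL := (T.subgroupOf N).map ι with hTL
  have hTN : T ≤ N := hTX.trans hXN
  have hS0ι : ∀ y : N, ι y ∈ (S0 : Subgroup L) := fun y => hS0.ge ⟨y, rfl⟩
  have hmem_iff : ∀ (K : Subgroup Ω) (y : N), ι y ∈ (K.subgroupOf N).map ι ↔ (y : Ω) ∈ K :=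
    fun K y => Subgroup.mem_map_iff_mem hι
  have hRS0 : R ≤ S0 := fun y ⟨z, _, e⟩ => e ▸ hS0ι z
  have hTR : TL ≤ R := Subgroup.map_mono fun y hy => hTX hy
  have hfixT : (S0 : Subgroup L) ≤ Subgroup.centralizer (TL : Set L) := by
    intro s hs
    obtain ⟨y, rfl⟩ := hS0.le hs
    refine Subgroup.mem_centralizer_iff.2 ?_
    rintro _ ⟨t, ht, rfl⟩
    rw [← map_mul, ← map_mul]
    exact congrArg ι (Subtype.ext (Subgroup.mem_centralizer_iff.1 (hT ht).2 _ (hNS y.2)).symm)
  -- realised maps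
  have hreal : ∀ (P : Subgroup Ω) (hP : P ≤ N) (l : L),
      (∀ x : P, l * ι ⟨x, hP x.2⟩ * l⁻¹ ∈ (P.subgroupOf N).map ι) →
      ∃ β ∈ F.autGroup P, ∀ x : P, ι ⟨(β x : Ω), hP (β x).2⟩ = l * ι ⟨x, hP x.2⟩ * l⁻¹ := by
    intro P hP l hl
    have hl' : ∀ x : P, l * ι ⟨x, hP x.2⟩ * l⁻¹ ∈ ι.range := fun x =>
      Subgroup.map_le_range _ _ (hl x)
    let θ : P →* ι.range := (((MulAut.conj l).toMonoidHom.comp ι).comp
      (Subgroup.inclusion hP)).codRestrict ι.range hl'
    let φ : P →* Ω := N.subtype.comp ((MonoidHom.ofInjective hι).symm.toMonoidHom.comp θ)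
    have hφN : ∀ x : P, φ x ∈ N := fun x => SetLike.coe_mem _
    have hφι : ∀ x : P, ι ⟨φ x, hφN x⟩ = l * ι ⟨x, hP x.2⟩ * l⁻¹ := fun x => by
      show ι ((MonoidHom.ofInjective hι).symm (θ x)) = _
      exact congrArg Subtype.val ((MonoidHom.ofInjective hι).apply_symm_apply (θ x))
    have hφP : ∀ x : P, φ x ∈ P := fun x => by
      have h := hl x
      rw [← hφι, hmem_iff] at h
      exact h
    have hφ : φ ∈ F.normalizerHom X P := (hmodel P φ hP hφN).2 ⟨l, hφι⟩
    haveI := Lib.Fusion.finite_of_le (S := S) (hP.trans hNS)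
    obtain ⟨β, hβ, hβa⟩ := exists_aut_of_hom hφ.1 hφP
    refine ⟨β, hβ, fun x => ?_⟩
    rw [← hφι x]
    exact congrArg ι (Subtype.ext (hβa x))
  have hH1 : ∀ Q : Subgroup L, R < Q → Q ≤ S0 →
      (S0 : Subgroup L) ≤ Subgroup.normalizer (Q : Set L) →
      Subgroup.normalizer (Q : Set L) ≤ Subgroup.normalizer (TL : Set L) := by
    intro Q hRQ hQS hQN l hl
    set Y := (Q.comap ι).map N.subtype with hY
    have hYN : Y ≤ N := Subgroup.map_subtype_le _
    have hYQ : (Y.subgroupOf N).map ι = Q := by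
      rw [hY, show ((Q.comap ι).map N.subtype).subgroupOf N = Q.comap ι from
        Subgroup.comap_map_eq_self_of_injective N.subtype_injective _,
        Subgroup.map_comap_eq_self (hQS.trans hS0.le)]
    have hXY : X < Y := by
      refine lt_of_le_of_ne (fun x hx => ⟨⟨x, hXN hx⟩, hRQ.le ⟨_, hx, rfl⟩, rfl⟩) fun h => ?_
      exact hRQ.ne (hR.trans ((congrArg (fun K => (Subgroup.subgroupOf K N).map ι) h).trans hYQ))
    have hNY : N ≤ Subgroup.normalizer (Y : Set Ω) := by
      refine fun g hg => mem_normalizer_of_forall_mem (N := N) ?_ g hg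
      intro g hg y hy
      obtain ⟨z, hz, rfl⟩ := hy
      refine ⟨⟨g, hg⟩ * z * ⟨g, hg⟩⁻¹, ?_, rfl⟩
      show ι _ ∈ Q
      rw [map_mul, map_mul, map_inv]
      exact (Subgroup.mem_normalizer_iff.1 (hQN (hS0ι _)) _).1 hz
    obtain ⟨β, hβ, hβι⟩ := hreal Y hYN l fun x => by
      rw [hYQ]
      refine (Subgroup.mem_normalizer_iff.1 hl _).1 ?_
      rw [← hYQ, hmem_iff]
      exact x.2
    refine mem_normalizer_of_forall_conj_mem ?_
    rintro _ ⟨t, ht, rfl⟩
    have htY : (t : Ω) ∈ Y := hXY.le (hTX ht)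
    have h := (aut_fix_of_not_isBad (hYN.trans hNS) (hTX.trans hXY.le) (hbig Y hXY hYN hNY) hβ
      ⟨t, htY⟩).1 ht
    rw [← hβι ⟨t, htY⟩, hmem_iff]
    exact h
  have hmove : ∃ g : L, g ∉ Subgroup.normalizer (TL : Set L) := by
    have hmem : autHom α ∈ F.normalizerHom X X := by
      refine ⟨hφX, hXN, fun x => hXN (α x).2, (autHom α).comp (Subgroup.inclusion (sup_le le_rfl
        le_rfl)), restrict_mem hφX _, fun x => rfl, ?_⟩
      refine le_antisymm ?_ fun y hy => ?_
      · rintro _ ⟨z, -, rfl⟩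
        exact (α _).2
      · refine ⟨⟨α.symm ⟨y, hy⟩, Subgroup.mem_sup_left (α.symm ⟨y, hy⟩).2⟩,
          (α.symm ⟨y, hy⟩).2, ?_⟩
        show ((α _ : X) : Ω) = y
        exact congrArg Subtype.val (α.apply_symm_apply ⟨y, hy⟩)
    obtain ⟨l, hl⟩ := (hmodel X (autHom α) hXN fun x => hXN (α x).2).1 hmem
    refine ⟨l, fun hlN => hαx0 ?_⟩
    have h := (Subgroup.mem_normalizer_iff.1 hlN _).1
      ((hmem_iff T ⟨x0, hXN x0.2⟩).2 hx0)
    rw [← hl, hmem_iff] at h
    exact h
  haveI : R.Normal := hRn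
  obtain ⟨g, m, hgT, hgm, hcop, ⟨t0, ht0, hgt0⟩, htrans⟩ := exists_torus_group hp S0 R TL
    hRS0 hTR hfixT hH1 hmove (A := A.map ι) (fun y ⟨z, _, e⟩ => e ▸ hS0ι z)
    (by
      rintro _ ⟨a, ha, rfl⟩ _ ⟨b, hb, rfl⟩
      haveI := hA.1
      rw [← map_mul, ← map_mul]
      exact congrArg ι (setLike_mul_comm ha hb))
    (fun B hB hBc => by
      have hle : B ≤ ι.range := hB.trans hS0.le
      rw [← Subgroup.map_comap_eq_self hle, Subgroup.card_map_of_injective hι,
        Subgroup.card_map_of_injective hι]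
      refine hA.2 _ ⟨⟨fun a b => Subtype.ext (hι ?_)⟩⟩
      show ι ((a : N) * b) = ι ((b : N) * a)
      rw [map_mul, map_mul]
      exact hBc _ a.2 _ b.2)
    (fun h => hAX ((Subgroup.map_le_map_iff_of_injective hι).1 h))
  -- the automorphism of `T`
  obtain ⟨β, hβ, hβι⟩ := hreal T hTN g fun x =>
    (Subgroup.mem_normalizer_iff.1 hgT _).1 ((hmem_iff T ⟨x, hTN x.2⟩).2 x.2)
  let f : T →* L := ι.comp (Subgroup.inclusion hTN)
  have hf : Function.Injective f := hι.comp (Subgroup.inclusion_injective hTN)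
  have hfTL : ∀ t : T, f t ∈ TL := fun t => (hmem_iff T _).2 t.2
  have hpow : ∀ (i : ℕ) (t : T), f ((β ^ i) t) = g ^ i * f t * (g ^ i)⁻¹ := by
    intro i t
    induction i with
    | zero => simp
    | succ i ih =>
      have h1 : f ((β ^ (i + 1)) t) = g * f ((β ^ i) t) * g⁻¹ := by
        rw [pow_succ', MulAut.mul_apply]
        exact hβι ((β ^ i) t)
      rw [h1, ih, pow_succ' g i]
      group
  have hβm : β ^ m = 1 := MulEquiv.ext fun t => hf (by
    rw [hpow, hgm _ (hfTL t)]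
    rfl)
  haveI : Finite (MulAut T) := finite_mulAut hTS
  refine ⟨Subgroup.zpowers β, Subgroup.zpowers_le.2 hβ, fun h => hgt0 ?_, inferInstance, ?_,
    fun a b ha hb ha1 hb1 => ?_⟩
  · obtain ⟨t, ht, rfl⟩ := ht0
    have h1 := hpow 1 ⟨t, ht⟩
    rw [Subgroup.zpowers_eq_bot.1 h, one_pow, pow_one, MulAut.one_apply] at h1
    exact h1.symm
  · rw [Nat.card_zpowers]
    exact hcop.coprime_dvd_left (orderOf_dvd_of_pow_eq_one hβm)
  · have hle : Subgroup.closure {y : T | ∃ ψ ∈ Subgroup.zpowers β, ∃ t : T, y = ψ t * t⁻¹} ≤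
        (Subgroup.closure {y | ∃ i : ℕ, ∃ t ∈ TL, y = g ^ i * t * (g ^ i)⁻¹ * t⁻¹}).comap f := by
      rw [Subgroup.closure_le]
      rintro _ ⟨ψ, hψ, t, rfl⟩
      obtain ⟨i, rfl⟩ := (mem_powers_iff_mem_zpowers.2 hψ : ψ ∈ Submonoid.powers β)
      exact Subgroup.subset_closure ⟨i, f t, hfTL t, by rw [map_mul, map_inv, hpow]⟩
    obtain ⟨i, hi⟩ := htrans (f a) (f b) (hle ha) (hle hb)
      (fun h => ha1 (hf (h.trans f.map_one.symm))) (fun h => hb1 (hf (h.trans f.map_one.symm)))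
    exact ⟨β ^ i, Subgroup.npow_mem_zpowers β i, hf (by rw [hpow, hi])⟩

end Cfsg.Agent.S5278
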