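import Cfsg.Statements.S5284
import Cfsg.Agent.Lib.Fusion87.AbelianInvariants

set_option autoImplicit false
open Cfsg

namespace Cfsg.Agent.S5284

open Cfsg.FusionSystem Cfsg.Agent.Lib.Fusion Cfsg.Agent.Lib.Fusion87

/-- Let S be a finite abelian p-group. Every saturated fusion system over S is supersoluble (S has a chain of F-strongly closed subgroups from 1 to S with cyclic steps) if and only if the invariants of S are pairwise distinct, that is, S is not isomorphic to a direct product (Z/p^n × Z/p^n) × H with n ≥ 1. -/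
theorem result {Ω : Type*} [Group Ω] {S : Subgroup Ω} [Finite S] (p : ℕ) [Fact p.Prime] (hS : IsPGroup p ↥S) (hab : IsMulCommutative ↥S) : (∀ F : Cfsg.FusionSystem S, F.IsSaturated p → (∃ (m : ℕ) (c : Fin (m + 1) → Subgroup Ω), c 0 = ⊥ ∧ c (Fin.last m) = S ∧ (∀ i : Fin (m + 1), F.StronglyClosed (c i)) ∧ ∀ i : Fin m, c i.castSucc ≤ c i.succ ∧ ∃ x ∈ S, c i.succ = c i.castSucc ⊔ Subgroup.zpowers x)) ↔ ¬ ∃ (n : ℕ) (H : Type) (_ : CommGroup H), 0 < n ∧ Nonempty (↥S ≃* (Multiplicative (ZMod (p ^ n)) × Multiplicative (ZMod (p ^ n))) × H) := by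
  letI : CommGroup S := { (inferInstance : Group S) with mul_comm := hab.is_comm.comm }
  constructor
  · rintro h ⟨n, H, iH, hn, ⟨e⟩⟩
    haveI : Fact (1 < p ^ n) := ⟨Nat.one_lt_pow hn.ne' (Fact.out : p.Prime).one_lt⟩
    obtain ⟨K, hK, hbad⟩ := exists_bad_auts (p := p) (C := Multiplicative (ZMod (p ^ n))) (H := H)
      (Multiplicative.ofAdd (1 : ZMod (p ^ n))) (fun h => one_ne_zero (α := ZMod (p ^ n)) (congrArg Multiplicative.toAdd h))
      (fun h2 h => by
        have h1 : (1 : ZMod (p ^ n)) = -1 := congrArg Multiplicative.toAdd h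
        have h0 : ((2 : ℕ) : ZMod (p ^ n)) = 0 := by
          rw [eq_neg_iff_add_eq_zero, one_add_one_eq_two] at h1; exact_mod_cast h1
        rw [ZMod.natCast_eq_zero_iff] at h0
        exact h2 ((Nat.prime_dvd_prime_iff_eq Fact.out Nat.prime_two).1
          ((dvd_pow_self p hn.ne').trans h0)))
    set ψ := (MulAut.congr e.symm).toMonoidHom
    have hψ : Function.Injective ψ := (MulAut.congr e.symm).injective
    obtain ⟨F, hF, hle⟩ := exists_system_of_coprime hS (K.map ψ)
      (by rwa [Subgroup.card_map_of_injective hψ])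
    obtain ⟨C, hC⟩ := exists_cyclicChain (h F hF) (le_refl S)
    obtain ⟨h1, h2⟩ := C.abelian_exponent (p := p) hS (A := K.map ψ)
      (fun a ha => hC a (hle ha)) (by rwa [Subgroup.card_map_of_injective hψ])
    exact hbad ⟨⟨⟨fun a b => Subtype.ext (hψ (by
        rw [Subgroup.coe_mul, Subgroup.coe_mul, map_mul, map_mul]
        exact congrArg Subtype.val (h1.is_comm.comm (⟨ψ a, a, a.2, rfl⟩ : K.map ψ) ⟨ψ b, b, b.2, rfl⟩)))⟩⟩,
      fun k hk => hψ (by rw [map_pow, map_one]; exact h2 _ ⟨k, hk, rfl⟩)⟩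
  · intro hno F hF
    obtain ⟨C, hC⟩ := exists_charChain hS ((hasCyclicLayers_or_repeated hS).resolve_right hno)
    have hSsc : F.StronglyClosed S := ⟨le_rfl, fun R _ φ hφ x => val_mem hφ x⟩
    have hN : F.IsNormal S := isNormal_of_le_centric_radical hS hF hSsc fun R hR hRc _ =>
      fun s hs => centralizerIn_le_of_isCentric hRc ⟨hs, fun r hr =>
        congrArg Subtype.val (hab.is_comm.comm (⟨r, hR.1 hr⟩ : S) ⟨s, hs⟩)⟩
    refine hasCyclicSeries_of_chain hN C.n C.K C.bot C.top (fun i _ a _ => hC a i) fun i _ => ?_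
    obtain ⟨y₀, hy₀, hy⟩ := C.step i
    refine ⟨C.le i, y₀, le_antisymm (fun y hy' => ?_)
      (sup_le (C.le i) (Subgroup.zpowers_le.2 hy₀))⟩
    obtain ⟨k, hk⟩ := hy y hy'
    have := Subgroup.mul_mem _ (Subgroup.mem_sup_right (S := C.K i) (Subgroup.zpow_mem _ (Subgroup.mem_zpowers y₀) k))
      (Subgroup.mem_sup_left hk)
    rwa [mul_inv_cancel_left] at this

end Cfsg.Agent.S5284
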