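import Cfsg.Statements.S5286
import Mathlib

set_option autoImplicit false
universe u
open Cfsg

namespace Cfsg.Agent.S5286


open scoped Classical
open FreeGroup (mk invRev)

noncomputable section

/-- the coset parametrisation `(q, a) ↦ α a * (out q)⁻¹` -/
theorem equiv_of_injective {A S : Type*} [Group A] [Group S] (α : A →* S) (hα : Function.Injective α) :
    Function.Bijective (fun x : (S ⧸ α.range) × A => α x.2 * (Quotient.out x.1)⁻¹) := by
  constructor
  · rintro ⟨q, a⟩ ⟨q', a'⟩ h
    simp only at h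
    have h' : Quotient.out q * (α a)⁻¹ = Quotient.out q' * (α a')⁻¹ := by
      have := congrArg (fun t => t⁻¹) h
      simpa [mul_inv_rev] using this
    have hq : q = q' := by
      have h1 : ((Quotient.out q * (α a)⁻¹ : S) : S ⧸ α.range) = q := by
        rw [QuotientGroup.mk_mul_of_mem _ (α.range.inv_mem ⟨a, rfl⟩), QuotientGroup.out_eq']
      have h2 : ((Quotient.out q' * (α a')⁻¹ : S) : S ⧸ α.range) = q' := by
        rw [QuotientGroup.mk_mul_of_mem _ (α.range.inv_mem ⟨a', rfl⟩), QuotientGroup.out_eq']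
      rw [← h1, ← h2, h']
    subst hq
    simp only [mul_left_inj] at h
    rw [hα h]
  · intro s
    obtain ⟨⟨x, c, rfl⟩, hx⟩ := QuotientGroup.mk_out_eq_mul α.range s⁻¹
    refine ⟨((s⁻¹ : S), c), ?_⟩
    simp [hx]

/-- two free actions of a finite group by translations on the same set are conjugate -/
theorem exists_intertwiner {A S : Type*} [Group A] [Group S] [Finite S] (α β : A →* S)
    (hα : Function.Injective α) (hβ : Function.Injective β) :
    ∃ σ : Equiv.Perm S, ∀ a s, σ (α a * s) = β a * σ s := by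
  have hA : Finite A := Finite.of_injective α hα
  have hc : Nat.card (S ⧸ α.range) = Nat.card (S ⧸ β.range) := by
    have h1 := Subgroup.card_eq_card_quotient_mul_card_subgroup α.range
    have h2 := Subgroup.card_eq_card_quotient_mul_card_subgroup β.range
    rw [← Nat.card_congr (MonoidHom.ofInjective hα).toEquiv] at h1
    rw [← Nat.card_congr (MonoidHom.ofInjective hβ).toEquiv, h1] at h2
    exact Nat.eq_of_mul_eq_mul_right Nat.card_pos h2
  obtain ⟨θ⟩ : Nonempty ((S ⧸ α.range) ≃ (S ⧸ β.range)) := Finite.card_eq.mp hc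
  let eα := Equiv.ofBijective _ (equiv_of_injective α hα)
  let eβ := Equiv.ofBijective _ (equiv_of_injective β hβ)
  refine ⟨eα.symm.trans ((θ.prodCongr (Equiv.refl A)).trans eβ), fun a s => ?_⟩
  obtain ⟨⟨q, b⟩, rfl⟩ := eα.surjective s
  have : α a * eα (q, b) = eα (q, a * b) := by
    simp [eα, Equiv.ofBijective_apply, mul_assoc]
  rw [this]
  simp [eβ, Equiv.ofBijective_apply, mul_assoc]

section Model

variable {Ω : Type u} [Group Ω] {S : Subgroup Ω}

/-- regular representation -/
def reg (S : Subgroup Ω) : S →* Equiv.Perm S := MulAction.toPermHom S S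

theorem reg_apply (x y : S) : reg S x y = x * y := rfl

theorem reg_injective : Function.Injective (reg S) := fun x y h => by
  simpa [reg_apply] using congrArg (fun t : Equiv.Perm S => t 1) h

variable (F : Cfsg.FusionSystem S)

abbrev Mor : Type u := Σ P : Subgroup Ω, {φ : P →* Ω // φ ∈ F.Hom P}

variable {F}

def Mor.src (m : Mor F) : m.1 →* S :=
  Subgroup.inclusion (F.le_of_mem m.2.2).1

def Mor.tgt (m : Mor F) : m.1 →* S :=
  m.2.1.codRestrict S (F.le_of_mem m.2.2).2

theorem Mor.src_apply (m : Mor F) (x : m.1) : ((m.src x : S) : Ω) = x := rfl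

theorem Mor.tgt_apply (m : Mor F) (x : m.1) : ((m.tgt x : S) : Ω) = m.2.1 x := rfl

theorem Mor.exists_sigma [Finite S] (m : Mor F) :
    ∃ σ : Equiv.Perm S, ∀ x : m.1, σ * reg S (m.src x) = reg S (m.tgt x) * σ := by
  obtain ⟨σ, hσ⟩ := exists_intertwiner m.src m.tgt (Subgroup.inclusion_injective _)
    (fun x y h => F.injective_of_mem m.2.2 (by simpa [Mor.tgt_apply] using congrArg Subtype.val h))
  exact ⟨σ, fun x => Equiv.ext fun s => by simp [reg_apply, hσ]⟩

variable [Finite S]

def Mor.sigma (m : Mor F) : Equiv.Perm S := Classical.choose m.exists_sigma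

theorem Mor.sigma_spec (m : Mor F) (x : m.1) :
    m.sigma * reg S (m.src x) = reg S (m.tgt x) * m.sigma :=
  Classical.choose_spec m.exists_sigma x

def Mor.image (m : Mor F) : Subgroup (Equiv.Perm S) := ((reg S).comp m.tgt).range

theorem Mor.image_le (m : Mor F) : m.image ≤ (reg S).range := by
  rintro _ ⟨x, rfl⟩
  exact ⟨m.tgt x, rfl⟩

variable (F)

abbrev Vert (S : Subgroup Ω) : Type u := Equiv.Perm S ⧸ (reg S).range

abbrev Edge : Type u := Σ m : Mor F, Equiv.Perm S ⧸ m.image

abbrev base (S : Subgroup Ω) : Vert S := ((1 : Equiv.Perm S) : Equiv.Perm S ⧸ (reg S).range)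

variable {F}

def esrc (e : Edge F) : Vert S := Subgroup.quotientMapOfLE e.1.image_le e.2

def etgt (e : Edge F) : Vert S :=
  Quotient.liftOn' e.2 (fun a => ((a * e.1.sigma : Equiv.Perm S) : Vert S)) (fun a b hab => by
    rw [QuotientGroup.leftRel_apply] at hab
    obtain ⟨x, hx⟩ := hab
    refine QuotientGroup.eq.mpr ⟨e.1.src x, ?_⟩
    have h1 := e.1.sigma_spec x
    simp only [MonoidHom.comp_apply] at hx
    rw [hx] at h1
    calc reg S (e.1.src x) = e.1.sigma⁻¹ * (e.1.sigma * reg S (e.1.src x)) := by group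
      _ = _ := by rw [h1]; group)

theorem esrc_mk (m : Mor F) (a : Equiv.Perm S) :
    esrc (⟨m, (a : Equiv.Perm S ⧸ m.image)⟩ : Edge F) = (a : Vert S) := rfl

theorem etgt_mk (m : Mor F) (a : Equiv.Perm S) :
    etgt (⟨m, (a : Equiv.Perm S ⧸ m.image)⟩ : Edge F) = ((a * m.sigma : Equiv.Perm S) : Vert S) := rfl

def epm (τ : Equiv.Perm S) (e : Edge F) : Edge F := ⟨e.1, τ • e.2⟩

theorem epm_one (e : Edge F) : epm 1 e = e := by simp [epm]

theorem epm_mul (τ τ' : Equiv.Perm S) (e : Edge F) : epm (τ * τ') e = epm τ (epm τ' e) := by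
  simp only [epm, mul_smul]
  rfl

theorem epm_injective (τ : Equiv.Perm S) : Function.Injective (epm τ : Edge F → Edge F) := by
  intro a b h
  have := congrArg (epm τ⁻¹) h
  rwa [← epm_mul, ← epm_mul, inv_mul_cancel, epm_one, epm_one] at this

theorem esrc_epm (τ : Equiv.Perm S) (e : Edge F) : esrc (epm τ e) = τ • esrc e := by
  obtain ⟨m, q⟩ := e
  induction q using QuotientGroup.induction_on
  rfl

theorem etgt_epm (τ : Equiv.Perm S) (e : Edge F) : etgt (epm τ e) = τ • etgt e := by
  obtain ⟨m, q⟩ := e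
  induction q using QuotientGroup.induction_on with
  | _ a =>
    show ((τ * a * m.sigma : Equiv.Perm S) : Vert S) = ((τ * (a * m.sigma) : Equiv.Perm S) : Vert S)
    rw [mul_assoc]

/-- letters -/
abbrev Lett (F : Cfsg.FusionSystem S) : Type u := Edge F × Bool

def lpm (τ : Equiv.Perm S) (x : Lett F) : Lett F := (epm τ x.1, x.2)

def linv (x : Lett F) : Lett F := (x.1, !x.2)

def lsrc (x : Lett F) : Vert S := if x.2 then esrc x.1 else etgt x.1

def ltgt (x : Lett F) : Vert S := if x.2 then etgt x.1 else esrc x.1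

theorem lsrc_linv (x : Lett F) : lsrc (linv x) = ltgt x := by
  obtain ⟨e, b⟩ := x; cases b <;> rfl

theorem ltgt_linv (x : Lett F) : ltgt (linv x) = lsrc x := by
  obtain ⟨e, b⟩ := x; cases b <;> rfl

theorem lsrc_lpm (τ : Equiv.Perm S) (x : Lett F) : lsrc (lpm τ x) = τ • lsrc x := by
  obtain ⟨e, b⟩ := x; cases b <;> simp [lsrc, lpm, esrc_epm, etgt_epm]

theorem ltgt_lpm (τ : Equiv.Perm S) (x : Lett F) : ltgt (lpm τ x) = τ • ltgt x := by
  obtain ⟨e, b⟩ := x; cases b <;> simp [ltgt, lpm, esrc_epm, etgt_epm]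

theorem lpm_injective (τ : Equiv.Perm S) : Function.Injective (lpm τ : Lett F → Lett F) := by
  rintro ⟨a, b⟩ ⟨a', b'⟩ h
  simp only [lpm, Prod.mk.injEq] at h
  rw [epm_injective τ h.1, h.2]

theorem lpm_mul (τ τ' : Equiv.Perm S) (x : Lett F) : lpm (τ * τ') x = lpm τ (lpm τ' x) := by
  simp [lpm, epm_mul]

theorem lpm_one (x : Lett F) : lpm 1 x = x := by simp [lpm, epm_one]

theorem lpm_linv (τ : Equiv.Perm S) (x : Lett F) : lpm τ (linv x) = linv (lpm τ x) := rfl

/-- paths -/
def Path : Vert S → Vert S → List (Lett F) → Prop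
  | v, w, [] => v = w
  | v, w, x :: l => lsrc x = v ∧ Path (ltgt x) w l

theorem Path.append_iff {v w : Vert S} {l l' : List (Lett F)} :
    Path v w (l ++ l') ↔ ∃ u, Path v u l ∧ Path u w l' := by
  induction l generalizing v with
  | nil => simp [Path]
  | cons x l ih => simp [Path, ih, and_assoc]

theorem Path.invRev {v w : Vert S} {l : List (Lett F)} (h : Path v w l) :
    Path w v (FreeGroup.invRev l) := by
  induction l generalizing v with
  | nil => exact Eq.symm h
  | cons x l ih =>
    rw [FreeGroup.invRev_cons, Path.append_iff]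
    refine ⟨ltgt x, ih h.2, ?_⟩
    show lsrc (linv x) = ltgt x ∧ ltgt (linv x) = v
    exact ⟨lsrc_linv x, (ltgt_linv x).trans h.1⟩

theorem Path.map {v w : Vert S} {l : List (Lett F)} (τ : Equiv.Perm S) (h : Path v w l) :
    Path (τ • v) (τ • w) (l.map (lpm τ)) := by
  induction l generalizing v with
  | nil => exact congrArg (τ • ·) h
  | cons x l ih =>
    exact ⟨by rw [lsrc_lpm, h.1], by rw [ltgt_lpm]; exact ih h.2⟩

theorem Path.step {v w : Vert S} {l l' : List (Lett F)} (hs : FreeGroup.Red.Step l l')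
    (h : Path v w l) : Path v w l' := by
  cases hs with
  | @not l1 l2 x b =>
    obtain ⟨u, h1, h2⟩ := Path.append_iff.mp h
    obtain ⟨h3, h4, h5⟩ := h2
    refine Path.append_iff.mpr ⟨u, h1, ?_⟩
    have : ltgt ((x, !b) : Lett F) = u := (ltgt_linv ((x, b) : Lett F)).trans h3
    rwa [this] at h5

theorem Path.red {v w : Vert S} {l l' : List (Lett F)} (hs : FreeGroup.Red l l')
    (h : Path v w l) : Path v w l' := by
  induction hs with
  | refl => exact h
  | tail _ hs ih => exact ih.step hs

/-- the action on the free group -/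
def act (F : Cfsg.FusionSystem S) : Equiv.Perm S →* MulAut (FreeGroup (Edge F)) where
  toFun τ := FreeGroup.freeGroupCongr
    { toFun := epm τ
      invFun := epm τ⁻¹
      left_inv := fun e => by rw [← epm_mul, inv_mul_cancel, epm_one]
      right_inv := fun e => by rw [← epm_mul, mul_inv_cancel, epm_one] }
  map_one' := by
    apply MulEquiv.toMonoidHom_injective
    refine FreeGroup.ext_hom _ _ fun e => ?_
    simp [FreeGroup.freeGroupCongr, epm_one]
  map_mul' τ τ' := by
    apply MulEquiv.toMonoidHom_injective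
    refine FreeGroup.ext_hom _ _ fun e => ?_
    simp [FreeGroup.freeGroupCongr, epm_mul]

theorem act_mk (τ : Equiv.Perm S) (l : List (Lett F)) : act F τ (mk l) = mk (l.map (lpm τ)) := rfl

theorem map_isReduced {τ : Equiv.Perm S} {l : List (Lett F)} (h : FreeGroup.IsReduced l) :
    FreeGroup.IsReduced (l.map (lpm τ)) := by
  unfold FreeGroup.IsReduced at h ⊢
  refine (List.isChain_map _).mpr (h.imp ?_)
  intro a b hab he
  exact hab (epm_injective τ he)

theorem toWord_act (τ : Equiv.Perm S) (w : FreeGroup (Edge F)) :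
    (act F τ w).toWord = w.toWord.map (lpm τ) := by
  conv_lhs => rw [← FreeGroup.mk_toWord (x := w), act_mk]
  rw [FreeGroup.toWord_mk, (map_isReduced FreeGroup.isReduced_toWord).reduce_eq]

abbrev Amb (F : Cfsg.FusionSystem S) : Type u :=
  SemidirectProduct (FreeGroup (Edge F)) (Equiv.Perm S) (act F)

/-- the group of lifts -/
def model (F : Cfsg.FusionSystem S) : Subgroup (Amb F) where
  carrier := {g | ∃ l, mk l = g.left ∧ Path (base S) (g.right • base S) l}
  one_mem' := ⟨[], rfl, (one_smul (Equiv.Perm S) (base S)).symm⟩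
  mul_mem' := by
    rintro g g' ⟨l, hl, hp⟩ ⟨l', hl', hp'⟩
    refine ⟨l ++ l'.map (lpm g.right), ?_, ?_⟩
    · rw [SemidirectProduct.mul_left, ← hl, ← hl', act_mk, FreeGroup.mul_mk]
    · rw [SemidirectProduct.mul_right, mul_smul, Path.append_iff]
      exact ⟨_, hp, hp'.map g.right⟩
  inv_mem' := by
    rintro g ⟨l, hl, hp⟩
    refine ⟨(FreeGroup.invRev l).map (lpm g.right⁻¹), ?_, ?_⟩
    · rw [SemidirectProduct.inv_left, ← hl, FreeGroup.inv_mk, act_mk]
    · have := hp.invRev.map g.right⁻¹
      rwa [inv_smul_smul] at this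

theorem path_toWord {g : Amb F} (hg : g ∈ model F) :
    Path (base S) (g.right • base S) g.left.toWord := by
  obtain ⟨l, hl, hp⟩ := hg
  rw [← hl, FreeGroup.toWord_mk]
  exact hp.red FreeGroup.reduce.red

def emb (F : Cfsg.FusionSystem S) : S →* Amb F := SemidirectProduct.inr.comp (reg S)

theorem emb_mem (x : S) : emb F x ∈ model F := by
  refine ⟨[], rfl, ?_⟩
  show base S = ((reg S x * 1 : Equiv.Perm S) : Vert S)
  refine QuotientGroup.eq.mpr ⟨x, ?_⟩
  simp

theorem mem_range_reg {τ : Equiv.Perm S} (h : τ • base S = base S) : ∃ s, reg S s = τ := by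
  change ((τ * 1 : Equiv.Perm S) : Vert S) = ((1 : Equiv.Perm S) : Vert S) at h
  obtain ⟨s, hs⟩ := QuotientGroup.eq.mp h
  refine ⟨s⁻¹, ?_⟩
  rw [map_inv, hs]; simp

theorem eq_emb_of_left_eq_one {g : Amb F} (hg : g ∈ model F) (h1 : g.left = 1) :
    ∃ s, g = emb F s := by
  have hp := path_toWord hg
  rw [h1, FreeGroup.toWord_one] at hp
  obtain ⟨s, hs⟩ := mem_range_reg (Eq.symm hp)
  exact ⟨s, SemidirectProduct.ext (by simp [emb, h1]) (by simp [emb, hs])⟩

def letElt (m : Mor F) : Amb F :=
  ⟨mk [((⟨m, ((1 : Equiv.Perm S) : Equiv.Perm S ⧸ m.image)⟩ : Edge F), true)], m.sigma⟩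

theorem letElt_mem (m : Mor F) : letElt m ∈ model F := by
  refine ⟨[((⟨m, ((1 : Equiv.Perm S) : Equiv.Perm S ⧸ m.image)⟩ : Edge F), true)], rfl, rfl, ?_⟩
  show ((1 * m.sigma : Equiv.Perm S) : Vert S) = ((m.sigma * 1 : Equiv.Perm S) : Vert S)
  simp

theorem emb_tgt_mul (m : Mor F) (x : m.1) :
    emb F (m.tgt x) * letElt m = letElt m * emb F (m.src x) := by
  refine SemidirectProduct.ext ?_ ?_
  · have he : epm (reg S (m.tgt x)) (⟨m, ((1 : Equiv.Perm S) : Equiv.Perm S ⧸ m.image)⟩ : Edge F) =
        ⟨m, ((1 : Equiv.Perm S) : Equiv.Perm S ⧸ m.image)⟩ := by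
      refine Sigma.ext rfl (heq_of_eq ?_)
      show ((reg S (m.tgt x) * 1 : Equiv.Perm S) : Equiv.Perm S ⧸ m.image) = _
      refine QuotientGroup.eq.mpr ?_
      rw [mul_one, mul_one]
      exact m.image.inv_mem ⟨x, rfl⟩
    simp [emb, letElt, act_mk, lpm, he]
  · simp [emb, letElt, m.sigma_spec x]

/-- peeling off the first letter -/
theorem peel (x : Lett F) (hx : lsrc x = base S) :
    ∃ (s : S) (m : Mor F) (k : Amb F), k ∈ model F ∧
      (emb F s * k).left = mk [x] ∧
      (∀ z : m.1, k * emb F (m.src z) = emb F (m.tgt z) * k) ∧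
      ∀ y : S, lpm (reg S y) x = x → ∃ z : m.1, y = s * m.tgt z * s⁻¹ := by
  obtain ⟨⟨m, q⟩, b⟩ := x
  induction q using QuotientGroup.induction_on with
  | _ a =>
  have fixe : ∀ y : S, lpm (reg S y) ((⟨m, (a : Equiv.Perm S ⧸ m.image)⟩ : Edge F), b) =
      ((⟨m, (a : Equiv.Perm S ⧸ m.image)⟩ : Edge F), b) → ∃ z, a⁻¹ * reg S y * a = reg S (m.tgt z) := by
    intro y hy
    have h1 : ((reg S y * a : Equiv.Perm S) : Equiv.Perm S ⧸ m.image) = (a : Equiv.Perm S ⧸ m.image) := by
      have := congrArg Prod.fst hy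
      exact eq_of_heq (Sigma.mk.inj this).2
    obtain ⟨z, hz⟩ := QuotientGroup.eq.mp h1.symm
    exact ⟨z, by rw [mul_assoc]; exact hz.symm⟩
  cases b
  · -- negative letter
    change ((a * m.sigma : Equiv.Perm S) : Vert S) = ((1 : Equiv.Perm S) : Vert S) at hx
    obtain ⟨s, hs⟩ := QuotientGroup.eq.mp hx.symm
    rw [inv_one, one_mul] at hs
    obtain ⟨ψ, hψ, hψe⟩ := F.inv_mem m.2.2
    refine ⟨s, ⟨m.2.1.range, ψ, hψ⟩, (letElt m)⁻¹, (model F).inv_mem (letElt_mem m), ?_, ?_, ?_⟩
    · have ha : epm (reg S s) (epm m.sigma⁻¹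
          (⟨m, ((1 : Equiv.Perm S) : Equiv.Perm S ⧸ m.image)⟩ : Edge F)) = ⟨m, (a : Equiv.Perm S ⧸ m.image)⟩ := by
        refine Sigma.ext rfl (heq_of_eq ?_)
        show ((reg S s * (m.sigma⁻¹ * 1) : Equiv.Perm S) : Equiv.Perm S ⧸ m.image) = _
        rw [hs]; congr 1; group
      simp only [SemidirectProduct.mul_left, SemidirectProduct.inv_left, emb, letElt,
        MonoidHom.comp_apply, SemidirectProduct.left_inr, SemidirectProduct.right_inr,
        FreeGroup.inv_mk, act_mk, one_mul]
      simp [FreeGroup.invRev, lpm, ha]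
    · rintro ⟨w, x, rfl⟩
      have e1 : Mor.src (⟨m.2.1.range, ψ, hψ⟩ : Mor F) ⟨m.2.1 x, x, rfl⟩ = m.tgt x := rfl
      have e2 : Mor.tgt (⟨m.2.1.range, ψ, hψ⟩ : Mor F) ⟨m.2.1 x, x, rfl⟩ = m.src x :=
        Subtype.ext (hψe x)
      rw [e1, e2, inv_mul_eq_iff_eq_mul, ← mul_assoc, ← emb_tgt_mul, mul_assoc, mul_inv_cancel, mul_one]
    · intro y hy
      obtain ⟨z, hz⟩ := fixe y hy
      refine ⟨⟨m.2.1 z, z, rfl⟩, ?_⟩
      have e2 : Mor.tgt (⟨m.2.1.range, ψ, hψ⟩ : Mor F) ⟨m.2.1 z, z, rfl⟩ = m.src z :=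
        Subtype.ext (hψe z)
      rw [e2]
      apply reg_injective
      have h1 := m.sigma_spec z
      rw [← hz] at h1
      simp only [map_mul, map_inv]
      rw [show reg S (m.src z) = m.sigma⁻¹ * (m.sigma * reg S (m.src z)) by group, h1, hs]
      group
  · change (a : Vert S) = ((1 : Equiv.Perm S) : Vert S) at hx
    obtain ⟨s, hs⟩ := QuotientGroup.eq.mp hx.symm
    rw [inv_one, one_mul] at hs
    refine ⟨s, m, letElt m, letElt_mem m, ?_, fun z => (emb_tgt_mul m z).symm, fun y hy => ?_⟩
    · have ha : epm (reg S s) (⟨m, ((1 : Equiv.Perm S) : Equiv.Perm S ⧸ m.image)⟩ : Edge F) =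
          ⟨m, (a : Equiv.Perm S ⧸ m.image)⟩ := by
        refine Sigma.ext rfl (heq_of_eq ?_)
        show ((reg S s * 1 : Equiv.Perm S) : Equiv.Perm S ⧸ m.image) = _
        rw [hs, mul_one]
      simp [emb, letElt, act_mk, lpm, ha]
    · obtain ⟨z, hz⟩ := fixe y hy
      refine ⟨z, reg_injective ?_⟩
      simp only [map_mul, map_inv]
      rw [← hz, hs]
      group

/-- conjugation in the model stays in the fusion system -/
theorem mem_hom_of_conj : ∀ (n : ℕ) (g : Amb F), g ∈ model F → g.left.norm ≤ n →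
    ∀ (P : Subgroup Ω) (hP : P ≤ S) (φ : P →* Ω) (hφ : ∀ x : P, φ x ∈ S),
      (∀ x : P, emb F ⟨φ x, hφ x⟩ * g = g * emb F ⟨x, hP x.2⟩) → φ ∈ F.Hom P := by
  intro n
  induction n with
  | zero =>
    intro g hg hn P hP φ hφ heq
    obtain ⟨s, rfl⟩ := eq_emb_of_left_eq_one hg (FreeGroup.norm_eq_zero.mp (Nat.le_zero.mp hn))
    have : φ = Cfsg.conjHom P (s : Ω) := by
      ext x
      have h := heq x
      rw [← map_mul, ← map_mul] at h
      have h' := congrArg (fun t : Amb F => t.right) h
      simp only [emb, MonoidHom.comp_apply, SemidirectProduct.right_inr] at h'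
      have h'' := congrArg Subtype.val (reg_injective h')
      simp only [Subgroup.coe_mul] at h''
      simp [Cfsg.conjHom, eq_mul_inv_iff_mul_eq, h'']
    rw [this]
    exact F.conj_mem hP s.2
  | succ n ih =>
    intro g hg hn P hP φ hφ heq
    rcases hw : g.left.toWord with _ | ⟨x, rest⟩
    · refine ih g hg ?_ P hP φ hφ heq
      simp [FreeGroup.norm, hw]
    have hp := path_toWord hg
    rw [hw] at hp
    obtain ⟨s, m, k, hk, hkl, hkc, hfix⟩ := peel x hp.1
    have hfx : ∀ u : P, lpm (reg S ⟨φ u, hφ u⟩) x = x := by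
      intro u
      have h := congrArg (fun t : Amb F => t.left.toWord) (heq u)
      simp only [emb, MonoidHom.comp_apply, SemidirectProduct.mul_left, SemidirectProduct.left_inr,
        SemidirectProduct.right_inr, one_mul, map_one, mul_one, toWord_act, hw, List.map_cons,
        List.cons.injEq] at h
      exact h.1
    set h := emb F s * k with hh
    have hhm : h ∈ model F := (model F).mul_mem (emb_mem s) hk
    obtain ⟨ν, hν, hνe⟩ := F.inv_mem m.2.2
    have hz : ∀ u : P, ∃ z : m.1, (s : Ω)⁻¹ * φ u * s = m.2.1 z := by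
      intro u
      obtain ⟨z, hz⟩ := hfix _ (hfx u)
      refine ⟨z, ?_⟩
      have h1 := congrArg Subtype.val hz
      simp only [Subgroup.coe_mul, Subgroup.coe_inv, Mor.tgt_apply] at h1
      rw [h1]; group
    let χ : P →* m.2.1.range :=
      ((MulAut.conj (s : Ω)⁻¹).toMonoidHom.comp φ).codRestrict m.2.1.range (fun u => by
        obtain ⟨z, hz⟩ := hz u
        exact ⟨z, by simp [hz]⟩)
    let φ' : P →* Ω := ν.comp χ
    have hφ'S : ∀ u, φ' u ∈ S := fun u => (F.le_of_mem hν).2 _
    have key : ∀ (u : P) (z : m.1), (s : Ω)⁻¹ * φ u * s = m.2.1 z → φ' u = (z : Ω) := by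
      intro u z hz
      have : χ u = ⟨m.2.1 z, z, rfl⟩ := Subtype.ext (by simp [χ, hz])
      simp [φ', this, hνe]
    have hφ'm : ∀ u, φ' u ∈ m.1 := fun u => by
      obtain ⟨z, hz⟩ := hz u
      rw [key u z hz]; exact z.2
    have heq' : ∀ u : P, emb F ⟨φ' u, hφ'S u⟩ * (h⁻¹ * g) = (h⁻¹ * g) * emb F ⟨u, hP u.2⟩ := by
      intro u
      obtain ⟨z, hz⟩ := hz u
      have h1 : (⟨φ' u, hφ'S u⟩ : S) = m.src z := Subtype.ext (key u z hz)
      have h2 : s * m.tgt z = ⟨φ u, hφ u⟩ * s := Subtype.ext (by
        simp [Mor.tgt_apply, ← hz, mul_assoc])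
      have h3 : h * emb F (m.src z) = emb F ⟨φ u, hφ u⟩ * h := by
        rw [hh, mul_assoc, hkc, ← mul_assoc, ← map_mul, h2, map_mul, mul_assoc]
      rw [h1, ← mul_assoc, mul_assoc h⁻¹ g, ← heq u, ← mul_assoc h⁻¹]
      congr 1
      rw [eq_inv_mul_iff_mul_eq, ← mul_assoc, h3, mul_inv_cancel_right]
    have hnorm : (h⁻¹ * g).left.norm ≤ n := by
      have hl : (h⁻¹ * g).left = mk (rest.map (lpm h.right⁻¹)) := by
        rw [SemidirectProduct.mul_left, SemidirectProduct.inv_left, SemidirectProduct.inv_right,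
          ← map_mul, hkl, ← act_mk]
        congr 1
        rw [inv_mul_eq_iff_eq_mul, FreeGroup.mul_mk, List.singleton_append, ← hw, FreeGroup.mk_toWord]
      rw [hl]
      refine le_trans FreeGroup.norm_mk_le ?_
      rw [List.length_map]
      simp only [FreeGroup.norm, hw, List.length_cons] at hn
      omega
    have hφ' := ih _ ((model F).mul_mem ((model F).inv_mem hhm) hg) hnorm P hP φ' hφ'S heq'
    have hcomp := F.comp_mem hφ' m.2.2 hφ'm
    have hS : ∀ u : P, (m.2.1.comp (φ'.codRestrict m.1 hφ'm)) u ∈ S := fun u => (F.le_of_mem m.2.2).2 _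
    have hfin := F.comp_mem hcomp (F.conj_mem (le_refl S) s.2) hS
    convert hfin using 1
    ext u
    obtain ⟨z, hz⟩ := hz u
    have hz' : (φ'.codRestrict m.1 hφ'm) u = z := Subtype.ext (key u z hz)
    simp [Cfsg.conjHom, hz', ← hz, mul_assoc]

theorem append_isReduced {l l' : List (Lett F)} (hl : FreeGroup.IsReduced l) (hl' : FreeGroup.IsReduced l')
    (h : ∀ a ∈ l.getLast?, ∀ b ∈ l'.head?, a ≠ linv b) : FreeGroup.IsReduced (l ++ l') := by
  unfold FreeGroup.IsReduced at hl hl' ⊢
  refine List.isChain_append.mpr ⟨hl, hl', fun a ha b hb hab => ?_⟩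
  have := h a ha b hb
  obtain ⟨a1, a2⟩ := a
  obtain ⟨b1, b2⟩ := b
  simp only at hab
  subst hab
  cases a2 <;> cases b2 <;> simp_all [linv]

theorem toWord_mul_of_ne {g g' : Amb F} {x y : Lett F} (hx : g.left.toWord.getLast? = some x)
    (hy : g'.left.toWord.head? = some y) (hne : x ≠ linv (lpm g.right y)) :
    (g * g').left.toWord = g.left.toWord ++ g'.left.toWord.map (lpm g.right) := by
  rw [SemidirectProduct.mul_left, FreeGroup.toWord_mul, toWord_act]
  refine (append_isReduced FreeGroup.isReduced_toWord (map_isReduced FreeGroup.isReduced_toWord) ?_).reduce_eq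
  intro a ha b hb
  rw [hx, Option.mem_some_iff] at ha
  rw [List.head?_map, hy, Option.map_some, Option.mem_some_iff] at hb
  subst ha hb
  exact hne

/-- the last letter of a torsion element is forced by the first -/
theorem torsion_last {g : Amb F} (hg : IsOfFinOrder g) {x y : Lett F}
    (hx : g.left.toWord.head? = some x) (hy : g.left.toWord.getLast? = some y) :
    y = linv (lpm g.right x) := by
  by_contra hne
  have key : ∀ n : ℕ, (g ^ (n + 1)).left.toWord.head? = some x := by
    intro n
    induction n with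
    | zero => simpa using hx
    | succ n ih =>
      rw [pow_succ', toWord_mul_of_ne hy ih hne, List.head?_append, hx]
      rfl
  obtain ⟨N, hN, hgN⟩ := isOfFinOrder_iff_pow_eq_one.mp hg
  obtain ⟨n, rfl⟩ : ∃ n, N = n + 1 := ⟨N - 1, by omega⟩
  have := key n
  simp [hgN] at this

/-- finite subgroups are conjugate into the image of `S` -/
theorem finite_conj : ∀ (n : ℕ) (H : Subgroup (Amb F)), H ≤ model F → Finite H →
    (∀ h ∈ H, h.left.norm ≤ n) → ∃ g ∈ model F, ∀ h ∈ H, g * h * g⁻¹ ∈ (emb F).range := by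
  intro n
  induction n with
  | zero =>
    intro H hH _ hn
    refine ⟨1, (model F).one_mem, fun h hh => ?_⟩
    obtain ⟨s, rfl⟩ := eq_emb_of_left_eq_one (hH hh) (FreeGroup.norm_eq_zero.mp (Nat.le_zero.mp (hn h hh)))
    simp
  | succ n ih =>
    intro H hH hfin hn
    by_cases h0 : ∀ h ∈ H, h.left.toWord = []
    · exact ih H hH hfin fun h hh => by simp [FreeGroup.norm, h0 h hh]
    push Not at h0
    obtain ⟨h₁, hh₁, h₁ne⟩ := h0
    obtain ⟨x, l₁, hw₁⟩ := List.exists_cons_of_ne_nil h₁ne
    have tor : ∀ h ∈ H, IsOfFinOrder h := fun h hh => by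
      have := (isOfFinOrder_of_finite (⟨h, hh⟩ : H))
      obtain ⟨N, hN, hN1⟩ := isOfFinOrder_iff_pow_eq_one.mp this
      exact isOfFinOrder_iff_pow_eq_one.mpr ⟨N, hN, by simpa using congrArg Subtype.val hN1⟩
    -- common first letter
    have first : ∀ h ∈ H, ∀ y, h.left.toWord.head? = some y → y = x := by
      intro h hh y hy
      by_contra hyx
      have hne : h.left.toWord ≠ [] := by intro h'; simp [h'] at hy
      obtain ⟨z, hz⟩ : ∃ z, h.left.toWord.getLast? = some z :=
        ⟨_, List.getLast?_eq_some_getLast hne⟩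
      obtain ⟨z₁, hz₁⟩ : ∃ z, h₁.left.toWord.getLast? = some z :=
        ⟨_, List.getLast?_eq_some_getLast h₁ne⟩
      have e1 := torsion_last (tor h hh) hy hz
      have e2 := torsion_last (tor h₁ hh₁) (by rw [hw₁]; rfl) hz₁
      have hc : z ≠ linv (lpm h.right x) := by
        rw [e1]; intro h'
        apply hyx
        have := congrArg linv h'
        simp only [linv, Bool.not_not] at this
        exact lpm_injective h.right (by simpa [lpm] using this)
      have hw := toWord_mul_of_ne hz (by rw [hw₁]; rfl) hc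
      have e3 := torsion_last (tor _ (H.mul_mem hh hh₁)) (x := y) (y := lpm h.right z₁)
        (by rw [hw, List.head?_append, hy]; rfl)
        (by rw [hw, List.getLast?_append, List.getLast?_map, hz₁]; rfl)
      rw [e2, lpm_linv, ← lpm_mul, SemidirectProduct.mul_right] at e3
      have := congrArg linv e3
      simp only [linv, Bool.not_not] at this
      exact hyx (lpm_injective (h.right * h₁.right) (by simpa [lpm] using this.symm))
    have fix : ∀ h ∈ H, h.left.toWord = [] → lpm h.right x = x := by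
      intro h hh h0
      refine first (h * h₁) (H.mul_mem hh hh₁) _ ?_
      rw [SemidirectProduct.mul_left, FreeGroup.toWord_eq_nil_iff.mp h0, one_mul, toWord_act, hw₁]
      rfl
    have hp := path_toWord (hH hh₁)
    rw [hw₁] at hp
    obtain ⟨s, m, k, hk, hkl, -, -⟩ := peel x hp.1
    set c := emb F s * k with hc
    have hcm : c ∈ model F := (model F).mul_mem (emb_mem s) hk
    clear_value c
    let H' : Subgroup (Amb F) := H.map (MulAut.conj c⁻¹).toMonoidHom
    have hH' : H' ≤ model F := by
      rintro _ ⟨h, hh, rfl⟩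
      simpa using (model F).mul_mem ((model F).mul_mem ((model F).inv_mem hcm) (hH hh)) hcm
    have hfin' : Finite H' :=
      Finite.of_equiv H (H.equivMapOfInjective _ (MulAut.conj c⁻¹).injective).toEquiv
    have hn' : ∀ h ∈ H', h.left.norm ≤ n := by
      rintro _ ⟨h, hh, rfl⟩
      have hl : (c⁻¹ * h * c).left = act F c.right⁻¹ (mk [linv x] * h.left * act F h.right (mk [x])) := by
        rw [SemidirectProduct.mul_left, SemidirectProduct.mul_left, SemidirectProduct.inv_left,
          SemidirectProduct.mul_right, SemidirectProduct.inv_right, hkl, FreeGroup.inv_mk]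
        simp [FreeGroup.invRev, linv, map_mul, MulAut.mul_apply]
      have : (MulAut.conj c⁻¹).toMonoidHom h = c⁻¹ * h * c := by simp
      rw [this, FreeGroup.norm, hl, toWord_act, List.length_map, act_mk]
      by_cases h0 : h.left.toWord = []
      · rw [FreeGroup.toWord_eq_nil_iff.mp h0, mul_one, FreeGroup.mul_mk, List.map_singleton,
          fix h hh h0, FreeGroup.toWord_mk, List.singleton_append]
        have : FreeGroup.reduce [linv x, x] = [] := by
          rw [FreeGroup.reduce.eq_of_red (L₂ := [])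
            (FreeGroup.Red.Step.to_red (by obtain ⟨a, b⟩ := x; exact FreeGroup.Red.Step.cons_not_rev))]
          rfl
        rw [this]; simp
      · obtain ⟨y, l, hyl⟩ := List.exists_cons_of_ne_nil h0
        have hyx : y = x := first h hh y (by rw [hyl]; rfl)
        subst hyx
        obtain ⟨z, hz⟩ : ∃ z, h.left.toWord.getLast? = some z :=
          ⟨_, List.getLast?_eq_some_getLast h0⟩
        have e1 := torsion_last (tor h hh) (by rw [hyl]; rfl) hz
        rcases List.eq_nil_or_concat l with rfl | ⟨mid, z', rfl⟩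
        · rw [hyl] at hz
          simp at hz
          rw [← hz] at e1
          have := congrArg Prod.snd e1
          simp [linv, lpm] at this
        · rw [hyl] at hz
          have hz' : z' = linv (lpm h.right y) := by
            rw [← e1]; simpa [List.concat_eq_append, List.getLast?_cons] using hz
          subst hz'
          simp only [List.concat_eq_append] at hyl
          have hbound := hn h hh
          simp only [FreeGroup.norm, hyl, List.length_cons, List.length_append,
            List.length_singleton] at hbound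
          rw [← FreeGroup.mk_toWord (x := h.left), hyl, FreeGroup.mul_mk, FreeGroup.mul_mk]
          have hred : FreeGroup.Red ([linv y] ++ y :: (mid ++ [linv (lpm h.right y)]) ++
              [y].map (lpm h.right)) mid := by
            obtain ⟨a, b⟩ := y
            refine (FreeGroup.Red.Step.to_red ?_).trans (FreeGroup.Red.Step.to_red
              (L₁ := mid ++ [linv (lpm h.right (a, b)), lpm h.right (a, b)]) ?_)
            · simp only [linv, List.cons_append, List.nil_append, List.map_singleton, List.append_assoc]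
              exact FreeGroup.Red.Step.cons_not_rev
            · simp only [linv, lpm]
              have := FreeGroup.Red.Step.not_rev (L₁ := mid) (L₂ := ([] : List (Lett F)))
                (x := epm h.right a) (b := b)
              simpa using this
          rw [FreeGroup.toWord_mk]
          refine le_trans (le_trans (le_of_eq (congrArg List.length (FreeGroup.reduce.eq_of_red hred)))
            (FreeGroup.Red.length_le FreeGroup.reduce.red)) (by omega)
    obtain ⟨g, hg, hgH⟩ := ih H' hH' hfin' hn'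
    refine ⟨g * c⁻¹, (model F).mul_mem hg ((model F).inv_mem hcm), fun h hh => ?_⟩
    have := hgH _ ⟨h, hh, rfl⟩
    convert this using 1
    simp only [MulEquiv.coe_toMonoidHom, MulAut.conj_apply]
    group

end Model

end

/-- Every fusion system F over a finite p-group S, saturated or not, is realized by a possibly infinite group: there are a group G and an injective homomorphism ι of S into G such that the maps of F are exactly the conjugations by elements of G between subgroups of ι(S), every finite subgroup of G is conjugate to a subgroup of ι(S), and G has a free normal subgroup whose index divides (#S)!. -/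
theorem result {Ω : Type u} [Group Ω] {S : Subgroup Ω} [Finite S] (p : ℕ) [Fact p.Prime] (hS : IsPGroup p ↥S) (F : Cfsg.FusionSystem S) : ∃ (G : Type u) (_ : Group G) (ι : ↥S →* G), F.IsRealizedBy ι ∧ (∀ H : Subgroup G, Finite ↥H → ∃ g : G, ∀ h ∈ H, g * h * g⁻¹ ∈ ι.range) ∧ ∃ N : Subgroup G, N.Normal ∧ IsFreeGroup ↥N ∧ N.index ∣ (Nat.card ↥S).factorial := by
  classical
  let ι : ↥S →* ↥(model F) := (emb F).codRestrict (model F) emb_mem
  refine ⟨↥(model F), inferInstance, ι, ⟨?_, ?_⟩, ?_, ?_⟩
  · intro a b h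
    have h' : reg S a = reg S b := by
      simpa [ι, emb] using congrArg (fun t : ↥(model F) => (t : Amb F)) h
    exact reg_injective h'
  · intro P hP φ hφ
    constructor
    · intro hφF
      let m : Mor F := ⟨P, φ, hφF⟩
      refine ⟨⟨letElt m, letElt_mem m⟩, fun x => ?_⟩
      apply Subtype.ext
      show emb F (m.tgt x) = letElt m * emb F (m.src x) * (letElt m)⁻¹
      rw [← emb_tgt_mul, mul_inv_cancel_right]
    · rintro ⟨g, hg⟩
      refine mem_hom_of_conj _ g.1 g.2 le_rfl P hP φ hφ fun x => ?_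
      have h := congrArg (fun t : ↥(model F) => (t : Amb F)) (hg x)
      simp only [Subgroup.coe_mul, Subgroup.coe_inv] at h
      calc emb F ⟨φ x, hφ x⟩ * (g : Amb F)
          = (g : Amb F) * emb F ⟨x, hP x.2⟩ * (g : Amb F)⁻¹ * (g : Amb F) := by
            rw [show emb F ⟨φ x, hφ x⟩ = _ from h]; rfl
        _ = _ := by rw [inv_mul_cancel_right]
  · intro H hH
    let H0 : Subgroup (Amb F) := H.map (model F).subtype
    have hfin : Finite H0 :=
      Finite.of_equiv H (H.equivMapOfInjective _ (model F).subtype_injective).toEquiv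
    have hfs : ((H0 : Set (Amb F))).Finite := Set.toFinite _
    obtain ⟨g, hg, hgH⟩ := finite_conj (hfs.toFinset.sup fun h => h.left.norm) H0
      (Subgroup.map_subtype_le _) hfin
      (fun h hh => Finset.le_sup (f := fun h : Amb F => h.left.norm) (hfs.mem_toFinset.mpr hh))
    refine ⟨⟨g, hg⟩, fun h hh => ?_⟩
    obtain ⟨s, hs⟩ := hgH _ ⟨h, hh, rfl⟩
    exact ⟨s, Subtype.ext hs⟩
  · let π : ↥(model F) →* Equiv.Perm ↥S := SemidirectProduct.rightHom.comp (model F).subtype
    refine ⟨π.ker, inferInstance, ?_, ?_⟩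
    · let f : ↥π.ker →* FreeGroup (Edge F) :=
        { toFun := fun k => ((k : ↥(model F)) : Amb F).left
          map_one' := rfl
          map_mul' := fun a b => by
            have ha : ((a : ↥(model F)) : Amb F).right = 1 := a.2
            simp [ha] }
      have hf : Function.Injective f := fun a b h => Subtype.ext (Subtype.ext
        (SemidirectProduct.ext h ((a.2 : ((a : ↥(model F)) : Amb F).right = 1).trans
          (b.2 : ((b : ↥(model F)) : Amb F).right = 1).symm)))
      exact IsFreeGroup.ofMulEquiv (MonoidHom.ofInjective hf).symm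
    · rw [Subgroup.index_ker, ← Nat.card_perm]
      exact Subgroup.card_subgroup_dvd_card _

end Cfsg.Agent.S5286
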