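import Cfsg.Statements.S5290
import Cfsg.Agent.Lib.Fusion87.Inner

set_option autoImplicit false
open Cfsg

namespace Cfsg.Agent.S5290

open Cfsg.FusionSystem Cfsg.Agent.Lib.Fusion Cfsg.Agent.Lib.Fusion87

/-- Let F be a saturated fusion system over a finite p-group S and Q a subgroup of S. Then Q is normal in F (F = N_F(Q)) if and only if the inner fusion system of Q, consisting of the conjugations by elements of Q on subgroups of Q, is a weakly normal subsystem of F (both saturated, Q strongly closed, invariant under F-conjugation, with the Frattini property). -/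
theorem result {Ω : Type*} [Group Ω] {S : Subgroup Ω} [Finite S] (p : ℕ) [Fact p.Prime] (hS : IsPGroup p S)
    (F : Cfsg.FusionSystem S) (hF : F.IsSaturated p)
    (Q : Subgroup Ω) (hQ : Q ≤ S) :
    F.IsNormal Q ↔ (Cfsg.innerFusionSystem Q).IsWeaklyNormalIn F p := by
  refine ⟨fun h => inner_isWeaklyNormalIn hS hF h, ?_⟩
  rintro ⟨-, -, -, hsc, -, hfr⟩
  haveI : Finite Q := finite_of_le hQ
  haveI := (hS.to_le hQ).isNilpotent
  refine isNormal_of_series hS hF (fun i => (Subgroup.upperCentralSeries Q i).map Q.subtype)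
    (n := Group.nilpotencyClass Q) ?_ ?_ (fun i _ => ⟨(Subgroup.map_subtype_le _).trans hQ, ?_⟩)
    fun i _ x hx q hq => upperCentralSeries_step i hx hq
  · show (Subgroup.upperCentralSeries Q 0).map Q.subtype = ⊥
    rw [Subgroup.upperCentralSeries_zero, Subgroup.map_bot]
  · show (Subgroup.upperCentralSeries Q _).map Q.subtype = Q
    rw [Subgroup.upperCentralSeries_nilpotencyClass, ← MonoidHom.range_eq_map, Subgroup.range_subtype]
  intro P hP φ hφ x
  obtain ⟨α, -, φ₀, hφ₀, hx⟩ := hfr P (hP.trans (Subgroup.map_subtype_le _)) φ hφ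
  obtain ⟨-, g, hg, hgx⟩ := hφ₀
  obtain ⟨y, hy, hyx⟩ := hP x.2
  have h1 : (⟨g, hg⟩ * y * (⟨g, hg⟩ : Q)⁻¹) ∈ Subgroup.upperCentralSeries Q i :=
    Subgroup.Normal.conj_mem inferInstance _ hy _
  have hmem : φ₀ x ∈ Q := by
    rw [hgx, ← hyx]
    exact (⟨g, hg⟩ * y * (⟨g, hg⟩ : Q)⁻¹ : Q).2
  rw [hx x hmem]
  refine Subgroup.mem_map_of_mem Q.subtype ?_
  rw [show (⟨φ₀ x, hmem⟩ : Q) = ⟨g, hg⟩ * y * (⟨g, hg⟩ : Q)⁻¹ from Subtype.ext (by
    show φ₀ x = g * (y : Ω) * g⁻¹
    rw [hgx, ← hyx]; rfl)]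
  exact (Subgroup.characteristic_iff_le_comap.1 inferInstance α) h1

end Cfsg.Agent.S5290
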