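import Cfsg.Statements.S5291
import Cfsg.Agent.Lib.Fusion87.Inner
import Cfsg.Agent.Lib.Fusion.Factor

set_option autoImplicit false
open Cfsg

namespace Cfsg.Agent.S5291

open Cfsg.FusionSystem Cfsg.Agent.Lib.Fusion Cfsg.Agent.Lib.Fusion87

variable {Ω : Type*} [Group Ω] {S T : Subgroup Ω}

/-- The image of a normal subgroup of an invariant subsystem under `Aut_F(T)` is normal in it. -/
theorem isNormal_image {F : FusionSystem S} {E : FusionSystem T} (hsub : E.IsSubsystemOf F)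
    (hTS : T ≤ S)
    (hinv : ∀ (P : Subgroup Ω) (hPT : P ≤ T) (φ : P →* Ω), φ ∈ E.Hom P → ∀ α ∈ F.autGroup T,
      ∃ χ ∈ E.Hom ((P.subgroupOf T).map (T.subtype.comp α.toMonoidHom)),
        ∀ (x : P) (hφx : φ x ∈ T)
          (hαx : ((α ⟨x, hPT x.2⟩ : T) : Ω) ∈ (P.subgroupOf T).map (T.subtype.comp α.toMonoidHom)),
          χ ⟨(α ⟨x, hPT x.2⟩ : T), hαx⟩ = ((α ⟨φ x, hφx⟩ : T) : Ω))
    {α : MulAut T} (hα : α ∈ F.autGroup T) {R : Subgroup Ω} (hR : E.IsNormal R) :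
    E.IsNormal ((R.subgroupOf T).map (T.subtype.comp α.toMonoidHom)) := by
  set R' := (R.subgroupOf T).map (T.subtype.comp α.toMonoidHom) with hR'
  refine ⟨fun y hy => ?_, fun P φ hφ => ?_⟩
  · obtain ⟨z, -, rfl⟩ := hy
    exact (α z).2
  have hPT := src_le hφ
  -- pull `φ` back along `α`
  set P₀ := (P.subgroupOf T).map (T.subtype.comp (α⁻¹).toMonoidHom) with hP₀
  obtain ⟨φ₀, hφ₀, hφ₀x⟩ := hinv P hPT φ hφ α⁻¹ ((F.autGroup T).inv_mem hα)
  obtain ⟨ψ₀, hψ₀, ha, hb⟩ := hR.2 P₀ φ₀ hφ₀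
  have hsup : P₀ ⊔ R ≤ T := src_le hψ₀
  obtain ⟨χ, hχ, hχx⟩ := hinv (P₀ ⊔ R) hsup ψ₀ hψ₀ α hα
  have hpre : ∀ y ∈ P, ∃ z : T, (z : Ω) ∈ P₀ ∧ (α z : Ω) = y := fun y hy =>
    ⟨α⁻¹ ⟨y, hPT hy⟩, ⟨⟨y, hPT hy⟩, hy, rfl⟩, by rw [MulAut.apply_inv_self]⟩
  have hle : P ⊔ R' ≤ ((P₀ ⊔ R).subgroupOf T).map (T.subtype.comp α.toMonoidHom) := by
    refine sup_le (fun y hy => ?_) (Subgroup.map_mono fun z hz => Subgroup.mem_sup_right (S := P₀) hz)
    obtain ⟨z, hz, rfl⟩ := hpre y hy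
    exact ⟨z, Subgroup.mem_sup_left (T := R) hz, rfl⟩
  refine ⟨χ.comp (Subgroup.inclusion hle), restrict_mem hχ hle, fun x => ?_, ?_⟩
  · obtain ⟨z, hz, hzx⟩ := hpre x x.2
    have hval : ψ₀ ⟨z, Subgroup.mem_sup_left hz⟩ ∈ T := val_mem hψ₀ _
    have h := hχx ⟨z, Subgroup.mem_sup_left hz⟩ hval ⟨z, Subgroup.mem_sup_left (T := R) hz, rfl⟩
    have e1 : (Subgroup.inclusion hle (Subgroup.inclusion le_sup_left x)) =
        ⟨(α z : Ω), ⟨z, Subgroup.mem_sup_left (T := R) hz, rfl⟩⟩ := Subtype.ext hzx.symm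
    show χ _ = φ x
    rw [e1]
    refine h.trans ?_
    have hφT : φ x ∈ T := val_mem hφ x
    have e2 : (α⁻¹ ⟨x, hPT x.2⟩ : T) = z := by
      rw [show (⟨x, hPT x.2⟩ : T) = α z from Subtype.ext hzx.symm, MulAut.inv_apply_self]
    have h0 := hφ₀x x hφT ⟨⟨x, hPT x.2⟩, x.2, rfl⟩
    have e3 : ψ₀ ⟨z, Subgroup.mem_sup_left hz⟩ = ((α⁻¹ ⟨φ x, hφT⟩ : T) : Ω) := by
      rw [← h0]
      refine Eq.trans ?_ (ha ⟨_, ⟨⟨x, hPT x.2⟩, x.2, rfl⟩⟩)
      exact congrArg ψ₀ (Subtype.ext (congrArg Subtype.val e2).symm)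
    rw [show (⟨ψ₀ ⟨z, Subgroup.mem_sup_left hz⟩, hval⟩ : T) = α⁻¹ ⟨φ x, hφT⟩ from Subtype.ext e3,
      MulAut.apply_inv_self]
  · ext y
    constructor
    · intro hy
      obtain ⟨w, hw, rfl⟩ := mem_imgSub.1 hy
      obtain ⟨z, hz, hzw⟩ := (hw : (w : Ω) ∈ R')
      have hz' : (⟨z, Subgroup.mem_sup_right hz⟩ : ↥(P₀ ⊔ R)) =
          Subgroup.inclusion le_sup_right ⟨(z : Ω), hz⟩ := rfl
      have h := hχx ⟨z, Subgroup.mem_sup_right hz⟩ (val_mem hψ₀ _)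
        ⟨z, Subgroup.mem_sup_right (S := P₀) hz, rfl⟩
      refine ⟨⟨ψ₀ ⟨z, Subgroup.mem_sup_right hz⟩, val_mem hψ₀ _⟩, ?_, ?_⟩
      · show ψ₀ _ ∈ R
        rw [hz']
        exact imgSub_le_of_isNormal_map hb _
      · show (α _ : Ω) = χ (Subgroup.inclusion hle w)
        rw [← h]
        exact congrArg χ (Subtype.ext hzw)
    · rintro ⟨z, hz, rfl⟩
      obtain ⟨v, hv, hvz⟩ := mem_imgSub.1 (hb.ge hz)
      have hvT : (v : Ω) ∈ T := hsup v.2
      have hmem : (α ⟨v, hvT⟩ : Ω) ∈ P ⊔ R' :=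
        Subgroup.mem_sup_right ⟨⟨v, hvT⟩, hv, rfl⟩
      refine mem_imgSub.2 ⟨⟨_, hmem⟩, ⟨⟨v, hvT⟩, hv, rfl⟩, ?_⟩
      show χ _ = (α z : Ω)
      refine Eq.trans (hχx v (hvz ▸ z.2) ⟨⟨v, hvT⟩, v.2, rfl⟩) ?_
      exact congrArg (fun t : T => (α t : Ω)) (Subtype.ext hvz)

/-- Let F be a saturated fusion system over a finite p-group S and E a weakly normal subsystem of F over a subgroup T. Suppose a subgroup R of T is normal in E (E = N_E(R)), and let R* be the subgroup of T generated by the images of R under all maps of F with source R. Then R* is normal in F (F = N_F(R*)). -/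
theorem result {Ω : Type*} [Group Ω] {S : Subgroup Ω} [Finite S] (p : ℕ) [Fact p.Prime] (hS : IsPGroup p S)
    (F : Cfsg.FusionSystem S) (hF : F.IsSaturated p)
    {T : Subgroup Ω} (E : Cfsg.FusionSystem T) (hE : E.IsWeaklyNormalIn F p)
    (R : Subgroup Ω) (hR : E.IsNormal R) :
    F.IsNormal (Subgroup.closure {x : Ω | ∃ φ ∈ F.Hom R, ∃ r : R, x = φ r}) := by
  obtain ⟨-, -, hsub, hTsc, hinv, hfr⟩ := hE
  have hTS := hTsc.1
  have hRT := hR.1
  haveI : Finite T := finite_of_le hTS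
  haveI : Finite R := finite_of_le (hRT.trans hTS)
  have hRsc := stronglyClosed_of_isNormal hR
  set M := Subgroup.closure {x : Ω | ∃ φ ∈ F.Hom R, ∃ r : R, x = φ r} with hMdef
  -- each image of `R` is the image of `R` under an element of `Aut_F(T)`, hence normal in `E`
  have himg : ∀ φ ∈ F.Hom R, E.IsNormal φ.range := by
    intro φ hφ
    obtain ⟨α, hα, φ₀, hφ₀, hx⟩ := hfr R hRT φ hφ
    have h0 : φ₀.range = R := range_eq_self hφ₀ fun x => hRsc.2 R le_rfl φ₀ hφ₀ x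
    have heq : φ.range = (R.subgroupOf T).map (T.subtype.comp α.toMonoidHom) := by
      ext y
      constructor
      · rintro ⟨x, rfl⟩
        have hxR : φ₀ x ∈ R := h0.le ⟨x, rfl⟩
        exact ⟨⟨φ₀ x, hRT hxR⟩, hxR, (hx x (hRT hxR)).symm⟩
      · rintro ⟨z, hz, rfl⟩
        obtain ⟨x, hxz⟩ := h0.ge hz
        refine ⟨x, ?_⟩
        rw [hx x (hxz ▸ z.2)]
        exact congrArg (fun t : T => (α t : Ω)) (Subtype.ext hxz)
    exact heq ▸ isNormal_image hsub hTS hinv hα hR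
  have hMnorm : E.IsNormal M := by
    have hfin : {N : Subgroup Ω | E.IsNormal N ∧ N ≤ M}.Finite :=
      (Cfsg.Agent.Lib.FusionFactor.finite_le T).subset fun N hN => hN.1.1
    obtain ⟨N, ⟨hN, hNM⟩, hmax⟩ := hfin.exists_maximal ⟨⊥, Cfsg.Agent.Lib.FusionFactor.isNormal_bot E, bot_le⟩
    refine (le_antisymm ((Subgroup.closure_le _).2 ?_) hNM : M = N) ▸ hN
    rintro _ ⟨φ, hφ, r, rfl⟩
    have hle : φ.range ≤ M := by
      rintro _ ⟨r, rfl⟩
      exact Subgroup.subset_closure ⟨φ, hφ, r, rfl⟩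
    exact (le_sup_right.trans
      (hmax ⟨Cfsg.Agent.Lib.FusionFactor.isNormal_sup E hN (himg φ hφ), sup_le hNM hle⟩ le_sup_left)) ⟨r, rfl⟩
  have hMT := hMnorm.1
  haveI : Finite M := finite_of_le (hMT.trans hTS)
  haveI := (hS.to_le (hMT.trans hTS)).isNilpotent
  refine isNormal_of_series hS hF (fun i => (Subgroup.upperCentralSeries M i).map M.subtype)
    (n := Group.nilpotencyClass M) ?_ ?_
    (fun i _ => ⟨(Subgroup.map_subtype_le _).trans (hMT.trans hTS), ?_⟩)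
    fun i _ x hx q hq => upperCentralSeries_step i hx hq
  · show (Subgroup.upperCentralSeries M 0).map M.subtype = ⊥
    rw [Subgroup.upperCentralSeries_zero, Subgroup.map_bot]
  · show (Subgroup.upperCentralSeries M _).map M.subtype = M
    rw [Subgroup.upperCentralSeries_nilpotencyClass, ← MonoidHom.range_eq_map, Subgroup.range_subtype]
  intro P hP φ hφ x
  have hPM := hP.trans (Subgroup.map_subtype_le _)
  obtain ⟨α, hα, φ₀, hφ₀, hx⟩ := hfr P (hPM.trans hMT) φ hφ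
  -- `φ₀` extends to an automorphism of `M`
  obtain ⟨ψ, hψ, ha, hb⟩ := hMnorm.2 P φ₀ hφ₀
  obtain ⟨b, -, hbx⟩ := exists_aut_of_hom (restrict_mem hψ le_sup_right)
    fun z => imgSub_le_of_isNormal_map hb z
  -- `α` restricts to an automorphism of `M`
  have hαM : ∀ z : T, (z : Ω) ∈ M → (α z : Ω) ∈ M := by
    have hαm := autGroup_hom_mem hTS hα
    intro z hz
    suffices h : M ≤ (M.comap (autHom α)).map T.subtype by
      obtain ⟨w, hw, hwz⟩ := h hz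
      obtain rfl : w = z := Subtype.ext hwz
      exact hw
    refine (Subgroup.closure_le _).2 ?_
    rintro _ ⟨θ, hθ, r, rfl⟩
    have hθT : ∀ r : R, θ r ∈ T := fun r => hTsc.2 R hRT θ hθ r
    refine ⟨⟨θ r, hθT r⟩, ?_, rfl⟩
    exact Subgroup.subset_closure ⟨_, F.comp_mem hθ hαm hθT, r, rfl⟩
  obtain ⟨a, -, hax⟩ := exists_aut_of_hom (restrict_mem (autGroup_hom_mem hTS hα) hMT)
    fun z => hαM (Subgroup.inclusion hMT z) z.2
  obtain ⟨y, hy, hyx⟩ := hP x.2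
  have h1 : a (b y) ∈ Subgroup.upperCentralSeries M i :=
    (Subgroup.characteristic_iff_le_comap.1 inferInstance a)
      ((Subgroup.characteristic_iff_le_comap.1 inferInstance b) hy)
  refine ⟨a (b y), h1, ?_⟩
  show (a (b y) : Ω) = φ x
  have hby : (b y : Ω) = φ₀ x := by
    rw [hbx, ← ha]
    exact congrArg ψ (Subtype.ext hyx)
  rw [hx x (hby ▸ hMT (b y).2), hax]
  exact congrArg (fun t : T => (α t : Ω)) (Subtype.ext hby)

end Cfsg.Agent.S5291
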