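import Cfsg.Statements.S5292
import Cfsg.Agent.Lib.Fusion87.PSolvableRealized

set_option autoImplicit false
universe u
open Cfsg

namespace Cfsg.Agent.S5292

open Cfsg.FusionSystem Cfsg.Agent.Lib Cfsg.Agent.Lib.Fusion Cfsg.Agent.Lib.Fusion87

/-- Let F be a saturated fusion system over a finite p-group S. Then F is the fusion system of some finite p-solvable group on a Sylow p-subgroup if and only if F is constrained (some subgroup normal in F is centric in F) and the group of automorphisms that F induces on its largest normal subgroup O_p(F) is p-solvable. -/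
theorem result {Ω : Type u} [Group Ω] {S : Subgroup Ω} [Finite S] (p : ℕ) [Fact p.Prime] (hS : IsPGroup p S)
    (F : Cfsg.FusionSystem S) (hF : F.IsSaturated p) :
    (∃ (G : Type u) (_ : Group G) (_ : Finite G) (ι : S →* G), Cfsg.IsPSolvable p G ∧ F.IsRealizedBy ι ∧
        ∃ T : Sylow p G, (T : Subgroup G) = ι.range) ↔
      (F.IsConstrained p ∧ Cfsg.IsPSolvable p ↥(F.autGroup F.core)) := by
  constructor
  · rintro ⟨G, iG, iF, ι, hG, hι, T, hT⟩
    obtain ⟨hι', hT'⟩ := isRealizedBy_quotient hι T hT (Cfsg.pPrimeCore p G) PSolvable.pPrimeCore_coprime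
    have hM : F.IsModel p (G ⧸ Cfsg.pPrimeCore p G) ((QuotientGroup.mk' _).comp ι) :=
      ⟨inferInstance, hι', hT', PSolvable.centralizer_pCore_le_of_isPSolvable
        (PSolvable.isPSolvable_quotient hG _) PSolvable.pPrimeCore_quotient_eq_bot⟩
    obtain ⟨ρ, hρ, -⟩ := exists_hom_autGroup_core hM
    exact ⟨isConstrained_of_isModel hM,
      PSolvable.isPSolvable_map (PSolvable.isPSolvable_quotient hG _) ρ hρ⟩
  · rintro ⟨hc, hA⟩
    obtain ⟨L, iL, iF, ι, hM⟩ := exists_model_of_isConstrained hS hc
    obtain ⟨ρ, hρ, hker⟩ := exists_hom_autGroup_core hM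
    refine ⟨L, iL, iF, ι, PSolvable.isPSolvable_of_quotient ρ.ker
      (Or.inl (IsPGroup.iff_card.1 (PSolvable.pCore_isPGroup.to_le hker)))
      (PSolvable.isPSolvable_equiv hA (QuotientGroup.quotientKerEquivOfSurjective ρ hρ).symm),
      hM.2.1, hM.2.2.1⟩

end Cfsg.Agent.S5292
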