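import Cfsg.Statements.S5294
import Cfsg.Agent.Lib.Fusion87.Central
-- import your own Cfsg.Agent.* helpers here

set_option autoImplicit false
universe u
open Cfsg

namespace Cfsg.Agent.S5294

open Cfsg.FusionSystem Cfsg.Agent.Lib.Fusion Cfsg.Agent.Lib.Fusion87
open scoped IsMulCommutative

/-- Let F be a saturated fusion system over a finite p-group S whose centre Z(S) lies in the largest subgroup O_p(F) normal in F. Then the centre Z(F) of F is a direct factor of Z(S): there is a subgroup K of Z(S) with Z(F) ∩ K = 1 and Z(F)K = Z(S). -/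
theorem result {Ω : Type u} [Group Ω] {S : Subgroup Ω} [Finite S] (p : ℕ) [Fact p.Prime] (hS : IsPGroup p S)
    (F : Cfsg.FusionSystem S) (hF : F.IsSaturated p) (hZ : (S ⊓ Subgroup.centralizer (S : Set Ω)) ≤ F.core) :
    ∃ K : Subgroup Ω, K ≤ (S ⊓ Subgroup.centralizer (S : Set Ω)) ∧ F.center ⊓ K = ⊥ ∧ F.center ⊔ K = (S ⊓ Subgroup.centralizer (S : Set Ω)) := by
  have hQn : F.IsNormal F.core := Cfsg.Agent.Lib.FusionFactor.isNormal_core F
  have hfix : ∀ z : F.core, (∀ a ∈ F.autGroup F.core, a z = z) → (z : Ω) ∈ F.center :=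
    mem_center_of_fixed hQn
  set Q := F.core
  set Zs := S ⊓ Subgroup.centralizer (S : Set Ω) with hZs
  have hQS := hQn.1
  obtain ⟨-, U, hU⟩ := isFullyAutomized_of_isFullyNormalized hS hF (isFullyNormalized_of_isNormal hQn)
  haveI : Finite Q := finite_of_le hQS
  haveI := finite_mulAut (S := S) hQS
  haveI : Finite Zs := finite_of_le (inf_le_left : Zs ≤ S)
  let act : F.autGroup Q → (Zs →* Subgroup.center Q) := fun a =>
    { toFun := fun v => ⟨(a : MulAut Q) ⟨v, hZ v.2⟩, Subgroup.characteristic_iff_le_comap.1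
        inferInstance (a : MulAut Q) (Subgroup.mem_center_iff.2 fun q => Subtype.ext
          (Subgroup.mem_centralizer_iff.1 v.2.2 q (hQS q.2)))⟩
      map_one' := Subtype.ext ((congrArg _ (Subtype.ext rfl : (⟨_, hZ (1 : Zs).2⟩ : Q) = 1)).trans
        (map_one (a : MulAut Q)))
      map_mul' := fun v w => Subtype.ext ((congrArg _ (Subtype.ext rfl :
        (⟨_, hZ (v * w).2⟩ : Q) = ⟨v, hZ v.2⟩ * ⟨w, hZ w.2⟩)).trans
        (map_mul (a : MulAut Q) _ _)) }
  -- the Sylow subgroup fixes `Z(S)`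
  have hUfix : ∀ u ∈ (U : Subgroup (F.autGroup Q)), ∀ v : Zs,
      (u : MulAut Q) ⟨v, hZ v.2⟩ = ⟨v, hZ v.2⟩ := by
    intro u hu v
    rw [hU] at hu
    obtain ⟨g, hg, hgx⟩ := mem_autInducedBy.1 (Subgroup.mem_subgroupOf.1 hu)
    refine Subtype.ext ?_
    rw [hgx]
    show g * (v : Ω) * g⁻¹ = v
    rw [Subgroup.mem_centralizer_iff.1 v.2.2 g hg, mul_inv_cancel_right]
  letI := Fintype.ofFinite (F.autGroup Q ⧸ (U : Subgroup (F.autGroup Q)))
  let t : Zs →* Subgroup.center Q :=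
    ∏ q : F.autGroup Q ⧸ (U : Subgroup (F.autGroup Q)), act q.out
  have ht : ∀ (b : F.autGroup Q) (v : Zs), (b : MulAut Q) (t v : Q) = (t v : Q) := by
    intro b v
    let bC : Subgroup.center Q →* Subgroup.center Q :=
      { toFun := fun w => ⟨(b : MulAut Q) w, Subgroup.characteristic_iff_le_comap.1 inferInstance
          (b : MulAut Q) w.2⟩
        map_one' := Subtype.ext (map_one (b : MulAut Q))
        map_mul' := fun x y => Subtype.ext (map_mul (b : MulAut Q) _ _) }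
    suffices h : bC (t v) = t v from congrArg Subtype.val h
    simp only [t, MonoidHom.finsetProd_apply, map_prod]
    refine Fintype.prod_equiv (MulAction.toPerm b) _ _ fun q => Subtype.ext ?_
    obtain ⟨u, hu⟩ := QuotientGroup.mk_out_eq_mul (U : Subgroup (F.autGroup Q)) (b * q.out)
    have hbq : b • q = ((b * q.out : F.autGroup Q) : F.autGroup Q ⧸ (U : Subgroup _)) := by
      conv_lhs => rw [← QuotientGroup.out_eq' q]
      rfl
    show (b : MulAut Q) ((q.out : MulAut Q) ⟨v, hZ v.2⟩) =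
      ((b • q).out : MulAut Q) ⟨v, hZ v.2⟩
    rw [hbq, hu, Subgroup.coe_mul, Subgroup.coe_mul, MulAut.mul_apply, hUfix u u.2, MulAut.mul_apply]
  have htc : ∀ v, ((t v : Q) : Ω) ∈ F.center := fun v => hfix _ fun b hb => ht ⟨b, hb⟩ v
  set n := Nat.card (F.autGroup Q ⧸ (U : Subgroup (F.autGroup Q))) with hn
  have hn' : p.Coprime n :=
    (Fact.out : p.Prime).coprime_iff_not_dvd.2 U.not_dvd_index
  have hpow : ∀ v : Zs, (v : Ω) ∈ F.center → ((t v : Q) : Ω) = (v : Ω) ^ n := by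
    intro v hv
    have h : t v = (act 1 v) ^ n := by
      simp only [t, MonoidHom.finsetProd_apply]
      rw [hn, Nat.card_eq_fintype_card, ← Finset.card_univ, ← Finset.prod_const]
      refine Finset.prod_congr rfl fun q _ => Subtype.ext (Subtype.ext ?_)
      exact apply_eq_of_mem_center (autGroup_hom_mem hQS q.out.2) ⟨v, hZ v.2⟩ hv
    rw [h]
    rfl
  refine ⟨t.ker.map Zs.subtype, Subgroup.map_subtype_le _, ?_, ?_⟩
  · rw [eq_bot_iff]
    rintro _ ⟨hc, v, hv, rfl⟩
    have h1 : (v : Ω) ^ n = 1 := by rw [← hpow v hc, MonoidHom.mem_ker.1 hv]; rfl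
    obtain ⟨k, hk⟩ := hS ⟨v, v.2.1⟩
    exact Subgroup.mem_bot.2 (orderOf_eq_one_iff.1 (Nat.eq_one_of_dvd_coprimes (hn'.pow_left k)
      (orderOf_dvd_of_pow_eq_one (congrArg Subtype.val hk)) (orderOf_dvd_of_pow_eq_one h1)))
  refine le_antisymm (sup_le (center_le_inf_centralizer F) (Subgroup.map_subtype_le _)) fun v hv => ?_
  -- a root of `t v` in the centre
  have hCp : IsPGroup p F.center := hS.to_le (center_le F)
  obtain ⟨c, hc⟩ := (hCp.powEquiv hn').surjective ⟨_, htc ⟨v, hv⟩⟩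
  have hc' : (c : Ω) ^ n = ((t ⟨v, hv⟩ : Q) : Ω) := congrArg Subtype.val hc
  set c' : Zs := ⟨c, center_le_inf_centralizer F c.2⟩
  refine (mul_inv_cancel_left (c : Ω) v) ▸ Subgroup.mul_mem_sup c.2
    ⟨c'⁻¹ * ⟨v, hv⟩, ?_, rfl⟩
  show t _ = 1
  rw [map_mul, map_inv, inv_mul_eq_one]
  exact Subtype.ext (Subtype.ext ((hpow c' c.2).trans hc'))

end Cfsg.Agent.S5294
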