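import Cfsg.Statements.S5297
import Cfsg.Agent.Lib.Fusion87.Small
import Cfsg.Agent.Lib.Fusion87.Inner
import Cfsg.Agent.Lib.Fusion.Quotient
-- import your own Cfsg.Agent.* helpers here

set_option autoImplicit false
universe u
open Cfsg

namespace Cfsg.Agent.S5297

open Cfsg.FusionSystem Cfsg.Agent.Lib.Fusion Cfsg.Agent.Lib.Fusion87

/-- Let F be a saturated fusion system over a finite p-group S. If every map of F between cyclic subgroups of the hyperfocal subgroup of F of order p or 4 is a map of the normalizer system of S (it extends to a map of F defined on all of S), then S is normal in F. -/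
theorem result {Ω : Type u} [Group Ω] {S : Subgroup Ω} [Finite S] (p : ℕ) [Fact p.Prime] (hS : IsPGroup p S)
    (F : Cfsg.FusionSystem S) (hF : F.IsSaturated p)
    (h : ∀ A B : Subgroup Ω, A ≤ (F.hyperfocalSubgroup p) → B ≤ (F.hyperfocalSubgroup p) → IsCyclic ↥A → (Nat.card ↥A = p ∨ Nat.card ↥A = 4) → IsCyclic ↥B → (Nat.card ↥B = p ∨ Nat.card ↥B = 4) →
      F.homSet A B ⊆ F.normalizerHom S A) :
    F.IsNormal S := by

  have key : ∀ (P : Subgroup Ω) (φ : P →* Ω), φ ∈ F.Hom P → ∀ x : P, IsSmall p (x : Ω) →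
      (x : Ω) ∈ F.hyperfocalSubgroup p → (x : Ω) ≠ 1 →
      ∃ hA : Subgroup.zpowers (x : Ω) ≤ P, φ.comp (Subgroup.inclusion hA) ∈ F.normalizerHom S (Subgroup.zpowers (x : Ω)) := by
    intro P φ hφ x hs hx hx1
    have hA : Subgroup.zpowers (x : Ω) ≤ P := Subgroup.zpowers_le.2 x.2
    have hφx := stronglyClosed_apply (stronglyClosed_hyperfocalSubgroup hS hF) hφ x hx
    have hord : orderOf (x : Ω) = p ∨ orderOf (x : Ω) = 4 := by
      rcases hs with hs | ⟨h2, hs⟩
      · exact Or.inl (orderOf_eq_prime hs hx1)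
      · subst h2
        obtain ⟨k, hk, hk'⟩ := (Nat.dvd_prime_pow Nat.prime_two).1
          (show orderOf (x : Ω) ∣ 2 ^ 2 from orderOf_dvd_of_pow_eq_one hs)
        interval_cases k
        · exact absurd (orderOf_eq_one_iff.1 hk') hx1
        · exact Or.inl hk'
        · exact Or.inr hk'
    have hord' : orderOf (φ x) = orderOf (x : Ω) := by
      rw [orderOf_injective φ (F.injective_of_mem hφ), Subgroup.orderOf_coe]
    refine ⟨hA, h _ (Subgroup.zpowers (φ x)) (Subgroup.zpowers_le.2 hx) (Subgroup.zpowers_le.2 hφx)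
      inferInstance (by rwa [Nat.card_zpowers]) inferInstance (by rwa [Nat.card_zpowers, hord'])
      ⟨restrict_mem hφ hA, ?_⟩⟩
    rintro ⟨_, k, rfl⟩
    exact ⟨k, (map_zpow φ x k).symm.trans (congrArg φ (Subtype.ext (SubgroupClass.coe_zpow x k)))⟩
  haveI := hS.isNilpotent
  let c : ℕ → Subgroup Ω := fun i => (Subgroup.upperCentralSeries S i).map S.subtype
  have h0 : c 0 = ⊥ := by
    show (Subgroup.upperCentralSeries S 0).map S.subtype = ⊥
    rw [Subgroup.upperCentralSeries_zero, Subgroup.map_bot]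
  have hn : c (Group.nilpotencyClass S) = S := by
    show (Subgroup.upperCentralSeries S _).map S.subtype = S
    rw [Subgroup.upperCentralSeries_nilpotencyClass, ← MonoidHom.range_eq_map, Subgroup.range_subtype]
  have hcS : ∀ i, c i ≤ S := fun i => Subgroup.map_subtype_le _
  have hnorm : ∀ i, S ≤ Subgroup.normalizer (c i : Set Ω) := by
    intro i s hs
    have key : ∀ t ∈ S, ∀ y ∈ c i, t * y * t⁻¹ ∈ c i := by
      rintro t ht _ ⟨y, hy, rfl⟩
      exact ⟨_, Subgroup.Normal.conj_mem inferInstance y hy ⟨t, ht⟩, rfl⟩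
    rw [Subgroup.mem_normalizer_iff]
    exact fun y => ⟨key s hs y, fun hy => by simpa [mul_assoc] using key s⁻¹ (S.inv_mem hs) _ hy⟩
  have hH := stronglyClosed_hyperfocalSubgroup hS hF
  refine isNormal_top_of_small hS hF hH (fun R hR a ha hc x => Subgroup.subset_closure ⟨R, ⟨a, ha⟩, x, hR,
      Subgroup.subset_closure (by rw [Set.mem_ofPred_eq, Subgroup.orderOf_mk]; exact hc), rfl⟩) c
    (n := Group.nilpotencyClass S) h0 (fun x hx _ => hn.ge (hH.1 hx)) hnorm
    (fun i _ x _ _ hx q hq => upperCentralSeries_step i hx hq) ?_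
  intro P φ hφ x hs hxH i hx
  rcases eq_or_ne (x : Ω) 1 with h1 | h1
  · rw [show x = 1 from Subtype.ext h1, map_one]
    exact (c i).one_mem
  obtain ⟨hA, -, -, -, ψ, hψ, hψA, hψS⟩ := key P φ hφ x hs hxH h1
  obtain ⟨b, -, hbx⟩ := exists_aut_of_hom (restrict_mem hψ le_sup_right) fun z =>
    hψS.le ⟨Subgroup.inclusion le_sup_right z, z.2, rfl⟩
  obtain ⟨y, hy, hyx⟩ := hx
  refine ⟨b y, Subgroup.characteristic_iff_le_comap.1 inferInstance b hy, ?_⟩
  show (b y : Ω) = φ x
  rw [hbx]
  exact Eq.trans (congrArg ψ (show Subgroup.inclusion le_sup_right y =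
    Subgroup.inclusion le_sup_left ⟨(x : Ω), Subgroup.mem_zpowers _⟩ from Subtype.ext hyx)) (hψA ⟨(x : Ω), Subgroup.mem_zpowers _⟩)

end Cfsg.Agent.S5297
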