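import Cfsg.Statements.S5299
import Mathlib

set_option autoImplicit false
universe u
open Cfsg

namespace Cfsg.Agent.S5299

open Subgroup

/-- A quotient of a group that embeds in `G` is involved in `G`. -/
theorem involves_of_injective_of_surjective {P Q G : Type*} [Group P] [Group Q] [Group G]
    (j : P →* G) (hj : Function.Injective j) (f : P →* Q) (hf : Function.Surjective f) :
    Cfsg.Involves Q G := by
  let e : P ≃* j.range := MonoidHom.ofInjective hj
  let g : j.range →* Q := f.comp e.symm.toMonoidHom
  have hg : Function.Surjective g := hf.comp e.symm.surjective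
  have hker : (g.ker.map j.range.subtype).subgroupOf j.range = g.ker :=
    Subgroup.comap_map_eq_self_of_injective (Subgroup.subtype_injective _) g.ker
  haveI hn : ((g.ker.map j.range.subtype).subgroupOf j.range).Normal := by
    rw [hker]; infer_instance
  exact ⟨j.range, g.ker.map j.range.subtype, hn,
    ⟨(QuotientGroup.quotientMulEquivOfEq hker).trans
      (QuotientGroup.quotientKerEquivOfSurjective g hg)⟩⟩

/-- Let F be a saturated fusion system over a finite p-group S, H a finite group and Q a p-subgroup of H. If Q is not involved in S (no section of S is isomorphic to Q), then F is H-free: H is involved in no model of the normalizer system of a fully normalized centric subgroup. -/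
theorem result {Ω : Type u} [Group Ω] {S : Subgroup Ω} [Finite S] (p : ℕ) [Fact p.Prime] (hS : IsPGroup p S)
    (F : Cfsg.FusionSystem S) (hF : F.IsSaturated p) (H : Type*) [Group H] [Finite H] (Q : Subgroup H) (hQ : IsPGroup p Q)
    (hfree : ¬ Cfsg.Involves (↥Q) (↥S)) : F.IsSectionFree p H := by
  intro R hR hRc N hN L _ ι hmodel hinv
  obtain ⟨hfin, ⟨hinj, -⟩, ⟨T, hT⟩, -⟩ := hmodel
  obtain ⟨K, M, hn, ⟨e⟩⟩ := hinv
  let π : K →* H := e.toMonoidHom.comp (QuotientGroup.mk' (M.subgroupOf K))
  have hπ : Function.Surjective π := e.surjective.comp (QuotientGroup.mk'_surjective _)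
  let K' : Subgroup K := Q.comap π
  let ρ : K' →* Q := (π.comp K'.subtype).codRestrict Q fun x => x.2
  have hρ : Function.Surjective ρ := by
    rintro ⟨q, hq⟩
    obtain ⟨k, hk⟩ := hπ q
    exact ⟨⟨k, show π k ∈ Q by rw [hk]; exact hq⟩, Subtype.ext hk⟩
  let P : Sylow p K' := default
  let P' : Sylow p Q := P.mapSurjective hρ
  have hP' : (P' : Subgroup Q) = ⊤ := by
    refine (P'.is_maximal' (hQ.to_subgroup ⊤) ?_).symm
    exact le_top
  have hfP : Function.Surjective (ρ.comp (P : Subgroup K').subtype) := by
    intro q
    have : q ∈ (P : Subgroup K').map ρ := by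
      rw [← Sylow.coe_mapSurjective hρ P]; exact hP' ▸ Subgroup.mem_top q
    obtain ⟨x, hx, rfl⟩ := this
    exact ⟨⟨x, hx⟩, rfl⟩
  -- move the Sylow subgroup into the image of `ι`
  let PL : Subgroup L := ((P : Subgroup K').map K'.subtype).map K.subtype
  obtain ⟨T', hT'⟩ := ((P.2.map K'.subtype).map K.subtype).exists_le_sylow
  obtain ⟨g, hg⟩ := MulAction.exists_smul_eq L T' T
  let c : P →* L := (MulAut.conj g).toMonoidHom.comp
    (K.subtype.comp (K'.subtype.comp (P : Subgroup K').subtype))
  have hc : ∀ x, c x ∈ ι.range := by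
    intro x
    rw [← hT, ← hg]
    exact ⟨_, hT' ⟨_, ⟨_, x.2, rfl⟩, rfl⟩, rfl⟩
  let j : P →* S := (Subgroup.inclusion (inf_le_left : Cfsg.FusionSystem.normalizerIn S R ≤ S)).comp
    ((MonoidHom.ofInjective hinj).symm.toMonoidHom.comp (c.codRestrict ι.range hc))
  have hj : Function.Injective j := by
    intro a b hab0
    have hab := (MonoidHom.ofInjective hinj).symm.injective (Subgroup.inclusion_injective (inf_le_left : Cfsg.FusionSystem.normalizerIn S R ≤ S) hab0)
    have h1 : c a = c b := congrArg Subtype.val hab
    exact Subtype.ext (Subtype.ext (Subtype.ext ((MulAut.conj g).injective h1)))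
  exact hfree (involves_of_injective_of_surjective j hj _ hfP)

end Cfsg.Agent.S5299
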