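import Cfsg.Statements.S5300
import Cfsg.Agent.Lib.Fusion87.Small
import Mathlib.FieldTheory.Finite.Basic
-- import your own Cfsg.Agent.* helpers here

set_option autoImplicit false
universe u
open Cfsg

namespace Cfsg.Agent.S5300

open Cfsg.FusionSystem Cfsg.Agent.Lib.Fusion Cfsg.Agent.Lib.Fusion87

/-- Let F be a saturated fusion system over a finite p-group S. If every cyclic subgroup of the focal subgroup of F of order p (of order 2 or 4 when p = 2) is normal in S, then S is normal in F. -/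
theorem result {Ω : Type u} [Group Ω] {S : Subgroup Ω} [Finite S] (p : ℕ) [Fact p.Prime] (hS : IsPGroup p S)
    (F : Cfsg.FusionSystem S) (hF : F.IsSaturated p)
    (hnorm : ∀ x ∈ F.focalSubgroup, (x ^ p = 1 ∨ (p = 2 ∧ x ^ 4 = 1)) → ∀ s ∈ S, s * x * s⁻¹ ∈ Subgroup.zpowers x) :
    F.IsNormal S := by
  set H := F.focalSubgroup with hHdef
  have hfoc : ∀ (P : Subgroup Ω) (φ : P →* Ω), φ ∈ F.Hom P → ∀ x : P, (x : Ω)⁻¹ * φ x ∈ H :=
    fun P φ hφ x => Subgroup.subset_closure ⟨P, φ, x, hφ, rfl⟩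
  have hHS : H ≤ S := (Subgroup.closure_le _).2 (by
    rintro _ ⟨P, φ, x, hφ, rfl⟩
    exact S.mul_mem (S.inv_mem (src_le hφ x.2)) (val_mem hφ x))
  have hH : F.StronglyClosed H := ⟨hHS, fun R hR φ hφ x => by
    have := H.mul_mem (hR x.2) (hfoc R φ hφ x)
    rwa [mul_inv_cancel_left] at this⟩
  -- elements of order `p` of the focal subgroup are central in `S`
  have hp1 : ∀ x ∈ H, x ^ p = 1 → ∀ s ∈ S, s * x * s⁻¹ = x := by
    intro x hx hxp s hs
    rcases eq_or_ne x 1 with rfl | hx1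
    · group
    obtain ⟨j, hj : x ^ j = s * x * s⁻¹⟩ := hnorm x hx (Or.inl hxp) s hs
    have hz : ∀ y, y ∈ Subgroup.zpowers x → y ^ p = 1 := by
      rintro _ ⟨i, rfl⟩
      simp only
      rw [← zpow_natCast, ← zpow_mul, mul_comm, zpow_mul, zpow_natCast, hxp, one_zpow]
    have hit : ∀ n : ℕ, s ^ n * x * (s ^ n)⁻¹ = x ^ (j ^ n) := by
      intro n
      induction n with
      | zero => simp
      | succ n ih =>
        rw [pow_succ' s, mul_inv_rev, show s * s ^ n * x * ((s ^ n)⁻¹ * s⁻¹) =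
          s * (s ^ n * x * (s ^ n)⁻¹) * s⁻¹ by simp only [mul_assoc], ih, ← conj_zpow, ← hj,
          ← zpow_mul, pow_succ']
    obtain ⟨m, hm⟩ := hS ⟨s, hs⟩
    have h1 : x ^ (j ^ p ^ m) = x := by
      rw [← hit, show s ^ p ^ m = 1 from congrArg Subtype.val hm]
      group
    have h2 : (x : Ω) ^ (j ^ p ^ m - j) = 1 := by
      have hjp : (p : ℤ) ∣ j ^ p ^ m - j := by
        rw [← ZMod.intCast_zmod_eq_zero_iff_dvd, Int.cast_sub, Int.cast_pow, ZMod.pow_card_pow, sub_self]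
      obtain ⟨t, ht⟩ := hjp
      rw [ht, zpow_mul, zpow_natCast, hxp, one_zpow]
    rw [zpow_sub, h1, hj, mul_inv_eq_one] at h2
    exact h2.symm
  let Z : Subgroup Ω :=
    { carrier := {x | x ∈ H ∧ x ^ p = 1}
      one_mem' := ⟨H.one_mem, one_pow _⟩
      mul_mem' := fun {x y} hx hy => ⟨H.mul_mem hx.1 hy.1, by
        have hc : Commute x y := mul_inv_eq_iff_eq_mul.1 (hp1 y hy.1 hy.2 x (hHS hx.1))
        rw [hc.mul_pow, hx.2, hy.2, one_mul]⟩
      inv_mem' := fun {x} hx => ⟨H.inv_mem hx.1, by rw [inv_pow, hx.2, inv_one]⟩ }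
  let c : ℕ → Subgroup Ω := fun i => match i with
    | 0 => ⊥
    | 1 => Z
    | _ + 2 => S
  refine isNormal_top_of_small hS hF hH (fun R hR a ha _ x => hfoc R _ (autGroup_hom_mem hR ha) x)
    c (n := 2) rfl (fun x hx _ => hHS hx) ?_ ?_ ?_
  · intro i
    match i with
    | 0 => exact fun s _ => Subgroup.mem_normalizer_iff.2 fun y => by simp [c]
    | 1 =>
      have key : ∀ t ∈ S, ∀ y ∈ Z, t * y * t⁻¹ ∈ Z := fun t ht y hy => by
        rw [hp1 y hy.1 hy.2 t ht]; exact hy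
      intro s hs
      rw [Subgroup.mem_normalizer_iff]
      exact fun y => ⟨key s hs y, fun hy => by simpa [mul_assoc] using key s⁻¹ (S.inv_mem hs) _ hy⟩
    | _ + 2 => exact Subgroup.le_normalizer
  · intro i hi x hxH hs hx q hq
    interval_cases i
    · show q * x * q⁻¹ * x⁻¹ ∈ (⊥ : Subgroup Ω)
      rw [Subgroup.mem_bot, hp1 x hxH hx.2 q hq, mul_inv_cancel]
    · show q * x * q⁻¹ * x⁻¹ ∈ Z
      rcases hs with hs | ⟨h2, hs⟩
      · rw [hp1 x hxH hs q hq, mul_inv_cancel]; exact Z.one_mem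
      obtain ⟨j, hj : x ^ j = q * x * q⁻¹⟩ := hnorm x hxH (Or.inr ⟨h2, hs⟩) q hq
      subst h2
      refine ⟨H.mul_mem (hH.2 H le_rfl _ (F.conj_mem hHS hq) ⟨x, hxH⟩) (H.inv_mem hxH), ?_⟩
      rw [← hj, ← zpow_sub_one, ← zpow_natCast, ← zpow_mul]
      rcases Int.even_or_odd j with ⟨t, ht⟩ | ⟨t, ht⟩
      · -- then `x` has order dividing 2
        have hx2 : x ^ 2 = 1 := by
          have e : (q * x * q⁻¹) ^ 2 = 1 := by
            rw [← hj, ht, ← two_mul, ← zpow_natCast, ← zpow_mul,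
              show 2 * t * (2 : ℕ) = (4 : ℤ) * t by push_cast; ring, zpow_mul,
              show x ^ (4 : ℤ) = 1 from mod_cast hs, one_zpow]
          rw [conj_pow] at e
          simpa using e
        rw [mul_comm, zpow_mul, zpow_natCast, hx2, one_zpow]
      · rw [show (j - 1) * (2 : ℕ) = (4 : ℤ) * t by rw [ht]; push_cast; ring, zpow_mul,
          show x ^ (4 : ℤ) = 1 from mod_cast hs, one_zpow]
  · intro P φ hφ x hs hxH i hx
    rcases i with _ | _ | i
    · rw [show x = 1 from Subtype.ext hx, map_one]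
      exact one_mem _
    · refine ⟨stronglyClosed_apply hH hφ x hxH, ?_⟩
      rw [← map_pow, show x ^ p = 1 from Subtype.ext hx.2, map_one]
    · exact val_mem hφ x

end Cfsg.Agent.S5300
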