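import Cfsg.Statements.S5301
import Cfsg.Agent.Lib.Fusion87.Normal

set_option autoImplicit false
universe u
open Cfsg

namespace Cfsg.Agent.S5301

open Cfsg.FusionSystem Cfsg.Agent.Lib.Fusion Cfsg.Agent.Lib.Fusion87

/-- Let F be a saturated fusion system over a finite p-group S. If for every subgroup P of S that is fully normalized, centric and radical in F the automorphism group that F induces on P has a normal Sylow p-subgroup, then S is normal in F. -/
theorem result {Ω : Type u} [Group Ω] {S : Subgroup Ω} [Finite S] (p : ℕ) [Fact p.Prime] (hS : IsPGroup p S)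
    (F : Cfsg.FusionSystem S) (hF : F.IsSaturated p)
    (hcl : ∀ P : Subgroup Ω, F.IsFullyNormalized P → F.IsCentric P → F.IsRadical p P →
      ∃ R : Sylow p ↥(F.autGroup P), (R : Subgroup ↥(F.autGroup P)).Normal) :
    F.IsNormal S := by
  have hSsc : F.StronglyClosed S := ⟨le_rfl, fun R _ φ hφ x => val_mem hφ x⟩
  refine isNormal_of_le_centric_radical hS hF hSsc fun R hR hRc hRr => ?_
  haveI := finite_mulAut (S := S) hR.1
  obtain ⟨T, hT⟩ := hcl R hR hRc hRr
  refine le_of_normalizerIn_le hS hR.1 le_rfl (stronglyClosed_le_normalizer' hSsc) fun g hg hgN => ?_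
  refine mem_of_radical hRc hRr _ T.2 hg hgN fun a ha => ?_
  -- a normal Sylow subgroup contains every `p`-element
  obtain ⟨U, hU⟩ := (isFullyAutomized_of_isFullyNormalized hS hF hR).2
  haveI := Sylow.unique_of_normal T hT
  have hUT : U = T := Subsingleton.elim _ _
  rw [← hUT, hU]
  exact mem_autInducedBy_normalizer.2 ⟨g, hgN, hg, ha⟩

end Cfsg.Agent.S5301
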