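import Cfsg.Statements.S5308
import Cfsg.Agent.Lib.Fusion.FittingProduct
import Cfsg.Agent.Lib.Fusion.LayerExists
import Cfsg.Agent.Lib.Fusion.ComponentCentralizer

set_option autoImplicit false
open Cfsg
open Cfsg.FusionSystem Cfsg.Agent.Lib.Fusion

namespace Cfsg.Agent.S5308

/-- A saturated fusion system F over a finite p-group S has a generalized Fitting subsystem — a central product of the inner fusion system of O_p(F) (the largest subgroup of S normal in F) with a layer of F — and every generalized Fitting subsystem of F is a normal subsystem of F. -/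
theorem result {Ω : Type*} [Group Ω] {S : Subgroup Ω} [Finite S] (p : ℕ) [Fact p.Prime] (hS : IsPGroup p S) (F : Cfsg.FusionSystem S) (hF : F.IsSaturated p) :
    (∃ (U : Subgroup Ω) (D : Cfsg.FusionSystem U), D.IsGeneralizedFittingOf F p) ∧
      ∀ (U : Subgroup Ω) (D : Cfsg.FusionSystem U), D.IsGeneralizedFittingOf F p → D.IsNormalIn F p := by
  have hR : F.IsNormal F.core := isNormal_core
  refine ⟨?_, fun U D hD => ?_⟩
  · obtain ⟨T, E, hE⟩ := LayerExists.exists_layer hS hF
    obtain ⟨D, hD⟩ := FittingProduct.exists_centralProduct hS hR.1 hE.1.1.2.2.2.1.1 hE.1.1.1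
      fun P => ComponentCentralizer.layer_hom_le_centralizerHom hS hF hE hR P
    exact ⟨_, D, T, E, hE, hD⟩
  · obtain ⟨T, E, hE, hcp⟩ := hD
    exact FittingProduct.isNormalIn_centralProduct hS hR hE.1
      (fun P => ComponentCentralizer.layer_hom_le_centralizerHom hS hF hE hR P) hcp

end Cfsg.Agent.S5308
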