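import Cfsg.Statements.S5309
import Cfsg.Agent.Lib.Fusion.CentralProduct
import Cfsg.Agent.Lib.Fusion.ComponentCentralizer
import Cfsg.Agent.Lib.Fusion.QuasisimpleBasic

set_option autoImplicit false
open Cfsg
open Cfsg.FusionSystem Cfsg.Agent.Lib.Fusion

namespace Cfsg.Agent.S5309

/-- Self-centralizing property of the generalized Fitting subsystem. Let F be a saturated fusion system over a finite p-group S and D a generalized Fitting subsystem of F, over U. Then the centre of D is the largest subgroup Y of C_S(U) centralized by D in F, in the sense that every map of D extends to a map of F fixing Y elementwise: the centre of D is such a subgroup, and every such Y lies in the centre of D. -/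
theorem result {Ω : Type*} [Group Ω] {S : Subgroup Ω} [Finite S] (p : ℕ) [Fact p.Prime] (hS : IsPGroup p S) (F : Cfsg.FusionSystem S) (hF : F.IsSaturated p)
    {U : Subgroup Ω} (D : Cfsg.FusionSystem U) (hD : D.IsGeneralizedFittingOf F p) :
    (D.center ≤ Cfsg.FusionSystem.centralizerIn S U ∧ ∀ P : Subgroup Ω, D.Hom P ⊆ F.centralizerHom D.center P) ∧
      ∀ Y : Subgroup Ω, Y ≤ Cfsg.FusionSystem.centralizerIn S U →
        (∀ P : Subgroup Ω, D.Hom P ⊆ F.centralizerHom Y P) → Y ≤ D.center := by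
  obtain ⟨T, E, hE, hcp⟩ := hD
  set R := F.core with hRdef
  have hR : F.IsNormal R := isNormal_core
  have hTS : T ≤ S := hE.1.1.2.2.2.1.1
  haveI : Finite R := finite_of_le hR.1
  haveI : Finite T := finite_of_le hTS
  obtain ⟨htop, hcomm, hdec⟩ := CentralProduct.top_eq_and_comm hcp
  have hUS : U ≤ S := htop.ge.trans (sup_le hR.1 hTS)
  haveI : Finite U := finite_of_le hUS
  have hEc : ∀ P, E.Hom P ⊆ F.centralizerHom R P :=
    fun P => ComponentCentralizer.layer_hom_le_centralizerHom hS hF hE hR P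
  have hDF : D.IsSubsystemOf F := by
    intro P φ hφ
    obtain ⟨P₁, P₂, φ₁, φ₂, hφ₁, hφ₂, hx⟩ := CentralProduct.exists_decomp hcp hφ
    obtain ⟨hP₁, g, hg, hgx⟩ := hφ₁
    obtain ⟨-, hP₂T, hφ₂T, ψ, hψ, hψP, hψR⟩ := hEc P₂ hφ₂
    obtain ⟨χ, hχ, hχx⟩ := exists_comp hψ (F.conj_mem le_rfl (hR.1 hg)) (val_mem hψ)
    have hle : P ≤ P₂ ⊔ R := fun x hx' => by
      obtain ⟨a, b, hab, -⟩ := hx ⟨x, hx'⟩
      rw [show x = a * b from hab]
      exact Subgroup.mul_mem _ (Subgroup.mem_sup_right (hP₁ a.2)) (Subgroup.mem_sup_left b.2)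
    refine mem_of_restrict hχ hle fun x => ?_
    obtain ⟨a, b, hab, hφab⟩ := hx x
    rw [hφab, hgx, hχx]
    have e : ψ ⟨x, hle x.2⟩ = (a : Ω) * φ₂ b := by
      rw [show (⟨x, hle x.2⟩ : (P₂ ⊔ R : Subgroup Ω)) =
        Subgroup.inclusion (le_sup_right : R ≤ P₂ ⊔ R) ⟨a, hP₁ a.2⟩ *
          Subgroup.inclusion (le_sup_left : P₂ ≤ P₂ ⊔ R) b from
        Subtype.ext hab, map_mul, hψR, hψP]
    show _ = g * ψ ⟨x, hle x.2⟩ * g⁻¹
    rw [e]
    have hc : g * φ₂ b * g⁻¹ = φ₂ b := by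
      rw [hcomm g hg _ (val_mem hφ₂ b), mul_inv_cancel_right]
    calc g * (a : Ω) * g⁻¹ * φ₂ b = g * a * g⁻¹ * (g * φ₂ b * g⁻¹) := by rw [hc]
      _ = g * ((a : Ω) * φ₂ b) * g⁻¹ := by group
  have hZ := Cfsg.Agent.Lib.FusionFactor.isCentral_center D
  have hZU : D.center ≤ centralizerIn S U := fun z hz =>
    ⟨hUS (hZ.1 hz), D.center_le_centralizer hz⟩
  refine ⟨⟨hZU, fun P φ hφ => ?_⟩, fun Y hY hDY => ?_⟩
  · obtain ⟨ψ, hψ, hψP, hψZ⟩ := hZ.2 P φ hφ
    have hc : ∀ u ∈ U, u ∈ centralizerIn S D.center := fun u hu => ⟨hUS hu,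
      Subgroup.mem_centralizer_iff.2 fun z hz =>
        ((Subgroup.mem_centralizer_iff.1 (hZU hz).2) u hu).symm⟩
    exact ⟨hDF _ hφ, fun y hy => hc y (src_le hφ hy), fun x => hc _ (val_mem hφ x),
      ψ, hDF _ hψ, hψP, hψZ⟩
  -- `C_S(E)` carries a constrained normal subsystem
  have hYS : Y ≤ S := fun y hy => (hY hy).1
  have hYT : Y ≤ centralizerIn S T := fun y hy => ⟨hYS hy,
    Subgroup.centralizer_le (SetLike.coe_subset_coe.2 (le_sup_right.trans htop.le)) (hY hy).2⟩
  have hYE : Y ≤ centFix F E p hTS := le_centFix hS hE.1 hYT fun P φ hφ =>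
    hDY P (CentralProduct.subsystem_right hcp P hφ)
  obtain ⟨N, hN, hNT⟩ := exists_centralizerSubsystem hS hE.1 hTS
  haveI : Finite (centFix F E p hTS) := finite_of_le centFix_le
  have hXp : IsPGroup p (centFix F E p hTS) := hS.to_le centFix_le
  have hNc : N.IsConstrained p := by
    refine (Components.isConstrained_iff_no_component hXp hN.1.1).2 ?_
    rintro ⟨V, C, hC, hCq⟩
    have hCE := hE.2.1 V C ⟨IsSubnormalIn.step hC hN, hCq⟩
    have hVT : V ≤ T := src_le (hCE V (subtype_mem (F := C) le_rfl))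
    have hVX : V ≤ centralizerIn S T :=
      (Components.le_of_subnormal hC).trans centFix_le_centralizerIn
    haveI : Finite V := finite_of_le (hVT.trans hTS)
    refine not_isMulCommutative_of_quasisimple (hS.to_le (hVT.trans hTS)) hCq
      ⟨⟨fun a b => Subtype.ext ?_⟩⟩
    exact ((Subgroup.mem_centralizer_iff.1 (hVX a.2).2) b (hVT b.2)).symm
  have hQ : N.core ≤ R := le_core (isNormal_core_of_isInvariantIn hS hF hN.1.2.2)
  have hRU : R ≤ U := le_sup_left.trans htop.le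
  have hYR : Y ≤ R := fun y hy => hQ (centralizerIn_core_of_isConstrained hNc
    ⟨hYE hy, Subgroup.centralizer_le (SetLike.coe_subset_coe.2 (hQ.trans hRU)) (hY hy).2⟩)
  refine Components.le_center ⟨hYR.trans hRU, fun P φ hφ => ?_⟩
  obtain ⟨P₁, P₂, φ₁, φ₂, hφ₁, hφ₂, hx⟩ := CentralProduct.exists_decomp hcp hφ
  obtain ⟨hP₁, g, hg, hgx⟩ := hφ₁
  have hPY : P₁ ⊔ Y ≤ R := sup_le hP₁ hYR
  obtain ⟨ψ, hψ, hψ1, hψ2⟩ := CentralProduct.exists_hom_sup hcp
    ((innerFusionSystem R).conj_mem hPY hg) hφ₂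
  have hle : P ⊔ Y ≤ P₁ ⊔ Y ⊔ P₂ := by
    refine sup_le (fun x hx' => ?_) (le_sup_right.trans le_sup_left)
    obtain ⟨a, b, hab, -⟩ := hx ⟨x, hx'⟩
    rw [show x = a * b from hab]
    exact Subgroup.mul_mem_sup (Subgroup.mem_sup_left a.2) b.2
  refine ⟨_, restrict_mem hψ hle, fun x => ?_, fun y => ?_⟩
  · obtain ⟨a, b, hab, hφab⟩ := hx x
    rw [hφab, hgx]
    show ψ (Subgroup.inclusion hle (Subgroup.inclusion le_sup_left x)) = _
    rw [show Subgroup.inclusion hle (Subgroup.inclusion le_sup_left x) =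
      Subgroup.inclusion le_sup_left (Subgroup.inclusion le_sup_left a) *
        Subgroup.inclusion le_sup_right b from Subtype.ext hab, map_mul, hψ1, hψ2]
    rfl
  · show ψ (Subgroup.inclusion hle (Subgroup.inclusion le_sup_right y)) = _
    rw [show Subgroup.inclusion hle (Subgroup.inclusion le_sup_right y) =
      Subgroup.inclusion le_sup_left (Subgroup.inclusion le_sup_right y) from Subtype.ext rfl, hψ1]
    show g * (y : Ω) * g⁻¹ = y
    rw [Subgroup.mem_centralizer_iff.1 (hY y.2).2 g (hRU hg), mul_inv_cancel_right]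
end Cfsg.Agent.S5309
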