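import Cfsg.Statements.S5310
import Cfsg.Agent.Lib.Fusion.Components
import Cfsg.Agent.Lib.Fusion.Product

set_option autoImplicit false
open Cfsg
open Cfsg.FusionSystem Cfsg.Agent.Lib.Fusion

namespace Cfsg.Agent.S5310

/-- A saturated fusion system F over a finite p-group S is constrained (its largest normal subgroup O_p(F) is centric) if and only if the inner fusion system of O_p(F) is itself a generalized Fitting subsystem of F (that is, F*(F) = O_p(F)). -/
theorem result {Ω : Type*} [Group Ω] {S : Subgroup Ω} [Finite S] (p : ℕ) [Fact p.Prime] (hS : IsPGroup p S) (F : Cfsg.FusionSystem S) (hF : F.IsSaturated p) :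
    F.IsConstrained p ↔ (Cfsg.innerFusionSystem F.core).IsGeneralizedFittingOf F p := by
  have hp : p.Prime := Fact.out
  set R := F.core with hR
  have hRn : F.IsNormal R := isNormal_core
  have hRp : IsPGroup p R := hS.to_le hRn.1
  haveI : Finite R := finite_of_le hRn.1
  constructor
  · intro hc
    have hno := (Components.isConstrained_iff_no_component hS hF).1 hc
    refine ⟨⊥, innerFusionSystem ⊥, ⟨Cfsg.Agent.Lib.Fusion87.inner_isNormalIn hS hF isNormal_bot,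
      fun U C hC => absurd ⟨U, C, hC⟩ hno, fun V D _ _ P φ hφ => ?_⟩, ?_⟩
    · obtain ⟨hP, g, hg, hx⟩ := hφ
      refine mem_congr (subtype_mem (hP.trans bot_le)) fun x => ?_
      rw [hx, Subgroup.mem_bot.1 hg]
      simp
    · obtain ⟨D₀, hD₀⟩ := Cfsg.Agent.Lib.FusionFactor.exists_productSystem (innerFusionSystem R)
        (innerFusionSystem (⊥ : Subgroup Ω))
      set θ : ↥(R.prod (⊥ : Subgroup Ω)) →* Ω :=
        (MonoidHom.fst Ω Ω).comp (R.prod (⊥ : Subgroup Ω)).subtype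
      refine ⟨D₀, hD₀, ⊥, θ, bot_le, bot_inf_eq _, bot_inf_eq _, fun x hx => rfl,
        fun y hy => ?_, bot_le, fun s => ?_, ?_, fun P' φ' => ⟨?_, ?_⟩⟩
      · exact (Subgroup.mem_bot.1 (Subgroup.mem_prod.1 hy).2).symm
      · refine ⟨fun h => ?_, fun h => by
          show (s : Ω × Ω).1 = 1
          rw [Subgroup.mem_bot.1 h]
          rfl⟩
        exact Subgroup.mem_bot.2 (Prod.ext h (Subgroup.mem_bot.1 (Subgroup.mem_prod.1 s.2).2))
      · refine le_antisymm ?_ fun x hx => ?_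
        · rintro _ ⟨s, rfl⟩
          exact (Subgroup.mem_prod.1 s.2).1
        · exact ⟨⟨(x, 1), Subgroup.mem_prod.2 ⟨hx, one_mem _⟩⟩, rfl⟩
      · rintro ⟨hP, g, hg, hx⟩
        have hle := Cfsg.Agent.Lib.FusionFactor.preimageAlong_le θ P'
        have hgp : ((g, 1) : Ω × Ω) ∈ R.prod (⊥ : Subgroup Ω) :=
          Subgroup.mem_prod.2 ⟨hg, one_mem _⟩
        refine ⟨hP, _, D₀.conj_mem hle hgp, hle, val_mem (D₀.conj_mem hle hgp),
          fun x => ((Cfsg.Agent.Lib.FusionFactor.mem_preimageAlong θ).1 x.2).2, fun x => ?_⟩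
        rw [hx]
        rfl
      · rintro ⟨hP, φ, hφ, h1, h2, h3, hi⟩
        obtain ⟨-, φ₁, ⟨-, g, hg, hg₁⟩, φ₂, -, heq⟩ := (hD₀ _ φ).1 hφ
        refine ⟨hP, g, hg, fun y => ?_⟩
        obtain ⟨x, hx⟩ := Cfsg.Agent.Lib.FusionFactor.exists_preimage θ (P' := P') (fun z hz =>
          ⟨⟨(z, 1), Subgroup.mem_prod.2 ⟨hP hz, one_mem _⟩⟩, rfl⟩) y
        have e : y = (⟨θ ⟨x, h1 x.2⟩, h3 x⟩ : P') := Subtype.ext hx.symm
        rw [e, hi x]
        show (φ x).1 = _
        rw [heq x ⟨_, x.2, rfl⟩ ⟨_, x.2, rfl⟩]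
        exact hg₁ _
  · rintro ⟨T, E, ⟨hEn, hEC, -⟩, D₀, hD₀, Z, θ, hZc, -, -, hθ1, hθ2, hfac⟩
    refine (Components.isConstrained_iff_no_component hS hF).2 ?_
    rintro ⟨U, C, hC⟩
    have hCE := hEC U C hC
    obtain ⟨-, hker, hrange, hmaps⟩ := hfac
    have hTR : T ≤ R := fun y hy => by
      have hy' : ((1, y) : Ω × Ω) ∈ R.prod T := Subgroup.mem_prod.2 ⟨one_mem _, hy⟩
      exact hrange.le ⟨⟨_, hy'⟩, hθ2 y hy'⟩
    -- the maps of `E` are conjugations
    have hinner : ∀ (P : Subgroup Ω) (φ : P →* Ω), φ ∈ E.Hom P →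
        ∃ g ∈ R, ∀ x : P, φ x = g * (x : Ω) * g⁻¹ := by
      intro P φ hφ
      have hPT := src_le hφ
      haveI : Finite T := finite_of_le (hTR.trans hRn.1)
      haveI : Finite (R.prod T : Subgroup (Ω × Ω)) :=
        Finite.of_equiv _ (Subgroup.prodEquiv R T).symm.toEquiv
      set Q : Subgroup (Ω × Ω) := (⊥ : Subgroup Ω).prod P
      have hQ : Q ≤ R.prod T := fun x hx => Subgroup.mem_prod.2
        ⟨Subgroup.mem_bot.1 (Subgroup.mem_prod.1 hx).1 ▸ one_mem _,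
          hPT (Subgroup.mem_prod.1 hx).2⟩
      let Φ : Q →* Ω × Ω := (1 : Q →* Ω).prod
        (φ.comp (((MonoidHom.snd Ω Ω).comp Q.subtype).codRestrict P
          fun x => (Subgroup.mem_prod.1 x.2).2))
      have hΦ : Φ ∈ D₀.Hom Q := by
        refine mem_productHom hD₀ hQ (P₁ := (⊥ : Subgroup Ω)) (P₂ := P) ?_ ?_
          (subtype_mem (bot_le : (⊥ : Subgroup Ω) ≤ R)) hφ fun x => ?_
        · rintro _ ⟨x, hx, rfl⟩; exact (Subgroup.mem_prod.1 hx).1
        · rintro _ ⟨x, hx, rfl⟩; exact (Subgroup.mem_prod.1 hx).2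
        · exact Prod.ext (Subgroup.mem_bot.1 (Subgroup.mem_prod.1 x.2).1).symm rfl
      have hZ : Z ≤ R.prod T := hZc.trans (Cfsg.Agent.Lib.FusionFactor.isCentral_center D₀).1
      obtain ⟨Ψ, hΨ, hΨQ, hΨZ⟩ := (Cfsg.Agent.Lib.FusionFactor.isCentral_center D₀).2 Q Φ hΦ
      set pre := preimageAlong θ P
      have hdec : ∀ x, ∀ hx : x ∈ pre, ((1, θ ⟨x, ((Cfsg.Agent.Lib.FusionFactor.mem_preimageAlong θ).1 hx).1⟩) :
          Ω × Ω)⁻¹ * x ∈ Z ∧ θ ⟨x, ((Cfsg.Agent.Lib.FusionFactor.mem_preimageAlong θ).1 hx).1⟩ ∈ P := by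
        intro x hx
        obtain ⟨hxS, hxP⟩ := (Cfsg.Agent.Lib.FusionFactor.mem_preimageAlong θ).1 hx
        have hq : ((1, θ ⟨x, hxS⟩) : Ω × Ω) ∈ R.prod T :=
          Subgroup.mem_prod.2 ⟨one_mem _, hPT hxP⟩
        refine ⟨(hker (⟨_, hq⟩⁻¹ * ⟨x, hxS⟩)).1 ?_, hxP⟩
        rw [map_mul, map_inv, hθ2 _ hq, inv_mul_cancel]
      have hle : pre ≤ Q ⊔ D₀.center := fun x hx => by
        obtain ⟨hz, hP'⟩ := hdec x hx
        have hq : ((1, θ ⟨x, ((Cfsg.Agent.Lib.FusionFactor.mem_preimageAlong θ).1 hx).1⟩) : Ω × Ω) ∈ Q :=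
          Subgroup.mem_prod.2 ⟨one_mem _, hP'⟩
        have h := Subgroup.mul_mem_sup hq (hZc hz)
        rwa [mul_inv_cancel_left] at h
      have hm := restrict_mem hΨ hle
      have hφD : φ ∈ (innerFusionSystem R).Hom P := by
        refine (hmaps P φ).2 ⟨hPT.trans hTR, _, hm, Cfsg.Agent.Lib.FusionFactor.preimageAlong_le θ P, val_mem hm,
          fun x => ((Cfsg.Agent.Lib.FusionFactor.mem_preimageAlong θ).1 x.2).2, fun x => ?_⟩
        obtain ⟨hz, hxP⟩ := hdec x x.2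
        set q : Q := ⟨(1, θ ⟨x.1, ((Cfsg.Agent.Lib.FusionFactor.mem_preimageAlong θ).1 x.2).1⟩),
          Subgroup.mem_prod.2 ⟨one_mem (⊥ : Subgroup Ω), hxP⟩⟩
        have e : Subgroup.inclusion hle x = Subgroup.inclusion le_sup_left q *
            Subgroup.inclusion le_sup_right ⟨_, hZc hz⟩ :=
          Subtype.ext (mul_inv_cancel_left _ _).symm
        have hv : Ψ (Subgroup.inclusion hle x) = Φ q * ((q : Ω × Ω)⁻¹ * x) := by
          rw [e, map_mul, hΨQ, hΨZ]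
        have hq' : ((1, φ ⟨_, hxP⟩) : Ω × Ω) ∈ R.prod T :=
          Subgroup.mem_prod.2 ⟨one_mem _, val_mem hφ _⟩
        refine Eq.trans ?_ (congrArg θ (Subtype.ext hv.symm : (⟨_, hq'⟩ * ⟨_, hZ hz⟩ :
          R.prod T) = ⟨Ψ (Subgroup.inclusion hle x), val_mem hm x⟩))
        rw [map_mul, hθ2 _ hq', (hker ⟨_, hZ hz⟩).2 hz, mul_one]
      exact hφD.2
    have hCs := hC.2.1
    have hU : C.hyperfocalSubgroup p ≤ ⊥ := by
      refine (Subgroup.closure_le _).2 ?_
      rintro _ ⟨P, α, x, hP, hα, rfl⟩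
      have key : ∀ β ∈ pResidual p (C.autGroup P), β = 1 := by
        intro β hβ
        refine Subgroup.mem_bot.1 ((Subgroup.closure_le _).2 (fun γ hγ => ?_) hβ)
        obtain ⟨g, hg, hx⟩ := hinner P _ (hCE P (autGroup_hom_mem hP γ.2))
        obtain ⟨k, hk⟩ := isPGroup_autInducedBy hRp
          (⟨_, mem_autInducedBy.2 ⟨g, hg, hx⟩⟩ : autInducedBy R P)
        refine Subgroup.mem_bot.2 (orderOf_eq_one_iff.1 ?_)
        exact Nat.eq_one_of_dvd_coprimes (hγ.pow_right k) dvd_rfl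
          (orderOf_dvd_of_pow_eq_one
            (show γ ^ p ^ k = 1 from Subtype.ext (congrArg Subtype.val hk :)))
      rw [key α hα]
      simp
    rw [hC.2.2.1, le_bot_iff] at hU
    haveI : Finite U := by rw [hU]; infer_instance
    refine Components.not_isConstrained_of_quasisimple (hS.to_le (hU.le.trans bot_le)) hC.2 ?_
    refine isConstrained_of_centralizerIn_core hCs fun x hx => ?_
    rw [Subgroup.mem_bot.1 (hU.le hx.1)]
    exact one_mem _

end Cfsg.Agent.S5310
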