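import Cfsg.Statements.S5315
import Cfsg.Agent.Lib.Fusion87.Central
import Cfsg.Agent.Lib.Fusion87.Inner
import Cfsg.Agent.Lib.Fusion.Quotient
-- import your own Cfsg.Agent.* helpers here

set_option autoImplicit false
open Cfsg

namespace Cfsg.Agent.S5315

open Cfsg.FusionSystem Cfsg.Agent.Lib.Fusion Cfsg.Agent.Lib.Fusion87

/-- An analogue of Grün's lemma for fusion systems. Let F be a saturated fusion system over a finite p-group S that is perfect in the sense that its hyperfocal subgroup is all of S (F coincides with its p-residual subsystem). Then the second centre of F equals its centre: every fusion system over S/(Z(F) ∩ S) that is the factor system of F modulo its centre Z(F), read through the quotient map, has trivial centre. -/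
theorem result {Ω : Type*} [Group Ω] {S : Subgroup Ω} [Finite S] (p : ℕ) [Fact p.Prime] (hS : IsPGroup p S) (F : Cfsg.FusionSystem S) (hF : F.IsSaturated p)
    (hperf : F.hyperfocalSubgroup p = S)
    (E : Cfsg.FusionSystem (⊤ : Subgroup (↥S ⧸ (F.center).subgroupOf S)))
    (hE : F.IsFactorSystem F.center (QuotientGroup.mk' ((F.center).subgroupOf S)) E) : E.center = ⊥ := by
  haveI : Finite E.center := finite_of_le (S := (⊤ : Subgroup _)) le_top
  have hCsc := stronglyClosed_center F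
  obtain ⟨⟨-, hmor⟩, -⟩ := isSurjectiveMorphism_of_isFactorSystem hS hF hCsc hE
  obtain ⟨-, hker, -, -⟩ := hE
  set θ := QuotientGroup.mk' ((F.center).subgroupOf S) with hθ
  set Q := (E.center.comap θ).map S.subtype with hQdef
  have hmemQ : ∀ {x : Ω}, x ∈ Q ↔ ∃ hx : x ∈ S, θ ⟨x, hx⟩ ∈ E.center :=
    ⟨fun ⟨y, hy, e⟩ => e ▸ ⟨y.2, hy⟩, fun ⟨hx, h⟩ => ⟨⟨_, hx⟩, h, rfl⟩⟩
  have hQS : Q ≤ S := Subgroup.map_subtype_le _
  -- maps move elements of `Q` by central elements
  have hmove : ∀ (P : Subgroup Ω) (φ : P →* Ω), φ ∈ F.Hom P → ∀ x : P, (x : Ω) ∈ Q →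
      (x : Ω)⁻¹ * φ x ∈ F.center := by
    intro P φ hφ x hx
    obtain ⟨φ', hφ', hPS, hφS, hP', hind⟩ := hmor P φ hφ
    obtain ⟨hxS, hxE⟩ := hmemQ.1 hx
    have h1 := apply_eq_of_mem_center hφ' ⟨θ ⟨x, hPS x.2⟩, hP' x⟩ hxE
    rw [hind] at h1
    refine (hker (⟨x, hPS x.2⟩⁻¹ * ⟨φ x, hφS x⟩)).1 ?_
    rw [map_mul, map_inv, inv_mul_eq_one]
    exact h1.symm
  have hQsc : F.StronglyClosed Q := by
    refine ⟨hQS, fun R hR φ hφ x => hmemQ.2 ⟨val_mem hφ x, ?_⟩⟩
    obtain ⟨hxS, hxE⟩ := hmemQ.1 (hR x.2)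
    have h := (hker (⟨x, hxS⟩⁻¹ * ⟨φ x, val_mem hφ x⟩)).2 (hmove R φ hφ x (hR x.2))
    rw [map_mul, map_inv, inv_mul_eq_one] at h
    rw [← h]
    exact hxE
  have hQcomm : ∀ x ∈ Q, ∀ s ∈ S, s * x * s⁻¹ * x⁻¹ ∈ F.center := by
    intro x hx s hs
    have hc : x⁻¹ * (s * x * s⁻¹) ∈ F.center := hmove Q _ (F.conj_mem hQS hs) ⟨x, hx⟩ hx
    rw [show s * x * s⁻¹ * x⁻¹ = x * (x⁻¹ * (s * x * s⁻¹)) * x⁻¹ by group,
      F.center_le_centralizer hc x (hQS hx), mul_inv_cancel_right]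
    exact hc
  have hcQ : F.center ≤ Q := fun c hc => hmemQ.2 ⟨center_le F hc, by
    rw [(hker ⟨c, center_le F hc⟩).2 hc]; exact one_mem _⟩
  have hQn : F.IsNormal Q := by
    let c : ℕ → Subgroup Ω := fun i => match i with
      | 0 => ⊥
      | 1 => F.center
      | _ + 2 => Q
    refine isNormal_of_series hS hF c (n := 2) rfl rfl ?_ ?_
    · intro i hi
      interval_cases i
      · exact stronglyClosed_of_isNormal (Cfsg.Agent.Lib.FusionFactor.isNormal_bot F)
      · exact hCsc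
      · exact hQsc
    · intro i hi x hx q hq
      interval_cases i
      · show q * x * q⁻¹ * x⁻¹ ∈ (⊥ : Subgroup Ω)
        rw [Subgroup.mem_bot, F.center_le_centralizer hx q (hQS hq)]
        group
      · exact hQcomm x hx q (hQS hq)
  -- `Q` is central in `S`, as the commutator map with one of its elements is invariant
  have hQZ : Q ≤ S ⊓ Subgroup.centralizer (S : Set Ω) := by
    intro z hz
    have hzS := hQS hz
    have hcd : ∀ x ∈ S, x * z * x⁻¹ * z⁻¹ ∈ F.center := hQcomm z hz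
    let χ : S →* F.center :=
      { toFun := fun x => ⟨(x : Ω) * z * (x : Ω)⁻¹ * z⁻¹, hcd x x.2⟩
        map_one' := Subtype.ext (by simp)
        map_mul' := fun x y => Subtype.ext (by
          show (x : Ω) * y * z * ((x : Ω) * y)⁻¹ * z⁻¹ =
            (x : Ω) * z * (x : Ω)⁻¹ * z⁻¹ * ((y : Ω) * z * (y : Ω)⁻¹ * z⁻¹)
          have h := F.center_le_centralizer (hcd y y.2) _
            (S.mul_mem (S.mul_mem (S.mul_mem x.2 hzS) (S.inv_mem x.2)) (S.inv_mem hzS))
          rw [h]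
          have h' := F.center_le_centralizer (hcd y y.2) _ x.2
          calc (x : Ω) * y * z * ((x : Ω) * y)⁻¹ * z⁻¹
              = ((x : Ω) * ((y : Ω) * z * (y : Ω)⁻¹ * z⁻¹)) * z * (x : Ω)⁻¹ * z⁻¹ := by group
            _ = _ := by rw [h']; group) }
    have hinv : ∀ (P : Subgroup Ω) (φ : P →* Ω) (hφ : φ ∈ F.Hom P) (x : P),
        χ ⟨φ x, val_mem hφ x⟩ = χ ⟨x, src_le hφ x.2⟩ := by
      intro P φ hφ x
      refine Subtype.ext ?_
      show φ x * z * (φ x)⁻¹ * z⁻¹ = (x : Ω) * z * (x : Ω)⁻¹ * z⁻¹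
      obtain ⟨ψ, hψ, hψP, -⟩ := hQn.2 P φ hφ
      set a := Subgroup.inclusion (le_sup_left : P ≤ P ⊔ Q) x
      set b := Subgroup.inclusion (le_sup_right : Q ≤ P ⊔ Q) ⟨z, hz⟩
      have h1 := apply_eq_of_mem_center hψ (a * b * a⁻¹ * b⁻¹) (hcd x (src_le hφ x.2))
      simp only [map_mul, map_inv] at h1
      have h2 : z⁻¹ * ψ b ∈ F.center := hmove _ ψ hψ b hz
      have h3 := F.center_le_centralizer h2 (φ x) (val_mem hφ x)
      rw [hψP] at h1
      refine Eq.trans ?_ h1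
      rw [show ψ b = z * (z⁻¹ * ψ b) by group]
      calc φ x * z * (φ x)⁻¹ * z⁻¹
          = φ x * z * (z⁻¹ * ψ b) * (φ x)⁻¹ * (φ x * (z⁻¹ * ψ b)⁻¹ * (φ x)⁻¹) * z⁻¹ := by group
        _ = _ := by
          rw [(Commute.inv_right h3).eq, mul_inv_cancel_right]
          group
    refine ⟨hzS, Subgroup.mem_centralizer_iff.2 fun x hx => ?_⟩
    have hall : F.hyperfocalSubgroup p ≤ χ.ker.map S.subtype := by
      refine (Subgroup.closure_le _).2 ?_
      rintro _ ⟨P, α, y, hP, -, rfl⟩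
      refine ⟨(⟨y, hP y.2⟩ : S)⁻¹ * ⟨(α : MulAut P) y, hP ((α : MulAut P) y).2⟩, ?_, rfl⟩
      show χ _ = 1
      rw [map_mul, map_inv, inv_mul_eq_one]
      exact (hinv P _ (autGroup_hom_mem hP α.2) y).symm
    obtain ⟨s, hs, rfl⟩ := hall (hperf.ge hx)
    exact mul_inv_eq_iff_eq_mul.1 (mul_inv_eq_one.1 (congrArg Subtype.val hs))
  have hcentral : F.IsCentral Q := by
    refine isCentral_of_fixed hS hF hQZ fun R hR _ _ a ha x hx => ?_
    haveI := finite_mulAut (S := S) hR.1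
    let θx : F.autGroup R →* F.center :=
      { toFun := fun b => ⟨(x : Ω)⁻¹ * ((b : MulAut R) x : Ω),
          hmove R _ (autGroup_hom_mem hR.1 b.2) x hx⟩
        map_one' := Subtype.ext (inv_mul_cancel _)
        map_mul' := fun b b' => Subtype.ext (by
          show (x : Ω)⁻¹ * ((b : MulAut R) ((b' : MulAut R) x) : Ω) =
            (x : Ω)⁻¹ * ((b : MulAut R) x : Ω) * ((x : Ω)⁻¹ * ((b' : MulAut R) x : Ω))
          have h := apply_eq_of_mem_center (autGroup_hom_mem hR.1 b.2) (x⁻¹ * (b' : MulAut R) x)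
            (hmove R _ (autGroup_hom_mem hR.1 b'.2) x hx)
          rw [map_mul, map_inv, autHom_apply, autHom_apply] at h
          calc (x : Ω)⁻¹ * ((b : MulAut R) ((b' : MulAut R) x) : Ω)
              = (x : Ω)⁻¹ * ((b : MulAut R) x : Ω) * (((b : MulAut R) x : Ω)⁻¹ *
                  ((b : MulAut R) ((b' : MulAut R) x) : Ω)) := by group
            _ = _ := by rw [h]; rfl) }
    obtain ⟨-, U, hU⟩ := isFullyAutomized_of_isFullyNormalized hS hF hR
    have hUle : (U : Subgroup (F.autGroup R)) ≤ θx.ker := by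
      intro u hu
      rw [hU] at hu
      obtain ⟨g, hg, hgx⟩ := mem_autInducedBy.1 (Subgroup.mem_subgroupOf.1 hu)
      refine Subtype.ext ?_
      show (x : Ω)⁻¹ * ((u : MulAut R) x : Ω) = 1
      rw [hgx, Subgroup.mem_centralizer_iff.1 (hQZ hx).2 g hg, mul_inv_cancel_right, inv_mul_cancel]
    have hidx : θx.ker.index.Coprime p := Nat.Coprime.coprime_dvd_left
      (Subgroup.index_dvd_of_le hUle) ((Fact.out : p.Prime).coprime_iff_not_dvd.2 U.not_dvd_index).symm
    have h1 : (θx ⟨a, ha⟩) ^ θx.ker.index = 1 := by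
      rw [← map_pow]
      exact MonoidHom.mem_ker.1 (Subgroup.pow_index_mem _ _)
    obtain ⟨k, hk⟩ := (hS.to_le (center_le F)) (θx ⟨a, ha⟩)
    have h2 := orderOf_eq_one_iff.1 (Nat.eq_one_of_dvd_coprimes (hidx.pow_right k)
      (orderOf_dvd_of_pow_eq_one h1) (orderOf_dvd_of_pow_eq_one hk))
    exact (Subtype.ext (inv_mul_eq_one.1 (congrArg Subtype.val h2))).symm
  rw [eq_bot_iff]
  intro y hy
  obtain ⟨s, rfl⟩ := QuotientGroup.mk'_surjective ((F.center).subgroupOf S) y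
  exact Subgroup.mem_bot.2 ((hker s).2 ((le_sSup hcentral : Q ≤ F.center) ⟨s, hy, rfl⟩))

end Cfsg.Agent.S5315
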