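import Cfsg.Statements.S5316
import Cfsg.Agent.Lib.Fusion87.EssentialElementaryFinal
import Cfsg.Agent.Lib.Fusion87.EssentialSmall
import Cfsg.Agent.Lib.PLemmas.MaximalClass

set_option autoImplicit false
open Cfsg

namespace Cfsg.Agent.S5316

/-- Let p ≥ 5 be a prime, S a finite p-group of maximal class of order p^n with n ≥ 5 (nilpotency class n − 1), F a saturated fusion system over S, and E an F-essential subgroup that is not a pearl (not elementary abelian of order p² and not extraspecial of order p³ and exponent p). Then E has order at least p⁴. -/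
theorem result {Ω : Type*} [Group Ω] {S : Subgroup Ω} [Finite S] (p : ℕ) [Fact p.Prime] (hp : 5 ≤ p) (hS : IsPGroup p ↥S) (n : ℕ) (hn : Nat.card S = p ^ n) (h5 : 5 ≤ n)
    (hmax : Subgroup.lowerCentralSeries S (n - 2) ≠ ⊥) (F : Cfsg.FusionSystem S) (hF : F.IsSaturated p)
    (E : Subgroup Ω) (hE : F.IsEssential p E)
    (hnp : ¬ ((Nat.card ↥E = p ^ 2 ∧ Cfsg.IsElementaryAbelian p E) ∨ (Nat.card ↥E = p ^ 3 ∧ Cfsg.IsExtraspecial p ↥E ∧ Monoid.exponent ↥E = p))) :
    p ^ 4 ≤ Nat.card ↥E := by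
  classical
  have hp2 : p ≠ 2 := by omega
  have hM : Lib.H66.MaxClass.IsMax p ↥S n := by
    refine ⟨hn, by omega, le_antisymm (Lib.PLemmas.nilpotencyClass_le hS hn (by omega)) ?_⟩
    haveI : Group.IsNilpotent ↥S := hS.isNilpotent
    by_contra h
    refine hmax ?_
    have hbot : (⊤ : Subgroup ↥S).lowerCentralSeries (n - 2) = ⊥ :=
      Subgroup.lowerCentralSeries_eq_bot_iff_nilpotencyClass_le.mpr (by omega)
    have h2 := congrArg (Subgroup.map S.subtype) hbot
    rwa [Subgroup.map_lowerCentralSeries, ← MonoidHom.range_eq_map, Subgroup.range_subtype,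
      Subgroup.map_bot] at h2
  have hES := hE.1.1
  haveI : Finite E := Lib.Fusion.finite_of_le hES
  obtain ⟨k, hk⟩ := IsPGroup.iff_card.mp (hS.to_le hES)
  rw [hk]
  refine Nat.pow_le_pow_right (Fact.out : p.Prime).pos ?_
  by_contra hlt
  have hle : Nat.card E ≤ p ^ 3 := by
    rw [hk]; exact Nat.pow_le_pow_right (Fact.out : p.Prime).pos (by omega)
  have hexp := Lib.Fusion87.pow_eq_one_of_isEssential hS hp2 hE hle
  have hnc := Lib.Fusion87.not_isCyclic_of_isEssential hS hE
  have hk2 : 2 ≤ k := by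
    by_contra h
    exact hnc (isCyclic_of_card_dvd_prime (p := p) (by
      rw [hk]; exact (pow_dvd_pow p (show k ≤ 1 by omega)).trans (pow_one p).dvd))
  by_cases hab : IsMulCommutative E
  · rcases (show k = 2 ∨ k = 3 by omega) with rfl | rfl
    · exact hnp (Or.inl ⟨hk, hab, fun a ha => congrArg Subtype.val (hexp ⟨a, ha⟩)⟩)
    · exact Lib.Fusion87.not_isEssential_of_elementary hS hF hM hp2 h5 hk hab.is_comm.comm hexp hE
  · rcases (show k = 2 ∨ k = 3 by omega) with rfl | rfl
    · exact hab ⟨⟨(IsPGroup.commutative_of_card_eq_prime_sq hk)⟩⟩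
    · refine hnp (Or.inr ⟨hk, Lib.Fusion87.isExtraspecial_of_card_cube hk hab, ?_⟩)
      rcases (Nat.dvd_prime (Fact.out : p.Prime)).1
          (Monoid.exponent_dvd_of_forall_pow_eq_one hexp) with h1 | h1
      · exact absurd (Monoid.exp_eq_one_iff.1 h1) (fun hs => hab ⟨⟨fun a b => Subsingleton.elim _ _⟩⟩)
      · exact h1

end Cfsg.Agent.S5316
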