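import Cfsg.Statements.S5332
import Cfsg.Agent.Lib.Fusion.CentricInvariant
-- import your own Cfsg.Agent.* helpers here

set_option autoImplicit false
open Cfsg Cfsg.FusionSystem Cfsg.Agent.Lib.Fusion

namespace Cfsg.Agent.S5332

/-- Let p be odd and F a saturated fusion system over a finite p-group S that is not the inner system of S. Then F contains a saturated constrained subsystem over S that is itself not the inner system. -/
theorem result {Ω : Type*} [Group Ω] {S : Subgroup Ω} [Finite S] (p : ℕ) [Fact p.Prime] (hS : IsPGroup p S) (F : Cfsg.FusionSystem S) (hF : F.IsSaturated p) (hp : p ≠ 2) (hne : ∃ P : Subgroup Ω, F.Hom P ≠ (Cfsg.innerFusionSystem S).Hom P) : ∃ E : Cfsg.FusionSystem S, E ≤ F ∧ E.IsConstrained p ∧ ∃ P : Subgroup Ω, E.Hom P ≠ (Cfsg.innerFusionSystem S).Hom P := by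
  have hnot : ¬ IsInnerSystem F := fun h => hne.elim fun P hP => hP (h P)
  obtain ⟨R, hRS, hRn, hRC, hRp⟩ := exists_centric_not_isPGroup hp _ hS rfl F hF hnot
  obtain ⟨E, hE, hER, hEF, haut, -⟩ := exists_normalizer_over hS hF hRS hRn
  refine ⟨E, hEF, ⟨hE, R, hER, hRS, fun Q hQ => ?_⟩, ?_⟩
  · obtain ⟨φ, hφ, rfl⟩ := hQ
    haveI : Finite R := finite_of_le hRS
    rw [range_eq_self hφ (fun x =>
      Lib.Fusion87.stronglyClosed_apply (stronglyClosed_of_isNormal hER) hφ x x.2)]
    exact hRC
  · by_contra hcon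
    push_neg at hcon
    exact hRp ((isPGroup_autGroup_of_isInner hS (hcon : IsInnerSystem E) hRS).to_le haut)

end Cfsg.Agent.S5332
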