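import Cfsg.Statements.S5342
import Cfsg.Agent.Lib.Fusion87.Inner
import Cfsg.Agent.Lib.Fusion.Factor

set_option autoImplicit false
open Cfsg

namespace Cfsg.Agent.S5342

open Cfsg.FusionSystem Cfsg.Agent.Lib.Fusion Cfsg.Agent.Lib.Fusion87

variable {Ω : Type*} [Group Ω] {S T : Subgroup Ω} {F : FusionSystem S} {p : ℕ}

/-- In a constrained system the centric subgroup `O_p(F)` absorbs every `p`-subgroup acting on it
through `O_p(Aut_F(O_p(F)))`. -/
theorem mem_core_of_conjAut_mem [Fact p.Prime] [Finite S] (hS : IsPGroup p S)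
    (hFs : F.IsSaturated p) {Q : Subgroup Ω} (hQn : F.IsNormal Q) (hQc : F.IsCentric Q)
    (hmax : ∀ M : Subgroup Ω, F.IsNormal M → M ≤ Q)
    (K : Subgroup (F.autGroup Q)) [K.Normal] (hK : IsPGroup p K)
    {g : Ω} (hgS : g ∈ S) (hgN : g ∈ Subgroup.normalizer (Q : Set Ω))
    (hgK : ∀ a : F.autGroup Q, (a : MulAut Q) = conjAut Q g hgN → a ∈ K) :
    g ∈ Q := by
  have hQS := hQn.1
  haveI : Finite Q := finite_of_le hQS
  haveI := finite_mulAut (S := S) hQS
  let M : Subgroup Ω :=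
    S ⊓ ((K.map (F.autGroup Q).subtype).comap (Subgroup.normalizerMonoidHom Q)).map
      (Subgroup.normalizer (Q : Set Ω)).subtype
  have hMmem : ∀ {m : Ω}, m ∈ M ↔ m ∈ S ∧ ∃ (hm : m ∈ Subgroup.normalizer (Q : Set Ω)),
      ∃ a ∈ K, (a : MulAut Q) = conjAut Q m hm := by
    intro m
    constructor
    · rintro ⟨hmS, ⟨n, hn⟩, ⟨a, ha, hae⟩, rfl⟩
      exact ⟨hmS, hn, a, ha, hae⟩
    · rintro ⟨hmS, hm, a, ha, hae⟩
      exact ⟨hmS, ⟨m, hm⟩, ⟨a, ha, hae⟩, rfl⟩
  have hMsc : F.StronglyClosed M := by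
    refine ⟨inf_le_left, fun P hP φ hφ x => ?_⟩
    obtain ⟨hxS, hxN, a, haK, hae⟩ := hMmem.1 (hP x.2)
    obtain ⟨ψ, hψ, hψP, hψQ⟩ := hQn.2 P φ hφ
    obtain ⟨b, hb, hbx⟩ := exists_aut_of_hom (restrict_mem hψ le_sup_right)
      fun z => imgSub_le_of_isNormal_map hψQ z
    have hn : φ x ∈ Subgroup.normalizer (Q : Set Ω) := le_normalizer_of_isNormal hQn (val_mem hφ x)
    refine hMmem.2 ⟨val_mem hφ x, hn, (⟨b, hb⟩ : F.autGroup Q) * a * (⟨b, hb⟩)⁻¹,
      Subgroup.Normal.conj_mem inferInstance a haK _, MulEquiv.ext fun z => Subtype.ext ?_⟩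
    show (b ((a : MulAut Q) (b⁻¹ z)) : Ω) = φ x * z * (φ x)⁻¹
    obtain ⟨w, rfl⟩ : ∃ w, b w = z := ⟨b.symm z, b.apply_symm_apply z⟩
    rw [MulAut.inv_apply_self, hae, hbx, hbx, ← hψP, ← map_inv]
    show ψ _ = ψ _ * ψ _ * ψ _
    rw [← map_mul, ← map_mul]
    exact congrArg ψ (Subtype.ext rfl)
  have hMn : F.IsNormal M := by
    refine isNormal_of_le_centric_radical hS hFs hMsc fun R hR hRc hRr => ?_
    have hQR := le_centric_radical_of_isNormal hS hQn hRc hRr
    haveI := finite_mulAut (S := S) hR.1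
    have hQsc := stronglyClosed_of_isNormal hQn
    -- the automorphisms of `R` acting on `Q` inside `K`
    let L : Subgroup (F.autGroup R) :=
      { carrier := {a | ∃ k ∈ K, ∀ z : Q,
          ((k : MulAut Q) z : Ω) = ((a : MulAut R) (Subgroup.inclusion hQR z) : Ω)}
        one_mem' := ⟨1, one_mem _, fun z => rfl⟩
        mul_mem' := by
          rintro a b ⟨k, hk, hka⟩ ⟨l, hl, hlb⟩
          refine ⟨k * l, mul_mem hk hl, fun z => ?_⟩
          show ((k : MulAut Q) ((l : MulAut Q) z) : Ω) = ((a : MulAut R) ((b : MulAut R) _) : Ω)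
          rw [hka]
          exact congrArg (fun t => ((a : MulAut R) t : Ω)) (Subtype.ext (hlb z))
        inv_mem' := by
          rintro a ⟨k, hk, hka⟩
          refine ⟨k⁻¹, inv_mem hk, fun z => ?_⟩
          obtain ⟨w, rfl⟩ : ∃ w, (k : MulAut Q) w = z := ⟨(k : MulAut Q).symm z,
            (k : MulAut Q).apply_symm_apply z⟩
          have h : Subgroup.inclusion hQR ((k : MulAut Q) w) =
              (a : MulAut R) (Subgroup.inclusion hQR w) := Subtype.ext (hka w)
          rw [InvMemClass.coe_inv, InvMemClass.coe_inv, MulAut.inv_apply_self, h,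
            MulAut.inv_apply_self]
          rfl }
    haveI : L.Normal := by
      refine ⟨?_⟩
      rintro a ⟨k, hk, hka⟩ b
      obtain ⟨c, hc, hcx⟩ := exists_aut_of_hom (restrict_mem (autGroup_hom_mem hR.1 b.2) hQR)
        fun z => stronglyClosed_apply hQsc (autGroup_hom_mem hR.1 b.2) (Subgroup.inclusion hQR z) z.2
      refine ⟨(⟨c, hc⟩ : F.autGroup Q) * k * (⟨c, hc⟩)⁻¹,
        Subgroup.Normal.conj_mem inferInstance k hk _, fun z => ?_⟩
      obtain ⟨w, rfl⟩ : ∃ w, c w = z := ⟨c.symm z, c.apply_symm_apply z⟩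
      show (c ((k : MulAut Q) (c⁻¹ (c w))) : Ω) =
        ((b : MulAut R) ((a : MulAut R) ((b : MulAut R)⁻¹ (Subgroup.inclusion hQR (c w)))) : Ω)
      have h : Subgroup.inclusion hQR (c w) = (b : MulAut R) (Subgroup.inclusion hQR w) :=
        Subtype.ext (hcx w)
      rw [MulAut.inv_apply_self, h, MulAut.inv_apply_self, hcx]
      exact congrArg (fun t => ((b : MulAut R) t : Ω)) (Subtype.ext (hka w))
    have hLp : IsPGroup p L := by
      refine isPGroup_of_coprime_trivial fun a ha => ?_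
      obtain ⟨⟨a, k, hk, hka⟩, rfl⟩ : ∃ a' : L, a' = a := ⟨a, rfl⟩
      rw [← Subgroup.orderOf_coe, ← Subgroup.orderOf_coe] at ha
      have hfixQ : ∀ z : Q, (a : MulAut R) (Subgroup.inclusion hQR z) = Subgroup.inclusion hQR z := by
        -- the action on `Q` has order prime to `p` and lies in a `p`-group
        have hpow : ∀ (j : ℕ) (z : Q), (((k : MulAut Q) ^ j) z : Ω) =
            (((a : MulAut R) ^ j) (Subgroup.inclusion hQR z) : Ω) := by
          intro j
          induction j with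
          | zero => exact fun z => rfl
          | succ j ih =>
            intro z
            rw [pow_succ, pow_succ, MulAut.mul_apply, MulAut.mul_apply, ih]
            exact congrArg (fun t => (((a : MulAut R) ^ j) t : Ω)) (Subtype.ext (hka z))
        have hkone : (k : MulAut Q) ^ orderOf (a : MulAut R) = 1 := by
          refine MulEquiv.ext fun z => Subtype.ext ?_
          rw [hpow, pow_orderOf_eq_one]
          rfl
        obtain ⟨j, hj⟩ := IsPGroup.iff_orderOf.1 hK ⟨k, hk⟩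
        rw [Subgroup.orderOf_mk, ← Subgroup.orderOf_coe] at hj
        have h1 : (k : MulAut Q) = 1 := orderOf_eq_one_iff.1 (Nat.eq_one_of_dvd_coprimes
          (ha.pow_right j) (orderOf_dvd_of_pow_eq_one hkone) hj.dvd)
        exact fun z => Subtype.ext (by rw [← hka, h1]; rfl)
      refine Subtype.ext (Subtype.ext (MulEquiv.ext fun x => ?_))
      have hz : ((x⁻¹ * (a : MulAut R) x : R) : Ω) ∈ Q := by
        refine centralizerIn_le_of_isCentric hQc ⟨hR.1 (x⁻¹ * (a : MulAut R) x).2, fun q hq => ?_⟩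
        have hq' : (x : Ω) * q * (x : Ω)⁻¹ ∈ Q :=
          (Subgroup.mem_normalizer_iff.1 (le_normalizer_of_isNormal hQn (hR.1 x.2)) q).1 hq
        have h1 : (a : MulAut R) (x * ⟨q, hQR hq⟩ * x⁻¹) = x * ⟨q, hQR hq⟩ * x⁻¹ := hfixQ ⟨_, hq'⟩
        rw [map_mul, map_mul, map_inv, show (a : MulAut R) ⟨q, hQR hq⟩ = ⟨q, hQR hq⟩ from hfixQ ⟨q, hq⟩] at h1
        have h2 := congrArg Subtype.val h1
        simp only [Subgroup.coe_mul, InvMemClass.coe_inv] at h2
        show q * ((x : Ω)⁻¹ * ((a : MulAut R) x : Ω)) = (x : Ω)⁻¹ * ((a : MulAut R) x : Ω) * q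
        calc q * ((x : Ω)⁻¹ * ((a : MulAut R) x : Ω))
            = (x : Ω)⁻¹ * ((x : Ω) * q * (x : Ω)⁻¹) * ((a : MulAut R) x : Ω) := by group
          _ = _ := by rw [← h2]; group
      exact fix_of_step _ ha x (hfixQ ⟨_, hz⟩) ((hS.to_le hR.1) _)
    refine le_of_normalizerIn_le hS hR.1 inf_le_left (stronglyClosed_le_normalizer' hMsc)
      fun m hm hmN => ?_
    obtain ⟨hmS, hmQ, a, ha, hae⟩ := hMmem.1 hm
    refine mem_of_radical hRc hRr L hLp hmS hmN fun b hb => ⟨a, ha, fun z => ?_⟩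
    rw [hae, hb]
    rfl
  have hQM : M ≤ Q := hmax M hMn
  exact hQM (hMmem.2 ⟨hgS, hgN, ⟨conjAut Q g hgN, autInducedBy_le_autGroup hQS
    (mem_autInducedBy_normalizer.2 ⟨g, hgN, hgS, rfl⟩)⟩, hgK _ rfl, rfl⟩)

/-- A normal subsystem of a constrained system is constrained. -/
theorem isConstrained_of_isNormalIn [Fact p.Prime] [Finite S] (hS : IsPGroup p S)
    (hF : F.IsConstrained p) {E : FusionSystem T} (hE : E.IsNormalIn F p) : E.IsConstrained p := by
  obtain ⟨⟨hEs, -, hsub, hTsc, -, -⟩, -⟩ := hE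
  have hQn : F.IsNormal F.core := Cfsg.Agent.Lib.FusionFactor.isNormal_core F
  obtain ⟨hFs, Q₀, hQ₀n, hQ₀c⟩ := id hF
  have hQc : F.IsCentric F.core :=
    isCentric_mono hQ₀c (le_sSup hQ₀n : Q₀ ≤ F.core) hQn.1
  set Q := F.core with hQdef
  have hQS := hQn.1
  haveI : Finite Q := finite_of_le hQS
  haveI := finite_mulAut (S := S) hQS
  haveI : Finite T := finite_of_le hTsc.1
  haveI : Finite (Q ⊓ T : Subgroup Ω) := finite_of_le (inf_le_left.trans hQS)
  have hQsc := stronglyClosed_of_isNormal hQn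
  have hscE : ∀ A : Subgroup Ω, F.StronglyClosed A → E.StronglyClosed (A ⊓ T) := fun A hA =>
    ⟨inf_le_right, fun P hP φ hφ x => ⟨hA.2 P (hP.trans inf_le_left) φ (hsub P hφ) x,
      val_mem hφ x⟩⟩
  haveI := (hS.to_le hQS).isNilpotent
  let c : ℕ → Subgroup Ω := fun i => (Subgroup.upperCentralSeries Q i).map Q.subtype ⊓ T
  have hcc : ∀ i, F.StronglyClosed ((Subgroup.upperCentralSeries Q i).map Q.subtype) := by
    intro i
    refine stronglyClosed_of_isNormal (isNormal_of_characteristic hQn (Subgroup.map_subtype_le _) ?_)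
    rw [Subgroup.subgroupOf, Subgroup.comap_map_eq_self_of_injective Q.subtype_injective]
    infer_instance
  have hRn : E.IsNormal (Q ⊓ T) := by
    refine isNormal_of_series (hS.to_le hTsc.1) hEs c (n := Group.nilpotencyClass Q) ?_ ?_
      (fun i _ => hscE _ (hcc i)) ?_
    · show (Subgroup.upperCentralSeries Q 0).map Q.subtype ⊓ T = ⊥
      rw [Subgroup.upperCentralSeries_zero, Subgroup.map_bot, bot_inf_eq]
    · show (Subgroup.upperCentralSeries Q _).map Q.subtype ⊓ T = _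
      rw [Subgroup.upperCentralSeries_nilpotencyClass, ← MonoidHom.range_eq_map,
        Subgroup.range_subtype]
    · rintro i - x ⟨hx, hxT⟩ q ⟨hq, hqT⟩
      exact ⟨upperCentralSeries_step i hx hq,
        T.mul_mem (T.mul_mem (T.mul_mem hqT hxT) (T.inv_mem hqT)) (T.inv_mem hxT)⟩
  refine ⟨hEs, Q ⊓ T, hRn, inf_le_right, ?_⟩
  rintro A ⟨φ, hφ, rfl⟩
  have hA : φ.range = Q ⊓ T :=
    range_eq_self hφ fun x => (stronglyClosed_of_isNormal hRn).2 _ le_rfl φ hφ x
  rw [hA]
  rintro g ⟨hgT, hgC⟩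
  refine ⟨?_, hgT⟩
  have hgS := hTsc.1 hgT
  have hgN := le_normalizer_of_isNormal hQn hgS
  let K : Subgroup (F.autGroup Q) :=
    { carrier := {a | (∀ x : Q, ((a : MulAut Q) x : Ω) * (x : Ω)⁻¹ ∈ T) ∧
        ∀ x : Q, (x : Ω) ∈ T → (a : MulAut Q) x = x}
      one_mem' := ⟨fun x => by simp, fun x _ => rfl⟩
      mul_mem' := by
        rintro a b ⟨ha, ha'⟩ ⟨hb, hb'⟩
        refine ⟨fun x => ?_, fun x hx => ?_⟩
        · have := T.mul_mem (ha ((b : MulAut Q) x)) (hb x)
          simpa [mul_assoc] using this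
        · rw [Subgroup.coe_mul, MulAut.mul_apply, hb' x hx, ha' x hx]
      inv_mem' := by
        rintro a ⟨ha, ha'⟩
        refine ⟨fun x => ?_, fun x hx => ?_⟩
        · have := T.inv_mem (ha ((a : MulAut Q).symm x))
          rw [MulEquiv.apply_symm_apply, mul_inv_rev, inv_inv] at this
          exact this
        · conv_lhs => rw [← ha' x hx]
          rw [InvMemClass.coe_inv, MulAut.inv_apply_self] }
  haveI : K.Normal := by
    refine ⟨?_⟩
    rintro a ⟨ha, ha'⟩ b
    refine ⟨fun x => ?_, fun x hx => ?_⟩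
    · have h := stronglyClosed_apply hTsc (autGroup_hom_mem hQS b.2)
        ((a : MulAut Q) ((b : MulAut Q)⁻¹ x) * ((b : MulAut Q)⁻¹ x)⁻¹) (ha _)
      rw [map_mul, map_inv, autHom_apply, autHom_apply, MulAut.apply_inv_self] at h
      exact h
    · have hbx := stronglyClosed_apply hTsc (autGroup_hom_mem hQS (b⁻¹).2) x hx
      simp only [Subgroup.coe_mul, InvMemClass.coe_inv, MulAut.mul_apply]
      rw [ha' ((b : MulAut Q)⁻¹ x) hbx, MulAut.apply_inv_self]
  have hKp : IsPGroup p K := by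
    refine isPGroup_of_coprime_trivial fun a ha => ?_
    obtain ⟨⟨a, haT, hfix⟩, rfl⟩ : ∃ a' : K, a' = a := ⟨a, rfl⟩
    rw [← Subgroup.orderOf_coe, ← Subgroup.orderOf_coe] at ha
    refine Subtype.ext (Subtype.ext (MulEquiv.ext fun x => ?_))
    refine fix_of_step _ ha x (hfix _ ?_) ((hS.to_le hQS) _)
    refine (Subgroup.mem_normalizer_iff.1 (stronglyClosed_le_normalizer' hTsc (hQS x.2)) _).2 ?_
    show (x : Ω) * ((x : Ω)⁻¹ * ((a : MulAut Q) x : Ω)) * (x : Ω)⁻¹ ∈ T
    rw [mul_inv_cancel_left]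
    exact haT x
  refine mem_core_of_conjAut_mem hS hF.1 hQn hQc (fun M hM => le_sSup hM) K hKp hgS hgN fun a ha => ⟨fun x => ?_, fun x hx => ?_⟩
  · rw [ha, conjAut_apply]
    have h1 : (x : Ω) * g⁻¹ * (x : Ω)⁻¹ ∈ T :=
      (Subgroup.mem_normalizer_iff.1 (stronglyClosed_le_normalizer' hTsc (hQS x.2)) _).1 (T.inv_mem hgT)
    have := T.mul_mem hgT h1
    simpa [mul_assoc] using this
  · rw [ha]
    refine Subtype.ext ?_
    rw [conjAut_apply, ← hgC x ⟨x.2, hx⟩, mul_inv_cancel_right]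

/-- Let F be a constrained saturated fusion system over a finite p-group S. Then every subsystem of F that is subnormal in F (reached from F by a finite chain of successive normal subsystems) is constrained. -/
theorem result {Ω : Type*} [Group Ω] {S : Subgroup Ω} [Finite S] (p : ℕ) [Fact p.Prime] (hS : IsPGroup p S) (F : Cfsg.FusionSystem S) (hF : F.IsConstrained p) {T : Subgroup Ω} (E : Cfsg.FusionSystem T) (hE : E.IsSubnormalIn F p) : E.IsConstrained p := by
  suffices H : ∀ {T U : Subgroup Ω} (E : Cfsg.FusionSystem T) (D : Cfsg.FusionSystem U) (q : ℕ),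
      E.IsSubnormalIn D q → Fact q.Prime → Finite U → IsPGroup q U → D.IsConstrained q →
        E.IsConstrained q from H E F p hE ‹_› ‹_› hS hF
  intro T U E D q h
  induction h with
  | refl G q => exact fun _ _ _ h => h
  | step _ hDG ih =>
    intro hq hfin hp hG
    have hU := hDG.1.2.2.2.1.1
    exact ih hq (finite_of_le hU) (hp.to_le hU) (isConstrained_of_isNormalIn hp hG hDG)

end Cfsg.Agent.S5342
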