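import Cfsg.Statements.S5343
import Cfsg.Agent.Lib.Fusion87.RealizedNormal
-- import your own Cfsg.Agent.* helpers here

set_option autoImplicit false
universe u
open Cfsg

namespace Cfsg.Agent.S5343

open Cfsg.FusionSystem Cfsg.Agent.Lib.Fusion Cfsg.Agent.Lib.Fusion87

/-- A normal subgroup of order prime to `p` can be factored out of a realizing group. -/
theorem isRealizedBy_quotient {Ω : Type*} [Group Ω] {S : Subgroup Ω} {p : ℕ} [Fact p.Prime]
    (hS : IsPGroup p S) {F : FusionSystem S} {G : Type*} [Group G] [Finite G] {ι : S →* G}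
    (hι : F.IsRealizedBy ι) (K : Subgroup G) [K.Normal] (hK : (Nat.card K).Coprime p) :
    F.IsRealizedBy ((QuotientGroup.mk' K).comp ι) := by
  have hmeet : ∀ s : S, ι s ∈ K → s = 1 := by
    intro s hs
    obtain ⟨k, hk⟩ := hS s
    refine orderOf_eq_one_iff.1 (Nat.eq_one_of_dvd_coprimes (hK.pow_right k) ?_
      (orderOf_dvd_of_pow_eq_one hk))
    rw [← orderOf_injective ι hι.1]
    exact Subgroup.orderOf_dvd_natCard K hs
  refine ⟨(injective_iff_map_eq_one _).2 fun s hs => hmeet s ((QuotientGroup.eq_one_iff _).1 hs),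
    fun P hP φ hφ => ⟨fun h => ?_, ?_⟩⟩
  · obtain ⟨g, hg⟩ := (hι.2 P hP φ hφ).1 h
    exact ⟨QuotientGroup.mk' K g, fun x => by
      simp only [MonoidHom.comp_apply, hg, map_mul, map_inv]⟩
  rintro ⟨q, hq⟩
  obtain ⟨g, rfl⟩ := QuotientGroup.mk'_surjective K q
  have hmod : ∀ x : P, g * ι ⟨x, hP x.2⟩ * g⁻¹ * (ι ⟨φ x, hφ x⟩)⁻¹ ∈ K := by
    intro x
    rw [← QuotientGroup.eq_one_iff, ← QuotientGroup.mk'_apply, map_mul, map_mul, map_inv, map_inv,
      mul_inv_eq_one]
    exact (hq x).symm
  set B := (ι.comp (φ.codRestrict S hφ)).range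
  have hBK : ∀ b ∈ B, b ∈ K → b = 1 := by
    rintro _ ⟨x, rfl⟩ hb
    rw [MonoidHom.comp_apply, hmeet _ hb, map_one]
  have hBp : IsPGroup p B := ((hS.to_le hP).of_surjective _ (MonoidHom.rangeRestrict_surjective _))
  set M := B ⊔ K
  have hsyl : IsSylowIn p B M := by
    refine ⟨le_sup_left, hBp, fun hdvd => ?_⟩
    have hrel : K.relIndex B = Nat.card B := by
      rw [Subgroup.relIndex, show K.subgroupOf B = ⊥ from (Subgroup.eq_bot_iff_forall _).2
        fun b hb => Subtype.ext (hBK b b.2 hb), Subgroup.index_bot]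
    have e1 := Subgroup.relIndex_mul_relIndex ⊥ K M bot_le le_sup_right
    have e2 := Subgroup.relIndex_mul_relIndex ⊥ B M bot_le le_sup_left
    rw [Subgroup.relIndex_bot_left, Subgroup.relIndex_bot_left] at e1 e2
    rw [Subgroup.relIndex_sup_right, hrel, ← e2, mul_comm (Nat.card K)] at e1
    rw [← Nat.eq_of_mul_eq_mul_left Nat.card_pos e1] at hdvd
    exact ((Fact.out : p.Prime).coprime_iff_not_dvd.1 hK.symm) hdvd
  set A := (((MulAut.conj g).toMonoidHom).comp (ι.comp (Subgroup.inclusion hP))).range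
  have hAM : A ≤ M := by
    rintro _ ⟨x, rfl⟩
    have : g * ι ⟨x, hP x.2⟩ * g⁻¹ * (ι ⟨φ x, hφ x⟩)⁻¹ * ι ⟨φ x, hφ x⟩ ∈ M :=
      M.mul_mem (Subgroup.mem_sup_right (hmod x)) (Subgroup.mem_sup_left ⟨x, rfl⟩)
    rw [inv_mul_cancel_right] at this
    exact this
  obtain ⟨k, hk, hkA⟩ := hsyl.exists_conj_le
    ((hS.to_le hP).of_surjective _ (MonoidHom.rangeRestrict_surjective _)) hAM
  have hk' : k ∈ ((B ⊔ K : Subgroup G) : Set G) := hk
  rw [Subgroup.coe_mul_of_left_le_normalizer_right B K (fun b _ =>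
    Subgroup.le_normalizer_of_normal (Subgroup.mem_top b))] at hk'
  obtain ⟨b, hb, c, hc, rfl⟩ := hk'
  refine (hι.2 P hP φ hφ).2 ⟨c * g, fun x => ?_⟩
  have h1 : b * c * (g * ι ⟨x, hP x.2⟩ * g⁻¹) * (b * c)⁻¹ ∈ B := hkA ⟨_, ⟨x, rfl⟩, rfl⟩
  have h2 := B.mul_mem (B.mul_mem (B.mul_mem (B.inv_mem hb) h1) hb)
    (B.inv_mem (show ι ⟨φ x, hφ x⟩ ∈ B from ⟨x, rfl⟩))
  have h3 := hBK _ h2 (by
    rw [← QuotientGroup.eq_one_iff, ← QuotientGroup.mk'_apply]
    simp only [map_mul, map_inv, mul_inv_rev]
    rw [show QuotientGroup.mk' K c = 1 from (QuotientGroup.eq_one_iff _).2 hc]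
    have := hmod x
    rw [← QuotientGroup.eq_one_iff, ← QuotientGroup.mk'_apply] at this
    simp only [map_mul, map_inv] at this
    simp only [mul_assoc, inv_mul_cancel_left, mul_one, one_mul, inv_one, inv_mul_cancel] at this ⊢
    exact this)
  rw [mul_inv_eq_one] at h3
  rw [← h3]
  group

/-- Let F be a simple saturated fusion system over a finite p-group S that is realized by some finite group on a Sylow p-subgroup. Then F is realized by a finite simple group on a Sylow p-subgroup. -/
theorem result {Ω : Type u} [Group Ω] {S : Subgroup Ω} [Finite S] (p : ℕ) [Fact p.Prime] (hS : IsPGroup p S) (F : Cfsg.FusionSystem S) (hsimple : F.IsSimple p) (hreal : F.IsRealizable p) : ∃ (G : Type u) (_ : Group G) (_ : Finite G) (_ : IsSimpleGroup G) (ι : ↥S →* G), F.IsRealizedBy ι ∧ ∃ T : Sylow p G, (T : Subgroup G) = ι.range := by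
  classical
  have hne := hsimple.2.1
  have hmain : ∀ n (G : Type u) (_ : Group G) (_ : Finite G) (ι : ↥S →* G), Nat.card G = n →
      F.IsRealizedBy ι → ∀ T : Sylow p G, (T : Subgroup G) = ι.range →
      ∃ (G : Type u) (_ : Group G) (_ : Finite G) (_ : IsSimpleGroup G) (ι : ↥S →* G),
        F.IsRealizedBy ι ∧ ∃ T : Sylow p G, (T : Subgroup G) = ι.range := by
    intro n
    induction n using Nat.strong_induction_on with
    | _ n ih =>
      intro G _ _ ι hn hι T hT
      by_cases hG : IsSimpleGroup G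
      · exact ⟨G, ‹_›, ‹_›, hG, ι, hι, T, hT⟩
      haveI : Nontrivial G := by
        refine not_subsingleton_iff_nontrivial.1 fun hsub => hne ?_
        refine (Subgroup.eq_bot_iff_forall _).2 fun x hx => ?_
        exact congrArg Subtype.val (hι.1 (Subsingleton.elim _ _) : (⟨x, hx⟩ : S) = 1)
      obtain ⟨N, hN, hNb, hNt⟩ : ∃ N : Subgroup G, N.Normal ∧ N ≠ ⊥ ∧ N ≠ ⊤ := by
        by_contra hcon
        refine hG ⟨fun N hN => ?_⟩
        by_contra h
        exact hcon ⟨N, hN, fun e => h (Or.inl e), fun e => h (Or.inr e)⟩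
      rcases hsimple.2.2 _ _ (realizedSub_isNormalIn hsimple.1 hι T hT N) with h | ⟨hTS, hhom⟩
      · -- `N` has order prime to `p`
        have hcop : (Nat.card N).Coprime p := by
          have hsyl := isSylowIn_inf_normal T N
          have hbot : (T : Subgroup G) ⊓ N = ⊥ := by
            rw [eq_bot_iff]
            rintro y ⟨hy, hyN⟩
            rw [hT] at hy
            obtain ⟨s, rfl⟩ := hy
            have hs : (s : Ω) ∈ realizedInf ι N := mem_realizedInf.2 ⟨s.2, hyN⟩
            rw [h, Subgroup.mem_bot] at hs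
            rw [show s = 1 from Subtype.ext hs, map_one]
            exact one_mem _
          rw [hbot] at hsyl
          have h3 := hsyl.2.2
          rw [Subgroup.relIndex_bot_left] at h3
          exact ((Fact.out : p.Prime).coprime_iff_not_dvd.2 h3).symm
        haveI := hN
        refine ih (Nat.card (G ⧸ N)) ?_ (G ⧸ N) inferInstance inferInstance _ rfl
          (isRealizedBy_quotient hS hι N hcop) (T.mapSurjective (QuotientGroup.mk'_surjective N)) ?_
        · rw [← hn, Subgroup.card_eq_card_quotient_mul_card_subgroup N]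
          have h1 : 1 < Nat.card N := Finite.one_lt_card_iff_nontrivial.2
            ((Subgroup.nontrivial_iff_ne_bot N).2 hNb)
          exact lt_mul_of_one_lt_right Nat.card_pos h1
        · rw [Sylow.coe_mapSurjective, hT, MonoidHom.map_range]
      · -- `N` realizes `F`
        have hιN : ∀ s : S, ι s ∈ N := fun s => by
          obtain ⟨_, hs⟩ := mem_realizedInf.1 (hTS.ge s.2)
          exact hs
        have hTN : (T : Subgroup G) ≤ N := by
          rw [hT]
          rintro _ ⟨s, rfl⟩
          exact hιN s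
        have hιN' : F.IsRealizedBy (ι.codRestrict N hιN) := by
          refine ⟨fun a b hab => hι.1 (congrArg Subtype.val hab), fun P hP φ hφ => ⟨fun hm => ?_, ?_⟩⟩
          · rw [← hhom P] at hm
            obtain ⟨-, -, -, m, hm', hmx⟩ := hm
            exact ⟨⟨m, hm'⟩, fun x => Subtype.ext (hmx x (hP x.2) (hφ x))⟩
          · rintro ⟨m, hm⟩
            exact (hι.2 P hP φ hφ).2 ⟨m, fun x => congrArg Subtype.val (hm x)⟩
        refine ih (Nat.card N) ?_ N inferInstance inferInstance _ rfl hιN' (T.subtype hTN) ?_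
        · rw [← hn]
          refine lt_of_le_of_ne (Subgroup.card_le_card_group N) fun e => hNt ?_
          exact Subgroup.eq_top_of_card_eq N e
        · rw [Sylow.coe_subtype, hT]
          ext ⟨y, hy⟩
          constructor
          · rintro ⟨s, hs⟩
            exact ⟨s, Subtype.ext hs⟩
          · rintro ⟨s, hs⟩
            exact ⟨s, congrArg Subtype.val hs⟩
  obtain ⟨G, _, _, ι, hι, T, hT⟩ := hreal
  exact hmain _ G ‹_› ‹_› ι rfl hι T hT

end Cfsg.Agent.S5343
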