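import Cfsg.Statements.S5345
import Mathlib
import Cfsg.Agent.Lib.ThreeTransp.Basic

set_option autoImplicit false
open Cfsg

namespace Cfsg.Agent.S5345

/-- Let D be a conjugation-invariant generating set of 3-transpositions of a finite group G and T a Sylow 2-subgroup of G. Then the members of D lying in T generate an abelian subgroup, and their number is the width of D (the largest number of pairwise commuting members of D). -/
theorem result {G : Type*} [Group G] [Finite G] {D : Set G} (hD : Cfsg.IsThreeTranspositionGroup D) (T : Sylow 2 G) : IsMulCommutative (Subgroup.closure {d : G | d ∈ D ∧ d ∈ T}) ∧ {d : G | d ∈ D ∧ d ∈ T}.ncard = Cfsg.commutingWidth D := by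
  obtain ⟨hS, hconj, -⟩ := hD
  have key : ∀ a ∈ D, ∀ b ∈ D, a ∈ T → b ∈ T → Commute a b := by
    intro a ha b hb haT hbT
    by_contra hab
    have h3 := Lib.ThreeTransp.orderOf_eq_three hS ha hb hab
    obtain ⟨k, hk⟩ := T.isPGroup' ⟨a * b, mul_mem haT hbT⟩
    have hk' : (a * b) ^ 2 ^ k = 1 := by simpa [Subtype.ext_iff] using hk
    have hd := orderOf_dvd_of_pow_eq_one hk'
    rw [h3] at hd
    have := (Nat.prime_dvd_prime_iff_eq Nat.prime_three Nat.prime_two).mp (Nat.prime_three.dvd_of_dvd_pow hd)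
    omega
  refine ⟨Subgroup.isMulCommutative_closure fun a ha b hb => key a ha.1 b hb.1 ha.2 hb.2, ?_⟩
  have hmem : {d : G | d ∈ D ∧ d ∈ T}.ncard ∈ {n : ℕ | ∃ E : Set G, E ⊆ D ∧ E.Finite ∧ (∀ a ∈ E, ∀ b ∈ E, Commute a b) ∧ E.ncard = n} :=
    ⟨_, fun x hx => hx.1, Set.toFinite _, fun a ha b hb => key a ha.1 b hb.1 ha.2 hb.2, rfl⟩
  have hub : ∀ n ∈ {n : ℕ | ∃ E : Set G, E ⊆ D ∧ E.Finite ∧ (∀ a ∈ E, ∀ b ∈ E, Commute a b) ∧ E.ncard = n}, n ≤ {d : G | d ∈ D ∧ d ∈ T}.ncard := by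
    rintro n ⟨E, hED, -, hcomm, rfl⟩
    have : IsMulCommutative (Subgroup.closure E) := Subgroup.isMulCommutative_closure fun a ha b hb => hcomm a ha b hb
    have hsq : ∀ x : ↥(Subgroup.closure E), x ^ 2 = 1 := by
      rintro ⟨x, hx⟩
      induction hx using Subgroup.closure_induction with
      | mem y hy =>
        ext
        simp [pow_two, Lib.ThreeTransp.mul_self hS (hED hy)]
      | one => exact one_pow 2
      | mul a b ha hb iha ihb =>
        have hab : Commute (⟨a, ha⟩ : ↥(Subgroup.closure E)) ⟨b, hb⟩ := mul_comm' _ _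
        calc (⟨a * b, mul_mem ha hb⟩ : ↥(Subgroup.closure E)) ^ 2
            = (⟨a, ha⟩ * ⟨b, hb⟩ : ↥(Subgroup.closure E)) ^ 2 := rfl
          _ = 1 := by rw [hab.mul_pow, iha, ihb, one_mul]
      | inv a ha iha =>
        calc (⟨a⁻¹, inv_mem ha⟩ : ↥(Subgroup.closure E)) ^ 2
            = (⟨a, ha⟩⁻¹ : ↥(Subgroup.closure E)) ^ 2 := rfl
          _ = 1 := by rw [inv_pow, iha, inv_one]
    have hp : IsPGroup 2 ↥(Subgroup.closure E) := fun x => ⟨1, by rw [pow_one]; exact hsq x⟩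
    obtain ⟨Q, hQ⟩ := hp.exists_le_sylow
    obtain ⟨g, hg⟩ := MulAction.exists_smul_eq G Q T
    refine Set.ncard_le_ncard_of_injOn (fun x => g * x * g⁻¹) (fun x hx => ⟨hconj g x (hED hx), ?_⟩)
      (fun x _ y _ h => by simpa using h) (Set.toFinite _)
    rw [← hg]
    show g * x * g⁻¹ ∈ ((g • Q : Sylow 2 G) : Subgroup G)
    rw [Sylow.coe_subgroup_smul]
    exact Subgroup.smul_mem_pointwise_smul x (MulAut.conj g) _ (hQ (Subgroup.subset_closure hx))
  exact le_antisymm (le_csSup ⟨_, hub⟩ hmem) (csSup_le ⟨_, hmem⟩ hub)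

end Cfsg.Agent.S5345
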