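import Cfsg.Statements.S5346
import Mathlib
import Cfsg.Agent.Lib.ThreeTransp.WidthOne
import Cfsg.Agent.Lib.PSolvable.Core

set_option autoImplicit false
open Cfsg

namespace Cfsg.Agent.S5346

/-- Let D be a conjugation-invariant generating set of 3-transpositions of a finite group G and d a member of D. Then D has width 1 (no two different members of D commute) if and only if G is the product of the subgroup generated by d with the largest normal 3-subgroup of G. -/
theorem result {G : Type*} [Group G] [Finite G] {D : Set G} (hD : Cfsg.IsThreeTranspositionGroup D) {d : G} (hd : d ∈ D) : Cfsg.commutingWidth D = 1 ↔ Subgroup.zpowers d ⊔ Cfsg.pCore 3 G = ⊤ := by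
  classical
  obtain ⟨hS, hc, hgen⟩ := hD
  have hbdd : BddAbove {n : ℕ | ∃ E : Set G, E ⊆ D ∧ E.Finite ∧ (∀ a ∈ E, ∀ b ∈ E, Commute a b) ∧ E.ncard = n} :=
    ⟨Nat.card G, by rintro n ⟨E, -, -, -, rfl⟩; exact Set.ncard_le_card E⟩
  have hone : 1 ∈ {n : ℕ | ∃ E : Set G, E ⊆ D ∧ E.Finite ∧ (∀ a ∈ E, ∀ b ∈ E, Commute a b) ∧ E.ncard = n} :=
    ⟨{d}, by simpa using hd, Set.finite_singleton d, by simp, Set.ncard_singleton d⟩
  have hiff : Cfsg.commutingWidth D = 1 ↔ ∀ a ∈ D, ∀ b ∈ D, Commute a b → a = b := by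
    constructor
    · intro hw a ha b hb hab
      by_contra hne
      have h2 : 2 ∈ {n : ℕ | ∃ E : Set G, E ⊆ D ∧ E.Finite ∧ (∀ a ∈ E, ∀ b ∈ E, Commute a b) ∧ E.ncard = n} := by
        refine ⟨{a, b}, Set.insert_subset ha (Set.singleton_subset_iff.mpr hb), Set.toFinite _, ?_,
          Set.ncard_pair hne⟩
        rintro x (rfl | rfl) y (rfl | rfl)
        exacts [Commute.refl _, hab, hab.symm, Commute.refl _]
      have := le_csSup hbdd h2
      unfold Cfsg.commutingWidth at hw
      omega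
    · intro h
      refine le_antisymm (csSup_le ⟨1, hone⟩ ?_) (le_csSup hbdd hone)
      rintro n ⟨E, hE, hfin, hcomm, rfl⟩
      exact (Set.ncard_le_one hfin).mpr fun a ha b hb => h a (hE ha) b (hE hb) (hcomm a ha b hb)
  rw [hiff]
  constructor
  · intro hw
    rw [eq_top_iff, ← hgen, Subgroup.closure_le]
    intro e he
    have h := Lib.ThreeTransp.mul_mem_pCore_three hS hc hw hd he
    have h' : e = d * (d * e) := (Lib.ThreeTransp.mul_self_assoc hS hd e).symm
    rw [SetLike.mem_coe, h']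
    exact Subgroup.mul_mem_sup (Subgroup.mem_zpowers d) h
  · intro htop a ha b hb hab
    have hdec : ∀ x ∈ D, x * d ∈ Cfsg.pCore 3 G := by
      intro x hx
      obtain ⟨y, hy, n, hn, hxy⟩ :=
        Subgroup.mem_sup_of_normal_right.mp (htop ▸ Subgroup.mem_top x)
      obtain ⟨k, rfl⟩ := Subgroup.mem_zpowers_iff.mp hy
      rw [← zpow_mod_orderOf, hS.1 d hd] at hxy
      rcases Int.emod_two_eq k with h | h <;> simp only [Nat.cast_ofNat, h] at hxy
      · rw [zpow_zero, one_mul] at hxy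
        obtain ⟨m, hm⟩ := Lib.PSolvable.pCore_isPGroup ⟨n, hn⟩
        have hm' : x ^ 3 ^ m = 1 := by rw [← hxy]; exact congrArg Subtype.val hm
        have hdvd : 2 ∣ 3 ^ m := hS.1 x hx ▸ orderOf_dvd_of_pow_eq_one hm'
        exact absurd (Nat.prime_two.dvd_of_dvd_pow hdvd) (by norm_num)
      · rw [zpow_one] at hxy
        rw [← hxy]
        have := (inferInstance : (Cfsg.pCore 3 G).Normal).conj_mem n hn d
        rwa [Lib.ThreeTransp.inv_eq hS hd] at this
    have hab3 : a * b ∈ Cfsg.pCore 3 G := by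
      have h := mul_mem (hdec a ha) (inv_mem (hdec b hb))
      rwa [mul_inv_rev, ← mul_assoc, mul_inv_cancel_right, Lib.ThreeTransp.inv_eq hS hb] at h
    obtain ⟨m, hm⟩ := Lib.PSolvable.pCore_isPGroup ⟨_, hab3⟩
    have hm' : (a * b) ^ 3 ^ m = 1 := congrArg Subtype.val hm
    have h2 := (Lib.ThreeTransp.commute_iff_sq hS ha hb).mp hab
    have h1 := pow_gcd_eq_one.mpr ⟨h2, hm'⟩
    rw [((Nat.coprime_primes Nat.prime_two Nat.prime_three).mpr (by norm_num)).pow_right m, pow_one,
      mul_eq_one_iff_eq_inv, Lib.ThreeTransp.inv_eq hS hb] at h1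
    exact h1

end Cfsg.Agent.S5346
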