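import Cfsg.Statements.S5348
import Mathlib
import Cfsg.Agent.Lib.ThreeTransp.Basic

set_option autoImplicit false
open Cfsg

namespace Cfsg.Agent.S5348

/-- Let D be a conjugation-invariant generating set of 3-transpositions of a finite group G and d a member of D. Let V be the set of members of D commuting with exactly the same members of D as d, and W the set of members w of D such that the members of D other than w commuting with w are precisely the members of D other than d commuting with d. Then V = {d} or W = {d}. -/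
theorem result {G : Type*} [Group G] [Finite G] {D : Set G} (hD : Cfsg.IsThreeTranspositionGroup D) {d : G} (hd : d ∈ D) : {v : G | v ∈ D ∧ ∀ e ∈ D, Commute v e ↔ Commute d e} = {d} ∨ {w : G | w ∈ D ∧ {y : G | y ∈ D ∧ y ≠ d ∧ Commute d y} = {y : G | y ∈ D ∧ y ≠ w ∧ Commute w y}} = {d} := by
  obtain ⟨hS, -, -⟩ := hD
  by_contra! hcon
  obtain ⟨hV, hW⟩ := hcon
  have hv : ∃ v ∈ D, v ≠ d ∧ ∀ e ∈ D, Commute v e ↔ Commute d e := by
    by_contra! h
    apply hV
    refine Set.Subset.antisymm ?_ (Set.singleton_subset_iff.mpr ⟨hd, fun e _ => Iff.rfl⟩)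
    rintro v ⟨hvD, hvC⟩
    rw [Set.mem_singleton_iff]
    by_contra hne
    obtain ⟨e, he, he'⟩ := h v hvD hne
    rcases he' with ⟨h1, h2⟩ | ⟨h1, h2⟩
    · exact h2 ((hvC e he).mp h1)
    · exact h1 ((hvC e he).mpr h2)
  obtain ⟨v, hvD, hvd, hvC⟩ := hv
  have hw : ∃ w ∈ D, w ≠ d ∧ {y : G | y ∈ D ∧ y ≠ d ∧ Commute d y} = {y : G | y ∈ D ∧ y ≠ w ∧ Commute w y} := by
    by_contra! h
    apply hW
    refine Set.Subset.antisymm ?_ (Set.singleton_subset_iff.mpr ⟨hd, rfl⟩)
    rintro w ⟨hwD, hwC⟩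
    rw [Set.mem_singleton_iff]
    by_contra hne
    exact h w hwD hne hwC
  obtain ⟨w, hwD, hwd, hwC⟩ := hw
  have hdv : Commute d v := ((hvC d hd).mpr (Commute.refl d)).symm
  have hv' : v ∈ {y : G | y ∈ D ∧ y ≠ w ∧ Commute w y} := hwC ▸ ⟨hvD, hvd, hdv⟩
  have hdw : Commute d w := (hvC w hwD).mp hv'.2.2.symm
  have hw' : w ∈ {y : G | y ∈ D ∧ y ≠ w ∧ Commute w y} := hwC ▸ ⟨hwD, hwd, hdw⟩
  exact hw'.2.1 rfl

end Cfsg.Agent.S5348
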