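import Cfsg.Statements.S5349
import Mathlib
import Cfsg.Agent.Lib.ThreeTransp.Blocks

set_option autoImplicit false
open Cfsg

namespace Cfsg.Agent.S5349

/-- Let D be a conjugacy class of 3-transpositions generating the finite group G, with at least two members, and d a member of D. Then the set of members of D commuting with exactly the same members of D as d coincides with the set of members of D lying in the coset of d modulo the largest normal 2-subgroup of G, and also with the orbit of d under conjugation by that normal 2-subgroup. -/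
theorem result {G : Type*} [Group G] [Finite G] {D : Set G} (hD : Cfsg.IsThreeTranspositionClass D) (hD2 : ∃ a ∈ D, ∃ b ∈ D, a ≠ b) {d : G} (hd : d ∈ D) : {v : G | v ∈ D ∧ ∀ e ∈ D, Commute v e ↔ Commute d e} = {v : G | v ∈ D ∧ d⁻¹ * v ∈ Cfsg.pCore 2 G} ∧ {v : G | v ∈ D ∧ ∀ e ∈ D, Commute v e ↔ Commute d e} = {v : G | ∃ g ∈ Cfsg.pCore 2 G, v = g * d * g⁻¹} := by
  have hS := hD.1
  have hG := Lib.ThreeTransp.group_of_class hD
  have hc := hG.2.1
  have hsub : ∀ v ∈ Lib.ThreeTransp.vSet D d, d⁻¹ * v ∈ Cfsg.pCore 2 G := fun v hv => by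
    rw [Lib.ThreeTransp.inv_eq hS hd]
    exact Lib.ThreeTransp.mul_mem_pCore_two hS hc hd hv
  have hsup : ∀ v ∈ D, d⁻¹ * v ∈ Cfsg.pCore 2 G → v ∈ Lib.ThreeTransp.vSet D d := fun v hv h =>
    Lib.ThreeTransp.mem_vSet_of_inv_mul_mem hS Lib.PSolvable.pCore_isPGroup hd hv h
  refine ⟨Set.ext fun v => ⟨fun hv => ⟨hv.1, hsub v hv⟩, fun hv => hsup v hv.1 hv.2⟩, Set.ext fun v => ⟨?_, ?_⟩⟩
  · intro hv
    by_cases hvd : v = d
    · exact ⟨1, one_mem _, by simp [hvd]⟩
    obtain ⟨y, hy, hdy⟩ := Lib.ThreeTransp.exists_not_commute hD hD2 hd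
    have hvy : ¬ Commute v y := fun h => hdy ((hv.2 y hy).mp h)
    have hdv : d * v = v * d :=
      (Lib.ThreeTransp.vSet_pairwise_commute hd (Lib.ThreeTransp.self_mem_vSet hd) hv).eq
    have hz := Lib.ThreeTransp.conj_vSet_fix hS hc hd (Lib.ThreeTransp.self_mem_vSet hd) hv hy
    refine ⟨y * (d * v * y * (d * v)⁻¹), Lib.ThreeTransp.mul_mem_pCore_two hS hc hy hz, ?_⟩
    simp only [mul_inv_rev, inv_inv, Lib.ThreeTransp.inv_eq hS hd, Lib.ThreeTransp.inv_eq hS hv.1,
      Lib.ThreeTransp.inv_eq hS hy]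
    have h1 : d * v * y * (v * d) * d * (d * v * (y * (v * d))) = v * y * v := by
      calc d * v * y * (v * d) * d * (d * v * (y * (v * d)))
          = d * v * y * (v * d * v) * y * v * d := by
            simp [mul_assoc, Lib.ThreeTransp.mul_self_assoc hS hd]
        _ = d * v * (y * d * y) * v * d := by
            rw [← hdv, Lib.ThreeTransp.mul_mul_cancel_right hS hv.1]
            simp [mul_assoc]
        _ = d * v * d * y * (d * v) * d := by
            rw [← Lib.ThreeTransp.braid hS hd hy hdy]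
            simp [mul_assoc]
        _ = v * y * v := by
            rw [hdv]
            simp [mul_assoc, Lib.ThreeTransp.mul_self hS hd, Lib.ThreeTransp.mul_self_assoc hS hd]
    calc v = y * (v * y * v) * y := by
          rw [Lib.ThreeTransp.braid hS hv.1 hy hvy]
          simp [mul_assoc, Lib.ThreeTransp.mul_self hS hy, Lib.ThreeTransp.mul_self_assoc hS hy]
      _ = _ := by rw [← h1]; simp [mul_assoc]
  · rintro ⟨g, hg, rfl⟩
    refine hsup _ (hc g d hd) ?_
    have : d⁻¹ * (g * d * g⁻¹) = (d⁻¹ * g * d) * g⁻¹ := by simp [mul_assoc]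
    rw [this]
    exact mul_mem ((inferInstance : (Cfsg.pCore 2 G).Normal).conj_mem' g hg d) (inv_mem hg)

end Cfsg.Agent.S5349
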