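import Cfsg.Statements.S5350
import Mathlib
import Cfsg.Agent.Lib.ThreeTransp.Blocks

set_option autoImplicit false
open Cfsg

namespace Cfsg.Agent.S5350

/-- Let D be a conjugacy class of 3-transpositions generating the finite group G, with at least two members, and d a member of D. Then the set of members w of D whose commuting partners in D (other than w) are exactly those of d (other than d) coincides with the set of members of D lying in the coset of d modulo the largest normal 3-subgroup of G, and also with the orbit of d under conjugation by that normal 3-subgroup. -/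
theorem result {G : Type*} [Group G] [Finite G] {D : Set G} (hD : Cfsg.IsThreeTranspositionClass D) (hD2 : ∃ a ∈ D, ∃ b ∈ D, a ≠ b) {d : G} (hd : d ∈ D) : {w : G | w ∈ D ∧ {y : G | y ∈ D ∧ y ≠ d ∧ Commute d y} = {y : G | y ∈ D ∧ y ≠ w ∧ Commute w y}} = {w : G | w ∈ D ∧ d⁻¹ * w ∈ Cfsg.pCore 3 G} ∧ {w : G | w ∈ D ∧ {y : G | y ∈ D ∧ y ≠ d ∧ Commute d y} = {y : G | y ∈ D ∧ y ≠ w ∧ Commute w y}} = {w : G | ∃ g ∈ Cfsg.pCore 3 G, w = g * d * g⁻¹} := by
  have hS := hD.1
  have hc := (Lib.ThreeTransp.group_of_class hD).2.1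
  have hsup : ∀ w ∈ D, d⁻¹ * w ∈ Cfsg.pCore 3 G → w ∈ Lib.ThreeTransp.wSet D d := fun w hw h =>
    Lib.ThreeTransp.mem_wSet_of_inv_mul_mem hS Lib.PSolvable.pCore_isPGroup hd hw h
  have hsub : ∀ w ∈ Lib.ThreeTransp.wSet D d, d * w ∈ Cfsg.pCore 3 G := fun w hw =>
    Lib.ThreeTransp.mul_mem_pCore_three_of_wSet hS hc hd hw
  refine ⟨Set.ext fun w => ⟨fun hw => ⟨hw.1, ?_⟩, fun hw => hsup w hw.1 hw.2⟩, Set.ext fun w => ⟨?_, ?_⟩⟩
  · rw [Lib.ThreeTransp.inv_eq hS hd]
    exact hsub w hw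
  · intro hw
    by_cases hwd : w = d
    · exact ⟨1, one_mem _, by simp [hwd]⟩
    have hdw : ¬ Commute d w := fun h =>
      hwd (Lib.ThreeTransp.wSet_eq_of_commute (Lib.ThreeTransp.self_mem_wSet hd) hw h).symm
    refine ⟨d * w, hsub w hw, ?_⟩
    rw [mul_inv_rev, Lib.ThreeTransp.inv_eq hS hd, Lib.ThreeTransp.inv_eq hS hw.1]
    have hb : w * d * w = d * w * d := (Lib.ThreeTransp.braid hS hd hw.1 hdw).symm
    symm
    calc d * w * d * (w * d) = d * (w * d * w) * d := by simp [mul_assoc]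
      _ = w := by
        rw [hb]
        simp [mul_assoc, Lib.ThreeTransp.mul_self hS hd, Lib.ThreeTransp.mul_self_assoc hS hd]
  · rintro ⟨g, hg, rfl⟩
    refine hsup _ (hc g d hd) ?_
    have : d⁻¹ * (g * d * g⁻¹) = (d⁻¹ * g * d) * g⁻¹ := by simp [mul_assoc]
    rw [this]
    exact mul_mem ((inferInstance : (Cfsg.pCore 3 G).Normal).conj_mem' g hg d) (inv_mem hg)

end Cfsg.Agent.S5350
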