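import Cfsg.Statements.S5351
import Mathlib
import Cfsg.Agent.Lib.ThreeTransp.Structure

set_option autoImplicit false
open Cfsg

namespace Cfsg.Agent.S5351

/-- Let D be a conjugacy class of 3-transpositions generating the finite group G, with at least two members. Then for every prime p > 3 the largest normal p-subgroup of G is central, and exactly one of the following holds: the largest normal 2-subgroup of G is not central; the largest normal 3-subgroup of G is not central; the layer of G (the product of its components) is non-trivial. -/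
theorem result {G : Type*} [Group G] [Finite G] {D : Set G} (hD : Cfsg.IsThreeTranspositionClass D) (hD2 : ∃ a ∈ D, ∃ b ∈ D, a ≠ b) : (∀ p : ℕ, p.Prime → 3 < p → Cfsg.pCore p G ≤ Subgroup.center G) ∧ ((¬ Cfsg.pCore 2 G ≤ Subgroup.center G ∧ Cfsg.pCore 3 G ≤ Subgroup.center G ∧ Cfsg.layer G = ⊥) ∨ (Cfsg.pCore 2 G ≤ Subgroup.center G ∧ ¬ Cfsg.pCore 3 G ≤ Subgroup.center G ∧ Cfsg.layer G = ⊥) ∨ (Cfsg.pCore 2 G ≤ Subgroup.center G ∧ Cfsg.pCore 3 G ≤ Subgroup.center G ∧ Cfsg.layer G ≠ ⊥)) := by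
  have hG := Lib.ThreeTransp.group_of_class hD
  have hS := hD.1
  refine ⟨fun p hp h3 => Lib.ThreeTransp.pCore_le_center_of_gt hG hp h3, ?_⟩
  have hL0 : ∀ L : Subgroup G, Cfsg.IsComponent L → Cfsg.pCore 2 G ≤ Subgroup.center G ∧
      Cfsg.pCore 3 G ≤ Subgroup.center G ∧ Cfsg.layer G ≠ ⊥ := fun L hL =>
    ⟨Lib.ThreeTransp.pCore_two_le_center hD hL, Lib.ThreeTransp.pCore_three_le_center hD hL,
      fun h => Lib.Components.isComponent_ne_bot hL (le_bot_iff.mp (h ▸ Lib.Components.isComponent_le_layer hL))⟩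
  have hno : ¬ Cfsg.pCore 2 G ≤ Subgroup.center G → ¬ Cfsg.pCore 3 G ≤ Subgroup.center G → False := by
    intro h2 h3
    have aux : ∀ p : ℕ, ¬ Cfsg.pCore p G ≤ Subgroup.center G →
        ∃ d ∈ D, ∃ g ∈ Cfsg.pCore p G, g * d * g⁻¹ ≠ d := by
      intro p hp
      by_contra! h
      refine hp fun g hg => Lib.ThreeTransp.mem_center_of_forall_commute hD.2.2 fun d hd => ?_
      have := h d hd g hg
      rwa [mul_inv_eq_iff_eq_mul] at this
    obtain ⟨d, hd, g, hg, hgd⟩ := aux 2 h2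
    obtain ⟨e, he, k, hk, hke⟩ := aux 3 h3
    obtain ⟨x, rfl⟩ := Lib.ThreeTransp.class_conj hD hd he
    have hk' : x⁻¹ * k * x ∈ Cfsg.pCore 3 G :=
      (inferInstance : (Cfsg.pCore 3 G).Normal).conj_mem' k hk x
    have hke' : (x⁻¹ * k * x) * d * (x⁻¹ * k * x)⁻¹ ≠ d := fun h => hke (by
      calc k * (x * d * x⁻¹) * k⁻¹ = x * ((x⁻¹ * k * x) * d * (x⁻¹ * k * x)⁻¹) * x⁻¹ := by
            simp [mul_assoc]
        _ = x * d * x⁻¹ := by rw [h])
    set v := g * d * g⁻¹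
    set w := (x⁻¹ * k * x) * d * (x⁻¹ * k * x)⁻¹
    have hvD : v ∈ D := hG.2.1 g d hd
    have hwD : w ∈ D := hG.2.1 _ d hd
    have hdiff : ∀ p : ℕ, ∀ y ∈ Cfsg.pCore p G, d⁻¹ * (y * d * y⁻¹) ∈ Cfsg.pCore p G := by
      intro p y hy
      have : d⁻¹ * (y * d * y⁻¹) = (d⁻¹ * y * d) * y⁻¹ := by simp [mul_assoc]
      rw [this]
      exact mul_mem ((inferInstance : (Cfsg.pCore p G).Normal).conj_mem' y hy d) (inv_mem hy)
    have hv : v ∈ Lib.ThreeTransp.vSet D d :=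
      Lib.ThreeTransp.mem_vSet_of_inv_mul_mem hS Lib.PSolvable.pCore_isPGroup hd hvD (hdiff 2 g hg)
    have hw : w ∈ Lib.ThreeTransp.wSet D d :=
      Lib.ThreeTransp.mem_wSet_of_inv_mul_mem hS Lib.PSolvable.pCore_isPGroup hd hwD (hdiff 3 _ hk')
    have hdv : Commute d v := ((hv.2 d hd).mpr (Commute.refl d)).symm
    have hv' : v ∈ {y : G | y ∈ D ∧ y ≠ w ∧ Commute w y} := hw.2 ▸ ⟨hvD, hgd, hdv⟩
    have hdw : Commute d w := (hv.2 w hwD).mp hv'.2.2.symm
    exact hke' (Lib.ThreeTransp.wSet_eq_of_commute hw (Lib.ThreeTransp.self_mem_wSet hd) hdw.symm)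
  by_cases h2 : Cfsg.pCore 2 G ≤ Subgroup.center G
  · by_cases h3 : Cfsg.pCore 3 G ≤ Subgroup.center G
    · obtain ⟨L, hL⟩ := Lib.ThreeTransp.exists_component hD hD2 h2 h3
      exact Or.inr (Or.inr (hL0 L hL))
    · refine Or.inr (Or.inl ⟨h2, h3, ?_⟩)
      exact le_bot_iff.mp (Lib.Components.layer_le_iff.mpr fun L hL => absurd (hL0 L hL).2.1 h3)
  · refine Or.inl ⟨h2, not_not.mp fun h3 => hno h2 h3, ?_⟩
    exact le_bot_iff.mp (Lib.Components.layer_le_iff.mpr fun L hL => absurd (hL0 L hL).1 h2)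

end Cfsg.Agent.S5351
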