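import Cfsg.Statements.S5355
import Mathlib
import Cfsg.Agent.Lib.ThreeTransp.Blocks
import Cfsg.Agent.Lib.ThreeTransp.SymFour

set_option autoImplicit false
open Cfsg

namespace Cfsg.Agent.S5355

open Lib.ThreeTransp

variable {G : Type*} [Group G] {D : Set G}

/-- `p` is the unique other member commuting with `y`. -/
def IsPartner (D : Set G) (y p : G) : Prop :=
  p ∈ D ∧ p ≠ y ∧ Commute y p ∧ ∀ z ∈ D, Commute y z → z = y ∨ z = p

theorem exists_partner (hD : Cfsg.IsThreeTranspositionClass D) {d : G} (hd : d ∈ D)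
    (hm : {y : G | y ∈ D ∧ Commute d y}.ncard = 2) : ∀ y ∈ D, ∃ p, IsPartner D y p := by
  obtain ⟨u, v, huv, h⟩ := Set.ncard_eq_two.mp hm
  have hc := (group_of_class hD).2.1
  have hdd : d ∈ ({u, v} : Set G) := h ▸ ⟨hd, Commute.refl d⟩
  obtain ⟨d', hd'⟩ : ∃ d', IsPartner D d d' := by
    simp only [Set.mem_insert_iff, Set.mem_singleton_iff] at hdd
    rcases hdd with e | e
    · have hv : v ∈ {y : G | y ∈ D ∧ Commute d y} := by rw [h]; simp
      refine ⟨v, hv.1, by rw [e]; exact huv.symm, hv.2, fun z hz hzc => ?_⟩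
      have : z ∈ ({u, v} : Set G) := h ▸ ⟨hz, hzc⟩
      simpa [e] using this
    · have hu : u ∈ {y : G | y ∈ D ∧ Commute d y} := by rw [h]; simp
      refine ⟨u, hu.1, by rw [e]; exact huv, hu.2, fun z hz hzc => ?_⟩
      have : z ∈ ({u, v} : Set G) := h ▸ ⟨hz, hzc⟩
      simpa [e, or_comm] using this
  intro y hy
  obtain ⟨g, rfl⟩ := class_conj hD hd hy
  refine ⟨g * d' * g⁻¹, hc g _ hd'.1, fun e => hd'.2.1 (by simpa using e),
    (commute_conj_iff g).mpr hd'.2.2.1, fun z hz hzc => ?_⟩
  obtain ⟨w, rfl⟩ : ∃ w, z = g * w * g⁻¹ := ⟨g⁻¹ * z * g, by simp [mul_assoc]⟩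
  have hw : w ∈ D := by simpa [mul_assoc] using hc g⁻¹ _ hz
  rcases hd'.2.2.2 w hw ((commute_conj_iff g).mp hzc) with rfl | rfl
  exacts [Or.inl rfl, Or.inr rfl]

/-- The copy of the symmetric group carried by two blocks. -/
theorem exists_sym (hS : Cfsg.IsThreeTranspositionSet D)
    (hc : ∀ g : G, ∀ d ∈ D, g * d * g⁻¹ ∈ D) (hfull : ∀ u ∈ D, ∀ v ∈ D, ∀ w ∈ D, Commute u v → Commute u w → Commute v w) {x y y' x' : G} (hy : y ∈ D) (hx : x ∈ D)
    (hy' : IsPartner D y y') (hx' : IsPartner D x x') (h : ¬ Commute y x) :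
    ∃ φ : Equiv.Perm (Fin 4) →* G, Function.Injective φ ∧ φ (Equiv.swap 0 1) = y ∧
      φ (Equiv.swap 1 2) = x ∧ φ (Equiv.swap 2 3) = y' ∧ φ (Equiv.swap 0 3) = x' := by
  have h' : ¬ Commute y' x := by
    -- conjugation by `y'` fixes `y`, so `y' x y'` ...
    intro c
    rcases hx'.2.2.2 y' hy'.1 c.symm with e | e
    · exact h (e ▸ hy'.2.2.1)
    · exact h (hfull y' hy'.1 y hy x hx hy'.2.2.1.symm c)
  obtain ⟨φ, h01, h12, h23⟩ := SymFour.exists_hom y x y' (mul_self hS hy) (mul_self hS hx)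
    (mul_self hS hy'.1) (braid hS hy hx h) (braid hS hx hy'.1 fun c => h' c.symm) hy'.2.2.1.eq
  have hinj : Function.Injective φ := SymFour.injective_of_ne (by
    rw [map_mul, h01, h23]
    intro e
    rw [mul_eq_one_iff_eq_inv, inv_eq hS hy'.1] at e
    exact hy'.2.1 e.symm)
  refine ⟨φ, hinj, h01, h12, h23, ?_⟩
  have hmem : φ (Equiv.swap 0 3) ∈ D := by
    rw [show Equiv.swap (0 : Fin 4) 3 = (Equiv.swap 0 1 * Equiv.swap 2 3) * Equiv.swap 1 2 *
      (Equiv.swap 0 1 * Equiv.swap 2 3)⁻¹ from by decide, map_mul, map_mul, map_inv, h12]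
    exact hc _ _ hx
  have hcom : Commute x (φ (Equiv.swap 0 3)) := by
    rw [← h12]
    exact Commute.map (show Commute (Equiv.swap (1 : Fin 4) 2) (Equiv.swap 0 3) from by
      show _ * _ = _ * _; decide) φ
  rcases hx'.2.2.2 _ hmem hcom with e | e
  · exact absurd (hinj (e.trans h12.symm)) (by decide)
  · exact e

theorem main (hD : Cfsg.IsThreeTranspositionClass D) (hD2 : ∃ a ∈ D, ∃ b ∈ D, a ≠ b) {d : G}
    (hd : d ∈ D)
    (hV : {y : G | y ∈ D ∧ Commute d y} = {v : G | v ∈ D ∧ ∀ e ∈ D, Commute v e ↔ Commute d e})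
    (hm : {y : G | y ∈ D ∧ Commute d y}.ncard = 2) :
    Nonempty (G ≃* Equiv.Perm (Fin 4)) := by
  have hS := hD.1
  have hc := (group_of_class hD).2.1
  have hfull : ∀ u ∈ D, ∀ v ∈ D, ∀ w ∈ D, Commute u v → Commute u w → Commute v w := by
    intro u hu v hv w hw huv huw
    obtain ⟨g, rfl⟩ := class_conj hD hd hu
    obtain ⟨v, rfl⟩ : ∃ z, v = g * z * g⁻¹ := ⟨g⁻¹ * v * g, by simp [mul_assoc]⟩
    obtain ⟨w, rfl⟩ : ∃ z, w = g * z * g⁻¹ := ⟨g⁻¹ * w * g, by simp [mul_assoc]⟩
    rw [commute_conj_iff] at huv huw ⊢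
    have hv' : v ∈ D := by simpa [mul_assoc] using hc g⁻¹ _ hv
    have hw' : w ∈ D := by simpa [mul_assoc] using hc g⁻¹ _ hw
    have : v ∈ {y : G | y ∈ D ∧ Commute d y} := ⟨hv', huv⟩
    rw [hV] at this
    exact (this.2 w hw').mpr huw
  choose! p hp using exists_partner hD hd hm
  -- conjugation of the block products
  have hE : ∀ y ∈ D, ∀ x ∈ D, ¬ Commute y x →
      y * (x * p x) * y = (y * p y) * (x * p x) := by
    intro y hy x hx h
    obtain ⟨φ, -, h01, h12, h23, h03⟩ := exists_sym hS hc hfull hy hx (hp y hy) (hp x hx) h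
    rw [← h23, ← h03, ← h01, ← h12, ← map_mul, ← map_mul, ← map_mul, ← map_mul, ← map_mul]
    congr 1
    decide
  have hself : ∀ y ∈ D, y * (y * p y) * y = y * p y := fun y hy => by
    rw [mul_self_assoc hS hy, (hp y hy).2.2.1.eq]
  obtain ⟨a, ha⟩ : ∃ a, a ∈ D := ⟨d, hd⟩
  obtain ⟨b, hb, hab⟩ := exists_not_commute hD hD2 ha
  obtain ⟨φ, hinj, h01, h12, h23, h03⟩ := exists_sym hS hc hfull ha hb (hp a ha) (hp b hb) hab
  set c := a * b * a with hcdef
  have hcD : c ∈ D := third_mem hS hc ha hb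
  have h02 : φ (Equiv.swap 0 2) = c := by
    rw [show Equiv.swap (0 : Fin 4) 2 = Equiv.swap 0 1 * Equiv.swap 1 2 * Equiv.swap 0 1 from by decide,
      map_mul, map_mul, h01, h12]
  have hblocks : ∀ w ∈ D, Commute a w ∨ Commute b w ∨ Commute c w := by
    intro w hw
    by_contra! hno
    obtain ⟨hwa, hwb, hwc⟩ := hno
    have e1 := hE c hcD w hw hwc
    have e2 : c * (w * p w) * c = w * p w := by
      calc c * (w * p w) * c = a * (b * (a * (w * p w) * a) * b) * a := by
            simp [hcdef, mul_assoc]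
        _ = a * ((b * (a * p a) * b) * (b * (w * p w) * b)) * a := by
            rw [hE a ha w hw hwa]; simp [mul_assoc, mul_self_assoc hS hb]
        _ = a * ((b * p b) * (a * p a) * ((b * p b) * (w * p w))) * a := by
            rw [hE b hb a ha fun h => hab h.symm, hE b hb w hw hwb]
        _ = a * ((a * p a) * (w * p w)) * a := by
            obtain ⟨ψ, -, k01, k12, k23, k03⟩ := exists_sym hS hc hfull hb ha (hp b hb) (hp a ha)
              fun h => hab h.symm
            have : (b * p b) * (a * p a) * (b * p b) = a * p a := by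
              rw [← k23, ← k03, ← k01, ← k12, ← map_mul, ← map_mul, ← map_mul, ← map_mul]
              congr 1
              decide
            rw [← mul_assoc ((b * p b) * (a * p a)), this]
        _ = (a * (a * p a) * a) * (a * (w * p w) * a) := by
            simp [mul_assoc, mul_self_assoc hS ha]
        _ = w * p w := by
            rw [hself a ha, hE a ha w hw hwa, ← mul_assoc]
            have : (a * p a) * (a * p a) = 1 := by
              rw [← pow_two]; exact (commute_iff_sq hS ha (hp a ha).1).mp (hp a ha).2.2.1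
            rw [this, one_mul]
    rw [e2] at e1
    have h1 : c * p c = 1 := by simpa using e1.symm
    rw [mul_eq_one_iff_eq_inv, inv_eq hS (hp c hcD).1] at h1
    exact (hp c hcD).2.1 h1.symm
  have hrange : D ⊆ φ.range := by
    intro w hw
    have h13mem : φ (Equiv.swap 1 3) ∈ D := by
      rw [show Equiv.swap (1 : Fin 4) 3 = Equiv.swap 2 3 * Equiv.swap 1 2 * Equiv.swap 2 3 from by decide,
        map_mul, map_mul, h12, h23]
      exact third_mem hS hc (hp a ha).1 hb
    rcases hblocks w hw with h | h | h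
    · rcases (hp a ha).2.2.2 w hw h with rfl | rfl
      exacts [⟨_, h01⟩, ⟨_, h23⟩]
    · rcases (hp b hb).2.2.2 w hw h with rfl | rfl
      exacts [⟨_, h12⟩, ⟨_, h03⟩]
    · rcases (hp c hcD).2.2.2 w hw h with rfl | rfl
      · exact ⟨_, h02⟩
      · have hcom : Commute c (φ (Equiv.swap 1 3)) := by
          rw [← h02]
          exact Commute.map (show Commute (Equiv.swap (0 : Fin 4) 2) (Equiv.swap 1 3) from by
            show _ * _ = _ * _; decide) φ
        refine ⟨Equiv.swap 1 3, ?_⟩
        rcases (hp c hcD).2.2.2 _ h13mem hcom with e | e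
        · exact absurd (hinj (e.trans h02.symm)) (by decide)
        · exact e
  have hsurj : Function.Surjective φ := by
    intro g
    have : Subgroup.closure D ≤ φ.range := (Subgroup.closure_le _).mpr hrange
    rw [hD.2.2] at this
    exact this (Subgroup.mem_top g)
  exact ⟨(MulEquiv.ofBijective φ ⟨hinj, hsurj⟩).symm⟩


/-- Let D be a conjugacy class of 3-transpositions generating the finite group G, with at least two members, and d a member of D. Suppose that every member of D commuting with d commutes with exactly the same members of D as d does, and that exactly one member of D other than d commutes with d. Then G is isomorphic to the symmetric group of degree 4. -/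
theorem result {G : Type*} [Group G] [Finite G] {D : Set G} (hD : Cfsg.IsThreeTranspositionClass D) (hD2 : ∃ a ∈ D, ∃ b ∈ D, a ≠ b) {d : G} (hd : d ∈ D) (hV : {y : G | y ∈ D ∧ Commute d y} = {v : G | v ∈ D ∧ ∀ e ∈ D, Commute v e ↔ Commute d e}) (hm : {y : G | y ∈ D ∧ Commute d y}.ncard = 2) : Nonempty (G ≃* Equiv.Perm (Fin 4)) := by
  exact main hD hD2 hd hV hm

end Cfsg.Agent.S5355
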