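import Cfsg.Statements.S5356
import Mathlib
import Cfsg.Agent.Lib.ThreeTransp.Blocks
import Cfsg.Agent.Lib.Core.Nilpotent

set_option autoImplicit false
open Cfsg

namespace Cfsg.Agent.S5356

open Lib.ThreeTransp

section Core

variable {Q : Type*} [Group Q] [Finite Q]

theorem commute_of_sq {A : Subgroup Q} (h : ∀ a ∈ A, a * a = 1) {a b : Q} (ha : a ∈ A)
    (hb : b ∈ A) : a * b = b * a := by
  have h1 := h _ (mul_mem ha hb)
  rw [mul_eq_one_iff_eq_inv, mul_inv_rev, inv_eq_of_mul_eq_one_right (h a ha),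
    inv_eq_of_mul_eq_one_right (h b hb)] at h1
  exact h1

theorem eq_one_of_sq_of_mem {P : Subgroup Q} (hP : IsPGroup 3 P) {a : Q} (haP : a ∈ P)
    (h : a * a = 1) : a = 1 := by
  obtain ⟨k, hk⟩ := hP ⟨a, haP⟩
  have h1 := pow_gcd_eq_one.mpr ⟨(pow_two a).trans h, (congrArg Subtype.val hk : a ^ 3 ^ k = 1)⟩
  rwa [((Nat.coprime_primes Nat.prime_two Nat.prime_three).mpr (by norm_num)).pow_right k,
    pow_one] at h1

/-- A fixed-point-free automorphism of order three of an elementary abelian 2-group, inside `Q`. -/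
theorem prod_orbit_eq_one {A : Subgroup Q} [hA : A.Normal] (h2 : ∀ a ∈ A, a * a = 1) {z : Q}
    (hfree : ∀ c ∈ A, z * c * z⁻¹ = c → c = 1)
    (hz3 : ∀ c ∈ A, z * (z * (z * c * z⁻¹) * z⁻¹) * z⁻¹ = c) {c : Q} (hc : c ∈ A) :
    c * (z * c * z⁻¹) * (z * (z * c * z⁻¹) * z⁻¹) = 1 := by
  have h1 := hA.conj_mem c hc z
  have h1' := hA.conj_mem _ h1 z
  refine hfree _ (mul_mem (mul_mem hc h1) h1') ?_
  have e : z * (c * (z * c * z⁻¹) * (z * (z * c * z⁻¹) * z⁻¹)) * z⁻¹ =
      (z * c * z⁻¹) * (z * (z * c * z⁻¹) * z⁻¹) * (z * (z * (z * c * z⁻¹) * z⁻¹) * z⁻¹) := by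
    group
  rw [e, hz3 c hc, commute_of_sq h2 (mul_mem h1 h1') hc, mul_assoc c]

theorem core (P : Sylow 3 Q) (A : Subgroup Q) [hA : A.Normal] (h2 : ∀ a ∈ A, a * a = 1) {s : Q}
    (hs : s * s = 1) (hsL : s ∈ Subgroup.normalizer (((P : Subgroup Q) ⊔ A : Subgroup Q) : Set Q))
    (hirr : ∀ B : Subgroup Q, B ≤ A → (∀ b ∈ B, s * b * s ∈ B) →
      (∀ p ∈ P, ∀ b ∈ B, p * b * p⁻¹ ∈ B) → B = ⊥ ∨ B = A)
    (S : Set Q) (hsS : s ∈ S) (hconj : ∀ g : Q, ∀ e ∈ S, g * e * g⁻¹ ∈ S)
    (hfib : ∀ e ∈ S, e * s ∈ A → ∃ b ∈ A, e = b * s * b⁻¹) :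
    ∃ t ∈ S, t ∈ Subgroup.normalizer ((P : Subgroup Q) : Set Q) := by
  classical
  have : Fact (Nat.Prime 3) := ⟨Nat.prime_three⟩
  have hsi : s⁻¹ = s := inv_eq_of_mul_eq_one_right hs
  have hA' : ∀ g : Q, ∀ c ∈ A, g * c * g⁻¹ ∈ A := fun g c hc => hA.conj_mem c hc g
  -- an element of the coset of `s` normalising `P`
  obtain ⟨a, ha, hx⟩ : ∃ a ∈ A, a * s ∈ Subgroup.normalizer ((P : Subgroup Q) : Set Q) := by
    set L := (P : Subgroup Q) ⊔ A with hL
    have hPL : (P : Subgroup Q) ≤ L := le_sup_left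
    have hsP : ((s • P : Sylow 3 Q) : Subgroup Q) ≤ L := by
      intro y hy
      rw [Sylow.coe_subgroup_smul] at hy
      obtain ⟨q, hq, rfl⟩ := hy
      exact (Subgroup.mem_normalizer_iff.mp hsL q).mp (hPL hq)
    obtain ⟨l, hl⟩ := MulAction.exists_smul_eq L (P.subtype hPL) ((s • P).subtype hsP)
    rw [Sylow.smul_subtype hPL l] at hl
    have hl' : (l : Q) • P = s • P := Sylow.subtype_injective hl
    obtain ⟨q, hq, b, hb, hqb⟩ := Subgroup.mem_sup_of_normal_right.mp l.2
    refine ⟨q * b * q⁻¹, hA' q b hb, ?_⟩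
    have e : (q * b * q⁻¹) • P = s • P := by
      rw [mul_smul, Sylow.smul_eq_iff_mem_normalizer.mpr
        (Subgroup.le_normalizer (inv_mem hq)), hqb, hl']
    refine Sylow.smul_eq_iff_mem_normalizer.mp ?_
    rw [mul_smul, ← e, ← mul_smul, h2 _ (hA' q b hb), one_smul]
  set x := a * s with hxdef
  clear_value x
  have hai : a⁻¹ = a := inv_eq_of_mul_eq_one_right (h2 a ha)
  have hAP : ∀ c ∈ A, c ∈ (P : Subgroup Q) → c = 1 := fun c hc hcP =>
    eq_one_of_sq_of_mem P.isPGroup' hcP (h2 c hc)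
  have hxA : ∀ c ∈ A, x * c * x⁻¹ = s * c * s := by
    intro c hc
    have hsc : s * c * s ∈ A := by simpa [hsi] using hA' s c hc
    calc x * c * x⁻¹ = a * (s * c * s) * a⁻¹ := by simp [hxdef, hsi, mul_assoc]
      _ = s * c * s := by rw [commute_of_sq h2 ha hsc, mul_inv_cancel_right]
  have hxP : ∀ q, q ∈ P ↔ x * q * x⁻¹ ∈ P := fun q => Subgroup.mem_normalizer_iff.mp hx q
  rcases hirr (A ⊓ Subgroup.centralizer ((P : Subgroup Q) : Set Q)) inf_le_left
      (by
        intro c ⟨hc, hc'⟩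
        rw [← hxA c hc]
        refine ⟨hA' x c hc, fun q hq => ?_⟩
        have hq' : x⁻¹ * q * x ∈ P := (hxP _).mpr (by simpa [mul_assoc] using hq)
        calc q * (x * c * x⁻¹) = x * ((x⁻¹ * q * x) * c) * x⁻¹ := by group
          _ = x * (c * (x⁻¹ * q * x)) * x⁻¹ := by rw [hc' _ hq']
          _ = x * c * x⁻¹ * q := by group)
      (by
        intro p hp c ⟨hc, hc'⟩
        refine ⟨hA' p c hc, ?_⟩
        rw [hc' p hp, mul_inv_cancel_right]
        exact hc') with hB | hB
  swap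
  · -- `A` centralises `P`
    refine ⟨s, hsS, ?_⟩
    have ha' : a ∈ Subgroup.normalizer ((P : Subgroup Q) : Set Q) := by
      have h : a ∈ A ⊓ Subgroup.centralizer ((P : Subgroup Q) : Set Q) := hB.symm ▸ ha
      rw [Subgroup.mem_normalizer_iff]
      intro q
      constructor
      · intro hq
        rw [← h.2 q hq, mul_inv_cancel_right]; exact hq
      · intro hq
        have h2' := h.2 _ hq
        have : a * q * a⁻¹ = q := by
          have h3 : a * (a * q * a⁻¹) = a * q := by rw [← h2']; group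
          exact mul_left_cancel h3
        rwa [this] at hq
    have := mul_mem (inv_mem ha') hx
    rwa [hxdef, inv_mul_cancel_left] at this
  have hnoA : ∀ c ∈ A, c ∈ Subgroup.normalizer ((P : Subgroup Q) : Set Q) → c = 1 := by
    intro c hc hcN
    have h : c ∈ A ⊓ Subgroup.centralizer ((P : Subgroup Q) : Set Q) := by
      refine ⟨hc, fun q hq => ?_⟩
      have h1 : c * q * c⁻¹ * q⁻¹ = 1 := by
        refine hAP _ ?_ (mul_mem ((Subgroup.mem_normalizer_iff.mp hcN q).mp hq) (inv_mem hq))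
        rw [show c * q * c⁻¹ * q⁻¹ = c * (q * c⁻¹ * q⁻¹) by group]
        exact mul_mem hc (hA' q _ (inv_mem hc))
      rw [mul_inv_eq_one, mul_inv_eq_iff_eq_mul] at h1
      exact h1.symm
    rw [hB] at h
    exact h
  have hxx : x * x = 1 := by
    refine hnoA _ ?_ (mul_mem hx hx)
    rw [show x * x = a * (s * a * s⁻¹) * (s * s) by rw [hxdef]; group, hs, mul_one]
    exact mul_mem ha (hA' s a ha)
  have hxi : x⁻¹ = x := inv_eq_of_mul_eq_one_right hxx
  have hsa : s * a * s = a := by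
    have h : a * (s * a * s) = 1 := by rw [← hxx, hxdef]; group
    rw [mul_eq_one_iff_eq_inv'] at h
    rw [h, hai]
  -- it suffices to solve `a = c * (x c x)`
  suffices key : ∃ c ∈ A, a = c * (x * c * x) by
    obtain ⟨c, hc, hac⟩ := key
    refine ⟨c * s * c⁻¹, hconj c s hsS, ?_⟩
    have hxc : x * c * x = s * c * s := by
      have := hxA c hc; rwa [hxi] at this
    rw [hxc] at hac
    have : c * s * c⁻¹ = x := by
      rw [inv_eq_of_mul_eq_one_right (h2 c hc), hxdef, hac]
      simp [mul_assoc, hs]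
    rw [this]; exact hx
  by_cases hA1 : a = 1
  · exact ⟨1, one_mem A, by simp [hA1, hxx]⟩
  -- the action on `A`
  set f : Q →* MulAut A := MulAut.conjNormal with hf
  have hfa : ∀ (g : Q) (c : A), ((f g c : A) : Q) = g * c * g⁻¹ := fun g c =>
    MulAut.conjNormal_apply g c
  set I := (P : Subgroup Q).map f with hI
  have hIp : IsPGroup 3 I := P.isPGroup'.map f
  have hIne : I ≠ ⊥ := by
    intro h
    apply hA1
    have : a ∈ A ⊓ Subgroup.centralizer ((P : Subgroup Q) : Set Q) := by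
      refine ⟨ha, fun q hq => ?_⟩
      have h1 : f q ∈ I := ⟨q, hq, rfl⟩
      rw [h, Subgroup.mem_bot] at h1
      have := hfa q ⟨a, ha⟩
      rw [h1] at this
      exact (mul_inv_eq_iff_eq_mul.mp this.symm)
    rw [hB] at this
    exact this
  have : Nontrivial I := I.nontrivial_iff_ne_bot.mpr hIne
  have : Finite (MulAut A) := Finite.of_injective (fun e => (e : A → A)) DFunLike.coe_injective
  obtain ⟨ζ, hζ⟩ : ∃ ζ : Subgroup.center I, orderOf ζ = 3 := by
    refine exists_prime_orderOf_dvd_card' 3 ?_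
    have := hIp.center_nontrivial
    obtain ⟨k, hk⟩ := (IsPGroup.iff_card).mp (hIp.to_subgroup (Subgroup.center I))
    rcases k with _ | k
    · exact absurd hk (by rw [pow_zero]; exact Finite.one_lt_card.ne')
    · exact hk ▸ dvd_pow_self 3 (Nat.succ_ne_zero k)
  set ξ := f x with hξ
  have hξ2 : ξ * ξ = 1 := by rw [hξ, ← map_mul, hxx, map_one]
  have hξI : ∀ i ∈ I, ξ * i * ξ ∈ I := by
    rintro _ ⟨q, hq, rfl⟩
    refine ⟨x * q * x⁻¹, (hxP q).mp hq, ?_⟩
    rw [map_mul, map_mul, hxi]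
  set e₀ : MulAut A := ((ζ : I) : MulAut A) with he₀
  have he₀I : e₀ ∈ I := (ζ : I).2
  have he₀c : ∀ i ∈ I, e₀ * i = i * e₀ := fun i hi =>
    (congrArg Subtype.val (Subgroup.mem_center_iff.mp ζ.2 ⟨i, hi⟩)).symm
  have he₀3 : e₀ ^ 3 = 1 := by
    have : ζ ^ 3 = 1 := hζ ▸ pow_orderOf_eq_one ζ
    exact congrArg (fun y : Subgroup.center I => ((y : I) : MulAut A)) this
  have he₀1 : e₀ ≠ 1 := by
    intro h
    have : ζ = 1 := Subtype.ext (Subtype.ext h)
    rw [this, orderOf_one] at hζ; omega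
  -- a fixed-point-free element centralised or inverted by `ξ`
  have free : ∀ g : Q, g ∈ P → f g ≠ 1 → (∀ i ∈ I, f g * i = i * f g) →
      (∀ c : A, f g c = c → f g (ξ c) = ξ c) → ∀ c ∈ A, g * c * g⁻¹ = c → c = 1 := by
    intro g _ hg hgc hgx c hc hgc'
    set B : Subgroup Q := A ⊓ Subgroup.centralizer ({g} : Set Q) with hBdef
    have hmem : ∀ y : A, ((y : Q) ∈ B ↔ f g y = y) := fun y => by
      rw [hBdef, Subgroup.mem_inf, Subgroup.mem_centralizer_singleton_iff, Subtype.ext_iff, hfa,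
        mul_inv_eq_iff_eq_mul]
      exact ⟨fun h => h.2.symm, fun h => ⟨y.2, h.symm⟩⟩
    rcases hirr B inf_le_left
        (fun b hb => by
          have h1 := hgx ⟨b, hb.1⟩ ((hmem ⟨b, hb.1⟩).mp hb)
          have h2' : ((ξ ⟨b, hb.1⟩ : A) : Q) = s * b * s := by rw [hξ, hfa, hxA b hb.1]
          rw [← h2']
          exact (hmem _).mpr h1)
        (fun q hq b hb => by
          have h1 := (hmem ⟨b, hb.1⟩).mp hb
          have h2' : f g (f q ⟨b, hb.1⟩) = f q ⟨b, hb.1⟩ := by
            rw [← MulAut.mul_apply, hgc (f q) ⟨q, hq, rfl⟩, MulAut.mul_apply, h1]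
          have h3 := (hmem _).mpr h2'
          rwa [hfa] at h3) with h | h
    · have : c ∈ B := (hmem ⟨c, hc⟩).mpr (Subtype.ext (by rw [hfa]; exact hgc'))
      rw [h] at this
      exact this
    · refine absurd (MulEquiv.ext fun y => ?_) hg
      exact (hmem y).mp (h.symm ▸ y.2)
  have three : ∀ g : Q, f g ^ 3 = 1 → ∀ c ∈ A, g * (g * (g * c * g⁻¹) * g⁻¹) * g⁻¹ = c := by
    intro g hg c hc
    have h : ((f g (f g (f g ⟨c, hc⟩)) : A) : Q) = c := by
      rw [← MulAut.mul_apply, ← MulAut.mul_apply, show f g * f g * f g = f g ^ 3 by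
        rw [pow_succ, pow_two], hg]
      rfl
    rwa [hfa, hfa, hfa] at h
  by_cases hcase : e₀ * (ξ * e₀ * ξ) = 1
  · -- inverted
    obtain ⟨z, hz, hze⟩ := he₀I
    have hz3 := three z (hze ▸ he₀3)
    have hfree := free z hz (hze ▸ he₀1) (hze ▸ he₀c) (fun c hc => by
      rw [hze] at hc ⊢
      have h1 : ξ * e₀ * ξ = e₀⁻¹ := eq_inv_of_mul_eq_one_right hcase
      have h2' : (ξ * e₀ * ξ) c = c := by
        rw [h1]
        exact (MulEquiv.symm_apply_eq e₀).mpr hc.symm
      have h3 := congrArg ξ h2'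
      rw [← MulAut.mul_apply, ← mul_assoc, ← mul_assoc, hξ2, one_mul, MulAut.mul_apply] at h3
      exact h3)
    refine ⟨z * a * z⁻¹, hA' z a ha, ?_⟩
    have h4 : x * (z * a * z⁻¹) * x = z * (z * a * z⁻¹) * z⁻¹ := by
      have hxa : x * a * x = a := by rw [← hxA a ha, hxi] at hsa; exact hsa
      have e1 : ((f (x * z * x) ⟨a, ha⟩ : A) : Q) = z * (z * a * z⁻¹) * z⁻¹ := by
        have : f (x * z * x) = f z * f z := by
          rw [map_mul, map_mul, ← hξ, hze]
          have h5 : e₀⁻¹ = e₀ * e₀ := by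
            rw [inv_eq_iff_mul_eq_one, ← mul_assoc]
            rw [pow_succ, pow_two] at he₀3
            exact he₀3
          rw [eq_inv_of_mul_eq_one_right hcase, h5]
        rw [this, MulAut.mul_apply, hfa, hfa]
      rw [hfa, show (x * z * x)⁻¹ = x⁻¹ * (z⁻¹ * x⁻¹) by group, hxi] at e1
      rw [← e1]
      calc x * (z * a * z⁻¹) * x = x * z * (x * (x * a * x) * x) * z⁻¹ * x := by
            simp [mul_assoc, hxx, ← mul_assoc x x]
        _ = _ := by rw [hxa]; simp [mul_assoc]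
    rw [h4]
    have h6 := prod_orbit_eq_one h2 hfree hz3 ha
    rw [mul_assoc, mul_eq_one_iff_inv_eq, hai] at h6
    exact h6
  · -- centralised
    set ω := e₀ * (ξ * e₀ * ξ) with hω
    have hI' := hξI e₀ he₀I
    have hωI : ω ∈ I := mul_mem he₀I hI'
    have hcc : ∀ i ∈ I, (ξ * e₀ * ξ) * i = i * (ξ * e₀ * ξ) := by
      intro i hi
      have := congrArg (fun y => ξ * y * ξ) (he₀c (ξ * i * ξ) (hξI i hi))
      simpa [mul_assoc, hξ2, ← mul_assoc ξ ξ] using this
    have hωc : ∀ i ∈ I, ω * i = i * ω := fun i hi => by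
      rw [hω, mul_assoc, hcc i hi, ← mul_assoc, he₀c i hi, mul_assoc]
    have hω3 : ω ^ 3 = 1 := by
      rw [hω, (show Commute e₀ (ξ * e₀ * ξ) from he₀c _ hI').mul_pow, he₀3, one_mul,
        show ξ * e₀ * ξ = ξ * e₀ * ξ⁻¹ by rw [inv_eq_of_mul_eq_one_right hξ2], conj_pow, he₀3]
      simp
    have hωx : ξ * ω * ξ = ω := by
      calc ξ * ω * ξ = (ξ * e₀ * ξ) * (ξ * (ξ * e₀ * ξ) * ξ) := by
            simp [hω, mul_assoc, ← mul_assoc ξ ξ, hξ2]
        _ = (ξ * e₀ * ξ) * e₀ := by simp [mul_assoc, ← mul_assoc ξ ξ, hξ2]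
        _ = ω := (he₀c _ hI').symm
    obtain ⟨w, hw, hwω⟩ := hωI
    set t := w⁻¹ * (x * w * x) with ht
    have htP : t ∈ P := mul_mem (inv_mem hw) (by simpa [hxi] using (hxP w).mp hw)
    have hft : f t = 1 := by
      rw [ht, map_mul, map_inv, map_mul, map_mul, ← hξ, hwω, hωx, inv_mul_cancel]
    obtain ⟨k, hk⟩ : ∃ k : ℕ, t ^ k * t ^ k = t := by
      obtain ⟨n, hn⟩ := P.isPGroup' ⟨t, htP⟩
      have hn' : t ^ 3 ^ n = 1 := congrArg Subtype.val hn
      have hodd : Odd (3 ^ n) := Odd.pow (by decide)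
      obtain ⟨m, hm⟩ := hodd
      refine ⟨m + 1, ?_⟩
      rw [← pow_add, show m + 1 + (m + 1) = 3 ^ n + 1 by omega, pow_succ, hn', one_mul]
    have hxtk : x * t ^ k * x = (t ^ k)⁻¹ := by
      have h1 : x * t * x⁻¹ = t⁻¹ := by
        rw [hxi, ht]; simp [mul_assoc, hxi, hxx, ← mul_assoc x x]
      rw [show x * t ^ k * x = x * t ^ k * x⁻¹ by rw [hxi], ← conj_pow, h1, inv_pow]
    set z := w * t ^ k with hz
    have hzP : z ∈ P := mul_mem hw (pow_mem htP k)
    have hfz : f z = ω := by rw [hz, map_mul, map_pow, hft, one_pow, mul_one, hwω]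
    have hxz : x * z * x = z := by
      calc x * z * x = (x * w * x) * (x * t ^ k * x) := by
            simp [hz, mul_assoc, ← mul_assoc x x, hxx]
        _ = w * t * (t ^ k)⁻¹ := by rw [hxtk, ht, mul_inv_cancel_left]
        _ = z := by rw [hz, mul_assoc, mul_right_inj, mul_inv_eq_iff_eq_mul, hk]
    have hzx : z * x = x * z := by
      nth_rw 1 [← hxz]
      simp [mul_assoc, hxx]
    have hxz' : x * z⁻¹ * x = z⁻¹ := by
      have := congrArg (fun y => y⁻¹) hxz
      simpa [mul_assoc, hxi] using this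
    have hz3 := three z (hfz ▸ hω3)
    have hfree := free z hzP (hfz ▸ hcase) (hfz ▸ hωc) (fun c hc => by
      rw [hfz] at hc ⊢
      have h1 : ω * ξ = ξ * ω := by
        nth_rw 1 [← hωx]
        simp [mul_assoc, hξ2]
      rw [← MulAut.mul_apply, h1, MulAut.mul_apply, hc])
    have hzs : z * s * z⁻¹ = (z * a * z⁻¹) * x := by
      have : s = a * x := by rw [hxdef, ← mul_assoc, h2 a ha, one_mul]
      rw [this]
      calc z * (a * x) * z⁻¹ = z * a * z⁻¹ * (z * x * z⁻¹) := by group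
        _ = _ := by rw [hzx, mul_inv_cancel_right]
    obtain ⟨b, hb, hbe⟩ := hfib (z * s * z⁻¹) (hconj z s hsS) (by
      rw [hzs, hxdef, show z * a * z⁻¹ * (a * s) * s = z * a * z⁻¹ * a * (s * s) by group, hs, mul_one]
      exact mul_mem (hA' z a ha) ha)
    have hbi : b⁻¹ = b := inv_eq_of_mul_eq_one_right (h2 b hb)
    refine ⟨z * b * z⁻¹, hA' z b hb, ?_⟩
    have hxc : x * (z * b * z⁻¹) * x = z * (s * b * s) * z⁻¹ := by
      rw [← hxA b hb, hxi]
      calc x * (z * b * z⁻¹) * x = (x * z * x) * (x * b * x) * (x * z⁻¹ * x) := by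
            simp [mul_assoc, ← mul_assoc x x, hxx]
        _ = _ := by rw [hxz, hxz']
    have hkey : b * (s * b * s) = z * a * z⁻¹ * a := by
      calc b * (s * b * s) = (b * s * b⁻¹) * s := by simp [hbi, mul_assoc]
        _ = z * a * z⁻¹ * (a * (s * s)) := by rw [← hbe, hzs, hxdef]; simp [mul_assoc]
        _ = _ := by rw [hs, mul_one]
    calc a = z * (z * a * z⁻¹) * z⁻¹ * (z * a * z⁻¹) := by
          have h6 := prod_orbit_eq_one h2 hfree hz3 ha
          rw [mul_assoc, mul_eq_one_iff_inv_eq, hai,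
            commute_of_sq h2 (hA' z a ha) (hA' z _ (hA' z a ha))] at h6
          exact h6
      _ = z * (z * a * z⁻¹ * a) * z⁻¹ := by group
      _ = z * (b * (s * b * s)) * z⁻¹ := by rw [hkey]
      _ = _ := by rw [hxc]; group

end Core

variable {G : Type*} [Group G] {D : Set G}

/-- Two commuting members congruent modulo a normal subgroup are conjugate under it. -/
theorem exists_conj (hS : Cfsg.IsThreeTranspositionSet D) {M : Subgroup G} [hM : M.Normal]
    {d e y : G} (hd : d ∈ D) (he : e ∈ D) (hy : y ∈ D) (hde : Commute d e) (hdy : ¬ Commute d y)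
    (hey : ¬ Commute e y) (hmem : d * e ∈ M) : ∃ b ∈ M, e = b * d * b⁻¹ := by
  have sy := mul_self_assoc hS hy
  refine ⟨y * (d * e) * y⁻¹, hM.conj_mem _ hmem y, ?_⟩
  have h1 := braid hS hd hy hdy
  have h2 := braid hS he hy hey
  rw [mul_inv_rev, mul_inv_rev, inv_inv, inv_eq hS hy, mul_inv_rev, inv_eq hS hd, inv_eq hS he]
  symm
  have sd := mul_self_assoc hS hd
  calc y * (d * e) * y * d * (y * (e * d * y)) = y * d * e * (y * d * y) * (e * d * y) := by
        simp [mul_assoc]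
    _ = y * (d * e * d) * y * (d * e * d) * y := by
        rw [← h1]; simp [mul_assoc]
    _ = (y * e * y) * (e * y) := by
        rw [show d * e * d = e by rw [hde.eq, mul_mul_cancel_right hS hd]]; simp [mul_assoc]
    _ = e := by
        rw [← h2]; simp [mul_assoc, mul_self_assoc hS he, mul_self hS hy]

theorem main [Finite G] (hD : Cfsg.IsThreeTranspositionClass D)
    (hD2 : ∃ a ∈ D, ∃ b ∈ D, a ≠ b) {d : G} (hd : d ∈ D)
    (hV : {y : G | y ∈ D ∧ Commute d y} = {v : G | v ∈ D ∧ ∀ e ∈ D, Commute v e ↔ Commute d e}) :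
    ∃ P : Sylow 3 G, d ∈ Subgroup.normalizer (P : Set G) ∧
      Subgroup.zpowers d ⊔ (P : Subgroup G) ⊔ Cfsg.pCore 2 G = ⊤ := by
  classical
  have : Fact (Nat.Prime 3) := ⟨Nat.prime_three⟩
  obtain ⟨hS, hc, hgen⟩ := group_of_class hD
  have hVall : ∀ y ∈ D, ∀ e ∈ D, Commute y e → e ∈ vSet D y := by
    intro y hy e he hye
    obtain ⟨g, rfl⟩ := class_conj hD hd hy
    obtain ⟨v, rfl⟩ : ∃ v, e = g * v * g⁻¹ := ⟨g⁻¹ * e * g, by simp [mul_assoc]⟩
    rw [commute_conj_iff] at hye
    have hv : v ∈ {y : G | y ∈ D ∧ Commute d y} := ⟨by simpa [mul_assoc] using hc g⁻¹ _ he, hye⟩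
    rw [hV] at hv
    exact conj_mem_vSet hc g hv
  set N := Cfsg.pCore 2 G with hNdef
  have hNn : N.Normal := by
    rw [hNdef]
    exact Subgroup.sSup_normal _ fun H hH => hH.1
  have hN2 : IsPGroup 2 N := Lib.PSolvable.pCore_isPGroup
  set π := QuotientGroup.mk' N with hπ
  have hπs : Function.Surjective π := QuotientGroup.mk'_surjective N
  obtain ⟨P⟩ : Nonempty (Sylow 3 G) := inferInstance
  -- the image has width one
  have hπne : ∀ y ∈ D, π y ≠ 1 := by
    intro y hy h
    have hy' : y ∈ N := (QuotientGroup.eq_one_iff y).mp h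
    obtain ⟨e, he, hne⟩ := exists_not_commute hD hD2 hy
    have h1 : π ((y * e) ^ 2) = 1 := by
      have : y * e * (y * e) = y * (e * y * e⁻¹) := by
        rw [inv_eq hS he]; simp [mul_assoc]
      rw [pow_two, this, hπ, QuotientGroup.mk'_apply, QuotientGroup.eq_one_iff]
      exact mul_mem hy' (hNn.conj_mem y hy' e)
    have h2 := eq_one_of_hom hS hy he π hne (by rw [← map_pow, h1])
    have h3 : y * e ∈ N := (QuotientGroup.eq_one_iff _).mp h2
    exact hne ((mem_vSet_of_inv_mul_mem hS hN2 hy he (by rwa [inv_eq hS hy])).2 y hy |>.mpr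
      (Commute.refl y)).symm
  set S := π '' D with hSdef
  have hSset : Cfsg.IsThreeTranspositionSet S := by
    refine ⟨?_, ?_⟩
    · rintro _ ⟨y, hy, rfl⟩
      have h1 : π y ^ 2 = 1 := by rw [← map_pow, pow_two, mul_self hS hy, map_one]
      exact orderOf_eq_prime (hp := ⟨Nat.prime_two⟩) h1 (hπne y hy)
    · rintro _ ⟨y, hy, rfl⟩ _ ⟨e, he, rfl⟩
      rw [← map_mul, ← map_pow, ← map_pow]
      exact (hS.2 y hy e he).imp (fun h => by rw [h, map_one]) (fun h => by rw [h, map_one])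
  have hSc : ∀ g : G ⧸ N, ∀ y ∈ S, g * y * g⁻¹ ∈ S := by
    rintro g _ ⟨y, hy, rfl⟩
    obtain ⟨g, rfl⟩ := hπs g
    exact ⟨_, hc g y hy, by simp⟩
  have hSw : ∀ a ∈ S, ∀ b ∈ S, Commute a b → a = b := by
    rintro _ ⟨y, hy, rfl⟩ _ ⟨e, he, rfl⟩ h
    by_cases hye : Commute y e
    · have := mul_mem_pCore_two hS hc hy (hVall y hy e he hye)
      exact QuotientGroup.eq.mpr (by rwa [inv_eq hS hy])
    · have h2 : π (y * e) ^ 2 = 1 := by
        rw [map_mul, h.mul_pow, ← map_pow, ← map_pow, pow_two, pow_two, mul_self hS hy,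
          mul_self hS he, map_one, one_mul]
      have h3 : y * e ∈ N := (QuotientGroup.eq_one_iff _).mp (eq_one_of_hom hS hy he π hye h2)
      exact absurd ((mem_vSet_of_inv_mul_mem hS hN2 hy he (by rwa [inv_eq hS hy])).2 y hy |>.mpr
        (Commute.refl y)).symm hye
  have hQ : ∀ g ∈ D, Subgroup.zpowers g ⊔ (P : Subgroup G) ⊔ N = ⊤ := by
    intro g hg
    rw [eq_top_iff, ← hgen, Subgroup.closure_le]
    intro y hy
    have h3 : π g * π y ∈ (P.mapSurjective hπs : Subgroup (G ⧸ N)) :=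
      Lib.PSolvable.pCore_le_sylow _ (mul_mem_pCore_three hSset hSc hSw ⟨g, hg, rfl⟩ ⟨y, hy, rfl⟩)
    rw [Sylow.coe_mapSurjective, ← map_mul] at h3
    obtain ⟨q, hq, hqy⟩ := h3
    have hn : q⁻¹ * (g * y) ∈ N := QuotientGroup.eq.mp hqy
    have : y = g * q * (q⁻¹ * (g * y)) := by
      simp [mul_assoc, mul_self_assoc hS hg]
    rw [this]
    exact mul_mem (mul_mem (Subgroup.mem_sup_left (Subgroup.mem_sup_left (Subgroup.mem_zpowers g)))
      (Subgroup.mem_sup_left (Subgroup.mem_sup_right hq))) (Subgroup.mem_sup_right hn)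
  -- descend along normal 2-subgroups
  have descend : ∀ M : Subgroup G, M.Normal → M ≤ N →
      (∃ t ∈ D, t ∈ Subgroup.normalizer (((P : Subgroup G) ⊔ M : Subgroup G) : Set G)) →
      ∃ t ∈ D, t ∈ Subgroup.normalizer ((P : Subgroup G) : Set G) := by
    intro M
    induction hn : Nat.card M using Nat.strong_induction_on generalizing M with
    | _ n ih =>
      intro hMn hMN hst
      subst hn
      by_cases hM1 : M = ⊥
      · obtain ⟨t, ht, htn⟩ := hst
        rw [hM1, sup_bot_eq] at htn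
        exact ⟨t, ht, htn⟩
      obtain ⟨s, hs, hsn⟩ := hst
      obtain ⟨K, ⟨hKn, hKM⟩, hKmax⟩ : ∃ K : Subgroup G, (K.Normal ∧ K < M) ∧
          ∀ K' : Subgroup G, K'.Normal → K' < M → K ≤ K' → K = K' := by
        obtain ⟨K, hK, hmax⟩ := Set.Finite.exists_maximalFor id
          {K : Subgroup G | K.Normal ∧ K < M} (Set.toFinite _)
          ⟨⊥, inferInstance, bot_lt_iff_ne_bot.mpr hM1⟩
        exact ⟨K, hK, fun K' h1 h2 h3 => le_antisymm h3 (hmax ⟨h1, h2⟩ h3)⟩
      set ψ := QuotientGroup.mk' K with hψ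
      have hψs : Function.Surjective ψ := QuotientGroup.mk'_surjective K
      set A := M.map ψ with hA
      have hAn : A.Normal := hMn.map ψ hψs
      have hcomap : A.comap ψ = M := by
        rw [hA, Subgroup.comap_map_eq, hψ, QuotientGroup.ker_mk', sup_eq_left.mpr hKM.le]
      have hmin : ∀ B : Subgroup (G ⧸ K), B.Normal → B ≤ A → B = ⊥ ∨ B = A := by
        intro B hB hBA
        by_cases h : B.comap ψ = M
        · right
          rw [← Subgroup.map_comap_eq_self_of_surjective hψs B, h]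
        · left
          have h1 : B.comap ψ ≤ M := hcomap ▸ Subgroup.comap_mono hBA
          have h2 := hKmax _ (hB.comap ψ) (lt_of_le_of_ne h1 h) (fun k hk => by
            rw [Subgroup.mem_comap, hψ, QuotientGroup.mk'_apply, (QuotientGroup.eq_one_iff k).mpr hk]
            exact one_mem B)
          rw [← Subgroup.map_comap_eq_self_of_surjective hψs B, ← h2]
          exact QuotientGroup.map_mk'_self K
      have hA2 : IsPGroup 2 A := (hN2.to_le hMN).map ψ
      have hAne : A ≠ ⊥ := fun h => by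
        rw [h] at hcomap
        exact hKM.ne (by rw [← hcomap, MonoidHom.comap_bot, hψ, QuotientGroup.ker_mk'])
      have : Fact (Nat.Prime 2) := ⟨Nat.prime_two⟩
      have : Nontrivial A := A.nontrivial_iff_ne_bot.mpr hAne
      -- a 2-group acting on `A` fixes something
      have hNA : ∀ g ∈ N, ∀ b ∈ A, ψ g * b = b * ψ g := by
        have hN'n : (N.map ψ).Normal := hNn.map ψ hψs
        have hN' : IsPGroup 2 (N.map ψ) := hN2.map ψ
        have hBn : (A ⊓ Subgroup.centralizer ((N.map ψ : Subgroup (G ⧸ K)) : Set (G ⧸ K))).Normal :=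
          inferInstance
        rcases hmin _ hBn inf_le_left with h | h
        · exfalso
          have hle : A.subgroupOf (N.map ψ) ≠ ⊥ := by
            rw [Ne, Subgroup.subgroupOf_eq_bot, disjoint_iff,
              inf_eq_left.mpr (Subgroup.map_mono hMN)]
            exact hAne
          have hn' : (A.subgroupOf (N.map ψ)).Normal := Subgroup.Normal.subgroupOf hAn _
          have := hN'.isNilpotent
          obtain ⟨y, hy, hy1⟩ := (Subgroup.bot_or_exists_ne_one _).resolve_left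
            (Lib.Nilp.inf_center_ne_bot_of_normal (hN := hn') hle)
          have : (y : G ⧸ K) ∈ A ⊓ Subgroup.centralizer ((N.map ψ : Subgroup (G ⧸ K)) : Set (G ⧸ K)) :=
            ⟨hy.1, fun q hq => (congrArg Subtype.val (Subgroup.mem_center_iff.mp hy.2 ⟨q, hq⟩))⟩
          rw [h] at this
          exact hy1 (Subtype.ext this)
        · intro g hg b hb
          rw [← h] at hb
          exact hb.2 _ ⟨g, hg, rfl⟩
      have hAsq : ∀ b ∈ A, b * b = 1 := by
        obtain ⟨b₀, hb₀⟩ : ∃ b₀ : A, orderOf b₀ = 2 := by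
          obtain ⟨k, hk⟩ := IsPGroup.iff_card.mp hA2
          refine exists_prime_orderOf_dvd_card' 2 ?_
          rcases k with _ | k
          · exact absurd hk (by rw [pow_zero]; exact Finite.one_lt_card.ne')
          · exact hk ▸ dvd_pow_self 2 (Nat.succ_ne_zero k)
        have hcomm : ∀ b ∈ A, ∀ c ∈ A, b * c = c * b := by
          intro b hb c hc
          obtain ⟨g, hg, rfl⟩ := hb
          exact hNA g (hMN hg) c hc
        let B : Subgroup (G ⧸ K) :=
          { carrier := {b | b ∈ A ∧ b * b = 1}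
            one_mem' := ⟨one_mem A, one_mul 1⟩
            mul_mem' := fun {b c} hb hc => ⟨mul_mem hb.1 hc.1, by
              rw [mul_assoc, ← mul_assoc c, ← hcomm b hb.1 c hc.1, mul_assoc b c, hc.2, mul_one, hb.2]⟩
            inv_mem' := fun {b} hb => ⟨inv_mem hb.1, by rw [← mul_inv_rev, hb.2, inv_one]⟩ }
        have hBn : B.Normal := ⟨fun b hb g => ⟨hAn.conj_mem b hb.1 g, by
          rw [show g * b * g⁻¹ * (g * b * g⁻¹) = g * (b * b) * g⁻¹ by group, hb.2]; simp⟩⟩
        rcases hmin B hBn (fun b hb => hb.1) with h | h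
        · have h1 : (b₀ : G ⧸ K) ∈ B :=
            ⟨b₀.2, congrArg Subtype.val ((pow_two b₀).symm.trans (hb₀ ▸ pow_orderOf_eq_one b₀))⟩
          rw [h] at h1
          have : b₀ = 1 := Subtype.ext h1
          rw [this, orderOf_one] at hb₀; omega
        · intro b hb
          rw [← h] at hb
          exact hb.2
      have hirrA : ∀ B : Subgroup (G ⧸ K), B ≤ A → (∀ b ∈ B, ψ s * b * ψ s ∈ B) →
          (∀ p ∈ P.mapSurjective hψs, ∀ b ∈ B, p * b * p⁻¹ ∈ B) → B = ⊥ ∨ B = A := by
        intro B hBA hBs hBP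
        refine hmin B ⟨fun b hb g => ?_⟩ hBA
        obtain ⟨g, rfl⟩ := hψs g
        have hg : g ∈ Subgroup.zpowers s ⊔ (P : Subgroup G) ⊔ N := hQ s hs ▸ Subgroup.mem_top g
        have hle : Subgroup.zpowers s ⊔ (P : Subgroup G) ⊔ N ≤
            (Subgroup.normalizer (B : Set (G ⧸ K))).comap ψ := by
          have hfix : ∀ u : G, (∀ c ∈ B, ψ u * c * (ψ u)⁻¹ ∈ B) → ψ u ∈ Subgroup.normalizer (B : Set (G ⧸ K)) :=
            fun u hu => Subgroup.mem_normalizer_fintype hu
          refine sup_le (sup_le (Subgroup.zpowers_le.mpr ?_) fun q hq => ?_) fun n hn => ?_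
          · refine hfix s fun c hcB => ?_
            rw [show (ψ s)⁻¹ = ψ s by rw [← map_inv, inv_eq hS hs]]
            exact hBs c hcB
          · exact hfix q fun c hcB => hBP (ψ q) (by
              show ψ q ∈ (P.mapSurjective hψs : Subgroup (G ⧸ K)); rw [Sylow.coe_mapSurjective]; exact ⟨q, hq, rfl⟩) c hcB
          · exact hfix n fun c hcB => by rwa [hNA n hn c (hBA hcB), mul_inv_cancel_right]
        exact (Subgroup.mem_normalizer_iff.mp (hle hg) b).mp hb
      obtain ⟨_, ⟨t, ht, rfl⟩, htn⟩ := core (P.mapSurjective hψs) A hAsq (s := ψ s)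
        (by rw [← map_mul, mul_self hS hs, map_one])
        (by
          rw [Sylow.coe_mapSurjective, hA, ← Subgroup.map_sup]
          exact Subgroup.le_normalizer_map ψ ⟨s, hsn, rfl⟩)
        hirrA
        (ψ '' D) ⟨s, hs, rfl⟩
        (by
          rintro g _ ⟨y, hy, rfl⟩
          obtain ⟨g, rfl⟩ := hψs g
          exact ⟨_, hc g y hy, by simp⟩)
        (by
          rintro _ ⟨e, he, rfl⟩ hmem
          rw [← map_mul, ← Subgroup.mem_comap, hcomap] at hmem
          have hse : s * e ∈ M := by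
            have := inv_mem hmem
            rwa [mul_inv_rev, inv_eq hS hs, inv_eq hS he] at this
          have hv := mem_vSet_of_inv_mul_mem hS hN2 hs he (by rw [inv_eq hS hs]; exact hMN hse)
          obtain ⟨y, hy, hsy⟩ := exists_not_commute hD hD2 hs
          obtain ⟨b, hb, rfl⟩ := exists_conj hS hs he hy
            ((hv.2 s hs).mpr (Commute.refl s)).symm hsy (fun h => hsy ((hv.2 y hy).mp h)) hse
          exact ⟨ψ b, ⟨b, hb, rfl⟩, by simp⟩)
      · refine ih _ ?_ K rfl hKn (hKM.le.trans hMN) ⟨t, ht, ?_⟩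
        · exact Set.ncard_lt_ncard hKM (Set.toFinite _)
        · have e : (P : Subgroup G) ⊔ K = ((P.mapSurjective hψs : Subgroup (G ⧸ K))).comap ψ := by
            rw [Sylow.coe_mapSurjective, Subgroup.comap_map_eq, hψ, QuotientGroup.ker_mk']
          rw [e]
          exact Subgroup.le_normalizer_comap ψ htn
  obtain ⟨t, ht, htn⟩ := descend N hNn le_rfl ⟨d, hd, by
    have h : Subgroup.zpowers d ⊔ (P : Subgroup G) ⊔ N = ⊤ := hQ d hd
    have hnorm : ((P : Subgroup G) ⊔ N).Normal := by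
      have e : (P : Subgroup G) ⊔ N = ((P.mapSurjective hπs : Subgroup (G ⧸ N))).comap π := by
        rw [Sylow.coe_mapSurjective, Subgroup.comap_map_eq, hπ, QuotientGroup.ker_mk']
      rw [e]
      refine Subgroup.Normal.comap ?_ π
      have hcn : (Cfsg.pCore 3 (G ⧸ N)).Normal := by
        exact Subgroup.sSup_normal _ fun H hH => hH.1
      suffices (P.mapSurjective hπs : Subgroup (G ⧸ N)) = Cfsg.pCore 3 (G ⧸ N) by rwa [this]
      refine le_antisymm (fun q hq => ?_) (Lib.PSolvable.pCore_le_sylow _)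
      set χ := (QuotientGroup.mk' (Cfsg.pCore 3 (G ⧸ N))).comp π
      have hrange : χ.range ≤ Subgroup.zpowers (χ d) := by
        rw [MonoidHom.range_eq_map, ← hgen, MonoidHom.map_closure, Subgroup.closure_le]
        rintro _ ⟨y, hy, rfl⟩
        have : χ y = χ d := by
          refine (QuotientGroup.eq.mpr ?_).symm
          rw [show (π d)⁻¹ = π d by rw [← map_inv, inv_eq hS hd]]
          exact mul_mem_pCore_three hSset hSc hSw ⟨d, hd, rfl⟩ ⟨y, hy, rfl⟩
        rw [this]; exact Subgroup.mem_zpowers _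
      obtain ⟨g, rfl⟩ := hπs q
      obtain ⟨n, hn⟩ := hrange ⟨g, rfl⟩
      have hd2 : χ d * χ d = 1 := by rw [← map_mul, mul_self hS hd, map_one]
      have hg2 : χ g ^ 2 = 1 := by
        rw [← hn, pow_two, ← (Commute.refl (χ d)).mul_zpow n, hd2, one_zpow]
      obtain ⟨k, hk⟩ := (P.mapSurjective hπs).isPGroup' ⟨π g, hq⟩
      have hg3 : χ g ^ 3 ^ k = 1 := by
        show (QuotientGroup.mk' _) (π g) ^ _ = 1
        have hk' : π g ^ 3 ^ k = 1 := congrArg Subtype.val hk
        rw [← map_pow, hk', map_one]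
      have h1 := pow_gcd_eq_one.mpr ⟨hg2, hg3⟩
      rw [((Nat.coprime_primes Nat.prime_two Nat.prime_three).mpr (by norm_num)).pow_right k,
        pow_one] at h1
      exact (QuotientGroup.eq_one_iff _).mp h1
    rw [Subgroup.normalizer_eq_top]
    exact Subgroup.mem_top d⟩
  obtain ⟨g, rfl⟩ := class_conj hD ht hd
  refine ⟨g • P, ?_, ?_⟩
  · rw [← Sylow.smul_eq_iff_mem_normalizer, ← mul_smul, inv_mul_cancel_right, mul_smul,
      Sylow.smul_eq_iff_mem_normalizer.mpr htn]
  · rw [eq_top_iff]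
    intro y _
    have hy : g⁻¹ * y * g ∈ Subgroup.zpowers t ⊔ (P : Subgroup G) ⊔ N := hQ t ht ▸ Subgroup.mem_top _
    have h1 : y ∈ (Subgroup.zpowers t ⊔ (P : Subgroup G) ⊔ N).map (MulAut.conj g).toMonoidHom :=
      ⟨_, hy, by simp [mul_assoc]⟩
    rw [Subgroup.map_sup, Subgroup.map_sup, MonoidHom.map_zpowers] at h1
    refine SetLike.le_def.mp (sup_le_sup le_rfl ?_) h1
    rintro _ ⟨n, hn, rfl⟩
    exact hNn.conj_mem n hn g


/-- Let D be a conjugacy class of 3-transpositions generating the finite group G, with at least two members, and d a member of D such that every member of D commuting with d commutes with exactly the same members of D as d. Then there is a Sylow 3-subgroup P of G normalized by d such that G is generated by d, P and the largest normal 2-subgroup of G. -/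
theorem result {G : Type*} [Group G] [Finite G] {D : Set G} (hD : Cfsg.IsThreeTranspositionClass D) (hD2 : ∃ a ∈ D, ∃ b ∈ D, a ≠ b) {d : G} (hd : d ∈ D) (hV : {y : G | y ∈ D ∧ Commute d y} = {v : G | v ∈ D ∧ ∀ e ∈ D, Commute v e ↔ Commute d e}) : ∃ P : Sylow 3 G, d ∈ Subgroup.normalizer (P : Set G) ∧ Subgroup.zpowers d ⊔ (P : Subgroup G) ⊔ Cfsg.pCore 2 G = ⊤ := by
  exact main hD hD2 hd hV

end Cfsg.Agent.S5356
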