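import Cfsg.Statements.S5358
import Mathlib
import Cfsg.Agent.Lib.ThreeTransp.OrthThree

set_option autoImplicit false
open scoped MatrixGroups
open Cfsg

namespace Cfsg.Agent.S5358

/-- Let Q be a non-degenerate quadratic form on the n-dimensional coordinate space over the field with three elements and u, v vectors of the same non-zero norm Q(u) = Q(v) spanning different lines (v ≠ u and v ≠ −u). Then the reflection matrices of u and v commute if and only if u and v are orthogonal for the polar form of Q. -/
theorem result (n : ℕ) (Q : QuadraticForm (ZMod 3) (Fin n → ZMod 3)) (hQ : (QuadraticMap.polarBilin Q).Nondegenerate) (u v : Fin n → ZMod 3) (hu : Q u ≠ 0) (huv : Q u = Q v) (h1 : v ≠ u) (h2 : v ≠ -u) : Commute (Cfsg.reflectionMatrix (⇑Q) u) (Cfsg.reflectionMatrix (⇑Q) v) ↔ QuadraticMap.polar (⇑Q) u v = 0 := by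
  have _ := hQ
  have hv : Q v ≠ 0 := huv ▸ hu
  constructor
  · intro h
    have h' : Commute (Lib.Orth.refl Q u hu) (Lib.Orth.refl Q v hv) :=
      Subtype.ext (Units.ext h.eq)
    exact (((Lib.ThreeTransp.OrthThree.commute_refl_iff hu hv).mp h').resolve_left h1).resolve_left h2
  · intro h
    have h' := (Lib.ThreeTransp.OrthThree.commute_refl_iff hu hv).mpr (Or.inr (Or.inr h))
    exact congrArg (fun g : ↥(Cfsg.isometryGroup (ZMod 3) ⇑Q) =>
      ((g : Matrix.GeneralLinearGroup (Fin n) (ZMod 3)) : Matrix (Fin n) (Fin n) (ZMod 3))) h'.eq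

end Cfsg.Agent.S5358
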