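import Cfsg.Statements.S5363
import Mathlib
import Cfsg.Agent.Lib.ThreeTransp.Basic

set_option autoImplicit false
open Cfsg

namespace Cfsg.Agent.S5363

/-- Let D be a conjugation-invariant set of involutions of a finite group G. Then every product of two members of D has odd order or order 2 if and only if, for every a in D and every b in D different from a and commuting with a, the members of D commuting with a b are exactly those commuting with both a and b. -/
theorem result {G : Type*} [Group G] [Finite G] {D : Set G} (hinv : ∀ d ∈ D, orderOf d = 2) (hconj : ∀ g : G, ∀ d ∈ D, g * d * g⁻¹ ∈ D) : (∀ a ∈ D, ∀ b ∈ D, Odd (orderOf (a * b)) ∨ orderOf (a * b) = 2) ↔ ∀ a ∈ D, ∀ b ∈ D, b ≠ a → Commute a b → {y : G | y ∈ D ∧ Commute (a * b) y} = {y : G | y ∈ D ∧ Commute a y} ∩ {y : G | y ∈ D ∧ Commute b y} := by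
  have hsq : ∀ d ∈ D, d * d = 1 := fun d hd => by
    rw [← pow_two, ← hinv d hd]; exact pow_orderOf_eq_one d
  have hinvd : ∀ d ∈ D, d⁻¹ = d := fun d hd => inv_eq_of_mul_eq_one_right (hsq d hd)
  have comm_of_sq : ∀ a ∈ D, ∀ b ∈ D, (a * b) ^ 2 = 1 → Commute a b := by
    intro a ha b hb h
    rw [pow_two, mul_eq_one_iff_eq_inv, mul_inv_rev, hinvd a ha, hinvd b hb] at h
    exact h
  constructor
  · intro hodd a ha b hb hne hab
    ext y
    simp only [Set.mem_setOf_eq, Set.mem_inter_iff]
    refine ⟨fun ⟨hy, hc⟩ => ?_, fun ⟨⟨hy, h1⟩, _, h2⟩ => ⟨hy, h1.mul_left h2⟩⟩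
    have hca : Commute a y := by
      have ht1 : a * b ≠ 1 := by
        intro h
        rw [mul_eq_one_iff_eq_inv, hinvd b hb] at h
        exact hne h.symm
      have ht2 : (a * b) * (a * b) = 1 := by
        rw [← pow_two, hab.mul_pow, pow_two, pow_two, hsq a ha, hsq b hb, one_mul]
      have hat : Commute a (a * b) := (Commute.refl a).mul_right hab
      have hayt : Commute (a * y) (a * b) := hat.mul_left hc.symm
      rcases hodd a ha y hy with ho | ho
      swap
      · exact comm_of_sq a ha y hy (by rw [← ho]; exact pow_orderOf_eq_one _)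
      obtain ⟨m, hm⟩ := ho
      set g := (a * y) ^ m with hg
      have hrev : a * (a * y) * a⁻¹ = (a * y)⁻¹ := by
        rw [mul_inv_rev, hinvd a ha, hinvd y hy, ← mul_assoc, hsq a ha, one_mul]
      have hag : a * g⁻¹ * a⁻¹ = g := by
        rw [hg, ← inv_pow, ← conj_pow]
        congr 1
        rw [mul_inv_rev, hinvd y hy, hinvd a ha, mul_assoc, mul_assoc, hsq a ha, mul_one]
      have hga : g * a = a * g⁻¹ := by
        nth_rewrite 1 [← hag]
        rw [inv_mul_cancel_right]
      have hgy : g * a * g⁻¹ = y := by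
        rw [hga, mul_assoc, ← mul_inv_rev]
        have h2 : g * g = (a * y) ^ (2 * m) := by rw [hg, ← pow_add, two_mul]
        have h3 : (a * y) ^ (2 * m) * (a * y) = 1 := by
          rw [← pow_succ, ← hm]; exact pow_orderOf_eq_one _
        rw [h2, inv_eq_of_mul_eq_one_right h3, ← mul_assoc, hsq a ha, one_mul]
      have hgt : Commute g (a * b) := hayt.pow_left m
      have hy' : y * (a * b) = g * b * g⁻¹ := by
        have h : g * a * g⁻¹ * (g * (a * b) * g⁻¹) = g * (a * a) * b * g⁻¹ := by
          simp [mul_assoc]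
        rw [hgy, hgt.eq, mul_inv_cancel_right, hsq a ha, mul_one] at h
        exact h
      have hD' : y * (a * b) ∈ D := hy' ▸ hconj g b hb
      have hpow : ∀ n : ℕ, (a * (y * (a * b))) ^ n = (a * y) ^ n * (a * b) ^ n := fun n => by
        rw [← mul_assoc, hayt.mul_pow]
      have hrt : (a * b) ^ (2 * m + 1) = a * b := by
        rw [pow_succ, pow_mul, pow_two, ht2, one_pow, one_mul]
      have hr : (a * y) ^ (2 * m + 1) = 1 := hm ▸ pow_orderOf_eq_one _
      rcases hodd a ha _ hD' with ho | ho
      · obtain ⟨n, hn⟩ := ho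
        have h := pow_orderOf_eq_one (a * (y * (a * b)))
        rw [hn, hpow, pow_succ (a * b), pow_mul (a * b), pow_two, ht2, one_pow, one_mul] at h
        have h' : ((a * y) ^ (2 * n + 1) * (a * b)) ^ (2 * m + 1) = 1 := by rw [h, one_pow]
        rw [(hayt.pow_left _).mul_pow, ← pow_mul, mul_comm (2 * n + 1), pow_mul, hr, one_pow,
          one_mul, hrt] at h'
        exact absurd h' ht1
      · have h := pow_orderOf_eq_one (a * (y * (a * b)))
        rw [ho, hpow, pow_two (a * b), ht2, mul_one] at h
        exact comm_of_sq a ha y hy h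
    refine ⟨⟨hy, hca⟩, hy, ?_⟩
    have h := (hca).mul_left hc
    rwa [← mul_assoc, hsq a ha, one_mul] at h
  · intro h a ha b hb
    by_contra! hcon
    obtain ⟨hne, hne2⟩ := hcon
    rw [Nat.not_odd_iff_even] at hne
    obtain ⟨k, hk⟩ := hne
    have hpos := orderOf_pos (a * b)
    have hk2 : 2 ≤ k := by omega
    set x := a * b with hx
    set t := x ^ k with ht
    have ht2 : t * t = 1 := by rw [ht, ← pow_add, ← hk]; exact pow_orderOf_eq_one x
    have ht1 : t ≠ 1 := fun h1 => by
      have := Nat.le_of_dvd (by omega) (orderOf_dvd_of_pow_eq_one h1)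
      omega
    have hax : a * x * a⁻¹ = x⁻¹ := by
      rw [hx, mul_inv_rev, hinvd a ha, hinvd b hb, ← mul_assoc, hsq a ha, one_mul]
    have hflip : ∀ j : ℕ, a * x ^ j = (x ^ j)⁻¹ * a := fun j => by
      rw [← inv_pow, ← hax, conj_pow, inv_mul_cancel_right]
    have hat : Commute a t := by
      show a * t = t * a
      rw [ht, hflip, ← ht, inv_eq_of_mul_eq_one_right ht2]
    have hbt : Commute b t := by
      have hb' : b = a * x := by rw [hx, ← mul_assoc, hsq a ha, one_mul]
      rw [hb']
      exact hat.mul_left ((Commute.refl x).pow_right k)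
    have hc : a * t ∈ D := by
      obtain ⟨j, hj⟩ := Nat.even_or_odd' k
      rcases hj with hj | hj
      · have h' : a * t = (x ^ j)⁻¹ * a * ((x ^ j)⁻¹)⁻¹ := by
          rw [ht, hj, two_mul, pow_add, ← mul_assoc, hflip, inv_inv]
        rw [h']; exact hconj _ _ ha
      · have hb' : a * x = b := by rw [hx, ← mul_assoc, hsq a ha, one_mul]
        have hflipb : b * x ^ j = (x ^ j)⁻¹ * b := by
          rw [← hb', mul_assoc, ← pow_succ', pow_succ, ← mul_assoc, hflip, mul_assoc]
        have h' : a * t = (x ^ j)⁻¹ * b * ((x ^ j)⁻¹)⁻¹ := by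
          rw [ht, hj, pow_succ', ← mul_assoc, hb', two_mul, pow_add, ← mul_assoc, hflipb, inv_inv]
        rw [h']; exact hconj _ _ hb
    have hne' : a * t ≠ a := fun e => ht1 (by simpa using e)
    have hset := h a ha (a * t) hc hne' ((Commute.refl a).mul_right hat)
    have hmem : b ∈ {y : G | y ∈ D ∧ Commute (a * (a * t)) y} :=
      ⟨hb, by rw [← mul_assoc, hsq a ha, one_mul]; exact hbt.symm⟩
    rw [hset] at hmem
    have hab : Commute a b := hmem.1.2
    have h2 : x ^ 2 = 1 := by rw [hx, hab.mul_pow, pow_two, pow_two, hsq a ha, hsq b hb, one_mul]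
    have := Nat.le_of_dvd (by omega) (orderOf_dvd_of_pow_eq_one h2)
    omega

end Cfsg.Agent.S5363
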