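import Cfsg.Statements.S5364
import Mathlib
import Cfsg.Agent.Lib.ThreeTransp.Basic

set_option autoImplicit false
open Cfsg

namespace Cfsg.Agent.S5364

/-- Let D be a conjugation-invariant set of involutions of a finite group G and t an involution in the centre of G such that d t does not lie in D for any d in D. If the images of the members of D in G modulo the subgroup generated by t satisfy the 3-transposition order conditions (each has order 2 and any two have product of order at most 3), then so do the members of D. -/
theorem result {G : Type*} [Group G] [Finite G] {D : Set G} (hinv : ∀ d ∈ D, orderOf d = 2) (hconj : ∀ g : G, ∀ d ∈ D, g * d * g⁻¹ ∈ D) (t : G) (ht : orderOf t = 2) (htZ : t ∈ Subgroup.center G) (hDt : ∀ d ∈ D, d * t ∉ D) [(Subgroup.zpowers t).Normal] (himg : Cfsg.IsThreeTranspositionSet ((QuotientGroup.mk : G → G ⧸ Subgroup.zpowers t) '' D)) : Cfsg.IsThreeTranspositionSet D := by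
  refine ⟨hinv, fun d hd e he => ?_⟩
  have hd2 : d * d = 1 := by rw [← pow_two, ← hinv d hd]; exact pow_orderOf_eq_one d
  have he2 : e * e = 1 := by rw [← pow_two, ← hinv e he]; exact pow_orderOf_eq_one e
  have hzp : ∀ x ∈ Subgroup.zpowers t, x = 1 ∨ x = t := by
    intro x hx
    obtain ⟨k, rfl⟩ := Subgroup.mem_zpowers_iff.mp hx
    rw [← zpow_mod_orderOf, ht]
    rcases Int.emod_two_eq k with h | h <;> simp [h]
  have him := himg.2 _ ⟨d, hd, rfl⟩ _ ⟨e, he, rfl⟩
  rw [← QuotientGroup.mk_mul, ← QuotientGroup.mk_pow, ← QuotientGroup.mk_pow, QuotientGroup.eq_one_iff, QuotientGroup.eq_one_iff] at him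
  rcases him with h | h
  · rcases hzp _ h with h1 | h1
    · exact Or.inl h1
    · refine absurd (hconj e d hd) (fun hmem => hDt d hd ?_)
      have : d * t = e * d * e⁻¹ := by
        rw [← h1, pow_two, inv_eq_of_mul_eq_one_right he2]
        simp only [← mul_assoc, hd2, one_mul]
      exact this ▸ hmem
  · rcases hzp _ h with h1 | h1
    · exact Or.inr h1
    · refine absurd (hconj (e * d) e he) (fun hmem => hDt d hd ?_)
      have : d * t = e * d * e * (e * d)⁻¹ := by
        rw [← h1, pow_succ, pow_two, mul_inv_rev, inv_eq_of_mul_eq_one_right he2, inv_eq_of_mul_eq_one_right hd2]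
        simp only [← mul_assoc, hd2, one_mul]
      exact this ▸ hmem

end Cfsg.Agent.S5364
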