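import Cfsg.Statements.S5366
import Mathlib
import Cfsg.Prelude.Def_FischerSpaces

set_option autoImplicit false
open Cfsg

namespace Cfsg.Agent.S5366

open LineSystem

variable {X : Type*} {L : Set (Set X)}

theorem lineMap_eq (hL : IsFischerSpace L) {x y z : X} (hxy : x ≠ y) (hzx : z ≠ x) (hzy : z ≠ y)
    (h : ({x, y, z} : Set X) ∈ L) : lineMap L x y = z := by
  classical
  unfold lineMap
  have hex : ∃ z : X, z ≠ x ∧ z ≠ y ∧ x ≠ y ∧ ({x, y, z} : Set X) ∈ L := ⟨z, hzx, hzy, hxy, h⟩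
  rw [dif_pos hex]
  obtain ⟨h1, h2, -, h4⟩ := hex.choose_spec
  have e := hL.1 _ h4 _ h x y hxy (by simp) (by simp) (by simp) (by simp)
  have hmem : hex.choose ∈ ({x, y, z} : Set X) := e ▸ by simp
  simpa [h1, h2] using hmem

theorem lineMap_self (L : Set (Set X)) (x : X) : lineMap L x x = x := by
  classical
  unfold lineMap
  exact dif_neg fun ⟨z, _, _, h, _⟩ => h rfl

theorem lineMap_fix {x y : X} (h : ∀ z, z ≠ x → z ≠ y → ({x, y, z} : Set X) ∉ L) :
    lineMap L x y = y := by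
  classical
  unfold lineMap
  exact dif_neg fun ⟨z, h1, h2, _, h3⟩ => h z h1 h2 h3

theorem exists_third (hL : IsFischerSpace L) {l : Set X} (hl : l ∈ L) {x y : X} (hxy : x ≠ y)
    (hx : x ∈ l) (hy : y ∈ l) : ∃ z, z ≠ x ∧ z ≠ y ∧ l = {x, y, z} := by
  obtain ⟨a, b, c, hab, hac, hbc, rfl⟩ := Set.ncard_eq_three.mp (hL.2.1 l hl)
  simp only [Set.mem_insert_iff, Set.mem_singleton_iff] at hx hy
  rcases hx with rfl | rfl | rfl <;> rcases hy with rfl | rfl | rfl
  all_goals first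
    | exact absurd rfl hxy
    | exact ⟨a, by grind, by grind, by grind⟩
    | exact ⟨b, by grind, by grind, by grind⟩
    | exact ⟨c, by grind, by grind, by grind⟩

theorem lineMap_lineMap (hL : IsFischerSpace L) (x y : X) : lineMap L x (lineMap L x y) = y := by
  by_cases h : ∃ z, z ≠ x ∧ z ≠ y ∧ x ≠ y ∧ ({x, y, z} : Set X) ∈ L
  · obtain ⟨z, h1, h2, h3, h4⟩ := h
    rw [lineMap_eq hL h3 h1 h2 h4]
    exact lineMap_eq hL (Ne.symm h1) (Ne.symm h3) (Ne.symm h2)
      (by rwa [Set.pair_comm z y])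
  · by_cases hxy : x = y
    · subst hxy; rw [lineMap_self, lineMap_self]
    · have : lineMap L x y = y := lineMap_fix fun z a b c => h ⟨z, a, b, hxy, c⟩
      rw [this, this]

theorem lineMap_mem_line (hL : IsFischerSpace L) {l : Set X} (hl : l ∈ L) {x y : X} (hx : x ∈ l)
    (hy : y ∈ l) : lineMap L x y ∈ l := by
  by_cases hxy : x = y
  · subst hxy; rwa [lineMap_self]
  · obtain ⟨z, h1, h2, rfl⟩ := exists_third hL hl hxy hx hy
    rw [lineMap_eq hL hxy h1 h2 hl]; simp

/-- A model of the plane: a map on the model points agreeing with the third point rule. -/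
theorem image_mem_of_model (hL : IsFischerSpace L) {P : Type*} (M : Set (Set P)) (S : Set X)
    (hS : IsSubspace L S) (e : S ≃ P) (he : IsIso (restrict L S) M e) (f : P → P → P)
    (hself : ∀ a, f a a = a)
    (hline : ∀ a q, a ≠ q → (∃ s ∈ M, a ∈ s ∧ q ∈ s) →
      f a q ≠ a ∧ f a q ≠ q ∧ ∃ s ∈ M, a ∈ s ∧ q ∈ s ∧ f a q ∈ s)
    (hfix : ∀ a q, a ≠ q → (¬ ∃ s ∈ M, a ∈ s ∧ q ∈ s) → f a q = q)
    (himg : ∀ a, ∀ s ∈ M, f a '' s ∈ M)
    {x : X} (hx : x ∈ S) {l : Set X} (hl : l ∈ L) (hlS : l ⊆ S) : lineMap L x '' l ∈ L := by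
  have key : ∀ q : S, lineMap L x q = (e.symm (f (e ⟨x, hx⟩) (e q)) : X) := by
    intro q
    by_cases hq : (⟨x, hx⟩ : S) = q
    · subst hq; rw [hself, e.symm_apply_apply, lineMap_self]
    by_cases hc : ∃ s ∈ M, e ⟨x, hx⟩ ∈ s ∧ e q ∈ s
    · obtain ⟨h1, h2, s, hs, ha, hb, hc'⟩ := hline _ _ (fun h => hq (e.injective h)) hc
      have hpre : (fun z => e.symm z) '' s ∈ restrict L S :=
        (he _).mpr (by rw [Set.image_image]; simpa using hs)
      obtain ⟨k, hk, -, hks⟩ := hpre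
      have mem : ∀ p ∈ s, (e.symm p : X) ∈ k := fun p hp => by
        have : e.symm p ∈ (fun z => e.symm z) '' s := ⟨p, hp, rfl⟩
        rw [hks] at this; exact this
      have hxk : x ∈ k := by simpa using mem _ ha
      have hqk : (q : X) ∈ k := by simpa using mem _ hb
      have hne : x ≠ (q : X) := fun h => hq (Subtype.ext h)
      obtain ⟨z, hz1, hz2, rfl⟩ := exists_third hL hk hne hxk hqk
      rw [lineMap_eq hL hne hz1 hz2 hk]
      have := mem _ hc'
      simp only [Set.mem_insert_iff, Set.mem_singleton_iff] at this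
      rcases this with h | h | h
      · exact absurd (e.symm_apply_eq.mp (Subtype.ext (a2 := ⟨x, hx⟩) h)) h1
      · exact absurd (e.symm_apply_eq.mp (Subtype.ext h)) h2
      · exact h.symm
    · rw [hfix _ _ (fun h => hq (e.injective h)) hc, e.symm_apply_apply]
      refine lineMap_fix fun z _ _ hz => hc ?_
      have hzS : ({x, (q : X), z} : Set X) ⊆ S := hS _ hz x hx q q.2 (fun h => hq (Subtype.ext h))
        (by simp) (by simp)
      exact ⟨_, (he _).mp ⟨_, hz, hzS, rfl⟩, ⟨⟨x, hx⟩, by simp, rfl⟩, ⟨q, by simp, rfl⟩⟩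
  have hm : {q : S | (q : X) ∈ l} ∈ restrict L S := ⟨l, hl, hlS, rfl⟩
  have h1 := himg (e ⟨x, hx⟩) _ ((he _).mp hm)
  have hpre : (fun z => e.symm z) '' (f (e ⟨x, hx⟩) '' (e '' {q : S | (q : X) ∈ l})) ∈ restrict L S :=
    (he _).mpr (by rw [Set.image_image]; simpa using h1)
  obtain ⟨k, hk, hkS, hks⟩ := hpre
  suffices lineMap L x '' l = k by rw [this]; exact hk
  have : Subtype.val '' {q : S | (q : X) ∈ k} = k := by
    ext z; exact ⟨fun ⟨w, hw, h⟩ => h ▸ hw, fun hz => ⟨⟨z, hkS hz⟩, hz, rfl⟩⟩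
  rw [← this, ← hks]
  ext z
  simp only [Set.mem_image, Set.mem_setOf_eq]
  constructor
  · rintro ⟨y, hy, rfl⟩
    exact ⟨_, ⟨_, ⟨_, ⟨⟨y, hlS hy⟩, hy, rfl⟩, rfl⟩, rfl⟩, (key ⟨y, hlS hy⟩).symm⟩
  · rintro ⟨w, ⟨v, ⟨u, ⟨q, hq, rfl⟩, rfl⟩, rfl⟩, rfl⟩
    exact ⟨q, hq, key q⟩

theorem span_isSubspace (L : Set (Set X)) (A : Set X) : IsSubspace L (span L A) := by
  intro l hl x hx y hy hne hxl hyl
  exact Set.subset_sInter fun T hT => hT.2 l hl x (hx T hT) y (hy T hT) hne hxl hyl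

theorem subset_span (L : Set (Set X)) (A : Set X) : A ⊆ span L A :=
  Set.subset_sInter fun _ hT => hT.1

/-- The map of the dual affine plane. -/
def dualMap (a q : DualAffinePoint) : DualAffinePoint :=
  if h : (a.val ∩ q.val).card = 1 then
    ⟨(a.val ∪ q.val) \ (a.val ∩ q.val), by
      have h1 := Finset.card_union_add_card_inter a.val q.val
      rw [Finset.card_sdiff_of_subset (Finset.inter_subset_union)]
      have := a.2; have := q.2; omega⟩
  else q

theorem affine_facts : (∀ a q : Fin 2 → ZMod 3, a ≠ q → -(a + q) ≠ a ∧ -(a + q) ≠ q) ∧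
    ∀ a q : Fin 2 → ZMod 3, q - a = 0 → a = q := by decide +kernel

theorem affine_line : ∀ a q : Fin 2 → ZMod 3, ∀ z ∈ [a, q, -(a + q)],
    ∃ c : ZMod 3, z = a + c • (q - a) := by decide +kernel

theorem dual_facts : ∀ a q : DualAffinePoint, dualMap a a = a ∧ (a ≠ q →
    ((∃ i : Fin 4, i ∉ a.val ∧ i ∉ q.val) → dualMap a q ≠ a ∧ dualMap a q ≠ q ∧
      ∃ i : Fin 4, i ∉ a.val ∧ i ∉ q.val ∧ i ∉ (dualMap a q).val) ∧
    ((¬ ∃ i : Fin 4, i ∉ a.val ∧ i ∉ q.val) → dualMap a q = q)) := by decide +kernel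

theorem dual_image : ∀ a : DualAffinePoint, ∀ i : Fin 4, ∃ j : Fin 4, ∀ p : DualAffinePoint,
    (j ∉ p.val ↔ ∃ s : DualAffinePoint, i ∉ s.val ∧ dualMap a s = p) := by decide +kernel

theorem image_mem (hL : IsFischerSpace L) (x : X) {l : Set X} (hl : l ∈ L) :
    lineMap L x '' l ∈ L := by
  by_cases hxl : x ∈ l
  · suffices lineMap L x '' l = l by rwa [this]
    refine Set.Subset.antisymm ?_ fun y hy => ⟨_, lineMap_mem_line hL hl hxl hy, lineMap_lineMap hL x y⟩
    rintro _ ⟨y, hy, rfl⟩; exact lineMap_mem_line hL hl hxl hy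
  by_cases hcol : ∃ y ∈ l, ∃ z, z ≠ x ∧ z ≠ y ∧ ({x, y, z} : Set X) ∈ L
  swap
  · suffices lineMap L x '' l = l by rwa [this]
    exact (Set.image_congr (g := id) fun y hy => lineMap_fix fun z a b c =>
      hcol ⟨y, hy, z, a, b, c⟩).trans (Set.image_id l)
  obtain ⟨y, hy, z, hzx, hzy, hm⟩ := hcol
  have hne : l ≠ {x, y, z} := fun h => hxl (h ▸ by simp)
  have hsub := span_isSubspace L (l ∪ {x, y, z})
  have hxS : x ∈ span L (l ∪ {x, y, z}) := subset_span L _ (Or.inr (by simp))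
  have hlS : l ⊆ span L (l ∪ {x, y, z}) := fun w hw => subset_span L _ (Or.inl hw)
  rcases hL.2.2 l hl _ hm hne ⟨y, hy, by simp⟩ with ⟨e, he⟩ | ⟨e, he⟩
  · refine image_mem_of_model hL _ _ hsub e he dualMap (fun a => (dual_facts a a).1) ?_ ?_ ?_ hxS hl hlS
    · rintro a q hne' ⟨_, ⟨i, rfl⟩, h⟩
      obtain ⟨h1, h2, j, h3⟩ := ((dual_facts a q).2 hne').1 ⟨i, h⟩
      exact ⟨h1, h2, _, ⟨j, rfl⟩, h3⟩
    · exact fun a q hne' h => ((dual_facts a q).2 hne').2 fun ⟨i, h'⟩ => h ⟨_, ⟨i, rfl⟩, h'⟩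
    · rintro a _ ⟨i, rfl⟩
      obtain ⟨j, hj⟩ := dual_image a i
      exact ⟨j, Set.ext fun p => (hj p).symm⟩
  · refine image_mem_of_model hL _ _ hsub e he (fun a q => -(a + q)) ?_ ?_ ?_ ?_ hxS hl hlS
    · decide +kernel
    · intro a q hne' _
      exact ⟨(affine_facts.1 a q hne').1, (affine_facts.1 a q hne').2, _,
        ⟨a, q - a, fun h => hne' (affine_facts.2 a q h), rfl⟩, affine_line a q a (by simp),
        affine_line a q q (by simp), affine_line a q _ (by simp)⟩
    · intro a q hne' h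
      exact absurd ⟨_, ⟨a, q - a, fun h => hne' (affine_facts.2 a q h), rfl⟩,
        affine_line a q a (by simp), affine_line a q q (by simp)⟩ h
    · rintro a _ ⟨v, w, hw, rfl⟩
      refine ⟨-(a + v), -w, by simpa using hw, ?_⟩
      ext p
      constructor
      · rintro ⟨_, ⟨c, rfl⟩, rfl⟩; exact ⟨c, by module⟩
      · rintro ⟨c, rfl⟩; exact ⟨_, ⟨c, rfl⟩, by module⟩

/-- The permutation attached to a point. -/
noncomputable def perm (hL : IsFischerSpace L) (x : X) : Equiv.Perm X :=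
  ⟨lineMap L x, lineMap L x, lineMap_lineMap hL x, lineMap_lineMap hL x⟩

theorem isIso (hL : IsFischerSpace L) (x : X) : IsIso L L (perm hL x) := by
  intro l
  refine ⟨image_mem hL x, fun h => ?_⟩
  have := image_mem hL x h
  rwa [show lineMap L x '' ((perm hL x) '' l) = l from (Set.image_image _ _ _).trans
    ((Set.image_congr fun y _ => lineMap_lineMap hL x y).trans (Set.image_id' l))] at this

theorem exists_collinear (hL : IsFischerSpace L) (hnd : IsNondegenerate L) (x : X) :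
    ∃ y z, x ≠ y ∧ z ≠ x ∧ z ≠ y ∧ ({x, y, z} : Set X) ∈ L := by
  obtain ⟨l, hl, hx⟩ := hnd x
  obtain ⟨y, hy, hne⟩ := Set.exists_ne_of_one_lt_ncard (by rw [hL.2.1 l hl]; norm_num) x
  obtain ⟨z, h1, h2, rfl⟩ := exists_third hL hl (Ne.symm hne) hx hy
  exact ⟨y, z, Ne.symm hne, h1, h2, hl⟩

theorem orderOf_perm (hL : IsFischerSpace L) (hnd : IsNondegenerate L) (x : X) :
    orderOf (perm hL x) = 2 := by
  have : Fact (Nat.Prime 2) := ⟨Nat.prime_two⟩
  refine orderOf_eq_prime (Equiv.ext fun y => ?_) fun h => ?_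
  · rw [pow_two]; exact lineMap_lineMap hL x y
  · obtain ⟨y, z, h1, h2, h3, h4⟩ := exists_collinear hL hnd x
    have := DFunLike.congr_fun h y
    rw [show perm hL x y = lineMap L x y from rfl, lineMap_eq hL h1 h2 h3 h4] at this
    exact h3 this

theorem exists_perm (hL : IsFischerSpace L) (hnd : IsNondegenerate L) :
    ∀ x : X, ∃ σ : Equiv.Perm X, ⇑σ = lineMap L x ∧ orderOf σ = 2 ∧ IsIso L L σ :=
  fun x => ⟨perm hL x, rfl, orderOf_perm hL hnd x, isIso hL x⟩

theorem perm_conj (hL : IsFischerSpace L) (x y : X) :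
    perm hL x * perm hL y * perm hL x = perm hL (lineMap L x y) := by
  ext q
  show lineMap L x (lineMap L y (lineMap L x q)) = lineMap L (lineMap L x y) q
  obtain ⟨p, rfl⟩ : ∃ p, q = lineMap L x p := ⟨_, (lineMap_lineMap hL x q).symm⟩
  rw [lineMap_lineMap hL]
  have inj : Function.Injective (lineMap L x) := (perm hL x).injective
  by_cases h : ∃ z, z ≠ y ∧ z ≠ p ∧ y ≠ p ∧ ({y, p, z} : Set X) ∈ L
  · obtain ⟨z, h1, h2, h3, h4⟩ := h
    rw [lineMap_eq hL h3 h1 h2 h4, lineMap_eq hL (inj.ne h3) (inj.ne h1) (inj.ne h2)]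
    have := image_mem hL x h4
    simpa [Set.image_insert_eq] using this
  · by_cases hyp : y = p
    · subst hyp; rw [lineMap_self, lineMap_self]
    rw [lineMap_fix fun z a b c => h ⟨z, a, b, hyp, c⟩]
    symm
    refine lineMap_fix fun z a b c => ?_
    refine h ⟨lineMap L x z, fun e => a ?_, fun e => b ?_, hyp, ?_⟩
    · rw [← e, lineMap_lineMap hL]
    · rw [← e, lineMap_lineMap hL]
    · have := image_mem hL x c
      simpa [Set.image_insert_eq, lineMap_lineMap hL] using this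

theorem isThreeTransp (hL : IsFischerSpace L) (hnd : IsNondegenerate L) :
    IsThreeTranspositionSet {σ : Equiv.Perm X | ∃ x : X, ⇑σ = lineMap L x} := by
  have hmem : ∀ σ : Equiv.Perm X, σ ∈ {σ : Equiv.Perm X | ∃ x : X, ⇑σ = lineMap L x} →
      ∃ x, σ = perm hL x := fun σ ⟨x, hx⟩ => ⟨x, Equiv.ext (congrFun hx)⟩
  refine ⟨fun d hd => ?_, fun d hd e he => ?_⟩
  · obtain ⟨x, rfl⟩ := hmem d hd; exact orderOf_perm hL hnd x
  obtain ⟨x, rfl⟩ := hmem d hd
  obtain ⟨y, rfl⟩ := hmem e he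
  have sq : ∀ w, perm hL w * perm hL w = 1 := fun w => Equiv.ext fun q => lineMap_lineMap hL w q
  by_cases h : ∃ z, z ≠ x ∧ z ≠ y ∧ x ≠ y ∧ ({x, y, z} : Set X) ∈ L
  · obtain ⟨z, h1, h2, h3, h4⟩ := h
    right
    have e1 := perm_conj hL x y
    rw [lineMap_eq hL h3 h1 h2 h4] at e1
    have e2 := perm_conj hL y x
    rw [lineMap_eq hL (Ne.symm h3) h2 h1 (by rwa [Set.insert_comm y x])] at e2
    calc (perm hL x * perm hL y) ^ 3
        = (perm hL x * perm hL y * perm hL x) * (perm hL y * perm hL x * perm hL y) := by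
          simp [pow_succ, mul_assoc]
      _ = 1 := by rw [e1, e2]; exact sq z
  · left
    have e1 : perm hL x * perm hL y * perm hL x = perm hL y := by
      rw [perm_conj]
      by_cases hxy : x = y
      · rw [hxy, lineMap_self]
      · rw [lineMap_fix fun z a b c => h ⟨z, a, b, hxy, c⟩]
    calc (perm hL x * perm hL y) ^ 2 = (perm hL x * perm hL y * perm hL x) * perm hL y := by
          simp [pow_two, mul_assoc]
      _ = 1 := by rw [e1]; exact sq y


/-- Let L be a nondegenerate Fischer space on the point type X (every point on a line). Then for every point x the map t(x) — sending a point collinear with x to the third point of their common line and fixing every other point — is a permutation of X of order 2 and an automorphism of the line system; and the set of all t(x) satisfies the 3-transposition order conditions in the permutation group of X (any two have product of order at most 3). -/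
theorem result {X : Type*} (L : Set (Set X)) (hL : Cfsg.IsFischerSpace L) (hnd : Cfsg.LineSystem.IsNondegenerate L) : (∀ x : X, ∃ σ : Equiv.Perm X, ⇑σ = Cfsg.LineSystem.lineMap L x ∧ orderOf σ = 2 ∧ Cfsg.LineSystem.IsIso L L σ) ∧ Cfsg.IsThreeTranspositionSet {σ : Equiv.Perm X | ∃ x : X, ⇑σ = Cfsg.LineSystem.lineMap L x} := by
  exact ⟨exists_perm hL hnd, isThreeTransp hL hnd⟩

end Cfsg.Agent.S5366
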