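import Cfsg.Statements.S5378
import Cfsg.Agent.Lib.Co1Type47.Classes
import Cfsg.Agent.Lib.CoType29.Interface
import Cfsg.Agent.Lib.CoType29.Distinct

set_option autoImplicit false
open Cfsg

namespace Cfsg.Agent.S5378

/-- Let G be a finite group of Conway type: it has an involution z whose centralizer C has generalized Fitting subgroup Q extraspecial of order 2^9 with C/Q isomorphic to the commutator subgroup of the isometry group of the hyperbolic quadratic form in dimension 8 over the field with two elements, and some conjugate of z other than z lies in Q. Then G has exactly three conjugacy classes of involutions. -/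
theorem result {G : Type*} [Group G] [Finite G] (z : G) (hz : orderOf z = 2) (Q : Subgroup (Subgroup.centralizer ({z} : Set G))) [Q.Normal] (hF : Cfsg.generalizedFittingSubgroup (Subgroup.centralizer ({z} : Set G)) = Q) (hQ : Cfsg.IsExtraspecial 2 Q) (hcard : Nat.card Q = 2 ^ 9) (e : (Subgroup.centralizer ({z} : Set G)) ⧸ Q ≃* Cfsg.Omega (ZMod 2) (Cfsg.quadFormPlus 4 (ZMod 2))) (hnwc : ∃ g : G, (∃ hq : g * z * g⁻¹ ∈ Subgroup.centralizer ({z} : Set G), (⟨g * z * g⁻¹, hq⟩ : Subgroup.centralizer ({z} : Set G)) ∈ Q) ∧ g * z * g⁻¹ ≠ z) : ∃ a b c : G, orderOf a = 2 ∧ orderOf b = 2 ∧ orderOf c = 2 ∧ ¬ IsConj a b ∧ ¬ IsConj a c ∧ ¬ IsConj b c ∧ ∀ x : G, orderOf x = 2 → IsConj x a ∨ IsConj x b ∨ IsConj x c := by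
  obtain ⟨Qf, H⟩ := Cfsg.Agent.Lib.CoType29.exists_hyp z hz Q hF hQ hcard e hnwc
  obtain ⟨s, -, ⟨P⟩⟩ := H.exists_pair
  obtain ⟨b, hb, hbb, hb1⟩ := P.exists_typed 1
  obtain ⟨c, hc, hcc, hc1⟩ := P.exists_typed 0
  have hord : ∀ {x : G}, x * x = 1 → x ≠ 1 → orderOf x = 2 := fun hxx hx1 =>
    orderOf_eq_prime (by rw [pow_two, hxx]) hx1
  refine ⟨z, b, c, hz, hord hbb hb1, hord hcc hc1, Cfsg.Agent.Lib.CoType29.not_isConj_typed H P hb, Cfsg.Agent.Lib.CoType29.not_isConj_typed H P hc,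
    fun h => Cfsg.Agent.Lib.CoType29.not_isConj_types H P hc hb h.symm, fun x hx => ?_⟩
  have hxx : x * x = 1 := by rw [← pow_two, ← hx]; exact pow_orderOf_eq_one x
  have hx1 : x ≠ 1 := fun h => by simp [h] at hx
  rcases H.three_types P hxx hx1 with h | ⟨ε, y, hy, hxy⟩
  · exact Or.inl h
  rcases Cfsg.Agent.Lib.Co1Type47.zmod_cases ε with rfl | rfl
  · obtain ⟨k, -, -, hk⟩ := P.typed_conj hy hc
    exact Or.inr (Or.inr (hxy.trans (isConj_iff.2 ⟨k, hk⟩)))
  · obtain ⟨k, -, -, hk⟩ := P.typed_conj hy hb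
    exact Or.inr (Or.inl (hxy.trans (isConj_iff.2 ⟨k, hk⟩)))

end Cfsg.Agent.S5378
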