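import Cfsg.Statements.S5385
import Cfsg.Agent.Lib.CoTypeB85.Existence
-- import your own Cfsg.Agent.* helpers here

set_option autoImplicit false
open Cfsg

namespace Cfsg.Agent.S5385

/-- Let G be a finite group of Conway type (involution z with generalized Fitting subgroup Q of its centralizer C extraspecial of order 2^9, C/Q the commutator subgroup of the isometry group of the hyperbolic quadratic form in dimension 8 over the field with two elements, z not weakly closed in Q), and let B be a subgroup of C of order 5 such that the centralizer of B in Q is extraspecial of order 32 containing no elementary abelian subgroup of order 8 (the quaternion-times-dihedral type). Then the layer L of the centralizer of B in G is isomorphic to the Hall–Janko group and the centralizer of L is isomorphic to the alternating group of degree 5. -/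
theorem result {G : Type*} [Group G] [Finite G] (z : G) (hz : orderOf z = 2) (Q : Subgroup (Subgroup.centralizer ({z} : Set G))) [Q.Normal] (hF : Cfsg.generalizedFittingSubgroup (Subgroup.centralizer ({z} : Set G)) = Q) (hQ : Cfsg.IsExtraspecial 2 Q) (hcard : Nat.card Q = 2 ^ 9) (e : (Subgroup.centralizer ({z} : Set G)) ⧸ Q ≃* Cfsg.Omega (ZMod 2) (Cfsg.quadFormPlus 4 (ZMod 2))) (hnwc : ∃ g : G, (∃ hq : g * z * g⁻¹ ∈ Subgroup.centralizer ({z} : Set G), (⟨g * z * g⁻¹, hq⟩ : Subgroup.centralizer ({z} : Set G)) ∈ Q) ∧ g * z * g⁻¹ ≠ z) (B : Subgroup (Subgroup.centralizer ({z} : Set G))) (hB : Nat.card B = 5) (hCQ : Cfsg.IsExtraspecial 2 ↥(Q ⊓ Subgroup.centralizer (B : Set (Subgroup.centralizer ({z} : Set G))))) (hCQcard : Nat.card ↥(Q ⊓ Subgroup.centralizer (B : Set (Subgroup.centralizer ({z} : Set G)))) = 32) (hminus : ∀ A : Subgroup (Subgroup.centralizer ({z} : Set G)), A ≤ Q ⊓ Subgroup.centralizer (B : Set (Subgroup.centralizer ({z} : Set G))) → Cfsg.IsElementaryAbelian 2 A → Nat.card A ≤ 4) : Cfsg.Spor.IsoJ2 ↥(Cfsg.layer ↥(Subgroup.centralizer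 ((B.map (Subgroup.subtype (Subgroup.centralizer ({z} : Set G)))) : Set G))) ∧ Nonempty (↥(Subgroup.centralizer (((Cfsg.layer ↥(Subgroup.centralizer ((B.map (Subgroup.subtype (Subgroup.centralizer ({z} : Set G)))) : Set G))).map (Subgroup.subtype _)) : Set G)) ≃* alternatingGroup (Fin 5)) := by
  classical
  have : Fact (Nat.Prime 5) := ⟨by norm_num⟩
  have : Fact (Nat.Prime 2) := ⟨Nat.prime_two⟩
  obtain ⟨Qf, H⟩ := Cfsg.Agent.Lib.CoType29.exists_hyp z hz Q hF hQ hcard e hnwc
  have hQz : Qf z = Q.map (Subgroup.centralizer ({z} : Set G)).subtype := by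
    rw [H.coreMap z]
    congr 1
    refine (Subgroup.eq_of_le_of_card_ge (Cfsg.Agent.Lib.PSolvable.le_pCore hQ.1.1) ?_).symm
    obtain ⟨D⟩ := H.data
    have h1 := D.card
    rw [H.coreMap z, Subgroup.card_map_of_injective (Subgroup.centralizer ({z} : Set G)).subtype_injective] at h1
    omega
  have : IsCyclic B := isCyclic_of_prime_card hB
  obtain ⟨g, hg⟩ := IsCyclic.exists_generator (α := B)
  set f : G := ((g : (Subgroup.centralizer ({z} : Set G))) : G) with hf
  have hgen : ∀ b ∈ B, (b : G) ∈ Subgroup.zpowers f := by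
    intro b hb
    obtain ⟨n, hn⟩ := Subgroup.mem_zpowers_iff.1 (hg ⟨b, hb⟩)
    have e := congrArg (fun x : B => ((x : (Subgroup.centralizer ({z} : Set G))) : G)) hn
    exact Subgroup.mem_zpowers_iff.2 ⟨n, by simpa [hf] using e⟩
  have hf5 : f ^ 5 = 1 := by
    have h : g ^ 5 = 1 := by rw [← hB]; exact pow_card_eq_one'
    simpa [hf] using congrArg (fun b : B => ((b : (Subgroup.centralizer ({z} : Set G))) : G)) h
  have hf1 : f ≠ 1 := by
    intro h
    have : ∀ b : B, b = 1 := fun b => Subtype.ext (Subtype.ext (by
      obtain ⟨n, hn⟩ := Subgroup.mem_zpowers_iff.1 (hgen b b.2)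
      rw [← hn, h, one_zpow]; rfl))
    have h2 : Subsingleton B := ⟨fun a b => (this a).trans (this b).symm⟩
    rw [Nat.card_of_subsingleton (1 : B)] at hB
    omega
  have hfz : f * z = z * f := Subgroup.mem_centralizer_singleton_iff.1 (g : (Subgroup.centralizer ({z} : Set G))).2
  have hN : Subgroup.centralizer ((B.map (Subgroup.centralizer ({z} : Set G)).subtype : Subgroup G) : Set G) =
      Subgroup.centralizer {f} := by
    refine le_antisymm (Subgroup.centralizer_le (Set.singleton_subset_iff.2
      ⟨(g : (Subgroup.centralizer ({z} : Set G))), g.2, rfl⟩)) fun x hx => Subgroup.mem_centralizer_iff.2 ?_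
    rintro _ ⟨b, hb, rfl⟩
    obtain ⟨n, hn⟩ := Subgroup.mem_zpowers_iff.1 (hgen b hb)
    rw [show (Subgroup.centralizer ({z} : Set G)).subtype b = f ^ n from hn.symm]
    exact (Commute.zpow_left (show Commute f x from
      (Subgroup.mem_centralizer_singleton_iff.1 hx).symm) n).eq
  have hcomm : ∀ x : (Subgroup.centralizer ({z} : Set G)), x ∈ Subgroup.centralizer (B : Set (Subgroup.centralizer ({z} : Set G))) ↔ (x : G) * f = f * x := by
    intro x
    constructor
    · intro h
      exact (congrArg Subtype.val (Subgroup.mem_centralizer_iff.1 h _ g.2)).symm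
    · intro h
      refine Subgroup.mem_centralizer_iff.2 fun b hb => Subtype.ext ?_
      obtain ⟨n, hn⟩ := Subgroup.mem_zpowers_iff.1 (hgen b hb)
      show (b : G) * x = x * b
      rw [← hn]
      exact (Commute.zpow_left (show Commute f (x : G) from h.symm) n).eq
  have hmap : Qf z ⊓ Subgroup.centralizer {f} =
      (Q ⊓ Subgroup.centralizer (B : Set (Subgroup.centralizer ({z} : Set G)))).map (Subgroup.centralizer ({z} : Set G)).subtype := by
    ext x
    rw [hQz, Subgroup.mem_inf, Subgroup.mem_centralizer_singleton_iff]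
    constructor
    · rintro ⟨⟨y, hy, rfl⟩, hx⟩
      exact ⟨y, Subgroup.mem_inf.2 ⟨hy, (hcomm y).2 hx⟩, rfl⟩
    · rintro ⟨y, hy, rfl⟩
      exact ⟨⟨y, (Subgroup.mem_inf.1 hy).1, rfl⟩, (hcomm y).1 (Subgroup.mem_inf.1 hy).2⟩
  have hno : ∀ a ∈ Qf z, ∀ b ∈ Qf z, a * f = f * a → b * f = f * b → a * a = 1 → b * b = 1 →
      a * b = b * a → a = 1 ∨ a = z ∨ b = 1 ∨ b = z ∨ a = b ∨ a = b * z := by
    -- no elementary abelian subgroup of order eight
    intro a ha b hb haf hbf haa hbb hab
    by_contra hne
    push Not at hne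
    obtain ⟨h1, h2, h3, h4, h5, h6⟩ := hne
    have hmem : ∀ {x : G}, x ∈ Qf z → x * f = f * x →
        ∃ y : (Subgroup.centralizer ({z} : Set G)), y ∈ Q ⊓ Subgroup.centralizer (B : Set (Subgroup.centralizer ({z} : Set G))) ∧ (y : G) = x := by
      intro x hx hxf
      have : x ∈ Qf z ⊓ Subgroup.centralizer {f} :=
        Subgroup.mem_inf.2 ⟨hx, Subgroup.mem_centralizer_singleton_iff.2 hxf⟩
      rw [hmap] at this
      obtain ⟨y, hy, rfl⟩ := this
      exact ⟨y, hy, rfl⟩
    obtain ⟨a', ha', rfl⟩ := hmem ha haf
    obtain ⟨b', hb', rfl⟩ := hmem hb hbf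
    obtain ⟨z'', hz', hzz'⟩ := hmem H.good.x_mem hfz.symm
    set z' : (Subgroup.centralizer ({z} : Set G)) :=
      ⟨z, Subgroup.mem_centralizer_singleton_iff.2 rfl⟩
    obtain rfl : z'' = z' := Subtype.ext hzz'
    have hzsq : z' * z' = 1 := Subtype.ext H.good.x_sq
    have ca : (a' : G) * z' = z' * a' := H.good.le_cent _ ha
    have cb : (b' : G) * z' = z' * b' := H.good.le_cent _ hb
    set S : Set (Subgroup.centralizer ({z} : Set G)) := {a', b', z'} with hS
    have hcS : ∀ x ∈ S, ∀ y ∈ S, x * y = y * x := by
      rintro x (rfl | rfl | rfl) y (rfl | rfl | rfl) <;> first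
        | rfl
        | exact Subtype.ext hab
        | exact Subtype.ext hab.symm
        | exact Subtype.ext ca
        | exact Subtype.ext ca.symm
        | exact Subtype.ext cb
        | exact Subtype.ext cb.symm
    have hcc : ∀ x ∈ Subgroup.closure S, ∀ y ∈ Subgroup.closure S, x * y = y * x := by
      have h1 : Subgroup.closure S ≤ Subgroup.centralizer S :=
        (Subgroup.closure_le _).2 fun x hx => Subgroup.mem_centralizer_iff.2 fun y hy => hcS y hy x hx
      have h2 : Subgroup.closure S ≤ Subgroup.centralizer (Subgroup.closure S : Set (Subgroup.centralizer ({z} : Set G))) :=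
        (Subgroup.closure_le _).2 fun x hx => Subgroup.mem_centralizer_iff.2 fun y hy =>
          (Subgroup.mem_centralizer_iff.1 (h1 hy) x hx).symm
      exact fun x hx y hy => (Subgroup.mem_centralizer_iff.1 (h2 hy) x hx)
    have hexp : ∀ x ∈ Subgroup.closure S, x * x = 1 := by
      intro x hx
      induction hx using Subgroup.closure_induction with
      | mem x hx =>
        rcases hx with rfl | rfl | rfl
        exacts [Subtype.ext haa, Subtype.ext hbb, hzsq]
      | one => exact one_mul 1
      | mul x y hx' hy' ihx ihy =>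
        calc x * y * (x * y) = x * (y * x) * y := by group
          _ = (x * x) * (y * y) := by rw [hcc y hy' x hx']; group
          _ = 1 := by rw [ihx, ihy, one_mul]
      | inv x _ ihx => rw [← mul_inv_rev, ihx, inv_one]
    have hel : Cfsg.IsElementaryAbelian 2 (Subgroup.closure S) := by
      refine ⟨⟨⟨fun x y => Subtype.ext (hcc x x.2 y y.2)⟩⟩, fun x hx => ?_⟩
      rw [pow_two]; exact hexp x hx
    have h4' := hminus (Subgroup.closure S) ((Subgroup.closure_le _).2 (by
      rintro x (rfl | rfl | rfl) <;> assumption)) hel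
    let v : Fin 5 → ↥(Subgroup.closure S) := ![1, ⟨z', Subgroup.subset_closure (by simp [hS])⟩,
      ⟨a', Subgroup.subset_closure (by simp [hS])⟩, ⟨b', Subgroup.subset_closure (by simp [hS])⟩,
      ⟨b', Subgroup.subset_closure (by simp [hS])⟩ * ⟨z', Subgroup.subset_closure (by simp [hS])⟩]
    have hz1 := H.good.x_ne
    have hbz : (b' : G) * z' ≠ 1 := fun e => h4 (by
      rw [eq_inv_of_mul_eq_one_left e]; exact inv_eq_of_mul_eq_one_right H.good.x_sq)
    have hbz2 : (b' : G) * z' ≠ z' := fun e => h3 (mul_eq_right.1 e)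
    have hbz3 : (b' : G) * z' ≠ b' := fun e => hz1 (mul_eq_left.1 e)
    have hv : Function.Injective v := by
      intro i j hij
      have e := congrArg (fun x : ↥(Subgroup.closure S) => ((x : (Subgroup.centralizer ({z} : Set G))) : G)) hij
      fin_cases i <;> fin_cases j <;> first
        | rfl
        | exact absurd e hz1
        | exact absurd e.symm hz1
        | exact absurd e h1
        | exact absurd e.symm h1
        | exact absurd e h3
        | exact absurd e.symm h3
        | exact absurd e hbz
        | exact absurd e.symm hbz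
        | exact absurd e h2
        | exact absurd e.symm h2
        | exact absurd e h4
        | exact absurd e.symm h4
        | exact absurd e hbz2
        | exact absurd e.symm hbz2
        | exact absurd e h5
        | exact absurd e.symm h5
        | exact absurd e h6
        | exact absurd e.symm h6
        | exact absurd e hbz3
        | exact absurd e.symm hbz3
    have := Nat.card_le_card_of_injective v hv
    rw [Nat.card_fin] at this
    omega
  obtain ⟨s, ⟨F⟩⟩ := Cfsg.Agent.Lib.CoTypeB85.exists_frame H hfz hf5 hf1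
    (by rw [hmap, Subgroup.card_map_of_injective (Subgroup.centralizer ({z} : Set G)).subtype_injective, hCQcard]) hno
  obtain ⟨t, a, h1, h2, h3, h4, h5⟩ := F.exists_cycle
  have key := F.layer_centralizer (t := t) (a := a) ⟨h1, h2, h3, h4, h5⟩ (Subgroup.centralizer {f})
    (fun x => Subgroup.mem_centralizer_singleton_iff)
  rw [hN]
  exact key

end Cfsg.Agent.S5385
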