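import Cfsg.Statements.S5387
import Mathlib
import Cfsg.Agent.Lib.Schur.Four.Bound
import Cfsg.Agent.Lib.Schur.Hopf
import Cfsg.Agent.Lib.LinGroup.Order
import Cfsg.Agent.Lib.LinGroup.Simple

set_option autoImplicit false
open Cfsg

namespace Cfsg.Agent.S5387

open scoped commutatorElement

theorem map_commutator_top {P X : Type*} [Group P] [Group X] (p : P →* X) (hp : Function.Surjective p) :
    (commutator P).map p = commutator X := by
  rw [commutator_def, commutator_def, Subgroup.map_commutator, Subgroup.map_top_of_surjective _ hp]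

theorem card_of_surjective {Γ X : Type*} [Group Γ] [Group X] (r : Γ →* X) (hr : Function.Surjective r) :
    Nat.card Γ = Nat.card X * Nat.card r.ker := by
  rw [Subgroup.card_eq_card_quotient_mul_card_subgroup r.ker,
    Nat.card_congr (QuotientGroup.quotientKerEquivOfSurjective r hr).toEquiv]


/-- Up to isomorphism there is at most one quasisimple group whose centre is elementary abelian of order 4 and whose central quotient is isomorphic to the projective special linear group of dimension 3 over the field with four elements: any two such groups are isomorphic. -/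
theorem result {L₁ L₂ : Type*} [Group L₁] [Finite L₁] [Group L₂] [Finite L₂] (F : Type) [Field F] [Fintype F] (hF : Fintype.card F = 4) (h₁ : Cfsg.IsQuasisimple L₁) (h₂ : Cfsg.IsQuasisimple L₂) (hc₁ : Nat.card (Subgroup.center L₁) = 4) (hc₂ : Nat.card (Subgroup.center L₂) = 4) (he₁ : ∀ x ∈ Subgroup.center L₁, x * x = 1) (he₂ : ∀ x ∈ Subgroup.center L₂, x * x = 1) (e₁ : L₁ ⧸ Subgroup.center L₁ ≃* Matrix.ProjectiveSpecialLinearGroup (Fin 3) F) (e₂ : L₂ ⧸ Subgroup.center L₂ ≃* Matrix.ProjectiveSpecialLinearGroup (Fin 3) F) : Nonempty (L₁ ≃* L₂) := by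
  classical
  let S := Matrix.SpecialLinearGroup (Fin 3) F
  let Q := Matrix.ProjectiveSpecialLinearGroup (Fin 3) F
  let π : S →* Q := QuotientGroup.mk' (Subgroup.center S)
  let q₁ : L₁ →* Q := e₁.toMonoidHom.comp (QuotientGroup.mk' (Subgroup.center L₁))
  let q₂ : L₂ →* Q := e₂.toMonoidHom.comp (QuotientGroup.mk' (Subgroup.center L₂))
  have hπ : Function.Surjective π := QuotientGroup.mk'_surjective _
  have hq₁ : Function.Surjective q₁ := e₁.surjective.comp (QuotientGroup.mk'_surjective _)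
  have hq₂ : Function.Surjective q₂ := e₂.surjective.comp (QuotientGroup.mk'_surjective _)
  have hk₁ : ∀ l, q₁ l = 1 → l ∈ Subgroup.center L₁ := fun l hl =>
    (QuotientGroup.eq_one_iff l).mp (e₁.injective (hl.trans (map_one _).symm))
  have hk₂ : ∀ l, q₂ l = 1 → l ∈ Subgroup.center L₂ := fun l hl =>
    (QuotientGroup.eq_one_iff l).mp (e₂.injective (hl.trans (map_one _).symm))
  have hkπ : ∀ s, π s = 1 → s ∈ Subgroup.center S := fun s hs => (QuotientGroup.eq_one_iff s).mp hs
  -- the triple fibre product and its derived group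
  let f₁ : L₁ × L₂ × S →* Q := q₁.comp (MonoidHom.fst _ _)
  let f₂ : L₁ × L₂ × S →* Q := q₂.comp ((MonoidHom.fst _ _).comp (MonoidHom.snd _ _))
  let f₃ : L₁ × L₂ × S →* Q := π.comp ((MonoidHom.snd _ _).comp (MonoidHom.snd _ _))
  let P : Subgroup (L₁ × L₂ × S) := f₁.eqLocus f₃ ⊓ f₂.eqLocus f₃
  have hP : ∀ x : L₁ × L₂ × S, x ∈ P ↔ q₁ x.1 = π x.2.2 ∧ q₂ x.2.1 = π x.2.2 := fun x => Iff.rfl
  let p₁ : P →* L₁ := (MonoidHom.fst _ _).comp P.subtype
  let p₂ : P →* L₂ := ((MonoidHom.fst _ _).comp (MonoidHom.snd _ _)).comp P.subtype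
  let p₃ : P →* S := ((MonoidHom.snd _ _).comp (MonoidHom.snd _ _)).comp P.subtype
  have hp₁ : Function.Surjective p₁ := fun l => by
    obtain ⟨s, hs⟩ := hπ (q₁ l)
    obtain ⟨m, hm⟩ := hq₂ (q₁ l)
    exact ⟨⟨(l, m, s), (hP _).mpr ⟨hs.symm, hm.trans hs.symm⟩⟩, rfl⟩
  have hp₂ : Function.Surjective p₂ := fun m => by
    obtain ⟨s, hs⟩ := hπ (q₂ m)
    obtain ⟨l, hl⟩ := hq₁ (q₂ m)
    exact ⟨⟨(l, m, s), (hP _).mpr ⟨hl.trans hs.symm, hs.symm⟩⟩, rfl⟩
  have hp₃ : Function.Surjective p₃ := fun s => by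
    obtain ⟨l, hl⟩ := hq₁ (π s)
    obtain ⟨m, hm⟩ := hq₂ (π s)
    exact ⟨⟨(l, m, s), (hP _).mpr ⟨hl, hm⟩⟩, rfl⟩
  have hSperf : commutator S = ⊤ :=
    Cfsg.Agent.Lib.LinGroup.commutator_SL_fin_eq_top (by norm_num) (by norm_num)
  let Γ := commutator P
  let σ : Γ →* S := p₃.comp Γ.subtype
  have hσ : Function.Surjective σ := fun s => by
    obtain ⟨x, hx, rfl⟩ : s ∈ (commutator P).map p₃ := by
      rw [map_commutator_top p₃ hp₃, hSperf]; exact Subgroup.mem_top s
    exact ⟨⟨x, hx⟩, rfl⟩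
  have hcentral : ∀ x : P, π (p₃ x) = 1 → x ∈ Subgroup.center P := by
    intro x hx
    obtain ⟨ha, hb⟩ := (hP x.1).mp x.2
    rw [Subgroup.mem_center_iff]
    intro y
    refine Subtype.ext (Prod.ext ?_ (Prod.ext ?_ ?_))
    · exact Subgroup.mem_center_iff.mp (hk₁ _ (ha.trans hx)) _
    · exact Subgroup.mem_center_iff.mp (hk₂ _ (hb.trans hx)) _
    · exact Subgroup.mem_center_iff.mp (hkπ _ hx) _
  have hΓperf : commutator Γ = ⊤ := by
    refine eq_top_iff.mpr fun g _ => ?_
    have hle : commutator P ≤ (commutator Γ).map Γ.subtype := by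
      rw [commutator_def, Subgroup.commutator_le]
      intro a _ b _
      obtain ⟨a', ha⟩ := hσ (p₃ a)
      obtain ⟨b', hb⟩ := hσ (p₃ b)
      have hca : (a' : P)⁻¹ * a ∈ Subgroup.center P := hcentral _ (by
        rw [map_mul, map_inv, show p₃ (a' : P) = p₃ a from ha, inv_mul_cancel, map_one])
      have hcb : (b' : P)⁻¹ * b ∈ Subgroup.center P := hcentral _ (by
        rw [map_mul, map_inv, show p₃ (b' : P) = p₃ b from hb, inv_mul_cancel, map_one])
      have h := Cfsg.Agent.Lib.Schur.commutatorElement_mul_central (a' : P) (b' : P) hca hcb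
      rw [mul_inv_cancel_left, mul_inv_cancel_left] at h
      rw [h]
      exact ⟨⁅a', b'⁆, Subgroup.commutator_mem_commutator (Subgroup.mem_top _) (Subgroup.mem_top _),
        map_commutatorElement Γ.subtype a' b'⟩
    obtain ⟨h, hh, hhg⟩ := hle g.2
    rwa [Subtype.ext hhg] at hh
  have hker : ∀ x : Γ, σ x = 1 → x ∈ Subgroup.center Γ ∧ x * x = 1 := by
    intro x hx
    have hx' : π (p₃ (x : P)) = 1 := by
      rw [show p₃ (x : P) = 1 from hx, map_one]
    obtain ⟨ha, hb⟩ := (hP (x : P).1).mp (x : P).2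
    refine ⟨Subgroup.mem_center_iff.mpr fun y =>
      Subtype.ext (Subgroup.mem_center_iff.mp (hcentral _ hx') y), ?_⟩
    refine Subtype.ext (Subtype.ext (Prod.ext ?_ (Prod.ext ?_ ?_)))
    · exact he₁ _ (hk₁ _ (ha.trans hx'))
    · exact he₂ _ (hk₂ _ (hb.trans hx'))
    · show p₃ (x : P) * p₃ (x : P) = 1
      rw [show p₃ (x : P) = 1 from hx, one_mul]
  have hstem : Cfsg.IsStemExtension σ :=
    ⟨hσ, fun x hx => (hker x hx).1, by rw [hΓperf]; exact le_top⟩
  have hk := Cfsg.Agent.Lib.Schur.Four.card_ker_le_four hF hstem fun x hx => (hker x hx).2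
  -- the two projections
  let r₁ : Γ →* L₁ := p₁.comp Γ.subtype
  let r₂ : Γ →* L₂ := p₂.comp Γ.subtype
  have hr₁ : Function.Surjective r₁ := by
    refine fun x => ?_
    obtain ⟨y, hy, rfl⟩ : x ∈ (commutator P).map p₁ := by
      rw [map_commutator_top p₁ hp₁, h₁.1.commutator_eq_top]; exact Subgroup.mem_top x
    exact ⟨⟨y, hy⟩, rfl⟩
  have hr₂ : Function.Surjective r₂ := by
    refine fun x => ?_
    obtain ⟨y, hy, rfl⟩ : x ∈ (commutator P).map p₂ := by
      rw [map_commutator_top p₂ hp₂, h₂.1.commutator_eq_top]; exact Subgroup.mem_top x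
    exact ⟨⟨y, hy⟩, rfl⟩
  -- orders
  have hcS : Nat.card (Subgroup.center S) = 3 := by
    rw [show Nat.card (Subgroup.center S) = _ from Cfsg.Agent.Lib.LinGroup.card_center_SL,
      Fintype.card_fin, Cfsg.Agent.Lib.LinGroup.card_units_eq_sub_one, hF]
    decide
  have hS : Nat.card S = Nat.card Q * 3 := by
    rw [← hcS]; exact Subgroup.card_eq_card_quotient_mul_card_subgroup _
  have hL₁ : Nat.card L₁ = Nat.card Q * 4 := by
    rw [← hc₁, Subgroup.card_eq_card_quotient_mul_card_subgroup (Subgroup.center L₁),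
      Nat.card_congr e₁.toEquiv]
  have hL₂ : Nat.card L₂ = Nat.card Q * 4 := by
    rw [← hc₂, Subgroup.card_eq_card_quotient_mul_card_subgroup (Subgroup.center L₂),
      Nat.card_congr e₂.toEquiv]
  have hQ : 0 < Nat.card Q := Nat.card_pos
  have hσc := card_of_surjective σ hσ
  have hc1' := card_of_surjective r₁ hr₁
  have hc2' := card_of_surjective r₂ hr₂
  rw [hσc, hS, hL₁, mul_assoc, mul_assoc] at hc1'
  rw [hσc, hS, hL₂, mul_assoc, mul_assoc] at hc2'
  have e1 := Nat.eq_of_mul_eq_mul_left hQ hc1'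
  have e2 := Nat.eq_of_mul_eq_mul_left hQ hc2'
  have hpos : 0 < Nat.card σ.ker := Nat.card_pos
  have hK₁ : Nat.card r₁.ker = 3 := by omega
  have hK₂ : Nat.card r₂.ker = 3 := by omega
  have hcube : ∀ {H : Subgroup Γ}, Nat.card H = 3 → ∀ x ∈ H, x ^ 3 = 1 := fun {H} hH x hx => by
    have := congrArg Subtype.val (pow_card_eq_one' (x := (⟨x, hx⟩ : H)))
    rwa [hH] at this
  have hker₁₂ : r₁.ker = r₂.ker := by
    refine Subgroup.eq_of_le_of_card_ge (fun x hx => ?_) (by rw [hK₁, hK₂])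
    have hx3 := hcube hK₁ x hx
    obtain ⟨ha, hb⟩ := (hP (x : P).1).mp (x : P).2
    have hz : (x : P).1.2.1 ∈ Subgroup.center L₂ := hk₂ _ (by
      rw [hb, ← ha, show (x : P).1.1 = 1 from hx, map_one])
    have h3 : r₂ x ^ 3 = 1 := by rw [← map_pow, hx3, map_one]
    have h2 : r₂ x * r₂ x = 1 := he₂ _ hz
    rw [MonoidHom.mem_ker]
    rw [pow_succ, pow_two, h2, one_mul] at h3
    exact h3
  exact ⟨(QuotientGroup.quotientKerEquivOfSurjective r₁ hr₁).symm.trans
    ((QuotientGroup.quotientMulEquivOfEq hker₁₂).trans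
      (QuotientGroup.quotientKerEquivOfSurjective r₂ hr₂))⟩

end Cfsg.Agent.S5387
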