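import Cfsg.Statements.S5392
import Mathlib
import Cfsg.Agent.Lib.MonsterType.Cross
import Cfsg.Agent.Lib.Leech.SporConway
import Cfsg.Agent.Lib.Leech.Cross
import Cfsg.Agent.S1570
import Cfsg.Agent.S5551
import Cfsg.Agent.Lib.Leech.Shapes
set_option autoImplicit false
open Cfsg

namespace Cfsg.Agent.S5392

open Cfsg.Agent.Lib
open Cfsg.Agent.Lib.Leech
open Cfsg.Agent.Lib.MonsterType

theorem checks (i : GolayPt) : i ≠ none →
    sqNorm (vec44 i) = 32 ∧ vec44 i none = 4 ∧ vec44 i i = 4 ∧ ∀ j, vec44 i j ≠ 0 → j = none ∨ j = i := by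
  revert i; decide +kernel

/-- Only the scalars fix every class of a shortest vector. -/
theorem mem_center_of_fix {g : Co0} (h : ∀ v : leechLattice, Cong (g • v) v) :
    g ∈ Subgroup.center Co0 := by
  obtain ⟨σ, hσ, w, hw, rfl⟩ := exists_mono_of_mem_crossStab (h (pt8 none))
  have key : ∀ i, i ≠ none → (σ none = none ∨ σ none = i) ∧ (σ i = none ∨ σ i = i) ∧
      w (σ none) = w (σ i) := by
    intro i hi
    obtain ⟨hn, h0, h1, hsupp⟩ := checks i hi
    let v : leechLattice := ⟨vec44 i, vec44_mem i⟩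
    have hv : sqNorm ((monoCo σ hσ w hw • v : leechLattice) : GolayPt → ℤ) = 32 := by
      rw [sqNorm_smul]; exact hn
    obtain ⟨x, hx⟩ := h v
    have hd : ((monoCo σ hσ w hw • v : leechLattice) : GolayPt → ℤ) - vec44 i =
        (2 : ℕ) • (x : GolayPt → ℤ) := by
      rw [hx, AddSubgroup.coe_add, AddSubgroup.coe_add, two_nsmul]
      show vec44 i + _ - vec44 i = _
      abel
    obtain ⟨-, hs⟩ := S5551.result _ (vec44 i) (monoCo σ hσ w hw • v).2 (vec44_mem i)
      (fun e => by rw [e, Leech.sqNorm_zero] at hv; norm_num at hv)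
      (fun e => by rw [e, Leech.sqNorm_zero] at hn; norm_num at hn)
      (by rw [hv]; norm_num) (by rw [hn]; norm_num) ⟨_, x.2, hd⟩
    have hs' := hs (by rw [hv]; norm_num)
    have e : ∀ j, ((monoCo σ hσ w hw • v : leechLattice) : GolayPt → ℤ) (σ j) =
        if w (σ j) = 1 then -(vec44 i j) else vec44 i j := by
      intro j
      rw [monoCo_smul]
      simp [signedPerm, support₂_iff, v]
    have a := e none
    have b := e i
    rw [h0] at a
    rw [h1] at b
    rcases hs' with r | r
    · rw [← r] at a b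
      have p := hsupp (σ none) (by rw [a]; split <;> norm_num)
      have q := hsupp (σ i) (by rw [b]; split <;> norm_num)
      refine ⟨p, q, ?_⟩
      have : vec44 i (σ none) = vec44 i (σ i) := by
        rcases p with p | p <;> rcases q with q | q <;> rw [p, q] <;> simp [h0, h1]
      rw [a, b] at this
      rcases Leech.zmod2_cases (w (σ none)) with c | c <;>
        rcases Leech.zmod2_cases (w (σ i)) with d | d <;> simp_all
    · have a' : vec44 i (σ none) = -(if w (σ none) = 1 then -(4 : ℤ) else 4) := by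
        rw [r, Pi.neg_apply, a]
      have b' : vec44 i (σ i) = -(if w (σ i) = 1 then -(4 : ℤ) else 4) := by
        rw [r, Pi.neg_apply, b]
      have p := hsupp (σ none) (by rw [a']; split <;> norm_num)
      have q := hsupp (σ i) (by rw [b']; split <;> norm_num)
      refine ⟨p, q, ?_⟩
      have : vec44 i (σ none) = vec44 i (σ i) := by
        rcases p with p | p <;> rcases q with q | q <;> rw [p, q] <;> simp [h0, h1]
      rw [a', b'] at this
      rcases Leech.zmod2_cases (w (σ none)) with c | c <;>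
        rcases Leech.zmod2_cases (w (σ i)) with d | d <;> simp_all
  have h0 : σ none = none := by
    rcases (key (some 0) (by decide)).1 with e | e
    · exact e
    rcases (key (some 1) (by decide)).1 with e' | e'
    · exact e'
    · rw [e] at e'; exact absurd e' (by decide)
  have hσ1 : σ = 1 := by
    refine Equiv.ext fun i => ?_
    by_cases hi : i = none
    · subst hi; exact h0
    · rcases (key i hi).2.1 with e | e
      · exact absurd (σ.injective (e.trans h0.symm)) hi
      · exact e
  subst hσ1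
  have hwc : ∀ i, w i = w none := fun i => by
    by_cases hi : i = none
    · rw [hi]
    · simpa using (key i hi).2.2.symm
  rcases Leech.zmod2_cases (w none) with c | c
  · have : monoCo 1 hσ w hw = (1 : Co0) := co0_ext fun v => by
      rw [monoCo_smul]; funext k; simp [signedPerm, support₂, hwc k, c]; rfl
    rw [this]; exact one_mem _
  · have : monoCo 1 hσ w hw = negCo := co0_ext fun v => by
      rw [monoCo_smul, negCo_smul]; funext k; simp [signedPerm, support₂, hwc k, c]; rfl
    rw [this]; exact negCo_mem_center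

def vA : GolayPt → ℤ := fun p => if p = none ∨ p = some 0 ∨ p = some 1 ∨ p = some 2 then 4 else 0
def vB : GolayPt → ℤ := fun p =>
  if p = none ∨ p = some 0 ∨ p = some 1 then -4 else if p = some 3 then 4 else 0

theorem sums : leechChk vA = true ∧ leechChk vB = true ∧ sqNorm vA = 64 ∧ sqNorm vB = 64 ∧
    sqNorm (vA + vB) = 32 ∧ sqNorm Spor.vecV = 48 ∧ sqNorm (-(Spor.vecV + Spor.vecU')) = 48 ∧
    sqNorm (Spor.vecV + -(Spor.vecV + Spor.vecU')) = 32 := by
  decide +kernel

theorem pair_in_shell {n : ℤ} (h : n = 32 ∨ n = 48 ∨ n = 64) : ∃ a b : leechLattice,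
    sqNorm (a : GolayPt → ℤ) = n ∧
      ((sqNorm (b : GolayPt → ℤ) = n ∧ sqNorm ((a + b : leechLattice) : GolayPt → ℤ) = 32) ∨ n = 32) := by
  obtain ⟨hA, hB, hAn, hBn, hAB, hV, hW, hVW⟩ := sums
  rcases h with rfl | rfl | rfl
  · exact ⟨Spor.leechU, 0, spor_vectors.1, Or.inr rfl⟩
  · exact ⟨Spor.leechV, -(Spor.leechV + Spor.leechU'), hV, Or.inl ⟨hW, hVW⟩⟩
  · exact ⟨⟨vA, leechChk_sound hA⟩, ⟨vB, leechChk_sound hB⟩, hAn, Or.inl ⟨hBn, hAB⟩⟩

/-- The Leech lattice modulo twice itself is a faithful irreducible module for the first Conway group: an automorphism of the rank-24 lattice built from the length-24 code that moves every lattice vector only by twice a lattice vector lies in the centre of the automorphism group (the centre consists of ±1, which act trivially there, so the kernel is exactly the centre), and an additive subgroup lying between twice the lattice and the lattice that is invariant under all lattice automorphisms is one of the two. -/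
theorem result : (∀ g : ↥Cfsg.Co0, (∀ v : ↥Cfsg.leechLattice, ∃ w : ↥Cfsg.leechLattice, ((g • v : ↥Cfsg.leechLattice) : Cfsg.GolayPt → ℤ) - (v : Cfsg.GolayPt → ℤ) = 2 • (w : Cfsg.GolayPt → ℤ)) → g ∈ Subgroup.center ↥Cfsg.Co0) ∧ ∀ M : AddSubgroup (Cfsg.GolayPt → ℤ), (∀ v ∈ Cfsg.leechLattice, (2 : ℤ) • v ∈ M) → M ≤ Cfsg.leechLattice → (∀ g : ↥Cfsg.Co0, ∀ v : ↥Cfsg.leechLattice, (v : Cfsg.GolayPt → ℤ) ∈ M → ((g • v : ↥Cfsg.leechLattice) : Cfsg.GolayPt → ℤ) ∈ M) → (∀ x ∈ M, ∃ w ∈ Cfsg.leechLattice, x = (2 : ℤ) • w) ∨ M = Cfsg.leechLattice := by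
  refine ⟨fun g hg => mem_center_of_fix fun v => ?_, fun M h2 hle hinv => ?_⟩
  · obtain ⟨w, hw⟩ := hg v
    refine ⟨w, Subtype.ext ?_⟩
    rw [AddSubgroup.coe_add, AddSubgroup.coe_add, ← two_nsmul, ← hw]
    abel
  by_cases hall : ∀ x ∈ M, ∃ w ∈ leechLattice, x = (2 : ℤ) • w
  · exact Or.inl hall
  right
  push Not at hall
  obtain ⟨x, hx, hx2⟩ := hall
  obtain ⟨y, hy, hyn, u, hu, hxy⟩ := S1570.result x (hle hx)
  have htwo : ((2 : ℕ) • u : GolayPt → ℤ) = (2 : ℤ) • u := by
    funext k; simp
  have hyM : y ∈ M := by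
    have : y = x - (2 : ℕ) • u := by rw [← hxy]; abel
    rw [this, htwo]
    exact sub_mem hx (h2 u hu)
  have hy0 : y ≠ 0 := fun e => hx2 u hu (by rw [← htwo, ← hxy, e, sub_zero])
  have h32 : ∀ v : leechLattice, sqNorm (v : GolayPt → ℤ) = 32 → (v : GolayPt → ℤ) ∈ M := by
    set n := sqNorm y with hn
    have h16 := Leech.sqNorm_dvd hy
    have hmin := Leech.sqNorm_min hy hy0
    have hcases : n = 32 ∨ n = 48 ∨ n = 64 := by omega
    have hsh : ∀ v : leechLattice, sqNorm (v : GolayPt → ℤ) = n → (v : GolayPt → ℤ) ∈ M := by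
      intro v hv
      obtain ⟨g, hg⟩ : ∃ g : Co0, g • (⟨y, hy⟩ : leechLattice) = v := by
        rcases hcases with e | e | e
        exacts [exists_smul32 _ v e (hv.trans e), exists_smul48 _ v e (hv.trans e),
          exists_smul64 _ v e (hv.trans e)]
      rw [← hg]
      exact hinv g _ hyM
    obtain ⟨a, b, ha, hab⟩ := pair_in_shell hcases
    intro v hv
    rcases hab with ⟨hb, hab⟩ | e
    · obtain ⟨g, hg⟩ := exists_smul32 (a + b) v hab hv
      rw [← hg]
      exact hinv g _ (add_mem (hsh a ha) (hsh b hb))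
    · exact hsh v (hv.trans e.symm)
  refine le_antisymm hle ?_
  rw [← closure_norm32]
  exact (AddSubgroup.closure_le _).2 fun v hv => h32 ⟨v, hv.1⟩ hv.2

end Cfsg.Agent.S5392
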