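import Cfsg.Statements.S5393
import Mathlib
import Cfsg.Agent.Lib.Golay.Dodecad
import Cfsg.Agent.Lib.Golay.Transitive

set_option autoImplicit false
open Cfsg

namespace Cfsg.Agent.S5393

open Lib.Golay
open scoped symmDiff Pointwise

theorem main : (fun _ : Cfsg.GolayPt => (1 : ZMod 2)) ∈ Cfsg.golayCode ∧
    ∀ W : Submodule (ZMod 2) (Cfsg.GolayPt → ZMod 2), (fun _ => (1 : ZMod 2)) ∈ W → W ≤ Cfsg.golayCode →
      (∀ σ ∈ Cfsg.M24, ∀ w ∈ W, (fun p => w (σ.symm p)) ∈ W) →
      W = Submodule.span (ZMod 2) {fun _ => (1 : ZMod 2)} ∨ W = Cfsg.golayCode := by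
  have hone : (fun _ : Cfsg.GolayPt => (1 : ZMod 2)) = word Finset.univ := word_univ.symm
  refine ⟨hone ▸ isCodeSet_univ, fun W h1 hWC hinv => ?_⟩
  rw [hone] at h1 ⊢
  by_cases hsmall : ∀ w ∈ W, w ∈ Submodule.span (ZMod 2) {word (Finset.univ : Finset Cfsg.GolayPt)}
  · exact Or.inl (le_antisymm hsmall ((Submodule.span_singleton_le_iff_mem _ _).mpr h1))
  right
  push Not at hsmall
  obtain ⟨w, hw, hwns⟩ := hsmall
  have hmove : ∀ g ∈ Cfsg.M24, ∀ s : Finset Cfsg.GolayPt, word s ∈ W → word (g • s) ∈ W := by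
    intro g hg s hs
    have h := hinv g hg _ hs
    convert h using 1
    funext p
    simp only [word]
    refine if_congr ?_ rfl rfl
    refine Iff.symm (show (p ∈ g • s) ↔ g.symm p ∈ s by
      rw [← Finset.inv_smul_mem_iff, Equiv.Perm.smul_def, Equiv.Perm.inv_def]) |>.symm
  have hxor : ∀ s t : Finset Cfsg.GolayPt, word s ∈ W → word t ∈ W → word (s ∆ t) ∈ W := fun s t hs ht => by
    rw [word_symmDiff]; exact add_mem hs ht
  have hcompl : ∀ s : Finset Cfsg.GolayPt, word s ∈ W → word sᶜ ∈ W := fun s hs => by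
    rw [show sᶜ = (Finset.univ : Finset Cfsg.GolayPt) ∆ s by ext p; simp [Finset.mem_symmDiff]]
    exact hxor _ _ h1 hs
  have hmeet : ∀ {d : Finset Cfsg.GolayPt}, d ∈ Cfsg.dodecads → ∀ i, (i = 6 ∨ i = 4) →
      ∃ o ∈ Cfsg.octads, (o ∩ d).card = i := by
    intro d hd i hi
    obtain ⟨c6, -, c4⟩ := octads_meet_counts hd
    have hne : {o : Finset Cfsg.GolayPt | o ∈ Cfsg.octads ∧ (o ∩ d).card = i}.Nonempty := by
      apply Set.nonempty_of_ncard_ne_zero
      rcases hi with rfl | rfl <;> omega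
    obtain ⟨o, ho⟩ := hne
    exact ⟨o, ho⟩
  -- dodecads in `W` give octads in `W`
  have hsome : ∃ o ∈ Cfsg.octads, word o ∈ W := by
    obtain ⟨s, rfl⟩ : ∃ s, w = word s := ⟨_, (word_support₂ w).symm⟩
    have hs : IsCodeSet s := hWC hw
    rcases card_isCodeSet hs with h | h | h | h | h
    · exfalso
      refine hwns ?_
      rw [Finset.card_eq_zero.mp h, word_empty]
      exact zero_mem _
    · exact ⟨s, mem_octads_iff.mpr ⟨hs, h⟩, hw⟩
    · have hd := mem_dodecads_iff.mpr ⟨hs, h⟩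
      obtain ⟨o, ho, hom⟩ := hmeet hd 4 (Or.inr rfl)
      have hoc := mem_octads_iff.mp ho
      have hd' : o ∆ s ∈ Cfsg.dodecads := mem_dodecads_iff.mpr ⟨hoc.1.symmDiff hs, by
        have := card_symmDiff_add o s; omega⟩
      obtain ⟨g, hg, hgd⟩ := dodecads_transitive hd hd'
      refine ⟨o, ho, ?_⟩
      have := hxor _ _ (hgd ▸ hmove g hg s hw) hw
      rwa [symmDiff_symmDiff_cancel_right] at this
    · refine ⟨sᶜ, mem_octads_iff.mpr ⟨hs.compl, ?_⟩, hcompl s hw⟩
      rw [Finset.card_compl, card_golayPt, h]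
    · exfalso
      refine hwns ?_
      rw [Finset.eq_univ_of_card s (h.trans card_golayPt.symm)]
      exact Submodule.mem_span_singleton_self _
  obtain ⟨o₀, ho₀, ho₀W⟩ := hsome
  have hoct : ∀ o ∈ Cfsg.octads, word o ∈ W := fun o ho => by
    obtain ⟨g, hg, rfl⟩ := octads_transitive ho₀ ho
    exact hmove g hg o₀ ho₀W
  refine le_antisymm hWC fun c hc => ?_
  obtain ⟨s, rfl⟩ : ∃ s, c = word s := ⟨_, (word_support₂ c).symm⟩
  have hs : IsCodeSet s := hc
  rcases card_isCodeSet hs with h | h | h | h | h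
  · rw [Finset.card_eq_zero.mp h, word_empty]; exact zero_mem _
  · exact hoct s (mem_octads_iff.mpr ⟨hs, h⟩)
  · obtain ⟨o, ho, hom⟩ := hmeet (mem_dodecads_iff.mpr ⟨hs, h⟩) 6 (Or.inl rfl)
    have hoc := mem_octads_iff.mp ho
    have ho' : o ∆ s ∈ Cfsg.octads := mem_octads_iff.mpr ⟨hoc.1.symmDiff hs, by
      have := card_symmDiff_add o s; omega⟩
    have := hxor _ _ (hoct o ho) (hoct _ ho')
    rwa [symmDiff_symmDiff_cancel_left] at this
  · have := hcompl _ (hoct sᶜ (mem_octads_iff.mpr ⟨hs.compl, by rw [Finset.card_compl, card_golayPt, h]⟩))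
    rwa [compl_compl] at this
  · rw [Finset.eq_univ_of_card s (h.trans card_golayPt.symm)]; exact h1


/-- The length-24 code built from the squares modulo 23 contains the all-ones word, and the code modulo the all-ones word is an irreducible module over the field with two elements for the code's automorphism group: a subspace of the code that contains the all-ones word and is invariant under every coordinate permutation preserving the code is either the span of the all-ones word or the whole code. -/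
theorem result : (fun _ : Cfsg.GolayPt => (1 : ZMod 2)) ∈ Cfsg.golayCode ∧ ∀ W : Submodule (ZMod 2) (Cfsg.GolayPt → ZMod 2), (fun _ => (1 : ZMod 2)) ∈ W → W ≤ Cfsg.golayCode → (∀ σ ∈ Cfsg.M24, ∀ w ∈ W, (fun p => w (σ.symm p)) ∈ W) → W = Submodule.span (ZMod 2) {fun _ => (1 : ZMod 2)} ∨ W = Cfsg.golayCode := by
  exact main

end Cfsg.Agent.S5393
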