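import Cfsg.Statements.S5394
import Mathlib
import Cfsg.Agent.Lib.Golay.ClassCount

set_option autoImplicit false
open Cfsg

namespace Cfsg.Agent.S5394

open Cfsg.Agent.Lib.Golay Cfsg.Agent.Lib.Golay.Classes in
open scoped Pointwise in
/-- The automorphism group of the length-24 code built from the squares modulo 23 has exactly two conjugacy classes of involutions: an involution either fixes exactly the eight points of an octad or has no fixed points, both kinds occur, and any two involutions of the same kind are conjugate in the group. -/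
theorem result : (∀ g ∈ Cfsg.M24, orderOf g = 2 → (Finset.univ.filter fun p => g p = p) ∈ Cfsg.octads ∨ ∀ p, g p ≠ p) ∧ (∃ g ∈ Cfsg.M24, orderOf g = 2 ∧ (Finset.univ.filter fun p => g p = p) ∈ Cfsg.octads) ∧ (∃ g ∈ Cfsg.M24, orderOf g = 2 ∧ ∀ p, g p ≠ p) ∧ ∀ g ∈ Cfsg.M24, ∀ h ∈ Cfsg.M24, orderOf g = 2 → orderOf h = 2 → ((∀ p, g p ≠ p) ↔ (∀ p, h p ≠ p)) → ∃ k ∈ Cfsg.M24, k * g * k⁻¹ = h := by
  have v := reps_valid
  simp only [List.all_cons, Bool.and_eq_true] at v
  obtain ⟨v8, v0, -⟩ := v
  obtain ⟨n8, n0, -⟩ := fixNum_reps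
  have key : ∀ g ∈ Cfsg.M24, orderOf g = 2 →
      (fixCount g = 8 ∧ (Finset.univ.filter fun p => g p = p) ∈ Cfsg.octads ∧
        ∃ k ∈ Cfsg.M24, k * toPerm ClassData.rep2f8 * k⁻¹ = g) ∨
      (fixCount g = 0 ∧ ∃ k ∈ Cfsg.M24, k * toPerm ClassData.rep2f0 * k⁻¹ = g) := by
    intro g hg h2
    obtain ⟨r, hr, k, hk, e⟩ := classify_two hg h2
    simp only [List.mem_cons, List.not_mem_nil, or_false] at hr
    rcases hr with rfl | rfl
    · refine Or.inl ⟨by rw [← e, fixCount_conj, fixCount_toPerm (inM24.valid v8), n8], ?_, k, hk, e⟩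
      have h8 : (Finset.univ.filter fun p => toPerm ClassData.rep2f8 p = p) ∈ Cfsg.octads := by
        have e8 : (Finset.univ.filter fun p => toPerm ClassData.rep2f8 p = p) =
            ptsOf (((List.range 24).filter fun i => applyNum ClassData.rep2f8 i == i).foldl
              (fun a i => a ||| 1 <<< i) 0) := by
          ext p
          rw [Finset.mem_filter, mem_ptsOf]
          simp only [Finset.mem_univ, true_and]
          revert p
          decide +kernel
        rw [e8]
        exact mem_octads_of_mask (by decide +kernel)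
      have e' : (Finset.univ.filter fun p => g p = p) =
          k • (Finset.univ.filter fun p : Cfsg.GolayPt => toPerm ClassData.rep2f8 p = p :
            Finset Cfsg.GolayPt) := by
        ext p
        rw [Finset.mem_filter, Finset.mem_smul_finset, ← e]
        simp only [Finset.mem_filter, Finset.mem_univ, true_and, Equiv.Perm.mul_apply,
          Equiv.Perm.smul_def]
        constructor
        · intro h
          refine ⟨k⁻¹ p, ?_, by simp⟩
          apply k.injective
          rw [h]; simp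
        · rintro ⟨q, hq, rfl⟩
          simp [hq]
      rw [e']
      exact M24_octad hk h8
    · exact Or.inr ⟨by rw [← e, fixCount_conj, fixCount_toPerm (inM24.valid v0), n0], k, hk, e⟩
  have ord : ∀ l : List ℕ, inM24 l = true → (∀ p, toPerm l (toPerm l p) = p) →
      (∃ p, toPerm l p ≠ p) → orderOf (toPerm l) = 2 := by
    intro l _ h2 ⟨p, hp⟩
    refine orderOf_eq_prime (by ext q; simp [pow_two, h2 q]) fun e => hp ?_
    rw [e, Equiv.Perm.one_apply]
  have o8 : orderOf (toPerm ClassData.rep2f8) = 2 :=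
    ord _ v8 (by decide +kernel) (by decide +kernel)
  have o0 : orderOf (toPerm ClassData.rep2f0) = 2 :=
    ord _ v0 (by decide +kernel) (by decide +kernel)
  refine ⟨?_, ?_, ?_, ?_⟩
  · intro g hg h2
    rcases key g hg h2 with h | h
    · exact Or.inl h.2.1
    · exact Or.inr (fixCount_eq_zero.1 h.1)
  · refine ⟨_, toPerm_mem_M24 v8, o8, ?_⟩
    rcases key _ (toPerm_mem_M24 v8) o8 with h | h
    · exact h.2.1
    · rw [fixCount_toPerm (inM24.valid v8), n8] at h
      exact absurd h.1 (by norm_num)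
  · exact ⟨_, toPerm_mem_M24 v0, o0,
      fixCount_eq_zero.1 (by rw [fixCount_toPerm (inM24.valid v0), n0])⟩
  · intro g hg h hh og oh hiff
    have conj : ∀ {r a b : Equiv.Perm Cfsg.GolayPt}, (∃ k ∈ Cfsg.M24, k * r * k⁻¹ = a) →
        (∃ k ∈ Cfsg.M24, k * r * k⁻¹ = b) → ∃ k ∈ Cfsg.M24, k * a * k⁻¹ = b := by
      rintro r a b ⟨k, hk, rfl⟩ ⟨k', hk', rfl⟩
      exact ⟨k' * k⁻¹, mul_mem hk' (inv_mem hk), by group⟩
    rcases key g hg og with ⟨c1, -, h1⟩ | ⟨c1, h1⟩ <;>
      rcases key h hh oh with ⟨c2, -, h2⟩ | ⟨c2, h2⟩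
    · exact conj h1 h2
    · rw [hiff.2 (fixCount_eq_zero.1 c2) |> fixCount_eq_zero.2] at c1
      omega
    · rw [hiff.1 (fixCount_eq_zero.1 c1) |> fixCount_eq_zero.2] at c2
      omega
    · exact conj h1 h2

end Cfsg.Agent.S5394
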