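import Cfsg.Statements.S5395
import Mathlib

set_option autoImplicit false
open Cfsg

namespace Cfsg.Agent.S5395

/-- For a finite extraspecial 2-group E, an automorphism of E that induces the identity on E modulo its centre is inner (so these automorphisms form exactly the inner automorphism group, an elementary abelian 2-group of order |E|/2). -/
theorem result {E : Type*} [Group E] [Finite E] (hE : Cfsg.IsExtraspecial 2 E) (φ : E ≃* E) (hφ : ∀ x : E, φ x * x⁻¹ ∈ Subgroup.center E) : ∃ g : E, ∀ x : E, φ x = g * x * g⁻¹ := by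
  classical
  have hcen : ∀ g x : E, g * x * g⁻¹ * x⁻¹ ∈ Subgroup.center E := fun g x => by
    rw [← hE.1.2.2]; exact Subgroup.commutator_mem_commutator (Subgroup.mem_top g) (Subgroup.mem_top x)
  obtain ⟨z, -, hz1⟩ : ∃ z : E, z ∈ Subgroup.center E ∧ ∀ y ∈ Subgroup.center E, y ≠ 1 → y = z := by
    obtain ⟨u, v, huv, huniv⟩ := Nat.card_eq_two_iff.mp hE.2
    have hall : ∀ w : Subgroup.center E, w = u ∨ w = v := fun w => by
      have : w ∈ ({u, v} : Set (Subgroup.center E)) := huniv ▸ Set.mem_univ w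
      simpa using this
    rcases hall 1 with h | h
    · refine ⟨v, v.2, fun y hy hne => ?_⟩
      rcases hall ⟨y, hy⟩ with h' | h'
      · exact absurd (congrArg Subtype.val (h'.trans h.symm)) hne
      · exact congrArg Subtype.val h'
    · refine ⟨u, u.2, fun y hy hne => ?_⟩
      rcases hall ⟨y, hy⟩ with h' | h'
      · exact congrArg Subtype.val h'
      · exact absurd (congrArg Subtype.val (h'.trans h.symm)) hne
  -- the sign character of the centre
  let χ : E → ℂˣ := fun y => if y = 1 then 1 else -1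
  have hχmul : ∀ a ∈ Subgroup.center E, ∀ b ∈ Subgroup.center E, χ (a * b) = χ a * χ b := by
    intro a ha b hb
    by_cases h1 : a = 1
    · simp [χ, h1]
    by_cases h2 : b = 1
    · simp [χ, h2]
    have ha' := hz1 a ha h1
    have hb' := hz1 b hb h2
    have hab : a * b = 1 := by
      have hsq : a * a = 1 := by
        have := congrArg Subtype.val (pow_card_eq_one' (x := (⟨a, ha⟩ : Subgroup.center E)))
        rw [hE.2] at this
        simpa [pow_two] using this
      rwa [show b = a from hb'.trans ha'.symm]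
    simp [χ, hab, h1, h2]
  have hχ1 : ∀ a, χ a = 1 → a = 1 := by
    intro a h
    by_contra h1
    simp [χ, h1] at h
  have hcomm : ∀ g x y : E, g * (x * y) * g⁻¹ * (x * y)⁻¹ = (g * x * g⁻¹ * x⁻¹) * (g * y * g⁻¹ * y⁻¹) := by
    intro g x y
    have h := Subgroup.mem_center_iff.mp (hcen g y) x
    calc g * (x * y) * g⁻¹ * (x * y)⁻¹
        = g * x * g⁻¹ * (g * y * g⁻¹ * y⁻¹) * x⁻¹ := by simp [mul_assoc]
      _ = g * x * g⁻¹ * x⁻¹ * (x * (g * y * g⁻¹ * y⁻¹)) * x⁻¹ := by simp [mul_assoc]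
      _ = _ := by rw [h]; simp [mul_assoc]
  let θ : E → (E →* ℂˣ) := fun g =>
    MonoidHom.mk' (fun x => χ (g * x * g⁻¹ * x⁻¹)) fun x y => by
      rw [hcomm, hχmul _ (hcen g x) _ (hcen g y)]
  have hcomm' : ∀ g h x : E, g * h * x * (g * h)⁻¹ * x⁻¹ = (g * x * g⁻¹ * x⁻¹) * (h * x * h⁻¹ * x⁻¹) := by
    intro g h x
    have hh := Subgroup.mem_center_iff.mp (hcen h x) g
    calc g * h * x * (g * h)⁻¹ * x⁻¹
        = g * (h * x * h⁻¹ * x⁻¹) * x * g⁻¹ * x⁻¹ := by simp [mul_assoc]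
      _ = (h * x * h⁻¹ * x⁻¹) * (g * x * g⁻¹ * x⁻¹) := by rw [hh]; simp [mul_assoc]
      _ = _ := (Subgroup.mem_center_iff.mp (hcen h x) _).symm
  let Θ : E →* (E →* ℂˣ) := MonoidHom.mk' θ fun g h => MonoidHom.ext fun x => by
    show χ (g * h * x * (g * h)⁻¹ * x⁻¹) = χ (g * x * g⁻¹ * x⁻¹) * χ (h * x * h⁻¹ * x⁻¹)
    rw [hcomm', hχmul _ (hcen g x) _ (hcen h x)]
  have hker : Θ.ker = commutator E := by
    rw [hE.1.2.2]
    ext g
    rw [MonoidHom.mem_ker, Subgroup.mem_center_iff]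
    constructor
    · intro h x
      have := hχ1 _ (DFunLike.congr_fun h x)
      rw [mul_inv_eq_one, mul_inv_eq_iff_eq_mul] at this
      exact this.symm
    · intro h
      refine MonoidHom.ext fun x => ?_
      show χ (g * x * g⁻¹ * x⁻¹) = 1
      rw [← h x]
      simp [χ]
  have hcard : Nat.card Θ.range = Nat.card (E →* ℂˣ) := by
    rw [← Nat.card_congr (QuotientGroup.quotientKerEquivRange Θ).toEquiv,
      Nat.card_congr (Subgroup.quotientEquivOfEq hker),
      Nat.card_congr (Abelianization.lift (G := E) (A := ℂˣ)),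
      CommGroup.card_monoidHom_of_hasEnoughRootsOfUnity (Abelianization E) ℂ]
    rfl
  have : Finite (E →* ℂˣ) :=
    Finite.of_equiv (Abelianization E →* ℂˣ) (Abelianization.lift (G := E) (A := ℂˣ)).symm
  have hsurj : Θ.range = ⊤ := Subgroup.eq_top_of_card_eq _ hcard
  have hzc : ∀ y ∈ Subgroup.center E, φ y = y := by
    intro y hy
    by_cases h1 : y = 1
    · rw [h1, map_one]
    · have hy' : φ y ∈ Subgroup.center E := by
        rw [Subgroup.mem_center_iff]
        intro w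
        obtain ⟨w', rfl⟩ := φ.surjective w
        rw [← map_mul, ← map_mul, Subgroup.mem_center_iff.mp hy w']
      have hne : φ y ≠ 1 := fun h => h1 ((map_eq_one_iff φ φ.injective).mp h)
      exact (hz1 _ hy' hne).trans (hz1 _ hy h1).symm
  have hcmul : ∀ x y : E, φ (x * y) * (x * y)⁻¹ = (φ x * x⁻¹) * (φ y * y⁻¹) := by
    intro x y
    have h := Subgroup.mem_center_iff.mp (hφ y) x⁻¹
    calc φ (x * y) * (x * y)⁻¹ = φ x * ((φ y * y⁻¹) * x⁻¹) := by rw [map_mul]; simp [mul_assoc]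
      _ = φ x * (x⁻¹ * (φ y * y⁻¹)) := by rw [h]
      _ = _ := by simp [mul_assoc]
  let c : E →* ℂˣ := MonoidHom.mk' (fun x => χ (φ x * x⁻¹)) fun x y => by
    rw [hcmul, hχmul _ (hφ x) _ (hφ y)]
  obtain ⟨g, hg⟩ : c ∈ Θ.range := hsurj ▸ Subgroup.mem_top c
  refine ⟨g, fun x => ?_⟩
  have hx : χ (g * x * g⁻¹ * x⁻¹) = χ (φ x * x⁻¹) := DFunLike.congr_fun hg x
  have heq : φ x * x⁻¹ = g * x * g⁻¹ * x⁻¹ := by
    by_cases h1 : φ x * x⁻¹ = 1
    · rw [h1]; exact (hχ1 _ (by rw [hx, h1]; simp [χ])).symm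
    · have h2 : g * x * g⁻¹ * x⁻¹ ≠ 1 := fun h => h1 (hχ1 _ (by rw [← hx, h]; simp [χ]))
      exact (hz1 _ (hφ x) h1).trans (hz1 _ (hcen g x) h2).symm
  exact mul_right_cancel heq

end Cfsg.Agent.S5395
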