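import Cfsg.Statements.S5396
import Mathlib
import Cfsg.Prelude.Def_Transfer
import Cfsg.Agent.Lib.PGroup.Frattini

set_option autoImplicit false
open Cfsg

namespace Cfsg.Agent.S5396

abbrev K := ZMod 2

/-- A coordinate plane. -/
abbrev Pl := K × K

/-- The two local cocycles. -/
def bPl (minus : Bool) (p q : Pl) : K :=
  if minus then p.1 * q.2 + p.1 * q.1 + p.2 * q.2 else p.1 * q.2

theorem bPl_add_left : ∀ m p p' q, bPl m (p + p') q = bPl m p q + bPl m p' q := by decide +kernel

theorem bPl_add_right : ∀ m p q q', bPl m p (q + q') = bPl m p q + bPl m p q' := by decide +kernel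

theorem bPl_polar : ∀ m p q, bPl m p q + bPl m q p = p.1 * q.2 + p.2 * q.1 := by decide +kernel

theorem bPl_nondeg : ∀ p : Pl, p ≠ 0 → ∃ q : Pl, p.1 * q.2 + p.2 * q.1 ≠ 0 := by decide +kernel

/-- The sign character. -/
def chi (a : K) : ℤ := if a = 0 then 1 else -1

theorem chi_add : ∀ a b : K, chi (a + b) = chi a * chi b := by decide

theorem chi_sum {ι : Type*} (s : Finset ι) (f : ι → K) : chi (∑ i ∈ s, f i) = ∏ i ∈ s, chi (f i) := by
  classical
  induction s using Finset.induction_on with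
  | empty => rfl
  | insert i s hi ih => rw [Finset.sum_insert hi, Finset.prod_insert hi, chi_add, ih]

theorem chi_neg : ∀ a : K, a ≠ 0 → chi a = -1 := by decide

theorem sum_chi_hom {A : Type*} [AddCommGroup A] [Fintype A] (f : A →+ K) (h : f ≠ 0) :
    ∑ x, chi (f x) = 0 := by
  obtain ⟨x₀, hx₀⟩ : ∃ x₀, f x₀ ≠ 0 := by
    by_contra! hc
    exact h (AddMonoidHom.ext fun x => by simpa using hc x)
  have e : ∑ x, chi (f (x + x₀)) = ∑ x, chi (f x) :=
    Fintype.sum_equiv (Equiv.addRight x₀) _ _ fun x => rfl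
  simp only [map_add, chi_add, chi_neg _ hx₀, mul_neg, mul_one, Finset.sum_neg_distrib] at e
  omega

variable {n : ℕ}

/-- The points. -/
abbrev Pt (n : ℕ) := Fin n → Pl

/-- A cocycle: a type for every coordinate plane. -/
abbrev Form (n : ℕ) := Fin n → Bool

def plusForm (n : ℕ) : Form n := fun _ => false

def minusForm (m : ℕ) : Form (m + 1) := fun i => i == 0

/-- The cocycle. -/
def coc (b : Form n) (v w : Pt n) : K := ∑ i, bPl (b i) (v i) (w i)

/-- The commutator pairing. -/
def polarK (v w : Pt n) : K := ∑ i, ((v i).1 * (w i).2 + (v i).2 * (w i).1)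

theorem coc_add_left (b : Form n) (v v' w : Pt n) : coc b (v + v') w = coc b v w + coc b v' w := by
  simp [coc, bPl_add_left, Finset.sum_add_distrib]

theorem coc_add_right (b : Form n) (v w w' : Pt n) : coc b v (w + w') = coc b v w + coc b v w' := by
  simp [coc, bPl_add_right, Finset.sum_add_distrib]

theorem coc_polar (b : Form n) (v w : Pt n) : coc b v w + coc b w v = polarK v w := by
  simp [coc, polarK, ← Finset.sum_add_distrib, bPl_polar]

theorem coc_zero_left (b : Form n) (w : Pt n) : coc b 0 w = 0 := by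
  have h := coc_add_left b 0 0 w
  rw [add_zero] at h
  simpa using h

theorem coc_zero_right (b : Form n) (w : Pt n) : coc b w 0 = 0 := by
  have h := coc_add_right b w 0 0
  rw [add_zero] at h
  simpa using h

theorem polarK_add_left (v v' w : Pt n) : polarK (v + v') w = polarK v w + polarK v' w := by
  rw [← coc_polar (fun _ => false), ← coc_polar (fun _ => false), ← coc_polar (fun _ => false),
    coc_add_left, coc_add_right]
  abel

theorem polarK_comm (v w : Pt n) : polarK v w = polarK w v := by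
  rw [← coc_polar (fun _ => false), ← coc_polar (fun _ => false), add_comm]

theorem polarK_nondeg {v : Pt n} (h : v ≠ 0) : ∃ w, polarK v w ≠ 0 := by
  obtain ⟨i, hi⟩ : ∃ i, v i ≠ 0 := by
    by_contra! hc; exact h (funext hc)
  obtain ⟨q, hq⟩ := bPl_nondeg _ hi
  refine ⟨Pi.single i q, ?_⟩
  rw [polarK, Finset.sum_eq_single i (fun j _ hj => by simp [Pi.single_eq_of_ne hj]) (by simp),
    Pi.single_eq_same]
  exact hq

theorem add_self (v : Pt n) : v + v = 0 :=
  funext fun i => Prod.ext (CharTwo.add_self_eq_zero _) (CharTwo.add_self_eq_zero _)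

/-- The central extension. -/
@[ext] structure Ext (b : Form n) where
  /-- Central coordinate. -/
  a : K
  /-- The point. -/
  v : Pt n

variable {b : Form n}

instance instMulExt : Mul (Ext b) := ⟨fun x y => ⟨x.a + y.a + coc b x.v y.v, x.v + y.v⟩⟩
instance instOneExt : One (Ext b) := ⟨⟨0, 0⟩⟩
instance instInvExt : Inv (Ext b) := ⟨fun x => ⟨x.a + coc b x.v x.v, x.v⟩⟩

@[simp] theorem mul_a (x y : Ext b) : (x * y).a = x.a + y.a + coc b x.v y.v := rfl
@[simp] theorem mul_v (x y : Ext b) : (x * y).v = x.v + y.v := rfl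
@[simp] theorem one_a : (1 : Ext b).a = 0 := rfl
@[simp] theorem one_v : (1 : Ext b).v = 0 := rfl
@[simp] theorem inv_a (x : Ext b) : x⁻¹.a = x.a + coc b x.v x.v := rfl
@[simp] theorem inv_v (x : Ext b) : x⁻¹.v = x.v := rfl

instance instGroupExt : Group (Ext b) :=
  Group.ofLeftAxioms
    (fun x y z => Ext.ext (by simp only [mul_a, mul_v, coc_add_left, coc_add_right]; abel)
      (by simp only [mul_v, add_assoc]))
    (fun x => Ext.ext (by simp [coc_zero_left]) (by simp))
    (fun x => Ext.ext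
      (by
        simp only [mul_a, inv_a, inv_v, one_a]
        rw [show x.a + coc b x.v x.v + x.a + coc b x.v x.v =
          (x.a + x.a) + (coc b x.v x.v + coc b x.v x.v) by abel, CharTwo.add_self_eq_zero,
          CharTwo.add_self_eq_zero, add_zero])
      (by simp only [mul_v, inv_v, one_v, add_self]))

/-- Coordinates. -/
def extEquiv (b : Form n) : Ext b ≃ K × Pt n :=
  ⟨fun x => (x.a, x.v), fun p => ⟨p.1, p.2⟩, fun _ => rfl, fun _ => rfl⟩

instance instFiniteExt : Finite (Ext b) := Finite.of_equiv _ (extEquiv b).symm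

theorem card_pt (n : ℕ) : Fintype.card (Pt n) = 2 ^ n * 2 ^ n := by
  simp [← mul_pow]

theorem card_ext (b : Form n) : Nat.card (Ext b) = 2 ^ (2 * n + 1) := by
  rw [Nat.card_congr (extEquiv b), Nat.card_eq_fintype_card, Fintype.card_prod, card_pt, ZMod.card]
  ring

theorem commute_iff (x y : Ext b) : x * y = y * x ↔ polarK x.v y.v = 0 := by
  rw [← coc_polar b, Ext.ext_iff]
  simp only [mul_a, mul_v]
  rw [CharTwo.add_eq_zero]
  constructor
  · rintro ⟨h, -⟩
    rw [add_comm y.a x.a] at h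
    exact add_left_cancel h
  · intro h; exact ⟨by rw [h, add_comm x.a], add_comm _ _⟩

theorem mem_center_iff (x : Ext b) : x ∈ Subgroup.center (Ext b) ↔ x.v = 0 := by
  rw [Subgroup.mem_center_iff]
  constructor
  · intro h
    by_contra hv
    obtain ⟨w, hw⟩ := polarK_nondeg hv
    exact hw ((commute_iff x ⟨0, w⟩).mp (h ⟨0, w⟩).symm)
  · intro h y
    refine (commute_iff y x).mpr ?_
    simp [h, polarK]

theorem pow_two_eq (x : Ext b) : x ^ 2 = ⟨coc b x.v x.v, 0⟩ := by
  rw [pow_two]
  exact Ext.ext (by simp [CharTwo.add_self_eq_zero]) (by simp [add_self])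

theorem card_center [NeZero n] : Nat.card (Subgroup.center (Ext b)) = 2 := by
  let e : Subgroup.center (Ext b) ≃ K :=
    { toFun := fun x => x.1.a
      invFun := fun a => ⟨⟨a, 0⟩, (mem_center_iff _).mpr rfl⟩
      left_inv := fun x => Subtype.ext (Ext.ext rfl ((mem_center_iff _).mp x.2).symm)
      right_inv := fun _ => rfl }
  rw [Nat.card_congr e, Nat.card_zmod]

theorem k_cases : ∀ a : K, a = 0 ∨ a = 1 := by decide

theorem isExtraspecial [NeZero n] (b : Form n) : Cfsg.IsExtraspecial 2 (Ext b) := by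
  have : Fact (Nat.Prime 2) := ⟨Nat.prime_two⟩
  have hG : IsPGroup 2 (Ext b) := IsPGroup.of_card (card_ext b)
  have hle : commutator (Ext b) ≤ Subgroup.center (Ext b) := by
    rw [commutator_def, Subgroup.commutator_le]
    intro x _ y _
    rw [mem_center_iff, commutatorElement_def]
    simp only [mul_v, inv_v]
    rw [show x.v + y.v + x.v + y.v = (x.v + x.v) + (y.v + y.v) by abel, add_self, add_self, add_zero]
  have hge : Subgroup.center (Ext b) ≤ commutator (Ext b) := by
    obtain ⟨x, y, hxy⟩ : ∃ x y : Ext b, x * y ≠ y * x := by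
      obtain ⟨w, hw⟩ := polarK_nondeg (v := Pi.single (0 : Fin n) ((1, 1) : Pl))
        (fun h => by have := congrFun h 0; simp at this)
      exact ⟨⟨0, _⟩, ⟨0, w⟩, fun h => hw ((commute_iff _ _).mp h)⟩
    have hmem : x * y * x⁻¹ * y⁻¹ ∈ commutator (Ext b) :=
      Subgroup.commutator_mem_commutator (Subgroup.mem_top x) (Subgroup.mem_top y)
    have hne : x * y * x⁻¹ * y⁻¹ ≠ 1 := fun h => hxy (by
      rwa [mul_inv_eq_one, mul_inv_eq_iff_eq_mul] at h)
    intro c hc
    have hc' := (mem_center_iff c).mp hc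
    have hz := (mem_center_iff _).mp (hle hmem)
    rcases k_cases c.a with h | h
    · rw [show c = 1 from Ext.ext h hc']; exact one_mem _
    · rcases k_cases (x * y * x⁻¹ * y⁻¹).a with h' | h'
      · exact absurd (Ext.ext h' hz) hne
      · rw [show c = x * y * x⁻¹ * y⁻¹ from Ext.ext (h.trans h'.symm) (hc'.trans hz.symm)]
        exact hmem
  refine ⟨⟨hG, le_antisymm ?_ ?_, le_antisymm hle hge⟩, card_center⟩
  · exact Lib.PFrattini.frattini_le hle fun x => by rw [mem_center_iff, pow_two_eq]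
  · exact hge.trans (Lib.PFrattini.commutator_le_frattini hG)

/-- The sum of signs of the square map. -/
def signSum (b : Form n) : ℤ := ∑ v : Pt n, chi (coc b v v)

theorem sum_plane : ∀ m, ∑ p : Pl, chi (bPl m p p) = if m then -2 else 2 := by decide +kernel

theorem signSum_eq (b : Form n) : signSum b = ∏ i, (if b i then (-2 : ℤ) else 2) := by
  rw [Finset.prod_congr rfl (fun i _ => (sum_plane (b i)).symm), Fintype.prod_sum]
  simp only [signSum, coc, chi_sum]

section Isotropic

variable (W : Finset (Pt n)) (h0 : (0 : Pt n) ∈ W) (hadd : ∀ v ∈ W, ∀ w ∈ W, v + w ∈ W)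
  (hiso : ∀ v ∈ W, ∀ w ∈ W, polarK v w = 0)
include h0 hadd

/-- The vectors orthogonal to `W`. -/
theorem sum_chi_polar (v : Pt n) :
    ∑ w ∈ W, chi (polarK v w) = if ∀ w ∈ W, polarK v w = 0 then (W.card : ℤ) else 0 := by
  split_ifs with h
  · rw [Finset.sum_congr rfl (fun w hw => by rw [h w hw]), Finset.sum_const]
    simp [chi]
  · push Not at h
    obtain ⟨w₀, hw₀, hne⟩ := h
    have _ := h0
    have e : ∑ w ∈ W, chi (polarK v (w + w₀)) = ∑ w ∈ W, chi (polarK v w) :=
      Finset.sum_bij' (fun w _ => w + w₀) (fun w _ => w + w₀) (fun w hw => hadd w hw w₀ hw₀)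
        (fun w hw => hadd w hw w₀ hw₀) (fun w _ => by rw [add_assoc, add_self, add_zero])
        (fun w _ => by rw [add_assoc, add_self, add_zero]) fun w _ => rfl
    simp only [polarK_comm v, polarK_add_left, chi_add] at e
    simp only [← polarK_comm v] at e
    rw [Finset.sum_congr rfl (fun w _ => by rw [chi_neg _ hne, mul_neg, mul_one]),
      Finset.sum_neg_distrib] at e
    omega

theorem card_mul_perp :
    (W.card : ℤ) * (Finset.univ.filter fun v : Pt n => ∀ w ∈ W, polarK v w = 0).card =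
      2 ^ n * 2 ^ n := by
  have h : ∑ v : Pt n, ∑ w ∈ W, chi (polarK v w) = ∑ w ∈ W, ∑ v : Pt n, chi (polarK v w) :=
    Finset.sum_comm
  simp only [sum_chi_polar W h0 hadd, Finset.sum_ite, Finset.sum_const, smul_zero, add_zero,
    nsmul_eq_mul] at h
  rw [Finset.sum_eq_single (0 : Pt n)] at h
  · have e : ∀ v : Pt n, chi (polarK v 0) = 1 := fun v => by simp [polarK, chi]
    simp only [e, Finset.sum_const, Finset.card_univ, nsmul_eq_mul, mul_one] at h
    rw [card_pt] at h
    push_cast at h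
    rw [mul_comm, h]
  · intro w _ hw
    refine sum_chi_hom (AddMonoidHom.mk' (fun v => polarK v w) fun v v' => polarK_add_left v v' w) ?_
    intro h'
    obtain ⟨v, hv⟩ := polarK_nondeg hw
    exact hv (by rw [polarK_comm]; exact DFunLike.congr_fun h' v)
  · exact fun h' => absurd h0 h'

include hiso in
theorem card_le : W.card ≤ 2 ^ n := by
  have h := card_mul_perp W h0 hadd
  have hle : W.card ≤ (Finset.univ.filter fun v : Pt n => ∀ w ∈ W, polarK v w = 0).card :=
    Finset.card_le_card fun v hv => Finset.mem_filter.mpr ⟨Finset.mem_univ v, hiso v hv⟩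
  have h2 : W.card * W.card ≤ 2 ^ n * 2 ^ n :=
    (Nat.mul_le_mul_left _ hle).trans (le_of_eq (by exact_mod_cast h))
  exact Nat.mul_self_le_mul_self_iff.mp h2

include hiso in
theorem signSum_of_max (hsing : ∀ v ∈ W, coc b v v = 0) (hcard : W.card = 2 ^ n) :
    signSum b = 2 ^ n := by
  have h := card_mul_perp W h0 hadd
  rw [hcard] at h
  have hperp : (Finset.univ.filter fun v : Pt n => ∀ w ∈ W, polarK v w = 0) = W := by
    symm
    refine Finset.eq_of_subset_of_card_le
      (fun v hv => Finset.mem_filter.mpr ⟨Finset.mem_univ v, hiso v hv⟩) (le_of_eq ?_)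
    rw [hcard]
    have hpos : (2 : ℤ) ^ n ≠ 0 := pow_ne_zero _ (by norm_num)
    push_cast at h
    exact_mod_cast mul_left_cancel₀ hpos h
  have e1 : ∀ w ∈ W, ∑ v, chi (coc b (v + w) (v + w)) = signSum b := fun w _ =>
    Fintype.sum_equiv (Equiv.addRight w) _ _ fun x => rfl
  have e2 : ∀ v, ∀ w ∈ W, chi (coc b (v + w) (v + w)) = chi (coc b v v) * chi (polarK v w) := by
    intro v w hw
    rw [← chi_add, ← coc_polar b v w, coc_add_left, coc_add_right, coc_add_right, hsing w hw]
    congr 1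
    abel
  have key : (W.card : ℤ) * signSum b = (W.card : ℤ) * 2 ^ n :=
    calc (W.card : ℤ) * signSum b = ∑ w ∈ W, signSum b := by simp
      _ = ∑ w ∈ W, ∑ v, chi (coc b (v + w) (v + w)) := Finset.sum_congr rfl fun w hw => (e1 w hw).symm
      _ = ∑ v, ∑ w ∈ W, chi (coc b (v + w) (v + w)) := Finset.sum_comm
      _ = ∑ v, chi (coc b v v) * ∑ w ∈ W, chi (polarK v w) :=
          Finset.sum_congr rfl fun v _ => by rw [Finset.mul_sum]; exact Finset.sum_congr rfl (e2 v)
      _ = ∑ v ∈ W, (W.card : ℤ) := by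
          simp only [sum_chi_polar W h0 hadd, mul_ite, mul_zero, ← Finset.sum_filter, hperp]
          exact Finset.sum_congr rfl fun v hv => by simp [hsing v hv, chi]
      _ = (W.card : ℤ) * 2 ^ n := by simp [hcard]
  exact mul_left_cancel₀ (by simp [hcard]) key

end Isotropic

/-- The rank of an extension. -/
theorem sSup_eq {r : ℕ}
    (hex : ∃ A : Subgroup (Ext b), Cfsg.IsElementaryAbelian 2 A ∧ Nat.card A = 2 ^ r)
    (hub : ∀ (k : ℕ) (A : Subgroup (Ext b)), Cfsg.IsElementaryAbelian 2 A → Nat.card A = 2 ^ k → k ≤ r) :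
    sSup {k : ℕ | ∃ A : Subgroup (Ext b), Cfsg.IsElementaryAbelian 2 A ∧ Nat.card A = 2 ^ k} = r := by
  refine le_antisymm (csSup_le ⟨r, hex⟩ ?_) (le_csSup ⟨r, ?_⟩ hex) <;>
    · rintro k ⟨A, h1, h2⟩; exact hub k A h1 h2

open Classical in
theorem image_facts (A : Subgroup (Ext b)) (hA : Cfsg.IsElementaryAbelian 2 A) :
    ∃ W : Finset (Pt n), (0 : Pt n) ∈ W ∧ (∀ v ∈ W, ∀ w ∈ W, v + w ∈ W) ∧
      (∀ v ∈ W, ∀ w ∈ W, polarK v w = 0) ∧ (∀ v ∈ W, coc b v v = 0) ∧ Nat.card A ≤ 2 * W.card := by
  obtain ⟨hAc, hA2⟩ := hA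
  refine ⟨Finset.univ.filter fun v => ∃ x ∈ A, x.v = v, ?_, ?_, ?_, ?_, ?_⟩
  · exact Finset.mem_filter.mpr ⟨Finset.mem_univ _, 1, one_mem A, rfl⟩
  · intro v hv w hw
    obtain ⟨-, x, hx, rfl⟩ := Finset.mem_filter.mp hv
    obtain ⟨-, y, hy, rfl⟩ := Finset.mem_filter.mp hw
    exact Finset.mem_filter.mpr ⟨Finset.mem_univ _, x * y, mul_mem hx hy, rfl⟩
  · intro v hv w hw
    obtain ⟨-, x, hx, rfl⟩ := Finset.mem_filter.mp hv
    obtain ⟨-, y, hy, rfl⟩ := Finset.mem_filter.mp hw
    exact (commute_iff x y).mp (congrArg Subtype.val (mul_comm' (⟨x, hx⟩ : A) ⟨y, hy⟩))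
  · intro v hv
    obtain ⟨-, x, hx, rfl⟩ := Finset.mem_filter.mp hv
    have := hA2 x hx
    rw [pow_two_eq] at this
    exact congrArg Ext.a this
  · let g : A → K × {v : Pt n // v ∈ Finset.univ.filter fun v => ∃ x ∈ A, x.v = v} := fun x =>
      (x.1.a, ⟨x.1.v, Finset.mem_filter.mpr ⟨Finset.mem_univ _, x.1, x.2, rfl⟩⟩)
    refine (Nat.card_le_card_of_injective g fun x y h => Subtype.ext ?_).trans_eq ?_
    · exact Ext.ext (congrArg Prod.fst h) (congrArg (fun p => (p.2 : Pt n)) h)
    · simp [Nat.card_eq_fintype_card, Fintype.card_subtype]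

/-- A standard abelian subgroup. -/
def stdSub (b : Form n) : Subgroup (Ext b) where
  carrier := {x | ∀ i, x.v i = if b i then 0 else (x.v i).1 • ((1, 0) : Pl)}
  one_mem' i := by simp
  mul_mem' {x y} hx hy i := by
    simp only [mul_v, Pi.add_apply]
    rw [hx i, hy i]
    generalize (x.v i).1 = p
    generalize (y.v i).1 = q
    cases b i <;> revert p q <;> decide
  inv_mem' {x} hx i := by simpa using hx i

theorem std_elem : ∀ (m : Bool) (p q : Pl), (p = if m then 0 else p.1 • ((1, 0) : Pl)) →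
    (q = if m then 0 else q.1 • ((1, 0) : Pl)) →
    bPl m p p = 0 ∧ p.1 * q.2 + p.2 * q.1 = 0 := by decide +kernel

theorem stdSub_elementary (b : Form n) : Cfsg.IsElementaryAbelian 2 (stdSub b) := by
  refine ⟨⟨⟨fun x y => Subtype.ext ?_⟩⟩, fun x hx => ?_⟩
  · refine (commute_iff x.1 y.1).mpr ?_
    exact Finset.sum_eq_zero fun i _ => (std_elem _ _ _ (x.2 i) (y.2 i)).2
  · rw [pow_two_eq]
    refine Ext.ext ?_ rfl
    show coc b x.v x.v = 0
    exact Finset.sum_eq_zero fun i _ => (std_elem _ _ _ (hx i) (hx i)).1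

/-- The coordinates of the standard subgroup. -/
def stdEquiv (b : Form n) : stdSub b ≃ K × ({i // b i = false} → K) where
  toFun x := (x.1.a, fun i => (x.1.v i).1)
  invFun p := ⟨⟨p.1, fun i => if h : b i = false then p.2 ⟨i, h⟩ • ((1, 0) : Pl) else 0⟩, fun i => by
    cases h : b i <;> simp [h]⟩
  left_inv x := Subtype.ext (Ext.ext rfl (funext fun i => by
    have := x.2 i
    cases h : b i
    · rw [h] at this; simpa [h] using this.symm
    · rw [h] at this; simpa [h] using this.symm))
  right_inv p := Prod.ext rfl (funext fun i => by simp [i.2])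

theorem card_stdSub (b : Form n) :
    Nat.card (stdSub b) = 2 ^ ((Finset.univ.filter fun i => b i = false).card + 1) := by
  rw [Nat.card_congr (stdEquiv b), Nat.card_eq_fintype_card, Fintype.card_prod, Fintype.card_fun,
    ZMod.card, Fintype.card_subtype]
  ring

theorem rank_le (b : Form n) (k : ℕ) (A : Subgroup (Ext b)) (hA : Cfsg.IsElementaryAbelian 2 A)
    (hk : Nat.card A = 2 ^ k) : k ≤ n + 1 := by
  obtain ⟨W, h0, hadd, hiso, -, hcard⟩ := image_facts A hA
  have := card_le W h0 hadd hiso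
  refine (Nat.pow_le_pow_iff_right (le_refl 2)).mp (hk ▸ hcard.trans ?_)
  rw [pow_succ']; omega

theorem rank_plus (n : ℕ) :
    sSup {k : ℕ | ∃ A : Subgroup (Ext (plusForm n)), Cfsg.IsElementaryAbelian 2 A ∧
      Nat.card A = 2 ^ k} = n + 1 := by
  refine sSup_eq ⟨stdSub _, stdSub_elementary _, ?_⟩ (rank_le _)
  simp [card_stdSub, plusForm]

theorem rank_minus (m : ℕ) :
    sSup {k : ℕ | ∃ A : Subgroup (Ext (minusForm m)), Cfsg.IsElementaryAbelian 2 A ∧
      Nat.card A = 2 ^ k} = m + 1 := by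
  refine sSup_eq ⟨stdSub _, stdSub_elementary _, ?_⟩ fun k A hA hk => ?_
  · have : (Finset.univ.filter fun i : Fin (m + 1) => minusForm m i = false) =
        Finset.univ.erase 0 := by
      ext i; simp [minusForm]
    rw [card_stdSub, this, Finset.card_erase_of_mem (Finset.mem_univ _)]
    simp
  · refine (Nat.lt_succ_iff_lt_or_eq.mp (Nat.lt_succ_of_le (rank_le _ k A hA hk))).elim
      Nat.le_of_lt_succ fun he => ?_
    exfalso
    obtain ⟨W, h0, hadd, hiso, hsing, hcard⟩ := image_facts A hA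
    have hW : W.card = 2 ^ (m + 1) := by
      refine le_antisymm (card_le W h0 hadd hiso) ?_
      rw [hk, he, pow_succ'] at hcard
      omega
    have h := signSum_of_max W h0 hadd hiso hsing hW
    rw [signSum_eq, Fin.prod_univ_succ] at h
    simp [minusForm, Fin.succ_ne_zero] at h
    have hpos : (0 : ℤ) < 2 ^ m := pow_pos (by norm_num) m
    rw [pow_succ'] at h
    omega


/-- For every n ≥ 1 there exist finite extraspecial 2-groups of order 2^(2n+1) whose 2-rank (the largest rank of an elementary abelian subgroup) is n, and ones whose 2-rank is n + 1 (so for each such order there are two non-isomorphic extraspecial 2-groups, told apart by their 2-rank). -/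
theorem result (n : ℕ) (hn : 1 ≤ n) : ∀ r ∈ ({n, n + 1} : Set ℕ), ∃ (E : Type) (_ : Group E) (_ : Finite E), Cfsg.IsExtraspecial 2 E ∧ Nat.card E = 2 ^ (2 * n + 1) ∧ sSup {k : ℕ | ∃ A : Subgroup E, Cfsg.IsElementaryAbelian 2 A ∧ Nat.card A = 2 ^ k} = r := by
  intro r hr
  obtain ⟨m, rfl⟩ : ∃ m, n = m + 1 := ⟨n - 1, by omega⟩
  rcases hr with rfl | rfl
  · exact ⟨Ext (minusForm m), inferInstance, inferInstance, isExtraspecial _, card_ext _, rank_minus m⟩
  · exact ⟨Ext (plusForm (m + 1)), inferInstance, inferInstance, isExtraspecial _, card_ext _, rank_plus _⟩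

end Cfsg.Agent.S5396
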