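import Cfsg.Statements.S5397
import Cfsg.Agent.Lib.Co1Todd15.Golay
import Cfsg.Agent.Lib.Co1Todd15.Split
import Cfsg.Agent.Lib.CoType29.Interface

set_option autoImplicit false
open Cfsg

namespace Cfsg.Agent.S5397

/-- Let G be a finite group of Conway type (involution z with generalized Fitting subgroup Q of its centralizer C extraspecial of order 2^9, C/Q the commutator subgroup of the isometry group of the hyperbolic quadratic form in dimension 8 over the field with two elements, z not weakly closed in Q). Then G has an elementary abelian subgroup A of order 2^11 containing z whose normalizer N is a split extension of A with N/A isomorphic to the automorphism group of the length-24 code built from the squares modulo 23, and N has exactly two orbits on the non-identity elements of A. -/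
theorem result {G : Type*} [Group G] [Finite G] (z : G) (hz : orderOf z = 2) (Q : Subgroup (Subgroup.centralizer ({z} : Set G))) [Q.Normal] (hF : Cfsg.generalizedFittingSubgroup (Subgroup.centralizer ({z} : Set G)) = Q) (hQ : Cfsg.IsExtraspecial 2 Q) (hcard : Nat.card Q = 2 ^ 9) (e : (Subgroup.centralizer ({z} : Set G)) ⧸ Q ≃* Cfsg.Omega (ZMod 2) (Cfsg.quadFormPlus 4 (ZMod 2))) (hnwc : ∃ g : G, (∃ hq : g * z * g⁻¹ ∈ Subgroup.centralizer ({z} : Set G), (⟨g * z * g⁻¹, hq⟩ : Subgroup.centralizer ({z} : Set G)) ∈ Q) ∧ g * z * g⁻¹ ≠ z) : ∃ A : Subgroup G, Cfsg.IsElementaryAbelian 2 A ∧ Nat.card A = 2 ^ 11 ∧ z ∈ A ∧ ∃ _ : (A.subgroupOf (Subgroup.normalizer (A : Set G))).Normal, Nonempty (↥(Subgroup.normalizer (A : Set G)) ⧸ A.subgroupOf (Subgroup.normalizer (A : Set G)) ≃* ↥Cfsg.M24) ∧ (∃ K : Subgroup ↥(Subgroup.normalizer (A : Set G)), (A.subgroupOf (Subgroup.normalizer (A : Set G))).IsComplement' K) ∧ ∃ a ∈ A, ∃ b ∈ A, a ≠ 1 ∧ b ≠ 1 ∧ (∀ n ∈ Subgroup.normalizer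 (A : Set G), n * a * n⁻¹ ≠ b) ∧ ∀ c ∈ A, c ≠ 1 → ∃ n ∈ Subgroup.normalizer (A : Set G), n * c * n⁻¹ = a ∨ n * c * n⁻¹ = b := by
  obtain ⟨Qf, H⟩ := Cfsg.Agent.Lib.CoType29.exists_hyp z hz Q hF hQ hcard e hnwc
  obtain ⟨T⟩ := Cfsg.Agent.Lib.Co1Todd15.exists_todd H
  refine ⟨T.basis.A H, ⟨⟨⟨fun a b => Subtype.ext (T.comm_A H a.2 b.2)⟩⟩, fun a ha => by rw [pow_two]; exact T.sq_A H ha⟩,
    T.card_A H, T.basis.z_mem_A H, ?_⟩
  have hker : (T.basis.A H).normalizerMonoidHom.ker =
      (T.basis.A H).subgroupOf (Subgroup.normalizer (T.basis.A H : Set G)) := T.aut_ker H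
  have hn : ((T.basis.A H).subgroupOf (Subgroup.normalizer (T.basis.A H : Set G))).Normal :=
    hker ▸ MonoidHom.normal_ker _
  refine ⟨hn, ?_, T.exists_compl H, ?_⟩
  · haveI := hn
    haveI : (T.basis.A H).normalizerMonoidHom.ker.Normal := MonoidHom.normal_ker _
    obtain ⟨f⟩ := T.autGrp_iso H
    exact ⟨((QuotientGroup.quotientMulEquivOfEq hker.symm).trans
      (QuotientGroup.quotientKerEquivRange _)).trans f⟩
  · refine ⟨z, T.basis.z_mem_A H, T.cd H 40, T.cd_mem H 40, H.good.x_ne, ?_, ?_, ?_⟩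
    · intro e
      rw [← T.cd_zero H] at e
      exact absurd (T.cd_inj H (by norm_num) (by norm_num) e) (by norm_num)
    · intro n hn' e
      refine T.not_inOrbit_mix H ⟨_, MonoidHom.mem_range.2 ⟨⟨n, hn'⟩, rfl⟩, Subtype.ext ?_⟩
      show n * T.cd H 1 * n⁻¹ = T.cd H 40
      rw [T.cd_one H]; exact e
    · intro c hc hc1
      obtain ⟨σ, hσ, h⟩ := T.two_orbits H ⟨c, hc⟩ (fun e => hc1 (congrArg Subtype.val e))
      obtain ⟨n, rfl⟩ := MonoidHom.mem_range.1 hσ
      refine ⟨n.1, n.2, ?_⟩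
      rcases h with h | h
      · exact Or.inl ((congrArg Subtype.val h).trans (T.cd_one H))
      · exact Or.inr (congrArg Subtype.val h)

end Cfsg.Agent.S5397
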