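import Cfsg.Statements.S5553
import Cfsg.Agent.Lib.Leech.Elements
import Cfsg.Agent.Lib.Golay.Code

set_option autoImplicit false
open Cfsg

namespace Cfsg.Agent.S5553

open Cfsg.Agent.Lib.Leech

/-- The half word normalised by the coordinate `none` and the parity. -/
def normWord (x : GolayPt → ℤ) : GolayPt → ZMod 2 :=
  hw x + fun _ => hw x none + (x none : ZMod 2)

theorem normWord_mem {x : GolayPt → ℤ} (hx : x ∈ leechLattice) : normWord x ∈ golayCode := by
  have h : (fun _ : GolayPt => hw x none + (x none : ZMod 2)) ∈ golayCode := by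
    rcases zmod2_cases (hw x none + (x none : ZMod 2)) with e | e <;> rw [e]
    · exact zero_mem _
    · exact one_mem_code
  rcases mem_leech_iff.1 hx with ⟨-, -, c⟩ | ⟨-, -, c⟩ <;> exact add_mem c h

theorem parity_eq {x : GolayPt → ℤ} (hx : x ∈ leechLattice) (i : GolayPt) :
    (x i : ZMod 2) = (x none : ZMod 2) := by
  rw [ZMod.intCast_eq_intCast_iff, Int.ModEq]
  rcases mem_leech_iff.1 hx with ⟨p, -, -⟩ | ⟨p, -, -⟩ <;>
    · have := p i; have := p none; omega

theorem cast_emod_two (a : ℤ) : ((a % 2 : ℤ) : ZMod 2) = (a : ZMod 2) := by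
  rw [ZMod.intCast_eq_intCast_iff, Int.ModEq]; omega

theorem normWord_add {x y : GolayPt → ℤ} (hx : x ∈ leechLattice) (hy : y ∈ leechLattice) :
    normWord (x + y) = normWord x + normWord y := by
  funext i
  have e : ∀ j, hw (x + y) j = hw x j + hw y j + (x none : ZMod 2) * (y none : ZMod 2) := by
    intro j
    rw [hw_add, Int.cast_mul, cast_emod_two, cast_emod_two, parity_eq hx j, parity_eq hy j]
  simp only [normWord, Pi.add_apply, e, Int.cast_add]
  generalize hw x i = a; generalize hw x none = b; generalize hw y i = c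
  generalize hw y none = d; generalize (x none : ZMod 2) = p; generalize (y none : ZMod 2) = q
  revert a b c d p q; decide

/-- The map to the code with kernel the singular subgroup. -/
def toCode : leechLattice →+ golayCode :=
  AddMonoidHom.mk' (fun x => ⟨normWord x, normWord_mem x.2⟩)
    fun x y => Subtype.ext (normWord_add x.2 y.2)

theorem toCode_surjective : Function.Surjective toCode := by
  intro c
  have hval : ∀ i, (((c.1 i + c.1 none).val : ℤ) : ZMod 2) = c.1 i + c.1 none := fun i => by
    rw [Int.cast_natCast, ZMod.natCast_zmod_val]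
  have hc0 : (fun i => c.1 i + c.1 none) ∈ golayCode := by
    have : (fun _ : GolayPt => c.1 none) ∈ golayCode := by
      rcases zmod2_cases (c.1 none) with e | e <;> rw [e]
      · exact zero_mem _
      · exact one_mem_code
    exact add_mem c.2 this
  have hs : (∑ i, ((c.1 i + c.1 none).val : ℤ)) % 4 = 0 := by
    have h1 := code_weight_dvd hc0
    have h2 : (∑ i, ((c.1 i + c.1 none).val : ℤ)) =
        ((support₂ fun i => c.1 i + c.1 none).card : ℤ) := by
      rw [support₂, Finset.card_filter, Nat.cast_sum]
      refine Finset.sum_congr rfl fun i _ => ?_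
      generalize c.1 i + c.1 none = a
      rcases zmod2_cases a with e | e <;> rw [e] <;> decide
    rw [h2]; omega
  have hx : (fun i => 2 * ((c.1 i + c.1 none).val : ℤ)) ∈ leechLattice :=
    two_mul_mem_leech hs (by simpa only [hval] using hc0)
  have h1 : normWord (fun i => 2 * ((c.1 i + c.1 none).val : ℤ))
      = fun i => c.1 i + c.1 none := by
    funext i
    simp only [normWord, hw, Pi.add_apply, Int.mul_ediv_cancel_left _ (two_ne_zero' ℤ), hval,
      Int.cast_mul]
    generalize c.1 i = a; generalize c.1 none = b
    revert a b; decide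
  have h31 : normWord (vec31 none) = 1 := by
    funext i
    simp only [normWord, hw, vec31, Pi.add_apply, Pi.one_apply]
    split <;> decide
  rcases zmod2_cases (c.1 none) with e | e
  · exact ⟨⟨_, hx⟩, Subtype.ext (h1.trans (funext fun i => by rw [e, add_zero]))⟩
  · refine ⟨⟨_, vec31_mem none⟩ + ⟨_, hx⟩, Subtype.ext ?_⟩
    show normWord (vec31 none + fun i => 2 * ((c.1 i + c.1 none).val : ℤ)) = c.1
    rw [normWord_add (vec31_mem none) hx, h1, h31]
    funext i
    simp only [Pi.add_apply, Pi.one_apply, e]
    generalize c.1 i = a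
    revert a; decide


/-- The Leech lattice of the definitions has an additive subgroup A containing twice the lattice, of index 2^12 in the lattice, all of whose vectors have squared length divisible by 32: the invariant quadratic form 'squared length over 16 modulo 2' on the lattice modulo twice the lattice (a 24-dimensional space over the field with two elements) vanishes on a 12-dimensional subspace, so it is of plus type. -/
theorem result : ∃ A : AddSubgroup (Cfsg.GolayPt → ℤ), A ≤ Cfsg.leechLattice ∧ (∀ v ∈ Cfsg.leechLattice, (2 : ℤ) • v ∈ A) ∧ (A.addSubgroupOf Cfsg.leechLattice).index = 2 ^ 12 ∧ ∀ v ∈ A, (32 : ℤ) ∣ Cfsg.sqNorm v := by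
  refine ⟨toCode.ker.map leechLattice.subtype, AddSubgroup.map_subtype_le _, fun v hv => ?_, ?_, ?_⟩
  · refine ⟨⟨v, hv⟩ + ⟨v, hv⟩, ?_, ?_⟩
    · rw [SetLike.mem_coe, AddMonoidHom.mem_ker, map_add]
      refine Subtype.ext (funext fun i => ?_)
      show normWord v i + normWord v i = 0
      exact CharTwo.add_self_eq_zero _
    · show v + v = (2 : ℤ) • v
      rw [two_zsmul]
  · rw [AddSubgroup.addSubgroupOf, AddSubgroup.comap_map_eq_self_of_injective
      (AddSubgroup.subtype_injective _), AddSubgroup.index_ker,
      AddMonoidHom.range_eq_top.2 toCode_surjective, AddSubgroup.card_top,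
      Cfsg.Agent.Lib.Golay.card_golayCode]
    rfl
  · rintro _ ⟨x, hx, rfl⟩
    have hn : normWord x.1 = 0 := congrArg Subtype.val hx
    obtain ⟨m, y, hm, hxy, hy, hc⟩ := exists_half x.2
    have hp : (x.1 none : ZMod 2) = 0 := by
      have h0 := congrFun hn none
      simp only [normWord, Pi.add_apply, Pi.zero_apply] at h0
      revert h0
      generalize hw x.1 none = a; generalize (x.1 none : ZMod 2) = b
      revert a b; decide
    have hm0 : m = 0 := by
      rcases hm with rfl | rfl
      · rfl
      · rw [ZMod.intCast_zmod_eq_zero_iff_dvd, hxy] at hp; omega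
    subst hm0
    have hpar : ∀ i, y i % 2 = y none % 2 := by
      intro i
      have h0 := congrFun hn i
      simp only [normWord, Pi.add_apply, Pi.zero_apply, hp, add_zero] at h0
      have h2 : hw x.1 i = hw x.1 none := by
        revert h0
        generalize hw x.1 i = a; generalize hw x.1 none = b
        revert a b; decide
      simp only [hw, hxy, add_zero, Int.mul_ediv_cancel_left _ (two_ne_zero' ℤ),
        ZMod.intCast_eq_intCast_iff, Int.ModEq] at h2
      exact h2
    have h8 : (8 : ℤ) ∣ ∑ i, y i ^ 2 := by
      rcases Int.emod_two_eq_zero_or_one (y none) with h | h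
      · have e : ∑ i, y i ^ 2 = ∑ i, (y i ^ 2 - 2 * y i) + 2 * ∑ i, y i := by
          rw [Finset.mul_sum, ← Finset.sum_add_distrib]
          exact Finset.sum_congr rfl fun i _ => by ring
        rw [e]
        refine dvd_add (Finset.dvd_sum fun i _ => ?_) (by omega)
        obtain ⟨k, hk⟩ : ∃ k, y i = 2 * k := ⟨y i / 2, by have := hpar i; omega⟩
        obtain ⟨l, hl⟩ := Int.even_mul_succ_self (k - 1)
        exact ⟨l, by rw [hk]; linear_combination 4 * hl⟩
      · have e : ∑ i, y i ^ 2 = ∑ i, (y i ^ 2 - 1) + 24 := by
          simp [Finset.sum_sub_distrib]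
        rw [e]
        refine dvd_add (Finset.dvd_sum fun i _ => ?_) (by norm_num)
        obtain ⟨k, hk⟩ : ∃ k, y i = 2 * k + 1 := ⟨y i / 2, by have := hpar i; omega⟩
        obtain ⟨l, hl⟩ := Int.even_mul_succ_self k
        exact ⟨l, by rw [hk]; linear_combination 4 * hl⟩
    have e : sqNorm x.1 = 4 * ∑ i, y i ^ 2 := by
      rw [sqNorm, Finset.mul_sum]
      exact Finset.sum_congr rfl fun i _ => by rw [hxy i]; ring
    show (32 : ℤ) ∣ sqNorm x.1
    omega

end Cfsg.Agent.S5553
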