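import Cfsg.Statements.S5408
import Mathlib
import Cfsg.Agent.Lib.MonsterType.Data
import Cfsg.Agent.S5553
set_option autoImplicit false
open Cfsg

namespace Cfsg.Agent.S5408

/-- Let G be a finite group of Monster type at the involution z with Q the extraspecial normal subgroup of order 2^25 of C = C_G(z) (so C/Q is identified with the first Conway group with Q modulo its centre the Leech lattice modulo 2, and z is not weakly closed in Q). Then Q is of plus type: it contains an elementary abelian subgroup of order 2^13. -/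
theorem result {G : Type*} [Group G] [Finite G] (z : G) (Q : Subgroup (Subgroup.centralizer ({z} : Set G))) [Q.Normal] (hM : Cfsg.IsOfMonsterType z Q) : ∃ E : Subgroup Q, Cfsg.IsElementaryAbelian 2 E ∧ Nat.card E = 2 ^ 13 := by
  haveI : Fact (Nat.Prime 2) := ⟨Nat.prime_two⟩
  obtain ⟨hS, e, ψ, hψ⟩ := hM
  obtain ⟨D, -, hlift⟩ := Lib.MonsterType.exists_mdata hS hψ
  obtain ⟨A, -, hA2, hAi, hA32⟩ := S5553.result
  obtain ⟨hadd, hsurj, hker, -⟩ := hψ
  let φ : Multiplicative leechLattice →* Q ⧸ Subgroup.center Q :=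
    MonoidHom.mk' (fun v => ψ (Multiplicative.toAdd v)) fun v w => hadd _ _
  let A' : Subgroup (Multiplicative leechLattice) := (A.addSubgroupOf leechLattice).toSubgroup
  have hA'i : A'.index = 2 ^ 12 := (AddSubgroup.index_toSubgroup _).trans hAi
  have hkerA : φ.ker ≤ A' := by
    intro v hv
    obtain ⟨w, hw⟩ := (hker (Multiplicative.toAdd v)).1 hv
    have h2 := hA2 w.1 w.2
    rw [two_zsmul] at h2
    show ((Multiplicative.toAdd v : leechLattice) : GolayPt → ℤ) ∈ A
    rw [hw]
    exact h2
  have hφ : Function.Surjective φ := fun x => by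
    obtain ⟨v, hv⟩ := hsurj x
    exact ⟨Multiplicative.ofAdd v, hv⟩
  let E : Subgroup Q := (A'.map φ).comap (QuotientGroup.mk' (Subgroup.center Q))
  have hEi : E.index = 2 ^ 12 := by
    rw [Subgroup.index_comap_of_surjective _ (QuotientGroup.mk'_surjective _),
      Subgroup.index_map_eq _ hφ hkerA, hA'i]
  have hsq : ∀ x ∈ E, x * x = 1 := by
    rintro x ⟨v, hv, hvx⟩
    have h := (D.sq_eq_one_iff ((hlift (Multiplicative.toAdd v) x).2 hvx)).2 (hA32 _ hv)
    exact Subtype.ext (Subtype.ext h)
  have hcomm : ∀ a ∈ E, ∀ b ∈ E, a * b = b * a := fun a ha b hb => by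
    calc a * b = (a * b)⁻¹ := (inv_eq_of_mul_eq_one_right (hsq _ (mul_mem ha hb))).symm
      _ = b * a := by
        rw [mul_inv_rev, inv_eq_of_mul_eq_one_right (hsq a ha), inv_eq_of_mul_eq_one_right (hsq b hb)]
  refine ⟨E, ⟨⟨⟨fun a b => Subtype.ext (hcomm a a.2 b b.2)⟩⟩, fun x hx => by
    rw [pow_two]; exact hsq x hx⟩, ?_⟩
  · have h := E.card_mul_index
    rw [hEi, hS.2.2.2.1] at h
    omega

end Cfsg.Agent.S5408
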