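import Cfsg.Statements.S5411
import Mathlib
import Cfsg.Agent.Lib.MonsterType.Pair
set_option autoImplicit false
open Cfsg

namespace Cfsg.Agent.S5411

/-- Let G be a finite group of Monster type at the involution z with Q the extraspecial normal subgroup of order 2^25 of C = C_G(z) (so C/Q is identified with the first Conway group with Q modulo its centre the Leech lattice modulo 2, and z is not weakly closed in Q). Then C acts transitively by conjugation on the involutions of Q that are not conjugate to z in G. -/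
theorem result {G : Type*} [Group G] [Finite G] (z : G) (Q : Subgroup (Subgroup.centralizer ({z} : Set G))) [Q.Normal] (hM : Cfsg.IsOfMonsterType z Q) (s t : G) (hsQ : ∃ hsc : s ∈ Subgroup.centralizer ({z} : Set G), (⟨s, hsc⟩ : Subgroup.centralizer ({z} : Set G)) ∈ Q) (htQ : ∃ htc : t ∈ Subgroup.centralizer ({z} : Set G), (⟨t, htc⟩ : Subgroup.centralizer ({z} : Set G)) ∈ Q) (hs2 : orderOf s = 2) (ht2 : orderOf t = 2) (hs : ¬ IsConj z s) (ht : ¬ IsConj z t) : ∃ h ∈ Subgroup.centralizer ({z} : Set G), h * s * h⁻¹ = t := by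
  obtain ⟨hS, e₁, ψ₁, hψ₁⟩ := hM
  obtain ⟨D, -, -⟩ := Lib.MonsterType.exists_mdata hS hψ₁
  have hne : ∃ g : G, g * z * g⁻¹ ∈ Q.map (Subgroup.centralizer ({z} : Set G)).subtype ∧ g * z * g⁻¹ ≠ z := by
    obtain ⟨g, ⟨hq, hqQ⟩, hg⟩ := hS.2.2.2.2
    exact ⟨g, ⟨_, hqQ, rfl⟩, hg⟩
  have key : ∀ u : G, u ∈ Q.map (Subgroup.centralizer ({z} : Set G)).subtype → orderOf u = 2 →
      ¬ IsConj z u → u ∈ D.typeSet 32 := by
    intro u hu hu2 hnc
    rcases D.classify hu with (h | h) | h | h | h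
    · rw [h, orderOf_one] at hu2; norm_num at hu2
    · exact absurd (h ▸ IsConj.refl z) hnc
    · exact h
    · obtain ⟨v, hv, hl⟩ := h
      have := (D.sq_eq_one_iff hl).1 (by rw [← pow_two, ← hu2]; exact pow_orderOf_eq_one u)
      rw [hv] at this
      norm_num at this
    · exact absurd ((Lib.MonsterType.isConj_iff_type64 D hne hu).2 h).1 hnc
  obtain ⟨hsc, hs'⟩ := hsQ
  obtain ⟨htc, ht'⟩ := htQ
  exact D.type_transitive (Or.inl rfl) (key s ⟨⟨s, hsc⟩, hs', rfl⟩ hs2 hs)
    (key t ⟨⟨t, htc⟩, ht', rfl⟩ ht2 ht)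

end Cfsg.Agent.S5411
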