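import Cfsg.Statements.S5412
import Mathlib
import Cfsg.Agent.Lib.MonsterType.Baby
set_option autoImplicit false
open Cfsg

namespace Cfsg.Agent.S5412

/-- Let G be a finite group of Monster type at the involution z with Q the extraspecial normal subgroup of order 2^25 of C = C_G(z) (so C/Q is identified with the first Conway group with Q modulo its centre the Leech lattice modulo 2, and z is not weakly closed in Q). Let t be an involution of Q not conjugate to z in G. Then the centralizer of t modulo the subgroup generated by t is a group of Baby Monster type (an involution whose centralizer D has generalized Fitting subgroup R extraspecial of order 2^23 with D/R identified with the second Conway group acting on R modulo its centre as on the vectors of the Leech lattice modulo 2 orthogonal to a short vector, modulo that vector; the involution not weakly closed in R). -/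
theorem result {G : Type*} [Group G] [Finite G] (z : G) (Q : Subgroup (Subgroup.centralizer ({z} : Set G))) [Q.Normal] (hM : Cfsg.IsOfMonsterType z Q) (t : G) (htQ : ∃ htc : t ∈ Subgroup.centralizer ({z} : Set G), (⟨t, htc⟩ : Subgroup.centralizer ({z} : Set G)) ∈ Q) (ht2 : orderOf t = 2) (ht : ¬ IsConj z t) [hn : ((Subgroup.zpowers t).subgroupOf (Subgroup.centralizer ({t} : Set G))).Normal] : Cfsg.IsOfBabyMonsterType (↥(Subgroup.centralizer ({t} : Set G)) ⧸ (Subgroup.zpowers t).subgroupOf (Subgroup.centralizer ({t} : Set G))) := by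
  obtain ⟨hS, e₁, ψ₁, hψ₁⟩ := hM
  obtain ⟨D, -, -⟩ := Lib.MonsterType.exists_mdata hS hψ₁
  obtain ⟨htc, ht'⟩ := htQ
  have htR : t ∈ Q.map (Subgroup.centralizer ({z} : Set G)).subtype := ⟨⟨t, htc⟩, ht', rfl⟩
  have hne : ∃ g : G, g * z * g⁻¹ ∈ Q.map (Subgroup.centralizer ({z} : Set G)).subtype ∧ g * z * g⁻¹ ≠ z := by
    obtain ⟨g, ⟨hq, hqQ⟩, hg⟩ := hS.2.2.2.2
    exact ⟨g, ⟨_, hqQ, rfl⟩, hg⟩
  have ht32 : t ∈ D.typeSet 32 := (Lib.MonsterType.type32_iff D hne htR).2
    ⟨by rw [← pow_two, ← ht2]; exact pow_orderOf_eq_one t,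
      fun h => by rw [h, orderOf_one] at ht2; norm_num at ht2, ht⟩
  obtain ⟨v, hv, hl⟩ := ht32
  obtain ⟨g₀, hg₀⟩ := Lib.Leech.exists_smul32 v Spor.leechU hv Lib.Leech.spor_vectors.1
  have hlU : (D.recoord g₀).lift Spor.leechU t := by
    show D.lift (g₀⁻¹ • Spor.leechU) t
    rwa [← hg₀, inv_smul_smul]
  have hzt : z * t ∈ D.typeSet 32 :=
    ⟨v, hv, (D.lift_pair hl _).2 (Or.inr (D.good.le_cent t htR).symm)⟩
  have hztR : z * t ∈ Q.map (Subgroup.centralizer ({z} : Set G)).subtype :=
    mul_mem D.good.x_mem htR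
  exact Lib.MonsterType.isBaby (D.recoord g₀) hlU
    ((Lib.MonsterType.type32_iff D hne hztR).1 hzt).2.2
    (Lib.MonsterType.exists_moving D hne ⟨v, hv, hl⟩)

end Cfsg.Agent.S5412
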