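import Cfsg.Statements.S5420
import Mathlib
import Cfsg.Agent.Lib.LargeES.Basic
import Cfsg.Agent.Lib.PSolvable.Core

set_option autoImplicit false
open Cfsg

namespace Cfsg.Agent.S5420

/-- Let Q be an extraspecial 2-subgroup of the finite group G whose centralizer in G is its centre Z and which is normal in the centralizer of Z. If Z lies in the largest normal 2-subgroup of G, then Q is a large extraspecial 2-subgroup of G: it normalizes no non-trivial subgroup of G of odd order. -/
theorem result {G : Type*} [Group G] [Finite G] (Q : Subgroup G) (hL1 : Cfsg.IsExtraspecial 2 ↥Q) (hL2 : Subgroup.centralizer (Q : Set G) = ((Subgroup.center ↥Q).map Q.subtype)) (hL3 : Subgroup.centralizer (((Subgroup.center ↥Q).map Q.subtype) : Set G) ≤ Subgroup.normalizer (Q : Set G)) (hZ : ((Subgroup.center ↥Q).map Q.subtype) ≤ Cfsg.pCore 2 G) : Cfsg.IsLargeExtraspecial Q := by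
  refine ⟨hL1, hL2, hL3, fun K hK hQK => ?_⟩
  rw [Subgroup.eq_bot_iff_forall]
  intro k hk
  refine Lib.LargeES.eq_one_of_commute hL1 hL2 hL3 hK hQK hk fun x hx => ?_
  have h1 : x * k * x⁻¹ * k⁻¹ ∈ K :=
    mul_mem ((Subgroup.mem_normalizer_iff.mp (hQK (Lib.LargeES.centre_le hx)) k).mp hk) (inv_mem hk)
  have h2 : x * k * x⁻¹ * k⁻¹ ∈ Cfsg.pCore 2 G := by
    rw [mul_assoc, mul_assoc x k]
    exact mul_mem (hZ hx) (by
      rw [← mul_assoc]
      exact (inferInstance : (Cfsg.pCore 2 G).Normal).conj_mem _ (inv_mem (hZ hx)) k)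
  have h := Lib.LargeES.eq_one_of_mem_odd hK h1 Lib.PSolvable.pCore_isPGroup h2
  rwa [mul_inv_eq_one, mul_inv_eq_iff_eq_mul] at h

end Cfsg.Agent.S5420
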