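import Cfsg.Statements.S5422
import Mathlib
import Cfsg.Agent.Lib.LargeES.Basic
import Cfsg.Agent.Lib.ExtraTwo.Pair

set_option autoImplicit false
open Cfsg

namespace Cfsg.Agent.S5422

open Lib

theorem main {G : Type*} [Group G] [Finite G] (Q : Subgroup G) (hL1 : Cfsg.IsExtraspecial 2 ↥Q)
    (hL2 : Subgroup.centralizer (Q : Set G) = ((Subgroup.center ↥Q).map Q.subtype))
    (hL3 : Subgroup.centralizer (((Subgroup.center ↥Q).map Q.subtype) : Set G) ≤ Subgroup.normalizer (Q : Set G))
    (g : G) (hg : g ∉ Subgroup.normalizer (((Subgroup.center ↥Q).map Q.subtype) : Set G))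
    (hZg : (((Subgroup.center ↥Q).map Q.subtype)).map (MulAut.conj g).toMonoidHom ≤ Q) :
    ((Subgroup.center ↥Q).map Q.subtype) ≤ (Q).map (MulAut.conj g).toMonoidHom ∧
      (Subgroup.centralizer ((((Subgroup.center ↥Q).map Q.subtype) ⊔
          (((Subgroup.center ↥Q).map Q.subtype)).map (MulAut.conj g).toMonoidHom : Subgroup G) : Set G)).relIndex
        (Subgroup.normalizer ((((Subgroup.center ↥Q).map Q.subtype) ⊔
          (((Subgroup.center ↥Q).map Q.subtype)).map (MulAut.conj g).toMonoidHom : Subgroup G) : Set G)) = 6 ∧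
      Cfsg.IsLargeExtraspecial Q := by
  classical
  obtain ⟨z, h⟩ := ExtraTwo.exists_gen hL1
  have hG : LargeExtra.Good Q z :=
    { x_mem := h.mem_Q
      x_sq := h.mul_self
      x_ne := h.ne_one
      le_cent := fun _ hq => (h.commute hq).eq.symm
      comm := fun a ha b hb => (h.conj_cases ha hb).imp id (fun e => e.trans (h.commute hb).eq)
      centre := fun _ ha hc => h.eq_of_central ha hc
      nonab := by
        by_contra hc
        push Not at hc
        have h1 : commutator ↥Q = ⊥ := by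
          rw [commutator_def, Subgroup.commutator_eq_bot_iff_le_centralizer]
          exact fun a _ => Subgroup.mem_centralizer_iff.2 fun b _ => Subtype.ext (hc b b.2 a a.2)
        rw [hL1.1.2.2] at h1
        have h2 := hL1.2
        rw [h1, Subgroup.card_bot] at h2
        omega
      norm := by
        intro u hu q hq
        refine (Subgroup.mem_normalizer_iff.mp (hL3 ?_) q).mp hq
        rw [Subgroup.mem_centralizer_iff]
        intro y hy
        rcases h.all y hy with rfl | rfl
        · simp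
        · exact hu.symm
      cent := fun u hu => LargeES.centre_le (hL2 ▸ Subgroup.mem_centralizer_iff.mpr
        fun q hq => (hu q hq).symm) }
  have hzmap : ∀ y ∈ (Subgroup.center ↥Q).map Q.subtype, y = 1 ∨ y = z := h.all
  have hgH : g ∉ Subgroup.centralizer ({z} : Set G) := by
    intro hgc
    rw [Subgroup.mem_centralizer_singleton_iff] at hgc
    refine hg (Subgroup.mem_normalizer_fintype fun y hy => ?_)
    rcases hzmap y hy with rfl | rfl
    · simpa using one_mem ((Subgroup.center ↥Q).map Q.subtype)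
    · rw [hgc, mul_inv_cancel_right]; exact hy
  have hgQ : g * z * g⁻¹ ∈ Q := hZg ⟨z, h.mem, rfl⟩
  set s := g * z * g⁻¹ with hs
  set Qs := Q.map (MulAut.conj g).toMonoidHom with hQs
  have S : ExtraTwo.Pair.Setting Q Qs z s := ExtraTwo.Pair.setting_of_good hG hgH hgQ
  have hVeq : (((Subgroup.center ↥Q).map Q.subtype) ⊔
      (((Subgroup.center ↥Q).map Q.subtype)).map (MulAut.conj g).toMonoidHom : Subgroup G) =
      Subgroup.closure ({z, s} : Set G) := by
    rw [h.map_center_eq, MonoidHom.map_zpowers, Subgroup.zpowers_eq_closure, Subgroup.zpowers_eq_closure,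
      ← Subgroup.closure_union]
    rfl
  refine ⟨?_, ?_, hL1, hL2, hL3, fun K hK hQK => ?_⟩
  · rw [h.map_center_eq, Subgroup.zpowers_le]
    exact S.hz
  · rw [hVeq]
    set V := Subgroup.closure ({z, s} : Set G)
    have hzV : z ∈ V := Subgroup.subset_closure (by simp)
    have hsV : s ∈ V := Subgroup.subset_closure (by simp)
    let T : Set G := {z, s, z * s}
    have hT : ∀ y, y ∈ T ↔ y ∈ V ∧ y ≠ 1 := by
      intro y
      constructor
      · rintro (e | e | e) <;> subst e
        · exact ⟨hzV, S.hQ.x_ne⟩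
        · exact ⟨hsV, S.hS.x_ne⟩
        · refine ⟨mul_mem hzV hsV, fun e => S.ne ?_⟩
          rw [mul_eq_one_iff_eq_inv', inv_eq_of_mul_eq_one_right S.hQ.x_sq] at e
          exact e
      · rintro ⟨hy, h1⟩
        rcases S.V_cases hy with e | e | e | e
        · exact absurd e h1
        · exact Or.inl e
        · exact Or.inr (Or.inl e)
        · exact Or.inr (Or.inr e)
    let cj : ∀ u : Subgroup.normalizer (V : Set G), T → T := fun u y =>
      ⟨(u : G) * y * (u : G)⁻¹, (hT _).mpr ⟨(Subgroup.mem_normalizer_iff.mp u.2 _).mp ((hT _).mp y.2).1,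
        fun e => ((hT _).mp y.2).2 (by simpa using e)⟩⟩
    let φ : Subgroup.normalizer (V : Set G) →* Equiv.Perm T := MonoidHom.mk'
      (fun u => ⟨cj u, cj u⁻¹, fun y => Subtype.ext (by simp [cj, mul_assoc]),
        fun y => Subtype.ext (by simp [cj, mul_assoc])⟩)
      (fun u v => Equiv.ext fun y => Subtype.ext (by simp [cj, mul_assoc]))
    have hφ : ∀ u y, ((φ u y : T) : G) = (u : G) * y * (u : G)⁻¹ := fun u y => rfl
    have hker : φ.ker = (Subgroup.centralizer (V : Set G)).subgroupOf (Subgroup.normalizer (V : Set G)) := by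
      ext u
      rw [MonoidHom.mem_ker, Subgroup.mem_subgroupOf]
      constructor
      · intro hu
        rw [S.mem_centralizer_V]
        have hz' := congrArg Subtype.val (Equiv.congr_fun hu ⟨z, Or.inl rfl⟩)
        have hs' := congrArg Subtype.val (Equiv.congr_fun hu ⟨s, Or.inr (Or.inl rfl)⟩)
        rw [hφ] at hz' hs'
        exact ⟨mul_inv_eq_iff_eq_mul.mp hz', mul_inv_eq_iff_eq_mul.mp hs'⟩
      · intro hu
        refine Equiv.ext fun y => Subtype.ext ?_
        rw [hφ, Equiv.Perm.one_apply, mul_inv_eq_iff_eq_mul]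
        exact (Subgroup.mem_centralizer_iff.mp hu y ((hT _).mp y.2).1).symm
    rw [Subgroup.relIndex, ← hker, Subgroup.index_ker]
    have hcardT : Nat.card T = 3 := by
      rw [Nat.card_coe_set_eq]
      refine Set.ncard_eq_three.mpr ⟨z, s, z * s, S.ne.symm, fun e => S.hS.x_ne ?_, fun e => S.hQ.x_ne ?_, rfl⟩
      · exact left_eq_mul.mp e
      · exact right_eq_mul.mp e
    have : Fintype T := Fintype.ofFinite _
    have hP : Nat.card (Equiv.Perm T) = 6 := by rw [Nat.card_perm, hcardT]; rfl
    obtain ⟨⟨a, ha, has⟩, b, hb, hbz⟩ := S.exists_move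
    have hzs : Commute z s := S.zs
    have haz : a * z * a⁻¹ = z := by rw [S.hQ.le_cent a ha, mul_inv_cancel_right]
    have hbs : b * s * b⁻¹ = s := by rw [S.hS.le_cent b hb, mul_inv_cancel_right]
    have hnorm : ∀ u, u * z * u⁻¹ ∈ V → u * s * u⁻¹ ∈ V → u ∈ Subgroup.normalizer (V : Set G) := by
      intro u h1 h2
      refine Subgroup.mem_normalizer_fintype fun y hy => ?_
      have hle : V.map (MulAut.conj u).toMonoidHom ≤ V := by
        rw [MonoidHom.map_closure, Subgroup.closure_le]
        rintro _ ⟨v, rfl | rfl, rfl⟩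
        exacts [h1, h2]
      exact hle ⟨y, hy, rfl⟩
    let A : φ.range := ⟨φ ⟨a, hnorm a (by rw [haz]; exact hzV) (by rw [has]; exact mul_mem hsV hzV)⟩, ⟨_, rfl⟩⟩
    let B : φ.range := ⟨φ ⟨b, hnorm b (by rw [hbz]; exact mul_mem hzV hsV) (by rw [hbs]; exact hsV)⟩, ⟨_, rfl⟩⟩
    have hA1 : A ≠ 1 := by
      intro e
      have := congrArg Subtype.val (Equiv.congr_fun (congrArg Subtype.val e) ⟨s, Or.inr (Or.inl rfl)⟩)
      have h' : a * s * a⁻¹ = s := this
      rw [has] at h'
      exact S.hQ.x_ne (mul_eq_left.mp h')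
    have hA2 : A * A = 1 := by
      refine Subtype.ext (Equiv.ext fun y => Subtype.ext ?_)
      show a * (a * (y : G) * a⁻¹) * a⁻¹ = y
      have hzz : z * z = 1 := S.hQ.x_sq
      rcases y.2 with e | e | e <;> rw [e]
      · rw [haz, haz]
      · rw [has, show a * (s * z) * a⁻¹ = (a * s * a⁻¹) * (a * z * a⁻¹) by group, has, haz, mul_assoc, hzz, mul_one]
      · rw [show a * (a * (z * s) * a⁻¹) * a⁻¹ = (a * (a * z * a⁻¹) * a⁻¹) * (a * (a * s * a⁻¹) * a⁻¹) by group,
          haz, haz, has, show a * (s * z) * a⁻¹ = (a * s * a⁻¹) * (a * z * a⁻¹) by group, has, haz, mul_assoc s,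
          hzz, mul_one]
    have hAB : B ≠ 1 ∧ B ≠ A := by
      constructor <;> intro e <;>
        have h' := congrArg Subtype.val (Equiv.congr_fun (congrArg Subtype.val e) ⟨z, Or.inl rfl⟩)
      · have h'' : b * z * b⁻¹ = z := h'
        rw [hbz] at h''
        exact S.hS.x_ne (mul_eq_left.mp h'')
      · have h'' : b * z * b⁻¹ = a * z * a⁻¹ := h'
        rw [hbz, haz] at h''
        exact S.hS.x_ne (mul_eq_left.mp h'')
    have hB2 : B * B = 1 := by
      refine Subtype.ext (Equiv.ext fun y => Subtype.ext ?_)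
      show b * (b * (y : G) * b⁻¹) * b⁻¹ = y
      have hss : s * s = 1 := S.hS.x_sq
      rcases y.2 with e | e | e <;> rw [e]
      · rw [hbz, show b * (z * s) * b⁻¹ = (b * z * b⁻¹) * (b * s * b⁻¹) by group, hbz, hbs, mul_assoc, hss, mul_one]
      · rw [hbs, hbs]
      · rw [show b * (b * (z * s) * b⁻¹) * b⁻¹ = (b * (b * z * b⁻¹) * b⁻¹) * (b * (b * s * b⁻¹) * b⁻¹) by group,
          hbs, hbs, hbz, show b * (z * s) * b⁻¹ = (b * z * b⁻¹) * (b * s * b⁻¹) by group, hbz, hbs, mul_assoc z,
          hss, mul_one]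
    have hdvd : Nat.card φ.range ∣ 6 := hP ▸ Subgroup.card_subgroup_dvd_card φ.range
    have h3 : 2 < Nat.card φ.range := by
      rw [Nat.card_eq_fintype_card, Fintype.two_lt_card_iff]
      exact ⟨1, A, B, Ne.symm hA1, Ne.symm hAB.1, Ne.symm hAB.2⟩
    have h2d : 2 ∣ Nat.card φ.range := by
      have ho : orderOf A = 2 := orderOf_eq_prime (hp := ⟨Nat.prime_two⟩) ((pow_two A).trans hA2) hA1
      exact ho ▸ orderOf_dvd_natCard A
    have _ := hB2
    obtain ⟨k, hk⟩ := h2d
    have hle : Nat.card φ.range ≤ 6 := Nat.le_of_dvd (by norm_num) hdvd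
    rw [hk] at hdvd h3 hle ⊢
    rcases (show k = 2 ∨ k = 3 by omega) with rfl | rfl
    · norm_num at hdvd
    · rfl
  · refine LargeES.eq_bot_of_centre_le hL1 hL2 hL3 hK hQK hgQ (fun hmem => ?_) S.hS.x_sq
      (P := Qs) (hL1.1.1.map _) (fun x hx p hp => S.hS.norm x (Subgroup.mem_centralizer_singleton_iff.mp hx) p hp) ?_
    · rcases hzmap _ hmem with e | e
      · exact S.hS.x_ne e
      · exact S.ne e
    · rw [h.map_center_eq, Subgroup.zpowers_le]; exact S.hz


/-- Let Q be an extraspecial 2-subgroup of the finite group G whose centralizer in G is its centre Z and which is normal in the centralizer of Z; suppose Q has width at least 2 (order 2^(2w+1) with w ≥ 2) and g is an element of G not normalizing Z with g Z g⁻¹ inside Q. Then Z lies inside g Q g⁻¹; writing V for the subgroup generated by Z and g Z g⁻¹ (a four-group), the normalizer of V induces on V its full automorphism group, that is, the centralizer of V has index 6 in the normalizer of V; and Q is a large extraspecial 2-subgroup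 of G. -/
theorem result {G : Type*} [Group G] [Finite G] (Q : Subgroup G) (hL1 : Cfsg.IsExtraspecial 2 ↥Q) (hL2 : Subgroup.centralizer (Q : Set G) = ((Subgroup.center ↥Q).map Q.subtype)) (hL3 : Subgroup.centralizer (((Subgroup.center ↥Q).map Q.subtype) : Set G) ≤ Subgroup.normalizer (Q : Set G)) (w : ℕ) (hw : 2 ≤ w) (hcard : Nat.card ↥Q = 2 ^ (2 * w + 1)) (g : G) (hg : g ∉ Subgroup.normalizer (((Subgroup.center ↥Q).map Q.subtype) : Set G)) (hZg : (((Subgroup.center ↥Q).map Q.subtype)).map (MulAut.conj g).toMonoidHom ≤ Q) : ((Subgroup.center ↥Q).map Q.subtype) ≤ (Q).map (MulAut.conj g).toMonoidHom ∧ (Subgroup.centralizer ((((Subgroup.center ↥Q).map Q.subtype) ⊔ (((Subgroup.center ↥Q).map Q.subtype)).map (MulAut.conj g).toMonoidHom : Subgroup G) : Set G)).relIndex (Subgroup.normalizer ((((Subgroup.center ↥Q).map Q.subtype) ⊔ (((Subgroup.center ↥Q).map Q.subtype)).map (MulAut.conj g).toMonoidHom : Subgroup G) : Set G)) = 6 ∧ Cfsg.IsLargeExtraspecial Q := by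
  exact main Q hL1 hL2 hL3 g hg hZg

end Cfsg.Agent.S5422
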