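import Cfsg.Statements.S5423
import Mathlib
import Cfsg.Agent.Lib.LargeES.Heisenberg

set_option autoImplicit false
open Cfsg

namespace Cfsg.Agent.S5423

open Matrix Lib.LargeES.Heisenberg

theorem exists_coord {G : Type*} [Group G] [Finite G] {U : Subgroup G}
    (hU : Cfsg.IsElementaryAbelian 2 U) {m : ℕ} (hcard : Nat.card ↥U = 2 ^ m) :
    ∃ φ : ↥U ≃ Vec m, ∀ u v, φ (u * v) = φ u + φ v := by
  let : CommGroup ↥U := { (inferInstance : Group ↥U) with mul_comm := fun a b => hU.1.1.1 a b }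
  let : Module K2 (Additive ↥U) := AddCommGroup.zmodModule fun x : Additive ↥U => by
    have h : x.toMul ^ 2 = 1 := Subtype.ext (hU.2 _ x.toMul.2)
    exact congrArg Additive.ofMul h
  have : Fintype ↥U := Fintype.ofFinite _
  have hr : Module.finrank K2 (Additive ↥U) = m := by
    have h : Nat.card (Additive ↥U) = Nat.card K2 ^ Module.finrank K2 (Additive ↥U) :=
      Module.natCard_eq_pow_finrank
    rw [Nat.card_zmod, show Nat.card (Additive ↥U) = Nat.card ↥U from rfl, hcard] at h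
    exact (Nat.pow_right_injective (le_refl 2) h).symm
  let e := (Module.finBasisOfFinrankEq K2 (Additive ↥U) hr).equivFun
  exact ⟨Additive.ofMul.trans e.toEquiv, fun u v => map_add e (Additive.ofMul u) (Additive.ofMul v)⟩

theorem exists_move {m : ℕ} (v : Vec m) (hv : v ≠ 0) (i0 : Fin m) :
    ∃ f : Vec m ≃+ Vec m, f v = Pi.single i0 1 := by
  obtain ⟨i, hi⟩ : ∃ i, v i = 1 := by
    by_contra! hc
    exact hv (funext fun i => (k2_cases (v i)).resolve_right (hc i))
  set w : Vec m := v + Pi.single i 1 with hw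
  have hwi : w i = 0 := by simp [hw, hi, CharTwo.add_self_eq_zero]
  let f1 : Vec m ≃+ Vec m :=
    { toFun := fun x => x + x i • w
      invFun := fun x => x + x i • w
      left_inv := fun x => by simp [hwi, add_assoc, vec_add_self]
      right_inv := fun x => by simp [hwi, add_assoc, vec_add_self]
      map_add' := fun x y => by simp [add_smul]; abel }
  have h1 : f1 v = Pi.single i 1 := by
    show v + v i • w = _
    rw [hi, one_smul, hw, ← add_assoc, vec_add_self, zero_add]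
  let f2 : Vec m ≃+ Vec m := (LinearEquiv.funCongrLeft K2 K2 (Equiv.swap i i0)).toAddEquiv
  refine ⟨f1.trans f2, ?_⟩
  rw [AddEquiv.trans_apply, h1]
  funext j
  show (Pi.single i 1 : Vec m) (Equiv.swap i i0 j) = _
  by_cases hj : j = i0
  · subst hj; rw [Equiv.swap_apply_right, Pi.single_eq_same, Pi.single_eq_same]
  · rw [Pi.single_eq_of_ne hj, Pi.single_eq_of_ne]
    intro h
    exact hj ((Equiv.swap i i0).injective (h.trans (Equiv.swap_apply_right i i0).symm))

variable {n : ℕ}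

/-- The linear part of an element. -/
def lin (x : Heis n) (v : Vec (n + 1)) : Vec (n + 1) :=
  Fin.cons (v 0 + x.a ⬝ᵥ Fin.tail v) ((x.M : Matrix (Fin n) (Fin n) K2) *ᵥ Fin.tail v)

theorem tail_add' (v w : Vec (n + 1)) : Fin.tail (v + w) = Fin.tail v + Fin.tail w := rfl

theorem lin_add (x : Heis n) (v w : Vec (n + 1)) : lin x (v + w) = lin x v + lin x w := by
  funext i
  refine Fin.cases ?_ (fun i => ?_) i
  · simp [lin, tail_add', dotProduct_add]; abel
  · simp [lin, tail_add', mulVec_add]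

theorem lin_mul (x y : Heis n) (v : Vec (n + 1)) : lin (x * y) v = lin x (lin y v) := by
  funext i
  refine Fin.cases ?_ (fun i => ?_) i
  · simp [lin, Fin.tail_cons, add_dotProduct, dotProduct_mulVec]; abel
  · simp [lin, Fin.tail_cons, mulVec_mulVec]

theorem lin_one (v : Vec (n + 1)) : lin (1 : Heis n) v = v := by
  funext i
  refine Fin.cases ?_ (fun i => ?_) i <;> simp [lin, Fin.tail]

/-- The linear part as an automorphism. -/
def linEquiv (x : Heis n) : Vec (n + 1) ≃+ Vec (n + 1) where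
  toFun := lin x
  invFun := lin x⁻¹
  left_inv v := by rw [← lin_mul, inv_mul_cancel, lin_one]
  right_inv v := by rw [← lin_mul, mul_inv_cancel, lin_one]
  map_add' := lin_add x

theorem cons_add' (c c' : K2) (b b' : Vec n) :
    (Fin.cons c b : Vec (n + 1)) + Fin.cons c' b' = Fin.cons (c + c') (b + b') := by
  funext i
  refine Fin.cases ?_ (fun i => ?_) i <;> simp

theorem cons_zero' : (Fin.cons 0 0 : Vec (n + 1)) = 0 := by
  funext i
  refine Fin.cases ?_ (fun i => ?_) i <;> simp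

theorem single_zero' : (Pi.single 0 1 : Vec (n + 1)) = Fin.cons 1 0 := by
  funext i
  refine Fin.cases ?_ (fun i => ?_) i <;> simp

theorem single_succ' (j : Fin n) : (Pi.single j.succ 1 : Vec (n + 1)) = Fin.cons 0 (Pi.single j 1) := by
  funext i
  refine Fin.cases ?_ (fun i => ?_) i
  · simp [Pi.single_eq_of_ne (Fin.succ_ne_zero j).symm]
  · simp [Pi.single_apply]

/-- Columns of an additive map fixing the first basis vector. -/
theorem formula (f : Vec (n + 1) ≃+ Vec (n + 1)) (h0 : f (Pi.single 0 1) = Pi.single 0 1)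
    (v : Vec (n + 1)) :
    f v = Fin.cons (v 0 + (fun j => f (Pi.single j.succ 1) 0) ⬝ᵥ Fin.tail v)
      ((Matrix.of fun i j => f (Pi.single j.succ 1) i.succ) *ᵥ Fin.tail v) := by
  have key : f.toAddMonoidHom =
      AddMonoidHom.mk' (fun v : Vec (n + 1) =>
        (Fin.cons (v 0 + (fun j => f (Pi.single j.succ 1) 0) ⬝ᵥ Fin.tail v)
          ((Matrix.of fun i j => f (Pi.single j.succ 1) i.succ) *ᵥ Fin.tail v) : Vec (n + 1)))
        fun v w => by
          rw [cons_add', tail_add', mulVec_add, dotProduct_add]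
          congr 1
          rw [Pi.add_apply]; abel := by
    refine AddMonoidHom.functions_ext _ _ _ fun i x => ?_
    rcases k2_cases x with rfl | rfl
    · rw [Pi.single_zero, map_zero, map_zero]
    refine Fin.cases ?_ (fun j => ?_) i
    · show f (Pi.single 0 1) = _
      rw [h0]
      simp [single_zero', Fin.tail_cons]
    · show f (Pi.single j.succ 1) = _
      conv_rhs =>
        simp only [AddMonoidHom.mk'_apply]
        rw [show (Pi.single j.succ 1 : Vec (n + 1)) 0 = 0 from Pi.single_eq_of_ne (Fin.succ_ne_zero j).symm 1,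
          show Fin.tail (Pi.single j.succ 1 : Vec (n + 1)) = Pi.single j 1 by
            rw [single_succ', Fin.tail_cons],
          zero_add, dotProduct_single, mul_one, mulVec_single_one]
      funext i
      refine Fin.cases ?_ (fun i => ?_) i <;> simp
  exact DFunLike.congr_fun key v

theorem cols_mul (f g : Vec (n + 1) ≃+ Vec (n + 1)) (h0 : f (Pi.single 0 1) = Pi.single 0 1)
    (hfg : ∀ v, f (g v) = v) :
    (Matrix.of fun i j => f (Pi.single j.succ 1) i.succ) *
      (Matrix.of fun i j => g (Pi.single j.succ 1) i.succ) = (1 : Matrix (Fin n) (Fin n) K2) := by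
  ext i j
  have h := congrFun (hfg (Pi.single j.succ 1)) i.succ
  rw [formula f h0 (g (Pi.single j.succ 1)), Fin.cons_succ] at h
  rw [Matrix.one_apply]
  simp only [Matrix.mul_apply, Matrix.of_apply]
  simp only [Matrix.mulVec, dotProduct, Matrix.of_apply, Fin.tail] at h
  rw [h, Pi.single_apply]
  simp

theorem exists_lin (f : Vec (n + 1) ≃+ Vec (n + 1)) (h0 : f (Pi.single 0 1) = Pi.single 0 1) :
    ∃ x : Heis n, ∀ v, f v = lin x v := by
  have h0' : f.symm (Pi.single 0 1) = Pi.single 0 1 := f.symm_apply_eq.mpr h0.symm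
  exact ⟨⟨⟨_, _, cols_mul f f.symm h0 f.apply_symm_apply, cols_mul f.symm f h0' f.symm_apply_apply⟩,
    fun j => f (Pi.single j.succ 1) 0, 0, 0⟩, formula f h0⟩

theorem main {G : Type*} [Group G] [Finite G] (n : ℕ) (hn : 1 ≤ n) (U M : Subgroup G) [U.Normal]
    (hU : Cfsg.IsElementaryAbelian 2 U) (hUcard : Nat.card ↥U = 2 ^ (n + 1)) (hUM : U ⊓ M = ⊥)
    (hUM' : U ⊔ M = ⊤) (hfaith : ∀ m ∈ M, (∀ u ∈ U, m * u * m⁻¹ = u) → m = 1)
    (hfull : ∀ φ : ↥U ≃* ↥U, ∃ m ∈ M, ∀ u : ↥U, ((φ u : ↥U) : G) = m * u * m⁻¹) (Z : Subgroup G)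
    (hZU : Z ≤ U) (hZ : Nat.card ↥Z = 2) (Q : Subgroup G)
    (hQ : Q = (Cfsg.pCore 2 ↥(Subgroup.centralizer (Z : Set G))).map
      (Subgroup.centralizer (Z : Set G)).subtype) :
    Cfsg.IsExtraspecial 2 ↥Q ∧ Nat.card ↥Q = 2 ^ (2 * n + 1) ∧
      (∃ E : Subgroup G, E ≤ Q ∧ Cfsg.IsElementaryAbelian 2 E ∧ Nat.card ↥E = 2 ^ (n + 1)) ∧
      Cfsg.IsLargeExtraspecial Q ∧ ∃ K : Subgroup G, K ≤ Subgroup.centralizer (Z : Set G) ∧
        Q ⊓ K = ⊥ ∧ Q ⊔ K = Subgroup.centralizer (Z : Set G) ∧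
        Nonempty (↥K ≃* Matrix.GeneralLinearGroup (Fin n) (ZMod 2)) := by
  classical
  have hUn : U.Normal := inferInstance
  obtain ⟨φ₀, hφ₀⟩ := exists_coord hU hUcard
  have : Nontrivial ↥Z := Finite.one_lt_card_iff_nontrivial.mp (by omega)
  obtain ⟨⟨zg, hzgZ⟩, hzg⟩ := exists_ne (1 : ↥Z)
  have hzgne : zg ≠ 1 := fun h => hzg (Subtype.ext h)
  have hZmem : ∀ y ∈ Z, y = 1 ∨ y = zg := by
    intro y hy
    obtain ⟨u, v, huv, huniv⟩ := Nat.card_eq_two_iff.mp hZ
    have hall : ∀ w : ↥Z, w = u ∨ w = v := fun w => by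
      have : w ∈ ({u, v} : Set _) := huniv ▸ Set.mem_univ w
      simpa using this
    rcases hall ⟨y, hy⟩ with h | h <;> rcases hall 1 with h1 | h1 <;>
      rcases hall ⟨zg, hzgZ⟩ with hz | hz
    all_goals first
      | exact absurd (congrArg Subtype.val (hz.trans h1.symm)) hzgne
      | exact Or.inl (congrArg Subtype.val (h.trans h1.symm))
      | exact Or.inr (congrArg Subtype.val (h.trans hz.symm))
  have hφ1 : φ₀ 1 = 0 := by
    have h := hφ₀ 1 1
    rw [one_mul] at h
    simpa using h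
  obtain ⟨mv, hmv⟩ := exists_move (φ₀ ⟨zg, hZU hzgZ⟩)
    (fun h => hzgne (congrArg Subtype.val (φ₀.injective (h.trans hφ1.symm)))) 0
  set φ := φ₀.trans mv.toEquiv
  have hφ : ∀ u v, φ (u * v) = φ u + φ v := fun u v => by
    show mv (φ₀ (u * v)) = _
    rw [hφ₀, map_add]; rfl
  have hφz : φ ⟨zg, hZU hzgZ⟩ = Pi.single 0 1 := hmv
  have hφs : ∀ v w, φ.symm (v + w) = φ.symm v * φ.symm w := fun v w => by
    apply φ.injective
    rw [hφ, φ.apply_symm_apply, φ.apply_symm_apply, φ.apply_symm_apply]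
  set ι : Vec (n + 1) → G := fun v => (φ.symm v : G) with hι
  have hι_add : ∀ v w, ι (v + w) = ι v * ι w := fun v w => congrArg Subtype.val (hφs v w)
  have hι_mem : ∀ v, ι v ∈ U := fun v => (φ.symm v).2
  have hι_inj : ∀ v w, ι v = ι w → v = w := fun v w h => φ.symm.injective (Subtype.ext h)
  have hι_zero : ι 0 = 1 := by
    have h := hι_add 0 0
    rw [add_zero] at h
    exact left_eq_mul.mp h
  have hUcomm : ∀ x ∈ U, ∀ y ∈ U, x * y = y * x := fun x hx y hy =>
    congrArg Subtype.val (hU.1.1.1 ⟨x, hx⟩ ⟨y, hy⟩)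
  have hsurjι : ∀ u ∈ U, ∃ v, ι v = u := fun u hu => ⟨φ ⟨u, hu⟩, by simp [hι]⟩
  have hext : ∀ f : Vec (n + 1) ≃+ Vec (n + 1), ∃ m ∈ M, ∀ v, m * ι v * m⁻¹ = ι (f v) := by
    intro f
    let e : ↥U ≃* ↥U :=
      { toEquiv := φ.trans (f.toEquiv.trans φ.symm)
        map_mul' := fun u v => by
          show φ.symm (f (φ (u * v))) = φ.symm (f (φ u)) * φ.symm (f (φ v))
          rw [hφ, map_add, hφs] }
    obtain ⟨m, hm, hmu⟩ := hfull e
    refine ⟨m, hm, fun v => ?_⟩
    rw [← hmu (φ.symm v)]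
    show ((φ.symm (f (φ (φ.symm v)))) : G) = _
    rw [φ.apply_symm_apply]
  choose mf hmfM hmf using hext
  have huniq : ∀ m ∈ M, ∀ m' ∈ M, (∀ v, m * ι v * m⁻¹ = m' * ι v * m'⁻¹) → m = m' := by
    intro m hm m' hm' h
    refine (inv_mul_eq_one.mp (hfaith _ (mul_mem (inv_mem hm') hm) fun u hu => ?_)).symm
    obtain ⟨v, rfl⟩ := hsurjι u hu
    calc m'⁻¹ * m * ι v * (m'⁻¹ * m)⁻¹ = m'⁻¹ * (m * ι v * m⁻¹) * m' := by group
      _ = ι v := by rw [h v]; group
  have hmf_one : ∀ f : Vec (n + 1) ≃+ Vec (n + 1), (∀ v, f v = v) → mf f = 1 := fun f hf =>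
    huniq _ (hmfM f) 1 (one_mem M) fun v => by rw [hmf, hf]; simp
  let θf : Heis n → G := fun x => ι (Fin.cons x.c x.b) * mf (linEquiv x)
  have hθmul : ∀ x y, θf (x * y) = θf x * θf y := by
    intro x y
    have h1 : mf (linEquiv (x * y)) = mf (linEquiv x) * mf (linEquiv y) := by
      refine huniq _ (hmfM _) _ (mul_mem (hmfM _) (hmfM _)) fun v => ?_
      rw [hmf]
      calc ι (lin (x * y) v) = mf (linEquiv x) * (mf (linEquiv y) * ι v * (mf (linEquiv y))⁻¹) *
            (mf (linEquiv x))⁻¹ := by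
            rw [hmf, hmf, lin_mul]; rfl
        _ = _ := by group
    have h2 : mf (linEquiv x) * ι (Fin.cons y.c y.b) =
        ι (lin x (Fin.cons y.c y.b)) * mf (linEquiv x) :=
      mul_inv_eq_iff_eq_mul.mp (hmf (linEquiv x) _)
    show ι _ * mf _ = ι _ * mf _ * (ι _ * mf _)
    rw [h1, show (Fin.cons (x * y).c (x * y).b : Vec (n + 1)) =
      Fin.cons x.c x.b + lin x (Fin.cons y.c y.b) by
        simp [lin, cons_add', Fin.tail_cons, add_assoc],
      hι_add]
    simp only [mul_assoc]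
    rw [← mul_assoc (mf (linEquiv x)) (ι _), h2, mul_assoc]
  let θ : Heis n →* G := MonoidHom.mk' θf hθmul
  have hθinj : Function.Injective θ := by
    intro x y h
    have h' : ι (Fin.cons x.c x.b) * mf (linEquiv x) = ι (Fin.cons y.c y.b) * mf (linEquiv y) := h
    have hmem : (ι (Fin.cons y.c y.b))⁻¹ * ι (Fin.cons x.c x.b) ∈ U ⊓ M := by
      refine Subgroup.mem_inf.mpr ⟨mul_mem (inv_mem (hι_mem _)) (hι_mem _), ?_⟩
      rw [show (ι (Fin.cons y.c y.b))⁻¹ * ι (Fin.cons x.c x.b) =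
        mf (linEquiv y) * (mf (linEquiv x))⁻¹ by
          rw [inv_mul_eq_iff_eq_mul, ← mul_assoc, ← h', mul_inv_cancel_right]]
      exact mul_mem (hmfM _) (inv_mem (hmfM _))
    rw [hUM, Subgroup.mem_bot, inv_mul_eq_one] at hmem
    have hcb := hι_inj _ _ hmem.symm
    rw [← hmem] at h'
    have hm := mul_left_cancel h'
    have hlin : ∀ v, lin x v = lin y v := fun v => hι_inj _ _ (by
      have h1 := hmf (linEquiv x) v
      rw [hm, hmf] at h1
      exact h1.symm)
    refine Heis.ext (Units.ext (Matrix.ext_iff_mulVec.mpr fun w => ?_)) (funext fun j => ?_) ?_ ?_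
    · have := congrArg Fin.tail (hlin (Fin.cons 0 w))
      simpa [lin, Fin.tail_cons] using this
    · have := congrFun (hlin (Fin.cons 0 (Pi.single j 1))) 0
      simpa [lin, Fin.tail_cons] using this
    · simpa using congrArg Fin.tail hcb
    · simpa using congrFun hcb 0
  have hzι : ι (Pi.single 0 1) = zg := by
    rw [hι, ← hφz]; simp
  have hcentZ : ∀ g, g ∈ Subgroup.centralizer (Z : Set G) ↔ g * zg = zg * g := by
    intro g
    rw [Subgroup.mem_centralizer_iff]
    refine ⟨fun h => (h zg hzgZ).symm, fun h y hy => ?_⟩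
    rcases hZmem y hy with rfl | rfl
    · simp
    · exact h.symm
  have hθz : θ (zc n) = zg := by
    show ι (Fin.cons 1 0) * mf _ = zg
    rw [hmf_one _ (fun v => ?_), mul_one, ← single_zero', hzι]
    exact lin_one v
  have hrange : θ.range = Subgroup.centralizer (Z : Set G) := by
    refine le_antisymm ?_ fun g hg => ?_
    · rintro _ ⟨x, rfl⟩
      rw [hcentZ, ← hθz, ← map_mul, ← map_mul, zc_central]
    obtain ⟨u, hu, m, hm, rfl⟩ := Subgroup.mem_sup_of_normal_left.mp (hUM' ▸ Subgroup.mem_top g)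
    obtain ⟨v₀, rfl⟩ := hsurjι u hu
    rw [hcentZ] at hg
    have hmz : m * zg * m⁻¹ = zg := by
      rw [mul_inv_eq_iff_eq_mul]
      have : ι v₀ * (m * zg) = ι v₀ * (zg * m) := by
        rw [← mul_assoc, hg, ← mul_assoc, ← mul_assoc, hUcomm zg (hZU hzgZ) _ (hι_mem v₀)]
      exact mul_left_cancel this
    let f : Vec (n + 1) ≃+ Vec (n + 1) :=
      { toFun := fun v => φ ⟨m * ι v * m⁻¹, hUn.conj_mem _ (hι_mem v) m⟩
        invFun := fun v => φ ⟨m⁻¹ * ι v * m⁻¹⁻¹, hUn.conj_mem _ (hι_mem v) m⁻¹⟩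
        left_inv := fun v => by
          rw [← φ.eq_symm_apply]
          exact Subtype.ext (by simp [hι, mul_assoc])
        right_inv := fun v => by
          rw [← φ.eq_symm_apply]
          exact Subtype.ext (by simp [hι, mul_assoc])
        map_add' := fun v w => by
          rw [← hφ]
          exact congrArg φ (Subtype.ext (by simp [hι_add, mul_assoc])) }
    have hf : ∀ v, ι (f v) = m * ι v * m⁻¹ := fun v => by
      show ((φ.symm (φ _) : ↥U) : G) = _
      rw [φ.symm_apply_apply]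
    obtain ⟨x, hx⟩ := exists_lin f (hι_inj _ _ (by rw [hf, hzι, hmz]))
    refine ⟨⟨x.M, x.a, Fin.tail v₀, v₀ 0⟩, ?_⟩
    show ι (Fin.cons (v₀ 0) (Fin.tail v₀)) * mf _ = ι v₀ * m
    rw [Fin.cons_self_tail]
    congr 1
    refine huniq _ (hmfM _) m hm fun v => ?_
    rw [hmf, ← hf, hx]
    rfl
  obtain ⟨i₀⟩ : Nonempty (Fin n) := ⟨⟨0, hn⟩⟩
  let fs : Vec (n + 1) ≃+ Vec (n + 1) :=
    (LinearEquiv.funCongrLeft K2 K2 (Equiv.swap 0 i₀.succ)).toAddEquiv
  have hfs : fs (Pi.single 0 1) = Pi.single i₀.succ 1 ∧ fs (Pi.single i₀.succ 1) = Pi.single 0 1 := by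
    constructor <;> funext j <;>
      simp [fs, Pi.single_apply, Equiv.swap_apply_def, Fin.succ_ne_zero, (Fin.succ_ne_zero _).symm] <;> grind
  have hθb : θ ⟨1, 0, Pi.single i₀ 1, 0⟩ = ι (Pi.single i₀.succ 1) := by
    show ι (Fin.cons 0 (Pi.single i₀ 1)) * mf _ = _
    rw [hmf_one _ (fun v => ?_), mul_one, single_succ']
    exact lin_one v
  exact Lib.LargeES.Heisenberg.main (n := n) hn θ hθinj (Subgroup.centralizer (Z : Set G)) hrange
    (by
      ext g
      rw [hθz, hcentZ, Subgroup.mem_centralizer_singleton_iff])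
    ⟨1, 0, Pi.single i₀ 1, 0⟩ (mem_radical.mpr rfl)
    (by
      rw [rad_mul_c (x := (⟨1, 0, Pi.single i₀ 1, 0⟩ : Heis n)) rfl rfl]
      refine Heis.ext rfl ?_ ?_ ?_ <;> simp [vec_add_self, CharTwo.add_self_eq_zero])
    ⟨fun h => by simpa using congrFun (congrArg Heis.b h) i₀,
      fun h => by simpa [zc] using congrFun (congrArg Heis.b h) i₀⟩
    (mf fs) (by rw [hθb, hθz, hmf, hfs.2, hzι]) (by rw [hθb, hθz, ← hzι, hmf, hfs.1]) Q hQ


/-- Let G be a finite group that is the split extension of an elementary abelian normal subgroup U of order 2^(n+1), n ≥ 1, by its full automorphism group: U has a complement M in G whose conjugation action on U is faithful and realizes every automorphism of U. Let Z be a subgroup of U of order 2 and Q the largest normal 2-subgroup of the centralizer C of Z. Then Q is extraspecial of order 2^(2n+1) with an elementary abelian subgroup of order 2^(n+1) (plus type), Q is a large extraspecial 2-subgroup of G, and C is the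 split extension of Q by the general linear group of degree n over the field with two elements. -/
theorem result {G : Type*} [Group G] [Finite G] (n : ℕ) (hn : 1 ≤ n) (U M : Subgroup G) [U.Normal] (hU : Cfsg.IsElementaryAbelian 2 U) (hUcard : Nat.card ↥U = 2 ^ (n + 1)) (hUM : U ⊓ M = ⊥) (hUM' : U ⊔ M = ⊤) (hfaith : ∀ m ∈ M, (∀ u ∈ U, m * u * m⁻¹ = u) → m = 1) (hfull : ∀ φ : ↥U ≃* ↥U, ∃ m ∈ M, ∀ u : ↥U, ((φ u : ↥U) : G) = m * u * m⁻¹) (Z : Subgroup G) (hZU : Z ≤ U) (hZ : Nat.card ↥Z = 2) (Q : Subgroup G) (hQ : Q = (Cfsg.pCore 2 ↥(Subgroup.centralizer (Z : Set G))).map (Subgroup.centralizer (Z : Set G)).subtype) : Cfsg.IsExtraspecial 2 ↥Q ∧ Nat.card ↥Q = 2 ^ (2 * n + 1) ∧ (∃ E : Subgroup G, E ≤ Q ∧ Cfsg.IsElementaryAbelian 2 E ∧ Nat.card ↥E = 2 ^ (n + 1)) ∧ Cfsg.IsLargeExtraspecial Q ∧ ∃ K : Subgroup G, K ≤ Subgroup.centralizer (Z : Set G) ∧ Q ⊓ K = ⊥ ∧ Q ⊔ K = Subgroup.centralizer (Z : Set G) ∧ Nonempty (↥K ≃* Matrix.GeneralLinearGroup (Fin n) (ZMod 2))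 := by
  exact main n hn U M hU hUcard hUM hUM' hfaith hfull Z hZU hZ Q hQ

end Cfsg.Agent.S5423
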