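import Cfsg.Statements.S5424
import Mathlib
import Cfsg.Agent.Lib.LargeES.Heisenberg

set_option autoImplicit false
open Cfsg

namespace Cfsg.Agent.S5424

open Matrix Lib.LargeES.Heisenberg

variable {n : ℕ}

/-- The matrix `[[1, c, a], [0, 1, 0], [0, b, M]]`. -/
def mat (x : Heis n) : Matrix (Fin (n + 2)) (Fin (n + 2)) K2 :=
  Fin.cons (Fin.cons 1 (Fin.cons x.c x.a))
    (Fin.cons (Fin.cons 0 (Fin.cons 1 0))
      (fun i => Fin.cons 0 (Fin.cons (x.b i) ((x.M : Matrix (Fin n) (Fin n) K2) i))))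

theorem mat_one : mat (1 : Heis n) = 1 := by
  ext i j
  refine Fin.cases ?_ (fun i => Fin.cases ?_ (fun i => ?_) i) i <;>
    refine Fin.cases ?_ (fun j => Fin.cases ?_ (fun j => ?_) j) j <;>
    simp [mat, Matrix.one_apply, Fin.ext_iff]

theorem mat_mul (x y : Heis n) : mat (x * y) = mat x * mat y := by
  ext i j
  rw [Matrix.mul_apply, Fin.sum_univ_succ, Fin.sum_univ_succ]
  refine Fin.cases ?_ (fun i => Fin.cases ?_ (fun i => ?_) i) i <;>
    refine Fin.cases ?_ (fun j => Fin.cases ?_ (fun j => ?_) j) j <;>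
    simp [mat, dotProduct, Matrix.vecMul, Matrix.mulVec, Matrix.mul_apply] <;> abel

theorem det_eq_one {m : ℕ} {A B : Matrix (Fin m) (Fin m) K2} (h : A * B = 1) : A.det = 1 := by
  rcases k2_cases A.det with e | e
  · have := congrArg Matrix.det h
    rw [det_mul, det_one, e, zero_mul] at this
    exact absurd this zero_ne_one
  · exact e

/-- The embedding. -/
def theta (n : ℕ) : Heis n →* SpecialLinearGroup (Fin (n + 2)) K2 where
  toFun x := ⟨mat x, det_eq_one (B := mat x⁻¹) (by rw [← mat_mul, mul_inv_cancel, mat_one])⟩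
  map_one' := Subtype.ext mat_one
  map_mul' x y := Subtype.ext (mat_mul x y)

theorem theta_injective : Function.Injective (theta n) := fun x y h => by
  have h' : mat x = mat y := congrArg Subtype.val h
  refine Heis.ext (Units.ext (Matrix.ext fun i j => ?_)) (funext fun j => ?_) (funext fun i => ?_) ?_
  · simpa [mat] using congrFun (congrFun h' i.succ.succ) j.succ.succ
  · simpa [mat] using congrFun (congrFun h' 0) j.succ.succ
  · simpa [mat] using congrFun (congrFun h' i.succ.succ) 1
  · simpa [mat] using congrFun (congrFun h' 0) 1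

/-- The pattern of the centralizer of the transvection. -/
def Pat (A : Matrix (Fin (n + 2)) (Fin (n + 2)) K2) : Prop :=
  (∀ i, i ≠ 0 → A i 0 = 0) ∧ (∀ j, j ≠ 1 → A 1 j = 0) ∧ A 0 0 = A 1 1

theorem pat_of_commute {A : Matrix (Fin (n + 2)) (Fin (n + 2)) K2}
    (h : A * transvection 0 1 1 = transvection 0 1 1 * A) : Pat A := by
  have h01 : (0 : Fin (n + 2)) ≠ 1 := by simp [Fin.ext_iff]
  refine ⟨fun i hi => ?_, fun j hj => ?_, ?_⟩
  · have := congrFun (congrFun h i) 1
    rw [mul_transvection_apply_same, transvection_mul_apply_of_ne _ _ _ _ hi, one_mul] at this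
    simpa using this
  · have := congrFun (congrFun h 0) j
    rw [mul_transvection_apply_of_ne _ _ _ _ hj, transvection_mul_apply_same, one_mul] at this
    simpa using this.symm
  · have := congrFun (congrFun h 0) 1
    rw [mul_transvection_apply_same, transvection_mul_apply_same, one_mul, one_mul] at this
    exact add_left_cancel this

theorem pat_inner {A B : Matrix (Fin (n + 2)) (Fin (n + 2)) K2} (hA : Pat A) (hB : Pat B) :
    (A * B).submatrix (fun i : Fin n => i.succ.succ) (fun j : Fin n => j.succ.succ) =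
      A.submatrix (fun i : Fin n => i.succ.succ) (fun j : Fin n => j.succ.succ) *
        B.submatrix (fun i : Fin n => i.succ.succ) (fun j : Fin n => j.succ.succ) := by
  ext i j
  rw [submatrix_apply, Matrix.mul_apply, Fin.sum_univ_succ, Fin.sum_univ_succ, Matrix.mul_apply,
    hA.1 _ (Fin.succ_ne_zero _), show (0 : Fin (n + 1)).succ = (1 : Fin (n + 2)) from rfl,
    hB.2.1 _ (by simp [Fin.ext_iff])]
  simp

theorem range_theta {z : SpecialLinearGroup (Fin (n + 2)) K2}
    (hz : (z : Matrix (Fin (n + 2)) (Fin (n + 2)) K2) = transvection 0 1 1) :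
    (theta n).range = Subgroup.centralizer ({z} : Set (SpecialLinearGroup (Fin (n + 2)) K2)) := by
  have hzc : theta n (zc n) = z := Subtype.ext (by
    rw [hz]
    show mat (zc n) = _
    ext i j
    refine Fin.cases ?_ (fun i => Fin.cases ?_ (fun i => ?_) i) i <;>
      refine Fin.cases ?_ (fun j => Fin.cases ?_ (fun j => ?_) j) j <;>
      simp [mat, zc, transvection, Matrix.one_apply, Matrix.single, Fin.ext_iff])
  refine le_antisymm ?_ fun g hg => ?_
  · rintro _ ⟨x, rfl⟩
    rw [Subgroup.mem_centralizer_singleton_iff, ← hzc, ← map_mul, ← map_mul, zc_central]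
  rw [Subgroup.mem_centralizer_singleton_iff] at hg
  have hp : ∀ u : SpecialLinearGroup (Fin (n + 2)) K2, u * z = z * u → Pat u.1 := fun u hu => by
    refine pat_of_commute ?_
    rw [← hz]; exact congrArg Subtype.val hu
  have hg' : Pat g.1 := hp g hg
  have hgi : Pat g⁻¹.1 := hp g⁻¹ ((Commute.inv_left (show Commute g z from hg)).eq)
  have h00 : g.1 0 0 = 1 := by
    refine (k2_cases _).resolve_left fun h0 => ?_
    have : g.1.det = 0 := det_eq_zero_of_column_eq_zero 0 fun i => by
      by_cases hi : i = 0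
      · rw [hi, h0]
      · exact hg'.1 i hi
    rw [g.2] at this
    exact one_ne_zero this
  have e1 := pat_inner hg' hgi
  have e2 := pat_inner hgi hg'
  rw [show g.1 * g⁻¹.1 = 1 from congrArg Subtype.val (mul_inv_cancel g),
    submatrix_one _ (fun a b h => Fin.succ_injective _ (Fin.succ_injective _ h))] at e1
  rw [show g⁻¹.1 * g.1 = 1 from congrArg Subtype.val (inv_mul_cancel g),
    submatrix_one _ (fun a b h => Fin.succ_injective _ (Fin.succ_injective _ h))] at e2
  refine ⟨⟨⟨_, _, e1.symm, e2.symm⟩, fun j => g.1 0 j.succ.succ, fun i => g.1 i.succ.succ 1, g.1 0 1⟩,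
    Subtype.ext ?_⟩
  show mat _ = g.1
  ext i j
  have h11 : g.1 1 1 = 1 := hg'.2.2 ▸ h00
  refine Fin.cases ?_ (fun i => Fin.cases ?_ (fun i => ?_) i) i <;>
    refine Fin.cases ?_ (fun j => Fin.cases ?_ (fun j => ?_) j) j
  · simp [mat, h00]
  · simp [mat]
  · simp [mat]
  · simp [mat, hg'.1 1 (by simp [Fin.ext_iff])]
  · simp [mat, h11]
  · simp [mat, hg'.2.1 j.succ.succ (by simp [Fin.ext_iff])]
  · simp [mat, hg'.1 _ (Fin.succ_ne_zero _)]
  · simp [mat]
  · simp [mat]

theorem perm_conj {m : ℕ} (σ : Equiv.Perm (Fin m)) (A : Matrix (Fin m) (Fin m) K2) :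
    σ.toPEquiv.toMatrix * A * σ.symm.toPEquiv.toMatrix = A.submatrix σ σ := by
  rw [PEquiv.toMatrix_toPEquiv_mul, PEquiv.mul_toMatrix_toPEquiv]
  ext i j
  simp

theorem main (n : ℕ) (hn : 2 ≤ n) (z : SpecialLinearGroup (Fin (n + 2)) K2)
    (hz : (z : Matrix (Fin (n + 2)) (Fin (n + 2)) K2) = transvection 0 1 1)
    (Q : Subgroup (SpecialLinearGroup (Fin (n + 2)) K2))
    (hQ : Q = (Cfsg.pCore 2 ↥(Subgroup.centralizer ({z} : Set (SpecialLinearGroup (Fin (n + 2)) K2)))).map
      (Subgroup.centralizer ({z} : Set (SpecialLinearGroup (Fin (n + 2)) K2))).subtype) :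
    Cfsg.IsExtraspecial 2 ↥Q ∧ Nat.card ↥Q = 2 ^ (2 * n + 1) ∧
      (∃ E : Subgroup (SpecialLinearGroup (Fin (n + 2)) K2), E ≤ Q ∧ Cfsg.IsElementaryAbelian 2 E ∧
        Nat.card ↥E = 2 ^ (n + 1)) ∧ Cfsg.IsLargeExtraspecial Q ∧
      ∃ K : Subgroup (SpecialLinearGroup (Fin (n + 2)) K2), K ≤ Subgroup.centralizer ({z} : Set _) ∧
        Q ⊓ K = ⊥ ∧ Q ⊔ K = Subgroup.centralizer ({z} : Set _) ∧
        Nonempty (↥K ≃* SpecialLinearGroup (Fin n) K2) := by
  let i0 : Fin n := ⟨0, by omega⟩
  let b : Heis n := ⟨1, Pi.single i0 1, 0, 0⟩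
  let σ : Equiv.Perm (Fin (n + 2)) := Equiv.swap 1 i0.succ.succ
  have hσ : σ.symm = σ := Equiv.symm_swap _ _
  have hP : σ.toPEquiv.toMatrix * σ.toPEquiv.toMatrix = (1 : Matrix (Fin (n + 2)) (Fin (n + 2)) K2) := by
    have := perm_conj σ (1 : Matrix (Fin (n + 2)) (Fin (n + 2)) K2)
    rwa [mul_one, hσ, submatrix_one _ σ.injective] at this
  let g : SpecialLinearGroup (Fin (n + 2)) K2 := ⟨σ.toPEquiv.toMatrix, det_eq_one hP⟩
  have hgg : g⁻¹ = g := inv_eq_of_mul_eq_one_right (Subtype.ext hP)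
  have hconj : ∀ u : SpecialLinearGroup (Fin (n + 2)) K2, (g * u * g⁻¹).1 = u.1.submatrix σ σ := fun u => by
    rw [hgg]
    show g.1 * u.1 * g.1 = _
    rw [← perm_conj σ, hσ]
  have hzc : theta n (zc n) = z := by
    have hzmem : z ∈ (theta n).range := by
      rw [range_theta hz, Subgroup.mem_centralizer_singleton_iff]
    refine Subtype.ext ?_
    rw [hz]
    show mat (zc n) = _
    ext i j
    refine Fin.cases ?_ (fun i => Fin.cases ?_ (fun i => ?_) i) i <;>
      refine Fin.cases ?_ (fun j => Fin.cases ?_ (fun j => ?_) j) j <;>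
      simp [mat, zc, transvection, Matrix.one_apply, Matrix.single, Fin.ext_iff]
  have hb : (theta n b).1 = transvection 0 i0.succ.succ 1 := by
    show mat b = _
    ext i j
    refine Fin.cases ?_ (fun i => Fin.cases ?_ (fun i => ?_) i) i <;>
      refine Fin.cases ?_ (fun j => Fin.cases ?_ (fun j => ?_) j) j <;>
      simp [mat, b, transvection, Matrix.one_apply, Matrix.single, Pi.single_apply, Fin.ext_iff] <;> grind
  have hsub : ∀ p q : Fin (n + 2), (transvection p q (1 : K2)).submatrix σ σ =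
      transvection (σ p) (σ q) 1 := fun p q => by
    ext i j
    simp only [transvection, submatrix_apply, Matrix.add_apply, Matrix.one_apply, Matrix.single_apply,
      σ.injective.eq_iff]
    congr 1
    have h1 : ∀ u v : Fin (n + 2), u = σ v ↔ σ u = v := fun u v => by
      constructor
      · rintro rfl; exact (σ.eq_symm_apply).mp (by rw [hσ])
      · rintro rfl; exact ((σ.eq_symm_apply).mp (by rw [hσ])).symm
    simp only [h1]
  have h0 : σ 0 = 0 := Equiv.swap_apply_of_ne_of_ne (by simp [Fin.ext_iff]) (by simp [Fin.ext_iff])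
  obtain ⟨c1, c2, c3, c4, K, k1, k2, k3, ⟨e⟩⟩ := Lib.LargeES.Heisenberg.main (n := n) (by omega)
    (theta n) theta_injective _ (range_theta hz) (by rw [hzc]) b (mem_radical.mpr rfl)
    (by rw [rad_mul_c (x := b) (y := b) rfl rfl]; refine Heis.ext rfl ?_ ?_ ?_ <;>
          simp [b, vec_add_self, CharTwo.add_self_eq_zero])
    ⟨fun h => by simpa [b] using congrFun (congrArg Heis.a h) i0,
      fun h => by simpa [b, zc] using congrFun (congrArg Heis.a h) i0⟩
    g (Subtype.ext (by
      rw [hconj, hb, hzc, hz, hsub, h0]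
      simp [σ]))
    (Subtype.ext (by
      rw [hconj, hzc, hb, hz, hsub, h0]
      simp [σ])) Q hQ
  refine ⟨c1, c2, c3, c4, K, k1, k2, k3, ⟨e.trans ?_⟩⟩
  exact
    { toFun := fun M => ⟨M.1, det_eq_one M.3⟩
      invFun := fun M => ⟨M.1, (M⁻¹).1, congrArg Subtype.val (mul_inv_cancel M),
        congrArg Subtype.val (inv_mul_cancel M)⟩
      left_inv := fun M => Units.ext rfl
      right_inv := fun M => Subtype.ext rfl
      map_mul' := fun M N => Subtype.ext rfl }


/-- Let G be the special linear group of degree n + 2 over the field with two elements, n ≥ 2, let z be a transvection, and let Q be the largest normal 2-subgroup of the centralizer C of z. Then Q is extraspecial of order 2^(2n+1) with an elementary abelian subgroup of order 2^(n+1) (plus type), Q is a large extraspecial 2-subgroup of G, and C is the split extension of Q by the special linear group of degree n over the field with two elements. -/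
theorem result (n : ℕ) (hn : 2 ≤ n) (z : Matrix.SpecialLinearGroup (Fin (n + 2)) (ZMod 2)) (hz : (z : Matrix (Fin (n + 2)) (Fin (n + 2)) (ZMod 2)) = Matrix.transvection 0 1 1) (Q : Subgroup (Matrix.SpecialLinearGroup (Fin (n + 2)) (ZMod 2))) (hQ : Q = (Cfsg.pCore 2 ↥(Subgroup.centralizer ({z} : Set (Matrix.SpecialLinearGroup (Fin (n + 2)) (ZMod 2))))).map (Subgroup.centralizer ({z} : Set (Matrix.SpecialLinearGroup (Fin (n + 2)) (ZMod 2)))).subtype) : Cfsg.IsExtraspecial 2 ↥Q ∧ Nat.card ↥Q = 2 ^ (2 * n + 1) ∧ (∃ E : Subgroup (Matrix.SpecialLinearGroup (Fin (n + 2)) (ZMod 2)), E ≤ Q ∧ Cfsg.IsElementaryAbelian 2 E ∧ Nat.card ↥E = 2 ^ (n + 1)) ∧ Cfsg.IsLargeExtraspecial Q ∧ ∃ K : Subgroup (Matrix.SpecialLinearGroup (Fin (n + 2)) (ZMod 2)), K ≤ Subgroup.centralizer ({z} : Set (Matrix.SpecialLinearGroup (Fin (n + 2)) (ZMod 2))) ∧ Q ⊓ K = ⊥ ∧ Q ⊔ K = Subgroup.centralizer ({z} : Set (Matrix.SpecialLinearGroup (Fin (n + 2)) (ZMod 2))) ∧ Nonempty (↥K ≃* Matrix.SpecialLinearGroup (Fin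 n) (ZMod 2)) := by
  exact main n hn z hz Q hQ

end Cfsg.Agent.S5424
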