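import Cfsg.Statements.S5425
import Mathlib
import Cfsg.Agent.Lib.Golay.InvCent

set_option autoImplicit false
set_option maxRecDepth 100000
open Cfsg

namespace Cfsg.Agent.S5425

open Cfsg.Agent.Lib Cfsg.Agent.Lib.Golay Cfsg.Agent.Lib.Golay.StabCert Cfsg.Agent.Lib.Golay.InvCent
open Cfsg.Agent.Lib.Golay.InvCentData
open scoped Pointwise

theorem look_mem (M : Mat3) : OK (look M) ∧ (look M).length = 24 ∧
    ∃ w, (code M, look M, w) ∈ klist := by
  have h := (k_word M).2.1
  obtain ⟨⟨l, w⟩, hlw⟩ := Option.isSome_iff_exists.mp h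
  have hm : (code M, l, w) ∈ klist := by
    obtain ⟨l₁, l₂, h₁, -⟩ := List.lookup_eq_some_iff.mp hlw
    rw [h₁]
    exact List.mem_append.mpr (Or.inr List.mem_cons_self)
  have hl : look M = l := by unfold look; rw [hlw]; rfl
  rw [hl]
  refine ⟨?_, ?_, w, hm⟩
  · exact (List.all_eq_true.mp k_valid (code M, l, w) hm : _)
  · exact beq_iff_eq.mp (List.all_eq_true.mp len24.2 (code M, l, w) hm : _)

theorem zmod2_cases : ∀ d : ZMod 2, d = 0 ∨ d = 1 := by decide

theorem main (k : ↥M24) (o : Finset GolayPt)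
    (ho : o = Finset.univ.filter fun p : GolayPt => (el k ClassData.rep2f8 : Equiv.Perm GolayPt) p = p)
    (hoct : o ∈ octads) (z : ↥M24) (hzk : z = el k ClassData.rep2f8)
    (Q : Subgroup ↥M24)
    (hQ : Q = (Cfsg.pCore 2 ↥(Subgroup.centralizer ({z} : Set ↥M24))).map
      (Subgroup.centralizer ({z} : Set ↥M24)).subtype) :
    Cfsg.IsExtraspecial 2 ↥Q ∧ Nat.card ↥Q = 2 ^ 7 ∧
      (∃ E : Subgroup ↥M24, E ≤ Q ∧ Cfsg.IsElementaryAbelian 2 E ∧ Nat.card ↥E = 2 ^ 4) ∧
      Cfsg.IsLargeExtraspecial Q ∧
      ∃ K : Subgroup ↥M24, K ≤ Subgroup.centralizer ({z} : Set ↥M24) ∧ Q ⊓ K = ⊥ ∧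
        Q ⊔ K = Subgroup.centralizer ({z} : Set ↥M24) ∧
        Nonempty (↥K ≃* Matrix.SpecialLinearGroup (Fin 3) (ZMod 2)) := by
  classical
  set r := ClassData.rep2f8
  have okr : OK r := ok_rep
  set C := Subgroup.centralizer ({z} : Set ↥M24) with hC
  have hQC : ∀ {x : ↥M24}, x ∈ C ↔ x * z = z * x := Subgroup.mem_centralizer_singleton_iff
  -- unpacking
  have hqc := q_closed
  simp only [Bool.and_eq_true, List.all_eq_true] at hqc
  obtain ⟨⟨⟨-, hq1⟩, hqgm⟩, hqstep⟩ := hqc
  have hec := e_closed
  simp only [Bool.and_eq_true, List.all_eq_true] at hec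
  obtain ⟨⟨⟨⟨he1, hegm⟩, hestep⟩, heq⟩, hecomm⟩ := hec
  have hqf := q_facts
  simp only [Bool.and_eq_true, List.all_eq_true] at hqf
  obtain ⟨hrq, hqf⟩ := hqf
  have hQ0mem : ∀ q ∈ qlist, el k q ∈ Q0 k := fun q hq =>
    mem_closure_of_grown k (fun q hq => ok_q hq) (fun g hg => ok_qg hg) q_grown q hq
  have hQ0mem' : ∀ {l : List ℕ}, OK l → memP qlist l = true → el k l ∈ Q0 k := by
    intro l hl h
    obtain ⟨q, hq, hs⟩ := List.any_eq_true.mp h
    rw [← el_eq_of_same k (ok_q hq) hl hs]
    exact hQ0mem q hq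
  have hzQ : z ∈ Q0 k := hzk ▸ hQ0mem' okr hrq
  have hlen : ∀ {l : List ℕ}, l ∈ qlist → l.length = 24 := fun {l} h => by
    simpa using List.all_eq_true.mp len24.1 l (by simp [h])
  have hlene : ∀ {l : List ℕ}, l ∈ elist → l.length = 24 := fun {l} h => by
    simpa using List.all_eq_true.mp len24.1 l (by simp [h])
  have hlenr : r.length = 24 := by simpa using List.all_eq_true.mp len24.1 r (by simp [r])
  have hleni : idl.length = 24 := by simp [idl]
  have hgcomm : ∀ a ∈ [genA, genB] ++ qgens, el k a ∈ C := by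
    intro a ha
    have hok : OK a := by
      rcases List.mem_append.mp ha with h | h
      · rcases List.mem_cons.mp h with rfl | h
        · exact ok_genA
        · rw [List.mem_singleton.mp h]; exact ok_genB
      · exact ok_qg h
    rw [hQC, hzk]
    exact (el_eq22 k hok okr okr hok).mp (List.all_eq_true.mp gens_comm a ha)
  have hQ0C : Q0 k ≤ C := by
    rw [Q0, Subgroup.closure_le]
    rintro _ ⟨g, hg, rfl⟩
    exact hgcomm g (by simp [hg])
  -- the complement
  have hρA : ∀ M : Mat3, el k (look (M * matA)) = el k (look M) * el k genA := fun M => by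
    have h := (el_eq22 k (look_mem _).1 ok_idl (look_mem M).1 ok_genA).mp (k_hom M).1
    rwa [el_idl, mul_one] at h
  have hρB : ∀ M : Mat3, el k (look (M * matB)) = el k (look M) * el k genB := fun M => by
    have h := (el_eq22 k (look_mem _).1 ok_idl (look_mem M).1 ok_genB).mp (k_hom M).2
    rwa [el_idl, mul_one] at h
  have hρ1 : el k (look 1) = 1 := by
    rw [el_eq_of_same k (look_mem 1).1 ok_idl ((k_word 1).2.2.1 rfl), el_idl]
  let gen : Bool → ↥M24 := fun b => if b then el k genB else el k genA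
  have hword : ∀ (w : List Bool) (M : Mat3),
      el k (look (M * (w.map fun b => if b then matB else matA).prod)) = el k (look M) * (w.map gen).prod := by
    intro w
    induction w with
    | nil => intro M; simp
    | cons b w ih =>
      intro M
      cases b
      · simp only [List.map_cons, List.prod_cons, gen, Bool.false_eq_true, if_false, ← mul_assoc]
        rw [← hρA]; exact ih (M * matA)
      · simp only [List.map_cons, List.prod_cons, gen, if_true, ← mul_assoc]
        rw [← hρB]; exact ih (M * matB)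
  let ρ : Mat3 →* ↥M24 := MonoidHom.mk' (fun M => el k (look M)) fun M N => by
    have h1 := hword (wordOf N) M
    have h2 := hword (wordOf N) 1
    rw [(k_word N).1] at h1 h2
    rw [one_mul, hρ1, one_mul] at h2
    rw [h1, h2]
  have hρinj : Function.Injective ρ := by
    rw [injective_iff_map_eq_one]
    intro M hM
    by_contra h
    have := el_inj k (look_mem M).1 ok_idl (look_mem M).2.1 hleni (hM.trans (el_idl k).symm)
    rw [((k_word M).2.2.2 h).1] at this
    exact Bool.false_ne_true this
  have hρeq : ∀ M, ρ M = ((wordOf M).map gen).prod := fun M => by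
    have h2 := hword (wordOf M) 1
    rw [(k_word M).1, one_mul, hρ1, one_mul] at h2
    exact h2
  have hρmem : ∀ (M : Mat3) (H : Subgroup ↥M24), el k genA ∈ H → el k genB ∈ H → ρ M ∈ H := by
    intro M H hA hB
    rw [hρeq]
    refine list_prod_mem fun x hx => ?_
    obtain ⟨b, -, rfl⟩ := List.mem_map.mp hx
    cases b
    · exact hA
    · exact hB
  have hρC : ∀ M, ρ M ∈ C := fun M => hρmem M C (hgcomm _ (by simp)) (hgcomm _ (by simp))
  have hQK : ∀ M, ρ M ∈ Q0 k → M = 1 := by
    intro M hM
    by_contra h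
    obtain ⟨q, hq, e⟩ := exists_q k hM
    have hs := el_inj k (ok_q hq) (look_mem M).1 (hlen hq) (look_mem M).2.1 e
    have : memP qlist (look M) = true := List.any_eq_true.mpr ⟨q, hq, hs⟩
    rw [((k_word M).2.2.2 h).2] at this
    exact Bool.false_ne_true this
  -- normality
  have hnormgen : ∀ a ∈ [genA, genB], el k a ∈ Subgroup.normalizer (Q0 k : Set ↥M24) := by
    intro a ha
    have hok : OK a := by
      rcases List.mem_cons.mp ha with rfl | h
      · exact ok_genA
      · rw [List.mem_singleton.mp h]; exact ok_genB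
    set s := el k a
    have hsub : (Q0 k).map (MulAut.conj s).toMonoidHom ≤ Q0 k := by
      rw [Q0, MonoidHom.map_closure, Subgroup.closure_le]
      rintro _ ⟨_, ⟨g, hg, rfl⟩, rfl⟩
      have h := List.all_eq_true.mp (List.all_eq_true.mp q_norm a ha) g hg
      obtain ⟨q, hq, h⟩ := List.any_eq_true.mp h
      have e := (el_eq22 k hok (ok_qg hg) (ok_q hq) hok).mp h
      show s * el k g * s⁻¹ ∈ Q0 k
      rw [e, mul_inv_cancel_right]
      exact hQ0mem q hq
    have heq : (Q0 k).map (MulAut.conj s).toMonoidHom = Q0 k :=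
      Subgroup.eq_of_le_of_card_ge hsub (Subgroup.card_map_of_injective (MulAut.conj s).injective).ge
    rw [Subgroup.mem_normalizer_iff]
    intro x
    constructor
    · intro hx; exact hsub ⟨x, hx, rfl⟩
    · intro hx
      rw [← heq] at hx
      obtain ⟨y, hy, e⟩ := hx
      exact (MulAut.conj s).injective e ▸ hy
  have hρN : ∀ M, ρ M ∈ Subgroup.normalizer (Q0 k : Set ↥M24) := fun M =>
    hρmem M _ (hnormgen _ (by simp)) (hnormgen _ (by simp))
  -- orders
  have hcardQ : Nat.card (Q0 k) = 128 := by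
    let f : Fin qlist.length → Q0 k := fun i => ⟨el k (qlist.get i), hQ0mem _ (List.get_mem _ _)⟩
    have hinj : Function.Injective f := fun i j h => by
      have hs := el_inj k (ok_q (List.get_mem _ _)) (ok_q (List.get_mem _ _)) (hlen (List.get_mem _ _))
        (hlen (List.get_mem _ _)) (congrArg Subtype.val h)
      exact Fin.ext ((q_nodup.1.getElem_inj_iff (hi := by simp) (hj := by simp)).mp
        (by simpa using beq_iff_eq.mp hs))
    have hsurj : Function.Surjective f := fun ⟨x, hx⟩ => by
      obtain ⟨q, hq, rfl⟩ := exists_q k hx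
      obtain ⟨i, rfl⟩ := List.get_of_mem hq
      exact ⟨i, rfl⟩
    rw [← Nat.card_eq_of_bijective f ⟨hinj, hsurj⟩, Nat.card_fin, q_nodup.2]
  let F : ↥(Q0 k) × Mat3 → ↥C := fun x => ⟨(x.1 : ↥M24) * ρ x.2, mul_mem (hQ0C x.1.2) (hρC x.2)⟩
  have hFinj : Function.Injective F := by
    rintro ⟨⟨a, ha⟩, M⟩ ⟨⟨b, hb⟩, N⟩ h
    have h' : a * ρ M = b * ρ N := congrArg Subtype.val h
    have e : ρ (M * N⁻¹) = a⁻¹ * b := by
      rw [map_mul, map_inv]
      calc ρ M * (ρ N)⁻¹ = a⁻¹ * (a * ρ M) * (ρ N)⁻¹ := by group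
        _ = _ := by rw [h']; group
    have hMN : M = N := mul_inv_eq_one.mp (hQK _ (e ▸ mul_mem (inv_mem ha) hb))
    subst hMN
    simp [mul_right_cancel h']
  have hFbij : Function.Bijective F := by
    rw [Fintype.bijective_iff_injective_and_card]
    refine ⟨hFinj, le_antisymm (Fintype.card_le_of_injective F hFinj) ?_⟩
    rw [Fintype.card_prod, ← Nat.card_eq_fintype_card, ← Nat.card_eq_fintype_card, hcardQ,
      show Fintype.card Mat3 = 168 by decide +kernel]
    -- fifteen cosets inside the stabiliser of the octad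
    have hfix : ∀ (c : Equiv.Perm GolayPt), c * (z : Equiv.Perm GolayPt) = (z : Equiv.Perm GolayPt) * c →
        c • o = o := by
      intro c hc
      refine OctadStab.stab_of_mem_iff fun x => ?_
      rw [ho, ← hzk]
      simp only [Finset.mem_filter, Finset.mem_univ, true_and]
      have h1 : c ((z : Equiv.Perm GolayPt) x) = (z : Equiv.Perm GolayPt) (c x) :=
        congrArg (fun σ : Equiv.Perm GolayPt => σ x) hc
      rw [← h1]
      exact c.injective.eq_iff
    have hrep : ∀ i : Fin 15, ((el k (cosetReps.getD i []) : ↥M24) : Equiv.Perm GolayPt) • o = o ∧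
        cosetReps.getD i [] ∈ cosetReps := by
      intro i
      have hf := reps_facts
      simp only [Bool.and_eq_true, List.all_eq_true, beq_iff_eq] at hf
      have hmem : cosetReps.getD i [] ∈ cosetReps := by
        rw [List.getD_eq_getElem _ _ (by rw [hf.2]; exact i.2)]; exact List.getElem_mem _
      refine ⟨?_, hmem⟩
      set g := cosetReps.getD i []
      refine Finset.eq_of_subset_of_card_le (fun y hy => ?_) (Finset.card_smul_finset _ o).ge
      rw [smul_finset_eq_image, Finset.mem_image] at hy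
      obtain ⟨x, hx, rfl⟩ := hy
      rw [ho, Finset.mem_filter] at hx ⊢
      refine ⟨Finset.mem_univ _, ?_⟩
      have hx' := hx.2
      simp only [el, Subgroup.coe_mul, Subgroup.coe_inv, Equiv.Perm.mul_apply, val_apply okr,
        val_apply (ok_c hmem), Equiv.Perm.inv_def, Equiv.symm_apply_apply] at hx' ⊢
      have hfix' : toPerm r ((k : Equiv.Perm GolayPt)⁻¹ x) = (k : Equiv.Perm GolayPt)⁻¹ x := by
        conv_rhs => rw [← hx']
        simp
      set y := (k : Equiv.Perm GolayPt)⁻¹ x
      congr 1
      apply ptEquiv.injective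
      apply Fin.ext
      show (idx _).val = (idx _).val
      rw [idx_toPerm (inM24.valid okr), idx_toPerm (inM24.valid (ok_c hmem))]
      have h2 := hf.1 g hmem (idx y).val (List.mem_range.mpr (idx y).isLt)
      simp only [Bool.or_eq_true, Bool.not_eq_true', beq_eq_false_iff_ne, beq_iff_eq] at h2
      refine h2.resolve_left fun h => h ?_
      rw [← idx_toPerm (inM24.valid okr), hfix']
    let J : Fin 15 × ↥C → ↥(OctadStab.stabG o) := fun x =>
      ⟨((el k (cosetReps.getD x.1 []) : ↥M24) : Equiv.Perm GolayPt) * ((x.2 : ↥M24) : Equiv.Perm GolayPt),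
        Subgroup.mem_inf.mpr ⟨mul_mem (el k _).2 (x.2 : ↥M24).2, MulAction.mem_stabilizer_iff.mpr (by
          rw [mul_smul, hfix _ (congrArg Subtype.val (hQC.mp x.2.2)), (hrep x.1).1])⟩⟩
    have hJ : Function.Injective J := by
      rintro ⟨i, c⟩ ⟨j, c'⟩ h
      have h' : el k (cosetReps.getD i []) * (c : ↥M24) = el k (cosetReps.getD j []) * (c' : ↥M24) :=
        Subtype.ext (by simpa [J] using congrArg Subtype.val h)
      by_cases hij : i = j
      · subst hij
        simp [Subtype.ext (mul_left_cancel h')]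
      exfalso
      have hconj : el k (cosetReps.getD i []) * z * (el k (cosetReps.getD i []))⁻¹ =
          el k (cosetReps.getD j []) * z * (el k (cosetReps.getD j []))⁻¹ := by
        set a := el k (cosetReps.getD i [])
        set b := el k (cosetReps.getD j [])
        calc a * z * a⁻¹ = a * ((c : ↥M24) * z * (c : ↥M24)⁻¹) * a⁻¹ := by
              rw [hQC.mp c.2, mul_inv_cancel_right]
          _ = (a * c) * z * (a * c)⁻¹ := by group
          _ = (b * c') * z * (b * c')⁻¹ := by rw [h']
          _ = b * ((c' : ↥M24) * z * (c' : ↥M24)⁻¹) * b⁻¹ := by group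
          _ = b * z * b⁻¹ := by rw [hQC.mp c'.2, mul_inv_cancel_right]
      have hd := List.all_eq_true.mp (List.all_eq_true.mp reps_distinct i.val (List.mem_range.mpr i.2))
        j.val (List.mem_range.mpr j.2)
      simp only [Bool.or_eq_true, beq_iff_eq, List.any_eq_true, List.mem_range, Bool.and_eq_true,
        bne_iff_ne] at hd
      rcases hd with hd | ⟨x, hx, y, hy, hxy, hne⟩
      · exact hij (Fin.ext hd)
      set g := cosetReps.getD i []
      set g' := cosetReps.getD j []
      have okg : OK g := ok_c (hrep i).2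
      have okg' : OK g' := ok_c (hrep j).2
      have hg : validList g = true := inM24.valid okg
      have hg' : validList g' = true := inM24.valid okg'
      have hconj' : rho g * rho r * (rho g)⁻¹ = rho g' * rho r * (rho g')⁻¹ := by
        rw [hzk] at hconj
        simp only [el, mul_inv_rev, inv_inv, mul_assoc, inv_mul_cancel_left, mul_left_cancel_iff] at hconj
        simp only [← mul_assoc] at hconj
        exact mul_right_cancel hconj
      have hp : toPerm g * toPerm r * (toPerm g)⁻¹ = toPerm g' * toPerm r * (toPerm g')⁻¹ := by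
        have := congrArg Subtype.val hconj'
        simpa only [Subgroup.coe_mul, Subgroup.coe_inv, val_apply okg,
          val_apply okg', val_apply okr] using this
      have hpt : toPerm g (pt ⟨x, hx⟩) = toPerm g' (pt ⟨y, hy⟩) := by
        apply ptEquiv.injective
        apply Fin.ext
        show (idx _).val = (idx _).val
        rw [idx_toPerm hg, idx_toPerm hg', idx_pt, idx_pt, hxy]
      have h3 := congrArg (fun σ : Equiv.Perm GolayPt => (idx (σ (toPerm g (pt ⟨x, hx⟩)))).val) hp
      simp only [Equiv.Perm.mul_apply, Equiv.Perm.inv_def, Equiv.symm_apply_apply] at h3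
      rw [hpt, Equiv.symm_apply_apply] at h3
      simp only [idx_toPerm hg, idx_toPerm hg', idx_toPerm (inM24.valid okr), idx_pt] at h3
      exact hne h3
    have hle := Nat.card_le_card_of_injective J hJ
    rw [Nat.card_prod, Nat.card_fin, OctadStab.card_stabG hoct] at hle
    omega
  have hdecC : ∀ x ∈ C, ∃ q ∈ Q0 k, ∃ M, x = q * ρ M := fun x hx => by
    obtain ⟨⟨⟨q, hq⟩, M⟩, h⟩ := hFbij.2 ⟨x, hx⟩
    exact ⟨q, hq, M, (congrArg Subtype.val h).symm⟩
  have hCN : C ≤ Subgroup.normalizer (Q0 k : Set ↥M24) := fun x hx => by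
    obtain ⟨q, hq, M, rfl⟩ := hdecC x hx
    exact mul_mem (Subgroup.le_normalizer hq) (hρN M)
  -- the 2-core
  have hQeq : Q = Q0 k := by
    have : Fact (Nat.Prime 2) := ⟨Nat.prime_two⟩
    have hnormal : ((Q0 k).subgroupOf C).Normal := Subgroup.normal_subgroupOf_of_le_normalizer hCN
    have hQ2 : IsPGroup 2 ((Q0 k).subgroupOf C) := IsPGroup.of_card (n := 7) (by
      rw [Nat.card_congr (Subgroup.subgroupOfEquivOfLe hQ0C).toEquiv, hcardQ]; norm_num)
    rw [hQ]
    refine le_antisymm ?_ fun x hx =>
      ⟨⟨x, hQ0C hx⟩, PSolvable.le_pCore (hN := hnormal) hQ2 (show (⟨x, hQ0C hx⟩ : ↥C) ∈ _ from hx), rfl⟩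
    rintro _ ⟨⟨x, hx⟩, hxP, rfl⟩
    obtain ⟨q, hq, M, rfl⟩ := hdecC x hx
    let ρC : Mat3 →* ↥C := ρ.codRestrict C hρC
    set N : Subgroup Mat3 := (Cfsg.pCore 2 ↥C).comap ρC
    have hN2 : IsPGroup 2 N := (PSolvable.pCore_isPGroup (p := 2)).comap_of_injective ρC
      (fun a b h => hρinj (congrArg Subtype.val h))
    have hbij : Function.Bijective (Matrix.SpecialLinearGroup.toGL (n := Fin 3) (R := ZMod 2)) := by
      constructor
      · exact fun a b h => Subtype.ext (congrArg Units.val h)
      · intro g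
        refine ⟨⟨g, ?_⟩, Units.ext rfl⟩
        have hu := (Matrix.isUnit_iff_isUnit_det _).mp g.isUnit
        revert hu
        generalize (g : Matrix (Fin 3) (Fin 3) (ZMod 2)).det = d
        intro hu
        have h01 := zmod2_cases
        rcases h01 d with rfl | rfl
        · simp at hu
        · rfl
    let e3 : Mat3 ≃* GL (Fin 3) (ZMod 2) := MulEquiv.ofBijective _ hbij
    have hN0 : N = ⊥ := by
      have hn : (N.map e3.toMonoidHom).Normal := (inferInstance : N.Normal).map _ e3.surjective
      have h := LargeES.Heisenberg.eq_bot_of_normal_two (N.map e3.toMonoidHom) (hN2.map _)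
      exact (Subgroup.map_eq_bot_iff_of_injective _ e3.injective).mp h
    have hMN : M ∈ N := by
      have h1 : (⟨q, hQ0C hq⟩ : ↥C) ∈ Cfsg.pCore 2 ↥C :=
        PSolvable.le_pCore (hN := hnormal) hQ2 (show (⟨q, hQ0C hq⟩ : ↥C) ∈ _ from hq)
      have e : ρC M = (⟨q, hQ0C hq⟩ : ↥C)⁻¹ * ⟨q * ρ M, hx⟩ :=
        Subtype.ext (inv_mul_cancel_left q (ρ M)).symm
      show ρC M ∈ Cfsg.pCore 2 ↥C
      rw [e]
      exact mul_mem (inv_mem h1) hxP
    rw [hN0, Subgroup.mem_bot] at hMN
    simpa [hMN] using hq
  subst hQeq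
  -- commutators and squares
  have hz1 : z ≠ 1 := by
    intro h
    have := el_inj k okr ok_idl hlenr hleni (hzk.symm.trans (h.trans (el_idl k).symm))
    exact absurd this (by decide +kernel)
  have hzcen : ∀ x ∈ Q0 k, x * z = z * x := fun x hx => hQC.mp (hQ0C hx)
  have hzz : z * z = 1 := by
    rw [hzk, ← el_idl k]
    exact el_same_comp k okr okr ok_idl (by decide +kernel)
  have hfacts : ∀ x ∈ Q0 k, (x * x = 1 ∨ x * x = z) ∧
      (∀ g ∈ qgens, x * el k g = el k g * x ∨ x * el k g = el k g * x * z) ∧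
      (x = 1 ∨ x = z ∨ ∃ g ∈ qgens, x * el k g ≠ el k g * x) := by
    intro x hx
    obtain ⟨q, hq, rfl⟩ := exists_q k hx
    have hf := hqf q hq
    simp only [Bool.or_eq_true, List.any_eq_true, Bool.not_eq_true'] at hf
    obtain ⟨⟨hsq, hg⟩, hc⟩ := hf
    refine ⟨?_, fun g hg' => ?_, ?_⟩
    · rcases hsq with h | h
      · left; rw [← el_idl k]
        exact el_same_comp k (ok_q hq) (ok_q hq) ok_idl (by rw [same, beq_iff_eq] at h ⊢; exact h.symm)
      · right; rw [hzk]
        exact el_same_comp k (ok_q hq) (ok_q hq) okr (by rw [same, beq_iff_eq] at h ⊢; exact h.symm)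
    · have h := hg g hg'
      simp only [nearComm, Bool.or_eq_true] at h
      rcases h with h | h
      · exact Or.inl ((el_eq22 k (ok_q hq) (ok_qg hg') (ok_qg hg') (ok_q hq)).mp h)
      · right
        obtain ⟨u, hu, hue⟩ := exists_q k
          (mul_mem (Subgroup.subset_closure ⟨g, hg', rfl⟩ : el k g ∈ Q0 k) (hQ0mem q hq))
        rw [← hue, hzk, el_mul, el_mul, mul_left_inj, mul_right_inj]
        have hue' : rho u = rho g * rho q := by
          rw [el_mul, el, mul_left_inj, mul_right_inj] at hue
          exact hue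
        rw [hue']
        apply Subtype.ext
        simp only [Subgroup.coe_mul, val_apply (ok_q hq), val_apply (ok_qg hg'), val_apply okr]
        refine Equiv.ext fun p => ptEquiv.injective (Fin.ext ?_)
        show (idx _).val = (idx _).val
        rw [← pt_idx p, two_apply (ok_q hq) (ok_qg hg')]
        simp only [Equiv.Perm.mul_apply, idx_toPerm (inM24.valid (ok_qg hg')),
          idx_toPerm (inM24.valid (ok_q hq)), idx_toPerm (inM24.valid okr), idx_pt]
        rw [pimg_eq h, applyNum_compList _ _ (idx p).isLt, applyNum_compList _ _ (applyNum_lt _ _)]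
    · rcases hc with (h | h) | ⟨g, hg', h⟩
      · left; rw [el_eq_of_same k (ok_q hq) ok_idl h, el_idl]
      · right; left; rw [hzk]; exact el_eq_of_same k (ok_q hq) okr h
      · right; right
        refine ⟨g, hg', fun e => ?_⟩
        rw [(el_eq22 k (ok_q hq) (ok_qg hg') (ok_qg hg') (ok_q hq)).mpr e] at h
        exact Bool.false_ne_true h.symm
  have hcomm : ∀ x ∈ Q0 k, ∀ y ∈ Q0 k, x * y = y * x ∨ x * y = y * x * z := by
    intro x hx y hy
    induction hy using Subgroup.closure_induction with
    | mem y hy => obtain ⟨g, hg, rfl⟩ := hy; exact (hfacts x hx).2.1 g hg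
    | one => left; simp
    | mul a b ha hb iha ihb =>
      rcases iha with e | e <;> rcases ihb with f | f
      · left; rw [← mul_assoc, e, mul_assoc, f, ← mul_assoc]
      · right; rw [← mul_assoc, e, mul_assoc, f]; simp [mul_assoc]
      · right
        rw [← mul_assoc, e]
        calc a * x * z * b = a * (x * b) * z := by
              rw [mul_assoc (a * x), ← hzcen b hb, ← mul_assoc, mul_assoc a x b]
          _ = a * b * x * z := by rw [f]; simp [mul_assoc]
      · left
        rw [← mul_assoc, e]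
        calc a * x * z * b = a * (x * b) * z := by
              rw [mul_assoc (a * x), ← hzcen b hb, ← mul_assoc, mul_assoc a x b]
          _ = a * (b * x * z) * z := by rw [f]
          _ = a * b * x := by simp [mul_assoc, hzz]
    | inv a ha iha =>
      rcases iha with e | e
      · left; exact (Commute.inv_right e).eq
      · right
        calc x * a⁻¹ = a⁻¹ * (a * x) * a⁻¹ := by group
          _ = a⁻¹ * (a * x * z * z) * a⁻¹ := by rw [mul_assoc (a * x), hzz, mul_one]
          _ = a⁻¹ * (x * a * z) * a⁻¹ := by rw [← e]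
          _ = a⁻¹ * (x * (a * z)) * a⁻¹ := by group
          _ = a⁻¹ * (x * (z * a)) * a⁻¹ := by rw [hzcen a ha]
          _ = a⁻¹ * x * z := by group
  have hcentral : ∀ x ∈ Q0 k, (∀ y ∈ Q0 k, x * y = y * x) → x = 1 ∨ x = z := fun x hx hall => by
    rcases (hfacts x hx).2.2 with h | h | ⟨g, hg, h⟩
    · exact Or.inl h
    · exact Or.inr h
    · exact absurd (hall _ (Subgroup.subset_closure ⟨g, hg, rfl⟩)) h
  have hQp : IsPGroup 2 ↥(Q0 k) := IsPGroup.of_card (n := 7) (by rw [hcardQ]; norm_num)
  have hmemcen : ∀ x : ↥(Q0 k), x ∈ Subgroup.center ↥(Q0 k) ↔ (x : ↥M24) = 1 ∨ (x : ↥M24) = z := by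
    intro x
    refine ⟨fun h => hcentral x x.2 fun y hy =>
      (congrArg Subtype.val (Subgroup.mem_center_iff.mp h ⟨y, hy⟩)).symm, fun h => ?_⟩
    rw [Subgroup.mem_center_iff]
    intro y
    apply Subtype.ext
    rcases h with e | e <;> simp [e, hzcen y y.2]
  obtain ⟨g₀, hg₀, hne⟩ : ∃ g ∈ qgens, ∃ g' ∈ qgens, el k g * el k g' ≠ el k g' * el k g := by
    have h : qgens.any (fun g => qgens.any fun g' => !eq22 g g' g' g) = true := by decide +kernel
    simp only [List.any_eq_true, Bool.not_eq_true'] at h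
    obtain ⟨g, hg, g', hg', h⟩ := h
    refine ⟨g, hg, g', hg', fun e => ?_⟩
    rw [(el_eq22 k (ok_qg hg) (ok_qg hg') (ok_qg hg') (ok_qg hg)).mpr e] at h
    exact Bool.false_ne_true h.symm
  obtain ⟨g₁, hg₁, hne⟩ := hne
  have hQE : Cfsg.IsExtraspecial 2 ↥(Q0 k) := by
    refine LargeES.Heisenberg.isExtraspecial_of_props hQp (z := ⟨z, hzQ⟩)
      (fun e => hz1 (congrArg Subtype.val e)) ((hmemcen _).mpr (Or.inr rfl))
      (fun x hx => ((hmemcen x).mp hx).imp (fun e => Subtype.ext e) (fun e => Subtype.ext e))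
      (fun x => (hmemcen _).mpr ?_) (fun x y => (hmemcen _).mpr ?_)
      (x := ⟨el k g₀, Subgroup.subset_closure ⟨g₀, hg₀, rfl⟩⟩)
      (y := ⟨el k g₁, Subgroup.subset_closure ⟨g₁, hg₁, rfl⟩⟩) (fun e => hne (congrArg Subtype.val e))
    · rw [Subgroup.coe_pow, pow_two]; exact (hfacts x x.2).1
    · show (x : ↥M24) * y * (x : ↥M24)⁻¹ * (y : ↥M24)⁻¹ = 1 ∨ _
      rcases hcomm x x.2 y y.2 with e | e
      · left; rw [e]; group
      · right
        rw [Subgroup.coe_mul, Subgroup.coe_mul, Subgroup.coe_mul, Subgroup.coe_inv, Subgroup.coe_inv, e,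
          mul_assoc ((y : ↥M24) * x) z, ← hzcen _ (inv_mem x.2)]
        simp only [mul_assoc, mul_inv_cancel_left]
        rw [← hzcen _ (inv_mem y.2), mul_inv_cancel_left]
  have hmapcen : (Subgroup.center ↥(Q0 k)).map (Q0 k).subtype = Subgroup.zpowers z := by
    refine le_antisymm ?_ (Subgroup.zpowers_le.mpr ⟨⟨z, hzQ⟩, (hmemcen _).mpr (Or.inr rfl), rfl⟩)
    rintro _ ⟨x, hx, rfl⟩
    rcases (hmemcen x).mp hx with e | e <;> rw [Subgroup.subtype_apply, e]
    exacts [one_mem _, Subgroup.mem_zpowers z]
  have hzpow : ∀ {x}, x ∈ Subgroup.zpowers z → x = 1 ∨ x = z := by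
    intro x hx
    rw [← hmapcen] at hx
    obtain ⟨y, hy, rfl⟩ := hx
    exact (hmemcen y).mp hy
  -- self-centralising
  have hcq : Subgroup.centralizer (Q0 k : Set ↥M24) = (Subgroup.center ↥(Q0 k)).map (Q0 k).subtype := by
    refine le_antisymm (fun x hx => ?_) fun x hx => ?_
    · have hxC : x ∈ C := hQC.mpr (Subgroup.mem_centralizer_iff.mp hx z hzQ).symm
      obtain ⟨q, hq, M, rfl⟩ := hdecC x hxC
      have hM : M = 1 := by
        by_contra h
        obtain ⟨-, -, w, hw⟩ := look_mem M
        have ho' := List.all_eq_true.mp k_outer _ hw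
        simp only [((k_word M).2.2.2 h).1, Bool.false_or, List.any_eq_true, Bool.not_eq_true'] at ho'
        obtain ⟨g, hg, hng⟩ := ho'
        have hgQ : el k g ∈ Q0 k := Subgroup.subset_closure ⟨g, hg, rfl⟩
        have hc := Subgroup.mem_centralizer_iff.mp hx _ hgQ
        simp only [nearComm, Bool.or_eq_false_iff] at hng
        rcases hcomm q hq _ hgQ with e | e
        · have hρg : ρ M * el k g = el k g * ρ M := by
            have h2 : q * (ρ M * el k g) = q * (el k g * ρ M) := by
              rw [← mul_assoc, ← hc, ← mul_assoc, ← mul_assoc, e]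
            exact mul_left_cancel h2
          rw [(el_eq22 k (look_mem M).1 (ok_qg hg) (ok_qg hg) (look_mem M).1).mpr hρg] at hng
          simp at hng
        · have e' : el k g * q = q * el k g * z := by
            rw [e, mul_assoc (el k g * q), hzz, mul_one]
          have hρg : ρ M * el k g = el k g * ρ M * z := by
            have h2 : q * (ρ M * el k g) = q * (el k g * ρ M * z) := by
              calc q * (ρ M * el k g) = el k g * q * ρ M := by rw [← mul_assoc, ← hc, mul_assoc]
                _ = q * el k g * (z * ρ M) := by rw [e']; simp [mul_assoc]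
                _ = _ := by rw [← hQC.mp (hρC M)]; simp [mul_assoc]
            exact mul_left_cancel h2
          refine Bool.false_ne_true (hng.2.symm.trans (beq_iff_eq.mpr ?_))
          refine Classes.pack_congr (compList_length _ _) (compList_length _ _) fun i hi => ?_
          rw [hzk] at hρg
          have h3 : rho (look M) * rho g = rho g * rho (look M) * rho r := by
            simp only [el, MonoidHom.mk'_apply, ρ] at hρg
            simp only [mul_assoc, inv_mul_cancel_left, mul_left_cancel_iff] at hρg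
            simp only [← mul_assoc] at hρg
            exact mul_right_cancel hρg
          have h4 := congrArg (fun u : ↥M24 => (idx ((u : Equiv.Perm GolayPt) (pt ⟨i, hi⟩))).val) h3
          simp only [Subgroup.coe_mul, Equiv.Perm.mul_apply, val_apply (ok_qg hg),
            val_apply (look_mem M).1, val_apply okr, idx_toPerm (inM24.valid (ok_qg hg)),
            idx_toPerm (inM24.valid (look_mem M).1), idx_toPerm (inM24.valid okr), idx_pt] at h4
          rw [applyNum_compList _ _ hi, applyNum_compList _ _ hi,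
            applyNum_compList _ _ (applyNum_lt _ _)]
          exact h4
      subst hM
      rw [map_one, mul_one] at hx ⊢
      rw [hmapcen]
      rcases hcentral q hq (fun y hy => (Subgroup.mem_centralizer_iff.mp hx y hy).symm) with e | e <;>
        rw [e]
      exacts [one_mem _, Subgroup.mem_zpowers z]
    · exact Subgroup.mem_centralizer_iff.mpr fun y hy => (LargeES.centre_commute hx hy).symm.eq
  have hnorm : Subgroup.centralizer (((Subgroup.center ↥(Q0 k)).map (Q0 k).subtype : Subgroup ↥M24) : Set ↥M24)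
      ≤ Subgroup.normalizer (Q0 k : Set ↥M24) := fun x hx => by
    refine hCN (hQC.mpr ?_)
    rw [hmapcen] at hx
    exact (Subgroup.mem_centralizer_iff.mp hx z (Subgroup.mem_zpowers z)).symm
  refine ⟨hQE, by rw [hcardQ]; norm_num, ?_, ⟨hQE, hcq, hnorm, fun H hH hQH => ?_⟩, ?_⟩
  · -- elementary abelian subgroup
    let E : Subgroup ↥M24 := Subgroup.closure {x | ∃ g ∈ egens, el k g = x}
    have hexE : ∀ x ∈ E, ∃ q ∈ elist, el k q = x :=
      closure_eq k (fun q hq => ok_e hq) (fun g hg => ok_eg hg) he1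
        (List.all_eq_true.mpr hegm) (List.all_eq_true.mpr fun q hq => List.all_eq_true.mpr (hestep q hq))
    have hcomE : ∀ x ∈ {x | ∃ g ∈ egens, el k g = x}, ∀ y ∈ {x | ∃ g ∈ egens, el k g = x},
        x * y = y * x := by
      rintro _ ⟨g, hg, rfl⟩ _ ⟨h, hh, rfl⟩
      exact (el_eq22 k (ok_eg hg) (ok_eg hh) (ok_eg hh) (ok_eg hg)).mp ((hecomm g hg).2 h hh)
    have hab : IsMulCommutative E := Subgroup.isMulCommutative_closure hcomE
    refine ⟨E, ?_, ⟨hab, fun x hx => ?_⟩, ?_⟩
    · intro x hx
      obtain ⟨q, hq, rfl⟩ := hexE x hx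
      exact hQ0mem' (ok_e hq) (heq q hq)
    · induction hx using Subgroup.closure_induction with
      | mem y hy =>
        obtain ⟨g, hg, rfl⟩ := hy
        rw [pow_two, ← el_idl k]
        exact el_same_comp k (ok_eg hg) (ok_eg hg) ok_idl
          (by have := (hecomm g hg).1; rw [same, beq_iff_eq] at this ⊢; exact this.symm)
      | one => exact one_pow 2
      | mul a b ha hb iha ihb =>
        have hc : Commute a b := congrArg Subtype.val (hab.is_comm.comm (⟨a, ha⟩ : E) ⟨b, hb⟩)
        rw [hc.mul_pow, iha, ihb, one_mul]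
      | inv a ha iha => rw [inv_pow, iha, inv_one]
    · let f : Fin elist.length → E := fun i => ⟨el k (elist.get i),
        mem_closure_of_grown k (fun q hq => ok_e hq) (fun g hg => ok_eg hg) e_grown _ (List.get_mem _ _)⟩
      have hinj : Function.Injective f := fun i j h => by
        have hs := el_inj k (ok_e (List.get_mem _ _)) (ok_e (List.get_mem _ _))
          (hlene (List.get_mem _ _)) (hlene (List.get_mem _ _)) (congrArg Subtype.val h)
        exact Fin.ext ((e_nodup.1.getElem_inj_iff (hi := by simp) (hj := by simp)).mp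
          (by simpa using beq_iff_eq.mp hs))
      have hsurj : Function.Surjective f := fun ⟨x, hx⟩ => by
        obtain ⟨q, hq, rfl⟩ := hexE x hx
        obtain ⟨i, rfl⟩ := List.get_of_mem hq
        exact ⟨i, rfl⟩
      rw [← Nat.card_eq_of_bijective f ⟨hinj, hsurj⟩, Nat.card_fin, e_nodup.2]; norm_num
  · -- no odd signalizer
    have hm := move_facts
    simp only [Bool.and_eq_true, List.any_eq_true, Bool.not_eq_true'] at hm
    obtain ⟨⟨⟨q₁, hq₁, h₁⟩, q₂, hq₂, h₂⟩, h₃⟩ := hm
    set w := el k moveElt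
    set b := w * z * w⁻¹ with hb
    have hbQ : b ∈ Q0 k := by
      have e := (el_eq22 k ok_move okr (ok_q hq₁) ok_move).mp h₁
      rw [hb, hzk, e, mul_inv_cancel_right]
      exact hQ0mem q₁ hq₁
    have hzq : z = w * el k q₂ * w⁻¹ := by
      have e := (el_eq22 k okr ok_move ok_move (ok_q hq₂)).mp h₂
      rw [hzk, eq_mul_inv_iff_mul_eq]
      exact e
    refine LargeES.eq_bot_of_centre_le hQE hcq hnorm hH hQH hbQ ?_
      (by rw [hb, show w * z * w⁻¹ * (w * z * w⁻¹) = w * (z * z) * w⁻¹ by group, hzz]; group)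
      (P := (Q0 k).map (MulAut.conj w).toMonoidHom) (hQp.map _) ?_ ?_
    · rw [hmapcen]
      intro h
      rcases hzpow h with e | e
      · rw [hb, conj_eq_one_iff] at e
        exact hz1 e
      · rw [hb, mul_inv_eq_iff_eq_mul, hzk] at e
        rw [(el_eq22 k ok_move okr okr ok_move).mpr e] at h₃
        exact Bool.false_ne_true h₃.symm
    · rintro x hx _ ⟨p, hp, rfl⟩
      have hy : w⁻¹ * x * w ∈ C := by
        rw [hQC]
        have hxb : x * b = b * x := Subgroup.mem_centralizer_singleton_iff.mp hx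
        calc w⁻¹ * x * w * z = w⁻¹ * (x * b) * w := by rw [hb]; group
          _ = w⁻¹ * (b * x) * w := by rw [hxb]
          _ = _ := by rw [hb]; group
      exact ⟨_, (Subgroup.mem_normalizer_iff.mp (hCN hy) p).mp hp, by simp [mul_assoc]⟩
    · intro x hx
      rw [hmapcen] at hx
      rcases hzpow hx with rfl | rfl
      · exact one_mem _
      · exact ⟨el k q₂, hQ0mem q₂ hq₂, hzq.symm⟩
  · -- the complement
    refine ⟨ρ.range, ?_, ?_, ?_, ⟨(MonoidHom.ofInjective hρinj).symm⟩⟩
    · rintro _ ⟨M, rfl⟩; exact hρC M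
    · rw [Subgroup.eq_bot_iff_forall]
      rintro _ ⟨hx, M, rfl⟩
      rw [hQK M hx, map_one]
    · refine le_antisymm (sup_le hQ0C ?_) fun x hx => ?_
      · rintro _ ⟨M, rfl⟩; exact hρC M
      · obtain ⟨q, hq, M, rfl⟩ := hdecC x hx
        exact Subgroup.mul_mem_sup hq ⟨M, rfl⟩

/-- In the Mathieu group of degree 24 (the automorphism group of the length-24 binary Golay code, acting on the 24 coordinates), let z be an involution whose fixed points form an octad (the support of a code word of weight 8), and let Q be the largest normal 2-subgroup of the centralizer C of z. Then Q is extraspecial of order 2^7 with an elementary abelian subgroup of order 16 (plus type), Q is a large extraspecial 2-subgroup, and C is the split extension of Q by the special linear group of degree 3 over the field with two elements. -/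
theorem result (z : ↥Cfsg.M24) (hz : orderOf z = 2) (hfix : (Finset.univ.filter fun p : Cfsg.GolayPt => (z : Equiv.Perm Cfsg.GolayPt) p = p) ∈ Cfsg.octads) (Q : Subgroup ↥Cfsg.M24) (hQ : Q = (Cfsg.pCore 2 ↥(Subgroup.centralizer ({z} : Set ↥Cfsg.M24))).map (Subgroup.centralizer ({z} : Set ↥Cfsg.M24)).subtype) : Cfsg.IsExtraspecial 2 ↥Q ∧ Nat.card ↥Q = 2 ^ 7 ∧ (∃ E : Subgroup ↥Cfsg.M24, E ≤ Q ∧ Cfsg.IsElementaryAbelian 2 E ∧ Nat.card ↥E = 2 ^ 4) ∧ Cfsg.IsLargeExtraspecial Q ∧ ∃ K : Subgroup ↥Cfsg.M24, K ≤ Subgroup.centralizer ({z} : Set ↥Cfsg.M24) ∧ Q ⊓ K = ⊥ ∧ Q ⊔ K = Subgroup.centralizer ({z} : Set ↥Cfsg.M24) ∧ Nonempty (↥K ≃* Matrix.SpecialLinearGroup (Fin 3) (ZMod 2)) := by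
  obtain ⟨r, hr, k, hk, e⟩ := Lib.Golay.Classes.classify_two z.2 (by rw [Subgroup.orderOf_coe, hz])
  simp only [List.mem_cons, List.not_mem_nil, or_false] at hr
  rcases hr with rfl | rfl
  · have hzk : z = el ⟨k, hk⟩ ClassData.rep2f8 := by
      apply Subtype.ext
      rw [← e]
      show _ = k * (rho ClassData.rep2f8 : Equiv.Perm GolayPt) * k⁻¹
      rw [val_apply ok_rep]
    exact main ⟨k, hk⟩ _ (by rw [← hzk]) hfix z hzk Q hQ
  · exfalso
    have h8 := (mem_octads_iff.mp hfix).2
    have hnofix : ∀ p, toPerm ClassData.rep2f0 p ≠ p := by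
      have v := Classes.reps_valid
      have hf := Classes.fixNum_reps
      simp only [List.all_cons, Bool.and_eq_true] at v
      refine Classes.fixCount_eq_zero.1 ?_
      rw [Classes.fixCount_toPerm (inM24.valid v.2.1), hf.2.1]
    rw [Finset.filter_eq_empty_iff.mpr fun p _ => ?_, Finset.card_empty] at h8
    · exact absurd h8 (by norm_num)
    · rw [← e]
      intro h
      refine hnofix (k⁻¹ p) (k.injective ?_)
      simpa using h

end Cfsg.Agent.S5425
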