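import Cfsg.Statements.S5426
import Mathlib
import Cfsg.Agent.Lib.LargeES.Basic
import Cfsg.Agent.Lib.ExtraTwo.Pair
import Cfsg.Agent.Lib.Components.GenFitting
import Cfsg.Agent.Lib.PSolvable.Core
import Cfsg.Agent.Lib.Core.Nilpotent
import Cfsg.Agent.Lib.PReduced.SylowInf
import Cfsg.Agent.Lib.Involution.ThompsonTransfer

set_option autoImplicit false
open Cfsg

namespace Cfsg.Agent.S5426

open Cfsg.Agent.Lib

variable {G : Type*} [Group G]

theorem eq_of_mul_eq_mul {L : Subgroup G}
    (hL : ∀ l ∈ L, l ∈ Subgroup.centralizer (L : Set G) → l = 1) {l l' r r' : G} (hl : l ∈ L)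
    (hl' : l' ∈ L) (hr : r ∈ Subgroup.centralizer (L : Set G))
    (hr' : r' ∈ Subgroup.centralizer (L : Set G)) (h : l * r = l' * r') : l = l' := by
  refine (inv_mul_eq_one.mp (hL (l'⁻¹ * l) (mul_mem (inv_mem hl') hl) ?_)).symm
  have : l'⁻¹ * l = r' * r⁻¹ := by
    calc l'⁻¹ * l = l'⁻¹ * (l * r) * r⁻¹ := by group
      _ = _ := by rw [h]; group
  rw [this]
  exact mul_mem hr' (inv_mem hr)

/-- Let Q be a large extraspecial 2-subgroup of the finite group G (extraspecial; centralizer equal to its centre; normal in the centralizer of its centre; normalizing no non-trivial subgroup of odd order) with centre generated by z, and let M be the normal closure of z in G. Then one of the following holds: Q is normal in G; or M is abelian and the generalized Fitting subgroup of G is its largest normal 2-subgroup; or M is the generalized Fitting subgroup of G and is a non-abelian simple group; or M is the generalized Fitting subgroup of G and is the direct product of a non-abelian simple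 subgroup L and its conjugate u L u⁻¹ by some u in Q (the two meet trivially and commute elementwise), with z = z₁ (u z₁ u⁻¹) for some z₁ in L whose centralizer in L is a Sylow 2-subgroup of L with Frattini subgroup inside the subgroup generated by z₁, and Q is not the largest normal 2-subgroup of the centralizer of z. -/
theorem result {G : Type*} [Group G] [Finite G] (Q : Subgroup G) (hQ : Cfsg.IsLargeExtraspecial Q) (z : G) (hz : ((Subgroup.center ↥Q).map Q.subtype) = Subgroup.zpowers z) (M : Subgroup G) (hM : M = Subgroup.normalClosure ({z} : Set G)) : Q.Normal ∨ (IsMulCommutative ↥M ∧ Cfsg.generalizedFittingSubgroup G = Cfsg.pCore 2 G) ∨ (M = Cfsg.generalizedFittingSubgroup G ∧ IsSimpleGroup ↥M ∧ ¬ IsMulCommutative ↥M) ∨ (M = Cfsg.generalizedFittingSubgroup G ∧ ∃ (L : Subgroup G) (u : G), u ∈ Q ∧ IsSimpleGroup ↥L ∧ ¬ IsMulCommutative ↥L ∧ L ⊓ (L).map (MulAut.conj u).toMonoidHom = ⊥ ∧ (∀ x ∈ L, ∀ y ∈ (L).map (MulAut.conj u).toMonoidHom, x * y = y * x) ∧ L ⊔ (L).map (MulAut.conj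 u).toMonoidHom = M ∧ ∃ z₁ ∈ L, z = z₁ * (u * z₁ * u⁻¹) ∧ (∃ R : Sylow 2 ↥L, (R : Subgroup ↥L) = (Subgroup.centralizer ({z₁} : Set G)).subgroupOf L ∧ (frattini ↥(R : Subgroup ↥L)).map ((L.subtype).comp (R : Subgroup ↥L).subtype) ≤ Subgroup.zpowers z₁) ∧ Q ≠ (Cfsg.pCore 2 ↥(Subgroup.centralizer ({z} : Set G))).map (Subgroup.centralizer ({z} : Set G)).subtype) := by
  have : Fact (Nat.Prime 2) := ⟨Nat.prime_two⟩
  have hzo : orderOf z = 2 := by
    rw [← Nat.card_zpowers, ← hz, Subgroup.card_map_of_injective Q.subtype_injective]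
    exact hQ.1.2
  have hgen := ExtraTwo.isCentralGen_of_eq_zpowers hQ.1 hzo hz
  have hgood := ExtraTwo.Pair.good_of_large hQ hgen
  have hz1 := hgood.x_ne
  have hzz := hgood.x_sq
  have hzi : z⁻¹ = z := inv_eq_of_mul_eq_one_right hzz
  have hQ2 : IsPGroup 2 ↥Q := LargeES.isPGroup hQ.1
  have hcentQ : ∀ g : G, (∀ q ∈ Q, Commute g q) → g = 1 ∨ g = z := fun g h =>
    hgood.centre g (hgood.cent g fun q hq => (h q hq).eq) fun q hq => (h q hq).eq
  have hodd : ∀ N : Subgroup G, N.Normal → Odd (Nat.card N) → N = ⊥ := fun N hN h =>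
    hQ.2.2.2 N h fun q _ => by simp [Subgroup.normalizer_eq_top]
  obtain ⟨P, hQP⟩ := hQ2.exists_le_sylow
  have hPc : ∀ g ∈ (P : Subgroup G), (∀ p ∈ (P : Subgroup G), Commute g p) → g = 1 ∨ g = z :=
    fun g _ hall => hcentQ g fun q hq => hall q (hQP hq)
  have : Nontrivial (P : Subgroup G) :=
    ⟨⟨⟨z, hQP hgood.x_mem⟩, 1, fun h => hz1 (congrArg Subtype.val h)⟩⟩
  have hPz : ∀ p ∈ (P : Subgroup G), Commute z p := by
    have := IsPGroup.center_nontrivial P.2
    obtain ⟨c, hc⟩ := exists_ne (1 : Subgroup.center (P : Subgroup G))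
    intro p hp
    have hcz : ((c : (P : Subgroup G)) : G) = z := by
      refine (hPc _ (c : (P : Subgroup G)).2 fun p hp => ?_).resolve_left fun h => hc ?_
      · exact (congrArg Subtype.val (Subgroup.mem_center_iff.mp c.2 ⟨p, hp⟩)).symm
      · exact Subtype.ext (Subtype.ext h)
    exact hcz ▸ (congrArg Subtype.val (Subgroup.mem_center_iff.mp c.2 ⟨p, hp⟩)).symm
  have hPmeet : ∀ H : Subgroup G, (∀ p ∈ (P : Subgroup G), ∀ h ∈ H, p * h * p⁻¹ ∈ H) →
      (∃ x ∈ (P : Subgroup G), x ∈ H ∧ x ≠ 1) → z ∈ H := by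
    rintro H hnorm ⟨x, hxP, hxH, hx1⟩
    have hn : (H.subgroupOf (P : Subgroup G)).Normal := ⟨fun h hh p => hnorm p p.2 h hh⟩
    have : Group.IsNilpotent (P : Subgroup G) := P.2.isNilpotent
    have hne : H.subgroupOf (P : Subgroup G) ≠ ⊥ := fun e => hx1 (by
      have : (⟨x, hxP⟩ : (P : Subgroup G)) ∈ H.subgroupOf (P : Subgroup G) := hxH
      rw [e] at this
      exact congrArg Subtype.val (Subgroup.mem_bot.mp this))
    obtain ⟨⟨n, hnH, hnc⟩, hn1⟩ := Subgroup.ne_bot_iff_exists_ne_one.mp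
      (Nilp.inf_center_ne_bot_of_normal (N := H.subgroupOf (P : Subgroup G)) hne)
    rcases hPc n n.2 (fun p hp => (congrArg Subtype.val (Subgroup.mem_center_iff.mp hnc ⟨p, hp⟩)).symm)
      with e | e
    · exact absurd (Subtype.ext (Subtype.ext e)) hn1
    · exact e ▸ hnH
  have hmin : ∀ N : Subgroup G, N.Normal → N ≠ ⊥ → z ∈ N := by
    intro N hN hne
    refine hPmeet N (fun p _ h hh => hN.conj_mem h hh p) ?_
    by_contra! hno
    refine hne (hodd N hN ?_)
    rw [Nat.odd_iff, ← Nat.not_even_iff, even_iff_two_dvd]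
    intro h2
    have hS := PReduced.isSylowIn_inf_normal P N
    have hbot : (P : Subgroup G) ⊓ N = ⊥ := (Subgroup.eq_bot_iff_forall _).mpr fun x hx => hno x hx.1 hx.2
    rw [hbot] at hS
    exact hS.2.2 (by rwa [Subgroup.relIndex_bot_left])
  have hMn : M.Normal := hM ▸ Subgroup.normalClosure_normal
  have hzM : z ∈ M := hM ▸ Subgroup.subset_normalClosure rfl
  have hMle : ∀ N : Subgroup G, N.Normal → N ≠ ⊥ → M ≤ N := fun N hN hne => by
    rw [hM]; exact Subgroup.normalClosure_le_normal (Set.singleton_subset_iff.mpr (hmin N hN hne))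
  by_cases hab : IsMulCommutative ↥M
  · refine Or.inr (Or.inl ⟨hab, ?_⟩)
    have hMcomm : ∀ a ∈ M, ∀ b ∈ M, Commute a b := fun a ha b hb =>
      congrArg Subtype.val (hab.is_comm.comm (⟨a, ha⟩ : M) ⟨b, hb⟩)
    have hMnil : Group.IsNilpotent M := by
      let _ : CommGroup M :=
        { (inferInstance : Group M) with mul_comm := fun a b => hab.is_comm.comm a b }
      exact CommGroup.isNilpotent
    have hzF : z ∈ fittingSubgroup G := Components.le_fittingSubgroup hMn hMnil hzM
    have hlayer : layer G = ⊥ := by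
      refine le_bot_iff.mp (Components.layer_le_iff.mpr fun L hL => ?_)
      exfalso
      have hLz : ∀ l ∈ L, l * z = z * l := fun l hl =>
        (Subgroup.mem_centralizer_iff.mp (Components.layer_le_centralizer_fittingSubgroup
          (Components.isComponent_le_layer hL hl)) z hzF).symm
      have hLN : L ≤ Subgroup.normalizer (Q : Set G) := fun l hl => by
        rw [Subgroup.mem_normalizer_iff]
        exact fun q => ⟨hgood.norm l (hLz l hl) q, fun h => by
          simpa [mul_assoc] using hgood.norm l⁻¹ (Commute.inv_left (hLz l hl)).eq _ h⟩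
      have : Group.IsNilpotent Q := hQ2.isNilpotent
      have h0 := Components.isComponent_commutator_solvable hL (H := Q) inferInstance hLN
      rw [Subgroup.commutator_eq_bot_iff_le_centralizer, hQ.2.1] at h0
      refine Components.isComponent_not_le_centralizer hL fun l hl => ?_
      rw [Subgroup.mem_centralizer_iff]
      intro k hk
      rcases hgen.all l (h0 hl) with e | e <;> rw [e]
      · simp
      · exact hLz k hk
    have hF : fittingSubgroup G = pCore 2 G := by
      refine le_antisymm ?_ (Components.pCore_le_fittingSubgroup 2)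
      rw [Components.fittingSubgroup_eq_iSup_pCore]
      refine iSup_le fun p => ?_
      have : Fact (p : ℕ).Prime := ⟨Nat.prime_of_mem_primeFactors p.2⟩
      by_cases hp : (p : ℕ) = 2
      · rw [hp]
      · obtain ⟨k, hk⟩ := IsPGroup.iff_card.mp (PSolvable.pCore_isPGroup (p := (p : ℕ)) (G := G))
        rw [hodd (pCore (p : ℕ) G) inferInstance
          (hk ▸ (Nat.Prime.odd_of_ne_two Fact.out hp).pow)]
        exact bot_le
    rw [Cfsg.generalizedFittingSubgroup, hlayer, hF, bot_sup_eq]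
  -- non-abelian `M`
  refine Or.inr (Or.inr ?_)
  have hCM : Subgroup.centralizer (M : Set G) = ⊥ := by
    by_contra hne
    exact hab ⟨⟨fun a b => Subtype.ext
      (Subgroup.mem_centralizer_iff.mp (hMle _ inferInstance hne b.2) a a.2)⟩⟩
  have hFit : fittingSubgroup G = ⊥ := by
    by_contra hne
    have hFn := Components.fittingSubgroup_normal (G := G)
    have hnil := Components.fittingSubgroup_isNilpotent (G := G)
    have htop : (⊤ : Subgroup (fittingSubgroup G)) ≠ ⊥ := by
      intro h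
      refine hne ((Subgroup.eq_bot_iff_forall _).mpr fun x hx => ?_)
      have hm : (⟨x, hx⟩ : fittingSubgroup G) ∈ (⊤ : Subgroup (fittingSubgroup G)) := Subgroup.mem_top _
      rw [h, Subgroup.mem_bot] at hm
      exact congrArg Subtype.val hm
    obtain ⟨⟨⟨n, hnF⟩, hnc⟩, hn1⟩ := Subgroup.ne_bot_iff_exists_ne_one.mp
      (Nilp.inf_center_ne_bot_of_normal (G := fittingSubgroup G) (N := ⊤) htop)
    set Zf := (Subgroup.center (fittingSubgroup G)).map (fittingSubgroup G).subtype with hZf
    have hZn : Zf.Normal := inferInstance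
    have hZne : Zf ≠ ⊥ := fun h => hn1 (by
      have hm : n ∈ Zf := ⟨⟨n, hnF⟩, hnc.2, rfl⟩
      rw [h, Subgroup.mem_bot] at hm
      exact Subtype.ext (Subtype.ext hm))
    refine hab ⟨⟨fun a b => Subtype.ext ?_⟩⟩
    obtain ⟨a', ha', hae⟩ := hMle Zf hZn hZne a.2
    obtain ⟨b', hb', hbe⟩ := hMle Zf hZn hZne b.2
    show (a : G) * b = b * a
    rw [← hae, ← hbe]
    exact (congrArg Subtype.val (Subgroup.mem_center_iff.mp ha' b')).symm
  have hlayer_ne : layer G ≠ ⊥ := by
    intro h
    have hle := Components.centralizer_generalizedFittingSubgroup_le (G := G)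
    rw [Cfsg.generalizedFittingSubgroup, hFit, h, bot_sup_eq] at hle
    exact hz1 (Subgroup.mem_bot.mp (hle (Subgroup.mem_centralizer_iff.mpr (by simp))))
  have hlayer : layer G = M := by
    refine le_antisymm (Components.layer_le_iff.mpr fun L hL => ?_)
      (hMle _ Components.layer_normal hlayer_ne)
    by_contra hLM
    have := Components.isComponent_le_centralizer_of_not_le hL hMn.isSubnormal hLM
    rw [hCM, le_bot_iff] at this
    exact Components.isComponent_ne_bot hL this
  have hFstar : M = Cfsg.generalizedFittingSubgroup G := by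
    rw [Cfsg.generalizedFittingSubgroup, hFit, hlayer, sup_bot_eq]
  have hLM : ∀ L : Subgroup G, IsComponent L → L ≤ M := fun L hL => hlayer ▸ Components.isComponent_le_layer hL
  have hcentral : ∀ x : G, (∀ L : Subgroup G, IsComponent L → x ∈ Subgroup.centralizer (L : Set G)) → x = 1 := by
    intro x hx
    have hle : layer G ≤ Subgroup.centralizer {x} := Components.layer_le_iff.mpr fun L hL l hl =>
      Subgroup.mem_centralizer_singleton_iff.mpr (Subgroup.mem_centralizer_iff.mp (hx L hL) l hl)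
    have : x ∈ Subgroup.centralizer (M : Set G) := Subgroup.mem_centralizer_iff.mpr fun m hm =>
      Subgroup.mem_centralizer_singleton_iff.mp (hle (hlayer ▸ hm))
    rwa [hCM, Subgroup.mem_bot] at this
  have hLZ : ∀ L : Subgroup G, IsComponent L → ∀ l ∈ L, l ∈ Subgroup.centralizer (L : Set G) → l = 1 := by
    intro L hL l hl hlc
    refine hcentral l fun K hK => ?_
    by_cases h : K = L
    · exact h ▸ hlc
    · exact Components.isComponent_le_centralizer hL hK (Ne.symm h) hl
  have hsimp : ∀ L : Subgroup G, IsComponent L → IsSimpleGroup ↥L ∧ ¬ IsMulCommutative ↥L := by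
    intro L hL
    have hc : Subgroup.center ↥L = ⊥ := (Subgroup.eq_bot_iff_forall _).mpr fun l hl => Subtype.ext
      (hLZ L hL l l.2 (Subgroup.mem_centralizer_iff.mpr fun m hm =>
        congrArg Subtype.val (Subgroup.mem_center_iff.mp hl ⟨m, hm⟩)))
    have hs := hL.2.2
    let e : ↥L ≃* ↥L ⧸ Subgroup.center ↥L :=
      (QuotientGroup.quotientBot (G := ↥L)).symm.trans (QuotientGroup.quotientMulEquivOfEq hc.symm)
    refine ⟨e.isSimpleGroup, fun h => Components.isComponent_not_le_centralizer hL fun l hl =>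
      Subgroup.mem_centralizer_iff.mpr fun m hm => ?_⟩
    exact congrArg Subtype.val (h.is_comm.comm (⟨m, hm⟩ : L) ⟨l, hl⟩)
  obtain ⟨L, hL⟩ : ∃ L : Subgroup G, IsComponent L := by
    by_contra! h
    exact hlayer_ne (le_bot_iff.mp (Components.layer_le_iff.mpr fun L hL => absurd hL (h L)))
  by_cases hone : ∀ K : Subgroup G, IsComponent K → K = L
  · left
    have : M = L := le_antisymm (hlayer ▸ Components.layer_le_iff.mpr fun K hK => (hone K hK).le) (hLM L hL)
    subst this
    exact ⟨hFstar, (hsimp _ hL).1, (hsimp _ hL).2⟩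
  refine Or.inr ⟨hFstar, ?_⟩
  push Not at hone
  obtain ⟨K₀, hK₀, hK₀L⟩ := hone
  -- projections
  have hdec : ∀ L : Subgroup G, ∀ x : G, ∃ l : G, (IsComponent L → x ∈ M →
      l ∈ L ∧ ∃ r ∈ Subgroup.centralizer (L : Set G), x = l * r) := by
    intro L x
    by_cases h : IsComponent L ∧ x ∈ M
    · obtain ⟨hL, hx⟩ := h
      have hle : layer G ≤ L ⊔ Subgroup.centralizer (L : Set G) := Components.layer_le_iff.mpr fun K hK => by
        by_cases hKL : K = L
        · exact hKL ▸ le_sup_left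
        · exact (Components.isComponent_le_centralizer hK hL hKL).trans le_sup_right
      have hm := hle (hlayer ▸ hx)
      rw [← SetLike.mem_coe, Subgroup.coe_mul_of_right_le_normalizer_left _ _
        (Components.centralizer_le_normalizer_self L)] at hm
      obtain ⟨l, hl, r, hr, rfl⟩ := hm
      exact ⟨l, fun _ _ => ⟨hl, r, hr, rfl⟩⟩
    · exact ⟨1, fun h1 h2 => absurd ⟨h1, h2⟩ h⟩
  choose π hπ using hdec
  have huniq : ∀ L : Subgroup G, IsComponent L → ∀ x ∈ M, ∀ l ∈ L, ∀ r ∈ Subgroup.centralizer (L : Set G),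
      x = l * r → π L x = l := by
    intro L hL x hx l hl r hr e
    obtain ⟨hl', r', hr', e'⟩ := hπ L x hL hx
    exact eq_of_mul_eq_mul (hLZ L hL) hl' hl hr' hr (e'.symm.trans e)
  have hmemC : ∀ L : Subgroup G, IsComponent L → ∀ x ∈ M, x ∈ Subgroup.centralizer (L : Set G) → π L x = 1 :=
    fun L hL x hx hc => huniq L hL x hx 1 (one_mem L) x hc (one_mul x).symm
  have hof1 : ∀ L : Subgroup G, IsComponent L → ∀ x ∈ M, π L x = 1 → x ∈ Subgroup.centralizer (L : Set G) := by
    intro L hL x hx h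
    obtain ⟨-, r, hr, e⟩ := hπ L x hL hx
    rw [h, one_mul] at e
    exact e ▸ hr
  have hmul : ∀ L : Subgroup G, IsComponent L → ∀ x ∈ M, ∀ y ∈ M, π L (x * y) = π L x * π L y := by
    intro L hL x hx y hy
    obtain ⟨hl, r, hr, e⟩ := hπ L x hL hx
    obtain ⟨hl', r', hr', e'⟩ := hπ L y hL hy
    refine huniq L hL _ (mul_mem hx hy) _ (mul_mem hl hl') (r * r') (mul_mem hr hr') ?_
    calc x * y = π L x * (r * π L y) * r' := by nth_rw 1 [e, e']; simp [mul_assoc]
      _ = π L x * (π L y * r) * r' := by rw [Subgroup.mem_centralizer_iff.mp hr _ hl']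
      _ = π L x * π L y * (r * r') := by simp [mul_assoc]
  have hone' : ∀ L : Subgroup G, IsComponent L → π L 1 = 1 := fun L hL => hmemC L hL 1 (one_mem M) (one_mem _)
  have hsep : ∀ x ∈ M, (∀ L : Subgroup G, IsComponent L → π L x = 1) → x = 1 := fun x hx h =>
    hcentral x fun L hL => hof1 L hL x hx (h L hL)
  have hinv2 : ∀ L : Subgroup G, IsComponent L → π L z * π L z = 1 := fun L hL => by
    rw [← hmul L hL z hzM z hzM, hzz, hone' L hL]
  have hcj : ∀ (g : G) (L : Subgroup G), IsComponent L →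
      IsComponent (L.map (MulAut.conj g).toMonoidHom) := fun g L hL => Components.isComponent_conj hL g
  have hconj : ∀ (g : G) (L : Subgroup G), IsComponent L → ∀ x ∈ M,
      π (L.map (MulAut.conj g).toMonoidHom) (g * x * g⁻¹) = g * π L x * g⁻¹ := by
    intro g L hL x hx
    obtain ⟨hl, r, hr, e⟩ := hπ L x hL hx
    refine huniq _ (hcj g L hL) _ (hMn.conj_mem x hx g) _ ⟨_, hl, rfl⟩ (g * r * g⁻¹) ?_ ?_
    · refine Subgroup.mem_centralizer_iff.mpr ?_
      rintro _ ⟨m, hm, rfl⟩
      exact (Commute.map (Subgroup.mem_centralizer_iff.mp hr m hm) (MulAut.conj g).toMonoidHom).eq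
    · nth_rw 1 [e]; group
  have hzfix : ∀ (g : G) (L : Subgroup G), IsComponent L → g * z = z * g →
      π (L.map (MulAut.conj g).toMonoidHom) z = g * π L z * g⁻¹ := by
    intro g L hL hg
    rw [← hconj g L hL z hzM, hg, mul_inv_cancel_right]
  -- components have even order
  have heven : ∀ L : Subgroup G, IsComponent L → 2 ∣ Nat.card L := by
    intro L hL
    by_contra h2
    refine hz1 (hsep z hzM fun K hK => ?_)
    set S : Set (Subgroup G) := {K | ∃ g : G, K = L.map (MulAut.conj g).toMonoidHom}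
    have hSn : (sSup S).Normal := by
      refine ⟨fun n hn g => ?_⟩
      have hle : sSup S ≤ (sSup S).comap (MulAut.conj g).toMonoidHom := sSup_le fun K hK => by
        obtain ⟨h, rfl⟩ := hK
        rw [← Subgroup.map_le_iff_le_comap, Subgroup.map_map]
        refine le_sSup ⟨g * h, ?_⟩
        congr 1
        ext x; simp [mul_assoc]
      exact hle hn
    have hLS : L ≤ sSup S := le_sSup ⟨1, by ext x; simp⟩
    have hMS := hMle _ hSn fun e => Components.isComponent_ne_bot hL (le_bot_iff.mp (e ▸ hLS))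
    obtain ⟨g, rfl⟩ := Components.isComponent_mem_of_le_sSup (S := S)
      (fun K hK => by obtain ⟨h, rfl⟩ := hK; exact hcj h L hL) hK ((hLM K hK).trans hMS)
    obtain ⟨hl, -⟩ := hπ _ z (hcj g L hL) hzM
    by_contra hne
    have ho : orderOf (⟨_, hl⟩ : L.map (MulAut.conj g).toMonoidHom) = 2 :=
      orderOf_eq_prime (Subtype.ext (by rw [Subgroup.coe_pow, pow_two]; exact hinv2 _ (hcj g L hL)))
        fun e => hne (congrArg Subtype.val e)
    have := ho ▸ orderOf_dvd_natCard (⟨_, hl⟩ : L.map (MulAut.conj g).toMonoidHom)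
    rw [Subgroup.card_map_of_injective (MulAut.conj g).injective] at this
    exact h2 this
  have hSyl : ∀ L : Subgroup G, IsComponent L → Fusion.IsSylowIn 2 ((P : Subgroup G) ⊓ L) L := by
    intro L hL
    have h1 := PReduced.isSylowIn_inf_normal P M
    have h2 := PReduced.isSylowIn_inf h1 (hLM L hL) (hlayer ▸ Components.layer_le_normalizer_component hL)
    rwa [inf_assoc, inf_eq_right.mpr (hLM L hL)] at h2
  -- `z` has no trivial projection
  have hπne : ∀ L : Subgroup G, IsComponent L → π L z ≠ 1 := by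
    intro L₀ hL₀ h0
    set A : Set (Subgroup G) := {K | IsComponent K ∧ π K z = 1}
    have hzA : z ∈ sSup A := by
      refine hPmeet _ (fun p hp h hh => ?_) ?_
      · have hle : sSup A ≤ (sSup A).comap (MulAut.conj p).toMonoidHom := sSup_le fun K hK => by
          rw [← Subgroup.map_le_iff_le_comap]
          refine le_sSup ⟨hcj p K hK.1, ?_⟩
          rw [hzfix p K hK.1 (hPz p hp).symm.eq, hK.2]
          group
        exact hle hh
      · by_contra! hno
        have hS := hSyl L₀ hL₀
        have hbot : (P : Subgroup G) ⊓ L₀ = ⊥ := (Subgroup.eq_bot_iff_forall _).mpr fun x hx =>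
          hno x hx.1 (le_sSup (α := Subgroup G) (show L₀ ∈ A from ⟨hL₀, h0⟩) hx.2)
        rw [hbot] at hS
        exact hS.2.2 (by rw [Subgroup.relIndex_bot_left]; exact heven L₀ hL₀)
    refine hz1 (hsep z hzM fun K hK => ?_)
    by_contra hK1
    have hle : sSup A ≤ Subgroup.centralizer (K : Set G) := sSup_le fun K' hK' =>
      Components.isComponent_le_centralizer hK'.1 hK fun e => hK1 (e ▸ hK'.2)
    exact hK1 (hmemC K hK z hzM (hle hzA))
  -- a member of `Q` moving `L`
  obtain ⟨u, hu, huL⟩ : ∃ u ∈ Q, L.map (MulAut.conj u).toMonoidHom ≠ L := by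
    by_contra! hfix
    obtain ⟨hwL, -⟩ := hπ L z hL hzM
    rcases hcentQ (π L z) fun q hq => by
      have h1 := hzfix q L hL (hgood.le_cent q hq)
      rw [hfix q hq] at h1
      exact (mul_inv_eq_iff_eq_mul.mp h1.symm).symm with e | e
    · exact hπne L hL e
    · refine hπne K₀ hK₀ (hmemC K₀ hK₀ z hzM ?_)
      exact Components.isComponent_le_centralizer hL hK₀ (Ne.symm hK₀L) (e ▸ hwL)
  set L' := L.map (MulAut.conj u).toMonoidHom with hL'def
  have hL' : IsComponent L' := hcj u L hL
  set z₁ := π L z with hz₁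
  have hz₁L : z₁ ∈ L := (hπ L z hL hzM).1
  have huz : π L' z = u * z₁ * u⁻¹ := hzfix u L hL (hgood.le_cent u hu)
  -- centralisers in `L`
  have hcz : ∀ c ∈ L, c * z₁ = z₁ * c → c * z = z * c := by
    intro c hc h
    obtain ⟨-, r, hr, e⟩ := hπ L z hL hzM
    rw [e, ← hz₁]
    calc c * (z₁ * r) = (c * z₁) * r := by group
      _ = z₁ * (c * r) := by rw [h]; group
      _ = _ := by rw [Subgroup.mem_centralizer_iff.mp hr c hc]; group
  have hcz' : ∀ c ∈ L, c * z = z * c → c * z₁ = z₁ * c := by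
    intro c hc h
    have := hmul L hL c (hLM L hL hc) z hzM
    rw [h, hmul L hL z hzM c (hLM L hL hc),
      huniq L hL c (hLM L hL hc) c hc 1 (one_mem _) (mul_one c).symm] at this
    exact this.symm
  have hy : ∀ c ∈ L, c * z₁ = z₁ * c → u * c * u⁻¹ * c⁻¹ ∈ Q ∧ u * c * u⁻¹ * c⁻¹ ∈ M ∧
      π L (u * c * u⁻¹ * c⁻¹) = c⁻¹ ∧ π L' (u * c * u⁻¹ * c⁻¹) = u * c * u⁻¹ ∧
      ∀ E : Subgroup G, IsComponent E → E ≠ L → E ≠ L' → π E (u * c * u⁻¹ * c⁻¹) = 1 := by
    intro c hc h
    have hc' : u * c * u⁻¹ ∈ L' := ⟨c, hc, rfl⟩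
    have hcM : u * c * u⁻¹ * c⁻¹ ∈ M := mul_mem (hLM L' hL' hc') (inv_mem (hLM L hL hc))
    refine ⟨?_, hcM, ?_, ?_, fun E hE h1 h2 => ?_⟩
    · have := hgood.norm c (hcz c hc h) _ (inv_mem hu)
      rw [show u * c * u⁻¹ * c⁻¹ = u * (c * u⁻¹ * c⁻¹) by group]
      exact mul_mem hu this
    · refine huniq L hL _ hcM c⁻¹ (inv_mem hc) _
        (Components.isComponent_le_centralizer hL' hL huL hc') ?_
      exact (Subgroup.mem_centralizer_iff.mp
        (Components.isComponent_le_centralizer hL' hL huL hc') c⁻¹ (inv_mem hc)).symm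
    · exact huniq L' hL' _ hcM _ hc' c⁻¹
        (Components.isComponent_le_centralizer hL hL' (Ne.symm huL) (inv_mem hc)) rfl
    · exact hmemC E hE _ hcM (mul_mem (Components.isComponent_le_centralizer hL' hE (Ne.symm h2) hc')
        (inv_mem (Components.isComponent_le_centralizer hL hE (Ne.symm h1) hc)))
  -- the Sylow subgroup
  set T := (P : Subgroup G) ⊓ L with hT
  have hTS := hSyl L hL
  have hTc : ∀ c ∈ T, c * z₁ = z₁ * c := fun c hc => hcz' c hc.2 (hPz c hc.1).symm.eq
  set C₁ := L ⊓ Subgroup.centralizer ({z₁} : Set G) with hC₁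
  have hC₁2 : IsPGroup 2 C₁ := by
    intro c
    obtain ⟨hc, hc'⟩ := Subgroup.mem_inf.mp c.2
    obtain ⟨hyQ, hyM, hyπ, -, -⟩ := hy c hc (Subgroup.mem_centralizer_singleton_iff.mp hc')
    obtain ⟨k, hk⟩ := hQ2 ⟨_, hyQ⟩
    refine ⟨k, Subtype.ext ?_⟩
    have hpow : ∀ n : ℕ, π L ((u * (c : G) * u⁻¹ * (c : G)⁻¹) ^ n) = (c : G)⁻¹ ^ n := by
      intro n
      induction n with
      | zero => rw [pow_zero, pow_zero, hone' L hL]
      | succ n ih => rw [pow_succ, pow_succ, hmul L hL _ (pow_mem hyM n) _ hyM, ih, hyπ]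
    have hk' : (u * (c : G) * u⁻¹ * (c : G)⁻¹) ^ 2 ^ k = 1 := congrArg Subtype.val hk
    have := hpow (2 ^ k)
    rw [hk', hone' L hL, inv_pow] at this
    simpa using this.symm
  have hTC : T = C₁ := hTS.eq_of_le hC₁2 inf_le_left fun c hc =>
    ⟨hc.2, Subgroup.mem_centralizer_singleton_iff.mpr (hTc c hc)⟩
  obtain ⟨c, hcT, hc1, hcz1⟩ : ∃ c ∈ T, c ≠ 1 ∧ c ≠ z₁ := by
    by_contra! hsmall
    have hsub : T ≤ Subgroup.zpowers z₁ := fun c hc => by
      by_cases h : c = 1
      · rw [h]; exact one_mem _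
      · rw [hsmall c hc h]; exact Subgroup.mem_zpowers z₁
    have hcard : Nat.card T ≤ 2 := by
      refine (Subgroup.card_le_of_le hsub).trans ?_
      rw [Nat.card_zpowers]
      exact orderOf_le_of_pow_eq_one two_pos (by rw [pow_two]; exact hinv2 L hL)
    have hcyc : IsCyclic (hTS.toSylow : Subgroup L) := by
      have hh : Nat.card (hTS.toSylow : Subgroup L) = Nat.card T :=
        Nat.card_congr (Subgroup.subgroupOfEquivOfLe inf_le_right).toEquiv
      have hpos : 0 < Nat.card T := Nat.card_pos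
      rcases (show Nat.card T = 1 ∨ Nat.card T = 2 by omega) with e | e
      · have : Subsingleton (hTS.toSylow : Subgroup L) := (Nat.card_eq_one_iff_unique.mp (hh.trans e)).1
        exact isCyclic_of_subsingleton
      · exact isCyclic_of_prime_card (p := 2) (hh.trans e)
    obtain ⟨H, hHn, hH⟩ := Involution.exists_index_two_of_isCyclic_sylow
      (even_iff_two_dvd.mpr (heven L hL)) hTS.toSylow hcyc
    have := (hsimp L hL).1
    rcases hHn.eq_bot_or_eq_top with e | e
    · rw [e, Subgroup.index_bot] at hH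
      have : IsCyclic L := isCyclic_of_prime_card (p := 2) hH
      exact (hsimp L hL).2 inferInstance
    · rw [e, Subgroup.index_top] at hH; omega
  have hcL : c ∈ L := hcT.2
  obtain ⟨hyQ, hyM, hyL, hyL', hyE⟩ := hy c hcL (hTc c hcT)
  set y := u * c * u⁻¹ * c⁻¹
  have hy1 : y ≠ 1 := fun e => hc1 (by
    rw [e, hone' L hL] at hyL
    exact inv_eq_one.mp hyL.symm)
  have hyz : y ≠ z := fun e => hcz1 (by
    rw [e] at hyL
    calc c = (π L z)⁻¹ := by rw [hyL, inv_inv]
      _ = z₁ := inv_eq_of_mul_eq_one_right (hinv2 L hL))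
  obtain ⟨q, hq, hqy⟩ := hgood.exists_move hyQ hy1 hyz
  have htwo : ∀ E : Subgroup G, IsComponent E → E = L ∨ E = L' := by
    by_contra! hE
    obtain ⟨E₃, hE₃, hE₃L, hE₃L'⟩ := hE
    set a := L.map (MulAut.conj q).toMonoidHom
    set b := L'.map (MulAut.conj q).toMonoidHom
    obtain ⟨e, he, hea, heb⟩ : ∃ e, IsComponent e ∧ e ≠ a ∧ e ≠ b := by
      by_contra! h
      rcases eq_or_ne L a with hLa | hLa
      · rcases eq_or_ne L' a with hL'a | hL'a
        · exact huL (hL'a.trans hLa.symm)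
        · rcases eq_or_ne E₃ a with h3 | h3
          · exact hE₃L (h3.trans hLa.symm)
          · exact hE₃L' ((h E₃ hE₃ h3).trans (h L' hL' hL'a).symm)
      · have hLb := h L hL hLa
        rcases eq_or_ne L' a with hL'a | hL'a
        · rcases eq_or_ne E₃ a with h3 | h3
          · exact hE₃L' (h3.trans hL'a.symm)
          · exact hE₃L ((h E₃ hE₃ h3).trans hLb.symm)
        · exact huL ((h L' hL' hL'a).trans hLb.symm)
    have hqa : π e (q * y * q⁻¹) = 1 := by
      refine hmemC e he _ (hMn.conj_mem y hyM q) ?_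
      have h1 : q * (u * c * u⁻¹) * q⁻¹ ∈ b := ⟨_, ⟨c, hcL, rfl⟩, rfl⟩
      have h2 : q * c * q⁻¹ ∈ a := ⟨c, hcL, rfl⟩
      rw [show q * y * q⁻¹ = (q * (u * c * u⁻¹) * q⁻¹) * (q * c * q⁻¹)⁻¹ by simp [y, mul_assoc]]
      exact mul_mem (Components.isComponent_le_centralizer (hcj q L' hL') he (Ne.symm heb) h1)
        (inv_mem (Components.isComponent_le_centralizer (hcj q L hL) he (Ne.symm hea) h2))
    rw [hqy, hmul e he y hyM z hzM] at hqa
    rcases eq_or_ne e L with rfl | heL
    · rw [hyL, inv_mul_eq_one] at hqa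
      exact hcz1 hqa
    · rcases eq_or_ne e L' with rfl | heL'
      · rw [hyL', huz] at hqa
        have h3 : c * z₁ = 1 := by
          have : u * (c * z₁) * u⁻¹ = 1 := by rw [← hqa]; group
          rwa [conj_eq_one_iff] at this
        exact hcz1 ((eq_inv_of_mul_eq_one_left h3).trans
          (inv_eq_of_mul_eq_one_right (hinv2 L hL)))
      · rw [hyE e he heL heL', one_mul] at hqa
        exact hπne e he hqa
  have hLL' : L ≤ Subgroup.centralizer (L' : Set G) :=
    Components.isComponent_le_centralizer hL hL' (Ne.symm huL)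
  refine ⟨L, u, hu, (hsimp L hL).1, (hsimp L hL).2, (Subgroup.eq_bot_iff_forall _).mpr fun x hx =>
      hLZ L hL x hx.1 (Components.isComponent_le_centralizer hL' hL huL hx.2),
    fun x hx w hw => (Subgroup.mem_centralizer_iff.mp (hLL' hx) w hw).symm, ?_, z₁, hz₁L, ?_, ?_, ?_⟩
  · refine le_antisymm (sup_le (hLM L hL) (hLM L' hL')) (hlayer ▸ Components.layer_le_iff.mpr fun E hE => ?_)
    rcases htwo E hE with rfl | rfl
    exacts [le_sup_left, le_sup_right]
  · have hwM : z₁ * (u * z₁ * u⁻¹) ∈ M :=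
      mul_mem (hLM L hL hz₁L) (hLM L' hL' ⟨z₁, hz₁L, rfl⟩)
    have h1 : π L (z₁ * (u * z₁ * u⁻¹)) = z₁ :=
      huniq L hL _ hwM z₁ hz₁L _ (Components.isComponent_le_centralizer hL' hL huL ⟨z₁, hz₁L, rfl⟩) rfl
    have h2 : π L' (z₁ * (u * z₁ * u⁻¹)) = u * z₁ * u⁻¹ := by
      refine huniq L' hL' _ hwM (u * z₁ * u⁻¹) ⟨z₁, hz₁L, rfl⟩ z₁ (hLL' hz₁L) ?_
      exact (Subgroup.mem_centralizer_iff.mp (hLL' hz₁L) _ ⟨z₁, hz₁L, rfl⟩).symm
    rw [← inv_mul_eq_one, hzi]
    refine hsep _ (mul_mem hzM hwM) fun E hE => ?_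
    rw [hmul E hE z hzM _ hwM]
    rcases htwo E hE with rfl | rfl
    · rw [h1]; exact hinv2 _ hE
    · rw [h2, ← huz]; exact hinv2 _ hE
  · refine ⟨hTS.toSylow, ?_, ?_⟩
    · show T.subgroupOf L = _
      rw [hTC, hC₁, Subgroup.inf_subgroupOf_left]
    · rintro _ ⟨x, hx, rfl⟩
      let N := (Subgroup.zpowers z₁).comap ((L.subtype).comp (hTS.toSylow : Subgroup L).subtype)
      refine ExtraTwo.frattini_le_of_sq N (fun c => ?_) hx
      show ((c : L) : G) * ((c : L) : G) ∈ Subgroup.zpowers z₁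
      have hcT' : ((c : L) : G) ∈ T := c.2
      obtain ⟨hyQ, hyM, hyπ, -, -⟩ := hy _ (c : L).2 (hTc _ hcT')
      rw [← inv_inv (((c : L) : G) * ((c : L) : G)), mul_inv_rev, ← hyπ, ← hmul L hL _ hyM _ hyM]
      refine inv_mem ?_
      rcases hgood.sq_cases hyQ with e | e <;> rw [e]
      · rw [hone' L hL]; exact one_mem _
      · exact Subgroup.mem_zpowers z₁
  · intro hQeq
    set C := Subgroup.centralizer ({z} : Set G) with hC
    set N₀ := M ⊓ C
    have hNC : N₀.subgroupOf C ≤ pCore 2 C := by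
      refine PSolvable.le_pCore (hN := ?_) ?_
      · exact ⟨fun n hn g => ⟨hMn.conj_mem _ hn.1 g, (g * n * g⁻¹).2⟩⟩
      · intro m
        obtain ⟨hmM, hmC⟩ := Subgroup.mem_inf.mp (Subgroup.mem_subgroupOf.mp m.2)
        have hm : ∀ E : Subgroup G, IsComponent E → ∃ k, π E ((m : C) : G) ^ 2 ^ k = 1 := by
          intro E hE
          have hmz := Subgroup.mem_centralizer_singleton_iff.mp hmC
          have hcomm : π E ((m : C) : G) * π E z = π E z * π E ((m : C) : G) := by
            rw [← hmul E hE _ hmM z hzM, ← hmul E hE z hzM _ hmM, hmz]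
          have hmemE := (hπ E _ hE hmM).1
          rcases htwo E hE with rfl | rfl
          · obtain ⟨k, hk⟩ := hC₁2 ⟨_, hmemE, Subgroup.mem_centralizer_singleton_iff.mpr hcomm⟩
            exact ⟨k, congrArg Subtype.val hk⟩
          · obtain ⟨l, hl, hle⟩ := hmemE
            rw [huz, ← hle] at hcomm
            have hlc : l * z₁ = z₁ * l := by
              apply (MulAut.conj u).injective
              simpa [mul_assoc] using hcomm
            obtain ⟨k, hk⟩ := hC₁2 ⟨l, hl, Subgroup.mem_centralizer_singleton_iff.mpr hlc⟩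
            refine ⟨k, ?_⟩
            rw [← hle, ← map_pow, show l ^ 2 ^ k = 1 from congrArg Subtype.val hk, map_one]
        obtain ⟨k₁, hk₁⟩ := hm L hL
        obtain ⟨k₂, hk₂⟩ := hm L' hL'
        refine ⟨k₁ + k₂, Subtype.ext (Subtype.ext ?_)⟩
        show ((m : C) : G) ^ 2 ^ (k₁ + k₂) = 1
        have hpow : ∀ E : Subgroup G, IsComponent E → ∀ n : ℕ, π E (((m : C) : G) ^ n) = π E ((m : C) : G) ^ n := by
          intro E hE n
          induction n with
          | zero => rw [pow_zero, pow_zero, hone' E hE]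
          | succ n ih => rw [pow_succ, pow_succ, hmul E hE _ (pow_mem hmM n) _ hmM, ih]
        refine hsep _ (pow_mem hmM _) fun E hE => ?_
        rw [hpow E hE, pow_add]
        rcases htwo E hE with rfl | rfl
        · rw [pow_mul, hk₁, one_pow]
        · rw [mul_comm, pow_mul, hk₂, one_pow]
    have hcQ : c ∈ Q := by
      rw [hQeq]
      exact ⟨⟨c, Subgroup.mem_centralizer_singleton_iff.mpr (hcz c hcL (hTc c hcT))⟩,
        hNC ⟨hLM L hL hcL, Subgroup.mem_centralizer_singleton_iff.mpr (hcz c hcL (hTc c hcT))⟩, rfl⟩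
    rcases hgood.comm u hu c hcQ with e | e
    · refine hy1 ?_
      show u * c * u⁻¹ * c⁻¹ = 1
      rw [e, mul_inv_cancel]
    · refine hyz ?_
      show u * c * u⁻¹ * c⁻¹ = z
      rw [e, hgood.le_cent c hcQ, mul_inv_cancel_right]

end Cfsg.Agent.S5426
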