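import Cfsg.Statements.S5427
import Mathlib
import Cfsg.Agent.Lib.LargeES.Basic
import Cfsg.Agent.Lib.ExtraTwo.Pair
import Cfsg.Agent.Lib.Components.GenFitting
import Cfsg.Agent.Lib.PSolvable.Core
import Cfsg.Agent.Lib.Core.Nilpotent

set_option autoImplicit false
open Cfsg

namespace Cfsg.Agent.S5427

/-- Let z be an involution of the finite group G whose centralizer C has generalized Fitting subgroup Q, an extraspecial 2-group of width at least 2 (order 2^(2w+1), w ≥ 2). Let K be a subgroup of G such that the subgroup U generated by the K-conjugates of z is abelian and C is generated by the C-conjugates of U. Suppose that either some K-conjugate of z other than z lies in Q, or some element u of U ∩ Q outside the subgroup generated by z has z in the largest normal 2-subgroup of its centralizer. Then G is simple and Q is a large extraspecial 2-subgroup of G. -/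
theorem result {G : Type*} [Group G] [Finite G] (z : G) (hz : orderOf z = 2) (Q : Subgroup G) (hQC : Q ≤ Subgroup.centralizer ({z} : Set G)) (hF : (Cfsg.generalizedFittingSubgroup ↥(Subgroup.centralizer ({z} : Set G))).map (Subgroup.centralizer ({z} : Set G)).subtype = Q) (hQ : Cfsg.IsExtraspecial 2 ↥Q) (w : ℕ) (hw : 2 ≤ w) (hcard : Nat.card ↥Q = 2 ^ (2 * w + 1)) (K U : Subgroup G) (hU : U = Subgroup.closure {x : G | ∃ k ∈ K, x = k * z * k⁻¹}) (hUab : IsMulCommutative ↥U) (hgen : Subgroup.closure {x : G | ∃ c ∈ Subgroup.centralizer ({z} : Set G), ∃ u ∈ U, x = c * u * c⁻¹} = Subgroup.centralizer ({z} : Set G)) (h3 : (∃ k ∈ K, k * z * k⁻¹ ∈ Q ∧ k * z * k⁻¹ ≠ z) ∨ ∃ u ∈ U ⊓ Q, u ∉ Subgroup.zpowers z ∧ (∃ hz' : z ∈ Subgroup.centralizer ({u} : Set G), (⟨z, hz'⟩ : ↥(Subgroup.centralizer ({u} : Set G))) ∈ Cfsg.pCore 2 ↥(Subgroup.centralizer ({u} : Set G)))) : IsSimpleGroup G ∧ Cfsg.IsLargeExtraspecial Q := by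
  set C := Subgroup.centralizer ({z} : Set G) with hCdef
  have hmemC : ∀ c, c ∈ C ↔ Commute c z := fun c => Subgroup.mem_centralizer_singleton_iff
  have hz1 : z ≠ 1 := fun h => by simp [h] at hz
  have hzz : z * z = 1 := by rw [← pow_two, ← hz]; exact pow_orderOf_eq_one z
  -- the normal structure of `C`
  have hQn : ∀ c ∈ C, ∀ q ∈ Q, c * q * c⁻¹ ∈ Q := by
    intro c hc q hq
    rw [← hF] at hq ⊢
    obtain ⟨q', hq', rfl⟩ := hq
    have : (Cfsg.generalizedFittingSubgroup ↥C).Normal :=
      Lib.Components.generalizedFittingSubgroup_normal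
    exact ⟨_, this.conj_mem q' hq' ⟨c, hc⟩, rfl⟩
  have hcentQ : ∀ g ∈ C, (∀ q ∈ Q, Commute g q) → g ∈ (Subgroup.center ↥Q).map Q.subtype := by
    intro g hg hall
    have hgF : (⟨g, hg⟩ : ↥C) ∈ Subgroup.centralizer (Cfsg.generalizedFittingSubgroup ↥C : Set ↥C) := by
      rw [Subgroup.mem_centralizer_iff]
      intro f hf
      exact Subtype.ext (hall _ (hF ▸ ⟨f, hf, rfl⟩)).symm.eq
    have hgQ : g ∈ Q := hF ▸ ⟨_, Lib.Components.centralizer_generalizedFittingSubgroup_le hgF, rfl⟩
    exact ⟨⟨g, hgQ⟩, Subgroup.mem_center_iff.mpr fun q => Subtype.ext (hall q q.2).symm.eq, rfl⟩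
  have hzZ : z ∈ (Subgroup.center ↥Q).map Q.subtype :=
    hcentQ z ((hmemC z).mpr (Commute.refl z)) fun q hq => ((hmemC q).mp (hQC hq)).symm
  obtain ⟨z', hG'⟩ := Lib.ExtraTwo.exists_gen hQ
  obtain rfl : z = z' := (hG'.all z hzZ).resolve_left hz1
  have hcent : Subgroup.centralizer (Q : Set G) = (Subgroup.center ↥Q).map Q.subtype := by
    refine le_antisymm (fun g hg => ?_) fun x hx => ?_
    · have hall : ∀ q ∈ Q, Commute g q := fun q hq => (Subgroup.mem_centralizer_iff.mp hg q hq).symm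
      exact hcentQ g ((hmemC g).mpr (hall z hG'.mem_Q)) hall
    · exact Subgroup.mem_centralizer_iff.mpr fun q hq => (Lib.LargeES.centre_commute hx hq).symm.eq
  have hN : Subgroup.centralizer (((Subgroup.center ↥Q).map Q.subtype : Subgroup G) : Set G)
      ≤ Subgroup.normalizer (Q : Set G) := by
    intro c hc
    have hcz : Commute c z := (Subgroup.mem_centralizer_iff.mp hc z hzZ).symm
    have hcC : c ∈ C := (hmemC c).mpr hcz
    rw [Subgroup.mem_normalizer_iff]
    exact fun q => ⟨hQn c hcC q, fun h => by simpa [mul_assoc] using hQn c⁻¹ (inv_mem hcC) _ h⟩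
  -- `U`
  have hzU : z ∈ U := hU ▸ Subgroup.subset_closure ⟨1, one_mem K, by simp⟩
  have hUcomm : ∀ a ∈ U, ∀ b ∈ U, Commute a b := fun a ha b hb =>
    congrArg Subtype.val (hUab.is_comm.comm (⟨a, ha⟩ : U) ⟨b, hb⟩)
  have hUsq : ∀ a ∈ U, a * a = 1 := by
    intro a ha
    subst hU
    induction ha using Subgroup.closure_induction with
    | mem y hy =>
      obtain ⟨k, -, rfl⟩ := hy
      rw [show k * z * k⁻¹ * (k * z * k⁻¹) = k * (z * z) * k⁻¹ by group, hzz]; group
    | one => exact one_mul 1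
    | mul p r hp hr ihp ihr =>
      rw [(hUcomm r hr p hp).mul_mul_mul_comm p, ihp, ihr, one_mul]
    | inv p hp ihp => rw [← mul_inv_rev, ihp, inv_one]
  -- large extraspecial
  have hlarge : Cfsg.IsLargeExtraspecial Q := by
    refine ⟨hQ, hcent, hN, fun H hH hQH => ?_⟩
    rcases h3 with ⟨k, -, hkQ, hkz⟩ | ⟨u, huUQ, huz, hz', hcore⟩
    · have hgood : Lib.LargeExtra.Good Q z := {
        x_mem := hG'.mem_Q
        x_sq := hzz
        x_ne := hz1
        le_cent := fun _ hq => (hG'.commute hq).eq.symm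
        comm := fun a ha b hb => (hG'.conj_cases ha hb).imp id (fun e => e.trans (hG'.commute hb).eq)
        centre := fun _ ha hc => hG'.eq_of_central ha hc
        nonab := by
          by_contra hne
          push Not at hne
          have h1 : commutator ↥Q = ⊥ := by
            rw [commutator_def, Subgroup.commutator_eq_bot_iff_le_centralizer]
            exact fun a _ => Subgroup.mem_centralizer_iff.2 fun b _ => Subtype.ext (hne b b.2 a a.2)
          have hc2 := hQ.2
          rw [← hQ.1.2.2, h1, Subgroup.card_bot] at hc2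
          exact absurd hc2 (by norm_num)
        norm := fun g hg q hq => hQn g ((hmemC g).mpr hg) q hq
        cent := fun g hg => Lib.LargeES.centre_le (hcent ▸ Subgroup.mem_centralizer_iff.mpr
          fun q hq => (hg q hq).symm) }
      have hk : k ∉ C := fun h => hkz (by rw [((hmemC k).mp h).eq, mul_inv_cancel_right])
      have S := Lib.ExtraTwo.Pair.setting_of_good hgood hk hkQ
      refine Lib.LargeES.eq_bot_of_centre_le hQ hcent hN hH hQH hkQ ?_ S.hS.x_sq
        ((Lib.LargeES.isPGroup hQ).map (MulAut.conj k).toMonoidHom) ?_ ?_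
      · intro h
        exact (hG'.all _ h).elim S.hS.x_ne hkz
      · exact fun x hx p hp => S.hS.norm x (Subgroup.mem_centralizer_singleton_iff.mp hx) p hp
      · intro x hx
        rcases hG'.all x hx with rfl | rfl
        exacts [one_mem _, S.hz]
    · obtain ⟨huU, huQ⟩ := Subgroup.mem_inf.mp huUQ
      refine Lib.LargeES.eq_bot_of_centre_le hQ hcent hN hH hQH huQ ?_ (hUsq u huU)
        ((Lib.PSolvable.pCore_isPGroup (p := 2)).map (Subgroup.centralizer ({u} : Set G)).subtype) ?_ ?_
      · intro h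
        rcases hG'.all u h with rfl | rfl
        exacts [huz (one_mem _), huz (Subgroup.mem_zpowers u)]
      · rintro x hx _ ⟨p, hp, rfl⟩
        have : (Cfsg.pCore 2 ↥(Subgroup.centralizer ({u} : Set G))).Normal :=
          @Subgroup.normal_of_characteristic _ _ _ Lib.PSolvable.pCore_characteristic
        exact ⟨_, this.conj_mem p hp ⟨x, hx⟩, rfl⟩
      · intro x hx
        rcases hG'.all x hx with rfl | rfl
        exacts [one_mem _, ⟨_, hcore, rfl⟩]
  refine ⟨?_, hlarge⟩
  -- simplicity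
  have : Fact (Nat.Prime 2) := ⟨Nat.prime_two⟩
  have : Nontrivial G := ⟨⟨z, 1, hz1⟩⟩
  refine ⟨fun N hN' => ?_⟩
  by_cases hodd : Odd (Nat.card N)
  · exact Or.inl (hlarge.2.2.2 N hodd fun q _ => by
      rw [Subgroup.mem_normalizer_iff]
      exact fun n => ⟨fun h => hN'.conj_mem n h q, fun h => by
        simpa [mul_assoc] using hN'.conj_mem _ h q⁻¹⟩)
  refine Or.inr ?_
  obtain ⟨P, hQP⟩ := (Lib.LargeES.isPGroup hQ).exists_le_sylow
  have hZP : ∀ g : G, g ∈ (P : Subgroup G) → (∀ p ∈ (P : Subgroup G), Commute g p) → g = 1 ∨ g = z := by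
    intro g hg hall
    refine hG'.all g (hcent ▸ Subgroup.mem_centralizer_iff.mpr fun q hq => ?_)
    exact (hall q (hQP hq)).symm.eq
  have hPC : (P : Subgroup G) ≤ C := by
    have : Nontrivial (P : Subgroup G) :=
      ⟨⟨⟨z, hQP hG'.mem_Q⟩, 1, fun h => hz1 (congrArg Subtype.val h)⟩⟩
    have := IsPGroup.center_nontrivial P.2
    obtain ⟨c, hc⟩ := exists_ne (1 : Subgroup.center (P : Subgroup G))
    intro p hp
    have hcz : ((c : (P : Subgroup G)) : G) = z := by
      refine (hZP _ (c : (P : Subgroup G)).2 fun p hp => ?_).resolve_left fun h => hc ?_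
      · exact (congrArg Subtype.val (Subgroup.mem_center_iff.mp c.2 ⟨p, hp⟩)).symm
      · exact Subtype.ext (Subtype.ext h)
    exact (hmemC p).mpr (hcz ▸ congrArg Subtype.val (Subgroup.mem_center_iff.mp c.2 ⟨p, hp⟩))
  have hzN : z ∈ N := by
    obtain ⟨n, hn⟩ : ∃ n : (P : Subgroup G), n ≠ 1 ∧ n ∈ N.subgroupOf (P : Subgroup G) ⊓ Subgroup.center _ := by
      have h2 : 2 ∣ Nat.card N := even_iff_two_dvd.mp (Nat.not_odd_iff_even.mp hodd)
      obtain ⟨x, hx⟩ := exists_prime_orderOf_dvd_card' 2 h2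
      have hxP : IsPGroup 2 (Subgroup.zpowers (x : G)) := IsPGroup.of_card (n := 1) (by
        rw [Nat.card_zpowers, pow_one, Subgroup.orderOf_coe, hx])
      obtain ⟨P', hP'⟩ := hxP.exists_le_sylow
      obtain ⟨g, hg⟩ := MulAction.exists_smul_eq G P' P
      have hmem : g * (x : G) * g⁻¹ ∈ (P : Subgroup G) := by
        rw [← hg]
        exact ⟨x, hP' (Subgroup.mem_zpowers _), rfl⟩
      have hne : g * (x : G) * g⁻¹ ≠ 1 := by
        intro h
        rw [conj_eq_one_iff] at h
        rw [show x = 1 from Subtype.ext h] at hx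
        simp at hx
      have hnt : Nontrivial (N.subgroupOf (P : Subgroup G)) :=
        ⟨⟨⟨⟨_, hmem⟩, hN'.conj_mem _ x.2 g⟩, 1, fun h => hne (congrArg (fun w => ((w : (P : Subgroup G)) : G))
          (congrArg Subtype.val h))⟩⟩
      have : Group.IsNilpotent (P : Subgroup G) := P.2.isNilpotent
      have := Lib.Nilp.inf_center_ne_bot_of_normal (N := N.subgroupOf (P : Subgroup G))
        ((Subgroup.nontrivial_iff_ne_bot _).mp hnt)
      obtain ⟨⟨n, hn⟩, hn1⟩ := Subgroup.ne_bot_iff_exists_ne_one.mp this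
      exact ⟨n, fun h => hn1 (Subtype.ext h), hn⟩
    obtain ⟨hn1, hnN, hnc⟩ := hn
    have : ((n : G)) = z := (hZP n n.2 fun p hp =>
      (congrArg Subtype.val (Subgroup.mem_center_iff.mp hnc ⟨p, hp⟩)).symm).resolve_left
        fun h => hn1 (Subtype.ext h)
    exact this ▸ hnN
  have hUN : U ≤ N := by
    rw [hU, Subgroup.closure_le]
    rintro _ ⟨k, -, rfl⟩
    exact hN'.conj_mem z hzN k
  have hCN : C ≤ N := by
    rw [← hgen, Subgroup.closure_le]
    rintro _ ⟨c, -, u, hu, rfl⟩
    exact hN'.conj_mem u (hUN hu) c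
  rw [eq_top_iff, ← Sylow.normalizer_sup_eq_top' P (hPC.trans hCN)]
  refine sup_le (fun g hg => hCN ((hmemC g).mpr ?_)) le_rfl
  have hg' := Subgroup.mem_normalizer_iff.mp hg
  have hgz : g * z * g⁻¹ = z := by
    refine (hZP _ ((hg' z).mp (hQP hG'.mem_Q)) fun p hp => ?_).resolve_left (by simpa using hz1)
    have hp' : g⁻¹ * p * g ∈ (P : Subgroup G) := (hg' _).mpr (by simpa [mul_assoc] using hp)
    have := ((hmemC _).mp (hPC hp')).symm.map (MulAut.conj g).toMonoidHom
    simpa [mul_assoc] using this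
  exact mul_inv_eq_iff_eq_mul.mp hgz

end Cfsg.Agent.S5427
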