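import Cfsg.Statements.S5428
import Mathlib
import Cfsg.Agent.Lib.LargeES.Basic
import Cfsg.Agent.Lib.LargeES.Heisenberg
import Cfsg.Agent.Lib.ExtraTwo.Pair
import Cfsg.Agent.Lib.Components.GenFitting
import Cfsg.Agent.Lib.Involution.ThompsonTransfer

set_option autoImplicit false
open Cfsg

namespace Cfsg.Agent.S5428

open Cfsg.Agent.Lib

variable {G : Type*} [Group G] [Finite G]

/-- `Q = F*(C(z))` extraspecial is `Good`. -/
theorem good_of_fstar {z : G} (hz : orderOf z = 2) {Q : Subgroup G}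
    (hQC : Q ≤ Subgroup.centralizer ({z} : Set G))
    (hF : (Cfsg.generalizedFittingSubgroup ↥(Subgroup.centralizer ({z} : Set G))).map
      (Subgroup.centralizer ({z} : Set G)).subtype = Q)
    (hQ : Cfsg.IsExtraspecial 2 ↥Q) : LargeExtra.Good Q z ∧ ExtraTwo.IsCentralGen Q z := by
  set C := Subgroup.centralizer ({z} : Set G) with hCdef
  have hz1 : z ≠ 1 := fun h => by simp [h] at hz
  have hzz : z * z = 1 := by rw [← pow_two, ← hz]; exact pow_orderOf_eq_one z
  have hcentQ : ∀ g ∈ C, (∀ q ∈ Q, Commute g q) → g ∈ (Subgroup.center ↥Q).map Q.subtype := by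
    intro g hg hall
    have hgF : (⟨g, hg⟩ : ↥C) ∈ Subgroup.centralizer (Cfsg.generalizedFittingSubgroup ↥C : Set ↥C) := by
      rw [Subgroup.mem_centralizer_iff]
      intro f hf
      exact Subtype.ext (hall _ (hF ▸ ⟨f, hf, rfl⟩)).symm.eq
    have hgQ : g ∈ Q := hF ▸ ⟨_, Components.centralizer_generalizedFittingSubgroup_le hgF, rfl⟩
    exact ⟨⟨g, hgQ⟩, Subgroup.mem_center_iff.mpr fun q => Subtype.ext (hall q q.2).symm.eq, rfl⟩
  have hzZ : z ∈ (Subgroup.center ↥Q).map Q.subtype :=
    hcentQ z (Subgroup.mem_centralizer_singleton_iff.mpr rfl) fun q hq =>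
      (Subgroup.mem_centralizer_singleton_iff.mp (hQC hq)).symm
  obtain ⟨z', hG'⟩ := ExtraTwo.exists_gen hQ
  obtain rfl : z = z' := (hG'.all z hzZ).resolve_left hz1
  refine ⟨{
    x_mem := hG'.mem_Q
    x_sq := hzz
    x_ne := hz1
    le_cent := fun _ hq => (hG'.commute hq).eq.symm
    comm := fun a ha b hb => (hG'.conj_cases ha hb).imp id (fun e => e.trans (hG'.commute hb).eq)
    centre := fun _ ha hc => hG'.eq_of_central ha hc
    nonab := by
      by_contra hne
      push Not at hne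
      have h1 : commutator ↥Q = ⊥ := by
        rw [commutator_def, Subgroup.commutator_eq_bot_iff_le_centralizer]
        exact fun a _ => Subgroup.mem_centralizer_iff.2 fun b _ => Subtype.ext (hne b b.2 a a.2)
      have hc2 := hQ.2
      rw [← hQ.1.2.2, h1, Subgroup.card_bot] at hc2
      exact absurd hc2 (by norm_num)
    norm := fun g hg q hq => by
      rw [← hF] at hq ⊢
      obtain ⟨q', hq', rfl⟩ := hq
      have : (Cfsg.generalizedFittingSubgroup ↥C).Normal :=
        Components.generalizedFittingSubgroup_normal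
      exact ⟨_, this.conj_mem q' hq' ⟨g, Subgroup.mem_centralizer_singleton_iff.mpr hg⟩, rfl⟩
    cent := fun g hg => LargeES.centre_le (hcentQ g
      (Subgroup.mem_centralizer_singleton_iff.mpr (hg z hG'.mem_Q)) hg) }, hG'⟩

/-- The centre of the fixed subgroup of a group of odd order acting on a `Good` subgroup. -/
theorem eq_or_of_central_fixed {X : Subgroup G} {x : G} (h : LargeExtra.Good X x) {A : Subgroup G}
    (hA : Odd (Nat.card A)) (hAx : ∀ a ∈ A, a * x = x * a) {r : G} (hr : r ∈ X)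
    (hrA : ∀ a ∈ A, a * r = r * a)
    (hall : ∀ p ∈ X, (∀ a ∈ A, a * p = p * a) → r * p = p * r) : r = 1 ∨ r = x := by
  refine h.centre r hr fun q hq => ?_
  by_contra hne
  have hrq : r * q * r⁻¹ = q * x :=
    (h.comm r hr q hq).resolve_left fun e => hne (mul_inv_eq_iff_eq_mul.mp e)
  classical
  let _ : Fintype A := Fintype.ofFinite A
  have hnormA : ∀ a ∈ A, ∀ p ∈ X, a * p * a⁻¹ ∈ X := fun a ha p hp => h.norm a (hAx a ha) p hp
  set z' : X := ⟨x, h.x_mem⟩
  set Z : Subgroup X := Subgroup.zpowers z'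
  have hz' : ∀ p : X, p ∈ Z → (p : G) = 1 ∨ (p : G) = x := by
    intro p hp
    obtain ⟨k, rfl⟩ := Subgroup.mem_zpowers_iff.mp hp
    exact LargeExtra.eq_or_of_mem_zpowers h.x_sq (Subgroup.mem_zpowers_iff.mpr ⟨k, by simp [z']⟩)
  have hZn : Z.Normal := ⟨fun p hp g => by
    have : g * p * g⁻¹ = p := by
      rw [mul_inv_eq_iff_eq_mul]
      apply Subtype.ext
      rcases hz' p hp with e | e <;> simp [e, h.le_cent _ g.2]
    rwa [this]⟩
  let _ : CommGroup (X ⧸ Z) :=
    { (inferInstance : Group (X ⧸ Z)) with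
      mul_comm := fun u v => by
        induction u using QuotientGroup.induction_on with
        | _ u =>
        induction v using QuotientGroup.induction_on with
        | _ v =>
        rcases h.comm u u.2 v v.2 with e | e
        · have : u * v = v * u := Subtype.ext (mul_inv_eq_iff_eq_mul.mp e)
          exact congrArg QuotientGroup.mk this
        · refine (QuotientGroup.eq (s := Z)).mpr ?_
          have : (u * v)⁻¹ * (v * u) = z' := by
            apply Subtype.ext
            show ((u : G) * v)⁻¹ * ((v : G) * u) = x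
            have e' : (u : G) * v = (v : G) * x * u := mul_inv_eq_iff_eq_mul.mp e
            rw [e', mul_inv_rev, mul_inv_rev, inv_eq_of_mul_eq_one_right h.x_sq]
            simp only [mul_assoc, inv_mul_cancel_left]
            rw [← h.le_cent u u.2]
            simp
          rw [this]; exact Subgroup.mem_zpowers z' }
  let χ : X → X ⧸ Z := fun p => (p : X ⧸ Z)
  let cj : A → X → X := fun a p => ⟨a * p * (a : G)⁻¹, hnormA a a.2 p p.2⟩
  obtain ⟨p, hp⟩ := QuotientGroup.mk_surjective (∏ a : A, χ (cj a ⟨q, hq⟩))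
  let θ : X →* G := MonoidHom.mk' (fun u => (u : G)⁻¹ * (r * u * r⁻¹)) fun u v => by
    have hu : (u : G)⁻¹ * (r * u * r⁻¹) = 1 ∨ (u : G)⁻¹ * (r * u * r⁻¹) = x := by
      rcases h.comm r hr u u.2 with e | e <;> rw [e] <;> simp
    have : ((u * v : X) : G)⁻¹ * (r * (u * v : X) * r⁻¹) =
        (v : G)⁻¹ * ((u : G)⁻¹ * (r * u * r⁻¹)) * (r * v * r⁻¹) := by
      simp only [Subgroup.coe_mul]; group
    rw [this]
    rcases hu with e | e <;> rw [e]
    · simp
    · have hc : (v : G)⁻¹ * x = x * (v : G)⁻¹ := h.le_cent _ (inv_mem v.2)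
      rw [hc, mul_assoc]
  have hθZ : Z ≤ θ.ker := fun u hu => by
    show (u : G)⁻¹ * (r * u * r⁻¹) = 1
    rcases hz' u hu with e | e <;> rw [e]
    · simp
    · rw [h.le_cent r hr]; simp
  let θ' : (X ⧸ Z) →* G := QuotientGroup.lift Z θ hθZ
  have hθa : ∀ a : A, θ (cj a ⟨q, hq⟩) = x := by
    intro a
    have hax : (a : G) * x * (a : G)⁻¹ = x := by rw [hAx a a.2, mul_inv_cancel_right]
    have har : (a : G) * r * (a : G)⁻¹ = r := by rw [hrA a a.2, mul_inv_cancel_right]
    show ((a : G) * q * (a : G)⁻¹)⁻¹ * (r * ((a : G) * q * (a : G)⁻¹) * r⁻¹) = x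
    calc _ = ((a : G) * q * (a : G)⁻¹)⁻¹ * ((a : G) * r * (a : G)⁻¹ * ((a : G) * q * (a : G)⁻¹) *
          ((a : G) * r * (a : G)⁻¹)⁻¹) := by rw [har]
      _ = (a : G) * (q⁻¹ * (r * q * r⁻¹)) * (a : G)⁻¹ := by group
      _ = x := by rw [hrq, inv_mul_cancel_left, hax]
  have hθp : θ p = x := by
    have h1 : θ' (∏ a : A, χ (cj a ⟨q, hq⟩)) = x ^ Fintype.card A := by
      have aux : ∀ (s : Finset A), θ' (∏ a ∈ s, χ (cj a ⟨q, hq⟩)) = x ^ s.card := by
        intro s
        induction s using Finset.induction_on with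
        | empty => simp
        | insert a s ha ih =>
          rw [Finset.prod_insert ha, map_mul, ih, Finset.card_insert_of_notMem ha, pow_succ',
            show θ' (χ (cj a ⟨q, hq⟩)) = x from hθa a]
      exact aux Finset.univ
    rw [← hp] at h1
    rw [Nat.card_eq_fintype_card] at hA
    obtain ⟨k, hk⟩ := hA
    rw [hk, pow_succ, pow_mul, pow_two, h.x_sq, one_pow, one_mul] at h1
    exact h1
  -- the product is fixed
  have hfix : ∀ b ∈ A, b * (p : G) = p * b := by
    intro b hb
    have hmem : χ (cj ⟨b, hb⟩ p) = χ p := by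
      let f : X →* X ⧸ Z := MonoidHom.mk' (fun u => χ (cj ⟨b, hb⟩ u)) fun u v => by
        rw [← QuotientGroup.mk_mul]
        exact congrArg QuotientGroup.mk (Subtype.ext (by simp [cj, mul_assoc]))
      have hfZ : Z ≤ f.ker := fun u hu => (QuotientGroup.eq_one_iff _).mpr (by
        have : cj ⟨b, hb⟩ u = u := by
          apply Subtype.ext
          rcases hz' u hu with e | e <;> simp [cj, e, hAx b hb]
        rw [this]; exact hu)
      let f' := QuotientGroup.lift Z f hfZ
      show f' (χ p) = χ p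
      rw [show χ p = ∏ a : A, χ (cj a ⟨q, hq⟩) from hp, map_prod]
      refine Fintype.prod_equiv (Equiv.mulLeft (⟨b, hb⟩ : A)) _ _ fun a => ?_
      exact congrArg QuotientGroup.mk (Subtype.ext (by simp [cj, mul_assoc]))
    have hm : p⁻¹ * cj ⟨b, hb⟩ p ∈ Z := (QuotientGroup.eq (s := Z)).mp hmem.symm
    rcases hz' _ hm with e | e
    · rw [Subgroup.coe_mul, Subgroup.coe_inv, inv_mul_eq_one] at e
      exact mul_inv_eq_iff_eq_mul.mp (show b * (p : G) * b⁻¹ = p from e.symm)
    · exfalso
      have e' : b * (p : G) * b⁻¹ = p * x := eq_mul_of_inv_mul_eq e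
      have hpow : ∀ n : ℕ, b ^ n * (p : G) * (b ^ n)⁻¹ = p * x ^ n := by
        intro n
        induction n with
        | zero => simp
        | succ n ih =>
          calc b ^ (n + 1) * (p : G) * (b ^ (n + 1))⁻¹ = b * (b ^ n * p * (b ^ n)⁻¹) * b⁻¹ := by
                rw [pow_succ']; group
            _ = b * (p * x ^ n) * b⁻¹ := by rw [ih]
            _ = (b * p * b⁻¹) * (b * x * b⁻¹) ^ n := by rw [conj_pow]; group
            _ = p * x ^ (n + 1) := by rw [e', hAx b hb, mul_inv_cancel_right, pow_succ', mul_assoc]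
      have hb1 : b ^ Nat.card A = 1 := by
        exact congrArg Subtype.val (pow_card_eq_one' (x := (⟨b, hb⟩ : A)))
      obtain ⟨k, hk⟩ := hA
      have h2 := hpow (Nat.card A)
      rw [hb1, hk, pow_succ, pow_mul, pow_two, h.x_sq, one_pow, one_mul] at h2
      simp [h.x_ne] at h2
  have hc := hall p p.2 hfix
  have : θ p = 1 := by
    show (p : G)⁻¹ * (r * p * r⁻¹) = 1
    rw [hc, mul_inv_cancel_right, inv_mul_cancel]
  exact h.x_ne (hθp.symm.trans this)

/-- Let z be an involution of the finite group G whose centralizer C has generalized Fitting subgroup Q extraspecial (as a 2-group), let A be a subgroup of C of odd order, and let R be the centralizer of A in Q; suppose R has order at least 32, the largest normal subgroup of odd order of the centralizer of the subgroup generated by A and R lies in A, the order of that centralizer is not divisible by 4, and g is an element of G with g z g⁻¹ in R but outside the centre Z of Q. Let M be the subgroup generated by A and the centralizer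 of A (A is normal in it). Then: the centralizer in M of the subgroup generated by R and A, joined with A, equals the subgroup generated by A and Z; the image of R in M/A is a large extraspecial 2-subgroup of M/A; and g z g⁻¹ is conjugate to z inside the subgroup generated by R and the centralizer of A in g Q g⁻¹. -/
theorem result {G : Type*} [Group G] [Finite G] (z : G) (hz : orderOf z = 2) (Q : Subgroup G) (hQC : Q ≤ Subgroup.centralizer ({z} : Set G)) (hF : (Cfsg.generalizedFittingSubgroup ↥(Subgroup.centralizer ({z} : Set G))).map (Subgroup.centralizer ({z} : Set G)).subtype = Q) (hQ : Cfsg.IsExtraspecial 2 ↥Q) (A : Subgroup G) (hA : A ≤ Subgroup.centralizer ({z} : Set G)) (hAodd : Odd (Nat.card ↥A)) (R : Subgroup G) (hR : R = Q ⊓ Subgroup.centralizer (A : Set G)) (hR32 : 32 ≤ Nat.card ↥R) (hO : (Cfsg.oddCore ↥(Subgroup.centralizer ((A ⊔ R : Subgroup G) : Set G))).map (Subgroup.centralizer ((A ⊔ R : Subgroup G) : Set G)).subtype ≤ A) (h4 : ¬ 4 ∣ Nat.card ↥(Subgroup.centralizer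 ((A ⊔ R : Subgroup G) : Set G))) (g : G) (hgR : g * z * g⁻¹ ∈ R) (hgZ : g * z * g⁻¹ ∉ ((Subgroup.center ↥Q).map Q.subtype)) (M : Subgroup G) (hM : M = Subgroup.centralizer (A : Set G) ⊔ A) [hn : (A.subgroupOf M).Normal] : (M ⊓ Subgroup.centralizer ((R ⊔ A : Subgroup G) : Set G)) ⊔ A = A ⊔ ((Subgroup.center ↥Q).map Q.subtype) ∧ Cfsg.IsLargeExtraspecial ((R.subgroupOf M).map (QuotientGroup.mk' (A.subgroupOf M))) ∧ ∃ x ∈ R ⊔ ((Q).map (MulAut.conj g).toMonoidHom ⊓ Subgroup.centralizer (A : Set G)), x * (g * z * g⁻¹) * x⁻¹ = z := by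
  obtain ⟨hgood, hgen⟩ := good_of_fstar hz hQC hF hQ
  rw [hgen.map_center_eq] at hgZ ⊢
  have hzz := hgood.x_sq
  have hzi : z⁻¹ = z := inv_eq_of_mul_eq_one_right hzz
  have hmemR : ∀ r, r ∈ R ↔ r ∈ Q ∧ ∀ a ∈ A, a * r = r * a := fun r => by
    simp [hR, Subgroup.mem_centralizer_iff]
  have hAz : ∀ a ∈ A, a * z = z * a := fun a ha => Subgroup.mem_centralizer_singleton_iff.mp (hA ha)
  have hzR : z ∈ R := (hmemR z).mpr ⟨hgood.x_mem, hAz⟩
  have hRcA : ∀ r ∈ R, r ∈ Subgroup.centralizer (A : Set G) := fun r hr =>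
    Subgroup.mem_centralizer_iff.mpr ((hmemR r).mp hr).2
  have hRM : R ≤ M := fun r hr => hM ▸ Subgroup.mem_sup_left (hRcA r hr)
  have hAM : A ≤ M := hM ▸ le_sup_right
  have hQ2 : IsPGroup 2 ↥Q := LargeES.isPGroup hQ
  have hRA : ∀ r ∈ R, r ∈ A → r = 1 := fun r hr ha =>
    LargeES.eq_one_of_mem_odd hAodd ha hQ2 ((hmemR r).mp hr).1
  -- the centre of `R`
  have hRc : ∀ r ∈ R, (∀ p ∈ R, Commute r p) → r = 1 ∨ r = z := fun r hr hall =>
    eq_or_of_central_fixed hgood hAodd hAz ((hmemR r).mp hr).1 ((hmemR r).mp hr).2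
      fun p hp hpA => hall p ((hmemR p).mpr ⟨hp, hpA⟩)
  have hRna : ∃ a ∈ R, ∃ b ∈ R, ¬ Commute a b := by
    by_contra! hab
    have hle : R ≤ Subgroup.zpowers z := fun r hr => by
      rcases hRc r hr (hab r hr) with e | e <;> rw [e]
      exacts [one_mem _, Subgroup.mem_zpowers z]
    have := Subgroup.card_le_of_le hle
    rw [Nat.card_zpowers, hz] at this
    omega
  obtain ⟨hRE, -, hRcen⟩ := ExtraTwo.isExtraspecial_of_le hgen (R := R) (hR ▸ inf_le_left) hRc hRna
  -- the centraliser of `A R`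
  set W := Subgroup.centralizer ((A ⊔ R : Subgroup G) : Set G) with hWdef
  have hmemW : ∀ c, (∀ a ∈ A, a * c = c * a) → (∀ r ∈ R, r * c = c * r) → c ∈ W := by
    intro c h1 h2
    have hle : A ⊔ R ≤ Subgroup.centralizer ({c} : Set G) :=
      sup_le (fun a ha => Subgroup.mem_centralizer_singleton_iff.mpr (h1 a ha))
        fun r hr => Subgroup.mem_centralizer_singleton_iff.mpr (h2 r hr)
    exact Subgroup.mem_centralizer_iff.mpr fun g hg => Subgroup.mem_centralizer_singleton_iff.mp (hle hg)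
  have hzW : z ∈ W := hmemW z hAz fun r hr => hgood.le_cent r ((hmemR r).mp hr).1
  have hWA : ∀ c ∈ W, c ∈ A ∨ c * z ∈ A := by
    have : Fact (Nat.Prime 2) := ⟨Nat.prime_two⟩
    have hzW' : orderOf (⟨z, hzW⟩ : W) = 2 := by rw [Subgroup.orderOf_mk, hz]
    have heven : Even (Nat.card W) := even_iff_two_dvd.mpr (hzW' ▸ orderOf_dvd_natCard _)
    obtain ⟨T⟩ := (inferInstance : Nonempty (Sylow 2 W))
    obtain ⟨k, hk⟩ := IsPGroup.iff_card.mp T.2
    have hk1 : k ≤ 1 := by
      by_contra hgt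
      exact h4 ((pow_dvd_pow 2 (not_le.mp hgt)).trans (hk ▸ Subgroup.card_subgroup_dvd_card _))
    have hcyc : IsCyclic (T : Subgroup W) := by
      interval_cases k
      · have : Subsingleton (T : Subgroup W) := (Nat.card_eq_one_iff_unique.mp (by simpa using hk)).1
        exact isCyclic_of_subsingleton
      · exact isCyclic_of_prime_card (p := 2) (by simpa using hk)
    obtain ⟨H, hHn, hH⟩ := Involution.exists_index_two_of_isCyclic_sylow heven T hcyc
    have hHodd : Odd (Nat.card H) := by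
      rw [Nat.odd_iff, ← Nat.not_even_iff, even_iff_two_dvd]
      intro h2
      exact h4 (by rw [← H.card_mul_index, hH]; exact Nat.mul_dvd_mul h2 dvd_rfl)
    have hHA : ∀ c : W, c ∈ H → (c : G) ∈ A := fun c hc =>
      hO ⟨c, le_sSup (α := Subgroup W) (show H.Normal ∧ (Nat.card H).Coprime 2 from ⟨hHn, Nat.coprime_two_right.mpr hHodd⟩) hc, rfl⟩
    intro c hc
    by_cases hcH : (⟨c, hc⟩ : W) ∈ H
    · exact Or.inl (hHA _ hcH)
    · have hzH : (⟨z, hzW⟩ : W) ∉ H := fun h => by
        have h2 : orderOf (⟨⟨z, hzW⟩, h⟩ : H) = 2 := by rw [← Subgroup.orderOf_coe, hzW']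
        exact (Nat.not_even_iff_odd.mpr hHodd) (even_iff_two_dvd.mpr (h2 ▸ orderOf_dvd_natCard _))
      exact Or.inr (hHA (⟨c, hc⟩ * ⟨z, hzW⟩)
        ((Subgroup.mul_mem_iff_of_index_two hH).mpr (iff_of_false hcH hzH)))
  -- decomposition of `M`
  have hdec : ∀ m ∈ M, ∃ c ∈ Subgroup.centralizer (A : Set G), ∃ a ∈ A, m = c * a := by
    intro m hm
    rw [hM] at hm
    have hnorm : A ≤ Subgroup.normalizer (Subgroup.centralizer (A : Set G) : Set G) := fun a ha => by
      rw [Subgroup.mem_normalizer_iff]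
      intro c
      have key : ∀ c ∈ Subgroup.centralizer (A : Set G), ∀ a ∈ A, a * c * a⁻¹ = c := fun c hc a ha => by
        rw [Subgroup.mem_centralizer_iff.mp hc a ha, mul_inv_cancel_right]
      constructor
      · intro hc; rwa [key c hc a ha]
      · intro hc
        have := key _ hc a⁻¹ (inv_mem ha)
        rw [show a⁻¹ * (a * c * a⁻¹) * a⁻¹⁻¹ = c by group] at this
        rwa [← this] at hc
    rw [← SetLike.mem_coe, Subgroup.coe_mul_of_right_le_normalizer_left _ _ hnorm] at hm
    obtain ⟨c, hc, a, ha, rfl⟩ := hm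
    exact ⟨c, hc, a, ha, rfl⟩
  have hcomm : ∀ c ∈ Subgroup.centralizer (A : Set G), ∀ a ∈ A, a * c = c * a :=
    fun c hc a ha => Subgroup.mem_centralizer_iff.mp hc a ha
  -- lifting of centralisers
  have hlift : ∀ c ∈ Subgroup.centralizer (A : Set G), ∀ a ∈ A, ∀ r ∈ R,
      (c * a) * r * (c * a)⁻¹ * r⁻¹ ∈ A → c * r = r * c := by
    intro c hc a ha r hr hmem
    have har : a * r * a⁻¹ = r := by rw [((hmemR r).mp hr).2 a ha, mul_inv_cancel_right]
    rw [show c * a * r * (c * a)⁻¹ * r⁻¹ = c * (a * r * a⁻¹) * c⁻¹ * r⁻¹ by group, har] at hmem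
    set t := c * r * c⁻¹ * r⁻¹ with htdef
    have htr : Commute r t := (((hmemR r).mp hr).2 t hmem).symm
    have hr4 : r ^ 4 = 1 := by
      rw [show r ^ 4 = (r * r) * (r * r) by simp [pow_succ, mul_assoc]]
      rcases hgood.sq_cases ((hmemR r).mp hr).1 with e | e <;> rw [e]
      · exact one_mul 1
      · exact hzz
    have e : c * r * c⁻¹ = r * t := by rw [htr.eq, htdef, inv_mul_cancel_right]
    have ht4 : t ^ 4 = 1 := by
      have := congrArg (· ^ 4) e
      simpa [conj_pow, htr.mul_pow, hr4] using this.symm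
    have hcard : t ^ Nat.card A = 1 := by
      exact congrArg Subtype.val (pow_card_eq_one' (x := (⟨t, hmem⟩ : A)))
    have hcop : (Nat.card A).Coprime 4 := (Nat.coprime_two_right.mpr hAodd).pow_right 2
    have ht1 : t = 1 := (pow_one t).symm.trans (hcop.gcd_eq_one ▸ pow_gcd_eq_one.mpr ⟨hcard, ht4⟩)
    rw [ht1, mul_one, mul_inv_eq_iff_eq_mul] at e
    exact e
  have hzM : z ∈ M := hRM hzR
  -- first claim
  refine ⟨le_antisymm (sup_le ?_ le_sup_left) (sup_le le_sup_right ?_), ?_, ?_⟩
  · rintro c ⟨-, hc⟩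
    have hcW : c ∈ W := by rw [hWdef, sup_comm]; exact hc
    rcases hWA c hcW with h | h
    · exact Subgroup.mem_sup_left h
    · have := mul_mem (Subgroup.mem_sup_left (T := Subgroup.zpowers z) h)
        (Subgroup.mem_sup_right (S := A) (Subgroup.mem_zpowers z))
      rwa [mul_assoc, hzz, mul_one] at this
  · rw [Subgroup.zpowers_le]
    refine Subgroup.mem_sup_left ⟨hzM, ?_⟩
    show z ∈ Subgroup.centralizer ((R ⊔ A : Subgroup G) : Set G)
    rw [sup_comm]; exact hzW
  · -- the quotient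
    set A' := A.subgroupOf M
    set π := QuotientGroup.mk' A' with hπ
    set R' := (R.subgroupOf M).map π with hR'
    have hπeq : ∀ u v : M, π u = π v ↔ (u : G) * (v : G)⁻¹ ∈ A := by
      intro u v
      rw [← div_eq_one (G := _ ⧸ A'), ← map_div]
      show (QuotientGroup.mk (u / v) : _ ⧸ A') = 1 ↔ _
      rw [QuotientGroup.eq_one_iff, Subgroup.mem_subgroupOf, div_eq_mul_inv]
      simp
    have hinjR : ∀ r ∈ R, ∀ s ∈ R, ∀ (hr : r ∈ M) (hs : s ∈ M), π ⟨r, hr⟩ = π ⟨s, hs⟩ → r = s :=
      fun r hr s hs hr' hs' e => mul_inv_eq_one.mp (hRA _ (mul_mem hr (inv_mem hs)) ((hπeq _ _).mp e))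
    have hmk : ∀ r, ∀ hr : r ∈ R, π ⟨r, hRM hr⟩ ∈ R' := fun r hr => ⟨⟨r, hRM hr⟩, hr, rfl⟩
    set zb := π ⟨z, hzM⟩ with hzb
    have hzb1 : zb ≠ 1 := fun e => hgood.x_ne (hinjR z hzR 1 (one_mem R) hzM (one_mem M) (by rw [← hzb, e]; exact (map_one π).symm))
    have hR'mem : ∀ u ∈ R', ∃ r, ∃ hr : r ∈ R, π ⟨r, hRM hr⟩ = u := by
      rintro _ ⟨⟨r, hrM⟩, hr, rfl⟩; exact ⟨r, hr, rfl⟩
    have hcentre : ∀ x : R', x ∈ Subgroup.center R' ↔ (x : _ ⧸ A') = 1 ∨ (x : _ ⧸ A') = zb := by
      intro x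
      obtain ⟨r, hr, hrx⟩ := hR'mem x x.2
      constructor
      · intro hx
        rcases hRc r hr (fun p hp => by
          have := congrArg Subtype.val (Subgroup.mem_center_iff.mp hx ⟨_, hmk p hp⟩)
          simp only [Subgroup.coe_mul, ← hrx, ← map_mul] at this
          exact (hinjR _ (mul_mem hp hr) _ (mul_mem hr hp) (hRM (mul_mem hp hr)) (hRM (mul_mem hr hp)) this).symm)
          with rfl | rfl
        · left; rw [← hrx]; exact map_one π
        · right; exact hrx.symm
      · intro hx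
        rw [Subgroup.mem_center_iff]
        intro u
        obtain ⟨p, hp, hpu⟩ := hR'mem u u.2
        apply Subtype.ext
        simp only [Subgroup.coe_mul]
        rcases hx with e | e <;> rw [e, ← hpu]
        · simp
        · rw [hzb, ← map_mul, ← map_mul]
          exact congrArg π (Subtype.ext (hgood.le_cent p ((hmemR p).mp hp).1))
    have hR'p : IsPGroup 2 R' := by
      have : IsPGroup 2 (R.subgroupOf M) := hRE.1.1.comap_of_injective _ (Subgroup.subtype_injective M)
      exact this.map π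
    obtain ⟨a₀, ha₀, b₀, hb₀, hab₀⟩ := hRna
    have hR'E : IsExtraspecial 2 R' := by
      refine LargeES.Heisenberg.isExtraspecial_of_props hR'p (z := ⟨zb, hmk z hzR⟩)
        (fun e => hzb1 (congrArg Subtype.val e)) ((hcentre _).mpr (Or.inr rfl))
        (fun x hx => ((hcentre x).mp hx).imp (fun e => Subtype.ext e) (fun e => Subtype.ext e)) ?_ ?_
        (x := ⟨_, hmk a₀ ha₀⟩) (y := ⟨_, hmk b₀ hb₀⟩) ?_
      · intro x
        obtain ⟨r, hr, hrx⟩ := hR'mem x x.2
        rw [hcentre, Subgroup.coe_pow, ← hrx, ← map_pow, pow_two]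
        rcases hgood.sq_cases ((hmemR r).mp hr).1 with e | e
        · left; rw [← map_one π]; exact congrArg π (Subtype.ext e)
        · right; exact congrArg π (Subtype.ext e)
      · intro x y
        obtain ⟨r, hr, hrx⟩ := hR'mem x x.2
        obtain ⟨s, hs, hsy⟩ := hR'mem y y.2
        rw [hcentre]
        simp only [Subgroup.coe_mul, Subgroup.coe_inv, ← hrx, ← hsy, ← map_inv, ← map_mul]
        rcases hgood.comm r ((hmemR r).mp hr).1 s ((hmemR s).mp hs).1 with e | e
        · left; rw [← map_one π]; refine congrArg π (Subtype.ext ?_)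
          show r * s * r⁻¹ * s⁻¹ = 1
          rw [e, mul_inv_cancel]
        · right; refine congrArg π (Subtype.ext ?_)
          show r * s * r⁻¹ * s⁻¹ = z
          rw [e, hgood.le_cent s ((hmemR s).mp hs).1, mul_inv_cancel_right]
      · intro e
        have := congrArg Subtype.val e
        simp only [Subgroup.coe_mul, ← map_mul] at this
        exact hab₀ (hinjR _ (mul_mem ha₀ hb₀) _ (mul_mem hb₀ ha₀) (hRM (mul_mem ha₀ hb₀))
          (hRM (mul_mem hb₀ ha₀)) this)
    have hmapcen : ∀ u, u ∈ (Subgroup.center R').map R'.subtype ↔ u = 1 ∨ u = zb := by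
      intro u
      constructor
      · rintro ⟨x, hx, rfl⟩; exact (hcentre x).mp hx
      · rintro (rfl | rfl)
        · exact ⟨1, one_mem _, rfl⟩
        · exact ⟨⟨zb, hmk z hzR⟩, (hcentre _).mpr (Or.inr rfl), rfl⟩
    have hliftπ : ∀ (m : M) (r : G) (hr : r ∈ R), π m * π ⟨r, hRM hr⟩ = π ⟨r, hRM hr⟩ * π m →
        ∃ c ∈ Subgroup.centralizer (A : Set G), ∃ a ∈ A, (m : G) = c * a ∧ c * r = r * c := by
      intro m r hr e
      obtain ⟨c, hc, a, ha, hm⟩ := hdec m m.2
      refine ⟨c, hc, a, ha, hm, hlift c hc a ha r hr ?_⟩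
      rw [← map_mul, ← map_mul, hπeq] at e
      simpa [hm, mul_assoc] using e
    have hC' : Subgroup.centralizer (R' : Set (_ ⧸ A')) = (Subgroup.center R').map R'.subtype := by
      refine le_antisymm (fun u hu => ?_) fun u hu => ?_
      · obtain ⟨m, rfl⟩ := QuotientGroup.mk'_surjective A' u
        obtain ⟨c, hc, a, ha, hm⟩ := hdec m m.2
        have hcR : ∀ r ∈ R, r * c = c * r := by
          intro r hr
          refine (hlift c hc a ha r hr ?_).symm
          have e := (Subgroup.mem_centralizer_iff.mp hu _ (hmk r hr)).symm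
          rw [← hπ, ← map_mul, ← map_mul, hπeq] at e
          simpa [hm, mul_assoc] using e
        rw [hmapcen]
        rcases hWA c (hmemW c (hcomm c hc) hcR) with h | h
        · left
          rw [← map_one π, hπeq, hm]
          simpa using mul_mem h ha
        · right
          rw [hzb, hπeq, hm, mul_assoc]
          show c * (a * z⁻¹) ∈ A
          rw [hzi, hAz a ha, ← mul_assoc]
          exact mul_mem h ha
      · rcases (hmapcen u).mp hu with rfl | rfl
        · exact one_mem _
        · refine Subgroup.mem_centralizer_iff.mpr fun p hp => ?_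
          obtain ⟨r, hr, rfl⟩ := hR'mem p hp
          rw [hzb, ← map_mul, ← map_mul]
          exact congrArg π (Subtype.ext (hgood.le_cent r ((hmemR r).mp hr).1))
    have hN' : Subgroup.centralizer (((Subgroup.center R').map R'.subtype : Subgroup _) : Set (_ ⧸ A'))
        ≤ Subgroup.normalizer (R' : Set (_ ⧸ A')) := by
      intro u hu
      have key : ∀ v : _ ⧸ A', v * zb = zb * v → ∀ p ∈ R', v * p * v⁻¹ ∈ R' := by
        intro v hv p hp
        obtain ⟨m, rfl⟩ := QuotientGroup.mk'_surjective A' v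
        obtain ⟨r, hr, rfl⟩ := hR'mem p hp
        obtain ⟨c, hc, a, ha, hm, hcz⟩ := hliftπ m z hzR hv
        obtain ⟨hrQ, hrA⟩ := (hmemR r).mp hr
        have hr' : c * r * c⁻¹ ∈ R := (hmemR _).mpr ⟨hgood.norm c hcz r hrQ, fun b hb =>
          hcomm _ (mul_mem (mul_mem hc (hRcA r hr)) (inv_mem hc)) b hb⟩
        refine ⟨⟨_, hRM hr'⟩, hr', ?_⟩
        rw [← hπ, ← map_inv, ← map_mul, ← map_mul]
        refine congrArg π (Subtype.ext ?_)
        show c * r * c⁻¹ = (m : G) * r * (m : G)⁻¹
        rw [hm, show c * a * r * (c * a)⁻¹ = c * (a * r * a⁻¹) * c⁻¹ by group, hrA a ha,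
          mul_inv_cancel_right]
      have hcomm' : u * zb = zb * u :=
        (Subgroup.mem_centralizer_iff.mp hu zb ((hmapcen zb).mpr (Or.inr rfl))).symm
      rw [Subgroup.mem_normalizer_iff]
      exact fun p => ⟨key u hcomm' p, fun h => by
        simpa [mul_assoc] using key u⁻¹ (Commute.inv_left hcomm').eq _ h⟩
    refine ⟨hR'E, hC', hN', fun K hK hRK => ?_⟩
    have hgC : g ∉ Subgroup.centralizer ({z} : Set G) := fun h => hgZ (by
      rw [Subgroup.mem_centralizer_singleton_iff.mp h, mul_inv_cancel_right]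
      exact Subgroup.mem_zpowers z)
    have S := ExtraTwo.Pair.setting_of_good hgood hgC ((hmemR _).mp hgR).1
    set y := g * z * g⁻¹ with hy
    set P₀ := (Q.map (MulAut.conj g).toMonoidHom) ⊓ Subgroup.centralizer (A : Set G)
    refine LargeES.eq_bot_of_centre_le hR'E hC' hN' hK hRK (b := π ⟨y, hRM hgR⟩) (hmk y hgR) ?_ ?_
      (P := (P₀.subgroupOf M).map π) ?_ ?_ ?_
    · rw [hmapcen]
      rintro (e | e)
      · exact S.hS.x_ne (hinjR y hgR 1 (one_mem R) (hRM hgR) (one_mem M) (e.trans (map_one π).symm))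
      · exact hgZ ((hinjR y hgR z hzR (hRM hgR) hzM e) ▸ Subgroup.mem_zpowers z)
    · rw [← map_mul, ← map_one π]; exact congrArg π (Subtype.ext S.hS.x_sq)
    · have h1 : IsPGroup 2 P₀ := (hQ2.map _).to_le inf_le_left
      have : IsPGroup 2 (P₀.subgroupOf M) := h1.comap_of_injective _ (Subgroup.subtype_injective M)
      exact this.map π
    · rintro v hv _ ⟨p, hp, rfl⟩
      obtain ⟨m, rfl⟩ := QuotientGroup.mk'_surjective A' v
      obtain ⟨hp1, hp2⟩ := Subgroup.mem_inf.mp (Subgroup.mem_subgroupOf.mp hp)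
      obtain ⟨c, hc, a, ha, hm, hcy⟩ := hliftπ m y hgR (Subgroup.mem_centralizer_singleton_iff.mp hv)
      refine ⟨m * p * m⁻¹, ?_, by simp [map_mul]; rfl⟩
      rw [SetLike.mem_coe, Subgroup.mem_subgroupOf]
      show (m : G) * p * (m : G)⁻¹ ∈ P₀
      rw [hm, show c * a * (p : G) * (c * a)⁻¹ = c * (a * p * a⁻¹) * c⁻¹ by group, hcomm _ hp2 a ha,
        mul_inv_cancel_right]
      exact ⟨S.hS.norm c hcy _ hp1,
        (Subgroup.centralizer (A : Set G)).mul_mem (Subgroup.mul_mem _ hc hp2) (Subgroup.inv_mem _ hc)⟩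
    · intro u hu
      rcases (hmapcen u).mp hu with rfl | rfl
      · exact one_mem _
      · exact ⟨⟨z, hzM⟩, Subgroup.mem_subgroupOf.mpr ⟨S.hz, hRcA z hzR⟩, rfl⟩
  · -- conjugation
    have hgC : g ∉ Subgroup.centralizer ({z} : Set G) := fun h => hgZ (by
      rw [Subgroup.mem_centralizer_singleton_iff.mp h, mul_inv_cancel_right]
      exact Subgroup.mem_zpowers z)
    have S := ExtraTwo.Pair.setting_of_good hgood hgC ((hmemR _).mp hgR).1
    set y := g * z * g⁻¹ with hy
    have hyA := ((hmemR y).mp hgR).2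
    obtain ⟨q, hq, hqy⟩ : ∃ q ∈ R, q * y * q⁻¹ = y * z := by
      by_contra! hno
      rcases hRc y hgR (fun p hp => by
        rcases hgood.comm p ((hmemR p).mp hp).1 y S.hs with e | e
        · exact (mul_inv_eq_iff_eq_mul.mp e).symm
        · exact absurd e (hno p hp)) with e | e
      · exact S.hS.x_ne e
      · exact S.ne e
    obtain ⟨p, hp1, hp2, hpz⟩ : ∃ p ∈ Q.map (MulAut.conj g).toMonoidHom,
        p ∈ Subgroup.centralizer (A : Set G) ∧ p * z * p⁻¹ = z * y := by
      by_contra! hno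
      rcases eq_or_of_central_fixed S.hS hAodd hyA S.hz hAz (fun p hp hpA => by
        rcases S.hS.comm p hp z S.hz with e | e
        · exact (mul_inv_eq_iff_eq_mul.mp e).symm
        · exact absurd e (hno p hp (Subgroup.mem_centralizer_iff.mpr hpA))) with e | e
      · exact hgood.x_ne e
      · exact S.ne e.symm
    refine ⟨p * q, mul_mem (Subgroup.mem_sup_right ⟨hp1, hp2⟩) (Subgroup.mem_sup_left hq), ?_⟩
    have hpy : p * y * p⁻¹ = y := mul_inv_eq_iff_eq_mul.mpr (S.hS.le_cent p hp1)
    calc p * q * y * (p * q)⁻¹ = p * (q * y * q⁻¹) * p⁻¹ := by group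
      _ = (p * y * p⁻¹) * (p * z * p⁻¹) := by rw [hqy]; group
      _ = y * (z * y) := by rw [hpy, hpz]
      _ = z := by rw [← mul_assoc, hgood.le_cent y S.hs, mul_assoc, S.hS.x_sq, mul_one]

end Cfsg.Agent.S5428
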