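import Cfsg.Statements.S5429
import Mathlib
import Cfsg.Agent.Lib.ExtraTwo.Pair
import Cfsg.Agent.Lib.Components.GenFitting

set_option autoImplicit false
open Cfsg

namespace Cfsg.Agent.S5429

open Cfsg.Agent.Lib
open scoped commutatorElement
open Cfsg.Agent.Lib.LargeExtra (Good extend conj_eq_iff_comm exists_separating mem_extend)

/-- A criterion for extraspecial subgroups. -/
theorem extra_of {H : Type*} [Group H] [Finite H] {R : Subgroup H} {z : H} (hp : IsPGroup 2 ↥R)
    (hz : orderOf z = 2) (hzR : z ∈ R) (hzc : ∀ a ∈ R, Commute z a)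
    (hcomm : ∀ a ∈ R, ∀ b ∈ R, a * b * a⁻¹ * b⁻¹ = 1 ∨ a * b * a⁻¹ * b⁻¹ = z)
    (hsq : ∀ a ∈ R, a * a = 1 ∨ a * a = z)
    (hcen : ∀ x ∈ R, (∀ y ∈ R, Commute x y) → x = 1 ∨ x = z)
    (hna : ∃ a ∈ R, ∃ b ∈ R, ¬ Commute a b) :
    IsExtraspecial 2 ↥R ∧ (Subgroup.center ↥R).map R.subtype = Subgroup.zpowers z := by
  haveI : Fact (Nat.Prime 2) := ⟨Nat.prime_two⟩
  obtain ⟨a, ha, b, hb, hab⟩ := hna
  have hmap : (Subgroup.center ↥R).map R.subtype = Subgroup.zpowers z := by
    refine le_antisymm ?_ (Subgroup.zpowers_le.2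
      ⟨⟨z, hzR⟩, Subgroup.mem_center_iff.2 fun g => Subtype.ext (hzc g g.2).eq.symm, rfl⟩)
    rintro _ ⟨x, hx, rfl⟩
    rcases hcen x x.2 (fun y hy => (congrArg Subtype.val (Subgroup.mem_center_iff.1 hx ⟨y, hy⟩)).symm)
      with e | e <;> rw [Subgroup.subtype_apply, e]
    · exact one_mem _
    · exact Subgroup.mem_zpowers z
  have hcard : Nat.card (Subgroup.center ↥R) = 2 := by
    rw [← Subgroup.card_map_of_injective R.subtype_injective, hmap, Nat.card_zpowers, hz]
  have hmemc : ∀ x : ↥R, ((x : H) = 1 ∨ (x : H) = z) → x ∈ Subgroup.center ↥R := by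
    intro x hx
    rcases hx with e | e
    · rw [show x = 1 from Subtype.ext e]; exact one_mem _
    · exact Subgroup.mem_center_iff.2 fun g => Subtype.ext (by simpa [e] using (hzc g g.2).eq.symm)
  have hcom : commutator ↥R = Subgroup.center ↥R := by
    refine le_antisymm ?_ ?_
    · rw [commutator_def, Subgroup.commutator_le]
      intro x _ y _
      exact hmemc _ (by simpa [commutatorElement_def] using hcomm x x.2 y y.2)
    · intro x hx
      have hx' : (x : H) ∈ Subgroup.zpowers z := hmap ▸ ⟨x, hx, rfl⟩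
      have hzcm : (⟨z, hzR⟩ : ↥R) ∈ commutator ↥R := by
        have e : (⟨z, hzR⟩ : ↥R) = ⁅(⟨a, ha⟩ : ↥R), ⟨b, hb⟩⁆ := by
          refine Subtype.ext ?_
          have := (hcomm a ha b hb).resolve_left fun e => hab (by
            rw [mul_inv_eq_one, mul_inv_eq_iff_eq_mul] at e; exact e)
          simpa [commutatorElement_def] using this.symm
        rw [e]
        exact Subgroup.commutator_mem_commutator (Subgroup.mem_top _) (Subgroup.mem_top _)
      obtain ⟨k, hk⟩ := Subgroup.mem_zpowers_iff.1 hx'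
      rw [show x = (⟨z, hzR⟩ : ↥R) ^ k from Subtype.ext (by simp [hk])]
      exact zpow_mem hzcm k
  refine ⟨⟨⟨hp, ?_, hcom⟩, hcard⟩, hmap⟩
  refine le_antisymm (ExtraTwo.frattini_le_of_sq _ fun x => hmemc _ (hsq x x.2))
    (hcom ▸ Transfer.commutator_le_frattini_of_isPGroup hp)


/-- Let z be an involution of the finite group G with centralizer C whose generalized Fitting subgroup Q is extraspecial of width at least 3 (order 2^(2w+1), w ≥ 3); let g be an element of G with g z g⁻¹ in Q but outside the centre Z of Q, and t an involution lying in both Q and g Q g⁻¹ that is not conjugate to z; write P for the centralizer of t in Q and suppose that the elements of C acting trivially by conjugation on P modulo the subgroup generated by t and z are exactly the elements of Q. Then the image of P in the centralizer of t modulo the subgroup generated by t is a large extraspecial 2-subgroup there, and g z g⁻¹ is conjugate to z inside the subgroup generated by P and the centralizer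 of t in g Q g⁻¹. -/
theorem result {G : Type*} [Group G] [Finite G] (z : G) (hz : orderOf z = 2) (Q : Subgroup G) (hQC : Q ≤ Subgroup.centralizer ({z} : Set G)) (hF : (Cfsg.generalizedFittingSubgroup ↥(Subgroup.centralizer ({z} : Set G))).map (Subgroup.centralizer ({z} : Set G)).subtype = Q) (hQ : Cfsg.IsExtraspecial 2 ↥Q) (w : ℕ) (hw : 3 ≤ w) (hcard : Nat.card ↥Q = 2 ^ (2 * w + 1)) (g : G) (hgQ : g * z * g⁻¹ ∈ Q) (hgZ : g * z * g⁻¹ ∉ ((Subgroup.center ↥Q).map Q.subtype)) (t : G) (ht : orderOf t = 2) (htQ : t ∈ Q ⊓ (Q).map (MulAut.conj g).toMonoidHom) (htz : ¬ IsConj z t) (P : Subgroup G) (hP : P = Q ⊓ Subgroup.centralizer ({t} : Set G)) (hCP : ∀ c ∈ Subgroup.centralizer ({z} : Set G), (∀ x ∈ P, ∃ y ∈ Subgroup.closure ({t, z} : Set G), c * x * c⁻¹ = x * y) ↔ c ∈ Q) [hn : ((Subgroup.zpowers t).subgroupOf (Subgroup.centralizer ({t} : Set G))).Normal] : Cfsg.IsLargeExtraspecial ((P.subgroupOf (Subgroup.centralizer ({t} : Set G))).map (QuotientGroup.mk' ((Subgroup.zpowers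 t).subgroupOf (Subgroup.centralizer ({t} : Set G))))) ∧ ∃ x ∈ P ⊔ ((Q).map (MulAut.conj g).toMonoidHom ⊓ Subgroup.centralizer ({t} : Set G)), x * (g * z * g⁻¹) * x⁻¹ = z := by
  classical
  haveI : Fact (Nat.Prime 2) := ⟨Nat.prime_two⟩
  set C := Subgroup.centralizer ({z} : Set G) with hCdef
  have hz2 : z * z = 1 := by rw [← pow_two, ← hz]; exact pow_orderOf_eq_one z
  have hz1 : z ≠ 1 := fun e => by simp [e] at hz
  have hzC : z ∈ C := Subgroup.mem_centralizer_singleton_iff.2 rfl
  -- the generalized Fitting subgroup of `C` is `Q` and is self-centralizing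
  have hcentC : ∀ c ∈ C, (∀ q ∈ Q, c * q = q * c) → c ∈ Q := by
    intro c hc h
    have hm : (⟨c, hc⟩ : ↥C) ∈ generalizedFittingSubgroup ↥C := by
      refine Components.centralizer_generalizedFittingSubgroup_le
        (Subgroup.mem_centralizer_iff.2 fun x hx => Subtype.ext ?_)
      exact (h x (hF ▸ ⟨x, hx, rfl⟩)).symm
    exact hF ▸ ⟨_, hm, rfl⟩
  have hnormC : ∀ c ∈ C, ∀ q ∈ Q, c * q * c⁻¹ ∈ Q := by
    intro c hc q hq
    rw [← hF] at hq ⊢
    obtain ⟨x, hx, rfl⟩ := hq
    haveI : (generalizedFittingSubgroup ↥C).Normal := Components.generalizedFittingSubgroup_normal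
    exact ⟨⟨c, hc⟩ * x * ⟨c, hc⟩⁻¹, Subgroup.Normal.conj_mem inferInstance x hx _, rfl⟩
  have hzQ : z ∈ Q := hcentC z hzC fun q hq =>
    (Subgroup.mem_centralizer_singleton_iff.1 (hQC hq)).symm
  obtain ⟨z', hz'⟩ := ExtraTwo.exists_gen hQ
  obtain rfl : z' = z := ((hz'.eq_of_central hzQ fun q hq =>
    ((Subgroup.mem_centralizer_singleton_iff.1 (hQC hq)).symm : z * q = q * z)).resolve_left hz1).symm
  have hG : Good Q z' :=
    { x_mem := hzQ
      x_sq := hz2
      x_ne := hz1
      le_cent := fun q hq => (hz'.commute hq).eq.symm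
      comm := fun a ha b hb => (hz'.conj_cases ha hb).imp id fun e => e.trans (hz'.commute hb).eq
      centre := fun a ha hc => hz'.eq_of_central ha hc
      nonab := by
        by_contra hne
        push Not at hne
        have h1 : commutator ↥Q = ⊥ := by
          rw [commutator_def, Subgroup.commutator_eq_bot_iff_le_centralizer]
          exact fun a _ => Subgroup.mem_centralizer_iff.2 fun b _ => Subtype.ext (hne b b.2 a a.2)
        have hc2 := hQ.2
        rw [← hQ.1.2.2, h1, Subgroup.card_bot] at hc2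
        exact absurd hc2 (by norm_num)
      norm := fun c hc => hnormC c (Subgroup.mem_centralizer_singleton_iff.2 hc)
      cent := fun c hc => hcentC c (Subgroup.mem_centralizer_singleton_iff.2 (hc z' hzQ)) hc }
  rw [hz'.map_center_eq] at hgZ
  have hgH : g ∉ C := fun h => hgZ (by
    rw [mul_inv_eq_iff_eq_mul.2 (Subgroup.mem_centralizer_singleton_iff.1 h)]
    exact Subgroup.mem_zpowers z')
  have S := ExtraTwo.Pair.setting_of_good hG hgH hgQ
  set Qs := Q.map (MulAut.conj g).toMonoidHom with hQs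
  set s := g * z' * g⁻¹ with hs
  have hsz : IsConj z' s := isConj_iff.2 ⟨g, rfl⟩
  obtain ⟨⟨a₀, ha₀, has₀⟩, b₀, hb₀, hbz₀⟩ := S.exists_move
  have hszs : IsConj z' (z' * s) := isConj_iff.2 ⟨b₀, hbz₀⟩
  have htQ' : t ∈ Q := htQ.1
  have htS : t ∈ Qs := htQ.2
  have ht2 : t * t = 1 := by rw [← pow_two, ← ht]; exact pow_orderOf_eq_one t
  have ht1 : t ≠ 1 := fun e => by simp [e] at ht
  have hti : t⁻¹ = t := inv_eq_of_mul_eq_one_right ht2
  have hzi : z'⁻¹ = z' := inv_eq_of_mul_eq_one_right hz2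
  have tne : t ≠ z' := fun e => htz (e ▸ IsConj.refl _)
  have tns : t ≠ s := fun e => htz (e ▸ hsz)
  have tnzs : t ≠ z' * s := fun e => htz (e ▸ hszs)
  have cz : Commute z' t := (hG.le_cent t htQ').symm
  have cs : Commute s t := (S.hS.le_cent t htS).symm
  have memT : ∀ {x : G}, x ∈ Subgroup.zpowers t ↔ x = 1 ∨ x = t := by
    intro x
    refine ⟨LargeExtra.eq_or_of_mem_zpowers ht2, ?_⟩
    rintro (rfl | rfl)
    exacts [one_mem _, Subgroup.mem_zpowers _]
  -- elements commuting with `z` in both groups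
  let S0 := extend hG (Subgroup.zpowers z') (Subgroup.zpowers_le.2 hzQ) (Subgroup.mem_zpowers z') t htQ'
  have hS0 : ∀ x, x ∈ S0 → x = 1 ∨ x = z' ∨ x = t ∨ x = t * z' := by
    intro x hx
    rcases mem_extend.1 hx with h | h <;>
      rcases LargeExtra.eq_or_of_mem_zpowers hz2 h with e | e
    · exact Or.inl e
    · exact Or.inr (Or.inl e)
    · exact Or.inr (Or.inr (Or.inl (inv_mul_eq_one.1 e).symm))
    · exact Or.inr (Or.inr (Or.inr (inv_mul_eq_iff_eq_mul.1 e)))
  have hPmem : ∀ {x}, x ∈ P ↔ x ∈ Q ∧ x * t = t * x := by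
    intro x; rw [hP, Subgroup.mem_inf, Subgroup.mem_centralizer_singleton_iff]
  have zP : z' ∈ P := hPmem.2 ⟨hzQ, cz.eq⟩
  have tP : t ∈ P := hPmem.2 ⟨htQ', rfl⟩
  have sP : s ∈ P := hPmem.2 ⟨hgQ, cs.eq⟩
  have sep : ∀ y ∈ Q, y ∉ S0 → ∃ p ∈ P, p * y * p⁻¹ = y * z' := by
    intro y hy hyS
    obtain ⟨p, hp, hpS, hpy⟩ := exists_separating hG S0 (LargeExtra.extend_le ..)
      (LargeExtra.le_extend _ _ _ _ _ _ (Subgroup.mem_zpowers z')) hy hyS
    exact ⟨p, hPmem.2 ⟨hp, hpS t (LargeExtra.self_mem_extend ..)⟩, hpy⟩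
  have sS0 : s ∉ S0 := fun h => by
    rcases hS0 s h with e | e | e | e
    · exact S.hS.x_ne e
    · exact S.ne e
    · exact tns e.symm
    · refine tnzs ?_
      rw [e, ← cz.eq, ← mul_assoc, hz2, one_mul]
  obtain ⟨a, haP, has⟩ := sep s hgQ sS0
  -- a mover inside `Qs`
  let S1 := extend S.hS (Subgroup.zpowers s) (Subgroup.zpowers_le.2 S.hS.x_mem)
    (Subgroup.mem_zpowers s) t htS
  have zS1 : z' ∉ S1 := fun h => by
    rcases mem_extend.1 h with h | h <;>
      rcases LargeExtra.eq_or_of_mem_zpowers S.hS.x_sq h with e | e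
    · exact hz1 e
    · exact S.ne e.symm
    · exact tne (inv_mul_eq_one.1 e)
    · refine tnzs ?_
      rw [inv_mul_eq_iff_eq_mul.1 e, mul_assoc, S.hS.x_sq, mul_one]
  obtain ⟨b, hb, hbS, hbz⟩ := exists_separating S.hS S1 (LargeExtra.extend_le ..)
    (LargeExtra.le_extend _ _ _ _ _ _ (Subgroup.mem_zpowers s)) S.hz zS1
  have hbt : b * t = t * b := hbS t (LargeExtra.self_mem_extend ..)
  obtain ⟨haz, hazs, hbs, hbzs⟩ := S.moves (hPmem.1 haP).1 has hb hbz
  refine ⟨?_, (a * b)⁻¹, inv_mem (mul_mem (Subgroup.mem_sup_left haP) (Subgroup.mem_sup_right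
    ⟨hb, Subgroup.mem_centralizer_singleton_iff.2 hbt⟩)), ?_⟩
  swap
  · have : a * b * z' * (a * b)⁻¹ = s := by
      calc a * b * z' * (a * b)⁻¹ = a * (b * z' * b⁻¹) * a⁻¹ := by group
        _ = s := by rw [hbz, hazs]
    rw [← this]; group
  -- the quotient
  set Ct := Subgroup.centralizer ({t} : Set G) with hCt
  set T := (Subgroup.zpowers t).subgroupOf Ct with hT
  set π := QuotientGroup.mk' T with hπ
  have mker : ∀ x : ↥Ct, π x = 1 ↔ (x : G) = 1 ∨ (x : G) = t := fun x => by
    rw [QuotientGroup.mk'_apply, QuotientGroup.eq_one_iff, hT, Subgroup.mem_subgroupOf, memT]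
  have meq : ∀ x y : ↥Ct, π x = π y ↔ (y : G) = x ∨ (y : G) = x * t := fun x y => by
    rw [← mul_left_inj (π x)⁻¹, mul_inv_cancel, eq_comm, ← map_inv, ← map_mul, mker]
    have hxt : (x : G) * t = t * x := Subgroup.mem_centralizer_singleton_iff.1 x.2
    simp only [Subgroup.coe_mul, Subgroup.coe_inv, mul_inv_eq_iff_eq_mul, one_mul]
    rw [hxt]
  have inCt : ∀ {x}, x ∈ P → x ∈ Ct := fun hx => Subgroup.mem_centralizer_singleton_iff.2 (hPmem.1 hx).2
  let zc : ↥Ct := ⟨z', inCt zP⟩
  let sc : ↥Ct := ⟨s, inCt sP⟩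
  set Pb := (P.subgroupOf Ct).map π with hPb
  have memPb : ∀ p : ↥Ct, π p ∈ Pb → (p : G) ∈ P := by
    rintro p ⟨q, hq, e⟩
    rcases (meq q p).1 e with e | e <;> rw [e]
    exacts [hq, mul_mem hq tP]
  have mkPb : ∀ p : ↥Ct, (p : G) ∈ P → π p ∈ Pb := fun p hp => ⟨p, hp, rfl⟩
  have hPp : IsPGroup 2 ↥Pb :=
    ((hQ.1.1.to_le (hP ▸ inf_le_left : P ≤ Q)).comap_of_injective Ct.subtype Ct.subtype_injective).map π
  have hzb : orderOf (π zc) = 2 := by
    refine orderOf_eq_prime ?_ fun e => ?_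
    · rw [pow_two, ← map_mul, mker]; exact Or.inl hz2
    · rcases (mker _).1 e with e | e
      · exact hz1 e
      · exact tne e.symm
  -- no element of `P` outside `⟨z, t⟩` is central in the quotient
  have hcen : ∀ x : ↥Ct, (x : G) ∈ P → (∀ y ∈ P, (x : G) * y = y * x) →
      π x = 1 ∨ π x = π zc := by
    intro x hx hc
    have hxS : (x : G) ∈ S0 := by
      by_contra h
      obtain ⟨p, hp, he⟩ := sep x (hPmem.1 hx).1 h
      rw [conj_eq_iff_comm.2 (hc p hp).symm] at he
      exact hz1 (by simpa using he)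
    rcases hS0 _ hxS with e | e | e | e
    · exact Or.inl ((mker x).2 (Or.inl e))
    · exact Or.inr ((meq x zc).2 (Or.inl e.symm))
    · exact Or.inl ((mker x).2 (Or.inr e))
    · refine Or.inr (Eq.symm ((meq zc x).2 (Or.inr ?_)))
      rw [e]; exact cz.eq.symm
  -- commuting in the quotient is commuting in `P`
  have hlift : ∀ x y : ↥Ct, (x : G) ∈ Q → (y : G) ∈ Q → π x * π y = π y * π x →
      (x : G) * y = y * x := by
    intro x y hx hy e
    rw [← map_mul, ← map_mul] at e
    rcases (meq _ _).1 e with h | h <;> simp only [Subgroup.coe_mul] at h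
    · exact h.symm
    · exfalso
      have hxy := hz'.comm_cases hy hx
      rw [h] at hxy
      rw [show (x : G) * y * t * (y : G)⁻¹ * (x : G)⁻¹ = t by
        have h1 : (y : G) * t = t * y := Subgroup.mem_centralizer_singleton_iff.1 y.2
        have h2 : (x : G) * t = t * x := Subgroup.mem_centralizer_singleton_iff.1 x.2
        calc (x : G) * y * t * (y : G)⁻¹ * (x : G)⁻¹
            = (x : G) * ((y : G) * t) * (y : G)⁻¹ * (x : G)⁻¹ := by group
          _ = (x : G) * t * (x : G)⁻¹ := by rw [h1]; group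
          _ = t := by rw [h2, mul_inv_cancel_right]] at hxy
      rcases hxy with e' | e'
      exacts [ht1 e', tne e']
  have hzc : ∀ q ∈ Pb, Commute (π zc) q := by
    rintro _ ⟨p, hp, rfl⟩
    show π zc * π p = π p * π zc
    rw [← map_mul, ← map_mul]
    exact congrArg π (Subtype.ext (hz'.commute (hPmem.1 hp).1).eq)
  obtain ⟨hext, hmap⟩ : IsExtraspecial 2 ↥Pb ∧
      (Subgroup.center ↥Pb).map Pb.subtype = Subgroup.zpowers (π zc) := by
    refine extra_of hPp hzb (mkPb zc zP) hzc ?_ ?_ ?_ ?_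
    · rintro _ ⟨p, hp, rfl⟩ _ ⟨q, hq, rfl⟩
      rw [← map_inv, ← map_inv, ← map_mul, ← map_mul, ← map_mul]
      rcases hz'.comm_cases (hPmem.1 hp).1 (hPmem.1 hq).1 with e | e
      · exact Or.inl ((mker _).2 (Or.inl e))
      · exact Or.inr (congrArg π (Subtype.ext e))
    · rintro _ ⟨p, hp, rfl⟩
      rw [← map_mul]
      rcases hz'.sq_cases (hPmem.1 hp).1 with e | e
      · exact Or.inl ((mker _).2 (Or.inl e))
      · exact Or.inr (congrArg π (Subtype.ext e))
    · rintro _ ⟨p, hp, rfl⟩ hc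
      refine hcen p hp fun y hy => ?_
      exact hlift p ⟨y, inCt hy⟩ (hPmem.1 hp).1 (hPmem.1 hy).1 (hc _ (mkPb _ hy)).eq
    · refine ⟨π ⟨a, inCt haP⟩, mkPb _ haP, π sc, mkPb _ sP, fun e => ?_⟩
      have h := hlift _ _ (hPmem.1 haP).1 hgQ e.eq
      rw [conj_eq_iff_comm.2 h] at has
      exact hz1 (left_eq_mul.1 has)
  -- elements commuting with `z` or `s` in the quotient commute with it
  have fixz : ∀ c : ↥Ct, π c * π zc = π zc * π c → (c : G) * z' = z' * c := by
    intro c hc
    rw [← map_mul, ← map_mul] at hc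
    rcases (meq _ _).1 hc with h | h <;> simp only [Subgroup.coe_mul, zc] at h
    · exact h.symm
    · exfalso
      have hct : (c : G) * t = t * c := Subgroup.mem_centralizer_singleton_iff.1 c.2
      obtain ⟨p, hp, -, hpt⟩ := exists_separating hG (Subgroup.zpowers z') (Subgroup.zpowers_le.2 hzQ)
        (Subgroup.mem_zpowers z') htQ' (fun hh => by
          rcases LargeExtra.eq_or_of_mem_zpowers hz2 hh with e | e
          exacts [ht1 e, tne e])
      have h2 : (c : G) * z' * (c : G)⁻¹ = t * z' := by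
        have : (c : G) * z' = z' * c * t := by rw [h, mul_assoc, mul_assoc, ht2, mul_one]
        rw [this, mul_assoc z', hct, mul_assoc, mul_assoc t, mul_inv_cancel, mul_one, cz.eq]
      refine htz ((isConj_iff.2 ⟨(c : G), h2⟩).trans (isConj_iff.2 ⟨p, ?_⟩))
      rw [show p * (t * z') * p⁻¹ = (p * t * p⁻¹) * (p * z' * p⁻¹) by group, hpt,
        conj_eq_iff_comm.2 (hG.le_cent p hp), mul_assoc, hz2, mul_one]
  have fixs : ∀ c : ↥Ct, π c * π sc = π sc * π c → (c : G) * s = s * c := by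
    intro c hc
    rw [← map_mul, ← map_mul] at hc
    rcases (meq _ _).1 hc with h | h <;> simp only [Subgroup.coe_mul, sc] at h
    · exact h.symm
    · exfalso
      have hct : (c : G) * t = t * c := Subgroup.mem_centralizer_singleton_iff.1 c.2
      obtain ⟨p, hp, -, hpt⟩ := exists_separating S.hS (Subgroup.zpowers s)
        (Subgroup.zpowers_le.2 S.hS.x_mem) (Subgroup.mem_zpowers s) htS (fun hh => by
          rcases LargeExtra.eq_or_of_mem_zpowers S.hS.x_sq hh with e | e
          exacts [ht1 e, tns e])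
      have h2 : (c : G) * s * (c : G)⁻¹ = t * s := by
        have : (c : G) * s = s * c * t := by rw [h, mul_assoc, mul_assoc, ht2, mul_one]
        rw [this, mul_assoc s, hct, mul_assoc, mul_assoc t, mul_inv_cancel, mul_one, cs.eq]
      refine htz (hsz.trans ((isConj_iff.2 ⟨(c : G), h2⟩).trans (isConj_iff.2 ⟨p, ?_⟩)))
      rw [show p * (t * s) * p⁻¹ = (p * t * p⁻¹) * (p * s * p⁻¹) by group, hpt,
        conj_eq_iff_comm.2 (S.hS.le_cent p hp), mul_assoc, S.hS.x_sq, mul_one]
  have hcent : Subgroup.centralizer (Pb : Set (↥Ct ⧸ T)) = (Subgroup.center ↥Pb).map Pb.subtype := by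
    rw [hmap]
    refine le_antisymm (fun x hx => ?_) ?_
    · obtain ⟨c, rfl⟩ := QuotientGroup.mk'_surjective T x
      have hc := fun q hq => (Subgroup.mem_centralizer_iff.1 hx q hq).symm
      have hcz := fixz c (hc _ (mkPb _ zP))
      have hcP : ∀ y (hy : y ∈ P), (c : G) * y * (c : G)⁻¹ = y ∨ (c : G) * y * (c : G)⁻¹ = y * t := by
        intro y hy
        have h := hc _ (mkPb ⟨y, inCt hy⟩ hy)
        rw [← map_mul, ← map_mul] at h
        rcases (meq _ _).1 h with h | h <;> simp only [Subgroup.coe_mul] at h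
        · left; rw [← h, mul_inv_cancel_right]
        · right
          have hct : (c : G) * t = t * c := Subgroup.mem_centralizer_singleton_iff.1 c.2
          have : (c : G) * y = y * c * t := by rw [h, mul_assoc, mul_assoc, ht2, mul_one]
          rw [this, mul_assoc y, hct, mul_assoc, mul_assoc t, mul_inv_cancel, mul_one]
      have hcQ : (c : G) ∈ Q := (hCP c (Subgroup.mem_centralizer_singleton_iff.2 hcz)).1 fun y hy => by
        rcases hcP y hy with e | e
        · exact ⟨1, one_mem _, by rw [e, mul_one]⟩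
        · exact ⟨t, Subgroup.subset_closure (by simp), e⟩
      have hcP' : (c : G) ∈ P := hPmem.2 ⟨hcQ, Subgroup.mem_centralizer_singleton_iff.1 c.2⟩
      rcases hcen c hcP' (fun y hy => (hlift c ⟨y, inCt hy⟩ hcQ (hPmem.1 hy).1 (hc _ (mkPb _ hy)))) with e | e <;> rw [e]
      exacts [one_mem _, Subgroup.mem_zpowers _]
    · rw [Subgroup.zpowers_le]
      exact Subgroup.mem_centralizer_iff.2 fun q hq => (hzc q hq).eq.symm
  have hnorm : Subgroup.centralizer (((Subgroup.center ↥Pb).map Pb.subtype : Subgroup (↥Ct ⧸ T)) :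
      Set (↥Ct ⧸ T)) ≤ Subgroup.normalizer (Pb : Set (↥Ct ⧸ T)) := by
    intro x hx
    rw [hmap] at hx
    obtain ⟨c, rfl⟩ := QuotientGroup.mk'_surjective T x
    have hcz := fixz c ((Subgroup.mem_centralizer_iff.1 hx _ (Subgroup.mem_zpowers _)).symm)
    have key : ∀ c : ↥Ct, (c : G) * z' = z' * c → ∀ q ∈ Pb, π c * q * (π c)⁻¹ ∈ Pb := by
      rintro c hcz _ ⟨p, hp, rfl⟩
      rw [← map_inv, ← map_mul, ← map_mul]
      exact mkPb _ (hPmem.2 ⟨hG.norm _ hcz _ (hPmem.1 hp).1,
        Subgroup.mem_centralizer_singleton_iff.1 (c * p * c⁻¹).2⟩)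
    rw [Subgroup.mem_normalizer_iff]
    refine fun q => ⟨key c hcz q, fun h => ?_⟩
    have := key c⁻¹ (Commute.inv_left (hcz : Commute (c : G) z')).eq _ h
    rw [map_inv] at this
    rwa [show (π c)⁻¹ * (π c * q * (π c)⁻¹) * ((π c)⁻¹)⁻¹ = q by group] at this
  refine ⟨hext, hcent, hnorm, fun K hK hPK => ?_⟩
  have hzfree : ∀ k ∈ K, Commute (π zc) k → k = 1 := fun k hk hc =>
    LargeES.eq_one_of_commute hext hcent hnorm hK hPK hk fun x hx => by
      rw [hmap] at hx
      obtain ⟨i, rfl⟩ := Subgroup.mem_zpowers_iff.1 hx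
      exact hc.zpow_left i
  have hsb : π sc ∉ (Subgroup.center ↥Pb).map Pb.subtype := by
    rw [hmap]
    intro h
    have hzz : π zc * π zc = 1 := by rw [← pow_two, ← hzb]; exact pow_orderOf_eq_one _
    rcases LargeExtra.eq_or_of_mem_zpowers hzz h with e | e
    · rcases (mker _).1 e with e | e
      exacts [S.hS.x_ne e, tns e.symm]
    · rcases (meq _ _).1 e with e | e
      · exact S.ne e.symm
      · exact zS1 ((show z' = s * t from e) ▸ mul_mem (LargeExtra.le_extend _ _ _ _ _ _ (Subgroup.mem_zpowers s))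
          (LargeExtra.self_mem_extend ..))
  refine LargeES.eq_bot_of_fixedPointFree hext hcent hnorm hK hPK (mkPb _ sP) hsb
    (by rw [← map_mul, mker]; exact Or.inl S.hS.x_sq) ?_
  intro k hk hc
  obtain ⟨c, rfl⟩ := QuotientGroup.mk'_surjective T k
  have hcs := fixs c hc.eq.symm
  have hinv := LargeES.inverts_of_fixedPointFree
    (show π zc * π zc = 1 by rw [← pow_two, ← hzb]; exact pow_orderOf_eq_one _)
    (fun l hl => (Subgroup.mem_normalizer_iff.1 (hPK (mkPb _ zP)) l).1 hl) hzfree hk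
  rw [← map_inv, ← map_mul, ← map_mul, ← map_inv] at hinv
  have hzQs : (c : G) * z' * (c : G)⁻¹ * z'⁻¹ ∈ Qs :=
    mul_mem (S.hS.norm _ hcs _ S.hz) (inv_mem S.hz)
  have hcc : (c : G) * c ∈ Qs := by
    rcases (meq _ _).1 hinv with e | e <;> simp only [Subgroup.coe_mul, Subgroup.coe_inv, zc] at e
    · rw [show (c : G) * z' * (c : G)⁻¹ * z'⁻¹ = (c : G) * (z' * c * z'⁻¹)⁻¹ by group, ← e] at hzQs
      have hi : ((c : G)⁻¹)⁻¹ = c := inv_inv _
      simpa [hi] using hzQs
    · have e' : z' * (c : G) * z'⁻¹ = (c : G)⁻¹ * t := by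
        calc z' * (c : G) * z'⁻¹ = z' * (c : G) * z'⁻¹ * t * t := by rw [mul_assoc _ t t, ht2, mul_one]
          _ = (c : G)⁻¹ * t := by rw [e]
      rw [show (c : G) * z' * (c : G)⁻¹ * z'⁻¹ = (c : G) * (z' * c * z'⁻¹)⁻¹ by group, e',
        mul_inv_rev, inv_inv, hti] at hzQs
      have hct : (c : G) * t = t * c := Subgroup.mem_centralizer_singleton_iff.1 c.2
      have := mul_mem (inv_mem htS) hzQs
      rw [hti] at this
      have h2 : t * ((c : G) * (t * c)) = c * c := by
        rw [← mul_assoc (c : G), hct, mul_assoc, ← mul_assoc, ht2, one_mul]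
      rwa [h2] at this
  obtain ⟨n, hn⟩ := (hQ.1.1.map (MulAut.conj g).toMonoidHom) ⟨_, hcc⟩
  have hn' : ((c : G) * c) ^ (2 ^ n) = 1 := congrArg Subtype.val hn
  have hpow : π c ^ (2 ^ (n + 1)) = 1 := by
    rw [pow_succ', pow_mul, pow_two, ← map_mul, ← map_pow, mker]
    exact Or.inl (by simpa using hn')
  refine orderOf_eq_one_iff.1 (Nat.eq_one_of_dvd_coprimes ?_ (orderOf_dvd_of_pow_eq_one hpow) dvd_rfl)
  refine ((Nat.coprime_two_left.2 (Odd.of_dvd_nat hK ?_)).pow_left _)
  rw [← Subgroup.orderOf_mk (π c) hk]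
  exact orderOf_dvd_natCard _

end Cfsg.Agent.S5429
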