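import Cfsg.Statements.S5430
import Mathlib
import Cfsg.Agent.Lib.ExtraTwo.Pair
import Cfsg.Agent.Lib.PSolvable.Core
import Cfsg.Agent.Lib.Components.Basic

set_option autoImplicit false
open Cfsg

namespace Cfsg.Agent.S5430

open Cfsg.Agent.Lib.LargeExtra (conj_eq_iff_comm)


/-- Let Q be a large extraspecial 2-subgroup of the finite group G (extraspecial; centralizer equal to its centre; normal in the centralizer of its centre; normalizing no non-trivial subgroup of odd order) with centre generated by z, an involution, of width w ≥ 2 (order 2^(2w+1)); let g be an element outside the centralizer H of z with g z g⁻¹ in Q; write V for the subgroup generated by z and g z g⁻¹, X for the subgroup generated by Q and g Q g⁻¹, R for the subgroup generated by the centralizer of z in g Q g⁻¹ and the centralizer of g z g⁻¹ in Q, and E for the intersection of Q and g Q g⁻¹. Then R is the centralizer of V in X and is the largest normal 2-subgroup of X, and X/R is isomorphic to the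 symmetric group of degree 3; moreover the normalizer of V is the product of X and the centralizer of V in H, X is normal in it, and modulo R it is the direct product of X/R and of the centralizer of V in H modulo R. -/
theorem result {G : Type*} [Group G] [Finite G] (Q : Subgroup G) (hQ : Cfsg.IsLargeExtraspecial Q) (z : G) (hz : ((Subgroup.center ↥Q).map Q.subtype) = Subgroup.zpowers z) (hz2 : orderOf z = 2) (w : ℕ) (hw : 2 ≤ w) (hcard : Nat.card ↥Q = 2 ^ (2 * w + 1)) (g : G) (hgH : g ∉ Subgroup.centralizer ({z} : Set G)) (hgQ : g * z * g⁻¹ ∈ Q) (V X R E : Subgroup G) (hV : V = Subgroup.closure ({z, g * z * g⁻¹} : Set G)) (hX : X = Q ⊔ (Q).map (MulAut.conj g).toMonoidHom) (hR : R = ((Q).map (MulAut.conj g).toMonoidHom ⊓ Subgroup.centralizer ({z} : Set G)) ⊔ (Q ⊓ Subgroup.centralizer ({g * z * g⁻¹} : Set G))) (hE : E = Q ⊓ (Q).map (MulAut.conj g).toMonoidHom) : R = X ⊓ Subgroup.centralizer (V : Set G) ∧ R = (Cfsg.pCore 2 ↥X).map X.subtype ∧ (∃ h : (R.subgroupOf X).Normal,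 Nonempty (↥X ⧸ R.subgroupOf X ≃* Equiv.Perm (Fin 3))) ∧ Subgroup.normalizer (V : Set G) = X ⊔ (Subgroup.centralizer ({z} : Set G) ⊓ Subgroup.centralizer (V : Set G)) ∧ (∀ y ∈ Subgroup.normalizer (V : Set G), ∀ x ∈ X, y * x * y⁻¹ ∈ X) ∧ R ≤ Subgroup.centralizer ({z} : Set G) ⊓ Subgroup.centralizer (V : Set G) ∧ (∀ x ∈ X, ∀ c ∈ Subgroup.centralizer ({z} : Set G) ⊓ Subgroup.centralizer (V : Set G), x * c * x⁻¹ * c⁻¹ ∈ R) ∧ X ⊓ (Subgroup.centralizer ({z} : Set G) ⊓ Subgroup.centralizer (V : Set G)) = R := by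
  subst hV hX hR hE
  have hg := Lib.ExtraTwo.isCentralGen_of_eq_zpowers hQ.1 hz2 hz
  have S := Lib.ExtraTwo.Pair.setting_of_large hQ hg hgH hgQ
  have hp : IsPGroup 2 ↥Q := hQ.1.1.1
  set Qs := Q.map (MulAut.conj g).toMonoidHom with hQs
  set s := g * z * g⁻¹ with hs
  set R := (Qs ⊓ Subgroup.centralizer ({z} : Set G)) ⊔ (Q ⊓ Subgroup.centralizer ({s} : Set G)) with hR
  set V := Subgroup.closure ({z, s} : Set G) with hVdef
  obtain ⟨f, hfs, hfk, hker⟩ := S.exists_hom
  have hRC : R ≤ Subgroup.centralizer (V : Set G) := fun x hx => S.mem_centralizer_V.2 (S.R_commute hx)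
  have hXC : R = (Q ⊔ Qs) ⊓ Subgroup.centralizer (V : Set G) := by
    refine le_antisymm (le_inf S.R_le_X hRC) ?_
    rintro x ⟨hx, hxc⟩
    have : (⟨x, hx⟩ : ↥(Q ⊔ Qs)) ∈ f.ker := MonoidHom.mem_ker.2 ((hfk _).2 (S.mem_centralizer_V.1 hxc))
    rw [hker] at this
    exact this
  have hHC : ∀ c ∈ Subgroup.centralizer (V : Set G), c ∈ Subgroup.centralizer ({z} : Set G) := fun c hc =>
    Subgroup.mem_centralizer_singleton_iff.2 (S.mem_centralizer_V.1 hc).1
  -- `[X, C(V)] ≤ R`
  have hcomm : ∀ x ∈ Q ⊔ Qs, ∀ c ∈ Subgroup.centralizer (V : Set G), x * c * x⁻¹ * c⁻¹ ∈ R := by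
    have hmul : ∀ x y : G, x ∈ Q ⊔ Qs → (∀ c ∈ Subgroup.centralizer (V : Set G), x * c * x⁻¹ * c⁻¹ ∈ R) →
        (∀ c ∈ Subgroup.centralizer (V : Set G), y * c * y⁻¹ * c⁻¹ ∈ R) →
        ∀ c ∈ Subgroup.centralizer (V : Set G), x * y * c * (x * y)⁻¹ * c⁻¹ ∈ R := by
      intro x y hxX hx hy c hc
      rw [show x * y * c * (x * y)⁻¹ * c⁻¹ = x * (y * c * y⁻¹ * c⁻¹) * x⁻¹ * (x * c * x⁻¹ * c⁻¹) by group]
      exact mul_mem ((Subgroup.mem_normalizer_iff.1 (S.le_normalizer_R hxX) _).1 (hy c hc)) (hx c hc)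
    intro x hx
    rw [Subgroup.sup_eq_closure] at hx
    induction hx using Subgroup.closure_induction'' with
    | one => intro c _; simp
    | mem x hx => exact fun c hc => S.commutator_mem_R hx (S.mem_centralizer_V.1 hc).1 (S.mem_centralizer_V.1 hc).2
    | inv_mem x hx =>
      refine fun c hc => S.commutator_mem_R (hx.imp ?_ ?_) (S.mem_centralizer_V.1 hc).1 (S.mem_centralizer_V.1 hc).2 <;>
        exact inv_mem
    | mul x y hx _ ihx ihy =>
      exact hmul x y (Subgroup.sup_eq_closure Q Qs ▸ hx) ihx ihy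
  obtain ⟨⟨a, ha, has⟩, b, hb, hbz⟩ := S.exists_move
  obtain ⟨haz, hazs, hbs, hbzs⟩ := S.moves ha has hb hbz
  have hzV : z ∈ V := Subgroup.subset_closure (by simp)
  have hsV : s ∈ V := Subgroup.subset_closure (by simp)
  have hNV : ∀ n, n ∈ Subgroup.normalizer (V : Set G) ↔
      n ∈ (Q ⊔ Qs) ⊔ (Subgroup.centralizer ({z} : Set G) ⊓ Subgroup.centralizer (V : Set G)) := by
    intro n
    constructor
    · intro hn
      have hnmem : ∀ v ∈ V, n * v * n⁻¹ ∈ V := fun v hv => (Subgroup.mem_normalizer_iff.1 hn v).1 hv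
      -- first fix z, then fix s
      have step1 : ∃ x ∈ Q ⊔ Qs, Commute (x * n) z := by
        have hne1 : n * z * n⁻¹ ≠ 1 := by simpa using hg.ne_one
        rcases S.V_cases (hnmem z hzV) with e | e | e | e
        · exact absurd e hne1
        · exact ⟨1, one_mem _, by rw [one_mul]; exact conj_eq_iff_comm.1 e⟩
        · refine ⟨(a * b)⁻¹, inv_mem (mul_mem (Subgroup.mem_sup_left ha) (Subgroup.mem_sup_right hb)), ?_⟩
          apply conj_eq_iff_comm.1
          calc (a * b)⁻¹ * n * z * ((a * b)⁻¹ * n)⁻¹ = (a * b)⁻¹ * (n * z * n⁻¹) * (a * b) := by group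
            _ = (a * b)⁻¹ * (a * (b * z * b⁻¹) * a⁻¹) * (a * b) := by rw [e, hbz, hazs]
            _ = z := by group
        · refine ⟨b⁻¹, inv_mem (Subgroup.mem_sup_right hb), ?_⟩
          apply conj_eq_iff_comm.1
          calc b⁻¹ * n * z * (b⁻¹ * n)⁻¹ = b⁻¹ * (n * z * n⁻¹) * b := by group
            _ = b⁻¹ * (b * z * b⁻¹) * b := by rw [e, hbz]
            _ = z := by group
      obtain ⟨x, hx, hxz⟩ := step1
      set m := x * n with hm
      have hms : ∀ v ∈ V, x * v * x⁻¹ ∈ V := by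
        intro v hv
        have hxN : x ∈ Subgroup.normalizer (V : Set G) := by
          have key : ∀ q, q ∈ Q ∨ q ∈ Qs → ∀ w ∈ V, q * w * q⁻¹ ∈ V := by
            intro q hq w hw
            rcases hq with hq | hq
            · rcases S.hQ.comm q hq w (S.mem_V_mem_inf hw).1 with e | e <;> rw [e]
              exacts [hw, mul_mem hw hzV]
            · rcases S.hS.comm q hq w (S.mem_V_mem_inf hw).2 with e | e <;> rw [e]
              exacts [hw, mul_mem hw hsV]
          refine (sup_le ?_ ?_ : Q ⊔ Qs ≤ _) hx <;>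
          · intro q hq
            rw [Subgroup.mem_normalizer_iff]
            refine fun w => ⟨key q (by first | exact Or.inl hq | exact Or.inr hq) w, fun h => ?_⟩
            have := key q⁻¹ (by first | exact Or.inl (inv_mem hq) | exact Or.inr (inv_mem hq)) _ h
            simpa [mul_assoc] using this
        exact (Subgroup.mem_normalizer_iff.1 hxN v).1 hv
      have hmV : m * s * m⁻¹ ∈ V := by
        rw [hm, show x * n * s * (x * n)⁻¹ = x * (n * s * n⁻¹) * x⁻¹ by group]
        exact hms _ (hnmem s hsV)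
      have hmz : m * z * m⁻¹ = z := conj_eq_iff_comm.2 hxz.eq
      have step2 : ∃ y ∈ Q ⊔ Qs, Commute (y * m) z ∧ Commute (y * m) s := by
        rcases S.V_cases hmV with e | e | e | e
        · exact absurd e (by simpa using S.hS.x_ne)
        · exact absurd (e.trans hmz.symm) (by simpa using S.ne)
        · exact ⟨1, one_mem _, by rw [one_mul]; exact hxz, by rw [one_mul]; exact conj_eq_iff_comm.1 e⟩
        · refine ⟨a⁻¹, inv_mem (Subgroup.mem_sup_left ha), ?_, ?_⟩
          · exact Commute.mul_left (S.hQ.le_cent _ (inv_mem ha)) hxz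
          · apply conj_eq_iff_comm.1
            calc a⁻¹ * m * s * (a⁻¹ * m)⁻¹ = a⁻¹ * (m * s * m⁻¹) * a := by group
              _ = a⁻¹ * (a * s * a⁻¹) * a := by rw [e, has, S.zs.eq]
              _ = s := by group
      obtain ⟨y, hy, hyz, hys⟩ := step2
      have hc : y * m ∈ Subgroup.centralizer (V : Set G) := S.mem_centralizer_V.2 ⟨hyz, hys⟩
      have : n = (y * x)⁻¹ * (y * m) := by rw [hm]; group
      rw [this]
      exact mul_mem (Subgroup.mem_sup_left (inv_mem (mul_mem hy hx))) (Subgroup.mem_sup_right ⟨hHC _ hc, hc⟩)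
    · intro hn
      refine (sup_le (sup_le ?_ ?_) ?_ : _ ≤ Subgroup.normalizer (V : Set G)) hn
      · intro q hq
        rw [Subgroup.mem_normalizer_iff]
        have key : ∀ q ∈ Q, ∀ w ∈ V, q * w * q⁻¹ ∈ V := by
          intro q hq w hw
          rcases S.hQ.comm q hq w (S.mem_V_mem_inf hw).1 with e | e <;> rw [e]
          exacts [hw, mul_mem hw hzV]
        refine fun w => ⟨key q hq w, fun h => ?_⟩
        have := key q⁻¹ (inv_mem hq) _ h
        simpa [mul_assoc] using this
      · intro q hq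
        rw [Subgroup.mem_normalizer_iff]
        have key : ∀ q ∈ Qs, ∀ w ∈ V, q * w * q⁻¹ ∈ V := by
          intro q hq w hw
          rcases S.hS.comm q hq w (S.mem_V_mem_inf hw).2 with e | e <;> rw [e]
          exacts [hw, mul_mem hw hsV]
        refine fun w => ⟨key q hq w, fun h => ?_⟩
        have := key q⁻¹ (inv_mem hq) _ h
        simpa [mul_assoc] using this
      · exact inf_le_right.trans (Lib.Components.centralizer_le_normalizer_self V)
  have hpR : IsPGroup 2 ↥R := S.isPGroup_R hp (hp.map _)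
  haveI hRn : (R.subgroupOf (Q ⊔ Qs)).Normal :=
    (Subgroup.normal_subgroupOf_iff_le_normalizer S.R_le_X).2 S.le_normalizer_R
  refine ⟨hXC, ?_, ⟨hRn, ?_⟩, SetLike.ext hNV, ?_, ?_, fun x hx c hc => hcomm x hx c hc.2, ?_⟩
  · -- the largest normal 2-subgroup
    refine le_antisymm ?_ ?_
    · intro x hx
      exact ⟨⟨x, S.R_le_X hx⟩, @Lib.PSolvable.le_pCore _ _ _ (R.subgroupOf (Q ⊔ Qs)) hRn
        (hpR.comap_of_injective _ (Subgroup.subtype_injective _)) _ hx, rfl⟩
    · rintro _ ⟨x, hx, rfl⟩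
      have h2 : x ∈ f.ker := by
        rw [MonoidHom.mem_ker]
        by_contra hne
        have h3 : ∀ σ : Equiv.Perm (Fin 3), σ ≠ 1 → σ ^ 3 ≠ 1 →
            ∃ τ, (σ * (τ * σ * τ⁻¹)) ≠ 1 ∧ (σ * (τ * σ * τ⁻¹)) ^ 3 = 1 := by decide +kernel
        have hpow : ∀ y : ↥(Q ⊔ Qs), y ∈ Cfsg.pCore 2 ↥(Q ⊔ Qs) → f y ^ 3 = 1 → f y = 1 := by
          intro y hy h
          obtain ⟨k, hk⟩ := Lib.PSolvable.pCore_isPGroup (p := 2) ⟨y, hy⟩
          have hk' : f y ^ 2 ^ k = 1 := by
            rw [← map_pow]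
            have := congrArg Subtype.val hk
            simp only [SubmonoidClass.coe_pow, OneMemClass.coe_one] at this
            rw [this, map_one]
          have hg : Nat.gcd 3 (2 ^ k) = 1 := Nat.Coprime.pow_right k (by norm_num)
          exact (pow_one (f y)).symm.trans (hg ▸ pow_gcd_eq_one.2 ⟨h, hk'⟩)
        obtain ⟨τ, hτ1, hτ3⟩ := h3 (f x) hne (fun h => hne (hpow x hx h))
        obtain ⟨t, rfl⟩ := hfs τ
        haveI : (Cfsg.pCore 2 ↥(Q ⊔ Qs)).Normal :=
          @Subgroup.normal_of_characteristic _ _ _ Lib.PSolvable.pCore_characteristic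
        have hmem := mul_mem hx (this.conj_mem x hx t)
        have := hpow _ hmem (by simpa [map_mul, map_inv] using hτ3)
        exact hτ1 (by simpa [map_mul, map_inv] using this)
      rw [hker] at h2
      exact h2
  · exact ⟨(QuotientGroup.quotientMulEquivOfEq hker.symm).trans
      (QuotientGroup.quotientKerEquivOfSurjective f hfs)⟩
  · -- X is normal in N(V)
    intro y hy
    rw [hNV] at hy
    refine fun x hx => (Subgroup.mem_normalizer_iff.1 ((sup_le (Subgroup.le_normalizer) ?_ :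
      (Q ⊔ Qs) ⊔ _ ≤ Subgroup.normalizer ((Q ⊔ Qs : Subgroup G) : Set G)) hy) x).1 hx
    rintro c ⟨-, hc⟩
    rw [Subgroup.mem_normalizer_iff]
    intro x
    have key : ∀ c ∈ Subgroup.centralizer (V : Set G), ∀ x ∈ Q ⊔ Qs, c * x * c⁻¹ ∈ Q ⊔ Qs := by
      intro c hc x hx
      have := S.R_le_X (hcomm x hx c hc)
      rw [show c * x * c⁻¹ = (x * c * x⁻¹ * c⁻¹)⁻¹ * x by group]
      exact mul_mem (inv_mem this) hx
    refine ⟨key c hc x, fun h => ?_⟩
    have := key c⁻¹ (inv_mem hc) _ h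
    simpa [mul_assoc] using this
  · exact le_inf (fun x hx => hHC x (hRC hx)) hRC
  · refine le_antisymm (fun x hx => ?_) (le_inf S.R_le_X (le_inf (fun x hx => hHC x (hRC hx)) hRC))
    rw [hXC]; exact ⟨hx.1, hx.2.2⟩

end Cfsg.Agent.S5430
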