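import Cfsg.Statements.S5431
import Mathlib
import Cfsg.Agent.Lib.ExtraTwo.Pair

set_option autoImplicit false
open Cfsg

namespace Cfsg.Agent.S5431

open Cfsg.Agent.Lib.LargeExtra (conj_eq_iff_comm)


/-- Let Q be a large extraspecial 2-subgroup of the finite group G (extraspecial; centralizer equal to its centre; normal in the centralizer of its centre; normalizing no non-trivial subgroup of odd order) with centre generated by z, an involution, of width w ≥ 2 (order 2^(2w+1)); let g be an element outside the centralizer H of z with g z g⁻¹ in Q; write V for the subgroup generated by z and g z g⁻¹, X for the subgroup generated by Q and g Q g⁻¹, R for the subgroup generated by the centralizer of z in g Q g⁻¹ and the centralizer of g z g⁻¹ in Q, and E for the intersection of Q and g Q g⁻¹. Then V is the centre of R, E lies in the second centre of R, R is nilpotent of class at most 3, E and R/E are elementary abelian, R/E is the direct product of the images of the centralizer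 of g z g⁻¹ in Q and of the centralizer of z in g Q g⁻¹ (R is their product and they meet in E), and the commutator subgroup of X and E lies in V. -/
theorem result {G : Type*} [Group G] [Finite G] (Q : Subgroup G) (hQ : Cfsg.IsLargeExtraspecial Q) (z : G) (hz : ((Subgroup.center ↥Q).map Q.subtype) = Subgroup.zpowers z) (hz2 : orderOf z = 2) (w : ℕ) (hw : 2 ≤ w) (hcard : Nat.card ↥Q = 2 ^ (2 * w + 1)) (g : G) (hgH : g ∉ Subgroup.centralizer ({z} : Set G)) (hgQ : g * z * g⁻¹ ∈ Q) (V X R E : Subgroup G) (hV : V = Subgroup.closure ({z, g * z * g⁻¹} : Set G)) (hX : X = Q ⊔ (Q).map (MulAut.conj g).toMonoidHom) (hR : R = ((Q).map (MulAut.conj g).toMonoidHom ⊓ Subgroup.centralizer ({z} : Set G)) ⊔ (Q ⊓ Subgroup.centralizer ({g * z * g⁻¹} : Set G))) (hE : E = Q ⊓ (Q).map (MulAut.conj g).toMonoidHom) : (Subgroup.center ↥R).map R.subtype = V ∧ E ≤ (Subgroup.upperCentralSeries ↥R 2).map R.subtype ∧ Subgroup.upperCentralSeries ↥R 3 = ⊤ ∧ Cfsg.IsElementaryAbelian 2 E ∧ (∀ x ∈ R, ∀ y ∈ R,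 x * y * x⁻¹ * y⁻¹ ∈ E ∧ x ^ 2 ∈ E) ∧ ((Q).map (MulAut.conj g).toMonoidHom ⊓ Subgroup.centralizer ({z} : Set G)) ⊓ (Q ⊓ Subgroup.centralizer ({g * z * g⁻¹} : Set G)) = E ∧ ⁅X, E⁆ ≤ V := by
  subst hV hX hR hE
  have hg := Lib.ExtraTwo.isCentralGen_of_eq_zpowers hQ.1 hz2 hz
  have S := Lib.ExtraTwo.Pair.setting_of_large hQ hg hgH hgQ
  have hp : IsPGroup 2 ↥Q := hQ.1.1.1
  set Qs := Q.map (MulAut.conj g).toMonoidHom with hQs
  set s := g * z * g⁻¹ with hs
  set R := (Qs ⊓ Subgroup.centralizer ({z} : Set G)) ⊔ (Q ⊓ Subgroup.centralizer ({s} : Set G)) with hR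
  set V := Subgroup.closure ({z, s} : Set G) with hVdef
  set E := Q ⊓ Qs with hE
  have hzV : z ∈ V := Subgroup.subset_closure (by simp)
  have hsV : s ∈ V := Subgroup.subset_closure (by simp)
  have hVE : V ≤ E := fun v hv => S.mem_V_mem_inf hv
  -- conjugating E by the generators
  have hmove : ∀ q, q ∈ Q ∨ q ∈ Qs → ∀ e ∈ E, q * e * q⁻¹ * e⁻¹ ∈ V := by
    intro q hq e he
    rcases hq with hq | hq
    · rcases S.hQ.comm q hq e he.1 with h | h <;> rw [h]
      · simp
      · rw [S.hQ.le_cent e he.1, mul_inv_cancel_right]; exact hzV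
    · rcases S.hS.comm q hq e he.2 with h | h <;> rw [h]
      · simp
      · rw [S.hS.le_cent e he.2, mul_inv_cancel_right]; exact hsV
  have hconjE : ∀ x ∈ Q ⊔ Qs, ∀ e ∈ E, x * e * x⁻¹ * e⁻¹ ∈ V := by
    intro x hx
    rw [Subgroup.sup_eq_closure] at hx
    induction hx using Subgroup.closure_induction'' with
    | one => intro e _; simp
    | mem x hx => exact hmove x hx
    | inv_mem x hx => exact hmove x⁻¹ (hx.imp (fun h => inv_mem (show x ∈ Q from h)) (fun h => inv_mem (show x ∈ Qs from h)))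
    | mul x y _ _ ihx ihy =>
      intro e he
      have hye : y * e * y⁻¹ ∈ E := by
        have := mul_mem (hVE (ihy e he)) he
        simpa [mul_assoc] using this
      rw [show x * y * e * (x * y)⁻¹ * e⁻¹ =
        (x * (y * e * y⁻¹) * x⁻¹ * (y * e * y⁻¹)⁻¹) * (y * e * y⁻¹ * e⁻¹) by group]
      exact mul_mem (ihx _ hye) (ihy e he)
  have hEn : ∀ r ∈ R, ∀ e ∈ E, r * e * r⁻¹ ∈ E := by
    intro r hr e he
    have := mul_mem (hVE (hconjE r (S.R_le_X hr) e he)) he
    simpa [mul_assoc] using this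
  -- generators of R commute and square into E
  have hpq : ∀ p ∈ Qs, ∀ q ∈ Q, Commute p z → Commute q s → p * q * p⁻¹ * q⁻¹ ∈ E := by
    intro p hp q hq hpz hqs
    refine Subgroup.mem_inf.2 ⟨mul_mem (S.hQ.norm p hpz q hq) (inv_mem hq), ?_⟩
    rw [show p * q * p⁻¹ * q⁻¹ = p * (q * p⁻¹ * q⁻¹) by group]
    exact mul_mem hp (S.hS.norm q hqs _ (inv_mem hp))
  have hpp : ∀ p ∈ Qs, ∀ p' ∈ Qs, p * p' * p⁻¹ * p'⁻¹ ∈ E := by
    intro p hp p' hp'
    rcases S.hS.comm p hp p' hp' with h | h <;> rw [h]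
    · simp
    · rw [S.hS.le_cent p' hp', mul_inv_cancel_right]; exact hVE hsV
  have hqq : ∀ q ∈ Q, ∀ q' ∈ Q, q * q' * q⁻¹ * q'⁻¹ ∈ E := by
    intro q hq q' hq'
    rcases S.hQ.comm q hq q' hq' with h | h <;> rw [h]
    · simp
    · rw [S.hQ.le_cent q' hq', mul_inv_cancel_right]; exact hVE hzV
  haveI hEnorm : (E.subgroupOf R).Normal := ⟨fun e he r => hEn r r.2 e he⟩
  have hgenc : ∀ x y : ↥R, ((x : G) ∈ Qs ∨ (x : G) ∈ Q) → ((y : G) ∈ Qs ∨ (y : G) ∈ Q) →
      Commute (QuotientGroup.mk x : ↥R ⧸ E.subgroupOf R) (QuotientGroup.mk y) := by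
    intro x y hx hy
    rw [Commute, SemiconjBy, ← mul_inv_eq_one, mul_inv_rev, ← mul_assoc, ← QuotientGroup.mk_inv,
      ← QuotientGroup.mk_inv, ← QuotientGroup.mk_mul, ← QuotientGroup.mk_mul, ← QuotientGroup.mk_mul,
      QuotientGroup.eq_one_iff, Subgroup.mem_subgroupOf]
    simp only [Subgroup.coe_mul, Subgroup.coe_inv]
    have hxR := S.R_commute x.2
    have hyR := S.R_commute y.2
    rcases hx with hx | hx <;> rcases hy with hy | hy
    · exact hpp _ hx _ hy
    · exact hpq _ hx _ hy hxR.1 hyR.2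
    · have := inv_mem (hpq _ hy _ hx hyR.1 hxR.2)
      simpa [mul_assoc] using this
    · exact hqq _ hx _ hy
  have hdecomp : ∀ x : ↥R, ∃ p q : ↥R, (p : G) ∈ Qs ∧ (q : G) ∈ Q ∧ x = p * q := by
    intro x
    obtain ⟨p, hp, q, hq, hpz, hqs, hx⟩ := S.mem_R_iff.1 x.2
    exact ⟨⟨p, Subgroup.mem_sup_left ⟨hp, Subgroup.mem_centralizer_singleton_iff.2 hpz⟩⟩,
      ⟨q, Subgroup.mem_sup_right ⟨hq, Subgroup.mem_centralizer_singleton_iff.2 hqs⟩⟩, hp, hq, Subtype.ext hx.symm⟩
  have habel : ∀ x y : ↥R ⧸ E.subgroupOf R, x * y = y * x := by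
    intro x y
    obtain ⟨x, rfl⟩ := QuotientGroup.mk_surjective x
    obtain ⟨y, rfl⟩ := QuotientGroup.mk_surjective y
    obtain ⟨p, q, hp, hq, rfl⟩ := hdecomp x
    obtain ⟨p', q', hp', hq', rfl⟩ := hdecomp y
    simp only [QuotientGroup.mk_mul]
    exact Commute.eq (Commute.mul_left
      (Commute.mul_right (hgenc p p' (Or.inl hp) (Or.inl hp')) (hgenc p q' (Or.inl hp) (Or.inr hq')))
      (Commute.mul_right (hgenc q p' (Or.inr hq) (Or.inl hp')) (hgenc q q' (Or.inr hq) (Or.inr hq'))))
  have hcommE : ∀ x ∈ R, ∀ y ∈ R, x * y * x⁻¹ * y⁻¹ ∈ E := by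
    intro x hx y hy
    have := habel (QuotientGroup.mk ⟨x, hx⟩) (QuotientGroup.mk ⟨y, hy⟩)
    rw [← mul_inv_eq_one, mul_inv_rev, ← mul_assoc, ← QuotientGroup.mk_inv, ← QuotientGroup.mk_inv,
      ← QuotientGroup.mk_mul, ← QuotientGroup.mk_mul, ← QuotientGroup.mk_mul, QuotientGroup.eq_one_iff] at this
    exact this
  have hsqE : ∀ x ∈ R, x ^ 2 ∈ E := by
    intro x hx
    obtain ⟨p, q, hp, hq, hpq'⟩ := hdecomp ⟨x, hx⟩
    have h1 : (QuotientGroup.mk p : ↥R ⧸ E.subgroupOf R) ^ 2 = 1 := by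
      rw [← QuotientGroup.mk_pow, QuotientGroup.eq_one_iff, Subgroup.mem_subgroupOf, SubmonoidClass.coe_pow, pow_two]
      rcases S.hS.sq_cases hp with e | e <;> rw [e]
      exacts [one_mem _, hVE hsV]
    have h2 : (QuotientGroup.mk q : ↥R ⧸ E.subgroupOf R) ^ 2 = 1 := by
      rw [← QuotientGroup.mk_pow, QuotientGroup.eq_one_iff, Subgroup.mem_subgroupOf, SubmonoidClass.coe_pow, pow_two]
      rcases S.hQ.sq_cases hq with e | e <;> rw [e]
      exacts [one_mem _, hVE hzV]
    have h3 : (QuotientGroup.mk ((⟨x, hx⟩ : ↥R) ^ 2) : ↥R ⧸ E.subgroupOf R) = 1 := by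
      rw [hpq', QuotientGroup.mk_pow, QuotientGroup.mk_mul, Commute.mul_pow (habel _ _), h1, h2, one_mul]
    have := (QuotientGroup.eq_one_iff (N := E.subgroupOf R) _).1 h3
    exact this
  have hER : E ≤ R := fun e he => Subgroup.mem_sup_right
    ⟨he.1, Subgroup.mem_centralizer_singleton_iff.2 (S.hS.le_cent e he.2)⟩
  -- the centre
  have hcen : (Subgroup.center ↥R).map R.subtype = V := by
    refine le_antisymm ?_ ?_
    · rintro _ ⟨x, hx, rfl⟩
      have hxc : ∀ r ∈ R, Commute (x : G) r := fun r hr =>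
        (congrArg Subtype.val (Subgroup.mem_center_iff.1 hx ⟨r, hr⟩)).symm
      obtain ⟨hxz, hxs⟩ := S.R_commute x.2
      have hP1 : ∀ q ∈ Q, Commute q s → q ∈ R := fun q hq hqs =>
        Subgroup.mem_sup_right ⟨hq, Subgroup.mem_centralizer_singleton_iff.2 hqs.eq⟩
      have hVQ : V ≤ Q := hVE.trans inf_le_left
      have dual : ∀ y ∈ Q, (∀ q ∈ Q, Commute q s → Commute q y) → y ∈ V := by
        intro y hy hall
        by_contra hyV
        obtain ⟨q, hq, hqV, hqy⟩ := Lib.LargeExtra.exists_separating S.hQ V hVQ hzV hy hyV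
        have := hall q hq (hqV s hsV)
        rw [conj_eq_iff_comm.2 this.eq] at hqy
        exact S.hQ.x_ne (by simpa using hqy.symm)
      have hxQ : (x : G) ∈ Q := by
        refine Lib.LargeExtra.mem_of_inner S.hQ _ fun q hq => ?_
        rcases S.hQ.comm q hq s S.hs with e | e
        · exact Or.inl (conj_eq_iff_comm.2 (hxc q (hP1 q hq (conj_eq_iff_comm.1 e))).eq)
        set x' := (x : G)
        set y := q⁻¹ * (x' * q * x'⁻¹) with hy
        have hxq : x' * q * x'⁻¹ ∈ Q := S.hQ.norm x' hxz.eq q hq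
        have hyQ : y ∈ Q := mul_mem (inv_mem hq) hxq
        have hys : Commute y s := by
          apply conj_eq_iff_comm.1
          have e2 : x' * (s * z) * x'⁻¹ = s * z := conj_eq_iff_comm.2 (hxs.mul_right hxz).eq
          calc y * s * y⁻¹ = q⁻¹ * (x' * (q * (x'⁻¹ * s * x') * q⁻¹) * x'⁻¹) * q := by rw [hy]; group
            _ = q⁻¹ * (x' * (q * s * q⁻¹) * x'⁻¹) * q := by
                rw [show x'⁻¹ * s * x' = s by rw [(hxs.inv_left).eq, inv_mul_cancel_right]]
            _ = q⁻¹ * (s * z) * q := by rw [e, e2]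
            _ = s := by rw [← e]; group
        have hyV : y ∈ V := by
          refine dual y hyQ fun p hp hps => ?_
          apply Commute.symm
          apply conj_eq_iff_comm.1
          have hqp : q * p * q⁻¹ ∈ R := by
            rcases S.hQ.comm q hq p hp with h | h <;> rw [h]
            exacts [hP1 p hp hps, mul_mem (hP1 p hp hps) (hP1 z S.hQ.x_mem S.zs)]
          calc y * p * y⁻¹ = q⁻¹ * (x' * (q * (x'⁻¹ * p * x') * q⁻¹) * x'⁻¹) * q := by rw [hy]; group
            _ = q⁻¹ * (x' * (q * p * q⁻¹) * x'⁻¹) * q := by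
                rw [show x'⁻¹ * p * x' = p by rw [((hxc p (hP1 p hp hps)).inv_left).eq, inv_mul_cancel_right]]
            _ = q⁻¹ * (q * p * q⁻¹) * q := by rw [conj_eq_iff_comm.2 (hxc _ hqp).eq]
            _ = p := by group
        have hxqy : x' * q * x'⁻¹ = q * y := by rw [hy]; group
        rcases S.V_cases hyV with h | h | h | h
        · left; rw [hxqy, h, mul_one]
        · right; rw [hxqy, h]
        all_goals exfalso
        all_goals
          apply S.hQ.x_ne
          have hsq : (q * y) * (q * y) = q * q := by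
            rw [← hxqy]
            rcases S.hQ.sq_cases hq with e' | e' <;> rw [e']
            · calc x' * q * x'⁻¹ * (x' * q * x'⁻¹) = x' * (q * q) * x'⁻¹ := by group
                _ = 1 := by rw [e']; group
            · calc x' * q * x'⁻¹ * (x' * q * x'⁻¹) = x' * (q * q) * x'⁻¹ := by group
                _ = z := by rw [e']; exact conj_eq_iff_comm.2 hxz.eq
        · rw [h] at hsq
          have h4 : q * s * (q * s) = (q * s * q⁻¹) * (q * q) * s := by group
          rw [h4, e] at hsq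
          have h5 : Commute (q * q) s := by
            rcases S.hQ.sq_cases hq with e' | e' <;> rw [e']
            exacts [Commute.one_left s, S.zs]
          calc z = s * s * z := by rw [S.hS.x_sq, one_mul]
            _ = s * z * s := (mul_assoc s s z).trans
                ((congrArg (s * ·) S.zs.eq.symm).trans (mul_assoc s z s).symm)
            _ = s * z * s * (q * q) * (q * q)⁻¹ := by group
            _ = s * z * (q * q) * s * (q * q)⁻¹ := by rw [mul_assoc _ s (q * q), ← h5.eq, ← mul_assoc]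
            _ = 1 := by rw [hsq, mul_inv_cancel]
        · rw [h] at hsq
          have hzs : z * s = s * z := S.zs.eq
          have h4 : q * (z * s) * (q * (z * s)) = (q * (z * s) * q⁻¹) * (q * q) * (z * s) := by group
          have e1 : q * (z * s) * q⁻¹ = s := by
            calc q * (z * s) * q⁻¹ = (q * z * q⁻¹) * (q * s * q⁻¹) := by group
              _ = z * (s * z) := by rw [e, conj_eq_iff_comm.2 (S.hQ.le_cent q hq)]
              _ = s := by rw [← hzs, ← mul_assoc, S.hQ.x_sq, one_mul]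
          rw [h4, e1] at hsq
          have h5 : Commute (q * q) (z * s) := by
            rcases S.hQ.sq_cases hq with e' | e' <;> rw [e']
            exacts [Commute.one_left _, (Commute.refl z).mul_right S.zs]
          calc z = s * s * z := by rw [S.hS.x_sq, one_mul]
            _ = s * (z * s) := by rw [hzs, mul_assoc]
            _ = s * (z * s) * (q * q) * (q * q)⁻¹ := by group
            _ = s * (q * q) * (z * s) * (q * q)⁻¹ := by rw [mul_assoc s, ← h5.eq, ← mul_assoc]
            _ = 1 := by rw [hsq, mul_inv_cancel]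
      exact dual _ hxQ fun q hq hqs => (hxc q (hP1 q hq hqs)).symm
    · intro v hv
      refine ⟨⟨v, hER (hVE hv)⟩, Subgroup.mem_center_iff.2 fun r => Subtype.ext ?_, rfl⟩
      exact (Subgroup.mem_centralizer_iff.1 (S.mem_centralizer_V.2 (S.R_commute r.2)) v hv).symm
  have hZ2 : ∀ e : ↥R, (e : G) ∈ E → e ∈ Subgroup.upperCentralSeries ↥R 2 := by
    intro e he
    rw [Subgroup.mem_upperCentralSeries_succ_iff]
    intro r
    rw [Subgroup.upperCentralSeries_one]
    have h1 : (e : G) * r * (e : G)⁻¹ * (r : G)⁻¹ ∈ V := by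
      have := inv_mem (hconjE r (S.R_le_X r.2) e he)
      simpa [mul_assoc] using this
    rw [← hcen] at h1
    obtain ⟨c, hc, hce⟩ := h1
    have : c = e * r * e⁻¹ * r⁻¹ := Subtype.ext hce
    rwa [this, ← commutatorElement_def] at hc
  refine ⟨hcen, fun e he => ⟨⟨e, hER he⟩, hZ2 _ he, rfl⟩, ?_, ?_, fun x hx y hy => ⟨hcommE x hx y hy, hsqE x hx⟩, ?_, ?_⟩
  · rw [eq_top_iff]
    intro x _
    rw [Subgroup.mem_upperCentralSeries_succ_iff]
    exact fun y => hZ2 _ (hcommE x x.2 y y.2)
  · exact ⟨Subgroup.le_centralizer_iff_isMulCommutative.1 (fun a ha => Subgroup.mem_centralizer_iff.2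
      fun b hb => S.inf_comm_eq hb ha), fun a ha => by rw [pow_two]; exact S.inf_sq ha⟩
  · refine le_antisymm (fun x hx => ⟨hx.2.1, hx.1.1⟩) (fun x hx => ⟨⟨hx.2, ?_⟩, hx.1, ?_⟩)
    · exact Subgroup.mem_centralizer_singleton_iff.2 (S.hQ.le_cent x hx.1)
    · exact Subgroup.mem_centralizer_singleton_iff.2 (S.hS.le_cent x hx.2)
  · rw [Subgroup.commutator_le]
    intro x hx e he
    rw [commutatorElement_def]
    exact hconjE x hx e he

end Cfsg.Agent.S5431
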