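import Cfsg.Statements.S5433
import Mathlib

set_option autoImplicit false
open Cfsg

namespace Cfsg.Agent.S5433



/-- Let Q be a large extraspecial 2-subgroup of the finite group G (extraspecial; centralizer equal to its centre; normal in the centralizer of its centre; normalizing no non-trivial subgroup of odd order), and L a normal subgroup of G containing Q. Then G is the product of L and the normalizer of Q. -/
theorem result {G : Type*} [Group G] [Finite G] (Q : Subgroup G) (hQ : Cfsg.IsLargeExtraspecial Q) (L : Subgroup G) [L.Normal] (hQL : Q ≤ L) : L ⊔ Subgroup.normalizer (Q : Set G) = ⊤ := by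
  obtain ⟨hex, hcent, hnorm, -⟩ := hQ
  haveI : Fact (Nat.Prime 2) := ⟨Nat.prime_two⟩
  have hQp : IsPGroup 2 Q := hex.1.1
  set Z := (Subgroup.center ↥Q).map Q.subtype with hZ
  have hZcard : Nat.card Z = 2 := by
    rw [hZ, Subgroup.card_map_of_injective (Subgroup.subtype_injective _)]; exact hex.2
  obtain ⟨R, hR⟩ := (hQp.comap_of_injective L.subtype (Subgroup.subtype_injective _)).exists_le_sylow
  set S := (R : Subgroup L).map L.subtype with hS
  have hQS : Q ≤ S := by
    intro q hq
    exact ⟨⟨q, hQL hq⟩, hR hq, rfl⟩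
  have hF : Subgroup.normalizer (S : Set G) ⊔ L = ⊤ := Sylow.normalizer_sup_eq_top R
  have hQne : Q ≠ ⊥ := by
    intro h
    subst h
    have h1 : Nat.card (Subgroup.center ↥(⊥ : Subgroup G)) ≤ 1 :=
      (Nat.card_le_card_of_injective _ Subtype.val_injective).trans_eq Subgroup.card_bot
    have := hex.2
    omega
  have hSp : IsPGroup 2 S := R.2.map L.subtype
  haveI : Nontrivial S := (Subgroup.nontrivial_iff_ne_bot S).2 (fun h => hQne (le_bot_iff.1 (h ▸ hQS)))
  haveI := hSp.center_nontrivial
  set ZS := (Subgroup.center ↥S).map S.subtype with hZS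
  have hle : ZS ≤ Z := by
    rw [← hcent]
    rintro _ ⟨s, hs, rfl⟩
    intro q hq
    exact congrArg Subtype.val (Subgroup.mem_center_iff.1 hs ⟨q, hQS hq⟩)
  have heq : ZS = Z := by
    refine Subgroup.eq_of_le_of_card_ge hle ?_
    rw [hZcard, hZS, Subgroup.card_map_of_injective (Subgroup.subtype_injective _)]
    exact Finite.one_lt_card
  have hN : Subgroup.normalizer (S : Set G) ≤ Subgroup.normalizer (Q : Set G) := by
    intro n hn
    apply hnorm
    intro u hu
    have hu' : u ∈ ZS := heq ▸ hu
    obtain ⟨s, hs, rfl⟩ := hu'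
    have hmem : n * s * n⁻¹ ∈ Z := by
      rw [← heq]
      refine ⟨⟨n * s * n⁻¹, (Subgroup.mem_normalizer_iff.1 hn _).1 s.2⟩, ?_, rfl⟩
      rw [SetLike.mem_coe, Subgroup.mem_center_iff]
      intro t
      have ht : n⁻¹ * t * n ∈ S := by
        have := (Subgroup.mem_normalizer_iff.1 (inv_mem hn) t).1 t.2
        simpa using this
      have := congrArg Subtype.val (Subgroup.mem_center_iff.1 hs ⟨_, ht⟩)
      apply Subtype.ext
      simp only [Subgroup.coe_mul] at this ⊢
      calc (t : G) * (n * s * n⁻¹) = n * (n⁻¹ * t * n * s) * n⁻¹ := by group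
        _ = n * (s * (n⁻¹ * t * n)) * n⁻¹ := by rw [this]
        _ = n * s * n⁻¹ * t := by group
    -- Z has order 2, so n fixes its elements
    by_cases h1 : (s : G) = 1
    · simp [h1]
    · have : n * s * n⁻¹ = (s : G) := by
        obtain ⟨a, b, hab, hu2⟩ := Nat.card_eq_two_iff.1 hZcard
        have hne : (⟨n * s * n⁻¹, hmem⟩ : Z) ≠ 1 := fun h => h1 (by
          have := congrArg Subtype.val h; simpa using this)
        have hne' : (⟨(s : G), heq ▸ (⟨s, hs, rfl⟩ : (s : G) ∈ ZS)⟩ : Z) ≠ 1 := fun h => h1 (congrArg Subtype.val h)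
        have hmem1 : ∀ v : Z, v = a ∨ v = b := fun v => by
          have : v ∈ ({a, b} : Set Z) := hu2 ▸ trivial
          simpa using this
        rcases hmem1 1 with e | e <;> rcases hmem1 ⟨_, hmem⟩ with e1 | e1 <;>
          rcases hmem1 ⟨(s : G), heq ▸ (⟨s, hs, rfl⟩ : (s : G) ∈ ZS)⟩ with e2 | e2 <;>
          first
            | exact absurd (e1.trans e.symm) hne
            | exact absurd (e2.trans e.symm) hne'
            | exact congrArg Subtype.val (e1.trans e2.symm)
      exact (mul_inv_eq_iff_eq_mul.1 this).symm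
  rw [eq_top_iff, ← hF, sup_comm]
  exact sup_le_sup_left hN L

end Cfsg.Agent.S5433
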