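import Cfsg.Statements.S5434
import Mathlib
import Cfsg.Agent.Lib.ExtraTwo.Basic
import Cfsg.Agent.Lib.Coprime.Quotient

set_option autoImplicit false
open Cfsg

namespace Cfsg.Agent.S5434

open scoped commutatorElement


/-- Let Q be a large extraspecial 2-subgroup of the finite group G (extraspecial; centralizer equal to its centre; normal in the centralizer of its centre; normalizing no non-trivial subgroup of odd order), and A a non-trivial subgroup of odd order of the normalizer of Q. Then Q is the central product of the centralizer of A in Q and the commutator subgroup [Q, A] (they generate Q and commute elementwise), [Q, A] is extraspecial, and the centralizer of A in Q is either the centre of Q or extraspecial. -/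
theorem result {G : Type*} [Group G] [Finite G] (Q : Subgroup G) (hQ : Cfsg.IsLargeExtraspecial Q) (A : Subgroup G) (hA : A ≤ Subgroup.normalizer (Q : Set G)) (hAodd : Odd (Nat.card ↥A)) (hA1 : A ≠ ⊥) : (Q ⊓ Subgroup.centralizer (A : Set G)) ⊔ ⁅Q, A⁆ = Q ∧ (∀ x ∈ Q ⊓ Subgroup.centralizer (A : Set G), ∀ y ∈ ⁅Q, A⁆, x * y = y * x) ∧ Cfsg.IsExtraspecial 2 ↥⁅Q, A⁆ ∧ (Q ⊓ Subgroup.centralizer (A : Set G) = ((Subgroup.center ↥Q).map Q.subtype) ∨ Cfsg.IsExtraspecial 2 ↥(Q ⊓ Subgroup.centralizer (A : Set G))) := by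
  obtain ⟨hex, hcentQ, hnorm, -⟩ := hQ
  obtain ⟨z, h⟩ := Lib.ExtraTwo.exists_gen hex
  haveI : Fact (Nat.Prime 2) := ⟨Nat.prime_two⟩
  set C := Q ⊓ Subgroup.centralizer (A : Set G) with hC
  set R := ⁅Q, A⁆ with hR
  have hRQ : R ≤ Q := Lib.Coprime.commutator_le_of_le_normalizer hA
  have hcopQ : (Nat.card A).Coprime (Nat.card Q) := by
    obtain ⟨k, hk⟩ := IsPGroup.iff_card.1 hex.1.1
    rw [hk]
    exact (Nat.coprime_two_right.2 hAodd).pow_right k
  have hcopR : (Nat.card A).Coprime (Nat.card R) :=
    Lib.Coprime.coprime_of_le_right hRQ hcopQ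
  have hsolv : Group.IsSolvable R := by
    haveI := (IsPGroup.of_injective hex.1.1 (Subgroup.inclusion hRQ) (Subgroup.inclusion_injective hRQ)).isNilpotent
    infer_instance
  have hsup : C ⊔ R = Q := by
    rw [sup_comm]; exact Lib.Coprime.commutator_sup_centralizer hA hcopR (Or.inr hsolv)
  -- A fixes z
  have hza : ∀ a ∈ A, a * z * a⁻¹ = z := by
    intro a ha
    have hmem : a * z * a⁻¹ ∈ Q := (Subgroup.mem_normalizer_iff.1 (hA ha) z).1 h.mem_Q
    refine (h.eq_of_central hmem fun q hq => ?_).resolve_left (fun e => h.ne_one (by simpa using e))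
    have hq' : a⁻¹ * q * a ∈ Q := Lib.Coprime.conj_mem_of_le_normalizer' hA ha hq
    have e := (h.commute hq').map (MulAut.conj a).toMonoidHom
    simpa [mul_assoc] using e
  have hCR : ∀ x ∈ C, ∀ y ∈ R, x * y = y * x := by
    intro x hx y hy
    have hle : R ≤ Subgroup.centralizer ({x} : Set G) := by
      rw [hR, Subgroup.commutator_le]
      intro q hq a ha
      rw [Subgroup.mem_centralizer_singleton_iff]
      have hxa : Commute a x := Subgroup.mem_centralizer_iff.1 hx.2 a ha
      have hq' : a * q⁻¹ * a⁻¹ ∈ Q := Lib.Coprime.conj_mem_of_le_normalizer hA ha (inv_mem hq)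
      have hstep : ∀ e : G, x * q * x⁻¹ * q⁻¹ = e → (e = 1 ∨ e = z) →
          x * ⁅q, a⁆ * x⁻¹ = ⁅q, a⁆ := by
        intro e he hcase
        have h1 : x * q * x⁻¹ = e * q := eq_mul_of_mul_inv_eq he
        have hee : e * e = 1 := by rcases hcase with rfl | rfl <;> simp [h.mul_self]
        have hea : a * e * a⁻¹ = e := by rcases hcase with rfl | rfl <;> simp [hza a ha]
        have hec : Commute e (a * q⁻¹ * a⁻¹) := by
          rcases hcase with rfl | rfl
          · exact Commute.one_left _
          · exact h.commute hq'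
        have hec' : Commute e q := by
          rcases hcase with rfl | rfl
          · exact Commute.one_left _
          · exact h.commute hq
        have hei : e⁻¹ = e := inv_eq_of_mul_eq_one_right hee
        have h2 : x * q⁻¹ * x⁻¹ = q⁻¹ * e := by
          rw [show x * q⁻¹ * x⁻¹ = (x * q * x⁻¹)⁻¹ by group, h1, mul_inv_rev, hei]
        calc x * ⁅q, a⁆ * x⁻¹ = (x * q * x⁻¹) * ((x * a * x⁻¹) * (x * q⁻¹ * x⁻¹) * (x * a * x⁻¹)⁻¹) := by
              rw [commutatorElement_def]; group
          _ = (e * q) * (a * (q⁻¹ * e) * a⁻¹) := by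
              rw [h1, h2, show x * a * x⁻¹ = a by rw [← hxa.eq, mul_inv_cancel_right]]
          _ = (e * q) * ((a * q⁻¹ * a⁻¹) * (a * e * a⁻¹)) := by group
          _ = (e * q) * (e * (a * q⁻¹ * a⁻¹)) := by rw [hea, hec.eq]
          _ = (e * e) * (q * (a * q⁻¹ * a⁻¹)) := by
              rw [mul_assoc e q, ← mul_assoc q e, ← hec'.eq]; group
          _ = ⁅q, a⁆ := by rw [hee, one_mul, commutatorElement_def]; group
      have := hstep _ rfl (h.comm_cases hx.1 hq)
      exact (mul_inv_eq_iff_eq_mul.1 this).symm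
    exact (Subgroup.mem_centralizer_singleton_iff.1 (hle hy)).symm
  have hzC : z ∈ C := ⟨h.mem_Q, Subgroup.mem_centralizer_iff.2 fun a ha => mul_inv_eq_iff_eq_mul.1 (hza a ha)⟩
  -- anything central in C and in R is central in Q
  have hcentral : ∀ x ∈ Q, (∀ y ∈ C, Commute x y) → (∀ y ∈ R, Commute x y) → x = 1 ∨ x = z := by
    intro x hx h1 h2
    refine h.eq_of_central hx fun q hq => ?_
    have hle : Q ≤ Subgroup.centralizer ({x} : Set G) := by
      rw [← hsup]
      exact sup_le (fun y hy => Subgroup.mem_centralizer_singleton_iff.2 (h1 y hy).eq.symm)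
        (fun y hy => Subgroup.mem_centralizer_singleton_iff.2 (h2 y hy).eq.symm)
    exact (Subgroup.mem_centralizer_singleton_iff.1 (hle hq)).symm
  have hRna : ∃ a ∈ R, ∃ b ∈ R, ¬ Commute a b := by
    by_contra hcon
    push Not at hcon
    apply hA1
    rw [Subgroup.eq_bot_iff_forall]
    intro a ha
    -- R lies in the centre, so A stabilises Q/Z and Z
    have hRz : R ≤ Subgroup.centralizer (A : Set G) := by
      intro r hr
      rcases hcentral r (hRQ hr) (fun y hy => (hCR y hy r hr).symm) (fun y hy => hcon r hr y hy) with e | e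
      · rw [e]; exact one_mem _
      · rw [e]; exact hzC.2
    have hAQ := Lib.Coprime.le_centralizer_of_commutator_le_centralizer hRz hcopR ha
    rw [hcentQ] at hAQ
    exact Lib.LargeES.eq_one_of_mem_odd hAodd ha (hex.1.1) (Lib.LargeES.centre_le hAQ)
  obtain ⟨hRex, -, -⟩ := Lib.ExtraTwo.isExtraspecial_of_le h hRQ
    (fun x hx hc => hcentral x (hRQ hx) (fun y hy => (hCR y hy x hx).symm) hc) hRna
  refine ⟨hsup, hCR, hRex, ?_⟩
  by_cases hna : ∃ a ∈ C, ∃ b ∈ C, ¬ Commute a b
  · exact Or.inr (Lib.ExtraTwo.isExtraspecial_of_le h inf_le_left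
      (fun x hx hc => hcentral x hx.1 hc (fun y hy => hCR x hx y hy)) hna).1
  · left
    push Not at hna
    rw [h.map_center_eq]
    refine le_antisymm (fun x hx => ?_) (Subgroup.zpowers_le.2 hzC)
    rcases hcentral x hx.1 (fun y hy => hna x hx y hy) (fun y hy => hCR x hx y hy) with e | e <;> rw [e]
    · exact one_mem _
    · exact Subgroup.mem_zpowers z

end Cfsg.Agent.S5434
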