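import Cfsg.Statements.S5435
import Mathlib
import Cfsg.Agent.Lib.ExtraTwo.Basic
import Cfsg.Agent.Lib.LargeExtra.Basic
import Cfsg.Agent.Lib.Transfer.Fusion
import Cfsg.Agent.Lib.Transfer.Criteria
import Cfsg.Agent.Lib.Transfer.SmallSylow
import Cfsg.Agent.Lib.Involution.ThompsonTransfer
import Cfsg.Agent.Lib.TwoGroup.Recognition
import Cfsg.Agent.Lib.PGroup.Frattini

set_option autoImplicit false
open Cfsg

namespace Cfsg.Agent.S5435

open Cfsg.Agent.Lib
open scoped commutatorElement


/-- Let L be a finite non-abelian simple group with an involution z whose centralizer R is a Sylow 2-subgroup of L whose Frattini subgroup is the subgroup generated by z. Then R is dihedral of order 8. -/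
theorem result {L : Type*} [Group L] [Finite L] [IsSimpleGroup L] (hL : ¬ IsMulCommutative L) (z : L) (hz : orderOf z = 2) (R : Sylow 2 L) (hR : (R : Subgroup L) = Subgroup.centralizer ({z} : Set L)) (hΦ : (frattini ↥(R : Subgroup L)).map (R : Subgroup L).subtype = Subgroup.zpowers z) : Nonempty (↥(R : Subgroup L) ≃* DihedralGroup 4) := by
  classical
  haveI : Fact (Nat.Prime 2) := ⟨Nat.prime_two⟩
  set RR : Subgroup L := (R : Subgroup L) with hRR
  have hz2 : z * z = 1 := by rw [← pow_two, ← hz]; exact pow_orderOf_eq_one z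
  have hz1 : z ≠ 1 := fun e => by simp [e] at hz
  have hnc : ∃ x y : L, x * y ≠ y * x := by
    by_contra h
    push Not at h
    exact hL ⟨⟨h⟩⟩
  have memR : ∀ {x : L}, x ∈ RR ↔ x * z = z * x := by
    intro x; rw [hR, Subgroup.mem_centralizer_singleton_iff]
  have hzR : z ∈ RR := memR.2 rfl
  have hRp : IsPGroup 2 ↥RR := R.2
  have hphi : ∀ x : ↥RR, x ∈ frattini ↥RR → (x : L) = 1 ∨ (x : L) = z := fun x hx =>
    LargeExtra.eq_or_of_mem_zpowers hz2 (hΦ ▸ ⟨x, hx, rfl⟩)
  have hsq : ∀ x ∈ RR, x * x = 1 ∨ x * x = z := by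
    intro x hx
    have := hphi (⟨x, hx⟩ ^ 2) (PFrattini.pow_mem_frattini hRp _)
    simpa [pow_two] using this
  have hcomm : ∀ a ∈ RR, ∀ b ∈ RR, a * b * a⁻¹ = b ∨ a * b * a⁻¹ = b * z := by
    intro a ha b hb
    have := hphi ⁅(⟨a, ha⟩ : ↥RR), ⟨b, hb⟩⁆ (Transfer.commutator_le_frattini_of_isPGroup hRp
      (Subgroup.commutator_mem_commutator (Subgroup.mem_top _) (Subgroup.mem_top _)))
    simp only [commutatorElement_def, Subgroup.coe_mul, Subgroup.coe_inv] at this
    rcases this with e | e
    · left; rwa [mul_inv_eq_one] at e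
    · right; rw [eq_mul_of_mul_inv_eq e]; exact (memR.1 hb).symm
  -- `z` is a square in `R`, so `R` is its own normalizer
  obtain ⟨x₀, hx₀, hx₀z⟩ : ∃ x ∈ RR, x * x = z := by
    by_contra h
    push Not at h
    have : frattini ↥RR ≤ ⊥ := ExtraTwo.frattini_le_of_sq ⊥ fun x => by
      rcases hsq x x.2 with e | e
      · exact Subgroup.mem_bot.2 (Subtype.ext e)
      · exact absurd e (h x x.2)
    rw [le_bot_iff] at this
    rw [this, Subgroup.map_bot, eq_comm, Subgroup.zpowers_eq_bot] at hΦ
    exact hz1 hΦ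
  have hnorm : ∀ n ∈ Subgroup.normalizer (RR : Set L), n ∈ RR := by
    intro n hn
    have hmem := (Subgroup.mem_normalizer_iff.1 hn x₀).1 hx₀
    rcases hsq _ hmem with e | e
    · exfalso
      rw [show n * x₀ * n⁻¹ * (n * x₀ * n⁻¹) = n * (x₀ * x₀) * n⁻¹ by group, hx₀z] at e
      exact hz1 (by simpa using e)
    · rw [show n * x₀ * n⁻¹ * (n * x₀ * n⁻¹) = n * (x₀ * x₀) * n⁻¹ by group, hx₀z] at e
      exact memR.2 (mul_inv_eq_iff_eq_mul.1 e)
  have hdvd : 2 ∣ Nat.card L := hz ▸ orderOf_dvd_natCard z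
  have hna : ∃ a ∈ RR, ∃ b ∈ RR, a * b ≠ b * a := by
    by_contra h
    push Not at h
    exact Transfer.not_hasNormalPComplement_of_isSimpleGroup hnc hdvd
      (Transfer.hasNormalPComplement_of_normalizer_le_centralizer R fun n hn =>
        Subgroup.mem_centralizer_iff.2 fun x hx => (h x hx n (hnorm n hn)))
  -- Burnside fusion
  have fuse : ∀ x g : L, (∀ y ∈ RR, Commute x y) → (∀ y ∈ RR, Commute (g * x * g⁻¹) y) →
      g * x * g⁻¹ = x := by
    intro x g h1 h2
    obtain ⟨n, hn, he⟩ := Transfer.exists_normalizer_conj_of_le_centralizer R {x} g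
      (fun y hy => Subgroup.mem_centralizer_iff.2 fun u hu => by
        rw [Set.mem_singleton_iff] at hu; subst hu; exact (h1 y hy).eq)
      (fun y hy => Subgroup.mem_centralizer_iff.2 fun u hu => by
        rw [Set.image_singleton, Set.mem_singleton_iff] at hu; subst hu; exact (h2 y hy).eq)
    rw [← he x rfl, ← (h1 n (hnorm n hn)).eq, mul_inv_cancel_right]
  -- the centralizer of a conjugate of `z`
  have conjR : ∀ k x : L, x * (k * z * k⁻¹) = k * z * k⁻¹ * x ↔ k⁻¹ * x * k ∈ RR := by
    intro k x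
    rw [memR]
    constructor <;> intro h
    · calc k⁻¹ * x * k * z = k⁻¹ * (x * (k * z * k⁻¹)) * k := by group
        _ = z * (k⁻¹ * x * k) := by rw [h]; group
    · calc x * (k * z * k⁻¹) = k * (k⁻¹ * x * k * z) * k⁻¹ := by group
        _ = k * z * k⁻¹ * x := by rw [h]; group
  have fuseAt : ∀ k x g : L, (∀ y, y * (k * z * k⁻¹) = k * z * k⁻¹ * y → Commute x y) →
      (∀ y, y * (k * z * k⁻¹) = k * z * k⁻¹ * y → Commute (g * x * g⁻¹) y) →
      g * x * g⁻¹ = x := by
    intro k x g h1 h2
    have conv : ∀ w, (∀ y, y * (k * z * k⁻¹) = k * z * k⁻¹ * y → Commute w y) →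
        ∀ y ∈ RR, Commute (k⁻¹ * w * k) y := by
      intro w hw y hy
      have := (hw (k * y * k⁻¹) ((conjR k _).2 (by simpa [mul_assoc] using hy))).map
        (MulAut.conj k⁻¹).toMonoidHom
      simpa [mul_assoc] using this
    have := fuse (k⁻¹ * x * k) (k⁻¹ * g * k) (conv x h1) (by
      rw [show k⁻¹ * g * k * (k⁻¹ * x * k) * (k⁻¹ * g * k)⁻¹ = k⁻¹ * (g * x * g⁻¹) * k by group]
      exact conv _ h2)
    rw [show k⁻¹ * g * k * (k⁻¹ * x * k) * (k⁻¹ * g * k)⁻¹ = k⁻¹ * (g * x * g⁻¹) * k by group] at this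
    exact mul_left_cancel (mul_right_cancel this)
  -- a non-central conjugate of `z` in `R`
  have hcentralz : ∀ y ∈ RR, Commute z y := fun y hy => (memR.1 hy).symm
  obtain ⟨g, hgR, hgne⟩ : ∃ g : L, g * z * g⁻¹ ∈ RR ∧ g * z * g⁻¹ ≠ z := by
    by_contra h
    push Not at h
    have hW : Cfsg.IsWeaklyClosed (Subgroup.zpowers z) RR := by
      refine ⟨Subgroup.zpowers_le.2 hzR, fun g hg => ?_⟩
      rw [MonoidHom.map_zpowers]
      congr 1
      exact h g (hg ⟨z, Subgroup.mem_zpowers z, rfl⟩)
    have hctrl : ∀ x ∈ RR, ∀ g : L, g * x * g⁻¹ ∈ RR → ∃ k ∈ RR, k * x * k⁻¹ = g * x * g⁻¹ := by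
      intro x hx g hgx
      obtain ⟨n, hn, he⟩ := Transfer.exists_normalizer_conj_of_weaklyClosed R hW {x} g
        (by
          rw [Subgroup.zpowers_le, Subgroup.mem_centralizer_iff]
          rintro u (rfl : u = x)
          exact memR.1 hx)
        (by
          rw [Set.image_singleton, Subgroup.zpowers_le, Subgroup.mem_centralizer_iff]
          rintro u (rfl : u = g * x * g⁻¹)
          exact memR.1 hgx)
      refine ⟨n, memR.2 (mul_inv_eq_iff_eq_mul.1 ?_), he x rfl⟩
      rcases LargeExtra.eq_or_of_mem_zpowers hz2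
        ((Subgroup.mem_normalizer_iff.1 hn z).1 (Subgroup.mem_zpowers z)) with e | e
      · exact absurd (by simpa using e) hz1
      · exact e
    have hfoc := Transfer.commutator_inf_eq_of_control R (le_refl RR) hctrl
    have htop : commutator L = ⊤ := by
      rcases (inferInstance : (commutator L).Normal).eq_bot_or_eq_top with e | e
      · exfalso
        obtain ⟨x, y, hxy⟩ := hnc
        rw [commutator_def, Subgroup.commutator_eq_bot_iff_le_centralizer] at e
        exact hxy (Subgroup.mem_centralizer_iff.1 (e (Subgroup.mem_top y)) x (Subgroup.mem_top x))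
      · exact e
    rw [htop, top_inf_eq] at hfoc
    have hle : ⁅RR, RR⁆ ≤ Subgroup.zpowers z := by
      rw [Subgroup.commutator_le]
      intro a ha b hb
      rw [commutatorElement_def]
      rcases hcomm a ha b hb with e | e <;> rw [e]
      · rw [mul_inv_cancel]; exact one_mem _
      · rw [(hcentralz b hb).eq.symm, mul_inv_cancel_right]; exact Subgroup.mem_zpowers z
    obtain ⟨a, ha, b, hb, hab⟩ := hna
    apply hab
    have hzp : ∀ x ∈ RR, x = 1 ∨ x = z := fun x hx =>
      LargeExtra.eq_or_of_mem_zpowers hz2 (hle (hfoc.le hx).1)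
    rcases hzp a ha with rfl | rfl
    · simp
    · exact hcentralz b hb
  -- general facts on non-central conjugates `v` of `z` in `R`
  have vnc : ∀ k : L, k * z * k⁻¹ ≠ z → ¬ ∀ y ∈ RR, Commute (k * z * k⁻¹) y := fun k hk h =>
    hk (fuse z k hcentralz h)
  have cases2 : ∀ a ∈ RR, ∀ b ∈ RR, ¬ Commute a b → a * b * a⁻¹ = b * z := fun a ha b hb h =>
    (hcomm a ha b hb).resolve_left fun e => h (mul_inv_eq_iff_eq_mul.1 e)
  have index2 : ∀ v ∈ RR, ∀ x ∈ RR, ∀ y ∈ RR, ¬ Commute x v → ¬ Commute y v →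
      Commute (x * y) v := by
    intro v hv x hx y hy h1 h2
    refine mul_inv_eq_iff_eq_mul.1 ?_
    calc x * y * v * (x * y)⁻¹ = x * (y * v * y⁻¹) * x⁻¹ := by group
      _ = (x * v * x⁻¹) * (x * z * x⁻¹) := by rw [cases2 y hy v hv h2]; group
      _ = v := by rw [cases2 x hx v hv h1, mul_inv_eq_iff_eq_mul.2 (memR.1 hx), mul_assoc, hz2, mul_one]
  have elab' : ∀ k : L, k * z * k⁻¹ ≠ z →
      (∀ x ∈ RR, Commute x (k * z * k⁻¹) → x * x = 1) ∧
      ∀ x ∈ RR, ∀ y ∈ RR, Commute x (k * z * k⁻¹) → Commute y (k * z * k⁻¹) → Commute x y := by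
    intro k hk
    have hback : ∀ x : L, Commute x (k * z * k⁻¹) → k⁻¹ * x * k ∈ RR := fun x h => (conjR k x).1 h.eq
    constructor
    · intro x hx hc
      rcases hsq x hx with e | e
      · exact e
      · exfalso
        rcases hsq _ (hback x hc) with e' | e' <;>
          rw [show k⁻¹ * x * k * (k⁻¹ * x * k) = k⁻¹ * (x * x) * k by group, e] at e'
        · refine hz1 ?_
          calc z = k * (k⁻¹ * z * k) * k⁻¹ := by group
            _ = 1 := by rw [e']; group
        · refine hk ?_
          calc k * z * k⁻¹ = k * (k⁻¹ * z * k) * k⁻¹ := by rw [e']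
            _ = z := by group
    · intro x hx y hy hcx hcy
      rcases hcomm x hx y hy with e | e
      · exact mul_inv_eq_iff_eq_mul.1 e
      · exfalso
        have h' := hcomm _ (hback x hcx) _ (hback y hcy)
        rw [show k⁻¹ * x * k * (k⁻¹ * y * k) * (k⁻¹ * x * k)⁻¹ = k⁻¹ * (x * y * x⁻¹) * k by group,
          e] at h'
        rcases h' with h' | h'
        · exact hz1 (mul_left_cancel ((mul_left_cancel (mul_right_cancel h')).trans (mul_one y).symm))
        · refine hk ?_
          have : z * k = k * z := by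
            calc z * k = y⁻¹ * (k * (k⁻¹ * (y * z) * k)) := by group
              _ = k * z := by rw [h']; group
          rw [← this, mul_inv_cancel_right]
  -- commuting conjugates of `z`
  have samePair : ∀ k l : L, k * z * k⁻¹ ∈ RR → l * z * l⁻¹ ∈ RR → k * z * k⁻¹ ≠ z →
      l * z * l⁻¹ ≠ z → Commute (k * z * k⁻¹) (l * z * l⁻¹) →
      l * z * l⁻¹ = k * z * k⁻¹ ∨ l * z * l⁻¹ = k * z * k⁻¹ * z := by
    intro k l hk hl hk1 hl1 hc
    set v := k * z * k⁻¹ with hv
    set v' := l * z * l⁻¹ with hv'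
    by_cases hvv : v' = v
    · exact Or.inl hvv
    right
    obtain ⟨p, hp, hpv⟩ : ∃ p, p * v = v * p ∧ ¬ Commute p v' := by
      by_contra h
      push Not at h
      refine hvv ?_
      have hlk : (l * k⁻¹) * v * (l * k⁻¹)⁻¹ = v' := by rw [hv, hv']; group
      rw [← hlk]
      exact fuseAt k v (l * k⁻¹) (fun y hy => hy.symm)
        (fun y hy => by rw [hlk]; exact (h y hy).symm)
    have hpe : p * v' * p⁻¹ = v' * v := by
      have e := cases2 (k⁻¹ * p * k) ((conjR k p).1 hp) (k⁻¹ * v' * k) ((conjR k v').1 hc.eq.symm)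
        fun h => hpv (by
          have := h.map (MulAut.conj k).toMonoidHom
          simpa [mul_assoc] using this)
      calc p * v' * p⁻¹
          = k * (k⁻¹ * p * k * (k⁻¹ * v' * k) * (k⁻¹ * p * k)⁻¹) * k⁻¹ := by group
        _ = v' * v := by rw [e, hv]; group
    have hconj : v' * v = (p * l) * z * (p * l)⁻¹ := by rw [← hpe, hv']; group
    have hv2 : v * v = 1 := by
      rw [hv, show k * z * k⁻¹ * (k * z * k⁻¹) = k * (z * z) * k⁻¹ by group, hz2]; group
    by_cases hone : v' * v = z
    · calc v' = v' * v * v := by rw [mul_assoc, hv2, mul_one]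
        _ = v * z := by rw [hone]; exact memR.1 hk |>.symm
    · exfalso
      refine vnc (p * l) (fun e => hone (hconj.trans e)) fun a ha => ?_
      rw [← hconj]
      by_cases h1 : Commute a v
      · exact ((elab' k hk1).2 a ha v' hl h1 hc.symm).symm.mul_left h1.symm
      · by_cases h2 : Commute a v'
        · exact absurd ((elab' l hl1).2 a ha v hk h2 hc) h1
        · refine Commute.symm (mul_inv_eq_iff_eq_mul.1 ?_)
          calc a * (v' * v) * a⁻¹ = (a * v' * a⁻¹) * (a * v * a⁻¹) := by group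
            _ = v' * (z * v) * z := by rw [cases2 a ha v' hl h2, cases2 a ha v hk h1]; group
            _ = v' * v := by rw [(hcentralz v hk).eq, ← mul_assoc, mul_assoc _ z z, hz2, mul_one]
  set s := g * z * g⁻¹ with hs
  have hs2 : s * s = 1 := by
    rw [hs, show g * z * g⁻¹ * (g * z * g⁻¹) = g * (z * z) * g⁻¹ by group, hz2]; group
  obtain ⟨hCsq, hCab⟩ := elab' g hgne
  have hsz : Commute z s := hcentralz s hgR
  obtain ⟨a, ha, has, hamax⟩ : ∃ a ∈ RR, ¬ Commute a s ∧
      ∀ k : L, k * z * k⁻¹ ∈ RR → ¬ Commute (k * z * k⁻¹) s →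
        k * z * k⁻¹ = a ∨ k * z * k⁻¹ = a * z := by
    by_cases hex : ∃ k : L, k * z * k⁻¹ ∈ RR ∧ ¬ Commute (k * z * k⁻¹) s
    · obtain ⟨k₀, hk₀, hk₀s⟩ := hex
      refine ⟨_, hk₀, hk₀s, fun k hk hks => ?_⟩
      have ne₀ : k₀ * z * k₀⁻¹ ≠ z := fun e => hk₀s (by rw [e]; exact hsz)
      have ne₁ : k * z * k⁻¹ ≠ z := fun e => hks (by rw [e]; exact hsz)
      refine samePair k₀ k hk₀ hk ne₀ ne₁ ?_
      have hc := hCsq _ (mul_mem hk₀ hk) (index2 s hgR _ hk₀ _ hk hk₀s hks)
      have h0 : (k₀ * z * k₀⁻¹)⁻¹ = k₀ * z * k₀⁻¹ := by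
        rw [mul_inv_rev, mul_inv_rev, inv_inv, inv_eq_of_mul_eq_one_right hz2, mul_assoc]
      have h1 : (k * z * k⁻¹)⁻¹ = k * z * k⁻¹ := by
        rw [mul_inv_rev, mul_inv_rev, inv_inv, inv_eq_of_mul_eq_one_right hz2, mul_assoc]
      have := inv_eq_of_mul_eq_one_right hc
      rw [mul_inv_rev, h0, h1] at this
      exact this.symm
    · have h := vnc g hgne
      push Not at h
      obtain ⟨a, ha, has⟩ := h
      exact ⟨a, ha, fun e => has e.symm, fun k hk hks => absurd ⟨k, hk, hks⟩ hex⟩
  set N := Subgroup.closure ({s, a} : Set L) with hN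
  have sN : s ∈ N := Subgroup.subset_closure (by simp)
  have aN : a ∈ N := Subgroup.subset_closure (by simp)
  have hasz : a * s * a⁻¹ = s * z := cases2 a ha s hgR has
  have zN : z ∈ N := by
    have : z = s⁻¹ * (a * s * a⁻¹) := by rw [hasz]; group
    rw [this]
    exact mul_mem (inv_mem sN) (mul_mem (mul_mem aN sN) (inv_mem aN))
  have hNR : N ≤ RR := by
    rw [hN, Subgroup.closure_le]; rintro x (rfl | rfl) <;> assumption
  have conjN : ∀ k : L, k * z * k⁻¹ ∈ RR → k * z * k⁻¹ ∈ N := by
    intro k hk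
    by_cases h1 : k * z * k⁻¹ = z
    · rw [h1]; exact zN
    by_cases h2 : Commute (k * z * k⁻¹) s
    · rcases samePair g k hgR hk hgne h1 h2.symm with e | e <;> rw [e]
      exacts [sN, mul_mem sN zN]
    · rcases hamax k hk h2 with e | e <;> rw [e]
      exacts [aN, mul_mem aN zN]
  have hza : Commute z a := hcentralz a ha
  have hsa : s * a * s⁻¹ = a * z := cases2 s hgR a ha fun e => has e.symm
  have hNcases : ∀ x ∈ N, ∃ e, (e = 1 ∨ e = z) ∧
      (x = e ∨ x = e * s ∨ x = e * a ∨ x = e * (s * a)) := by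
    intro x hx
    rw [hN] at hx
    have hez : ∀ e, e = 1 ∨ e = z → e * z = 1 ∨ e * z = z := by
      rintro e (rfl | rfl)
      exacts [Or.inr (one_mul z), Or.inl hz2]
    have hasz' : a * s = z * (s * a) := by
      calc a * s = a * s * a⁻¹ * a := by group
        _ = z * (s * a) := by rw [hasz, ← hsz.eq, mul_assoc]
    have ha2 : ∀ e, e = 1 ∨ e = z → e * (a * a) = 1 ∨ e * (a * a) = z := by
      intro e he
      rcases hsq a ha with h | h <;> rw [h]
      exacts [by rw [mul_one]; exact he, hez e he]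
    have ha2c : Commute s (a * a) := by
      rcases hsq a ha with h | h <;> rw [h]
      exacts [Commute.one_right s, hsz.symm]
    have stepS : ∀ y, (∃ e, (e = 1 ∨ e = z) ∧ (y = e ∨ y = e * s ∨ y = e * a ∨ y = e * (s * a))) →
        ∃ e, (e = 1 ∨ e = z) ∧
          (y * s = e ∨ y * s = e * s ∨ y * s = e * a ∨ y * s = e * (s * a)) := by
      rintro y ⟨e, he, h | rfl | rfl | rfl⟩
      · exact ⟨e, he, Or.inr (Or.inl (by rw [h]))⟩
      · exact ⟨e, he, Or.inl (by rw [mul_assoc, hs2, mul_one])⟩
      · exact ⟨e * z, hez e he, Or.inr (Or.inr (Or.inr (by rw [mul_assoc e a s, hasz', ← mul_assoc])))⟩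
      · refine ⟨e * z, hez e he, Or.inr (Or.inr (Or.inl ?_))⟩
        calc e * (s * a) * s = e * (s * (a * s)) := by group
          _ = e * ((s * z) * (s * a)) := by rw [hasz', mul_assoc s z]
          _ = e * (z * (s * s) * a) := by rw [← hsz.eq]; group
          _ = e * z * a := by rw [hs2, mul_one, ← mul_assoc]
    have stepA : ∀ y, (∃ e, (e = 1 ∨ e = z) ∧ (y = e ∨ y = e * s ∨ y = e * a ∨ y = e * (s * a))) →
        ∃ e, (e = 1 ∨ e = z) ∧
          (y * a = e ∨ y * a = e * s ∨ y * a = e * a ∨ y * a = e * (s * a)) := by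
      rintro y ⟨e, he, h | rfl | rfl | rfl⟩
      · exact ⟨e, he, Or.inr (Or.inr (Or.inl (by rw [h])))⟩
      · exact ⟨e, he, Or.inr (Or.inr (Or.inr (mul_assoc _ _ _)))⟩
      · exact ⟨e * (a * a), ha2 e he, Or.inl (mul_assoc _ _ _)⟩
      · refine ⟨e * (a * a), ha2 e he, Or.inr (Or.inl ?_)⟩
        rw [mul_assoc, mul_assoc s, ha2c.eq, ← mul_assoc]
    have hsi : s⁻¹ = s := inv_eq_of_mul_eq_one_right hs2
    induction hx using Subgroup.closure_induction_right with
    | one => exact ⟨1, Or.inl rfl, Or.inl rfl⟩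
    | mul_right y _ u hu ih =>
      rcases hu with rfl | rfl
      exacts [stepS y ih, stepA y ih]
    | mul_inv_cancel y _ u hu ih =>
      rcases hu with rfl | rfl
      · rw [hsi]; exact stepS y ih
      · rcases hsq u ha with h | h
        · rw [inv_eq_of_mul_eq_one_right h]; exact stepA y ih
        · have hu : u⁻¹ = u * (u * u) := inv_eq_of_mul_eq_one_right (by
            calc u * (u * (u * u)) = (u * u) * (u * u) := by group
              _ = 1 := by rw [h, hz2])
          rw [hu, ← mul_assoc y, ← mul_assoc (y * u)]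
          exact stepA _ (stepA _ (stepA _ ih))
  have hNcentral : ∀ x ∈ N, (∀ y ∈ RR, Commute x y) → x = 1 ∨ x = z := by
    intro x hx hc
    obtain ⟨e, he, hx'⟩ := hNcases x hx
    have hec : ∀ y ∈ RR, Commute e y := by
      rcases he with rfl | rfl
      exacts [fun y _ => Commute.one_left y, hcentralz]
    have hu : ∀ u, x = e * u → ∀ y ∈ RR, Commute u y := by
      intro u hxu y hy
      have h := (hec y hy).inv_left.mul_left (hc y hy)
      rwa [hxu, inv_mul_cancel_left] at h
    rcases hx' with rfl | h | h | h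
    · exact he
    · exact absurd (hu s h a ha).symm has
    · exact absurd (hu a h s hgR) has
    · refine absurd ?_ has
      have h' : Commute (s⁻¹ * (s * a)) s :=
        (Commute.refl s).inv_left.mul_left (hu (s * a) h s hgR)
      rwa [inv_mul_cancel_left] at h'
  -- the centre of `R` has order 2
  have hcenter : ∀ u ∈ RR, (∀ y ∈ RR, Commute u y) → u = 1 ∨ u = z := by
    intro u hu hc
    by_contra hcon
    push Not at hcon
    have hu2 : u * u = 1 := hCsq u hu (hc s hgR)
    have huN : u ∉ N := fun h => by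
      rcases hNcentral u h hc with e | e
      exacts [hcon.1 e, hcon.2 e]
    obtain ⟨M, ⟨hNM, hMR, huM⟩, hmax⟩ :=
      (Set.toFinite {M : Subgroup L | N ≤ M ∧ M ≤ RR ∧ u ∉ M}).exists_maximal ⟨N, le_rfl, hNR, huN⟩
    have hzM : z ∈ M := hNM zN
    have hMn : ∀ y ∈ RR, ∀ m ∈ M, y * m * y⁻¹ ∈ M := fun y hy m hm => by
      rcases hcomm y hy m (hMR hm) with e | e <;> rw [e]
      exacts [hm, mul_mem hm hzM]
    have htwo : ∀ y ∈ RR, y ∈ M ∨ u * y ∈ M := by
      intro y hy
      by_contra h
      rw [not_or] at h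
      have hyy : y * y ∈ M := by
        rcases hsq y hy with e | e <;> rw [e]
        exacts [one_mem _, hzM]
      let K : Subgroup L :=
        { carrier := {w | w ∈ M ∨ y * w ∈ M}
          one_mem' := Or.inl (one_mem M)
          mul_mem' := by
            rintro p q (hp | hp) (hq | hq)
            · exact Or.inl (mul_mem hp hq)
            · refine Or.inr ?_
              rw [show y * (p * q) = (y * p * y⁻¹) * (y * q) by group]
              exact mul_mem (hMn y hy p hp) hq
            · exact Or.inr (by rw [← mul_assoc]; exact mul_mem hp hq)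
            · refine Or.inl ?_
              rw [show p * q = (y * y)⁻¹ * ((y * (y * p) * y⁻¹) * (y * q)) by group]
              exact mul_mem (inv_mem hyy) (mul_mem (hMn y hy _ hp) hq)
          inv_mem' := by
            rintro p (hp | hp)
            · exact Or.inl (inv_mem hp)
            · refine Or.inr ?_
              rw [show y * p⁻¹ = (y * (y * p)⁻¹ * y⁻¹) * (y * y) by group]
              exact mul_mem (hMn y hy _ (inv_mem hp)) hyy }
      have hMK : M ≤ K := fun m hm => Or.inl hm
      have hKR : K ≤ RR := by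
        rintro w (hw | hw)
        · exact hMR hw
        · simpa using mul_mem (inv_mem hy) (hMR hw)
      have huK : u ∉ K := by
        rintro (hw | hw)
        · exact huM hw
        · exact h.2 (by rw [(hc y hy).eq]; exact hw)
      have := hmax ⟨hNM.trans hMK, hKR, huK⟩ hMK (Or.inr hyy : y ∈ K)
      exact h.1 this
    have hrel : M.relIndex RR = 2 := by
      rw [Subgroup.relIndex, Subgroup.index_eq_two_iff]
      refine ⟨⟨u, hu⟩, fun b => ?_⟩
      simp only [Subgroup.mem_subgroupOf, Subgroup.coe_mul]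
      rcases htwo b b.2 with h | h
      · refine Or.inr ⟨h, fun h' => huM ?_⟩
        simpa using mul_mem (inv_mem h) h'
      · refine Or.inl ⟨by rw [← (hc b b.2).eq]; exact h, fun h' => huM ?_⟩
        simpa [mul_assoc] using mul_mem h (inv_mem h')
    have hno : ∀ H : Subgroup L, H.index ≠ 2 := by
      intro H hH
      haveI := Subgroup.normal_of_index_eq_two hH
      rcases (inferInstance : H.Normal).eq_bot_or_eq_top with e | e
      · rw [e, Subgroup.index_bot] at hH
        obtain ⟨x, y, hxy⟩ := hnc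
        haveI := isCyclic_of_prime_card hH
        exact hxy (IsCyclic.commGroup.mul_comm x y)
      · rw [e, Subgroup.index_top] at hH; omega
    obtain ⟨g', hg'⟩ := Involution.exists_conj_mem_of_no_index_two hno R M hMR hrel u
      (orderOf_eq_prime (by rw [pow_two, hu2]) hcon.1)
    -- the conjugate `u'` of `u` in `M`
    set u' := g' * u * g'⁻¹ with hu'
    have hu'R : u' ∈ RR := hMR hg'
    by_cases hc' : ∀ y ∈ RR, Commute u' y
    · exact huM (fuse u g' hc hc' ▸ hg')
    -- a Sylow subgroup of `C(u')` above `C_R(u')`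
    set Q := RR ⊓ Subgroup.centralizer ({u'} : Set L) with hQ
    set Cu := Subgroup.centralizer ({u'} : Set L) with hCu
    have hgRC : ((g' • R : Sylow 2 L) : Subgroup L) ≤ Cu := by
      rw [Transfer.sylow_smul_coe]
      rintro _ ⟨y, hy, rfl⟩
      rw [hCu, Subgroup.mem_centralizer_singleton_iff]
      exact ((hc y hy).map (MulAut.conj g').toMonoidHom).eq.symm
    obtain ⟨S', hS'⟩ := ((hRp.to_le (inf_le_left : Q ≤ RR)).comap_of_injective Cu.subtype
      Cu.subtype_injective).exists_le_sylow
    obtain ⟨c, hcS⟩ := MulAction.exists_smul_eq ↥Cu ((g' • R).subtype hgRC) S'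
    set k := (c : L) * g' with hk
    have hku : k * u * k⁻¹ = u' := by
      have hc2 := Subgroup.mem_centralizer_singleton_iff.1 c.2
      calc k * u * k⁻¹ = c * u' * (c : L)⁻¹ := by rw [hk, hu']; group
        _ = u' := mul_inv_eq_iff_eq_mul.2 hc2
    have hQk : ∀ y ∈ RR, Commute u' y → k⁻¹ * y * k ∈ RR := by
      intro y hy hyc
      have hyC : y ∈ Cu := Subgroup.mem_centralizer_singleton_iff.2 hyc.eq.symm
      have h1 : (⟨y, hyC⟩ : ↥Cu) ∈ (S' : Subgroup ↥Cu) := hS' (show y ∈ Q from ⟨hy, hyC⟩)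
      rw [← hcS, Sylow.coe_subgroup_smul, Subgroup.mem_pointwise_smul_iff_inv_smul_mem] at h1
      rw [Sylow.coe_subtype, Subgroup.mem_subgroupOf, Transfer.sylow_smul_coe] at h1
      obtain ⟨r, hr, hre⟩ := h1
      have h2 : g' * r * g'⁻¹ = (c : L)⁻¹ * y * c := by simpa [mul_assoc] using hre
      have h3 : k⁻¹ * y * k = r := by
        calc k⁻¹ * y * k = g'⁻¹ * ((c : L)⁻¹ * y * c) * g' := by rw [hk]; group
          _ = r := by rw [← h2]; group
      rw [h3]; exact hr
    set v := k * z * k⁻¹ with hv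
    have hvR : v ∈ RR := memR.2 (Eq.symm ((conjR k z).2 (hQk z hzR (hcentralz u' hu'R).symm)))
    have hu'v : ∀ y, y * v = v * y → Commute u' y := by
      intro y hy
      have := (hc _ ((conjR k y).1 hy)).map (MulAut.conj k).toMonoidHom
      rw [← hku]
      simpa [mul_assoc] using this
    have hkz : v ≠ z := fun e => hc' fun y hy => hu'v y (by rw [e]; exact memR.1 hy)
    have hvy : ∀ y ∈ RR, (Commute u' y ↔ Commute y v) := fun y hy =>
      ⟨fun h => ((conjR k y).2 (hQk y hy h)), fun h => hu'v y h⟩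
    set w := u' * v with hw
    have hwR : ∀ y ∈ RR, Commute w y := by
      intro y hy
      by_cases h : Commute y v
      · exact ((hvy y hy).2 h).mul_left h.symm
      · refine Commute.symm (mul_inv_eq_iff_eq_mul.1 ?_)
        calc y * w * y⁻¹ = (y * u' * y⁻¹) * (y * v * y⁻¹) := by rw [hw]; group
          _ = u' * (z * v) * z := by
            rw [cases2 y hy u' hu'R (fun h' => h ((hvy y hy).1 h'.symm)), cases2 y hy v hvR h]; group
          _ = w := by
            rw [(hcentralz v hvR).eq, ← mul_assoc, mul_assoc _ z z, hz2, mul_one]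
    have hwv : ∀ y, y * v = v * y → Commute w y := fun y hy => (hu'v y hy).mul_left hy.symm
    have hkw : k * w * k⁻¹ = w := by
      refine fuseAt k w k hwv fun y hy => ?_
      have := (hwR _ ((conjR k y).1 hy)).map (MulAut.conj k).toMonoidHom
      simpa [mul_assoc] using this
    have huz : w = u * z := by
      have e : k * (u * z) * k⁻¹ = w := by rw [hw, ← hku, hv]; group
      exact mul_left_cancel (mul_right_cancel (hkw.trans e.symm))
    have hv2 : v * v = 1 := by
      rw [hv, show k * z * k⁻¹ * (k * z * k⁻¹) = k * (z * z) * k⁻¹ by group, hz2]; group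
    apply huM
    have hu'' : u = u' * (z * v)⁻¹ := by
      rw [eq_mul_inv_iff_mul_eq, ← mul_assoc, ← huz, hw, mul_assoc, hv2, mul_one]
    rw [hu'']
    exact mul_mem hg' (inv_mem (mul_mem hzM (hNM (conjN k hvR))))
  -- dihedral of order 8
  obtain ⟨r, hrR, hrs, hr2⟩ : ∃ r ∈ RR, ¬ Commute r s ∧ r * r = z := by
    rcases hsq a ha with h | h
    · refine ⟨s * a, mul_mem hgR ha, fun e => has ?_, ?_⟩
      · have h' : Commute (s⁻¹ * (s * a)) s := (Commute.refl s).inv_left.mul_left e
        rwa [inv_mul_cancel_left] at h'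
      · calc s * a * (s * a) = s * (a * s * a⁻¹) * (a * a) := by group
          _ = z := by rw [hasz, h, mul_one, ← mul_assoc, hs2, one_mul]
    · exact ⟨a, ha, has, h⟩
  have hr4 : orderOf r = 4 := by
    have : orderOf r = 2 ^ (1 + 1) := orderOf_eq_prime_pow (p := 2)
      (by rw [pow_one, pow_two, hr2]; exact hz1) (by rw [show (2 : ℕ) ^ (1 + 1) = 2 * 2 by rfl, pow_mul, pow_two r, hr2, pow_two, hz2])
    simpa using this
  have hzr : z ∈ Subgroup.zpowers r := hr2 ▸ mul_mem (Subgroup.mem_zpowers r) (Subgroup.mem_zpowers r)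
  have hsr : s * r * s⁻¹ = r⁻¹ := by
    rw [cases2 s hgR r hrR fun e => hrs e.symm]
    refine eq_inv_of_mul_eq_one_right ?_
    rw [← mul_assoc, hr2, hz2]
  have hsnot : s ∉ Subgroup.zpowers r := by
    intro h
    obtain ⟨i, hi⟩ := Subgroup.mem_zpowers_iff.1 h
    exact hrs (by rw [← hi]; exact Commute.self_zpow r i)
  have hCcase : ∀ x ∈ RR, Commute x s → x ∈ Subgroup.zpowers r ∨ s * x ∈ Subgroup.zpowers r := by
    have small : ∀ x ∈ RR, Commute x s → Commute x r → x = 1 ∨ x = z := by
      intro x hx hxs hxr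
      refine hcenter x hx fun y hy => ?_
      by_cases h : Commute y s
      · exact hCab x hx y hy hxs h
      · have h2 := index2 s hgR r hrR y hy hrs h
        have h' := hxr.inv_right.mul_right (hCab x hx _ (mul_mem hrR hy) hxs h2)
        rwa [inv_mul_cancel_left] at h'
    have hin : ∀ e, e = 1 ∨ e = z → e ∈ Subgroup.zpowers r := by
      rintro e (rfl | rfl)
      exacts [one_mem _, hzr]
    intro x hx hxs
    by_cases hxr : Commute x r
    · exact Or.inl (hin x (small x hx hxs hxr))
    · refine Or.inr (hin _ (small _ (mul_mem hgR hx) ((Commute.refl s).mul_left hxs) ?_))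
      exact (index2 r hrR s hgR x hx (fun e => hrs e.symm) hxr)
  refine TwoGroup.nonempty_mulEquiv_dihedral hr4 hs2 hsr hsnot RR hrR hgR fun x hx => ?_
  by_cases h : Commute x s
  · exact hCcase x hx h
  · rcases hCcase (x * r) (mul_mem hx hrR) (index2 s hgR x hx r hrR h hrs) with e | e
    · left
      simpa using mul_mem e (inv_mem (Subgroup.mem_zpowers r))
    · right
      have := mul_mem e (inv_mem (Subgroup.mem_zpowers r))
      simpa [mul_assoc] using this

end Cfsg.Agent.S5435
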