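import Cfsg.Statements.S5436
import Mathlib
import Cfsg.Agent.Lib.ExtraTwo.Pair
import Cfsg.Agent.Lib.Components.GenFitting
import Cfsg.Agent.S5433
import Cfsg.Agent.S1784

set_option autoImplicit false
open Cfsg

namespace Cfsg.Agent.S5436

open Cfsg.Agent.Lib


/-- Let z be an involution of the finite group G with centralizer H whose generalized Fitting subgroup Q is extraspecial of width at least 2 (order 2^(2w+1), w ≥ 2); suppose some conjugate of z other than z lies in Q, H/Q is a non-abelian simple group, H acts irreducibly by conjugation on Q modulo the subgroup generated by z (the only H-invariant subgroups of Q containing z are that subgroup and Q), and Q is not the subgroup generated by the conjugates of z lying in H. Then G is simple. -/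
theorem result {G : Type*} [Group G] [Finite G] (z : G) (hz : orderOf z = 2) (Q : Subgroup (Subgroup.centralizer ({z} : Set G))) [Q.Normal] (hF : Cfsg.generalizedFittingSubgroup ↥(Subgroup.centralizer ({z} : Set G)) = Q) (hQ : Cfsg.IsExtraspecial 2 ↥Q) (w : ℕ) (hw : 2 ≤ w) (hcard : Nat.card ↥Q = 2 ^ (2 * w + 1)) (hnwc : ∃ g : G, (∃ hq : g * z * g⁻¹ ∈ Subgroup.centralizer ({z} : Set G), (⟨g * z * g⁻¹, hq⟩ : Subgroup.centralizer ({z} : Set G)) ∈ Q) ∧ g * z * g⁻¹ ≠ z) (hsimp : IsSimpleGroup (↥(Subgroup.centralizer ({z} : Set G)) ⧸ Q)) (hna : ¬ IsMulCommutative (↥(Subgroup.centralizer ({z} : Set G)) ⧸ Q)) (hirr : ∀ W : Subgroup (Subgroup.centralizer ({z} : Set G)), W.Normal → W ≤ Q → (W = Q ∨ ∀ x ∈ W, (x : G) ∈ Subgroup.zpowers z)) (hwcl : Subgroup.closure {x : Subgroup.centralizer ({z} : Set G) | IsConj z (x : G)} ≠ Q) : IsSimpleGroup G := by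
  classical
  haveI : Fact (Nat.Prime 2) := ⟨Nat.prime_two⟩
  have hz2 : z * z = 1 := by rw [← pow_two, ← hz]; exact pow_orderOf_eq_one z
  have hz1 : z ≠ 1 := fun e => by simp [e] at hz
  have hzH : z ∈ (Subgroup.centralizer ({z} : Set G)) := Subgroup.mem_centralizer_singleton_iff.2 rfl
  have hQn : Q.Normal := inferInstance
  set Q' := Q.map (Subgroup.centralizer ({z} : Set G)).subtype with hQ'
  have memQ' : ∀ {x : G} (hx : x ∈ (Subgroup.centralizer ({z} : Set G))), (⟨x, hx⟩ : ↥(Subgroup.centralizer ({z} : Set G))) ∈ Q ↔ x ∈ Q' := fun hx =>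
    ⟨fun h => ⟨_, h, rfl⟩, fun ⟨y, hy, e⟩ => (show y = (⟨_, hx⟩ : ↥(Subgroup.centralizer ({z} : Set G))) from Subtype.ext e) ▸ hy⟩
  have hQH : Q' ≤ (Subgroup.centralizer ({z} : Set G)) := Subgroup.map_subtype_le Q
  have hcentH : ∀ c ∈ (Subgroup.centralizer ({z} : Set G)), (∀ q ∈ Q', c * q = q * c) → c ∈ Q' := by
    intro c hc h
    have hm : (⟨c, hc⟩ : ↥(Subgroup.centralizer ({z} : Set G))) ∈ Q := by
      rw [← hF]
      refine Components.centralizer_generalizedFittingSubgroup_le
        (Subgroup.mem_centralizer_iff.2 fun x hx => Subtype.ext ?_)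
      rw [hF] at hx
      exact (h x ⟨x, hx, rfl⟩).symm
    exact (memQ' hc).1 hm
  have hex : IsExtraspecial 2 ↥Q' := S1784.isExtraspecial_congr (Q.equivMapOfInjective _ (Subgroup.centralizer ({z} : Set G)).subtype_injective) hQ
  have hzQ : z ∈ Q' := hcentH z hzH fun q hq =>
    (Subgroup.mem_centralizer_singleton_iff.1 (hQH hq)).symm
  obtain ⟨z', hz'⟩ := ExtraTwo.exists_gen hex
  obtain rfl : z = z' := (hz'.eq_of_central hzQ fun q hq =>
    ((Subgroup.mem_centralizer_singleton_iff.1 (hQH hq)).symm : z * q = q * z)).resolve_left hz1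
  have hnormH : ∀ c ∈ (Subgroup.centralizer ({z} : Set G)), ∀ q ∈ Q', c * q * c⁻¹ ∈ Q' := by
    intro c hc q hq
    exact ⟨⟨c, hc⟩ * ⟨q, hQH hq⟩ * ⟨c, hc⟩⁻¹, hQn.conj_mem _ ((memQ' (hQH hq)).2 hq) _, rfl⟩
  have hcent : Subgroup.centralizer (Q' : Set G) = (Subgroup.center ↥Q').map Q'.subtype := by
    refine le_antisymm (fun c hc => ?_) ?_
    · have hc' : c ∈ Q' := hcentH c (Subgroup.mem_centralizer_singleton_iff.2
        (Subgroup.mem_centralizer_iff.1 hc z hzQ).symm) fun q hq =>
          (Subgroup.mem_centralizer_iff.1 hc q hq).symm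
      exact ⟨⟨c, hc'⟩, Subgroup.mem_center_iff.2 fun q =>
        Subtype.ext (Subgroup.mem_centralizer_iff.1 hc q q.2), rfl⟩
    · intro x hx
      exact Subgroup.mem_centralizer_iff.2 fun q hq => (LargeES.centre_commute hx hq).eq.symm
  have hnorm : Subgroup.centralizer (((Subgroup.center ↥Q').map Q'.subtype : Subgroup G) : Set G)
      ≤ Subgroup.normalizer (Q' : Set G) := by
    intro c hc
    have hcH : c ∈ (Subgroup.centralizer ({z} : Set G)) := Subgroup.mem_centralizer_singleton_iff.2
      (Subgroup.mem_centralizer_iff.1 hc z hz'.mem).symm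
    rw [Subgroup.mem_normalizer_iff]
    refine fun q => ⟨hnormH c hcH q, fun h => ?_⟩
    have := hnormH c⁻¹ (inv_mem hcH) _ h
    simpa [mul_assoc] using this
  -- the second conjugate
  obtain ⟨g, ⟨hgH', hgQ0⟩, hgne⟩ := hnwc
  have hgQ : g * z * g⁻¹ ∈ Q' := (memQ' hgH').1 hgQ0
  have hgH : g ∉ (Subgroup.centralizer ({z} : Set G)) := fun h => hgne
    (mul_inv_eq_iff_eq_mul.2 (Subgroup.mem_centralizer_singleton_iff.1 h))
  set s := g * z * g⁻¹ with hs
  have hsZ : s ∉ (Subgroup.center ↥Q').map Q'.subtype := fun h => by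
    rcases hz'.all s h with e | e
    · exact hz1 (by simpa [hs] using e)
    · exact hgne e
  have hlarge : IsLargeExtraspecial Q' := by
    refine ⟨hex, hcent, hnorm, fun K hK hQK => ?_⟩
    have hG : LargeExtra.Good Q' z :=
      { x_mem := hzQ
        x_sq := hz2
        x_ne := hz1
        le_cent := fun q hq => (hz'.commute hq).eq.symm
        comm := fun a ha b hb => (hz'.conj_cases ha hb).imp id fun e => e.trans (hz'.commute hb).eq
        centre := fun a ha hc => hz'.eq_of_central ha hc
        nonab := by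
          by_contra hne
          push Not at hne
          refine hsZ ⟨⟨s, hgQ⟩, Subgroup.mem_center_iff.2 fun q => Subtype.ext ?_, rfl⟩
          exact hne q q.2 s hgQ
        norm := fun c hc => hnormH c (Subgroup.mem_centralizer_singleton_iff.2 hc)
        cent := fun c hc => hcentH c (Subgroup.mem_centralizer_singleton_iff.2 (hc z hzQ)) hc }
    have S := ExtraTwo.Pair.setting_of_good hG hgH hgQ
    refine LargeES.eq_bot_of_centre_le hex hcent hnorm hK hQK hgQ hsZ S.hS.x_sq
      (hex.1.1.map (MulAut.conj g).toMonoidHom)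
      (fun x hx p hp => S.hS.norm x (Subgroup.mem_centralizer_singleton_iff.1 hx) p hp) ?_
    rw [hz'.map_center_eq, Subgroup.zpowers_le]
    exact S.hz
  haveI : Nontrivial G := ⟨z, 1, hz1⟩
  refine IsSimpleGroup.mk fun N hN => ?_
  by_cases hN1 : N = ⊥
  · exact Or.inl hN1
  right
  haveI := hN
  set M := N.subgroupOf (Subgroup.centralizer ({z} : Set G)) with hM
  haveI : M.Normal := hN.comap (Subgroup.centralizer ({z} : Set G)).subtype
  have hzN : z ∈ N := by
    by_contra hzN
    apply hN1
    have key : ∀ x ∈ N, x ∈ Q' → x = 1 := by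
      intro x hx hxQ
      by_contra hx1
      by_cases hc : ∀ q ∈ Q', Commute x q
      · rcases hz'.eq_of_central hxQ hc with e | e
        exacts [hx1 e, hzN (e ▸ hx)]
      · push Not at hc
        obtain ⟨q, hq, hne⟩ := hc
        refine hzN ?_
        rw [← hz'.comm_eq_of_not_commute hxQ hq hne, mul_assoc, mul_assoc]
        refine mul_mem hx ?_
        rw [← mul_assoc]
        exact hN.conj_mem _ (inv_mem hx) q
    have hfree : ∀ x ∈ N, Commute z x → x = 1 := by
      intro x hx hc
      have hxH : x ∈ (Subgroup.centralizer ({z} : Set G)) := Subgroup.mem_centralizer_singleton_iff.2 hc.eq.symm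
      refine key x hx (hcentH x hxH fun q hq => ?_)
      have h1 : x * q * x⁻¹ * q⁻¹ = 1 := by
        refine key _ ?_ (mul_mem (hnormH x hxH q hq) (inv_mem hq))
        rw [mul_assoc, mul_assoc, ← mul_assoc q]
        exact mul_mem hx (hN.conj_mem _ (inv_mem hx) q)
      rwa [mul_inv_eq_one, mul_inv_eq_iff_eq_mul] at h1
    refine hlarge.2.2.2 N ?_ ?_
    · rw [← Nat.not_even_iff_odd]
      intro he
      obtain ⟨x, hx⟩ := exists_prime_orderOf_dvd_card' (G := ↥N) 2 (even_iff_two_dvd.1 he)
      have hx2 : (x : G) * x = 1 := by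
        rw [← pow_two, ← hx, ← Subgroup.orderOf_coe]
        exact pow_orderOf_eq_one _
      have hx1 : (x : G) ≠ 1 := fun e => by
        rw [show x = 1 from Subtype.ext e] at hx; simp at hx
      have hinv := LargeES.inverts_of_fixedPointFree hz2 (fun l hl => hN.conj_mem l hl z) hfree x.2
      rw [inv_eq_of_mul_eq_one_right hx2, mul_inv_eq_iff_eq_mul] at hinv
      exact hx1 (hfree _ x.2 hinv)
    · exact fun q _ => Subgroup.mem_normalizer_iff.2 fun n =>
        ⟨fun h => hN.conj_mem n h q, fun h => by simpa [mul_assoc] using hN.conj_mem _ h q⁻¹⟩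
  have hsN : s ∈ N := hN.conj_mem z hzN g
  have hQN : Q ≤ M := by
    have hsQ : (⟨s, hgH'⟩ : ↥(Subgroup.centralizer ({z} : Set G))) ∈ M ⊓ Q := ⟨hsN, hgQ0⟩
    rcases hirr (M ⊓ Q) inferInstance inf_le_right with e | e
    · exact e ▸ inf_le_left
    · exfalso
      rcases LargeExtra.eq_or_of_mem_zpowers hz2 (e _ hsQ) with e | e
      · exact hz1 (by simpa [hs] using e)
      · exact hgne e
  rcases (hsimp.eq_bot_or_eq_top_of_normal (M.map (QuotientGroup.mk' Q))
      (Subgroup.Normal.map inferInstance _ (QuotientGroup.mk'_surjective Q))) with e | e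
  · exfalso
    rw [Subgroup.map_eq_bot_iff, QuotientGroup.ker_mk'] at e
    apply hwcl
    have hsub : {x : ↥(Subgroup.centralizer ({z} : Set G)) | IsConj z (x : G)} ⊆ (Q : Set ↥(Subgroup.centralizer ({z} : Set G))) := by
      intro x hx
      obtain ⟨c, hc⟩ := isConj_iff.1 hx
      exact e (show (x : G) ∈ N from hc ▸ hN.conj_mem z hzN c)
    set W := Subgroup.closure {x : ↥(Subgroup.centralizer ({z} : Set G)) | IsConj z (x : G)} with hW
    have hWn : W.Normal := by
      constructor
      intro n hn c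
      have : ∀ x ∈ W, c * x * c⁻¹ ∈ W := by
        intro x hx
        induction hx using Subgroup.closure_induction with
        | mem x hx =>
          refine Subgroup.subset_closure ?_
          show IsConj z ((c : G) * x * (c : G)⁻¹)
          exact hx.trans (isConj_iff.2 ⟨c, rfl⟩)
        | one => simp
        | mul a b _ _ iha ihb =>
          rw [show c * (a * b) * c⁻¹ = (c * a * c⁻¹) * (c * b * c⁻¹) by group]
          exact mul_mem iha ihb
        | inv a _ iha =>
          rw [show c * a⁻¹ * c⁻¹ = (c * a * c⁻¹)⁻¹ by group]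
          exact inv_mem iha
      exact this n hn
    rcases hirr W hWn ((Subgroup.closure_le Q).2 hsub) with e' | e'
    · exact e'
    · exfalso
      rcases LargeExtra.eq_or_of_mem_zpowers hz2
        (e' ⟨s, hgH'⟩ (Subgroup.subset_closure (isConj_iff.2 ⟨g, rfl⟩))) with e | e
      · exact hz1 (by simpa [hs] using e)
      · exact hgne e
  · have hMtop : ∀ c (hc : c ∈ (Subgroup.centralizer ({z} : Set G))), c ∈ N := by
      intro c hc
      have : QuotientGroup.mk' Q ⟨c, hc⟩ ∈ M.map (QuotientGroup.mk' Q) := e ▸ Subgroup.mem_top _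
      rw [← Subgroup.mem_comap, Subgroup.comap_map_eq, QuotientGroup.ker_mk', sup_eq_left.2 hQN] at this
      exact this
    have hfr := Cfsg.Agent.S5433.result Q' hlarge N (fun q hq => hMtop q (hQH hq))
    rw [eq_top_iff, ← hfr]
    refine sup_le le_rfl fun n hn => hMtop n (Subgroup.mem_centralizer_singleton_iff.2 ?_)
    have hmem : n * z * n⁻¹ ∈ Q' := (Subgroup.mem_normalizer_iff.1 hn z).1 hzQ
    have := (hz'.eq_of_central hmem fun q hq => ?_).resolve_left (fun e => hz1 (by simpa using e))
    · exact mul_inv_eq_iff_eq_mul.1 this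
    · have hq' : n⁻¹ * q * n ∈ Q' := by
        simpa using (Subgroup.mem_normalizer_iff.1 (inv_mem hn) q).1 hq
      have e := (hz'.commute hq').map (MulAut.conj n).toMonoidHom
      simpa [mul_assoc] using e

end Cfsg.Agent.S5436
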