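import Cfsg.Statements.S5437
import Mathlib

set_option autoImplicit false
open Cfsg

namespace Cfsg.Agent.S5437

theorem smul_mk_eq_iff {G : Type*} [Group G] (H : Subgroup G) (x g : G) :
    x • (g : G ⧸ H) = (g : G ⧸ H) ↔ g⁻¹ * x * g ∈ H := by
  rw [MulAction.Quotient.smul_coe, QuotientGroup.eq]
  constructor
  · intro h
    have := H.inv_mem h
    simpa [smul_eq_mul, mul_assoc] using this
  · intro h
    have := H.inv_mem h
    simpa [smul_eq_mul, mul_assoc] using this


/-- Let I be a set of involutions of the finite group G closed under conjugation, and H a subgroup of G. The following are equivalent: (1) for every member x of I lying in H, the conjugates of x lying in H form a single H-class and the centralizer of x lies in H; (2) for every g outside H, no member of I lies in both H and g H g⁻¹; (3) every member of I lying in H fixes exactly one coset in the action of G on the cosets of H. -/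
theorem result {G : Type*} [Group G] [Finite G] (I : Set G) (hI : ∀ x ∈ I, orderOf x = 2) (hIc : ∀ g : G, ∀ x ∈ I, g * x * g⁻¹ ∈ I) (H : Subgroup G) : ((∀ x ∈ I, x ∈ H → (∀ g : G, g * x * g⁻¹ ∈ H → ∃ h ∈ H, h * x * h⁻¹ = g * x * g⁻¹) ∧ Subgroup.centralizer ({x} : Set G) ≤ H) ↔ (∀ g : G, g ∉ H → ∀ x ∈ I, ¬ (x ∈ H ∧ x ∈ (H : Subgroup G).map (MulAut.conj g).toMonoidHom))) ∧ ((∀ g : G, g ∉ H → ∀ x ∈ I, ¬ (x ∈ H ∧ x ∈ (H : Subgroup G).map (MulAut.conj g).toMonoidHom)) ↔ ∀ x ∈ I, x ∈ H → ∃! c : G ⧸ H, x • c = c) := by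
  constructor
  · constructor
    · intro h g hg x hxI ⟨hxH, hxc⟩
      obtain ⟨y, hy, rfl⟩ := hxc
      have hyI : y ∈ I := by
        have := hIc g⁻¹ _ hxI
        simpa [mul_assoc] using this
      simp at hxH
      obtain ⟨k, hk, hk2⟩ := (h y hyI hy).1 g hxH
      have : g⁻¹ * k ∈ H := (h y hyI hy).2 (by
        rw [Subgroup.mem_centralizer_singleton_iff]
        calc g⁻¹ * k * y = g⁻¹ * (k * y * k⁻¹) * k := by group
          _ = y * (g⁻¹ * k) := by rw [hk2]; group)
      apply hg
      have := H.mul_mem hk (H.inv_mem this)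
      simpa [mul_assoc] using this
    · intro h x hxI hxH
      have key : ∀ g : G, g * x * g⁻¹ ∈ H → g ∈ H := by
        intro g hg
        by_contra hgn
        refine h g hgn (g * x * g⁻¹) (hIc g x hxI) ⟨hg, ⟨x, hxH, ?_⟩⟩
        simp
      refine ⟨fun g hg => ⟨g, key g hg, rfl⟩, fun c hc => key c ?_⟩
      rw [Subgroup.mem_centralizer_singleton_iff] at hc
      rw [hc, mul_inv_cancel_right]
      exact hxH
  · constructor
    · intro h x hxI hxH
      refine ⟨((1 : G) : G ⧸ H), (smul_mk_eq_iff H x 1).2 (by simpa using hxH), ?_⟩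
      intro c hc
      induction c using QuotientGroup.induction_on with
      | H g =>
        rw [smul_mk_eq_iff] at hc
        rw [QuotientGroup.eq]
        by_contra hgn
        refine h g (fun hg => hgn (by simpa using hg)) x hxI ⟨hxH, ⟨g⁻¹ * x * g, hc, ?_⟩⟩
        simp [mul_assoc]
    · intro h g hg x hxI ⟨hxH, hxc⟩
      obtain ⟨y, hy, rfl⟩ := hxc
      simp at hxH hxI
      have e := (h _ hxI hxH).unique
        ((smul_mk_eq_iff H (g * y * g⁻¹) 1).2 (by simpa using hxH))
        ((smul_mk_eq_iff H (g * y * g⁻¹) g).2 (by simpa [mul_assoc] using hy))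
      rw [QuotientGroup.eq] at e
      exact hg (by simpa using e)

end Cfsg.Agent.S5437
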