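import Cfsg.Statements.S5438
import Mathlib

set_option autoImplicit false
open Cfsg

namespace Cfsg.Agent.S5438

theorem smul_mk_eq_iff {G : Type*} [Group G] (H : Subgroup G) (x g : G) :
    x • (g : G ⧸ H) = (g : G ⧸ H) ↔ g⁻¹ * x * g ∈ H := by
  rw [MulAction.Quotient.smul_coe, QuotientGroup.eq]
  constructor
  · intro h
    have := H.inv_mem h
    simpa [smul_eq_mul, mul_assoc] using this
  · intro h
    have := H.inv_mem h
    simpa [smul_eq_mul, mul_assoc] using this

theorem odd_index {G : Type*} [Group G] [Finite G] (z : G) (hz : orderOf z = 2) (H : Subgroup G)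
    (hzH : z ∈ H) (hfix : ∀ g : G, g⁻¹ * z * g ∈ H → g ∈ H) : Odd H.index := by
  have hP : IsPGroup 2 (Subgroup.zpowers z) :=
    IsPGroup.of_card (n := 1) (by rw [Nat.card_zpowers, hz, pow_one])
  haveI : Fact (Nat.Prime 2) := ⟨Nat.prime_two⟩
  have h := hP.card_modEq_card_fixedPoints (G ⧸ H)
  have hone : Nat.card (MulAction.fixedPoints (Subgroup.zpowers z) (G ⧸ H)) = 1 := by
    rw [Nat.card_eq_one_iff_unique]
    refine ⟨⟨fun a b => Subtype.ext ?_⟩, ⟨⟨((1 : G) : G ⧸ H), ?_⟩⟩⟩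
    · have key : ∀ c ∈ MulAction.fixedPoints (Subgroup.zpowers z) (G ⧸ H), c = ((1 : G) : G ⧸ H) := by
        intro c hc
        induction c using QuotientGroup.induction_on with
        | H g =>
          have := (smul_mk_eq_iff H z g).1 (hc ⟨z, Subgroup.mem_zpowers z⟩)
          rw [QuotientGroup.eq]
          simpa using hfix g this
      rw [key a a.2, key b b.2]
    · rintro ⟨w, hw⟩
      change w • ((1 : G) : G ⧸ H) = _
      rw [smul_mk_eq_iff]
      have : w ∈ H := (Subgroup.zpowers_le.2 hzH) hw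
      simpa using this
  rw [hone] at h
  rw [Nat.odd_iff]
  exact h


/-- Let z be a 2-central involution of the finite group G (an involution central in some Sylow 2-subgroup) and H a subgroup containing z such that the coset H is the only coset of H fixed by z (in the action of G on the cosets of H). Then H has odd index in G, and for every 2-element x of H the conjugates of x lying in H form a single H-class. -/
theorem result {G : Type*} [Group G] [Finite G] (z : G) (hz : Cfsg.IsTwoCentralInvolution z) (H : Subgroup G) (hzH : z ∈ H) (hfix : ∀ g : G, g⁻¹ * z * g ∈ H → g ∈ H) : Odd H.index ∧ ∀ x ∈ H, (∃ k : ℕ, orderOf x = 2 ^ k) → ∀ g : G, g * x * g⁻¹ ∈ H → ∃ h ∈ H, h * x * h⁻¹ = g * x * g⁻¹ := by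
  obtain ⟨hz2, P, hzP, hPc⟩ := hz
  refine ⟨odd_index z hz2 H hzH hfix, ?_⟩
  intro x hxH hx2 g hgx
  haveI : Fact (Nat.Prime 2) := ⟨Nat.prime_two⟩
  have hPH : (P : Subgroup G) ≤ H := fun w hw => hfix w (by
    rw [mul_assoc, ← hPc w hw, inv_mul_cancel_left]; exact hzH)
  -- every 2-element of H commutes with an H-conjugate of z
  have key : ∀ u ∈ H, (∃ k : ℕ, orderOf u = 2 ^ k) →
      ∃ k ∈ H, Commute u (k * z * k⁻¹) := by
    intro u hu ⟨n, hn⟩
    have hU : IsPGroup 2 (Subgroup.zpowers (⟨u, hu⟩ : H)) :=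
      IsPGroup.of_card (n := n) (by rw [Nat.card_zpowers, Subgroup.orderOf_mk, hn])
    obtain ⟨Q, hQ⟩ := hU.exists_le_sylow
    obtain ⟨k, hk⟩ := MulAction.exists_smul_eq H (P.subtype hPH) Q
    refine ⟨(k : G), k.2, ?_⟩
    have h1 : (⟨u, hu⟩ : H) ∈ (k • P.subtype hPH : Sylow 2 H) := by
      rw [hk]; exact hQ (Subgroup.mem_zpowers _)
    obtain ⟨w, hw, hwe⟩ := h1
    have hwP : (w : G) ∈ (P : Subgroup G) := hw
    have he : (k : G) * (w : G) * (k : G)⁻¹ = u := congrArg Subtype.val hwe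
    rw [← he]
    have hc : Commute (w : G) z := hPc w hwP
    exact (hc.map (MulAut.conj (k : G)).toMonoidHom)
  obtain ⟨k₁, hk₁, hc₁⟩ := key x hxH hx2
  obtain ⟨k₂, hk₂, hc₂⟩ := key (g * x * g⁻¹) hgx (by
    obtain ⟨n, hn⟩ := hx2
    exact ⟨n, by rw [← MulAut.conj_apply, MulEquiv.orderOf_eq, hn]⟩)
  set y := g * x * g⁻¹ with hy
  set z₁ := k₁ * z * k₁⁻¹ with hz₁
  set z₂ := k₂ * z * k₂⁻¹ with hz₂
  let C := Subgroup.centralizer ({y} : Set G)
  have hz₂C : z₂ ∈ C := Subgroup.mem_centralizer_singleton_iff.2 hc₂.eq.symm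
  have hodd : Odd (H.subgroupOf C).index := by
    apply odd_index (⟨z₂, hz₂C⟩ : C) ?_ (H.subgroupOf C) ?_ ?_
    · rw [Subgroup.orderOf_mk, hz₂, ← MulAut.conj_apply, MulEquiv.orderOf_eq, hz2]
    · exact H.mul_mem (H.mul_mem hk₂ hzH) (H.inv_mem hk₂)
    · intro c hc
      have h2 : (c : G)⁻¹ * z₂ * (c : G) ∈ H := hc
      rw [hz₂] at h2
      have : k₂⁻¹ * (c : G) ∈ H := hfix _ (by
        have : (k₂⁻¹ * (c : G))⁻¹ * z * (k₂⁻¹ * (c : G)) = (c : G)⁻¹ * (k₂ * z * k₂⁻¹) * c := by group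
        rw [this]; exact h2)
      have := H.mul_mem hk₂ this
      rw [mul_inv_cancel_left] at this
      exact this
  obtain ⟨T⟩ := (inferInstance : Nonempty (Sylow 2 (H.subgroupOf C)))
  have hTmax : ∀ v : C, orderOf v = 2 → ∃ c : C, c * v * c⁻¹ ∈ H.subgroupOf C := by
    intro v hv
    have hV : IsPGroup 2 (Subgroup.zpowers v) :=
      IsPGroup.of_card (n := 1) (by rw [Nat.card_zpowers, hv, pow_one])
    obtain ⟨Q, hQ⟩ := hV.exists_le_sylow
    have hcard : Nat.card ((T : Subgroup (H.subgroupOf C)).map (H.subgroupOf C).subtype) =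
        2 ^ (Nat.card C).factorization 2 := by
      rw [Subgroup.card_map_of_injective (Subgroup.subtype_injective _), T.card_eq_multiplicity,
        ← Subgroup.card_mul_index (H.subgroupOf C), Nat.factorization_mul Nat.card_pos.ne'
          (Subgroup.index_ne_zero_of_finite), Finsupp.add_apply]
      rw [Nat.factorization_eq_zero_of_not_dvd (n := (H.subgroupOf C).index) (fun hd => ?_), add_zero]
      exact (Nat.not_even_iff_odd.2 hodd) (even_iff_two_dvd.2 hd)
    let T' : Sylow 2 C := Sylow.ofCard _ hcard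
    obtain ⟨c, hc⟩ := MulAction.exists_smul_eq C Q T'
    refine ⟨c, ?_⟩
    have : c * v * c⁻¹ ∈ (c • Q : Sylow 2 C) := ⟨v, hQ (Subgroup.mem_zpowers v), rfl⟩
    rw [hc] at this
    obtain ⟨w, _, hw⟩ : c * v * c⁻¹ ∈ (T : Subgroup (H.subgroupOf C)).map (H.subgroupOf C).subtype := this
    rw [← hw]; exact w.2
  have hgz : g * z₁ * g⁻¹ ∈ C :=
    Subgroup.mem_centralizer_singleton_iff.2 (hc₁.symm.map (MulAut.conj g).toMonoidHom).eq
  obtain ⟨c, hc⟩ := hTmax ⟨_, hgz⟩ (by
    rw [Subgroup.orderOf_mk, ← MulAut.conj_apply, MulEquiv.orderOf_eq, hz₁, ← MulAut.conj_apply,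
      MulEquiv.orderOf_eq, hz2])
  have h3 : (c : G) * (g * z₁ * g⁻¹) * (c : G)⁻¹ ∈ H := hc
  have h4 : ((c : G) * g * k₁)⁻¹ ∈ H := hfix _ (by
    have : (((c : G) * g * k₁)⁻¹)⁻¹ * z * ((c : G) * g * k₁)⁻¹ = (c : G) * (g * z₁ * g⁻¹) * (c : G)⁻¹ := by
      rw [hz₁]; group
    rw [this]; exact h3)
  have h5 : (c : G) * g ∈ H := by
    have := H.mul_mem (H.inv_mem h4) (H.inv_mem hk₁)
    simpa [mul_assoc] using this
  refine ⟨(c : G) * g, h5, ?_⟩
  have hcy : (c : G) * y = y * c := Subgroup.mem_centralizer_singleton_iff.1 c.2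
  calc (c : G) * g * x * ((c : G) * g)⁻¹ = (c : G) * y * (c : G)⁻¹ := by rw [hy]; group
    _ = y := by rw [hcy, mul_inv_cancel_right]

end Cfsg.Agent.S5438
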