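import Cfsg.Statements.S5439
import Mathlib

set_option autoImplicit false
open Cfsg

namespace Cfsg.Agent.S5439

theorem smul_mk_eq_iff {G : Type*} [Group G] (H : Subgroup G) (x g : G) :
    x • (g : G ⧸ H) = (g : G ⧸ H) ↔ g⁻¹ * x * g ∈ H := by
  rw [MulAction.Quotient.smul_coe, QuotientGroup.eq]
  constructor
  · intro h
    have := H.inv_mem h
    simpa [smul_eq_mul, mul_assoc] using this
  · intro h
    have := H.inv_mem h
    simpa [smul_eq_mul, mul_assoc] using this


/-- Let I and J be two different conjugacy classes of involutions of the finite group G and H a subgroup such that every member of I ∪ J fixes exactly one coset in the action on the cosets of H, and such that for every a in I ∩ H and every b in (I ∪ J) ∩ H different from a and commuting with it, the centralizer of a b lies in H. Then H = G. -/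
theorem result {G : Type*} [Group G] [Finite G] (I J : Set G) (a₀ b₀ : G) (ha₀ : orderOf a₀ = 2) (hb₀ : orderOf b₀ = 2) (hI : I = {x | IsConj a₀ x}) (hJ : J = {x | IsConj b₀ x}) (hIJ : I ≠ J) (H : Subgroup G) (hfix : ∀ x ∈ I ∪ J, ∃! c : G ⧸ H, x • c = c) (hcent : ∀ a ∈ I, a ∈ H → ∀ b ∈ I ∪ J, b ∈ H → a ≠ b → a * b = b * a → Subgroup.centralizer ({a * b} : Set G) ≤ H) : H = ⊤ := by
  have hmemI : ∀ x ∈ I, orderOf x = 2 := by
    intro x hx
    rw [hI] at hx
    obtain ⟨c, rfl⟩ := isConj_iff.1 hx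
    rw [← MulAut.conj_apply, MulEquiv.orderOf_eq, ha₀]
  have hmemJ : ∀ x ∈ J, orderOf x = 2 := by
    intro x hx
    rw [hJ] at hx
    obtain ⟨c, rfl⟩ := isConj_iff.1 hx
    rw [← MulAut.conj_apply, MulEquiv.orderOf_eq, hb₀]
  have hIc : ∀ g : G, ∀ x ∈ I, g * x * g⁻¹ ∈ I := by
    intro g x hx; rw [hI] at hx ⊢; exact hx.trans (isConj_iff.2 ⟨g, rfl⟩)
  have hJc : ∀ g : G, ∀ x ∈ J, g * x * g⁻¹ ∈ J := by
    intro g x hx; rw [hJ] at hx ⊢; exact hx.trans (isConj_iff.2 ⟨g, rfl⟩)
  have hdisj : ∀ x ∈ I, ∀ y ∈ J, ¬ IsConj x y := by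
    intro x hx y hy hxy
    rw [hI] at hx; rw [hJ] at hy
    have hab : IsConj a₀ b₀ := (IsConj.trans hx hxy).trans (IsConj.symm hy)
    apply hIJ
    rw [hI, hJ]
    ext u
    exact ⟨fun h => hab.symm.trans h, fun h => hab.trans h⟩
  -- any member of I and any member of J have the same fixed coset
  have same : ∀ x ∈ I, ∀ y ∈ J, ∀ c : G ⧸ H, x • c = c → y • c = c := by
    intro x hx y hy c hc
    induction c using QuotientGroup.induction_on with
    | H g =>
    rw [smul_mk_eq_iff] at hc ⊢
    have hxx : x * x = 1 := by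
      have := pow_orderOf_eq_one x; rwa [hmemI x hx, pow_two] at this
    have hyy : y * y = 1 := by
      have := pow_orderOf_eq_one y; rwa [hmemJ y hy, pow_two] at this
    have hxi : x⁻¹ = x := inv_eq_of_mul_eq_one_right hxx
    have hyi : y⁻¹ = y := inv_eq_of_mul_eq_one_right hyy
    -- the rotation r = x * y has even order
    set r := x * y with hr
    have hxr : x * r * x⁻¹ = r⁻¹ := by rw [hr, mul_inv_rev, hxi, hyi, ← mul_assoc, hxx, one_mul]
    have hxrz : ∀ k : ℤ, x * r ^ k * x⁻¹ = r ^ (-k) := by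
      intro k; rw [← conj_zpow, hxr, inv_zpow']
    have heven : Even (orderOf r) := by
      by_contra hne
      obtain ⟨m, hm⟩ := Nat.not_even_iff_odd.1 hne
      refine hdisj x hx y hy (isConj_iff.2 ⟨r ^ (m : ℤ), ?_⟩)
      have h1 : r ^ ((2 * m + 1 : ℕ) : ℤ) = 1 := by rw [← hm, zpow_natCast, pow_orderOf_eq_one]
      calc r ^ (m : ℤ) * x * (r ^ (m : ℤ))⁻¹
          = x * (x⁻¹ * r ^ (m : ℤ) * x) * r ^ (-(m : ℤ)) := by group
        _ = x * r ^ (-(m : ℤ)) * r ^ (-(m : ℤ)) := by
            rw [show x⁻¹ * r ^ (m : ℤ) * x = r ^ (-(m : ℤ)) from by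
              conv_lhs => rw [show (x : G) = x⁻¹ from hxi.symm, inv_inv, hxrz]
              ]
        _ = x * r := by
            rw [mul_assoc, ← zpow_add]
            congr 1
            calc r ^ (-(m : ℤ) + -(m : ℤ))
                = r ^ (-(m : ℤ) + -(m : ℤ)) * r ^ ((2 * m + 1 : ℕ) : ℤ) := by rw [h1, mul_one]
              _ = r ^ (1 : ℤ) := by rw [← zpow_add]; congr 1; push_cast; ring
              _ = r := zpow_one r
        _ = y := by rw [hr, ← mul_assoc, hxx, one_mul]
    obtain ⟨m, hm⟩ := heven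
    have hm0 : 0 < m := by have := orderOf_pos r; omega
    set w := r ^ m with hw
    have hw1 : w ≠ 1 := pow_ne_one_of_lt_orderOf (by omega) (by omega)
    have hww : w * w = 1 := by rw [hw, ← pow_add, ← hm, pow_orderOf_eq_one]
    have hwi : w⁻¹ = w := inv_eq_of_mul_eq_one_right hww
    have hxw : x * w = w * x := by
      have h : x * w * x⁻¹ = w⁻¹ := by rw [hw, ← conj_pow, hxr, inv_pow]
      rw [hwi] at h
      exact mul_inv_eq_iff_eq_mul.1 h
    have hrw : r * w = w * r := (Commute.refl r).pow_right m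
    have hyw : y * w = w * y := by
      have hy' : y = x * r := by rw [hr, ← mul_assoc, hxx, one_mul]
      calc y * w = x * (r * w) := by rw [hy', mul_assoc]
        _ = (x * w) * r := by rw [hrw, mul_assoc]
        _ = w * y := by rw [hxw, hy', mul_assoc]
    -- x * w is conjugate to x or to y
    have hconj : x * w ∈ I ∪ J := by
      rcases Nat.even_or_odd m with ⟨n, hn⟩ | ⟨n, hn⟩
      · left
        have : r ^ (-(n : ℤ)) * x * (r ^ (-(n : ℤ)))⁻¹ = x * w := by
          calc r ^ (-(n : ℤ)) * x * (r ^ (-(n : ℤ)))⁻¹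
              = x * (x⁻¹ * r ^ (-(n : ℤ)) * x) * r ^ (n : ℤ) := by group
            _ = x * r ^ (n : ℤ) * r ^ (n : ℤ) := by
                conv_lhs => rw [show x⁻¹ * r ^ (-(n : ℤ)) * x = r ^ (n : ℤ) from by
                  conv_lhs => rw [show (x : G) = x⁻¹ from hxi.symm, inv_inv, hxrz, neg_neg]]
            _ = x * w := by rw [mul_assoc, ← zpow_add, ← Nat.cast_add, ← hn, zpow_natCast]
        exact this ▸ hIc _ _ hx
      · right
        have : r ^ (-(n : ℤ)) * y * (r ^ (-(n : ℤ)))⁻¹ = x * w := by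
          have hy' : y = x * r := by rw [hr, ← mul_assoc, hxx, one_mul]
          calc r ^ (-(n : ℤ)) * y * (r ^ (-(n : ℤ)))⁻¹
              = x * (x⁻¹ * r ^ (-(n : ℤ)) * x) * r * r ^ (n : ℤ) := by rw [hy']; group
            _ = x * r ^ (n : ℤ) * r * r ^ (n : ℤ) := by
                conv_lhs => rw [show x⁻¹ * r ^ (-(n : ℤ)) * x = r ^ (n : ℤ) from by
                  conv_lhs => rw [show (x : G) = x⁻¹ from hxi.symm, inv_inv, hxrz, neg_neg]]
            _ = x * w := by
                rw [hw, mul_assoc x, mul_assoc, mul_assoc, ← zpow_one_add, ← zpow_add,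
                  ← zpow_natCast r m, hn]
                congr 2
                push_cast; ring
        exact this ▸ hJc _ _ hy
    -- move to H
    have huniq := hfix x (Or.inl hx)
    have hxwg : g⁻¹ * (x * w) * g ∈ H := by
      rw [← smul_mk_eq_iff]
      apply huniq.unique ?_ ((smul_mk_eq_iff H x g).2 hc)
      rw [← mul_smul, show x * (x * w) = (x * w) * x from by rw [mul_assoc x w x, ← hxw],
        mul_smul, (smul_mk_eq_iff H x g).2 hc]
    have hcw : Subgroup.centralizer ({g⁻¹ * x * g * (g⁻¹ * (x * w) * g)} : Set G) ≤ H := by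
      apply hcent
      · simpa using hIc g⁻¹ x hx
      · exact hc
      · rcases hconj with h | h
        · left; simpa using hIc g⁻¹ _ h
        · right; simpa using hJc g⁻¹ _ h
      · exact hxwg
      · intro h
        have : x = x * w := by simpa using h
        exact hw1 (by simpa using this)
      · calc g⁻¹ * x * g * (g⁻¹ * (x * w) * g) = g⁻¹ * (x * (x * w)) * g := by group
          _ = g⁻¹ * ((x * w) * x) * g := by rw [mul_assoc x w x, ← hxw]
          _ = g⁻¹ * (x * w) * g * (g⁻¹ * x * g) := by group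
    apply hcw
    rw [Subgroup.mem_centralizer_singleton_iff]
    have e : g⁻¹ * x * g * (g⁻¹ * (x * w) * g) = g⁻¹ * w * g := by
      rw [show g⁻¹ * x * g * (g⁻¹ * (x * w) * g) = g⁻¹ * (x * x * w) * g by group, hxx, one_mul]
    rw [e]
    calc g⁻¹ * y * g * (g⁻¹ * w * g) = g⁻¹ * (y * w) * g := by group
      _ = g⁻¹ * (w * y) * g := by rw [hyw]
      _ = g⁻¹ * w * g * (g⁻¹ * y * g) := by group
  have ha : a₀ ∈ I := by rw [hI]; exact IsConj.refl a₀
  have hb : b₀ ∈ J := by rw [hJ]; exact IsConj.refl b₀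
  obtain ⟨c, hc, -⟩ := hfix a₀ (Or.inl ha)
  have hall : ∀ g : G, g • c = c := by
    intro g
    have h1 : b₀ • c = c := same _ ha _ hb c hc
    have h2 : g * a₀ * g⁻¹ ∈ I := hIc g _ ha
    obtain ⟨d, hd, -⟩ := hfix _ (Or.inl h2)
    have hdc : d = c := (hfix b₀ (Or.inr hb)).unique (same _ h2 _ hb d hd) h1
    have h3 : (g * a₀ * g⁻¹) • (g • c) = g • c := by
      rw [← mul_smul, inv_mul_cancel_right, mul_smul, hc]
    rw [(hfix _ (Or.inl h2)).unique h3 hd, hdc]
  induction c using QuotientGroup.induction_on with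
  | H k =>
    rw [eq_top_iff]
    intro g _
    have := (smul_mk_eq_iff H (k * g * k⁻¹) k).1 (hall _)
    simpa [mul_assoc] using this

end Cfsg.Agent.S5439
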