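import Mathlib
import Cfsg.Statements.S5443
import Cfsg.Agent.Lib.FischerType.StabIso
-- import your own Cfsg.Agent.* helpers here

set_option autoImplicit false
open Cfsg

namespace Cfsg.Agent.S5443

/-- Let G be a finite group of large Fischer type at the involution z: the generalized Fitting subgroup Q of H = C_G(z) is extraspecial of order 2^13, H has normal subgroups Q ≤ H₁ ≤ H₂ with H₁/Q of order 3, H₂/H₁ the projective special unitary group of dimension 4 over the field with nine elements and H₂ of index 2 in H, and some conjugate of z other than z lies in Q. Let t be an involution of Q not conjugate to z in G, and S the set of elements of H conjugating t to t or to t z (the stabilizer of the image of t in Q modulo its centre). Then the image of S in H/Q is isomorphic to the full isometry group of the elliptic quadratic form in dimension 6 over the field with two elements. -/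
theorem result {G : Type*} [Group G] [Finite G] (z : G) (Q : Subgroup (Subgroup.centralizer ({z} : Set G))) [Q.Normal] (hF : Cfsg.IsOfLargeFischerTypeAt z Q) (t : Subgroup.centralizer ({z} : Set G)) (htQ : t ∈ Q) (ht2 : orderOf t = 2) (ht : ¬ IsConj z (t : G)) (S : Subgroup (Subgroup.centralizer ({z} : Set G))) (hS : ∀ h : Subgroup.centralizer ({z} : Set G), h ∈ S ↔ (h * t * h⁻¹ = t ∨ ((h * t * h⁻¹ : Subgroup.centralizer ({z} : Set G)) : G) = t * z)) : Nonempty (↥(S.map (QuotientGroup.mk' Q)) ≃* Cfsg.isometryGroup (ZMod 2) (Cfsg.quadFormMinus 2 (ZMod 2) 1 1)) := by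
  classical
  obtain ⟨D⟩ := Lib.FischerType.exists_fdata hF
  haveI : Finite (Additive (Abelianization Q)) := Finite.of_equiv _ D.coord.Ψ.toEquiv
  let a : Q := ⟨t, htQ⟩
  have htz : Lib.FischerType.inG z Q a ≠ z := fun e => ht (by
    rw [show (t : G) = z from e])
  have hsing : Lib.FischerType.Sing (D.vec a) := (D.sing_vec_iff a).2 ⟨ht2, htz⟩
  obtain ⟨g, ⟨hsc, hsm⟩, hne⟩ := hF.1.2.2.2.2
  let b : Q := ⟨⟨g * z * g⁻¹, hsc⟩, hsm⟩
  obtain ⟨hbs, l, hl⟩ := D.conj_large (b := b) (isConj_iff.2 ⟨g, rfl⟩) hne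
  obtain ⟨k, -, hsmall, hlarge, -, -⟩ := D.orbits
  -- `t` lies in the small orbit
  have hblk : Lib.FischerType.blk (D.vec a) = 0 ∨ Lib.FischerType.blk (D.vec a) = k := by
    by_contra hb
    obtain ⟨g', hg'⟩ := (hlarge _ hsing).2 hb
    obtain ⟨c, hc⟩ := (D.conj_iff (a := b) (b := a) hbs).2 ⟨g' * l⁻¹, by
      rw [mul_smul, D.Ψ_vec b, ← hl, inv_smul_smul, hg']⟩
    have hc' : (c : G) * (g * z * g⁻¹) * (c : G)⁻¹ = (t : G) := congrArg Subtype.val hc
    exact ht (isConj_iff.2 ⟨c * g, by rw [← hc']; group⟩)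
  obtain ⟨h, hh⟩ := (hsmall _ hsing).2 hblk
  rw [D.Ψ_vec] at hh
  obtain ⟨e⟩ := D.coord.stab_iso (D.commute_iff hF) D.index_M D.card_L
  have hmap : S.map (QuotientGroup.mk' Q) =
      MulAction.stabilizer (Subgroup.centralizer ({z} : Set G) ⧸ Q) (Lib.FischerType.vcl Q a) := by
    ext x
    rw [MulAction.mem_stabilizer_iff]
    constructor
    · rintro ⟨c, hc, rfl⟩
      rw [QuotientGroup.mk'_apply, Lib.FischerType.smul_vcl, eq_comm, D.vcl_eq_iff]
      rcases (hS c).1 hc with r | r
      · exact Or.inl (congrArg Subtype.val r)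
      · exact Or.inr r
    · intro hx
      obtain ⟨c, rfl⟩ := QuotientGroup.mk_surjective x
      refine ⟨c, (hS c).2 ?_, rfl⟩
      rw [Lib.FischerType.smul_vcl, eq_comm, D.vcl_eq_iff] at hx
      rcases hx with r | r
      · exact Or.inl (Subtype.ext r)
      · exact Or.inr r
  rw [hmap, ← hh]
  exact ⟨(MulEquiv.subgroupCongr (MulAction.stabilizer_smul_eq_stabilizer_map_conj h _)).trans
    ((Subgroup.equivMapOfInjective _ _ (MulAut.conj h).injective).symm.trans e)⟩

end Cfsg.Agent.S5443
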