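import Cfsg.Statements.S5444
import Cfsg.Agent.Lib.Fi24Type47.Unique
-- import your own Cfsg.Agent.* helpers here

set_option autoImplicit false
open Cfsg

namespace Cfsg.Agent.S5444

/-- Let G be a finite group of large Fischer type at the involution z: the generalized Fitting subgroup Q of H = C_G(z) is extraspecial of order 2^13, H has normal subgroups Q ≤ H₁ ≤ H₂ with H₁/Q of order 3, H₂/H₁ the projective special unitary group of dimension 4 over the field with nine elements and H₂ of index 2 in H, and some conjugate of z other than z lies in Q. Let T be a Sylow 2-subgroup of H. Then T has exactly one elementary abelian subgroup A of largest order; A has order 2^11, it meets Q in a subgroup of order 2^7, and its image in H/Q has order 16. -/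
theorem result {G : Type*} [Group G] [Finite G] (z : G) (Q : Subgroup (Subgroup.centralizer ({z} : Set G))) [Q.Normal] (hF : Cfsg.IsOfLargeFischerTypeAt z Q) (T : Sylow 2 ↥(Subgroup.centralizer ({z} : Set G))) : ∃ A : Subgroup ↥(T : Subgroup (Subgroup.centralizer ({z} : Set G))), Cfsg.maxElementaryAbelianSubgroups 2 ↥(T : Subgroup (Subgroup.centralizer ({z} : Set G))) = {A} ∧ Nat.card A = 2 ^ 11 ∧ Nat.card ↥(A.map (T : Subgroup (Subgroup.centralizer ({z} : Set G))).subtype ⊓ Q) = 2 ^ 7 ∧ Nat.card ↥((A.map (T : Subgroup (Subgroup.centralizer ({z} : Set G))).subtype).map (QuotientGroup.mk' Q)) = 16 := by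
  classical
  haveI : Fact (Nat.Prime 2) := ⟨Nat.prime_two⟩
  set π := QuotientGroup.mk' Q with hπ
  obtain ⟨R⟩ := Lib.Fi24Type47.exists_rep Q hF ((T : Subgroup (Subgroup.centralizer ({z} : Set G))).map π)
    (T.isPGroup'.map π)
  obtain ⟨A, hAc, hAsq, hAQ, hAm⟩ := R.exists_A
  obtain ⟨P9, hP9, hP9c, -⟩ := Lib.Fi24Type47.exists_syl
  have hQp : IsPGroup 2 Q := IsPGroup.of_card R.D.card
  have hker : IsPGroup 2 R.img.ker := by
    rw [show R.img.ker = Q from SetLike.ext fun c => MonoidHom.mem_ker.trans (R.img_eq_one_iff c)]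
    exact hQp
  have hT : (T : Subgroup (Subgroup.centralizer ({z} : Set G))) = P9.comap R.img := by
    refine (T.is_maximal' (IsPGroup.comap_of_ker_isPGroup (IsPGroup.of_card (p := 2) (n := 9) hP9c) R.img hker)
      fun t ht => ?_).symm
    exact (hP9 _).2 (R.le_syl _ ⟨t, ht, rfl⟩)
  have hAT : A ≤ (T : Subgroup (Subgroup.centralizer ({z} : Set G))) := fun a ha => by
    rw [hT, Subgroup.mem_comap, hP9]
    exact List.contains_iff_mem.1 (List.all_eq_true.1 Lib.Fi24Type47.syl_contains _
      (Lib.Fi24Type47.kL_lin _ ((hAm _).1 ⟨a, ha, rfl⟩)))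
  have hzQ := R.zC_facts.1
  have hzT : Lib.Fi24Type47.Rep.zC z ∈ (T : Subgroup (Subgroup.centralizer ({z} : Set G))) := by
    rw [hT, Subgroup.mem_comap, (R.img_eq_one_iff _).2 hzQ]; exact one_mem _
  have hbound : ∀ B : Subgroup (Subgroup.centralizer ({z} : Set G)),
      B ≤ (T : Subgroup (Subgroup.centralizer ({z} : Set G))) → (∀ b ∈ B, b * b = 1) → 2 ^ 11 ≤ Nat.card B →
        B = A := by
    intro B hBT hsq hc
    set zz := Lib.Fi24Type47.Rep.zC z
    let B' : Subgroup (Subgroup.centralizer ({z} : Set G)) :=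
      { carrier := {g | g ∈ B ∨ g * zz ∈ B}
        one_mem' := Or.inl (one_mem _)
        mul_mem' := by
          rintro g g' (hg | hg) (hg' | hg')
          · exact Or.inl (mul_mem hg hg')
          · exact Or.inr (by rw [mul_assoc]; exact mul_mem hg hg')
          · refine Or.inr ?_
            rw [mul_assoc, Lib.Fi24Type47.Rep.zC_comm g', ← mul_assoc]
            exact mul_mem hg hg'
          · refine Or.inl ?_
            have h := mul_mem hg hg'
            rwa [show g * zz * (g' * zz) = g * (zz * g') * zz by group, ← Lib.Fi24Type47.Rep.zC_comm g',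
              ← mul_assoc, mul_assoc (g * g'), R.zC_facts.2.1, mul_one] at h
        inv_mem' := by
          rintro g (hg | hg)
          · exact Or.inl (inv_mem hg)
          · refine Or.inr ?_
            have h := inv_mem hg
            rwa [mul_inv_rev, inv_eq_of_mul_eq_one_right R.zC_facts.2.1, ← Lib.Fi24Type47.Rep.zC_comm] at h }
    have hle : B ≤ B' := fun b hb => Or.inl hb
    have hB'T : ∀ b ∈ B', b ∈ (T : Subgroup (Subgroup.centralizer ({z} : Set G))) := by
      rintro b (hb | hb)
      · exact hBT hb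
      · have h := mul_mem (hBT hb) hzT
        rwa [mul_assoc, R.zC_facts.2.1, mul_one] at h
    have hB'sq : ∀ b ∈ B', b * b = 1 := by
      rintro b (hb | hb)
      · exact hsq b hb
      · have h := hsq _ hb
        rwa [mul_assoc, ← mul_assoc zz b, ← Lib.Fi24Type47.Rep.zC_comm b, mul_assoc b zz, R.zC_facts.2.1,
          mul_one] at h
    have hB'A : B' = A := R.unique_A hAc hAsq hAQ hAm B'
      (fun b hb => (hP9 _).1 (by have h := hB'T b hb; rwa [hT, Subgroup.mem_comap] at h)) hB'sq
      (Or.inr (by rw [R.zC_facts.2.1]; exact one_mem B)) (hc.trans (Subgroup.card_le_of_le hle))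
    exact Subgroup.eq_of_le_of_card_ge (hB'A ▸ hle) (hAc ▸ hc)
  set A' : Subgroup ↥(T : Subgroup (Subgroup.centralizer ({z} : Set G))) :=
    A.subgroupOf (T : Subgroup (Subgroup.centralizer ({z} : Set G))) with hA'
  have hmapA : A'.map (T : Subgroup (Subgroup.centralizer ({z} : Set G))).subtype = A :=
    Subgroup.map_subgroupOf_eq_of_le hAT
  have hA'c : Nat.card A' = 2 ^ 11 := by
    rw [← hAc]; exact Nat.card_congr (Subgroup.subgroupOfEquivOfLe hAT).toEquiv
  have helem : IsElementaryAbelian 2 A' := by
    have hsq : ∀ x ∈ A', x * x = 1 := fun x hx => Subtype.ext (hAsq _ hx)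
    refine ⟨IsMulCommutative.of_comm fun x y => Subtype.ext ?_, fun x hx => by rw [pow_two]; exact hsq x hx⟩
    have hxy := hsq _ (mul_mem x.2 y.2)
    calc (x : ↥(T : Subgroup (Subgroup.centralizer ({z} : Set G)))) * y
        = ((x : ↥(T : Subgroup (Subgroup.centralizer ({z} : Set G)))) * y)⁻¹ :=
          (inv_eq_of_mul_eq_one_right hxy).symm
      _ = y * x := by
        rw [mul_inv_rev, inv_eq_of_mul_eq_one_right (hsq _ x.2), inv_eq_of_mul_eq_one_right (hsq _ y.2)]
  have key : ∀ B : Subgroup ↥(T : Subgroup (Subgroup.centralizer ({z} : Set G))), IsElementaryAbelian 2 B →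
      2 ^ 11 ≤ Nat.card B → B = A' := by
    intro B hB hc
    have he : B.map (T : Subgroup (Subgroup.centralizer ({z} : Set G))).subtype = A := by
      refine hbound _ (Subgroup.map_subtype_le B) ?_ ?_
      · rintro _ ⟨b, hb, rfl⟩
        rw [← map_mul, ← pow_two, hB.2 b hb, map_one]
      · rw [← Nat.card_congr (B.equivMapOfInjective _
          (T : Subgroup (Subgroup.centralizer ({z} : Set G))).subtype_injective).toEquiv]
        exact hc
    exact Subgroup.map_injective (T : Subgroup (Subgroup.centralizer ({z} : Set G))).subtype_injective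
      (he.trans hmapA.symm)
  refine ⟨A', ?_, hA'c, ?_, ?_⟩
  · refine Set.eq_singleton_iff_unique_mem.2 ⟨⟨helem, fun B hB => ?_⟩, fun B hB => key B hB.1 ?_⟩
    · by_contra hlt
      push Not at hlt
      rw [hA'c] at hlt
      rw [key B hB hlt.le, hA'c] at hlt
      exact lt_irrefl _ hlt
    · exact hA'c ▸ hB.2 A' helem
  · rw [hmapA, hAQ, R.card_X0]
    norm_num
  · rw [hmapA]
    obtain ⟨K, hK, hKc, -⟩ := Lib.Fi24Type47.exists_kGroup
    rw [← hKc, show K = A.map R.img from SetLike.ext fun f => (hK f).trans (hAm f).symm,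
      Lib.Fi24Type47.Rep.img, ← Subgroup.map_map]
    exact Nat.card_congr ((A.map (QuotientGroup.mk' Q)).equivMapOfInjective R.ρ R.inj).toEquiv

end Cfsg.Agent.S5444
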