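import Cfsg.Statements.S5445
import Cfsg.Agent.Lib.LargeFischerCover95.Local

set_option autoImplicit false
open Cfsg

namespace Cfsg.Agent.S5445

/-- Let G be a finite group of large Fischer type at the involution z: the generalized Fitting subgroup Q of H = C_G(z) is extraspecial of order 2^13, H has normal subgroups Q ≤ H₁ ≤ H₂ with H₁/Q of order 3, H₂/H₁ the projective special unitary group of dimension 4 over the field with nine elements and H₂ of index 2 in H, and some conjugate of z other than z lies in Q. Then G has an elementary abelian subgroup V of order 8 containing z whose normalizer L has the following structure: the largest normal 2-subgroup R of L is special of order 2^15 with centre V, and L/R is isomorphic to the direct product of SL(3, 2) and the alternating group of degree 6. -/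
theorem result {G : Type*} [Group G] [Finite G] (z : G) (Q : Subgroup (Subgroup.centralizer ({z} : Set G))) [Q.Normal] (hF : Cfsg.IsOfLargeFischerTypeAt z Q) : ∃ V : Subgroup G, Cfsg.IsElementaryAbelian 2 V ∧ Nat.card V = 8 ∧ z ∈ V ∧ ∃ R : Subgroup G, R = (Cfsg.pCore 2 ↥(Subgroup.normalizer (V : Set G))).map (Subgroup.normalizer (V : Set G)).subtype ∧ Cfsg.IsSpecial 2 ↥R ∧ Nat.card R = 2 ^ 15 ∧ (Subgroup.center ↥R).map R.subtype = V ∧ ∃ _ : (R.subgroupOf (Subgroup.normalizer (V : Set G))).Normal, Nonempty (↥(Subgroup.normalizer (V : Set G)) ⧸ R.subgroupOf (Subgroup.normalizer (V : Set G)) ≃* Matrix.SpecialLinearGroup (Fin 3) (ZMod 2) × ↥(alternatingGroup (Fin 6))) := by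
  obtain ⟨D, k, B⟩ := Lib.LargeFischerCover95.exists_base hF
  obtain ⟨c, hc⟩ := QuotientGroup.mk_surjective D.S.n
  have hn3 : D.S.n ^ 3 = 1 := D.S.n_cube
  have hcQ : c ^ 3 ∈ Q := by rw [← QuotientGroup.eq_one_iff, QuotientGroup.mk_pow, hc, hn3]
  have hx3 : (c ^ 2 ^ 14) ^ 3 = 1 := by
    have h : (⟨c ^ 3, hcQ⟩ : Q) ^ (2 ^ 13) = 1 := by rw [← D.card]; exact pow_card_eq_one'
    have h' : (c ^ 3) ^ (2 ^ 13) = 1 := congrArg Subtype.val h
    rw [← pow_mul, show 2 ^ 14 * 3 = 3 * 2 ^ 13 * 2 by norm_num, pow_mul, pow_mul, h', one_pow]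
  have hxn : (QuotientGroup.mk (c ^ 2 ^ 14) : Subgroup.centralizer ({z} : Set G) ⧸ Q) = D.S.n := by
    rw [QuotientGroup.mk_pow, hc, show 2 ^ 14 = 3 * 5461 + 1 by norm_num, pow_succ, pow_mul, hn3, one_pow, one_mul]
  haveI : Fact (Nat.Prime 3) := ⟨Nat.prime_three⟩
  have hne : c ^ 2 ^ 14 ≠ 1 := fun e => by
    have h := D.S.n_order
    rw [← hxn, e, QuotientGroup.mk_one, orderOf_one] at h
    norm_num at h
  obtain ⟨P, -⟩ := Lib.LargeFischerCover95.exists_triple B hF (orderOf_eq_prime hx3 hne) hxn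
  have hle : P.R ≤ P.N := fun d hd => P.CV_le_N (P.R_le_CV hd)
  obtain ⟨Φ, hΦ, hker⟩ := P.exists_product
  refine ⟨P.V, P.V_elementary, P.card_V, P.z_mem_V, P.R, ?_, P.R_special.1, P.card_R, P.R_special.2, P.R_normal, ?_⟩
  · rw [P.pCore_eq, Subgroup.map_subgroupOf_eq_of_le hle]
  · haveI := P.R_normal
    exact ⟨(QuotientGroup.quotientMulEquivOfEq hker.symm).trans (QuotientGroup.quotientKerEquivOfSurjective Φ hΦ)⟩

end Cfsg.Agent.S5445
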