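import Cfsg.Statements.S5446
import Cfsg.Agent.Lib.Fi24Thompson95.Main
import Cfsg.Agent.Lib.Fi24Thompson95.Transport

set_option autoImplicit false
open Cfsg

namespace Cfsg.Agent.S5446

/-- Let G be a finite group of large Fischer type at the involution z: the generalized Fitting subgroup Q of H = C_G(z) is extraspecial of order 2^13, H has normal subgroups Q ≤ H₁ ≤ H₂ with H₁/Q of order 3, H₂/H₁ the projective special unitary group of dimension 4 over the field with nine elements and H₂ of index 2 in H, and some conjugate of z other than z lies in Q. Let T be a Sylow 2-subgroup of G, A its Thompson subgroup (generated by the elementary abelian subgroups of T of largest order) and M = N_G(A) its normalizer. Then A is elementary abelian of order 2^11 and M/A is isomorphic to the Mathieu group of degree 24 (the automorphism group of the length-24 binary Golay code). -/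
theorem result {G : Type*} [Group G] [Finite G] (z : G) (Q : Subgroup (Subgroup.centralizer ({z} : Set G))) [Q.Normal] (hF : Cfsg.IsOfLargeFischerTypeAt z Q) (T : Sylow 2 G) (A M : Subgroup G) (hA : A = Cfsg.thompsonSubgroupOf 2 (T : Subgroup G)) (hM : M = Subgroup.normalizer (A : Set G)) : Cfsg.IsElementaryAbelian 2 A ∧ Nat.card A = 2 ^ 11 ∧ ∃ _ : (A.subgroupOf M).Normal, Nonempty (↥M ⧸ A.subgroupOf M ≃* ↥Cfsg.M24) := by
  obtain ⟨F, W, g, hg⟩ := Lib.Fi24Thompson95.exists_model_at hF T
  have hA' : A = F.Ag.map (MulAut.conj g).toMonoidHom := hA.trans hg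
  have hM' : M = F.M.map (MulAut.conj g).toMonoidHom := by
    rw [hM, hA', Lib.Fi24Thompson95.map_normalizer_aut]
  subst hA' hM'
  refine ⟨⟨IsMulCommutative.of_comm fun x y => Subtype.ext ?_, ?_⟩, ?_,
    Lib.Fi24Thompson95.quot_transport _ _ _ (W.quotient_iso _ _ rfl rfl)⟩
  · obtain ⟨x', ⟨a, ha, rfl⟩, hx⟩ := x.2
    obtain ⟨y', ⟨b, hb, rfl⟩, hy⟩ := y.2
    show (x : G) * y = y * x
    rw [← hx, ← hy, ← map_mul, ← map_mul, ← map_mul, ← map_mul, F.A_comm ha hb]
  · rintro _ ⟨a, ha, rfl⟩
    rw [← map_pow, pow_two, F.Ag_sq ha, map_one]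
  · rw [← Nat.card_congr (F.Ag.equivMapOfInjective _ (MulAut.conj g).injective).toEquiv, F.card_Ag]

end Cfsg.Agent.S5446
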