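import Cfsg.Statements.S5447
import Cfsg.Agent.Lib.Fi24Type47.Cover
-- import your own Cfsg.Agent.* helpers here

set_option autoImplicit false
open Cfsg

namespace Cfsg.Agent.S5447

/-- Let G be a finite group of large Fischer type at the involution z: the generalized Fitting subgroup Q of H = C_G(z) is extraspecial of order 2^13, H has normal subgroups Q ≤ H₁ ≤ H₂ with H₁/Q of order 3, H₂/H₁ the projective special unitary group of dimension 4 over the field with nine elements and H₂ of index 2 in H, and some conjugate of z other than z lies in Q. Let T be a Sylow 2-subgroup of G, A its Thompson subgroup and M = N_G(A) its normalizer. Then M controls fusion in A (elements of A conjugate in G are conjugate in M), and M has exactly two orbits on the non-identity elements of A: those conjugate to z in G and those not. -/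
theorem result {G : Type*} [Group G] [Finite G] (z : G) (Q : Subgroup (Subgroup.centralizer ({z} : Set G))) [Q.Normal] (hF : Cfsg.IsOfLargeFischerTypeAt z Q) (T : Sylow 2 G) (A M : Subgroup G) (hA : A = Cfsg.thompsonSubgroupOf 2 (T : Subgroup G)) (hM : M = Subgroup.normalizer (A : Set G)) : (∀ a ∈ A, ∀ g : G, g * a * g⁻¹ ∈ A → ∃ m ∈ M, m * a * m⁻¹ = g * a * g⁻¹) ∧ (∃ a ∈ A, a ≠ 1 ∧ IsConj z a) ∧ (∃ a ∈ A, a ≠ 1 ∧ ¬ IsConj z a) ∧ ∀ a ∈ A, ∀ b ∈ A, a ≠ 1 → b ≠ 1 → (IsConj z a ↔ IsConj z b) → ∃ m ∈ M, m * a * m⁻¹ = b := by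
  classical
  haveI : Fact (Nat.Prime 2) := ⟨Nat.prime_two⟩
  obtain ⟨X⟩ := Lib.Fi24Type47.exists_ctx hF
  obtain ⟨P0, hP0⟩ := X.sylow_top
  have hAP0 : X.AG ≤ (P0 : Subgroup G) := by rw [hP0]; exact Subgroup.map_mono X.A_le_S
  obtain ⟨c, hc⟩ := MulAction.exists_smul_eq G T P0
  have hcT : ∀ x : G, x ∈ (T : Subgroup G) ↔ c * x * c⁻¹ ∈ (P0 : Subgroup G) := fun x => by
    rw [← hc, Sylow.coe_subgroup_smul]
    exact (Subgroup.smul_mem_pointwise_smul_iff (a := MulAut.conj c) (S := (T : Subgroup G))).symm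
  set A1 : Subgroup G := X.AG.map (MulAut.conj c⁻¹).toMonoidHom with hA1
  have hA1T : A1 ≤ (T : Subgroup G) := by
    rintro _ ⟨x, hx, rfl⟩
    rw [hcT]
    refine (congrArg (· ∈ (P0 : Subgroup G)) ?_).mpr (hAP0 hx)
    show c * (c⁻¹ * x * c⁻¹⁻¹) * c⁻¹ = x
    group
  have hA1c : Nat.card A1 = 2 ^ 11 := by
    rw [← X.card_AG]
    exact (Nat.card_congr (X.AG.equivMapOfInjective _ (MulAut.conj c⁻¹).injective).toEquiv).symm
  have hA1sq : ∀ x ∈ A1, x * x = 1 := by
    rintro _ ⟨x, hx, rfl⟩; rw [← map_mul, X.sq_AG hx, map_one]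
  have hmemA1 : ∀ x, x ∈ A1 ↔ c * x * c⁻¹ ∈ X.AG := fun x => by
    constructor
    · rintro ⟨y, hy, rfl⟩
      refine (congrArg (· ∈ X.AG) ?_).mpr hy
      show c * (c⁻¹ * y * c⁻¹⁻¹) * c⁻¹ = y
      group
    · intro h; exact ⟨_, h, by show c⁻¹ * (c * x * c⁻¹) * c⁻¹⁻¹ = x; group⟩
  have huniq : ∀ B : Subgroup G, B ≤ (T : Subgroup G) → (∀ b ∈ B, b * b = 1) → 2 ^ 11 ≤ Nat.card B → B = A1 := by
    intro B hB hsq hcard
    have h := X.unique_G P0.isPGroup' hAP0 (B := B.map (MulAut.conj c).toMonoidHom)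
      (by rintro _ ⟨x, hx, rfl⟩; exact (hcT x).1 (hB hx))
      (by rintro _ ⟨x, hx, rfl⟩; rw [← map_mul, hsq x hx, map_one])
      (by rw [← Nat.card_congr (B.equivMapOfInjective _ (MulAut.conj c).injective).toEquiv]; exact hcard)
    refine Subgroup.eq_of_le_of_card_ge (fun x hx => (hmemA1 x).2 (h ▸ ⟨x, hx, rfl⟩)) ?_
    rw [hA1c]; exact hcard
  have hAeq : A = A1 := by
    set A' := A1.subgroupOf (T : Subgroup G) with hA'
    have hA'c : Nat.card A' = 2 ^ 11 := by
      rw [Nat.card_congr (Subgroup.subgroupOfEquivOfLe hA1T).toEquiv, hA1c]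
    have helem : IsElementaryAbelian 2 A' := by
      have hsq : ∀ x ∈ A', x * x = 1 := fun x hx => Subtype.ext (hA1sq _ hx)
      refine ⟨IsMulCommutative.of_comm fun x y => Subtype.ext ?_, fun x hx => by rw [pow_two]; exact hsq x hx⟩
      have hxy := hsq _ (mul_mem x.2 y.2)
      calc (x : (T : Subgroup G)) * y = ((x : (T : Subgroup G)) * y)⁻¹ := (inv_eq_of_mul_eq_one_right hxy).symm
        _ = y * x := by
          rw [mul_inv_rev, inv_eq_of_mul_eq_one_right (hsq _ x.2), inv_eq_of_mul_eq_one_right (hsq _ y.2)]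
    have key : ∀ B : Subgroup (T : Subgroup G), IsElementaryAbelian 2 B → 2 ^ 11 ≤ Nat.card B → B = A' := by
      intro B hB hcard
      refine Subgroup.map_injective (T : Subgroup G).subtype_injective ?_
      rw [Subgroup.map_subgroupOf_eq_of_le hA1T]
      refine huniq _ (Subgroup.map_subtype_le B) ?_ ?_
      · rintro _ ⟨b, hb, rfl⟩; rw [← map_mul, ← pow_two, hB.2 b hb, map_one]
      · rw [← Nat.card_congr (B.equivMapOfInjective _ (T : Subgroup G).subtype_injective).toEquiv]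
        exact hcard
    have hset : maxElementaryAbelianSubgroups 2 (T : Subgroup G) = {A'} := by
      refine Set.eq_singleton_iff_unique_mem.2 ⟨⟨helem, fun B hB => ?_⟩, fun B hB => key B hB.1 ?_⟩
      · by_contra hlt
        push Not at hlt
        rw [hA'c] at hlt
        rw [key B hB hlt.le, hA'c] at hlt
        exact lt_irrefl _ hlt
      · exact hA'c ▸ hB.2 A' helem
    rw [hA, thompsonSubgroupOf, thompsonSubgroup, hset, sSup_singleton, Subgroup.map_subgroupOf_eq_of_le hA1T]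
  subst hM
  rw [hAeq]
  clear hA hAeq
  have hnorm : ∀ m : G, X.AG.map (MulAut.conj m).toMonoidHom = X.AG →
      c⁻¹ * m * c ∈ Subgroup.normalizer (A1 : Set G) := by
    intro m hm
    have hm' : ∀ y, y ∈ X.AG ↔ m * y * m⁻¹ ∈ X.AG := fun y => by
      constructor
      · intro hy
        have : (MulAut.conj m) y ∈ X.AG.map (MulAut.conj m).toMonoidHom := ⟨y, hy, rfl⟩
        rwa [hm] at this
      · intro hy
        rw [← hm] at hy
        obtain ⟨x, hx, e⟩ := hy
        exact (MulAut.conj m).injective e ▸ hx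
    rw [Subgroup.mem_normalizer_iff]
    intro x
    show x ∈ A1 ↔ _
    rw [hmemA1, hmemA1, hm' (c * x * c⁻¹)]
    refine Iff.of_eq (congrArg (· ∈ X.AG) ?_)
    group
  have hfus : ∀ a ∈ A1, ∀ g : G, g * a * g⁻¹ ∈ A1 →
      ∃ m ∈ Subgroup.normalizer (A1 : Set G), m * a * m⁻¹ = g * a * g⁻¹ := by
    intro a ha g hg
    have h2 : c * g * c⁻¹ * (c * a * c⁻¹) * (c * g * c⁻¹)⁻¹ ∈ X.AG := by
      refine (congrArg (· ∈ X.AG) ?_).mpr ((hmemA1 _).1 hg)
      group
    obtain ⟨m, hm, he⟩ := X.fusion ((hmemA1 a).1 ha) (c * g * c⁻¹) h2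
    refine ⟨_, hnorm m hm, ?_⟩
    calc c⁻¹ * m * c * a * (c⁻¹ * m * c)⁻¹ = c⁻¹ * (m * (c * a * c⁻¹) * m⁻¹) * c := by group
      _ = g * a * g⁻¹ := by rw [he]; group
  refine ⟨hfus, ?_, ?_, fun a ha b hb ha1 hb1 hiff => ?_⟩
  · refine ⟨c⁻¹ * z * c, (hmemA1 _).2 ?_, ?_, isConj_iff.2 ⟨c⁻¹, by group⟩⟩
    · rw [show c * (c⁻¹ * z * c) * c⁻¹ = z by group]; exact X.z_mem_AG
    · intro e
      refine X.R.D.good.x_ne ?_
      calc z = c * (c⁻¹ * z * c) * c⁻¹ := by group
        _ = 1 := by rw [e]; group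
  · obtain ⟨s, hs, hs1, hsn⟩ := X.exists_small
    refine ⟨c⁻¹ * s * c, (hmemA1 _).2 ?_, ?_, fun h => hsn (h.trans (isConj_iff.2 ⟨c, by group⟩))⟩
    · rw [show c * (c⁻¹ * s * c) * c⁻¹ = s by group]; exact hs
    · intro e
      refine hs1 ?_
      calc s = c * (c⁻¹ * s * c) * c⁻¹ := by group
        _ = 1 := by rw [e]; group
  · have hab : IsConj a b := by
      by_cases hza : IsConj z a
      · exact hza.symm.trans (hiff.1 hza)
      obtain ⟨u, p, hp⟩ := X.conj_into_Q ((hmemA1 a).1 ha)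
      obtain ⟨v, q, hq⟩ := X.conj_into_Q ((hmemA1 b).1 hb)
      have hap : IsConj a (Lib.FischerType.inG z Q p) :=
        isConj_iff.2 ⟨u * c, by rw [← hp]; group⟩
      have hbq : IsConj b (Lib.FischerType.inG z Q q) :=
        isConj_iff.2 ⟨v * c, by rw [← hq]; group⟩
      have facts : ∀ (x y : G), x * x = 1 → x ≠ 1 → IsConj x y → y * y = 1 ∧ y ≠ 1 := by
        intro x y h2 h1 h
        obtain ⟨t, rfl⟩ := isConj_iff.1 h
        refine ⟨by rw [show t * x * t⁻¹ * (t * x * t⁻¹) = t * (x * x) * t⁻¹ by group, h2]; group, fun e => h1 ?_⟩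
        calc x = t⁻¹ * (t * x * t⁻¹) * t := by group
          _ = 1 := by rw [e]; group
      obtain ⟨p2, p1⟩ := facts a _ (hA1sq a ha) ha1 hap
      obtain ⟨q2, q1⟩ := facts b _ (hA1sq b hb) hb1 hbq
      exact hap.trans ((X.conj_small p2 p1 (fun h => hza (h.trans hap.symm)) q2 q1
        (fun h => hza (hiff.2 (h.trans hbq.symm)))).trans hbq.symm)
    obtain ⟨g, hg⟩ := isConj_iff.1 hab
    obtain ⟨m, hm, he⟩ := hfus a ha g (hg ▸ hb)
    exact ⟨m, hm, he.trans hg⟩

end Cfsg.Agent.S5447
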