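import Cfsg.Statements.S5452
import Cfsg.Agent.Lib.Fischer3T52.LiftPSU

set_option autoImplicit false
open Cfsg

namespace Cfsg.Agent.S5452

/-- Let G be a finite group with an involution d whose centralizer C is quasisimple with C modulo the subgroup generated by d isomorphic to the projective special unitary group of dimension 6 over the field with four elements, and suppose some conjugate of d other than d commutes with d. Then every involution of C modulo the subgroup generated by d is the image of an involution of C, and d is not a square in G. -/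
theorem result {G : Type*} [Group G] [Finite G] (d : G) (hd : orderOf d = 2) (hq : Cfsg.IsQuasisimple ↥(Subgroup.centralizer ({d} : Set G))) [hzn : ((Subgroup.zpowers d).subgroupOf (Subgroup.centralizer ({d} : Set G))).Normal] (K : Type) [Field K] [Fintype K] (hK : Fintype.card K = 4) (e : ↥(Subgroup.centralizer ({d} : Set G)) ⧸ (Subgroup.zpowers d).subgroupOf (Subgroup.centralizer ({d} : Set G)) ≃* Cfsg.PSU 6 K 2) (hnwc : ∃ g : G, g * d * g⁻¹ ∈ Subgroup.centralizer ({d} : Set G) ∧ g * d * g⁻¹ ≠ d) : (∀ x : ↥(Subgroup.centralizer ({d} : Set G)) ⧸ (Subgroup.zpowers d).subgroupOf (Subgroup.centralizer ({d} : Set G)), orderOf x = 2 → ∃ y : ↥(Subgroup.centralizer ({d} : Set G)), orderOf y = 2 ∧ (QuotientGroup.mk y : ↥(Subgroup.centralizer ({d} : Set G)) ⧸ (Subgroup.zpowers d).subgroupOf (Subgroup.centralizer ({d} : Set G))) = x) ∧ ¬ ∃ g : G, g ^ 2 = d := by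
  classical
  set C := Subgroup.centralizer ({d} : Set G)
  set N := (Subgroup.zpowers d).subgroupOf C
  have hdd : d * d = 1 := by rw [← pow_two, ← hd]; exact pow_orderOf_eq_one d
  let z : ↥C := ⟨d, Subgroup.mem_centralizer_singleton_iff.2 rfl⟩
  let π : ↥C →* Cfsg.PSU 6 K 2 := e.toMonoidHom.comp (QuotientGroup.mk' N)
  have hT : Agent.Lib.Fischer3T52.TwoCover π z :=
    { surj := e.surjective.comp (QuotientGroup.mk'_surjective N)
      ker := fun c hc => by
        have hc' : (c : G) ∈ Subgroup.zpowers d :=
          (QuotientGroup.eq_one_iff c).1 (e.injective (hc.trans (map_one e).symm))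
        obtain ⟨n, hn⟩ := Subgroup.mem_zpowers_iff.1 hc'
        rcases Int.even_or_odd n with ⟨m, rfl⟩ | ⟨m, rfl⟩
        · left; apply Subtype.ext
          rw [← hn, ← two_mul, zpow_mul, zpow_two, hdd, one_zpow]; rfl
        · right; apply Subtype.ext
          rw [← hn, zpow_add, zpow_mul, zpow_two, hdd, one_zpow, one_mul, zpow_one]
      central := fun c => Subtype.ext (Subgroup.mem_centralizer_singleton_iff.1 c.2)
      sq := Subtype.ext hdd
      map_z := by
        have : (QuotientGroup.mk' N) z = 1 :=
          (QuotientGroup.eq_one_iff z).2 (Subgroup.mem_zpowers d)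
        show e ((QuotientGroup.mk' N) z) = 1
        rw [this, map_one] }
  have hz : z ≠ 1 := fun h => by
    have h1 : d = 1 := congrArg Subtype.val h
    rw [h1, orderOf_one] at hd; omega
  obtain ⟨h1, h2⟩ := Agent.Lib.Fischer3T52.lift_psu hK hT hz
  refine ⟨fun x hx => ?_, ?_⟩
  · obtain ⟨y, hy, hyx⟩ := h1 (e x) (by rw [MulEquiv.orderOf_eq, hx])
    exact ⟨y, hy, e.injective hyx⟩
  · rintro ⟨g, hg⟩
    refine h2 ⟨⟨g, Subgroup.mem_centralizer_singleton_iff.2 ?_⟩, Subtype.ext ((pow_two g).symm.trans hg)⟩
    rw [← hg]; exact ((Commute.refl g).pow_right 2).eq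

end Cfsg.Agent.S5452
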