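import Cfsg.Statements.S5455
import Cfsg.Agent.Lib.M22Cover2.Count
import Cfsg.Agent.Lib.M22Cover2.NoCharacter

set_option autoImplicit false
open Cfsg

namespace Cfsg.Agent.S5455

/-- Let G be a finite group with an involution d whose centralizer C is quasisimple, such that C modulo the subgroup generated by d is of type M(22) with respect to some conjugacy class of 3-transpositions generating it and also has an involution whose own centralizer is quasisimple with quotient by it isomorphic to the projective special unitary group of dimension 6 over the field with four elements and which is not weakly closed in that centralizer; and suppose some conjugate of d other than d commutes with d. Let S be a Sylow 2-subgroup of C and A the Thompson subgroup of S, regarded as a subgroup of G. Then A is elementary abelian of order 2^11, exactly 23 conjugates of d lie in A, and the normalizer of A permutes them transitively. -/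
theorem result {G : Type*} [Group G] [Finite G] (d : G) (hd : orderOf d = 2) (hq : Cfsg.IsQuasisimple ↥(Subgroup.centralizer ({d} : Set G))) [hzn : ((Subgroup.zpowers d).subgroupOf (Subgroup.centralizer ({d} : Set G))).Normal] (htype : ∃ E : Set (↥(Subgroup.centralizer ({d} : Set G)) ⧸ (Subgroup.zpowers d).subgroupOf (Subgroup.centralizer ({d} : Set G))), Cfsg.IsThreeTranspositionClass E ∧ Cfsg.IsOfTypeM22 _ E) (hinvol : ∃ d' : ↥(Subgroup.centralizer ({d} : Set G)) ⧸ (Subgroup.zpowers d).subgroupOf (Subgroup.centralizer ({d} : Set G)), orderOf d' = 2 ∧ Cfsg.IsQuasisimple ↥(Subgroup.centralizer ({d'} : Set _)) ∧ (∃ (K : Type) (_ : Field K) (_ : Fintype K), Fintype.card K = 4 ∧ ∃ _ : ((Subgroup.zpowers d').subgroupOf (Subgroup.centralizer ({d'} : Set _))).Normal, Nonempty (↥(Subgroup.centralizer ({d'} : Set _)) ⧸ (Subgroup.zpowers d').subgroupOf (Subgroup.centralizer ({d'} : Set _)) ≃* Cfsg.PSU 6 K 2)) ∧ ∃ g, g * d' * g⁻¹ ∈ Subgroup.centralizer ({d'} : Set _) ∧ g * d' * g⁻¹ ≠ d') (hnwc : ∃ g : G, g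 * d * g⁻¹ ∈ Subgroup.centralizer ({d} : Set G) ∧ g * d * g⁻¹ ≠ d) (S : Sylow 2 ↥(Subgroup.centralizer ({d} : Set G))) (A : Subgroup G) (hA : A = (Cfsg.thompsonSubgroupOf 2 (S : Subgroup ↥(Subgroup.centralizer ({d} : Set G)))).map (Subgroup.centralizer ({d} : Set G)).subtype) : Cfsg.IsElementaryAbelian 2 A ∧ Nat.card A = 2 ^ 11 ∧ Set.ncard {x : G | x ∈ A ∧ IsConj d x} = 23 ∧ ∀ x ∈ A, ∀ y ∈ A, IsConj d x → IsConj d y → ∃ n ∈ Subgroup.normalizer (A : Set G), n * x * n⁻¹ = y := by
  obtain ⟨E, hE, h22⟩ := htype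
  obtain ⟨F, _, _, hB⟩ := Lib.M22Cover2.exists_base hE h22
  have hdd : d * d = 1 := by rw [← pow_two, ← hd]; exact pow_orderOf_eq_one d
  have hd1 : d ≠ 1 := fun h => by rw [h, orderOf_one] at hd; omega
  set π := QuotientGroup.mk' ((Subgroup.zpowers d).subgroupOf (Subgroup.centralizer ({d} : Set G)))
  have hS : Lib.M22Cover2.Setup22 π hB :=
    { sq := hdd
      ne := hd1
      cover :=
        { surj := QuotientGroup.mk'_surjective _
          ker := fun c hc => by
            have hc' : (c : G) ∈ Subgroup.zpowers d := (QuotientGroup.eq_one_iff c).1 hc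
            obtain ⟨n, hn⟩ := Subgroup.mem_zpowers_iff.1 hc'
            rcases Int.even_or_odd n with ⟨m, rfl⟩ | ⟨m, rfl⟩
            · left; apply Subtype.ext
              rw [← hn, ← two_mul, zpow_mul, zpow_two, hdd, one_zpow]; rfl
            · right; apply Subtype.ext
              rw [← hn, zpow_add, zpow_mul, zpow_two, hdd, one_zpow, one_mul, zpow_one]
              rfl
          central := fun c => Subtype.ext (Subgroup.mem_centralizer_singleton_iff.1 c.2)
          sq := Subtype.ext hdd
          map_z := (QuotientGroup.eq_one_iff _).2 (Subgroup.mem_zpowers d) } }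
  obtain ⟨R₀, R₁, R₂, W₁, W₂, H, s, hP⟩ := Lib.M22Cover2.exists_pairFrame hB
  obtain ⟨R, hR, hJ⟩ := hS.exists_thompson ⟨R₀, hP.rad⟩ S
  rw [hJ] at hA
  subst hA
  obtain ⟨cls, hD, -⟩ := hS.countData hR hnwc
  refine ⟨⟨⟨⟨fun a b => Subtype.ext (hD.comm a.2 b.2)⟩⟩, fun a ha => ?_⟩, hD.card, ?_, ?_⟩
  · rw [pow_two]; exact hD.elem a ha
  · rcases hD.conclusion with h | h
    · exact h
    · refine absurd ?_ (hS.not_additive hq.1.commutator_eq_top hR)
      intro a ha b hb
      have e : ∀ x ∈ Lib.M22Cover2.lift22 π R, x ∈ Lib.M22Cover2.fusedSet d (Lib.M22Cover2.lift22 π R) ↔ IsConj d x :=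
        fun x hx => ⟨fun k => k.2, fun k => ⟨hx, k⟩⟩
      rw [← e _ ha, ← e _ hb, ← e _ (mul_mem ha hb)]
      exact h a ha b hb
  · intro x hx y hy hxd hyd
    obtain ⟨n, hn, hnx⟩ := hD.trans x hx hxd
    obtain ⟨m, hm, hmy⟩ := hD.trans y hy hyd
    exact ⟨m⁻¹ * n, mul_mem (inv_mem hm) hn, by
      rw [show m⁻¹ * n * x * (m⁻¹ * n)⁻¹ = m⁻¹ * (n * x * n⁻¹) * m by group, hnx, ← hmy]; group⟩

end Cfsg.Agent.S5455
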