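import Cfsg.Statements.S5458
import Cfsg.Agent.Lib.FischerPair.Thompson
import Cfsg.Agent.Lib.M22Struct66.Main

set_option autoImplicit false
open Cfsg
open Cfsg.Agent.Lib

namespace Cfsg.Agent.S5458

/-- Let G be a finite group with trivial centre generated by a conjugation-invariant set D of 3-transpositions on which it acts primitively, of type M(22), and suppose G also has an involution whose centralizer is quasisimple with quotient by it the projective special unitary group of dimension 6 over the field with four elements and which is not weakly closed in that centralizer. Let T be a Sylow 2-subgroup of G. Then the subgroup generated by the members of D lying in T is the Thompson subgroup of T (generated by the elementary abelian subgroups of T of largest order). -/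
theorem result {G : Type*} [Group G] [Finite G] {D : Set G} (hD : Cfsg.IsThreeTranspositionGroup D) (hprim : Cfsg.IsPrimitiveUnderConj D) (h22 : Cfsg.IsOfTypeM22 G D) (hM : ∃ d : G, orderOf d = 2 ∧ Cfsg.IsQuasisimple ↥(Subgroup.centralizer ({d} : Set G)) ∧ (∃ (_ : ((Subgroup.zpowers d).subgroupOf (Subgroup.centralizer ({d} : Set G))).Normal) (K : Type) (_ : Field K) (_ : Fintype K), Fintype.card K = 4 ∧ Nonempty (↥(Subgroup.centralizer ({d} : Set G)) ⧸ (Subgroup.zpowers d).subgroupOf (Subgroup.centralizer ({d} : Set G)) ≃* Cfsg.PSU 6 K 2)) ∧ ∃ g : G, g * d * g⁻¹ ∈ Subgroup.centralizer ({d} : Set G) ∧ g * d * g⁻¹ ≠ d) (T : Sylow 2 G) : Subgroup.closure {x : G | x ∈ D ∧ x ∈ (T : Subgroup G)} = Cfsg.thompsonSubgroupOf 2 (T : Subgroup G) := by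
  obtain ⟨F, iF, iF', hX⟩ := M22Struct66.exists_charted hD hprim h22
  have hfac := M22Struct66.facts_of_m22 hD hprim h22
  obtain ⟨d₁, h₁, -⟩ := h22.2
  obtain ⟨d₂, h₂⟩ : (M22Struct66.nb D d₁).Nonempty :=
    Set.nonempty_of_ncard_ne_zero (by rw [hfac.ncard_nb d₁ h₁]; norm_num)
  obtain ⟨S⟩ := FischerPair.exists_setup hX hfac h₁ h₂
  obtain ⟨L, hL⟩ := FischerPair.exists_lag (F := F) hX.card
  haveI : Fact (Nat.Prime 2) := ⟨Nat.prime_two⟩
  have hCard : Nat.card (FischerPair.Cp d₁ d₂) = 2 ^ 17 * 405 := by rw [S.natCard_Cp]; norm_num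
  have hfC : (Nat.card (FischerPair.Cp d₁ d₂)).factorization 2 = 17 := by
    rw [hCard, Nat.factorization_mul (by norm_num) (by norm_num), Finsupp.add_apply,
      Nat.Prime.factorization_pow Nat.prime_two, Finsupp.single_eq_same,
      Nat.factorization_eq_zero_of_not_dvd (show ¬ 2 ∣ 405 by norm_num)]
  have hfG : (Nat.card G).factorization 2 = 17 := by
    rw [hfac.card_G, show (2 : ℕ) ^ 17 * 3 ^ 9 * 5 ^ 2 * 7 * 11 * 13 = 2 ^ 17 * (3 ^ 9 * 5 ^ 2 * 7 * 11 * 13) by
        simp only [mul_assoc],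
      Nat.factorization_mul (by norm_num) (by norm_num), Finsupp.add_apply,
      Nat.Prime.factorization_pow Nat.prime_two, Finsupp.single_eq_same,
      Nat.factorization_eq_zero_of_not_dvd (show ¬ 2 ∣ 3 ^ 9 * 5 ^ 2 * 7 * 11 * 13 by norm_num)]
  have hle : S.PL L ≤ FischerPair.Cp d₁ d₂ := (S.PL_le_Kp hL).trans (FischerPair.Kp_le_Cp d₁ d₂)
  have hP : IsPGroup 2 ((S.PL L).subgroupOf (FischerPair.Cp d₁ d₂)) :=
    IsPGroup.of_card (n := 10) (by
      rw [Nat.card_congr (Subgroup.subgroupOfEquivOfLe hle).toEquiv, S.card_PL hL]; norm_num)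
  obtain ⟨Q, hQ⟩ := hP.exists_le_sylow
  set T0 : Subgroup G := (Q : Subgroup (FischerPair.Cp d₁ d₂)).map (FischerPair.Cp d₁ d₂).subtype with hT0def
  have hT0card : Nat.card T0 = 2 ^ (Nat.card G).factorization 2 := by
    rw [hT0def, Subgroup.card_map_of_injective (Subgroup.subtype_injective _), Sylow.card_eq_multiplicity, hfC, hfG]
  let T₀ : Sylow 2 G := Sylow.ofCard T0 hT0card
  have hPT : S.PL L ≤ T0 := fun x hx =>
    ⟨⟨x, hle hx⟩, hQ (Subgroup.mem_subgroupOf.2 hx), rfl⟩
  have hmain := S.thompson_eq (T := T0) (IsPGroup.of_card hT0card) (Subgroup.map_subtype_le _) hL hPT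
  obtain ⟨g, hg⟩ := MulAction.exists_smul_eq G T₀ T
  have hT : (T : Subgroup G) = T0.map (MulAut.conj g).toMonoidHom := by rw [← hg]; rfl
  rw [hT, Thompson.thompsonSubgroupOf_map (MulAut.conj g).injective, ← hmain, MonoidHom.map_closure]
  congr 1
  ext x
  constructor
  · rintro ⟨hxD, y, hy, rfl⟩
    refine ⟨y, ⟨?_, hy⟩, rfl⟩
    have h := hX.toCtx.conj g⁻¹ _ hxD
    simpa [mul_assoc] using h
  · rintro ⟨y, ⟨hyD, hy⟩, rfl⟩
    exact ⟨hX.toCtx.conj g y hyD, y, hy, rfl⟩

end Cfsg.Agent.S5458
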