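import Cfsg.Statements.S5459
import Mathlib

set_option autoImplicit false
open Cfsg
open scoped commutatorElement

namespace Cfsg.Agent.S5459

theorem graph_adj {G : Type*} [Group G] {D : Set G} {a b : D} (h : (Cfsg.commutingGraph D).Adj a b) :
    a ≠ b ∧ Commute (a : G) (b : G) := by
  simp only [Cfsg.commutingGraph, SimpleGraph.fromRel_adj] at h
  exact ⟨h.1, h.2.elim id Commute.symm⟩

theorem adj_graph {G : Type*} [Group G] {D : Set G} {a b : D} (h1 : a ≠ b) (h2 : Commute (a : G) (b : G)) :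
    (Cfsg.commutingGraph D).Adj a b := by
  simp only [Cfsg.commutingGraph, SimpleGraph.fromRel_adj]
  exact ⟨h1, Or.inl h2⟩

theorem conjugates_mem {G : Type*} [Group G] {d a : G} (g : G) (ha : a ∈ conjugatesOf d) :
    g * a * g⁻¹ ∈ conjugatesOf d :=
  IsConj.trans ha (isConj_iff.2 ⟨g, rfl⟩)

theorem reach_conj {G : Type*} [Group G] {d : G} (g : G) {a b : conjugatesOf d}
    (h : (Cfsg.commutingGraph (conjugatesOf d)).Reachable a b) :
    (Cfsg.commutingGraph (conjugatesOf d)).Reachable ⟨g * a * g⁻¹, conjugates_mem g a.2⟩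
      ⟨g * b * g⁻¹, conjugates_mem g b.2⟩ :=
  h.map (⟨fun x => ⟨g * x * g⁻¹, conjugates_mem g x.2⟩, fun {x y} hxy => adj_graph
    (fun e => (graph_adj hxy).1 (Subtype.ext (by simpa using congrArg Subtype.val e)))
    ((graph_adj hxy).2.map (MulAut.conj g).toMonoidHom)⟩ :
      Cfsg.commutingGraph (conjugatesOf d) →g Cfsg.commutingGraph (conjugatesOf d))


/-- Let G be a finite group with a quasisimple normal subgroup L and an involution d such that G is generated by L and d, the centre of L has odd order, and d inverts every element of the centre of L. If the commuting graph on the conjugacy class of the image of d in G modulo the centre of L is connected, then the commuting graph on the conjugacy class of d is connected. -/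
theorem result {G : Type*} [Group G] [Finite G] (L : Subgroup G) [L.Normal] (hL : Cfsg.IsQuasisimple ↥L) (d : G) (hd : orderOf d = 2) (hgen : L ⊔ Subgroup.zpowers d = ⊤) (hodd : Odd (Nat.card ↥(Subgroup.center ↥L))) (hinv : ∀ c ∈ (Subgroup.center ↥L).map L.subtype, d * c * d⁻¹ = c⁻¹) [hn : ((Subgroup.center ↥L).map L.subtype).Normal] (hconn : (Cfsg.commutingGraph (conjugatesOf (QuotientGroup.mk d : G ⧸ (Subgroup.center ↥L).map L.subtype))).Connected) : (Cfsg.commutingGraph (conjugatesOf d)).Connected := by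
  classical
  set Z : Subgroup G := (Subgroup.center ↥L).map L.subtype with hZdef
  have hZL : Z ≤ L := Subgroup.map_subtype_le _
  have hcent : ∀ l ∈ L, ∀ c ∈ Z, Commute l c := by
    rintro l hl _ ⟨c, hc, rfl⟩
    exact congrArg Subtype.val (Subgroup.mem_center_iff.1 hc ⟨l, hl⟩)
  have hZodd : Odd (Nat.card Z) := by
    rw [hZdef, Subgroup.card_map_of_injective (Subgroup.subtype_injective _)]; exact hodd
  have hsqrt : ∀ c ∈ Z, ∃ z ∈ Z, z * z = c := by
    intro c hc
    obtain ⟨m, hm⟩ := hZodd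
    refine ⟨c ^ (m + 1), pow_mem hc _, ?_⟩
    have h1 : c ^ Nat.card Z = 1 := by
      exact congrArg Subtype.val (pow_card_eq_one' (x := (⟨c, hc⟩ : Z)))
    rw [← pow_add, show m + 1 + (m + 1) = Nat.card Z + 1 by omega, pow_succ, h1, one_mul]
  -- every conjugate of d inverts Z
  have hdd : d * d = 1 := by
    have := pow_orderOf_eq_one d; rwa [hd, pow_two] at this
  have hinvall : ∀ a ∈ conjugatesOf d, ∀ c ∈ Z, a * c * a⁻¹ = c⁻¹ := by
    intro a ha c hc
    obtain ⟨g, rfl⟩ := isConj_iff.1 ha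
    have hcc : g⁻¹ * c * g ∈ Z := hn.conj_mem' c hc g
    have := hinv _ hcc
    calc g * d * g⁻¹ * c * (g * d * g⁻¹)⁻¹ = g * (d * (g⁻¹ * c * g) * d⁻¹) * g⁻¹ := by group
      _ = g * (g⁻¹ * c * g)⁻¹ * g⁻¹ := by rw [this]
      _ = c⁻¹ := by group
  have hinvol : ∀ a ∈ conjugatesOf d, a * a = 1 := by
    intro a ha
    obtain ⟨g, rfl⟩ := isConj_iff.1 ha
    calc g * d * g⁻¹ * (g * d * g⁻¹) = g * (d * d) * g⁻¹ := by group
      _ = 1 := by rw [hdd]; group
  -- the whole coset of a conjugate consists of conjugates by Z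
  have hfib : ∀ a ∈ conjugatesOf d, ∀ c ∈ Z, ∃ z ∈ Z, z * a * z⁻¹ = c * a := by
    intro a ha c hc
    obtain ⟨z, hz, hzc⟩ := hsqrt c hc
    refine ⟨z, hz, ?_⟩
    have h1 := hinvall a ha z hz
    calc z * a * z⁻¹ = z * (a * z⁻¹ * a⁻¹) * a := by group
      _ = z * (a * z * a⁻¹)⁻¹ * a := by group
      _ = z * z * a := by rw [h1, inv_inv]
      _ = c * a := by rw [hzc]
  have hfib' : ∀ a ∈ conjugatesOf d, ∀ b : G, (QuotientGroup.mk a : G ⧸ Z) = QuotientGroup.mk b →
      ∃ z ∈ Z, z * a * z⁻¹ = b := by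
    intro a ha b hab
    obtain ⟨z, hz, h⟩ := hfib a ha (b * a⁻¹) (by
      have h1 : a⁻¹ * b ∈ Z := QuotientGroup.eq.1 hab
      have h2 := hn.conj_mem _ h1 a
      simpa using h2)
    exact ⟨z, hz, by simpa using h⟩
  have hmem : d ∈ conjugatesOf d := mem_conjugatesOf_self
  set D := conjugatesOf d
  let H : Subgroup G :=
    { carrier := {g | (Cfsg.commutingGraph D).Reachable ⟨d, hmem⟩ ⟨g * d * g⁻¹, conjugates_mem g hmem⟩}
      one_mem' := by simp
      mul_mem' := by
        intro g k hg hk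
        have h1 := reach_conj g hk
        simp only at h1
        have h2 := hg.trans h1
        simpa [mul_assoc] using h2
      inv_mem' := by
        intro g hg
        have h1 := (reach_conj g⁻¹ hg).symm
        simpa [mul_assoc] using h1 }
  -- path lifting
  have hlift : ∀ (u v : conjugatesOf (QuotientGroup.mk d : G ⧸ Z))
      (_p : (Cfsg.commutingGraph (conjugatesOf (QuotientGroup.mk d : G ⧸ Z))).Walk u v),
      ∀ a : D, (QuotientGroup.mk (a : G) : G ⧸ Z) = u →
        ∃ b : D, (QuotientGroup.mk (b : G) : G ⧸ Z) = v ∧ (Cfsg.commutingGraph D).Reachable a b := by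
    intro u v p
    induction p with
    | nil => exact fun a ha => ⟨a, ha, SimpleGraph.Reachable.refl a⟩
    | @cons u v w huv p ih =>
      intro a ha
      obtain ⟨hne, hcomm⟩ := graph_adj huv
      obtain ⟨g', hg'⟩ := isConj_iff.1 v.2
      obtain ⟨g, rfl⟩ := QuotientGroup.mk_surjective g'
      set b := g * d * g⁻¹ with hb
      have hbv : (QuotientGroup.mk b : G ⧸ Z) = v := by rw [hb]; simpa using hg'
      have hbD : b ∈ D := conjugates_mem g hmem
      set c := (a : G) * b * ((a : G) * b) with hcdef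
      have hc : c ∈ Z := by
        rw [← QuotientGroup.eq_one_iff, hcdef]
        have hh : ((a : G) : G ⧸ Z) * (b : G ⧸ Z) = (b : G ⧸ Z) * ((a : G) : G ⧸ Z) := by
          rw [ha, hbv]; exact hcomm.eq
        simp only [QuotientGroup.mk_mul]
        rw [mul_assoc, ← mul_assoc (b : G ⧸ Z), ← hh, mul_assoc, ← mul_assoc, ← QuotientGroup.mk_mul,
          ← QuotientGroup.mk_mul, hinvol _ a.2, hinvol _ hbD]
        simp
      obtain ⟨z, hz, hzc⟩ := hsqrt c⁻¹ (inv_mem hc)
      have hab : Commute ((a : G) * b) z := by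
        have h1 := hinvall b hbD z hz
        have h2 := hinvall a a.2 _ (inv_mem hz)
        have : (a : G) * b * z * ((a : G) * b)⁻¹ = z := by
          calc (a : G) * b * z * ((a : G) * b)⁻¹ = a * (b * z * b⁻¹) * (a : G)⁻¹ := by group
            _ = z := by rw [h1, h2, inv_inv]
        exact mul_inv_eq_iff_eq_mul.1 this
      obtain ⟨y, hy, hyb⟩ := hfib b hbD z⁻¹ (inv_mem hz)
      have hb' : b * z ∈ D := by
        have h1 := hinvall b hbD z hz
        rw [show b * z = b * z * b⁻¹ * b by group, h1, ← hyb]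
        exact conjugates_mem y hbD
      have hv' : (QuotientGroup.mk (b * z) : G ⧸ Z) = v := by
        rw [QuotientGroup.mk_mul_of_mem b hz, hbv]
      have hcb : Commute (a : G) (b * z) := by
        have h3 : ((a : G) * (b * z)) * ((a : G) * (b * z)) = 1 := by
          calc ((a : G) * (b * z)) * ((a : G) * (b * z))
              = (a : G) * b * (z * ((a : G) * b)) * z := by group
            _ = (a : G) * b * ((a : G) * b) * (z * z) := by rw [← hab.eq]; group
            _ = 1 := by rw [hzc, ← hcdef, mul_inv_cancel]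
        have e := inv_eq_of_mul_eq_one_right h3
        rw [mul_inv_rev, inv_eq_of_mul_eq_one_right (hinvol _ hb'),
          inv_eq_of_mul_eq_one_right (hinvol _ a.2)] at e
        exact e.symm
      obtain ⟨e, he, hre⟩ := ih ⟨b * z, hb'⟩ hv'
      refine ⟨e, he, (SimpleGraph.Adj.reachable (adj_graph ?_ hcb)).trans hre⟩
      intro h
      exact hne (Subtype.ext (by rw [← ha, ← hv', h]))
  have hcover : ∀ g : G, ∃ z ∈ Z, z * g ∈ H := by
    intro g
    obtain ⟨p⟩ := hconn.preconnected ⟨_, mem_conjugatesOf_self⟩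
      ⟨QuotientGroup.mk (g * d * g⁻¹), isConj_iff.2 ⟨QuotientGroup.mk g, by simp⟩⟩
    obtain ⟨b, hb, hr⟩ := hlift _ _ p ⟨d, hmem⟩ rfl
    obtain ⟨z, hz, hzb⟩ := hfib' _ (conjugates_mem g hmem) b hb.symm
    refine ⟨z, hz, ?_⟩
    change (Cfsg.commutingGraph D).Reachable _ _
    convert hr using 2
    rw [← hzb]; group
  have hL' : L ≤ H := by
    intro l hl
    have key : ∀ p q : L, ⁅(p : G), (q : G)⁆ ∈ H := by
      intro p q
      obtain ⟨z, hz, hzp⟩ := hcover p
      obtain ⟨y, hy, hyq⟩ := hcover q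
      have h1 : ⁅z * (p : G), y * (q : G)⁆ ∈ H := by
        rw [commutatorElement_def]
        exact mul_mem (mul_mem (mul_mem hzp hyq) (inv_mem hzp)) (inv_mem hyq)
      have h2 : ⁅z * (p : G), y * (q : G)⁆ = ⁅(p : G), (q : G)⁆ := by
        have a1 := hcent _ (mul_mem (hZL hy) q.2) z hz
        have a2 := hcent _ p.2 y hy
        have a3 := hcent _ (mul_mem (mul_mem p.2 q.2) (inv_mem p.2)) y hy
        rw [commutatorElement_def, commutatorElement_def]
        calc z * (p : G) * (y * q) * (z * (p : G))⁻¹ * (y * q)⁻¹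
            = z * ((p : G) * (y * q) * (p : G)⁻¹) * z⁻¹ * (y * q)⁻¹ := by group
          _ = (p : G) * (y * q) * (p : G)⁻¹ * (y * q)⁻¹ := by
              rw [← (hcent _ (mul_mem (mul_mem p.2 (mul_mem (hZL hy) q.2)) (inv_mem p.2)) z hz).eq]
              group
          _ = y * ((p : G) * q * (p : G)⁻¹) * (q : G)⁻¹ * y⁻¹ := by
              rw [← mul_assoc (p : G), a2.eq]; group
          _ = (p : G) * q * (p : G)⁻¹ * (q : G)⁻¹ := by
              rw [mul_assoc y, ← (hcent _ (mul_mem (mul_mem (mul_mem p.2 q.2) (inv_mem p.2)) (inv_mem q.2)) y hy).eq]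
              group
      rwa [h2] at h1
    have hperf : commutator ↥L = ⊤ := hL.1.commutator_eq_top
    have hle : ⁅(⊤ : Subgroup L), ⊤⁆ ≤ H.comap L.subtype :=
      Subgroup.commutator_le.2 (fun p _ q _ => by
        rw [Subgroup.mem_comap, map_commutatorElement]; exact key p q)
    rw [← commutator_def, hperf] at hle
    exact hle (Subgroup.mem_top (⟨l, hl⟩ : L))
  have htop : (⊤ : Subgroup G) ≤ H := by
    rw [← hgen]
    refine sup_le hL' (Subgroup.zpowers_le.2 ?_)
    change (Cfsg.commutingGraph D).Reachable _ _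
    simp
  refine (SimpleGraph.connected_iff_exists_forall_reachable _).2 ⟨⟨d, hmem⟩, ?_⟩
  rintro ⟨a, ha⟩
  obtain ⟨g, rfl⟩ := isConj_iff.1 ha
  exact htop (Subgroup.mem_top g)

end Cfsg.Agent.S5459
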