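import Cfsg.Statements.S5462
import Cfsg.Agent.Lib.Fischer5.NoSwap
import Cfsg.Agent.Lib.Fischer3T.AutBound
import Cfsg.Agent.Lib.M22Struct66.Main

set_option autoImplicit false
open Cfsg

namespace Cfsg.Agent.S5462

/-- Let G be a finite group with trivial centre generated by a conjugation-invariant set D of 3-transpositions on which it acts primitively, such that for some d in D the subgroup generated by the members of D other than d commuting with d has central largest normal 2- and 3-subgroups, and suppose G with D is of type M(22). Then every automorphism of G of order 2 fixes some member of D. -/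
theorem result {G : Type*} [Group G] [Finite G] {D : Set G} (hD : Cfsg.IsThreeTranspositionGroup D) (hprim : Cfsg.IsPrimitiveUnderConj D) (d₀ : G) (hd₀ : d₀ ∈ D) (h3 : Cfsg.pCore 3 ↥(Subgroup.closure {y : G | y ∈ D ∧ y ≠ d₀ ∧ Commute d₀ y}) ≤ Subgroup.center ↥(Subgroup.closure {y : G | y ∈ D ∧ y ≠ d₀ ∧ Commute d₀ y})) (h2 : Cfsg.pCore 2 ↥(Subgroup.closure {y : G | y ∈ D ∧ y ≠ d₀ ∧ Commute d₀ y}) ≤ Subgroup.center ↥(Subgroup.closure {y : G | y ∈ D ∧ y ≠ d₀ ∧ Commute d₀ y})) (h22 : Cfsg.IsOfTypeM22 G D) (φ : MulAut G) (hφ : orderOf φ = 2) : ∃ d ∈ D, φ d = d := by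
  obtain ⟨F, iF, iF', hC⟩ := Cfsg.Agent.Lib.M22Struct66.exists_counted hD hprim h22
  have hFa := Cfsg.Agent.Lib.M22Struct66.facts_of_m22 hD hprim h22
  have hmem : ∀ d ∈ D, φ d ∈ D := fun d hd => Cfsg.Agent.Lib.Fischer3T.aut_mem_D hD hprim h22 hFa φ hd
  have hinv : ∀ a : G, φ (φ a) = a := fun a => by
    have h2 : φ ^ 2 = 1 := by rw [← hφ]; exact pow_orderOf_eq_one φ
    rw [pow_two] at h2
    exact DFunLike.congr_fun h2 a
  exact Cfsg.Agent.Lib.Fischer5.exists_fixed hC (fun a => φ a) hmem (fun a _ => hinv a)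
    (fun a _ b _ h => h.map φ) (fun a _ b _ => by simp [map_mul])

end Cfsg.Agent.S5462
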