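import Cfsg.Statements.S5463
import Mathlib
import Cfsg.Agent.Lib.ThreeTransp.Hexad

set_option autoImplicit false
open Cfsg

namespace Cfsg.Agent.S5463

/-- Let G be a finite group with trivial centre generated by a conjugation-invariant set D of 3-transpositions on which it acts primitively, such that for some d in D the subgroup generated by the members of D other than d commuting with d has central largest normal 2- and 3-subgroups, and suppose G with D is of type M(22). A product j of two distinct commuting members of D determines the pair: any two 2-element sets of commuting members of D with product j coincide. A product j of three distinct pairwise commuting members of D arises from exactly two such 3-element sets. -/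
theorem result {G : Type*} [Group G] [Finite G] {D : Set G} (hD : Cfsg.IsThreeTranspositionGroup D) (hprim : Cfsg.IsPrimitiveUnderConj D) (d₀ : G) (hd₀ : d₀ ∈ D) (h3 : Cfsg.pCore 3 ↥(Subgroup.closure {y : G | y ∈ D ∧ y ≠ d₀ ∧ Commute d₀ y}) ≤ Subgroup.center ↥(Subgroup.closure {y : G | y ∈ D ∧ y ≠ d₀ ∧ Commute d₀ y})) (h2 : Cfsg.pCore 2 ↥(Subgroup.closure {y : G | y ∈ D ∧ y ≠ d₀ ∧ Commute d₀ y}) ≤ Subgroup.center ↥(Subgroup.closure {y : G | y ∈ D ∧ y ≠ d₀ ∧ Commute d₀ y})) (h22 : Cfsg.IsOfTypeM22 G D) : (∀ (j : G) (l l' : List G), (l.Nodup ∧ l.length = 2 ∧ (∀ a ∈ l, a ∈ D) ∧ (∀ a ∈ l, ∀ b ∈ l, Commute a b) ∧ l.prod = j) → (l'.Nodup ∧ l'.length = 2 ∧ (∀ a ∈ l', a ∈ D) ∧ (∀ a ∈ l', ∀ b ∈ l', Commute a b) ∧ l'.prod = j) → (∀ x : G, x ∈ l ↔ x ∈ l')) ∧ ∀ (j : G) (l₀ : List G), (l₀.Nodup ∧ l₀.length = 3 ∧ (∀ a ∈ l₀, a ∈ D) ∧ (∀ a ∈ l₀, ∀ b ∈ l₀, Commute a b) ∧ l₀.prod = j) → ∃ l₁ l₂ : List G, (l₁.Nodup ∧ l₁.length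 = 3 ∧ (∀ a ∈ l₁, a ∈ D) ∧ (∀ a ∈ l₁, ∀ b ∈ l₁, Commute a b) ∧ l₁.prod = j) ∧ (l₂.Nodup ∧ l₂.length = 3 ∧ (∀ a ∈ l₂, a ∈ D) ∧ (∀ a ∈ l₂, ∀ b ∈ l₂, Commute a b) ∧ l₂.prod = j) ∧ ¬ (∀ x : G, x ∈ l₁ ↔ x ∈ l₂) ∧ ∀ l : List G, (l.Nodup ∧ l.length = 3 ∧ (∀ a ∈ l, a ∈ D) ∧ (∀ a ∈ l, ∀ b ∈ l, Commute a b) ∧ l.prod = j) → ((∀ x : G, x ∈ l ↔ x ∈ l₁) ∨ (∀ x : G, x ∈ l ↔ x ∈ l₂)) := by
  have hP := Agent.Lib.ThreeTransp.Products.pre_of_group hD
  have hcore := Agent.Lib.ThreeTransp.Products.core_eq hD.1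
  obtain ⟨hgood, h4, -⟩ := Agent.Lib.ThreeTransp.Products.good_m22 hP h22
  rw [hcore] at hgood h4
  constructor
  · rintro j l l' ⟨hnd, hlen, hmem, hcomm, hp⟩ ⟨hnd', hlen', hmem', hcomm', hp'⟩
    exact Agent.Lib.ThreeTransp.Products.factorization_unique hD.1 hD.2.1 2 (by norm_num) (fun k h1 h2' => by
        obtain rfl | rfl : k = 1 ∨ k = 2 := by omega
        · exact Agent.Lib.ThreeTransp.Products.noProd_le_three hD.1 hD.2.1 hD.2.2 hgood.center (by norm_num) (by norm_num)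
        · exact h4)
      l l' hnd hnd' hlen hlen' hmem hmem' hcomm hcomm' (hp.trans hp'.symm)
  · rintro j l₀ ⟨hnd, hlen, hmem, hcomm, hp⟩
    obtain ⟨a, b, c, rfl⟩ := List.length_eq_three.1 hlen
    simp only [List.nodup_cons, List.mem_cons, List.not_mem_nil, or_false, not_or, not_false_eq_true,
      List.nodup_nil, and_true] at hnd
    have hj : a * b * c = j := by simpa [mul_assoc] using hp
    obtain ⟨x, y, z, hn3, hm3, hc3, hp3, hnot, huniq⟩ :=
      Agent.Lib.ThreeTransp.Products.two_factorisations hD hprim h22 (hmem a (by simp)) (hmem b (by simp))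
        (hmem c (by simp)) hnd.1.1 hnd.1.2 hnd.2 (hcomm a (by simp) b (by simp)) (hcomm a (by simp) c (by simp))
        (hcomm b (by simp) c (by simp))
    refine ⟨[a, b, c], [x, y, z], ⟨by simp [hnd.1.1, hnd.1.2, hnd.2], rfl, hmem, hcomm, hp⟩,
      ⟨hn3, rfl, hm3, hc3, hp3.trans hj⟩, fun he => hnot x (by simp) ((he x).2 (by simp)), ?_⟩
    rintro l ⟨h1, h2', h3', h4', h5'⟩
    exact huniq l h1 h2' h3' h4' (h5'.trans hj.symm)

end Cfsg.Agent.S5463
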