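import Cfsg.Statements.S5467
import Cfsg.Agent.Lib.M24Two74.Main
import Cfsg.Agent.Lib.M24Two74.Iso
import Cfsg.Agent.Lib.Fischer5.InvolM24
import Cfsg.Agent.Lib.CosetTable.Lanes.Fi24.Simple

set_option autoImplicit false
open Cfsg

namespace Cfsg.Agent.S5467

/-- Let G be a finite group with trivial centre generated by a conjugation-invariant set D of 3-transpositions on which it acts primitively, such that for some d in D the subgroup generated by the members of D other than d commuting with d has central largest normal 2- and 3-subgroups, and suppose G with D is of type M(24), and let L be the commutator subgroup of G. Let z be the product of four distinct pairwise commuting members of D (an involution of L) and C its centralizer in L. Then the generalized Fitting subgroup Q of C is extraspecial of order 2^13, and C has normal subgroups Q ≤ N ≤ M with N/Q of order 3, M/N isomorphic to the projective special unitary group of dimension 4 over the field with nine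 elements, and M of index 2 in C. -/
theorem result {G : Type*} [Group G] [Finite G] {D : Set G} (hD : Cfsg.IsThreeTranspositionGroup D) (hprim : Cfsg.IsPrimitiveUnderConj D) (d₀ : G) (hd₀ : d₀ ∈ D) (h3 : Cfsg.pCore 3 ↥(Subgroup.closure {y : G | y ∈ D ∧ y ≠ d₀ ∧ Commute d₀ y}) ≤ Subgroup.center ↥(Subgroup.closure {y : G | y ∈ D ∧ y ≠ d₀ ∧ Commute d₀ y})) (h2 : Cfsg.pCore 2 ↥(Subgroup.closure {y : G | y ∈ D ∧ y ≠ d₀ ∧ Commute d₀ y}) ≤ Subgroup.center ↥(Subgroup.closure {y : G | y ∈ D ∧ y ≠ d₀ ∧ Commute d₀ y})) (h24 : Cfsg.IsOfTypeM24 G D) (L : Subgroup G) (hL : L = commutator G) (z : G) (l : List G) (hl : (l.Nodup ∧ l.length = 4 ∧ (∀ a ∈ l, a ∈ D) ∧ (∀ a ∈ l, ∀ b ∈ l, Commute a b) ∧ l.prod = z)) (C : Subgroup G) (hC : C = L ⊓ Subgroup.centralizer ({z} : Set G)) : ∃ (Q : Subgroup ↥C) (_ : Q.Normal), Cfsg.generalizedFittingSubgroup ↥C = Q ∧ Cfsg.IsExtraspecial 2 ↥Q ∧ Nat.card Q = 2 ^ 13 ∧ ∃ (N M : Subgroup ↥C) (_ : N.Normal) (_ : M.Normal), Q ≤ N ∧ N ≤ M ∧ Nat.card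 N = 3 * Nat.card Q ∧ (∃ (K : Type) (_ : Field K) (_ : Fintype K), Fintype.card K = 9 ∧ Nonempty (↥M ⧸ N.subgroupOf M ≃* Cfsg.PSU 4 K 3)) ∧ M.index = 2 := by
  open Lib.CosetTable.Lanes in
  obtain ⟨e, he⟩ := Lib.M24Two74.exists_iso_fi24 hD hprim h24 hd₀
  have hF := Lib.Fischer3T30.facts24 hD hprim h24
  have hI := (Lib.Fischer5.inv24_of_m24 hD hprim h24).1
  have hX := Lib.M24Struct51.ctx_of_m24 hD hprim h24
  have hN := (Lib.Fischer5.noProd_m24 hD h24).2
  have hs₀ : Lib.M24Two74.Setup D (e : Cfsg.Spor.Fi24 →* G) :=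
    ⟨Lib.Fischer5.Fi24Points.Frame.of_facts hD hprim h24 hF e.surjective he, hX, hI, hN⟩
  obtain ⟨hnd, hlen, hmem, hcomm, hprod⟩ := hl
  obtain ⟨g, hg⟩ := isConj_iff.1 (hI.commProd_isConj 4 (by norm_num) le_rfl _ _
    (Lib.M24Two74.commProd_z hs₀) ⟨l, hnd, hlen, hmem, hcomm, hprod⟩)
  let e' : Cfsg.Spor.Fi24 ≃* G := e.trans (MulAut.conj g)
  have he' : e' (Lib.CosetTable.Lanes.Fi24.gn 0) ∈ D := hD.2.1 g _ he
  have hs : Lib.M24Two74.Setup D (e' : Cfsg.Spor.Fi24 →* G) :=
    ⟨Lib.Fischer5.Fi24Points.Frame.of_facts hD hprim h24 hF e'.surjective he', hX, hI, hN⟩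
  let ε : G →* ℤˣ := Lib.CosetTable.Lanes.Fi24.sgn.comp e'.symm.toMonoidHom
  have hε : ∀ d ∈ D, ε d = -1 := by
    intro d hd
    obtain ⟨x, hx⟩ := hprim.1 _ he' d hd
    rw [← hx, map_mul, map_mul, map_inv]
    show ε x * Lib.CosetTable.Lanes.Fi24.sgn (e'.symm (e' (Lib.CosetTable.Lanes.Fi24.gn 0))) * (ε x)⁻¹ = -1
    rw [e'.symm_apply_apply, Lib.CosetTable.Lanes.Fi24.sgn_gn, mul_comm (ε x), mul_inv_cancel_right]
  have hker : ε.ker = commutator G := by
    refine le_antisymm (fun x hx => ?_) ?_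
    · rcases Lib.CosetTable.Lanes.Fi24.derived_dichotomy (e'.symm x) with h | h
      · have h' := Subgroup.mem_map_of_mem e'.toMonoidHom h
        rw [MulEquiv.toMonoidHom_eq_coe, MonoidHom.coe_coe, e'.apply_symm_apply] at h'
        rw [commutator_def, Subgroup.map_commutator] at h'
        rw [commutator_def]
        exact Subgroup.commutator_mono le_top le_top h'
      · exfalso
        have h' := MonoidHom.mem_ker.1 (Lib.CosetTable.Lanes.Fi24.commutator_le_ker h)
        rw [map_mul, Lib.CosetTable.Lanes.Fi24.sgn_gn] at h'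
        rw [show Lib.CosetTable.Lanes.Fi24.sgn (e'.symm x) = 1 from hx] at h'
        exact absurd h' (by decide)
    · rw [commutator_def, Subgroup.commutator_le]
      intro a _ b _
      rw [MonoidHom.mem_ker, map_commutatorElement, commutatorElement_eq_one_iff_mul_comm, mul_comm]
  have hz : Lib.M24Two74.z4 (e' : Cfsg.Spor.Fi24 →* G) = z := hg
  exact Lib.M24Two74.shape_of_ker hs ε hε C (by rw [hC, hL, hker, ← hz])

end Cfsg.Agent.S5467
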