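import Cfsg.Statements.S5471
import Mathlib
import Cfsg.Agent.Lib.ThreeTransp.ProductsClass

set_option autoImplicit false
open Cfsg

namespace Cfsg.Agent.S5471

/-- Let G be a finite group with trivial centre generated by a conjugation-invariant set D of 3-transpositions on which it acts primitively, such that for some d in D the subgroup generated by the members of D other than d commuting with d has central largest normal 2- and 3-subgroups, and suppose G with D is of type M(23). Let d₁, d₂, d₃ be distinct pairwise commuting members of D and j their product. Then the joint centralizer of d₁, d₂, d₃ is normal in the centralizer of j with quotient isomorphic to the symmetric group of degree 3. -/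
theorem result {G : Type*} [Group G] [Finite G] {D : Set G} (hD : Cfsg.IsThreeTranspositionGroup D) (hprim : Cfsg.IsPrimitiveUnderConj D) (d₀ : G) (hd₀ : d₀ ∈ D) (h3 : Cfsg.pCore 3 ↥(Subgroup.closure {y : G | y ∈ D ∧ y ≠ d₀ ∧ Commute d₀ y}) ≤ Subgroup.center ↥(Subgroup.closure {y : G | y ∈ D ∧ y ≠ d₀ ∧ Commute d₀ y})) (h2 : Cfsg.pCore 2 ↥(Subgroup.closure {y : G | y ∈ D ∧ y ≠ d₀ ∧ Commute d₀ y}) ≤ Subgroup.center ↥(Subgroup.closure {y : G | y ∈ D ∧ y ≠ d₀ ∧ Commute d₀ y})) (h23 : Cfsg.IsOfTypeM23 G D) (d₁ d₂ d₃ : G) (h₁ : d₁ ∈ D) (h₂ : d₂ ∈ D) (h₃ : d₃ ∈ D) (h12 : d₁ ≠ d₂) (h13 : d₁ ≠ d₃) (h23 : d₂ ≠ d₃) (c12 : Commute d₁ d₂) (c13 : Commute d₁ d₃) (c23 : Commute d₂ d₃) (K C : Subgroup G) (hK : K = Subgroup.centralizer ({d₁, d₂, d₃} : Set G)) (hC : C = Subgroup.centralizer ({d₁ * d₂ * d₃} : Set G)) : K ≤ C ∧ ∃ _ : (K.subgroupOf C).Normal, Nonempty (↥C ⧸ K.subgroupOf C ≃* Equiv.Perm (Fin 3)) := by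
  classical
  subst hK hC
  have hmemK : ∀ g : G, g ∈ Subgroup.centralizer ({d₁, d₂, d₃} : Set G) ↔
      Commute g d₁ ∧ Commute g d₂ ∧ Commute g d₃ := by
    intro g
    simp only [Subgroup.mem_centralizer_iff, Set.mem_insert_iff, Set.mem_singleton_iff, forall_eq_or_imp,
      forall_eq]
    exact ⟨fun h => ⟨h.1.symm, h.2.1.symm, h.2.2.symm⟩, fun h => ⟨h.1.symm, h.2.1.symm, h.2.2.symm⟩⟩
  have hKC : Subgroup.centralizer ({d₁, d₂, d₃} : Set G) ≤
      Subgroup.centralizer ({d₁ * d₂ * d₃} : Set G) := fun g hg => by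
    obtain ⟨e1, e2, e3⟩ := (hmemK g).1 hg
    exact Subgroup.mem_centralizer_singleton_iff.2 ((e1.mul_right e2).mul_right e3).eq
  refine ⟨hKC, ?_⟩
  set C := Subgroup.centralizer ({d₁ * d₂ * d₃} : Set G)
  let f : Fin 3 → G := ![d₁, d₂, d₃]
  have hf : Function.Injective f := by
    intro i j
    fin_cases i <;> fin_cases j <;> simp [f, h12, h13, h23, h12.symm, h13.symm, h23.symm]
  have hP := Agent.Lib.ThreeTransp.Products.pre_of_group hD
  have hcore := Agent.Lib.ThreeTransp.Products.core_eq hD.1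
  obtain ⟨hG, h4, -, h6⟩ := Agent.Lib.ThreeTransp.Products.good_m23 hP (by assumption)
  rw [hcore] at hG h4 h6
  -- an element of `C` permutes the three factors
  have hperm : ∀ g : C, ∀ i, ∃ j, f j = (g : G) * f i * (g : G)⁻¹ := by
    intro g i
    have hnd : [d₁, d₂, d₃].Nodup := by simp [h12, h13, h23]
    have hmem : ∀ a ∈ [d₁, d₂, d₃], a ∈ D := by simp [h₁, h₂, h₃]
    have hcomm : ∀ a ∈ [d₁, d₂, d₃], ∀ b ∈ [d₁, d₂, d₃], Commute a b := by
      simp [c12, c13, c23, c12.symm, c13.symm, c23.symm, Commute.refl]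
    set φ := (MulAut.conj (g : G)).toMonoidHom
    have hu := Agent.Lib.ThreeTransp.Products.factorization_unique hD.1 hD.2.1 3 le_rfl ?_
      ([d₁, d₂, d₃].map φ) [d₁, d₂, d₃] (hnd.map (MulAut.conj (g : G)).injective) hnd (by simp) (by simp)
      ?_ hmem ?_ hcomm ?_ (φ (f i))
    · have : φ (f i) ∈ [d₁, d₂, d₃] := hu.1 (by fin_cases i <;> simp [f])
      simp only [List.mem_cons, List.not_mem_nil, or_false] at this
      rcases this with e | e | e
      exacts [⟨0, e.symm⟩, ⟨1, e.symm⟩, ⟨2, e.symm⟩]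
    · intro k hk1 hkm
      obtain rfl | rfl | rfl : k = 1 ∨ k = 2 ∨ k = 3 := by omega
      · exact Agent.Lib.ThreeTransp.Products.noProd_le_three hD.1 hD.2.1 hD.2.2 hG.center (by norm_num) (by norm_num)
      · exact h4
      · exact h6
    · intro a ha
      obtain ⟨b, hb, rfl⟩ := List.mem_map.1 ha
      exact hD.2.1 _ b (hmem b hb)
    · intro a ha b hb
      obtain ⟨a', ha', rfl⟩ := List.mem_map.1 ha
      obtain ⟨b', hb', rfl⟩ := List.mem_map.1 hb
      exact (hcomm a' ha' b' hb').map φ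
    · rw [← map_list_prod]
      show (g : G) * [d₁, d₂, d₃].prod * (g : G)⁻¹ = _
      rw [show [d₁, d₂, d₃].prod = d₁ * d₂ * d₃ by simp [mul_assoc],
        Subgroup.mem_centralizer_singleton_iff.1 g.2, mul_inv_cancel_right]
  choose σ hσ using hperm
  let ψ₀ : C → Function.End (Fin 3) := σ
  let ψ : C →* Function.End (Fin 3) :=
    { toFun := ψ₀
      map_one' := funext fun i => hf (by rw [hσ]; simp [Function.End.one_def])
      map_mul' := fun g h => funext fun i => hf (by
        show f (σ (g * h) i) = f (σ g (σ h i))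
        rw [hσ, hσ, hσ]; simp [mul_assoc]) }
  let ρ : C →* Equiv.Perm (Fin 3) := (Equiv.Perm.equivUnitsEnd.symm.toMonoidHom).comp ψ.toHomUnits
  have hρ : ∀ g i, f (ρ g i) = (g : G) * f i * (g : G)⁻¹ := fun g i => hσ g i
  have hker : ρ.ker = (Subgroup.centralizer ({d₁, d₂, d₃} : Set G)).subgroupOf C := by
    ext g
    rw [MonoidHom.mem_ker, Subgroup.mem_subgroupOf, hmemK]
    constructor
    · intro h
      have hh : ∀ i, Commute (g : G) (f i) := fun i => by
        have := hρ g i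
        rw [h] at this
        exact mul_inv_eq_iff_eq_mul.1 this.symm
      exact ⟨hh 0, hh 1, hh 2⟩
    · rintro ⟨e1, e2, e3⟩
      refine Equiv.ext fun i => hf ?_
      rw [hρ]
      fin_cases i <;> simp [f, e1.eq, e2.eq, e3.eq]
  have hswap : ∀ i j : Fin 3, i ≠ j → Equiv.swap i j ∈ ρ.range := by
    intro i j hij
    have hfD : ∀ i, f i ∈ D := by intro i; fin_cases i <;> simp [f, h₁, h₂, h₃]
    have hfc : ∀ i j, Commute (f i) (f j) := by
      intro i j
      fin_cases i <;> fin_cases j <;> simp [f, c12, c13, c23, c12.symm, c13.symm, c23.symm, Commute.refl]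
    obtain ⟨k, hki, hkj⟩ : ∃ k : Fin 3, k ≠ i ∧ k ≠ j := by revert i j; decide
    obtain ⟨g, g1, g2, g3⟩ := Agent.Lib.ThreeTransp.Products.exists_swap_m23 hD (by assumption)
      (hfD i) (hfD j) (hfD k) (hfc i j) (hfc i k) (hfc j k) (hf.ne hki.symm) (hf.ne hkj.symm)
    have hgC : g ∈ C := by
      refine Subgroup.mem_centralizer_singleton_iff.2 ?_
      have hprod : g * (f i * f j * f k) * g⁻¹ = f i * f j * f k := by
        calc g * (f i * f j * f k) * g⁻¹ = (g * f i * g⁻¹) * (g * f j * g⁻¹) * (g * f k * g⁻¹) := by group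
          _ = _ := by rw [g1, g2, g3, (hfc j i).eq]
      have hj : f i * f j * f k = d₁ * d₂ * d₃ := by
        fin_cases i <;> fin_cases j <;> fin_cases k <;> simp_all [f]
        all_goals simp [mul_assoc, c12.eq, c13.eq, c23.eq, c12.left_comm, c13.left_comm, c23.left_comm]
      rw [hj] at hprod
      exact mul_inv_eq_iff_eq_mul.1 hprod
    refine ⟨⟨g, hgC⟩, Equiv.ext fun l => hf ?_⟩
    rw [hρ]
    have hd3 : ∀ i j k l : Fin 3, i ≠ j → k ≠ i → k ≠ j → l = i ∨ l = j ∨ l = k := by decide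
    obtain rfl | rfl | rfl := hd3 i j k l hij hki hkj
    · rw [Equiv.swap_apply_left]; exact g2
    · rw [Equiv.swap_apply_right]; exact g3
    · rw [Equiv.swap_apply_of_ne_of_ne hki hkj]; exact g1
  have hsurj : Function.Surjective ρ := by
    rw [← MonoidHom.range_eq_top, ← top_le_iff, ← Equiv.Perm.closure_isSwap, Subgroup.closure_le]
    rintro s ⟨i, j, hij, rfl⟩
    exact hswap i j hij
  have hnorm : ((Subgroup.centralizer ({d₁, d₂, d₃} : Set G)).subgroupOf C).Normal := hker ▸ inferInstance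
  exact ⟨hnorm, ⟨(QuotientGroup.quotientMulEquivOfEq hker.symm).trans
    (QuotientGroup.quotientKerEquivOfSurjective ρ hsurj)⟩⟩

end Cfsg.Agent.S5471
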