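import Cfsg.Statements.S5514
import Cfsg.Agent.Lib.OmegaSeven.Centraliser
import Cfsg.Agent.Lib.Orth.Centre

set_option autoImplicit false
open Cfsg

namespace Cfsg.Agent.S5514

open Cfsg.Agent.Lib in
/-- `Ω(7,3)` is its own quotient by the centre. -/
theorem exists_equiv : Nonempty (↥(Cfsg.Omega (ZMod 3) ⇑OmegaSeven.form) ≃*
    Cfsg.POmega (ZMod 3) (Cfsg.quadFormOdd 3 (ZMod 3))) := by
  have hc : Subgroup.center ↥(Cfsg.Omega (ZMod 3) ⇑OmegaSeven.form) = ⊥ :=
    Orth.center_omega_eq_bot OmegaSeven.two_ne (Orth.oddForm_nondegenerate OmegaSeven.two_ne 3)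
      (by rw [OmegaSeven.card_idx]; norm_num) (by rw [OmegaSeven.card_idx]; exact ⟨3, rfl⟩)
  rw [← Orth.coe_oddForm (F := ZMod 3) 3]
  exact ⟨MulEquiv.ofBijective (QuotientGroup.mk' (Subgroup.center _))
    ⟨(MonoidHom.ker_eq_bot_iff _).1 (by rw [QuotientGroup.ker_mk', hc]),
      QuotientGroup.mk'_surjective _⟩⟩

open Cfsg.Agent.Lib in
/-- Seven classes of subgroups of order three, for any group with a copy of `Ω(7,3)`. -/
theorem classes_of_equiv {H : Type} [Group H]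
    (e : ↥(Cfsg.Omega (ZMod 3) ⇑OmegaSeven.form) ≃* H) :
    ∃ Y : Fin 7 → Subgroup H, (∀ i, Nat.card (Y i) = 3) ∧
      (∀ i j, (∃ g : H, (Y i).map (MulAut.conj g).toMonoidHom = Y j) → i = j) ∧
      (∀ X : Subgroup H, Nat.card X = 3 →
        ∃ i, ∃ g : H, X.map (MulAut.conj g).toMonoidHom = Y i) := by
  let r : Fin 7 → ↥(Cfsg.Omega (ZMod 3) ⇑OmegaSeven.form) := fun i =>
    ⟨OmegaSeven.rep i, OmegaSeven.mem_omega_of_cube (OmegaSeven.rep_cube i)⟩
  refine ⟨fun i => Subgroup.zpowers (e (r i)), fun i => ?_, ?_, ?_⟩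
  · rw [Nat.card_zpowers, MulEquiv.orderOf_eq, ← Subgroup.orderOf_coe]
    exact OmegaSeven.orderOf_rep i
  · rintro i j ⟨g, hg⟩
    obtain ⟨g, rfl⟩ := e.surjective g
    simp only [MonoidHom.map_zpowers] at hg
    have hmem : e g * e (r i) * (e g)⁻¹ ∈ Subgroup.zpowers (e (r j)) := by
      rw [← hg]; exact Subgroup.mem_zpowers _
    obtain ⟨k, hk⟩ := hmem
    have hk' : (r j : OmegaSeven.Iso7) ^ k = g * r i * g⁻¹ := by
      have := congrArg (fun x => ((e.symm x : ↥(Cfsg.Omega (ZMod 3) ⇑OmegaSeven.form)) :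
        OmegaSeven.Iso7)) hk
      simpa using this
    refine OmegaSeven.rep_conj_inj g.2 ?_
    show (g : OmegaSeven.Iso7) * r i * g⁻¹ = r j ∨ (g : OmegaSeven.Iso7) * r i * g⁻¹ = (r j)⁻¹
    rw [← hk']
    have h3 : (r j : OmegaSeven.Iso7) ^ (3 : ℤ) = 1 := by
      rw [zpow_ofNat]; exact OmegaSeven.rep_cube j
    have hmod : (r j : OmegaSeven.Iso7) ^ k = (r j : OmegaSeven.Iso7) ^ (k % 3) := by
      conv_lhs => rw [← Int.emod_add_mul_ediv k 3, zpow_add, zpow_mul, h3, one_zpow, mul_one]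
    rcases (by omega : k % 3 = 0 ∨ k % 3 = 1 ∨ k % 3 = 2) with hm | hm | hm <;> rw [hmod, hm]
    · exfalso
      refine OmegaSeven.rep_ne_one i ?_
      rw [hm, zpow_zero] at hmod
      rw [hmod] at hk'
      exact conj_eq_one_iff.1 hk'.symm
    · exact Or.inl (zpow_one _)
    · refine Or.inr (eq_inv_of_mul_eq_one_left ?_)
      rw [← zpow_add_one]; exact h3
  · intro X hX
    have : Fact (Nat.Prime 3) := ⟨by norm_num⟩
    obtain ⟨x, hx1⟩ : ∃ x : X, x ≠ 1 := by
      by_contra! h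
      have : Subsingleton X := ⟨fun a b => (h a).trans (h b).symm⟩
      simp at hX
    have hgen : X = Subgroup.zpowers (x : H) := by
      refine (Subgroup.ext fun y => ⟨fun hy => ?_, fun hy => ?_⟩)
      · obtain ⟨k, hk⟩ := (Subgroup.mem_zpowers_iff).1
          (mem_zpowers_of_prime_card hX hx1 : (⟨y, hy⟩ : X) ∈ Subgroup.zpowers x)
        exact ⟨k, by simpa using congrArg Subtype.val hk⟩
      · exact (Subgroup.zpowers_le.2 x.2) hy
    obtain ⟨a, ha⟩ := e.surjective (x : H)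
    have ha3 : a ^ 3 = 1 := by
      refine e.injective ?_
      rw [map_pow, map_one, ha, ← Subgroup.coe_pow, ← hX, pow_card_eq_one']
      rfl
    have ha1 : (a : OmegaSeven.Iso7) ≠ 1 := by
      intro h
      refine hx1 (Subtype.ext ?_)
      rw [← ha, show a = 1 from Subtype.ext h, map_one]
      rfl
    obtain ⟨h, hh, i, hi⟩ := OmegaSeven.exists_conj_rep_omega
      (by rw [← Subgroup.coe_pow, ha3]; rfl : (a : OmegaSeven.Iso7) ^ 3 = 1) ha1
    refine ⟨i, e ⟨h, hh⟩, ?_⟩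
    rw [hgen, MonoidHom.map_zpowers, ← ha]
    congr 1
    show e ⟨h, hh⟩ * e a * (e ⟨h, hh⟩)⁻¹ = e (r i)
    rw [← map_mul, ← map_inv, ← map_mul]
    exact congrArg e (Subtype.ext hi)

/-- The commutator subgroup of the isometry group of a non-degenerate 7-dimensional quadratic form over the field with three elements, modulo its (trivial) centre — the simple group Ω(7, 3) — has exactly seven conjugacy classes of subgroups of order 3. -/
theorem result : ∃ Y : Fin 7 → Subgroup (Cfsg.POmega (ZMod 3) (Cfsg.quadFormOdd 3 (ZMod 3))), (∀ i, Nat.card (Y i) = 3) ∧ (∀ i j, (∃ g : Cfsg.POmega (ZMod 3) (Cfsg.quadFormOdd 3 (ZMod 3)), (Y i).map (MulAut.conj g).toMonoidHom = Y j) → i = j) ∧ (∀ X : Subgroup (Cfsg.POmega (ZMod 3) (Cfsg.quadFormOdd 3 (ZMod 3))), Nat.card X = 3 → ∃ i, ∃ g : Cfsg.POmega (ZMod 3) (Cfsg.quadFormOdd 3 (ZMod 3)), X.map (MulAut.conj g).toMonoidHom = Y i) := by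
  obtain ⟨e⟩ := exists_equiv
  exact classes_of_equiv e

end Cfsg.Agent.S5514
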