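import Cfsg.Statements.S5517
import Cfsg.Agent.Lib.Fischer3T25.OmegaSevenSub
import Cfsg.Agent.Lib.Fi22Unique49.Main

set_option autoImplicit false
open Cfsg

namespace Cfsg.Agent.S5517

/-- Let G be a finite group with trivial centre generated by a conjugation-invariant set D of 3-transpositions on which it acts primitively, such that for some d in D the subgroup generated by the members of D other than d commuting with d has central largest normal 2- and 3-subgroups, and suppose G with D is of type M(22). Then G has a subgroup L generated by the members of D it contains and isomorphic to Ω(7, 3) (the commutator subgroup of the isometry group of a non-degenerate 7-dimensional quadratic form over the field with three elements, modulo its centre), and every Sylow 3-subgroup of L is a Sylow 3-subgroup of G. -/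
theorem result {G : Type*} [Group G] [Finite G] {D : Set G} (hD : Cfsg.IsThreeTranspositionGroup D) (hprim : Cfsg.IsPrimitiveUnderConj D) (d₀ : G) (hd₀ : d₀ ∈ D) (h3 : Cfsg.pCore 3 ↥(Subgroup.closure {y : G | y ∈ D ∧ y ≠ d₀ ∧ Commute d₀ y}) ≤ Subgroup.center ↥(Subgroup.closure {y : G | y ∈ D ∧ y ≠ d₀ ∧ Commute d₀ y})) (h2 : Cfsg.pCore 2 ↥(Subgroup.closure {y : G | y ∈ D ∧ y ≠ d₀ ∧ Commute d₀ y}) ≤ Subgroup.center ↥(Subgroup.closure {y : G | y ∈ D ∧ y ≠ d₀ ∧ Commute d₀ y})) (h22 : Cfsg.IsOfTypeM22 G D) : ∃ L : Subgroup G, Cfsg.IsDSubgroup D L ∧ Nonempty (↥L ≃* Cfsg.POmega (ZMod 3) (Cfsg.quadFormOdd 3 (ZMod 3))) ∧ ∀ P : Sylow 3 ↥L, ∃ P' : Sylow 3 G, (P : Subgroup ↥L).map L.subtype = (P' : Subgroup G) := by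
  obtain ⟨e, he⟩ := Cfsg.Agent.Lib.Fi22Unique49.exists_iso_fi22 hD hprim h22
  refine Cfsg.Agent.Lib.Fischer3T25.exists_omegaSeven e.symm (Set.ext fun x => ⟨?_, fun hx => ?_⟩)
  · rintro ⟨d, hd, rfl⟩
    obtain ⟨g, hg⟩ := hprim.1 _ he d hd
    show IsConj _ (e.symm d)
    refine isConj_iff.2 ⟨e.symm g, ?_⟩
    rw [← hg]
    simp [Cfsg.Agent.Lib.Fischer3T25.genImg]
    rfl
  · have hx' : IsConj (Cfsg.Agent.Lib.Fischer3T25.genImg .a) x := hx
    obtain ⟨g, hg⟩ := isConj_iff.1 hx'
    refine ⟨e x, ?_, e.symm_apply_apply x⟩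
    rw [← hg, map_mul, map_mul, map_inv]
    exact hD.2.1 _ _ he

end Cfsg.Agent.S5517
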