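import Cfsg.Statements.S5520
import Cfsg.Agent.Lib.SU6U43.Main

set_option autoImplicit false
open Cfsg

namespace Cfsg.Agent.S5520

open Cfsg.Agent.Lib in
/-- In the special unitary group of dimension 6 over the field with four elements (determinant-one matrices preserving the standard Hermitian form), the subgroups K whose centre has order 3 with K modulo its centre isomorphic to the projective special unitary group of dimension 4 over the field with nine elements fall into exactly three conjugacy classes. -/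
theorem result (F : Type) [Field F] [Fintype F] (hF : Fintype.card F = 4) (F9 : Type) [Field F9] [Fintype F9] (hF9 : Fintype.card F9 = 9) : ∃ K₁ K₂ K₃ : Subgroup ↥(Cfsg.SU 6 F 2), (∀ K ∈ [K₁, K₂, K₃], Nat.card ↥(Subgroup.center ↥K) = 3 ∧ Nonempty (↥K ⧸ Subgroup.center ↥K ≃* Cfsg.PSU 4 F9 3)) ∧ (¬ ∃ g : ↥(Cfsg.SU 6 F 2), K₁.map (MulAut.conj g).toMonoidHom = K₂) ∧ (¬ ∃ g : ↥(Cfsg.SU 6 F 2), K₁.map (MulAut.conj g).toMonoidHom = K₃) ∧ (¬ ∃ g : ↥(Cfsg.SU 6 F 2), K₂.map (MulAut.conj g).toMonoidHom = K₃) ∧ ∀ K : Subgroup ↥(Cfsg.SU 6 F 2), Nat.card ↥(Subgroup.center ↥K) = 3 → Nonempty (↥K ⧸ Subgroup.center ↥K ≃* Cfsg.PSU 4 F9 3) → ∃ g : ↥(Cfsg.SU 6 F 2), K.map (MulAut.conj g).toMonoidHom = K₁ ∨ K.map (MulAut.conj g).toMonoidHom = K₂ ∨ K.map (MulAut.conj g).toMonoidHom = K₃ := by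
  obtain ⟨u⟩ := Leech.U43.psu43_iso
  let φ9 : F9 ≃+* UThreeThree.Nine :=
    FiniteField.ringEquivOfCardEq (hF9.trans UThreeThree.card_nine.symm)
  let e9 : Cfsg.PSU 4 F9 3 ≃* ↥McL275.LL :=
    (PSUThreeTwo.psuMap φ9).trans (u.symm.trans McL275.lineEquiv)
  let φ : CosetTable.HeSp44.K4 ≃+* F :=
    FiniteField.ringEquivOfCardEq (CosetTable.HeSp44.K4.card_eq.trans hF.symm)
  let Φ : SU6U43.G ≃* ↥(Cfsg.SU 6 F 2) := PSUThreeTwo.suMap φ
  obtain ⟨L1, L2, L3, hL, h12, h13, h23, hall⟩ := SU6U43.three_classes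
  have hback : ∀ K : Subgroup ↥(Cfsg.SU 6 F 2),
      (K.map Φ.symm.toMonoidHom).map Φ.toMonoidHom = K := fun K => by
    rw [Subgroup.map_map]
    convert Subgroup.map_id K
    ext x
    simp
  have hcomm : ∀ (g : SU6U43.G) (K : Subgroup SU6U43.G),
      (K.map (MulAut.conj g).toMonoidHom).map Φ.toMonoidHom =
        (K.map Φ.toMonoidHom).map (MulAut.conj (Φ g)).toMonoidHom := fun g K => by
    rw [Subgroup.map_map, Subgroup.map_map]
    congr 1
    ext x
    simp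
  have hnc : ∀ {A B : Subgroup SU6U43.G}, (¬ ∃ g, A.map (MulAut.conj g).toMonoidHom = B) →
      ¬ ∃ g, (A.map Φ.toMonoidHom).map (MulAut.conj g).toMonoidHom = B.map Φ.toMonoidHom := by
    rintro A B h ⟨g, hg⟩
    refine h ⟨Φ.symm g, Subgroup.map_injective (f := Φ.toMonoidHom) Φ.injective ?_⟩
    rw [hcomm, MulEquiv.apply_symm_apply]
    exact hg
  refine ⟨L1.map Φ.toMonoidHom, L2.map Φ.toMonoidHom, L3.map Φ.toMonoidHom, ?_, hnc h12, hnc h13,
    hnc h23, fun K h3 hq => ?_⟩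
  · intro K hK
    have key : ∀ L ∈ [L1, L2, L3], Nat.card (Subgroup.center (L.map Φ.toMonoidHom)) = 3 ∧
        Nonempty (L.map Φ.toMonoidHom ⧸ Subgroup.center (L.map Φ.toMonoidHom) ≃*
          Cfsg.PSU 4 F9 3) := fun L hm => by
      obtain ⟨h3, ⟨f⟩⟩ := (hL L hm).congr Φ
      exact ⟨h3, ⟨f.trans e9.symm⟩⟩
    simp only [List.mem_cons, List.not_mem_nil, or_false] at hK
    rcases hK with rfl | rfl | rfl
    exacts [key L1 (by simp), key L2 (by simp), key L3 (by simp)]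
  · obtain ⟨f⟩ := hq
    have hc : SU6U43.TripleCover K := ⟨h3, ⟨f.trans e9⟩⟩
    obtain ⟨g, hg⟩ := hall _ (hc.congr Φ.symm)
    refine ⟨Φ g, ?_⟩
    have e : (K.map (MulAut.conj (Φ g)).toMonoidHom) =
        ((K.map Φ.symm.toMonoidHom).map (MulAut.conj g).toMonoidHom).map Φ.toMonoidHom := by
      rw [hcomm, hback]
    rw [e]
    rcases hg with hg | hg | hg <;> rw [hg]
    exacts [Or.inl rfl, Or.inr (Or.inl rfl), Or.inr (Or.inr rfl)]

end Cfsg.Agent.S5520
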