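import Cfsg.Statements.S5521
import Cfsg.Agent.Lib.Golay.M24

set_option autoImplicit false
open Cfsg

namespace Cfsg.Agent.S5521

open Cfsg.Agent.Lib
open scoped Pointwise

/-- The five points fixed by a subgroup of order 48. -/
def five : Finset GolayPt := ([3, 2, 1, 0, 23] : List ℕ).toFinset.image Golay.ptN

theorem card_five : five.card = 5 := by decide +kernel

/-- The seven base points. -/
def seven : Finset GolayPt := Golay.base24.toFinset.image Golay.ptN

theorem card_seven : seven.card = 7 := by decide +kernel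

theorem exists_fix {B : Finset GolayPt} (hB : B.card ≤ 6) :
    ∃ g ∈ M24, g ≠ 1 ∧ ∀ b ∈ B, g b = b := by
  obtain ⟨s, hs, hsc⟩ : ∃ s : Finset GolayPt, s.card = 5 ∧ (B \ s).card ≤ 1 := by
    rcases le_or_gt 5 B.card with h | h
    · obtain ⟨s, hsB, hs⟩ := Finset.exists_subset_card_eq h
      exact ⟨s, hs, by rw [Finset.card_sdiff_of_subset hsB]; omega⟩
    · obtain ⟨s, hBs, -, hs⟩ := Finset.exists_subsuperset_card_eq (Finset.subset_univ B)
        (show B.card ≤ 5 by omega) (by rw [Finset.card_univ, Golay.card_golayPt]; norm_num)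
      exact ⟨s, hs, by rw [Finset.sdiff_eq_empty_iff_subset.2 hBs]; simp⟩
  obtain ⟨a, ha, e⟩ := Golay.exists_map_five hs card_five
  obtain ⟨p, hp⟩ : ∃ p, B \ s ⊆ {p} := by
    rcases Finset.card_le_one_iff_subset_singleton.1 hsc with ⟨p, hp⟩
    exact ⟨p, hp⟩
  let K := M24 ⊓ Golay.fixNums [3, 2, 1, 0, 23]
  haveI := Fintype.ofFinite ↥K
  have hK : Fintype.card GolayPt < Fintype.card ↥K := by
    rw [Golay.card_golayPt, ← Nat.card_eq_fintype_card, Golay.card_fix5]; norm_num
  obtain ⟨h1, h2, hne, heq⟩ :=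
    Fintype.exists_ne_map_eq_of_card_lt (fun h : ↥K => (h : Equiv.Perm GolayPt) (a p)) hK
  have hk : ((h1 : Equiv.Perm GolayPt)⁻¹ * h2) ∈ K := mul_mem (inv_mem h1.2) h2.2
  refine ⟨a⁻¹ * ((h1 : Equiv.Perm GolayPt)⁻¹ * h2) * a,
    mul_mem (mul_mem (inv_mem ha) (Subgroup.mem_inf.1 hk).1) ha, fun e1 => hne ?_, fun b hb => ?_⟩
  · have : ((h1 : Equiv.Perm GolayPt)⁻¹ * h2) = 1 := by
      have := congrArg (fun x => a * x * a⁻¹) e1
      simpa [mul_assoc] using this
    exact Subtype.ext (inv_mul_eq_one.1 this)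
  · have hfix : ((h1 : Equiv.Perm GolayPt)⁻¹ * h2) (a b) = a b := by
      by_cases hbs : b ∈ s
      · have : a b ∈ five := e ▸ Finset.smul_mem_smul_finset hbs
        obtain ⟨i, hi, e'⟩ := Finset.mem_image.1 this
        rw [← e']
        exact Golay.mem_fixNums.1 (Subgroup.mem_inf.1 hk).2 i (List.mem_toFinset.1 hi)
      · obtain rfl := Finset.mem_singleton.1 (hp (Finset.mem_sdiff.2 ⟨hb, hbs⟩))
        show (h1 : Equiv.Perm GolayPt)⁻¹ ((h2 : Equiv.Perm GolayPt) (a b)) = a b
        rw [show (h2 : Equiv.Perm GolayPt) (a b) = (h1 : Equiv.Perm GolayPt) (a b) from heq.symm]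
        exact (h1 : Equiv.Perm GolayPt).symm_apply_apply _
    rw [Equiv.Perm.mul_apply, Equiv.Perm.mul_apply, hfix]
    exact a.symm_apply_apply b


/-- The Mathieu group M₂₄ in its natural action on the 24 coordinate positions of the binary Golay code has minimal base size exactly 7: every set of at most 6 positions is fixed pointwise by some non-identity element of M₂₄, while some set of 7 positions is fixed pointwise only by the identity. -/
theorem result :
    (∀ B : Finset Cfsg.GolayPt, B.card ≤ 6 → ∃ g ∈ Cfsg.M24, g ≠ 1 ∧ ∀ b ∈ B, g b = b) ∧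
    (∃ B : Finset Cfsg.GolayPt, B.card = 7 ∧ ∀ g ∈ Cfsg.M24, (∀ b ∈ B, g b = b) → g = 1) := by
  refine ⟨fun B hB => exists_fix hB, seven, card_seven, fun g hg hf => ?_⟩
  have : g ∈ M24 ⊓ Golay.fixNums Golay.base24 := Subgroup.mem_inf.2 ⟨hg,
    Golay.mem_fixNums.2 fun i hi => hf _ (Finset.mem_image.2 ⟨i, List.mem_toFinset.2 hi, rfl⟩)⟩
  rwa [Golay.bot24, Subgroup.mem_bot] at this

end Cfsg.Agent.S5521
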