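import Cfsg.Statements.S5522
import Cfsg.Agent.Lib.Golay.Transitive

set_option autoImplicit false
open Cfsg

namespace Cfsg.Agent.S5522

open Cfsg.Agent.Lib
open scoped Pointwise

/-- An image list packed in five bits per point. -/
def packL (l : List ℕ) : ℕ :=
  (List.range 24).foldr (fun i acc => (Golay.applyNum l i <<< (5 * i)) ||| acc) 0

/-- Lookup in a packed list. -/
def look (c i : ℕ) : ℕ := (c >>> (5 * i)) % 32

/-- The image of a point number under a product given by packed factors. -/
def evalSeq : List ℕ → ℕ → ℕ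
  | [], i => i
  | c :: r, i => look c (evalSeq r i)

/-- All choices of one packed factor per level. -/
def seqs : List (List ℕ) → List (List ℕ)
  | [] => [[]]
  | T :: r => T.flatMap fun t => (seqs r).map (t :: ·)

/-- The packed transversals of the stabiliser of the first base point. -/
def packed : List (List ℕ) :=
  [Golay.Data.dlevel2, Golay.Data.dlevel3, Golay.Data.dlevel4, Golay.Data.dlevel5,
    Golay.Data.dlevel6].map fun l => l.2.2.map packL

/-- A power of the product fixes a point number. -/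
def powFix (s : List ℕ) (p i : ℕ) : Bool := (evalSeq s)^[p] i == i

/-- A fixed point outside the dodecad, or no power of prime exponent is trivial. -/
def elusiveChk (s : List ℕ) : Bool :=
  ([4, 6, 8, 9, 10, 11, 13, 14, 16, 17, 21, 22].any fun i => evalSeq s i == i) ||
    [2, 3, 5, 11].all fun p => (List.range 24).any fun i => !powFix s p i

theorem elusive_ok : (seqs packed).all elusiveChk = true := by decide +kernel

theorem pack_ok : ([Golay.Data.dlevel2, Golay.Data.dlevel3, Golay.Data.dlevel4, Golay.Data.dlevel5,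
    Golay.Data.dlevel6].all fun l => l.2.2.all fun t => Golay.validList t &&
      (List.range 24).all fun i => look (packL t) i == Golay.applyNum t i) = true := by
  decide +kernel

theorem exists_seq : ∀ {L : List Golay.Lev} {H : Subgroup (Equiv.Perm GolayPt)},
    Golay.IsChain H (L.map Golay.levPerm) →
    (L.all fun l => l.2.2.all fun t => Golay.validList t &&
      (List.range 24).all fun i => look (packL t) i == Golay.applyNum t i) = true →
    ∀ h ∈ H, ∃ s ∈ seqs (L.map fun l => l.2.2.map packL),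
      ∀ p, (Golay.idx (h p)).val = evalSeq s (Golay.idx p).val
  | [], H, hc, _, h, hh => by
    rw [show H = ⊥ from hc, Subgroup.mem_bot] at hh
    subst hh
    exact ⟨[], by simp [seqs], fun p => rfl⟩
  | l :: r, H, ⟨hT, hnd, hcov, hr⟩, hok, h, hh => by
    rw [List.all_cons, Bool.and_eq_true] at hok
    obtain ⟨t', ht', hte⟩ := List.mem_map.mp (hcov h hh)
    obtain ⟨t, ht, rfl⟩ := List.mem_map.mp ht'
    have hk : (Golay.toPerm t)⁻¹ * h ∈
        H ⊓ MulAction.stabilizer (Equiv.Perm GolayPt) (Golay.levPerm l).1 := by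
      refine Subgroup.mem_inf.mpr ⟨mul_mem (inv_mem (hT _ ht')) hh, ?_⟩
      show (Golay.toPerm t)⁻¹ (h (Golay.ptN l.1)) = Golay.ptN l.1
      rw [← hte]; simp
    obtain ⟨s, hs, he⟩ := exists_seq hr hok.2 _ hk
    refine ⟨packL t :: s, List.mem_flatMap.mpr ⟨_, List.mem_map.mpr ⟨t, ht, rfl⟩,
      List.mem_map.mpr ⟨s, hs, rfl⟩⟩, fun p => ?_⟩
    have hv := List.all_eq_true.mp hok.1 t ht
    rw [Bool.and_eq_true] at hv
    show _ = look (packL t) (evalSeq s _)
    rw [← he p, beq_iff_eq.mp
      (List.all_eq_true.mp hv.2 _ (List.mem_range.mpr (Golay.idx _).isLt)),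
      ← Golay.idx_toPerm hv.1, ← Equiv.Perm.mul_apply, mul_inv_cancel_left]

theorem squareDodecad_mem : Spor.squareDodecad ∈ dodecads :=
  Golay.mem_dodecads_iff.mpr ⟨(Golay.mem_supports_iff).mp
    ⟨qrWord 0, Submodule.subset_span (Or.inl ⟨0, rfl⟩), rfl⟩, by decide +kernel⟩

theorem elusive_of_stab {h : Equiv.Perm GolayPt}
    (hh : h ∈ Golay.dodecadGroup ⊓ Golay.fixNums [23])
    (hord : (orderOf h).Prime) (hp : orderOf h ∈ [2, 3, 5, 11]) :
    ∃ x, x ∉ Golay.ptsOf Golay.Data.dodecad0 ∧ h x = x := by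
  have hc : Golay.IsChain (Golay.dodecadGroup ⊓ Golay.fixNums [23])
      ([Golay.Data.dlevel2, Golay.Data.dlevel3, Golay.Data.dlevel4, Golay.Data.dlevel5,
        Golay.Data.dlevel6].map Golay.levPerm) := by
    have h := Golay.IsChain.tail Golay.chain12
    show Golay.IsChain (Golay.dodecadGroup ⊓
      (Golay.fixNums [] ⊓ MulAction.stabilizer _ (Golay.ptN 23))) _
    rw [← inf_assoc, Golay.inf_fixNums_nil]; exact h
  obtain ⟨s, hs, he⟩ := exists_seq hc pack_ok h hh
  have hi : ∀ i < 24, ∀ n, (Golay.idx ((h ^ n) (Golay.ptN i))).val = (evalSeq s)^[n] i := by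
    intro i hi n
    induction n with
    | zero => simpa using Golay.idx_ptN hi
    | succ n ih =>
      rw [pow_succ', Equiv.Perm.mul_apply, he, ih, Function.iterate_succ_apply']
  have := List.all_eq_true.mp elusive_ok s hs
  simp only [elusiveChk, Bool.or_eq_true] at this
  rcases this with hfix | hno
  · obtain ⟨i, hi', hb⟩ := List.any_eq_true.mp hfix
    have h24 : i < 24 ∧ (10260655 : ℕ).testBit i = false := by
      have : ∀ i ∈ [4, 6, 8, 9, 10, 11, 13, 14, 16, 17, 21, 22],
          i < 24 ∧ (10260655 : ℕ).testBit i = false := by decide +kernel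
      exact this i hi'
    refine ⟨Golay.ptN i, ?_, Golay.ptEquiv.injective (Fin.ext ?_)⟩
    · rw [Golay.mem_ptsOf, Golay.idx_ptN h24.1]
      show ¬ (10260655 : ℕ).testBit i = true
      simp [h24.2]
    · show (Golay.idx _).val = (Golay.idx _).val
      rw [he, Golay.idx_ptN h24.1]
      exact beq_iff_eq.mp hb
  · exfalso
    obtain ⟨i, hi', hb⟩ := List.any_eq_true.mp (List.all_eq_true.mp hno _ hp)
    have := hi i (List.mem_range.mp hi') (orderOf h)
    rw [pow_orderOf_eq_one, Equiv.Perm.one_apply, Golay.idx_ptN (List.mem_range.mp hi')] at this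
    rw [powFix, ← this] at hb
    simp at hb


/-- The Mathieu group M₁₁, realised as the stabiliser of one point of the dodecad of squares inside the stabiliser M₁₂ of that dodecad in M₂₄, acts on the twelve coordinate positions outside the dodecad of squares (its 3-transitive action of degree 12); in this action every element of prime order fixes a point, i.e. the action is elusive. -/
theorem result (g : Equiv.Perm Cfsg.GolayPt) (hg : g ∈ Cfsg.Spor.M11) (hord : (orderOf g).Prime) :
    ∃ x : Cfsg.GolayPt, x ∉ Cfsg.Spor.squareDodecad ∧ g x = x := by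
  obtain ⟨h1, h2⟩ := Subgroup.mem_inf.mp hg
  obtain ⟨h3, h4⟩ := Subgroup.mem_inf.mp h1
  obtain ⟨a, ha, hae⟩ := Golay.dodecads_transitive squareDodecad_mem Golay.dodecad0_mem
  have hq : a (some 0) ∈ Golay.ptsOf Golay.Data.dodecad0 :=
    hae ▸ Finset.smul_mem_smul_finset (by decide +kernel)
  -- the first level of the chain moves the fixed point to the base point
  obtain ⟨b, hb, hbe⟩ : ∃ b ∈ Golay.dodecadGroup, b (Golay.ptN 23) = a (some 0) := by
    have key : ∀ i < 24, (10260655 : ℕ).testBit i = true →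
        i ∈ Golay.Data.dlevel1.2.2.map fun t => Golay.applyNum t 23 := by decide +kernel
    obtain ⟨t, ht, e⟩ := List.mem_map.mp
      (key _ (Golay.idx (a (some 0))).isLt (Golay.mem_ptsOf.mp hq))
    have hv : Golay.Data.dlevel1.2.2.all Golay.inDodecad = true := by decide +kernel
    have hv' := List.all_eq_true.mp hv t ht
    refine ⟨Golay.toPerm t, Golay.toPerm_mem_dodecadGroup hv', Golay.ptEquiv.injective (Fin.ext ?_)⟩
    show (Golay.idx _).val = (Golay.idx _).val
    rw [Golay.idx_toPerm (Golay.inM24.valid (by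
      simp only [Golay.inDodecad, Bool.and_eq_true] at hv'; exact hv'.1)),
      Golay.idx_ptN (by norm_num)]
    exact e
  obtain ⟨hb1, hb2⟩ := Subgroup.mem_inf.mp hb
  rw [MulAction.mem_stabilizer_iff] at h2 h4 hb2
  let c := b⁻¹ * a
  have hc : c ∈ M24 := mul_mem (inv_mem hb1) ha
  have hcd : c • Spor.squareDodecad = Golay.ptsOf Golay.Data.dodecad0 := by
    rw [mul_smul, hae, inv_smul_eq_iff, hb2]
  have hc0 : c (some 0) = Golay.ptN 23 := by
    show b.symm (a (some 0)) = _
    rw [← hbe, Equiv.symm_apply_apply]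
  let h := c * g * c⁻¹
  have hh : h ∈ Golay.dodecadGroup ⊓ Golay.fixNums [23] := by
    refine Subgroup.mem_inf.mpr ⟨Subgroup.mem_inf.mpr
      ⟨mul_mem (mul_mem hc h3) (inv_mem hc), ?_⟩, Golay.mem_fixNums.mpr ?_⟩
    · rw [MulAction.mem_stabilizer_iff, ← hcd, smul_smul, mul_assoc, inv_mul_cancel, mul_one,
        mul_smul, h4]
    · intro i hi
      obtain rfl := List.mem_singleton.mp hi
      show c (g (c.symm (Golay.ptN 23))) = _
      rw [← hc0, Equiv.symm_apply_apply]
      exact congrArg c h2
  have hoh : orderOf h = orderOf g := by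
    rw [show h = MulAut.conj c g from rfl, MulEquiv.orderOf_eq]
  have hdvd : orderOf h ∣ 95040 := by
    rw [← Golay.card_dodecadGroup, ← Subgroup.orderOf_mk h (Subgroup.mem_inf.mp hh).1]
    exact orderOf_dvd_natCard _
  have hp : orderOf h ∈ [2, 3, 5, 11] := by
    have hpr : (orderOf h).Prime := hoh ▸ hord
    have key : ∀ p : ℕ, p.Prime → p ∣ 2 ^ 6 * 3 ^ 3 * 5 * 11 → p ∈ [2, 3, 5, 11] := by
      intro p pp hd
      rcases (Nat.Prime.dvd_mul pp).mp hd with hd | hd
      · rcases (Nat.Prime.dvd_mul pp).mp hd with hd | hd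
        · rcases (Nat.Prime.dvd_mul pp).mp hd with hd | hd
          · simp [(Nat.prime_dvd_prime_iff_eq pp Nat.prime_two).mp (pp.dvd_of_dvd_pow hd)]
          · simp [(Nat.prime_dvd_prime_iff_eq pp Nat.prime_three).mp (pp.dvd_of_dvd_pow hd)]
        · simp [(Nat.prime_dvd_prime_iff_eq pp (by norm_num)).mp hd]
      · simp [(Nat.prime_dvd_prime_iff_eq pp (by norm_num)).mp hd]
    exact key _ hpr (by norm_num; exact hdvd)
  obtain ⟨x, hx, hfx⟩ := elusive_of_stab hh (hoh ▸ hord) hp
  refine ⟨c⁻¹ x, fun hm => hx ?_, ?_⟩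
  · rw [← hcd]
    have := Finset.smul_mem_smul_finset (a := c) hm
    rwa [Equiv.Perm.smul_def, ← Equiv.Perm.mul_apply, mul_inv_cancel, Equiv.Perm.one_apply] at this
  · have : c (g (c⁻¹ x)) = x := hfx
    exact c.injective (this.trans (c.apply_symm_apply x).symm)

end Cfsg.Agent.S5522
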