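import Cfsg.Statements.S5541
import Mathlib

set_option autoImplicit false
open Cfsg

namespace Cfsg.Agent.S5541

/-- the trilinear form attached to a product -/
noncomputable def triOf {U : Type*} [AddCommGroup U] [Module ℝ U] (B : LinearMap.BilinForm ℝ U)
    (m : U →ₗ[ℝ] U →ₗ[ℝ] U) : U →ₗ[ℝ] U →ₗ[ℝ] U →ₗ[ℝ] ℝ := m.compr₂ B


/-- Let ρ be a representation of a group H on a finite-dimensional real vector space U whose only ρ-invariant subspaces are the zero subspace and U, and suppose U carries a non-zero ρ-invariant symmetric bilinear form. Then the following are equivalent: (1) there is a non-zero ρ-equivariant commutative bilinear product on U of which every ρ-equivariant bilinear product is a scalar multiple; (2) there is a non-zero ρ-invariant trilinear form on U that is symmetric under all permutations of its arguments and of which every ρ-invariant trilinear form is a scalar multiple. -/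
theorem result {H : Type*} [Group H] {U : Type*} [AddCommGroup U] [Module ℝ U] [FiniteDimensional ℝ U] (ρ : Representation ℝ H U) (hirr : ∀ W : Submodule ℝ U, (∀ g : H, W.map (ρ g) ≤ W) → W = ⊥ ∨ W = ⊤) (B : LinearMap.BilinForm ℝ U) (hB0 : B ≠ 0) (hBs : ∀ u v, B u v = B v u) (hBi : ∀ (g : H) (u v : U), B (ρ g u) (ρ g v) = B u v) : (∃ m : U →ₗ[ℝ] U →ₗ[ℝ] U, m ≠ 0 ∧ (∀ u v, m u v = m v u) ∧ (∀ (g : H) (u v : U), m (ρ g u) (ρ g v) = ρ g (m u v)) ∧ ∀ m' : U →ₗ[ℝ] U →ₗ[ℝ] U, (∀ (g : H) (u v : U), m' (ρ g u) (ρ g v) = ρ g (m' u v)) → ∃ c : ℝ, m' = c • m) ↔ (∃ t : U →ₗ[ℝ] U →ₗ[ℝ] U →ₗ[ℝ] ℝ, t ≠ 0 ∧ (∀ u v w, t u v w = t v u w ∧ t u v w = t u w v) ∧ (∀ (g : H) (u v w : U), t (ρ g u) (ρ g v) (ρ g w) = t u v w) ∧ ∀ t' : U →ₗ[ℝ] U →ₗ[ℝ] U →ₗ[ℝ] ℝ, (∀ (g : H) (u v w : U), t' (ρ g u) (ρ g v) (ρ g w) = t' u v w) → ∃ c : ℝ, t' = c • t) := by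
  have hsurj : ∀ (g : H) (u : U), ρ g (ρ g⁻¹ u) = u := fun g u => by
    rw [← Module.End.mul_apply, ← map_mul, mul_inv_cancel, map_one]; rfl
  -- B is non-degenerate
  have hker : LinearMap.ker B = ⊥ := by
    rcases hirr (LinearMap.ker B) (by
      intro g
      rintro _ ⟨u, hu, rfl⟩
      rw [LinearMap.mem_ker]
      ext v
      rw [← hsurj g v, hBi, LinearMap.mem_ker.1 hu]
      rfl) with h | h
    · exact h
    · exact absurd (LinearMap.ker_eq_top.1 h) hB0
  have hinj : Function.Injective B := LinearMap.ker_eq_bot.1 hker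
  let e : U ≃ₗ[ℝ] Module.Dual ℝ U :=
    LinearMap.linearEquivOfInjective B hinj (Subspace.dual_finrank_eq).symm
  have he : ∀ u, e u = B u := fun u => rfl
  let mOf : (U →ₗ[ℝ] U →ₗ[ℝ] U →ₗ[ℝ] ℝ) → (U →ₗ[ℝ] U →ₗ[ℝ] U) := fun t =>
    t.compr₂ (e.symm : Module.Dual ℝ U →ₗ[ℝ] U)
  have hmOf : ∀ (t : U →ₗ[ℝ] U →ₗ[ℝ] U →ₗ[ℝ] ℝ) (u v : U), B (mOf t u v) = t u v := fun t u v => by
    rw [← he]; exact e.apply_symm_apply _
  -- invariance of forms = equivariance of products
  have heq1 : ∀ t : U →ₗ[ℝ] U →ₗ[ℝ] U →ₗ[ℝ] ℝ,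
      (∀ (g : H) (u v w : U), t (ρ g u) (ρ g v) (ρ g w) = t u v w) →
      ∀ (g : H) (u v : U), mOf t (ρ g u) (ρ g v) = ρ g (mOf t u v) := by
    intro t ht g u v
    apply hinj
    ext w
    rw [hmOf, ← hsurj g w, ht, hBi, hmOf]
  have heq2 : ∀ m : U →ₗ[ℝ] U →ₗ[ℝ] U,
      (∀ (g : H) (u v : U), m (ρ g u) (ρ g v) = ρ g (m u v)) →
      ∀ (g : H) (u v w : U), triOf B m (ρ g u) (ρ g v) (ρ g w) = triOf B m u v w := by
    intro m hm g u v w
    simp only [triOf, LinearMap.compr₂_apply]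
    rw [hm, hBi]
  constructor
  · rintro ⟨m, hm0, hms, hme, hmu⟩
    have huniq : ∀ t' : U →ₗ[ℝ] U →ₗ[ℝ] U →ₗ[ℝ] ℝ,
        (∀ (g : H) (u v w : U), t' (ρ g u) (ρ g v) (ρ g w) = t' u v w) → ∃ c : ℝ, t' = c • triOf B m := by
      intro t' ht'
      obtain ⟨c, hc⟩ := hmu (mOf t') (heq1 t' ht')
      refine ⟨c, LinearMap.ext₂ fun u v => ?_⟩
      rw [← hmOf t' u v, hc]
      ext w
      simp [triOf]
    have hne : triOf B m ≠ 0 := by
      intro h0
      apply hm0
      refine LinearMap.ext₂ fun u v => hinj ?_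
      have := LinearMap.congr_fun₂ h0 u v
      simpa [triOf] using this
    set t := triOf B m with ht
    have h12 : ∀ u v w, t u v w = t v u w := fun u v w => by
      simp only [ht, triOf, LinearMap.compr₂_apply]; rw [hms]
    have hinv := heq2 m hme
    rw [← ht] at hinv
    obtain ⟨c, hc⟩ := huniq (LinearMap.lflip.toLinearMap.comp t) (fun g u v w => hinv g u w v)
    have hc' : ∀ u v w, t u w v = c * t u v w := fun u v w => by
      have := congrArg (fun f : U →ₗ[ℝ] U →ₗ[ℝ] U →ₗ[ℝ] ℝ => f u v w) hc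
      simpa using this
    have hc1 : c = 1 := by
      by_contra hcn
      apply hne
      ext u v w
      change t u v w = 0
      have e1 := hc' u w v
      have e2 := h12 u w v
      have e3 := hc' w v u
      have e4 := h12 w v u
      have e5 := hc' v u w
      have e6 := h12 u v w
      have e7 := hc' u v w
      have e8 := hc' w u v
      have e9 := hc' v w u
      have e10 := h12 u w v
      have : (c - 1) * t u v w = 0 := by grind
      rcases mul_eq_zero.1 this with h | h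
      · exact absurd (sub_eq_zero.1 h) hcn
      · exact h
    refine ⟨t, hne, fun u v w => ⟨h12 u v w, ?_⟩, hinv, huniq⟩
    rw [hc' u v w, hc1, one_mul]
  · rintro ⟨t, ht0, hts, hti, htu⟩
    refine ⟨mOf t, ?_, fun u v => hinj ?_, heq1 t hti, ?_⟩
    · intro h0
      apply ht0
      refine LinearMap.ext₂ fun u v => ?_
      rw [← hmOf t u v, h0]; simp
    · ext w
      rw [hmOf, hmOf, (hts u v w).1]
    · intro m' hm'
      obtain ⟨c, hc⟩ := htu (triOf B m') (heq2 m' hm')
      refine ⟨c, LinearMap.ext₂ fun u v => hinj ?_⟩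
      have := LinearMap.congr_fun₂ hc u v
      simp only [triOf, LinearMap.compr₂_apply] at this
      rw [this]
      simp [hmOf]

end Cfsg.Agent.S5541
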