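import Cfsg.Statements.S5543
import Mathlib

set_option autoImplicit false
open Cfsg

namespace Cfsg.Agent.S5543

/-- In a 2A-closed family of axes any two have inner product 1/8, and no three are independent. -/
theorem no_seven {V : Type*} [AddCommGroup V] [Module ℝ V] {a : V} (mul : V →ₗ[ℝ] V →ₗ[ℝ] V)
    (B : LinearMap.BilinForm ℝ V) (hV : Cfsg.Axial.IsMajoranaAmbient mul B)
    (law : Cfsg.Axial.IsPrimitiveAxis mul (Cfsg.Axial.monsterLaw (1 / 4 : ℝ) (1 / 32)) Cfsg.Axial.majoranaSpectrum a)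
    {b b' c c' d d' : V}
    (hab : mul a b = (1 / 8 : ℝ) • (a + b - b')) (hab' : mul a b' = (1 / 8 : ℝ) • (a + b' - b))
    (hac : mul a c = (1 / 8 : ℝ) • (a + c - c')) (hac' : mul a c' = (1 / 8 : ℝ) • (a + c' - c))
    (had : mul a d = (1 / 8 : ℝ) • (a + d - d')) (had' : mul a d' = (1 / 8 : ℝ) • (a + d' - d))
    (hbc : mul b c = (1 / 8 : ℝ) • (b + c - d)) (hbc' : mul b c' = (1 / 8 : ℝ) • (b + c' - d'))
    (hb'c : mul b' c = (1 / 8 : ℝ) • (b' + c - d')) (hb'c' : mul b' c' = (1 / 8 : ℝ) • (b' + c' - d)) :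
    d = d' := by
  obtain ⟨⟨-, -, -, hfus⟩, -⟩ := law
  have hu : ∀ {e e' : V}, mul a e = (1 / 8 : ℝ) • (a + e - e') → mul a e' = (1 / 8 : ℝ) • (a + e' - e) →
      e - e' ∈ Cfsg.Axial.eigen mul a (1 / 4) := by
    intro e e' h1 h2
    rw [Cfsg.Axial.eigen, Module.End.mem_eigenspace_iff, map_sub, h1, h2]
    module
  have hprod := hfus (1 / 4) (by simp [Cfsg.Axial.majoranaSpectrum]) (1 / 4)
    (by simp [Cfsg.Axial.majoranaSpectrum]) _ (hu hab hab') _ (hu hac hac')
  have hlaw : Cfsg.Axial.monsterLaw (1 / 4 : ℝ) (1 / 32) (1 / 4) (1 / 4) = {1, 0} := by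
    unfold Cfsg.Axial.monsterLaw
    rw [if_neg (by norm_num), if_neg (by norm_num), if_pos ⟨rfl, rfl⟩]
  rw [hlaw, Cfsg.Axial.eigenSum, iSup_insert, iSup_singleton] at hprod
  have hval : mul (b - b') (c - c') = (1 / 4 : ℝ) • (d' - d) := by
    simp only [map_sub, LinearMap.sub_apply, hbc, hbc', hb'c, hb'c']
    module
  have hq : mul (b - b') (c - c') ∈ Cfsg.Axial.eigen mul a (1 / 4) := by
    rw [hval]; exact Submodule.smul_mem _ _ (hu had' had)
  have hdis : mul (b - b') (c - c') = 0 := by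
    obtain ⟨p, hp, q, hq', hpq⟩ := Submodule.mem_sup.1 hprod
    rw [Cfsg.Axial.eigen, Module.End.mem_eigenspace_iff] at hp hq' hq
    generalize mul (b - b') (c - c') = s at hpq hq ⊢
    rw [← hpq, map_add, hp, hq', zero_smul, one_smul, add_zero] at hq
    -- p = (1/4) (p + q)
    have h2 : mul a p = mul a ((1 / 4 : ℝ) • (p + q)) := congrArg (mul a) hq
    rw [map_smul, map_add, hp, hq', one_smul, zero_smul, add_zero] at h2
    have hp0 : p = 0 := by
      have : (3 / 4 : ℝ) • p = 0 := by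
        calc (3 / 4 : ℝ) • p = p - (1 / 4 : ℝ) • p := by module
          _ = 0 := sub_eq_zero.2 h2
      simpa using this
    rw [hp0, zero_add] at hq
    have hq0 : q = 0 := by
      simpa using hq.symm
    rw [← hpq, hp0, hq0, add_zero]
  rw [hdis] at hval
  have := (smul_eq_zero.1 hval.symm).resolve_left (by norm_num)
  exact (sub_eq_zero.1 this).symm


/-- Let V be a finite-dimensional real vector space with a commutative bilinear product and a positive-definite symmetric bilinear form that associates with the product and satisfies the Norton inequality (the Majorana setting of the definitions). Let X be a group of linear automorphisms of V in which every element squares to the identity, and suppose every non-identity element x of X is a Majorana involution with an axial vector a(x) of squared length 1, such that for any two distinct non-identity x, y the product a(x) ∘ a(y) equals (1/8)(a(x) + a(y) − a(xy)) (the dihedral subalgebra of type 2A whose third axis belongs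 to the involution xy). Then X has order at most 4. -/
theorem result {V : Type*} [AddCommGroup V] [Module ℝ V] [FiniteDimensional ℝ V] (mul : V →ₗ[ℝ] V →ₗ[ℝ] V) (B : LinearMap.BilinForm ℝ V) (hV : Cfsg.Axial.IsMajoranaAmbient mul B) (X : Subgroup (V ≃ₗ[ℝ] V)) (hX : ∀ x ∈ X, x * x = 1) (ax : (V ≃ₗ[ℝ] V) → V) (hax : ∀ x ∈ X, x ≠ 1 → Cfsg.Axial.IsMajoranaPair mul B x (ax x)) (h1 : ∀ x ∈ X, x ≠ 1 → B (ax x) (ax x) = 1) (h2A : ∀ x ∈ X, ∀ y ∈ X, x ≠ 1 → y ≠ 1 → x ≠ y → mul (ax x) (ax y) = (1 / 8 : ℝ) • (ax x + ax y - ax (x * y))) : Nat.card ↥X ≤ 4 := by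
  classical
  by_contra hcard
  push_neg at hcard
  haveI : Finite X := Nat.finite_of_card_ne_zero (by omega)
  have hcomm : ∀ x ∈ X, ∀ y ∈ X, x * y = y * x := by
    intro x hx y hy
    have e : (x * y)⁻¹ = x * y := inv_eq_of_mul_eq_one_right (hX _ (mul_mem hx hy))
    rw [mul_inv_rev, inv_eq_of_mul_eq_one_right (hX x hx), inv_eq_of_mul_eq_one_right (hX y hy)] at e
    exact e.symm
  obtain ⟨⟨x, hx⟩, hx1⟩ : ∃ x : X, x ≠ 1 := by
    by_contra h; push_neg at h
    have : Subsingleton X := ⟨fun p q => (h p).trans (h q).symm⟩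
    have := Finite.card_le_one_iff_subsingleton.2 this
    omega
  obtain ⟨⟨y, hy⟩, hy1⟩ : ∃ y : X, y ∉ ({1, ⟨x, hx⟩} : Finset X) := by
    by_contra h; push_neg at h
    haveI := Fintype.ofFinite X
    have : (Finset.univ : Finset X).card ≤ 2 :=
      (Finset.card_le_card fun q _ => h q).trans Finset.card_le_two
    rw [Finset.card_univ, ← Nat.card_eq_fintype_card] at this
    omega
  obtain ⟨⟨z, hz⟩, hz1⟩ : ∃ z : X, z ∉ ({1, ⟨x, hx⟩, ⟨y, hy⟩, ⟨x * y, mul_mem hx hy⟩} : Finset X) := by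
    by_contra h; push_neg at h
    haveI := Fintype.ofFinite X
    have : (Finset.univ : Finset X).card ≤ 4 :=
      (Finset.card_le_card fun q _ => h q).trans Finset.card_le_four
    rw [Finset.card_univ, ← Nat.card_eq_fintype_card] at this
    omega
  simp only [Finset.mem_insert, Finset.mem_singleton, not_or, ne_eq, Subtype.ext_iff, OneMemClass.coe_one] at hx1 hy1 hz1
  obtain ⟨hy1, hyx⟩ := hy1
  obtain ⟨hz1, hzx, hzy, hzxy⟩ := hz1
  have hxx := hX x hx
  have hyy := hX y hy
  have hzz := hX z hz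
  have cxy := hcomm x hx y hy
  have cxz := hcomm x hx z hz
  have cyz := hcomm y hy z hz
  have xm := mul_mem hx hy
  have xzm := mul_mem hx hz
  have yzm := mul_mem hy hz
  have xyzm := mul_mem hx yzm
  have key : ∀ {p q : V ≃ₗ[ℝ] V}, p * q = 1 → p * p = 1 → p = q := by
    intro p q h1 h2
    exact mul_left_cancel (h2.trans h1.symm)
  have n1 : x * y ≠ 1 := fun h => hyx (key h hxx).symm
  have n2 : x * z ≠ 1 := fun h => hzx (key h hxx).symm
  have n3 : y * z ≠ 1 := fun h => hzy (key h hyy).symm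
  have n4 : x * (y * z) ≠ 1 := fun h => hzxy (by
    have : x = y * z := key h hxx
    rw [this, mul_assoc, ← cyz, ← mul_assoc, hyy, one_mul])
  have e1 : x * (x * y) = y := by rw [← mul_assoc, hxx, one_mul]
  have e2 : x * (x * z) = z := by rw [← mul_assoc, hxx, one_mul]
  have e3 : x * (x * (y * z)) = y * z := by rw [← mul_assoc, hxx, one_mul]
  have e4 : y * (x * z) = x * (y * z) := by rw [← mul_assoc, ← cxy, mul_assoc]
  have e5 : x * y * z = x * (y * z) := mul_assoc _ _ _
  have e6 : x * y * (x * z) = y * z := by rw [mul_assoc, e4, e3]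
  have hd : ax (y * z) = ax (x * (y * z)) := by
    refine no_seven (a := ax x) mul B hV (hax x hx hx1).2.2.1 (b := ax y) (b' := ax (x * y))
      (c := ax z) (c' := ax (x * z)) ?_ ?_ ?_ ?_ ?_ ?_ ?_ ?_ ?_ ?_
    · exact h2A x hx y hy hx1 hy1 (Ne.symm hyx)
    · simpa [e1] using h2A x hx _ xm hx1 n1 (fun h => hy1 (by simpa using h))
    · exact h2A x hx z hz hx1 hz1 (Ne.symm hzx)
    · simpa [e2] using h2A x hx _ xzm hx1 n2 (fun h => hz1 (by simpa using h))
    · exact h2A x hx _ yzm hx1 n3 (fun h => n4 (by rw [← h, hxx]))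
    · simpa [e3] using h2A x hx _ xyzm hx1 n4 (fun h => n3 (by simpa using h))
    · exact h2A y hy z hz hy1 hz1 (Ne.symm hzy)
    · simpa [e4] using h2A y hy _ xzm hy1 n2 (fun h => n4 (by rw [← e4, ← h, hyy]))
    · simpa [e5] using h2A _ xm z hz n1 hz1 (Ne.symm hzxy)
    · simpa [e6] using h2A _ xm _ xzm n1 n2 (fun h => hzy (mul_left_cancel h).symm)
  have h := h2A x hx _ yzm hx1 n3 (fun h => n4 (by rw [← h, hxx]))
  have h' := h2A _ yzm _ xyzm n3 n4 (fun h => hx1 (by simpa using h))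
  set a := ax x with ha
  set d := ax (y * z) with hd0
  rw [← hd] at h
  simp only [add_sub_cancel_right] at h
  -- B a d = 1/8 but d = a_(xyz)
  rw [← hd] at h'
  have hdd := (hax _ yzm n3).2.2.1.1.2.1
  rw [hdd] at h'
  have e7 : y * z * (x * (y * z)) = x := by
    rw [hcomm _ yzm _ xyzm, mul_assoc, hX _ yzm, mul_one]
  rw [e7] at h'
  -- d = (1/8)(2 d - a), so a = -6 d
  have hrel : (6 : ℝ) • d + a = 0 := by
    have := sub_eq_zero.2 h'
    calc (6 : ℝ) • d + a = (8 : ℝ) • (d - (1 / 8 : ℝ) • (d + d - a)) := by module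
      _ = 0 := by rw [ha, this, smul_zero]
  have hda : mul a d = (1 / 8 : ℝ) • a := h
  have hBad : B a d = 1 / 8 := by
    have e := hV.2.2.2.1 a a d
    rw [hda, (hax x hx hx1).2.2.1.1.2.1, map_smul, smul_eq_mul, h1 x hx hx1, mul_one] at e
    exact e.symm
  have h0 := congrArg (B a) hrel
  rw [map_add, map_smul, map_zero, smul_eq_mul, hBad, h1 x hx hx1] at h0
  norm_num at h0

end Cfsg.Agent.S5543
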