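import Cfsg.Statements.S5544
import Mathlib
import Cfsg.Agent.Lib.Sakuma55.Final

set_option autoImplicit false
open Cfsg

namespace Cfsg.Agent.S5544
open Cfsg.Axial Cfsg.Agent.Lib.Sakuma55 in
/-- Transport of a Majorana pair by an automorphism. -/
theorem conj_pair {V : Type*} [AddCommGroup V] [Module ℝ V] {mul : V →ₗ[ℝ] V →ₗ[ℝ] V}
    {B : LinearMap.BilinForm ℝ V} (μ ν : V ≃ₗ[ℝ] V) (a : V) (hμ : IsMajoranaPair mul B μ a)
    (hm : ∀ u v, ν (mul u v) = mul (ν u) (ν v)) (hB : ∀ u v, B (ν u) (ν v) = B u v) :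
    IsMajoranaPair mul B (ν * μ * ν⁻¹) (ν a) := by
  obtain ⟨h1, h2, ⟨⟨hne, haa, htop, hfus⟩, hone⟩, hfx, hng⟩ := hμ
  have heig : ∀ c, eigen mul (ν a) c = (eigen mul a c).map (ν : V →ₗ[ℝ] V) := by
    intro c
    ext x
    constructor
    · intro hx
      refine ⟨ν.symm x, ?_, by simp⟩
      rw [SetLike.mem_coe, mem_eigen_iff']
      apply ν.injective
      rw [map_smul, hm, ν.apply_symm_apply]
      exact mem_eigen_iff'.1 hx
    · rintro ⟨y, hy, rfl⟩
      rw [SetLike.mem_coe, mem_eigen_iff'] at hy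
      rw [mem_eigen_iff']
      change mul (ν a) (ν y) = c • ν y
      rw [← hm, hy, map_smul]
  have hsum : ∀ T, eigenSum mul (ν a) T = (eigenSum mul a T).map (ν : V →ₗ[ℝ] V) := by
    intro T
    simp only [eigenSum, Submodule.map_iSup, heig]
  have hsymm_m : ∀ u v, ν.symm (mul u v) = mul (ν.symm u) (ν.symm v) := fun u v => by
    apply ν.injective
    rw [hm]; simp
  have hsymm_B : ∀ u v, B (ν.symm u) (ν.symm v) = B u v := fun u v => by
    conv_rhs => rw [← ν.apply_symm_apply u, ← ν.apply_symm_apply v, hB]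
  refine ⟨fun u v => ?_, fun u v => ?_, ⟨⟨fun h => hne (ν.injective (by rw [h, map_zero])),
    by rw [← hm, haa], ?_, ?_⟩, ?_⟩, ?_, ?_⟩
  · show ν (μ (ν.symm (mul u v))) = mul (ν (μ (ν.symm u))) (ν (μ (ν.symm v)))
    rw [hsymm_m, h1, hm]
  · show B (ν (μ (ν.symm u))) (ν (μ (ν.symm v))) = B u v
    rw [hB, h2, hsymm_B]
  · rw [hsum, htop, Submodule.map_top, LinearMap.range_eq_top.2 ν.surjective]
  · intro c hc d hd u hu v hv
    rw [heig] at hu hv
    obtain ⟨u', hu', rfl⟩ := hu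
    obtain ⟨v', hv', rfl⟩ := hv
    rw [hsum]
    exact ⟨_, hfus c hc d hd u' hu' v' hv', hm u' v'⟩
  · rw [heig, hone, Submodule.map_span, Set.image_singleton]; rfl
  · intro x hx
    rw [hsum] at hx
    obtain ⟨y, hy, rfl⟩ := hx
    change ν (μ (ν.symm (ν y))) = ν y
    rw [ν.symm_apply_apply]
    exact congrArg ν (hfx y hy)
  · intro x hx
    rw [heig] at hx
    obtain ⟨y, hy, rfl⟩ := hx
    change ν (μ (ν.symm (ν y))) = -(ν y)
    rw [ν.symm_apply_apply, ← map_neg]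
    exact congrArg ν (hng y hy)

open Cfsg.Axial Cfsg.Agent.Lib.Sakuma55 in
/-- Two Miyamoto maps of one axis agree. -/
theorem pair_unique {V : Type*} [AddCommGroup V] [Module ℝ V] {mul : V →ₗ[ℝ] V →ₗ[ℝ] V}
    {B : LinearMap.BilinForm ℝ V} {μ μ' : V ≃ₗ[ℝ] V} {a : V} (h : IsMajoranaPair mul B μ a)
    (h' : IsMajoranaPair mul B μ' a) : μ = μ' := by
  obtain ⟨-, -, ⟨⟨-, -, htop, -⟩, -⟩, hfx, hng⟩ := h
  obtain ⟨-, -, -, hfx', hng'⟩ := h'
  have hle : eigenSum mul a majoranaSpectrum ≤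
      LinearMap.eqLocus (μ : V →ₗ[ℝ] V) (μ' : V →ₗ[ℝ] V) := by
    rw [eigenSum]
    refine iSup₂_le fun c hc x hx => ?_
    show (μ : V →ₗ[ℝ] V) x = (μ' : V →ₗ[ℝ] V) x
    by_cases h32 : c = 1 / 32
    · subst h32; rw [hng x hx, hng' x hx]
    · have hc' : c ∈ ({1, 0, 1 / 4} : Set ℝ) := by
        simp only [majoranaSpectrum, Set.mem_insert_iff, Set.mem_singleton_iff] at hc ⊢
        rcases hc with h | h | h | h
        exacts [Or.inl h, Or.inr (Or.inl h), Or.inr (Or.inr h), absurd h h32]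
      have hx' : x ∈ eigenSum mul a {1, 0, 1 / 4} := le_iSup₂ (f := fun d _ => eigen mul a d) c hc' hx
      rw [hfx x hx', hfx' x hx']
  rw [htop] at hle
  exact LinearEquiv.ext fun x => hle (Submodule.mem_top : x ∈ ⊤)

open Cfsg.Axial Cfsg.Agent.Lib.Sakuma55 in
/-- A Miyamoto map is an involution fixing its axis. -/
theorem pair_invol {V : Type*} [AddCommGroup V] [Module ℝ V] {mul : V →ₗ[ℝ] V →ₗ[ℝ] V}
    {B : LinearMap.BilinForm ℝ V} {μ : V ≃ₗ[ℝ] V} {a : V} (h : IsMajoranaPair mul B μ a) :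
    μ a = a ∧ μ * μ = 1 := by
  obtain ⟨hm, hB, ⟨⟨hne, haa, htop, hfus⟩, hone⟩, hfx, hng⟩ := h
  have hmem : a ∈ eigenSum mul a ({1, 0, 1 / 4} : Set ℝ) :=
    le_iSup₂ (f := fun d _ => eigen mul a d) 1 (by simp) (mem_eigen_iff'.2 (by rw [one_smul, haa]))
  refine ⟨hfx a hmem, ?_⟩
  have hle : eigenSum mul a majoranaSpectrum ≤
      LinearMap.eqLocus (((μ * μ : V ≃ₗ[ℝ] V)) : V →ₗ[ℝ] V) LinearMap.id := by
    rw [eigenSum]
    refine iSup₂_le fun c hc x hx => ?_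
    show (μ : V →ₗ[ℝ] V) ((μ : V →ₗ[ℝ] V) x) = x
    by_cases h32 : c = 1 / 32
    · subst h32; rw [hng x hx, map_neg, hng x hx, neg_neg]
    · have hc' : c ∈ ({1, 0, 1 / 4} : Set ℝ) := by
        simp only [majoranaSpectrum, Set.mem_insert_iff, Set.mem_singleton_iff] at hc ⊢
        rcases hc with h | h | h | h
        exacts [Or.inl h, Or.inr (Or.inl h), Or.inr (Or.inr h), absurd h h32]
      have hx' : x ∈ eigenSum mul a {1, 0, 1 / 4} := le_iSup₂ (f := fun d _ => eigen mul a d) c hc' hx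
      rw [hfx x hx', hfx x hx']
  rw [htop] at hle
  exact LinearEquiv.ext fun x => hle (Submodule.mem_top : x ∈ ⊤)

/-- Let V be a finite-dimensional real vector space with a commutative bilinear product and a positive-definite symmetric bilinear form that associates with the product and satisfies the Norton inequality (the Majorana setting of the definitions). Let μ₀ and μ₁ be Majorana involutions with axial vectors a₀ and a₁ of squared length 1, each involution having no other axial vector. Then the product μ₀μ₁ has order at most 6: some power (μ₀μ₁)^n with 1 ≤ n ≤ 6 is the identity (so the two involutions generate a dihedral group of order at most 12). This is the 6-transposition property of Majorana involutions. -/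
theorem result {V : Type*} [AddCommGroup V] [Module ℝ V] [FiniteDimensional ℝ V] (mul : V →ₗ[ℝ] V →ₗ[ℝ] V) (B : LinearMap.BilinForm ℝ V) (hV : Cfsg.Axial.IsMajoranaAmbient mul B) (μ₀ μ₁ : V ≃ₗ[ℝ] V) (a₀ a₁ : V) (h₀ : Cfsg.Axial.IsMajoranaPair mul B μ₀ a₀) (h₁ : Cfsg.Axial.IsMajoranaPair mul B μ₁ a₁) (hu₀ : ∀ a : V, Cfsg.Axial.IsMajoranaPair mul B μ₀ a → a = a₀) (hu₁ : ∀ a : V, Cfsg.Axial.IsMajoranaPair mul B μ₁ a → a = a₁) (hn₀ : B a₀ a₀ = 1) (hn₁ : B a₁ a₁ = 1) : ∃ n : ℕ, 1 ≤ n ∧ n ≤ 6 ∧ (μ₀ * μ₁) ^ n = 1 := by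
  classical
  obtain ⟨hcomm, hBs, hpos, hass, -⟩ := hV
  obtain ⟨hf0, hi0⟩ := pair_invol h₀
  obtain ⟨hf1, hi1⟩ := pair_invol h₁
  have hinv0 : μ₀⁻¹ = μ₀ := inv_eq_of_mul_eq_one_right hi0
  have hinv1 : μ₁⁻¹ = μ₁ := inv_eq_of_mul_eq_one_right hi1
  set ρ : V ≃ₗ[ℝ] V := μ₀ * μ₁ with hρ
  have happ : ∀ (f g : V ≃ₗ[ℝ] V) (x : V), (f * g) x = f (g x) := fun _ _ _ => rfl
  have hr0 : μ₀ * ρ * μ₀⁻¹ = ρ⁻¹ := by
    simp only [hρ, mul_inv_rev, hinv0, hinv1, ← mul_assoc, hi0, one_mul]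
  have hr1 : μ₁ * ρ * μ₁⁻¹ = ρ⁻¹ := by
    simp only [hρ, mul_inv_rev, hinv0, hinv1, mul_assoc, hi1, mul_one]
  have hc0 : ∀ k : ℤ, μ₀ * ρ ^ k = ρ ^ (-k) * μ₀ := fun k => by
    rw [zpow_neg, ← inv_zpow, ← hr0, conj_zpow, inv_mul_cancel_right]
  have hc1 : ∀ k : ℤ, μ₁ * ρ ^ k = ρ ^ (-k) * μ₁ := fun k => by
    rw [zpow_neg, ← inv_zpow, ← hr1, conj_zpow, inv_mul_cancel_right]
  let H : Subgroup (V ≃ₗ[ℝ] V) :=
    { carrier := {f | (∀ u v, f (mul u v) = mul (f u) (f v)) ∧ ∀ u v, B (f u) (f v) = B u v}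
      one_mem' := ⟨fun _ _ => rfl, fun _ _ => rfl⟩
      mul_mem' := fun {f g} hf hg => ⟨fun u v => by simp only [happ, hg.1, hf.1],
        fun u v => by simp only [happ, hf.2, hg.2]⟩
      inv_mem' := fun {f} hf => ⟨fun u v => f.injective (by
          rw [hf.1]; show f (f.symm _) = mul (f (f.symm u)) (f (f.symm v)); simp),
        fun u v => by rw [← hf.2]; show B (f (f.symm u)) (f (f.symm v)) = B u v; simp⟩ }
  have hρH : ∀ k : ℤ, ρ ^ k ∈ H := fun k =>
    H.zpow_mem (H.mul_mem ⟨h₀.1, h₀.2.1⟩ ⟨h₁.1, h₁.2.1⟩) k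
  let af : ℤ → V := fun i => (ρ ^ (-(i / 2))) (if i % 2 = 0 then a₀ else a₁)
  let tf : ℤ → V ≃ₗ[ℝ] V := fun i => ρ ^ (-(i / 2)) * (if i % 2 = 0 then μ₀ else μ₁) * (ρ ^ (-(i / 2)))⁻¹
  have ha_even : ∀ k : ℤ, af (2 * k) = (ρ ^ (-k)) a₀ := fun k => by simp [af]
  have ha_odd : ∀ k : ℤ, af (2 * k + 1) = (ρ ^ (-k)) a₁ := fun k => by
    simp only [af, show (2 * k + 1) / 2 = k by omega, show (2 * k + 1) % 2 = 1 by omega,
      show (1 : ℤ) ≠ 0 by norm_num, if_false]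
  have ht_even : ∀ k : ℤ, tf (2 * k) = ρ ^ (-(2 * k)) * μ₀ := fun k => by
    simp only [tf, show (2 * k) / 2 = k by omega, show (2 * k) % 2 = 0 by omega, if_true]
    rw [← zpow_neg, mul_assoc, hc0, ← mul_assoc, ← zpow_add]
    congr 2; ring
  have ht_odd : ∀ k : ℤ, tf (2 * k + 1) = ρ ^ (-(2 * k)) * μ₁ := fun k => by
    simp only [tf, show (2 * k + 1) / 2 = k by omega, show (2 * k + 1) % 2 = 1 by omega,
      show (1 : ℤ) ≠ 0 by norm_num, if_false]
    rw [← zpow_neg, mul_assoc, hc1, ← mul_assoc, ← zpow_add]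
    congr 2; ring
  have h01 : μ₀ a₁ = ρ a₁ := by rw [hρ, happ, hf1]
  have h10 : μ₁ a₀ = (ρ ^ (-1 : ℤ)) a₀ := by
    rw [zpow_neg_one, hρ, mul_inv_rev, hinv0, hinv1, happ, hf0]
  have hstep : ∀ i k, tf i (af (i + k)) = af (i - k) := by
    intro i k
    obtain ⟨j, rfl | rfl⟩ := Int.even_or_odd' i <;> obtain ⟨m, rfl | rfl⟩ := Int.even_or_odd' k
    · rw [show 2 * j + 2 * m = 2 * (j + m) by ring, show 2 * j - 2 * m = 2 * (j - m) by ring, ht_even,
        ha_even, ha_even, ← happ, mul_assoc, hc0, ← mul_assoc, ← zpow_add, happ, hf0]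
      congr 2; ring
    · rw [show 2 * j + (2 * m + 1) = 2 * (j + m) + 1 by ring,
        show 2 * j - (2 * m + 1) = 2 * (j - m - 1) + 1 by ring, ht_even, ha_odd, ha_odd, ← happ,
        mul_assoc, hc0, ← mul_assoc, ← zpow_add, happ, h01, ← happ, ← zpow_add_one]
      congr 2; ring
    · rw [show 2 * j + 1 + 2 * m = 2 * (j + m) + 1 by ring,
        show 2 * j + 1 - 2 * m = 2 * (j - m) + 1 by ring, ht_odd,
        ha_odd, ha_odd, ← happ, mul_assoc, hc1, ← mul_assoc, ← zpow_add, happ, hf1]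
      congr 2; ring
    · rw [show 2 * j + 1 + (2 * m + 1) = 2 * (j + m + 1) by ring,
        show 2 * j + 1 - (2 * m + 1) = 2 * (j - m) by ring, ht_odd, ha_even, ha_even, ← happ,
        mul_assoc, hc1, ← mul_assoc, ← zpow_add, happ, h10, ← happ, ← zpow_add]
      congr 2; ring
  have hpair : ∀ i, Cfsg.Axial.IsMajoranaPair mul B (tf i) (af i) := by
    intro i
    obtain ⟨hm, hBB⟩ := hρH (-(i / 2))
    simp only [tf, af]
    split_ifs
    · exact conj_pair _ _ _ h₀ hm hBB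
    · exact conj_pair _ _ _ h₁ hm hBB
  have hnorm : ∀ i, B (af i) (af i) = 1 := by
    intro i
    simp only [af]
    rw [(hρH (-(i / 2))).2]
    split_ifs
    · exact hn₀
    · exact hn₁
  let C : Lib.Sakuma55.Chain mul B :=
    { a := af, τ := tf, comm := hcomm, symm := hBs, assoc := hass, pair := hpair, norm := hnorm,
      refl := hstep }
  obtain ⟨n, hn1, hn6, hB1⟩ := C.returns
  change B (af 0) (af n) = 1 at hB1
  have heq : af n = af 0 := by
    by_contra hne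
    have h := hpos (af n - af 0) (sub_ne_zero.2 hne)
    simp only [map_sub, LinearMap.sub_apply, hnorm, hB1, hBs (af n) (af 0)] at h
    norm_num at h
  have ht0 : tf 0 = μ₀ := by
    have h := ht_even 0
    simpa using h
  have hta : tf n = μ₀ := by
    have h1 := hpair n
    rw [heq] at h1
    rw [← ht0]
    exact pair_unique h1 (hpair 0)
  refine ⟨n, hn1, hn6, ?_⟩
  obtain ⟨k, hk | hk⟩ := Int.even_or_odd' (n : ℤ)
  · rw [hk, ht_even, mul_eq_right, zpow_neg, inv_eq_one] at hta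
    rw [← zpow_natCast, hk]
    exact hta
  · rw [hk, ht_odd] at hta
    have h2 : ρ = ρ ^ (-(2 * k)) := by
      conv_lhs => rw [hρ, ← hta, mul_assoc, hi1, mul_one]
    rw [← zpow_natCast, hk, zpow_add, zpow_one]
    conv_lhs => arg 2; rw [h2]
    rw [← zpow_add, add_neg_cancel, zpow_zero]

end Cfsg.Agent.S5544
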