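import Cfsg.Statements.S5545
import Mathlib

set_option autoImplicit false
open Cfsg

namespace Cfsg.Agent.S5545

open Cfsg.Axial

theorem mem_eigen_iff {V : Type*} [AddCommGroup V] [Module ℝ V] {mul : V →ₗ[ℝ] V →ₗ[ℝ] V} {a x : V} {c : ℝ} :
    x ∈ eigen mul a c ↔ mul a x = c • x := by
  rw [eigen, Module.End.mem_eigenspace_iff]

theorem mem_eigenSum_pair {V : Type*} [AddCommGroup V] [Module ℝ V] {mul : V →ₗ[ℝ] V →ₗ[ℝ] V} {a x : V}
    {c d : ℝ} :
    x ∈ eigenSum mul a {c, d} ↔ ∃ p q, mul a p = c • p ∧ mul a q = d • q ∧ p + q = x := by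
  rw [eigenSum, iSup_insert, iSup_singleton, Submodule.mem_sup]
  simp [mem_eigen_iff]

/-- If an axis `μ`-fixed vector `b` has no 1/32-part at the axis `a`, it is `p + q + r` with eigenvalues 1, 0, 1/4. -/
theorem split_fixed {V : Type*} [AddCommGroup V] [Module ℝ V] {mul : V →ₗ[ℝ] V →ₗ[ℝ] V}
    {B : LinearMap.BilinForm ℝ V} {μ : V ≃ₗ[ℝ] V} {a b : V}
    (hp : IsMajoranaPair mul B μ a) (hμ : μ b = b) (hB : ∀ u v w : V, B u (mul v w) = B (mul u v) w)
    (hn : B a a = 1) (hBs : ∀ u v, B u v = B v u) :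
    ∃ u v, mul a u = 0 ∧ mul a v = (1 / 4 : ℝ) • v ∧ b = B a b • a + u + v := by
  obtain ⟨-, -, ⟨⟨-, haa, htop, -⟩, hone⟩, hfix, hneg⟩ := hp
  have hb : b ∈ eigenSum mul a majoranaSpectrum := by rw [htop]; trivial
  rw [eigenSum, majoranaSpectrum] at hb
  simp only [iSup_insert, iSup_singleton] at hb
  obtain ⟨p, hp, x, hx, rfl⟩ := Submodule.mem_sup.1 hb
  obtain ⟨u, hu, y, hy, rfl⟩ := Submodule.mem_sup.1 hx
  obtain ⟨v, hv, w, hw, rfl⟩ := Submodule.mem_sup.1 hy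
  have hplus : p + u + v ∈ eigenSum mul a {1, 0, 1 / 4} := by
    simp only [eigenSum, iSup_insert, iSup_singleton]
    exact add_mem (add_mem (Submodule.mem_sup_left hp) (Submodule.mem_sup_right (Submodule.mem_sup_left hu)))
      (Submodule.mem_sup_right (Submodule.mem_sup_right hv))
  have h1 := hfix _ hplus
  have h2 := hneg w hw
  have hw0 : w = 0 := by
    have e : (μ : V →ₗ[ℝ] V) (p + u + v + w) = p + u + v + w := by
      simpa [add_assoc] using hμ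
    rw [map_add, h1, h2] at e
    have : (2 : ℝ) • w = 0 := by
      calc (2 : ℝ) • w = w - (-w) := by module
        _ = 0 := sub_eq_zero.2 (add_left_cancel e).symm
    simpa using this
  subst hw0
  rw [hone, Submodule.mem_span_singleton] at hp
  obtain ⟨l, rfl⟩ := hp
  rw [mem_eigen_iff] at hu hv
  rw [zero_smul] at hu
  refine ⟨u, v, hu, hv, ?_⟩
  have hu0 : B a u = 0 := by
    have := hB a a u
    rwa [hu, map_zero, haa, eq_comm] at this
  have hv0 : B a v = 0 := by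
    have := hB a a v
    rw [hv, haa, map_smul, smul_eq_mul] at this
    linarith
  rw [map_add, map_add, map_add, map_smul, map_zero, hu0, hv0, hn, smul_eq_mul]
  simp [add_assoc]

/-- The whole computation in the span of `a`, `b`, `c = ab`. -/
theorem two_axes {V : Type*} [AddCommGroup V] [Module ℝ V] {mul : V →ₗ[ℝ] V →ₗ[ℝ] V}
    (hcomm : IsCommMul mul) {a b : V} {L : ℝ}
    (ha : IsAxis mul (monsterLaw (1 / 4) (1 / 32)) majoranaSpectrum a) (hbb : mul b b = b)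
    (hdec : ∃ u v, mul a u = 0 ∧ mul a v = (1 / 4 : ℝ) • v ∧ b = L • a + u + v)
    (hbc : mul b (mul a b) = (3 * L / 4) • b + (1 / 4 : ℝ) • mul a b) :
    mul (mul a b) (mul a b) = (3 * L / 16) • (a + b) + ((12 * L - 2) / 16) • mul a b ∧
      (L = 1 / 8 ∨ mul a b = L • a) := by
  obtain ⟨u, v, hu, hv, hb⟩ := hdec
  obtain ⟨-, haa, -, hfus⟩ := ha
  set c := mul a b with hcdef
  have hc : c = L • a + (1 / 4 : ℝ) • v := by
    rw [hcdef, hb, map_add, map_add, map_smul, haa, hu, hv, add_zero]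
  have hac : mul a c = (3 * L / 4) • a + (1 / 4 : ℝ) • c := by
    rw [hc, map_add, map_smul, map_smul, haa, hv]; module
  have hv' : v = (4 : ℝ) • (c - L • a) := by rw [hc]; module
  have hu' : u = b + (3 * L) • a - (4 : ℝ) • c := by
    rw [hc, hb]; module
  have hba : mul b a = c := hcomm b a
  have hca : mul c a = (3 * L / 4) • a + (1 / 4 : ℝ) • c := (hcomm c a).trans hac
  have hcb : mul c b = (3 * L / 4) • b + (1 / 4 : ℝ) • c := (hcomm c b).trans hbc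
  have hu_mem : u ∈ eigen mul a 0 := by rw [mem_eigen_iff, zero_smul]; exact hu
  have hv_mem : v ∈ eigen mul a (1 / 4) := mem_eigen_iff.2 hv
  have hS0 : (0 : ℝ) ∈ majoranaSpectrum := by simp [majoranaSpectrum]
  have hS4 : (1 / 4 : ℝ) ∈ majoranaSpectrum := by simp [majoranaSpectrum]
  -- 0 * 0
  have h00 := hfus 0 hS0 0 hS0 u hu_mem u hu_mem
  have hl00 : monsterLaw (1 / 4 : ℝ) (1 / 32) 0 0 = {0} := by simp [monsterLaw]
  rw [hl00, eigenSum, iSup_singleton, mem_eigen_iff, zero_smul] at h00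
  have h04 := hfus 0 hS0 (1 / 4) hS4 u hu_mem v hv_mem
  have hl04 : monsterLaw (1 / 4 : ℝ) (1 / 32) 0 (1 / 4) = {1 / 4} := by norm_num [monsterLaw]
  rw [hl04, eigenSum, iSup_singleton, mem_eigen_iff] at h04
  have h44 := hfus (1 / 4) hS4 (1 / 4) hS4 v hv_mem v hv_mem
  have hl44 : monsterLaw (1 / 4 : ℝ) (1 / 32) (1 / 4) (1 / 4) = {1, 0} := by norm_num [monsterLaw]
  rw [hl44, mem_eigenSum_pair] at h44
  have haab : mul a b = c := rfl
  rw [hu', hv'] at h04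
  rw [hu'] at h00
  simp only [map_add, map_sub, map_smul, LinearMap.add_apply, LinearMap.sub_apply, LinearMap.smul_apply,
    haa, hbb, haab, hba, hac, hca, hbc, hcb, smul_add, smul_sub, smul_smul] at h00 h04
  have hcc : mul c c = (3 * L / 16) • (a + b) + ((12 * L - 2) / 16) • c := by
    linear_combination (norm := module) (1 / 4 : ℝ) • h04 + (1 / 4 : ℝ) • h00
  refine ⟨hcc, ?_⟩
  obtain ⟨p, q, hp, hq, hpq⟩ := h44
  rw [one_smul] at hp
  rw [zero_smul] at hq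
  have hidem : mul a (mul a (mul v v)) = mul a (mul v v) := by
    rw [← hpq, map_add, hp, hq, add_zero, hp]
  rw [hv'] at hidem
  simp only [map_add, map_sub, map_smul, LinearMap.add_apply, LinearMap.sub_apply, LinearMap.smul_apply,
    haa, haab, hac, hca, hcc, smul_add, smul_sub, smul_smul] at hidem
  have key : ((8 * L - 1) * 3) • (c - L • a) = 0 := by
    linear_combination (norm := module) (-8 : ℝ) • hidem
  rcases smul_eq_zero.1 key with h | h
  · left; linarith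
  · right; exact sub_eq_zero.1 h


/-- Let V be a finite-dimensional real vector space with a commutative bilinear product and a positive-definite symmetric bilinear form that associates with the product and satisfies the Norton inequality (the Majorana setting of the definitions). Let μ₀, μ₁ be commuting Majorana involutions with distinct axial vectors a₀ ≠ a₁ of squared length 1, each involution having no other axial vector. Then either a₀ and a₁ are orthogonal with a₀ ∘ a₁ = 0 (type 2B), or their inner product is 1/8 and, with a₂ = a₀ + a₁ − 8 a₀ ∘ a₁, the vector a₂ is an idempotent and a₀ ∘ a₂ = (1/8)(a₀ + a₂ − a₁), a₁ ∘ a₂ = (1/8)(a₁ + a₂ − a₀) (type 2A: the three idempotents span a subalgebra with aᵢ ∘ aⱼ = (1/8)(aᵢ + aⱼ − aₖ)). -/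
theorem result {V : Type*} [AddCommGroup V] [Module ℝ V] [FiniteDimensional ℝ V] (mul : V →ₗ[ℝ] V →ₗ[ℝ] V) (B : LinearMap.BilinForm ℝ V) (hV : Cfsg.Axial.IsMajoranaAmbient mul B) (μ₀ μ₁ : V ≃ₗ[ℝ] V) (a₀ a₁ : V) (h₀ : Cfsg.Axial.IsMajoranaPair mul B μ₀ a₀) (h₁ : Cfsg.Axial.IsMajoranaPair mul B μ₁ a₁) (hu₀ : ∀ a : V, Cfsg.Axial.IsMajoranaPair mul B μ₀ a → a = a₀) (hu₁ : ∀ a : V, Cfsg.Axial.IsMajoranaPair mul B μ₁ a → a = a₁) (hn₀ : B a₀ a₀ = 1) (hn₁ : B a₁ a₁ = 1) (hc : μ₀ * μ₁ = μ₁ * μ₀) (hne : a₀ ≠ a₁) : (B a₀ a₁ = 0 ∧ mul a₀ a₁ = 0) ∨ (B a₀ a₁ = 1 / 8 ∧ mul (a₀ + a₁ - (8 : ℝ) • mul a₀ a₁) (a₀ + a₁ - (8 : ℝ) • mul a₀ a₁) = a₀ + a₁ - (8 : ℝ) • mul a₀ a₁ ∧ mul a₀ (a₀ + a₁ - (8 : ℝ) • mul a₀ a₁) = (1 / 8 : ℝ) • (a₀ + (a₀ + a₁ - (8 : ℝ) • mul a₀ a₁) - a₁) ∧ mul a₁ (a₀ + a₁ - (8 : ℝ) • mul a₀ a₁) = (1 / 8 : ℝ) • (a₁ + (a₀ + a₁ - (8 : ℝ) • mul a₀ a₁) - a₀)) := by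
  obtain ⟨hcomm, hBs, -, hBass, -⟩ := hV
  have hfix : ∀ (μ ν : V ≃ₗ[ℝ] V) (a b : V), Cfsg.Axial.IsMajoranaPair mul B μ a →
      Cfsg.Axial.IsMajoranaPair mul B ν b → (∀ x, Cfsg.Axial.IsMajoranaPair mul B μ x → x = a) →
      μ * ν = ν * μ → ν a = a := by
    intro μ ν a b hμ hν hu hc
    apply hu
    obtain ⟨h1, h2, ⟨⟨hne, haa, htop, hfus⟩, hone⟩, hfx, hng⟩ := hμ
    obtain ⟨hm, -, -, -⟩ := hν
    have heig : ∀ c, Cfsg.Axial.eigen mul (ν a) c = (Cfsg.Axial.eigen mul a c).map (ν : V →ₗ[ℝ] V) := by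
      intro c
      ext x
      constructor
      · intro hx
        refine ⟨ν.symm x, ?_, by simp⟩
        rw [SetLike.mem_coe, mem_eigen_iff]
        apply ν.injective
        rw [map_smul, hm, ν.apply_symm_apply]
        exact mem_eigen_iff.1 hx
      · rintro ⟨y, hy, rfl⟩
        rw [SetLike.mem_coe, mem_eigen_iff] at hy
        rw [mem_eigen_iff]
        change mul (ν a) (ν y) = c • ν y
        rw [← hm, hy, map_smul]
    have hsum : ∀ S, Cfsg.Axial.eigenSum mul (ν a) S = (Cfsg.Axial.eigenSum mul a S).map (ν : V →ₗ[ℝ] V) := by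
      intro S
      simp only [Cfsg.Axial.eigenSum, Submodule.map_iSup, heig]
    have hcx : ∀ x, μ (ν x) = ν (μ x) := fun x => LinearEquiv.congr_fun hc x
    refine ⟨h1, h2, ⟨⟨fun h => hne (ν.injective (by rw [h, map_zero])), by rw [← hm, haa], ?_, ?_⟩, ?_⟩, ?_, ?_⟩
    · rw [hsum, htop, Submodule.map_top, LinearMap.range_eq_top.2 ν.surjective]
    · intro c hc d hd u hu v hv
      rw [heig] at hu hv
      obtain ⟨u', hu', rfl⟩ := hu
      obtain ⟨v', hv', rfl⟩ := hv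
      rw [hsum]
      exact ⟨_, hfus c hc d hd u' hu' v' hv', hm u' v'⟩
    · rw [heig, hone, Submodule.map_span, Set.image_singleton]; rfl
    · intro x hx
      rw [hsum] at hx
      obtain ⟨y, hy, rfl⟩ := hx
      change μ (ν y) = ν y
      rw [hcx]; exact congrArg ν (hfx y hy)
    · intro x hx
      rw [heig] at hx
      obtain ⟨y, hy, rfl⟩ := hx
      change μ (ν y) = -(ν y)
      rw [hcx, ← map_neg]; exact congrArg ν (hng y hy)
  have f0 : μ₁ a₀ = a₀ := hfix μ₀ μ₁ a₀ a₁ h₀ h₁ hu₀ hc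
  have f1 : μ₀ a₁ = a₁ := hfix μ₁ μ₀ a₁ a₀ h₁ h₀ hu₁ hc.symm
  have d0 := split_fixed h₀ f1 hBass hn₀ hBs
  have d1 := split_fixed h₁ f0 hBass hn₁ hBs
  set L := B a₀ a₁ with hL
  rw [hBs a₁ a₀, ← hL] at d1
  have hbc : ∀ a b : V, IsAxis mul (monsterLaw (1 / 4) (1 / 32)) majoranaSpectrum b →
      (∃ u v, mul b u = 0 ∧ mul b v = (1 / 4 : ℝ) • v ∧ a = L • b + u + v) →
      mul b (mul a b) = (3 * L / 4) • b + (1 / 4 : ℝ) • mul a b := by
    rintro a b hb ⟨u, v, hu, hv, rfl⟩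
    rw [hcomm _ b]
    simp only [map_add, map_smul, hb.2.1, hu, hv, smul_zero, add_zero]
    module
  have t0 := two_axes hcomm h₀.2.2.1.1 h₁.2.2.1.1.2.1 d0 (hbc a₀ a₁ h₁.2.2.1.1 d1)
  have t1 := two_axes hcomm h₁.2.2.1.1 h₀.2.2.1.1.2.1 d1 (hbc a₁ a₀ h₀.2.2.1.1 d0)
  rw [hcomm a₁ a₀] at t1
  obtain ⟨hcc, h0⟩ := t0
  obtain ⟨-, h1⟩ := t1
  have hac := hbc a₁ a₀ h₀.2.2.1.1 d0
  have hbc' := hbc a₀ a₁ h₁.2.2.1.1 d1
  rw [hcomm a₁ a₀] at hac
  by_cases hL8 : L = 1 / 8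
  · right
    refine ⟨hL8, ?_⟩
    set c := mul a₀ a₁ with hcdef
    have e1 : mul a₁ a₀ = c := hcomm _ _
    have e2 : mul c a₀ = (3 * L / 4) • a₀ + (1 / 4 : ℝ) • c := (hcomm _ _).trans hac
    have e3 : mul c a₁ = (3 * L / 4) • a₁ + (1 / 4 : ℝ) • c := (hcomm _ _).trans hbc'
    have e4 : mul a₀ a₀ = a₀ := h₀.2.2.1.1.2.1
    have e5 : mul a₁ a₁ = a₁ := h₁.2.2.1.1.2.1
    have e0 : mul a₀ a₁ = c := rfl
    refine ⟨?_, ?_, ?_⟩ <;>
    · simp only [map_add, map_sub, map_smul, LinearMap.add_apply, LinearMap.sub_apply, LinearMap.smul_apply,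
        e0, e1, e2, e3, e4, e5, hac, hbc', hcc, hL8]
      module
  · left
    have g0 := h0.resolve_left hL8
    have g1 := h1.resolve_left hL8
    have hL0 : L = 0 := by
      have : L • (a₀ - a₁) = 0 := by rw [smul_sub, ← g0, ← g1, sub_self]
      exact (smul_eq_zero.1 this).resolve_right (sub_ne_zero.2 hne)
    exact ⟨hL0, by rw [g0, hL0, zero_smul]⟩

end Cfsg.Agent.S5545
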