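import Cfsg.Statements.S5546
import Mathlib

set_option autoImplicit false
open Cfsg

namespace Cfsg.Agent.S5546

local notation "F13" => ZMod 13

instance instFactPrime13 : Fact (Nat.Prime 13) := ⟨by norm_num⟩

theorem eightE_mem (j : GolayPt) : (fun i => if i = j then (8 : ℤ) else 0) ∈ leechSet := by
  refine Spor.mem_leechSet_of_const_mod_four _ 0 0 (Int.ModEq.refl _) (fun i => ?_) ?_
  · split <;> decide
  · rw [Finset.sum_ite_eq' Finset.univ j (fun _ => (8 : ℤ))]
    simp only [Finset.mem_univ, if_true]
    decide

/-- the lattice vector with 8 in place j -/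
def eightE (j : GolayPt) : leechLattice := ⟨_, AddSubgroup.subset_closure (eightE_mem j)⟩

/-- reduction modulo 13 -/
def red : leechLattice →+ (GolayPt → F13) where
  toFun v i := (((v : GolayPt → ℤ) i : ℤ) : F13)
  map_zero' := by ext i; simp
  map_add' v w := by ext i; simp

/-- a lattice automorphism as an additive map -/
def addMap (f : Equiv.Perm leechLattice) (hf : f ∈ Co0) : leechLattice →+ leechLattice :=
  AddMonoidHom.mk' f hf.1

theorem eight_smul (v : leechLattice) : (8 : ℤ) • v = ∑ j, (v : GolayPt → ℤ) j • eightE j := by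
  apply Subtype.ext
  ext i
  rw [AddSubgroup.val_finsetSum, Finset.sum_apply]
  rw [Finset.sum_eq_single i (fun j _ hj => by simp [eightE, Ne.symm hj]) (by simp)]
  simp [eightE, mul_comm]

/-- the matrix mod 13 of a lattice automorphism -/
def mat (f : Equiv.Perm leechLattice) : Matrix GolayPt GolayPt F13 :=
  fun i j => (5 : F13) * red (f (eightE j)) i

theorem mat_mulVec (f : Equiv.Perm leechLattice) (hf : f ∈ Co0) (v : leechLattice) :
    (mat f).mulVec (red v) = red (f v) := by
  have h := congrArg (fun w => red (addMap f hf w)) (eight_smul v)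
  simp only [map_sum, map_zsmul] at h
  ext i
  have hi := congrFun h i
  simp only [Finset.sum_apply, Pi.smul_apply, zsmul_eq_mul, addMap, AddMonoidHom.mk'_apply, Pi.mul_apply,
    Pi.intCast_apply] at hi
  simp only [Matrix.mulVec, dotProduct, mat]
  calc ∑ j, (5 : F13) * red (f (eightE j)) i * red v j
      = (5 : F13) * ∑ j, (((v : GolayPt → ℤ) j : ℤ) : F13) * red (f (eightE j)) i := by
        rw [Finset.mul_sum]; refine Finset.sum_congr rfl fun j _ => ?_
        change _ * _ * (((v : GolayPt → ℤ) j : ℤ) : F13) = _
        ring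
    _ = red (f v) i := by
        rw [← hi]
        rw [show (((8 : ℤ) : F13)) = 8 from by norm_num, ← mul_assoc,
          show (5 : F13) * 8 = 1 from by decide, one_mul]

theorem mat_mul (f g : Equiv.Perm leechLattice) (hf : f ∈ Co0) :
    mat (f * g) = mat f * mat g := by
  ext i j
  have h := congrFun (mat_mulVec f hf (g (eightE j))) i
  simp only [Matrix.mulVec, dotProduct] at h
  simp only [Matrix.mul_apply]
  change (5 : F13) * red (f (g (eightE j))) i = _
  rw [← h, Finset.mul_sum]
  refine Finset.sum_congr rfl fun k _ => ?_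
  simp only [mat]; ring

theorem mat_one : mat 1 = 1 := by
  ext i j
  by_cases h : i = j
  · subst h
    simp only [mat, Equiv.Perm.coe_one, id, Matrix.one_apply_eq, red, eightE, AddMonoidHom.coe_mk, ZeroHom.coe_mk, if_pos]
    decide
  · simp [mat, red, eightE, h, Matrix.one_apply_ne h]

theorem mat_injective (f : Equiv.Perm leechLattice) (hf : f ∈ Co0) (h : mat f = 1) : f = 1 := by
  have h8 : (5 : F13) ≠ 0 := by decide
  have hfix : ∀ j, f (eightE j) = eightE j := by
    intro j
    apply Subtype.ext
    have hn : ∑ i, ((f (eightE j) : leechLattice) : GolayPt → ℤ) i ^ 2 = 64 := by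
      have := hf.2 (eightE j)
      simp only [sqNorm] at this
      rw [this]
      simp [eightE, ite_pow]
    set w := ((f (eightE j) : leechLattice) : GolayPt → ℤ) with hw
    have hred : ∀ i, ((w i : ℤ) : F13) = ((if i = j then (8 : ℤ) else 0 : ℤ) : F13) := by
      intro i
      have e : mat f i j = mat 1 i j := by rw [h, mat_one]
      simp only [mat] at e
      exact mul_left_cancel₀ h8 e
    have hd : ∀ i, (13 : ℤ) ∣ (if i = j then (8 : ℤ) else 0) - w i := fun i =>
      (ZMod.intCast_eq_intCast_iff_dvd_sub (w i) _ 13).1 (hred i)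
    have hle : ∀ i, w i ^ 2 ≤ 64 := fun i =>
      hn ▸ Finset.single_le_sum (f := fun i => w i ^ 2) (fun k _ => sq_nonneg (w k)) (Finset.mem_univ i)
    have h8' : ∀ i, -8 ≤ w i ∧ w i ≤ 8 := fun i => abs_le.1 (abs_le_of_sq_le_sq (by simpa using hle i) (by norm_num))
    have hoff : ∀ i, i ≠ j → w i = 0 := by
      intro i hi
      have := hd i
      rw [if_neg hi] at this
      have := h8' i
      omega
    have hwj : w j ^ 2 = 64 := by
      rw [← hn]
      exact (Finset.sum_eq_single (f := fun i => w i ^ 2) j
        (fun i _ hi => by simp [hoff i hi]) (by simp)).symm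
    have hwj' : w j = 8 := by
      have := hd j
      rw [if_pos rfl] at this
      obtain ⟨h1, h2⟩ := h8' j
      interval_cases (w j) <;> omega
    funext i
    by_cases hi : i = j
    · subst hi; simp [eightE, hwj']
    · simp [eightE, hoff i hi, hi]
  ext1 v
  have h : (8 : ℤ) • f v = (8 : ℤ) • v := by
    rw [show f v = addMap f hf v from rfl, ← map_zsmul, eight_smul v, map_sum]
    exact Finset.sum_congr rfl fun j _ => by rw [map_zsmul]; exact congrArg _ (hfix j)
  apply Subtype.ext
  funext i
  have := congrFun (congrArg Subtype.val h) i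
  simp only [AddSubgroupClass.coe_zsmul, Pi.smul_apply, smul_eq_mul] at this
  exact mul_left_cancel₀ (by norm_num) this

theorem vecU_sum (v : GolayPt → ℤ) :
    ∑ i, (v i + Spor.vecU i) ^ 2 = sqNorm v + 8 * (v none + v (some 0)) + 32 := by
  have h1 : ∀ i, (v i + Spor.vecU i) ^ 2 = v i ^ 2 + (2 * v i * Spor.vecU i + Spor.vecU i ^ 2) := fun i => by ring
  simp only [h1, Finset.sum_add_distrib, sqNorm]
  have h2 : ∑ i, Spor.vecU i ^ 2 = 32 := by decide
  have h3 : ∑ i, 2 * v i * Spor.vecU i = 8 * (v none + v (some 0)) := by
    rw [← Finset.sum_subset (Finset.subset_univ ({none, some 0} : Finset GolayPt))]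
    · rw [Finset.sum_pair (by decide)]; simp [Spor.vecU]; ring
    · intro i _ hi
      simp only [Finset.mem_insert, Finset.mem_singleton, not_or] at hi
      simp [Spor.vecU, hi.1, hi.2]
  rw [h2, h3]; ring

/-- the functional cutting out the orthogonal complement of the fixed vector -/
def lin : (GolayPt → F13) →ₗ[F13] F13 where
  toFun x := x none + x (some 0)
  map_add' x y := by simp only [Pi.add_apply]; ring
  map_smul' c x := by simp only [Pi.smul_apply, smul_eq_mul, RingHom.id_apply]; ring

theorem lin_apply (x : GolayPt → F13) : lin x = x none + x (some 0) := rfl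

theorem lin_mat (f : Equiv.Perm leechLattice) (hf : f ∈ Co0) (hu : f Spor.leechU = Spor.leechU)
    (x : GolayPt → F13) : lin ((mat f).mulVec x) = lin x := by
  have hL : ∀ v : leechLattice, lin (red (f v)) = lin (red v) := by
    intro v
    have h := hf.2 (v + Spor.leechU)
    rw [hf.1, hu] at h
    have e : ∀ w : leechLattice, sqNorm ((w + Spor.leechU : leechLattice) : GolayPt → ℤ) =
        sqNorm (w : GolayPt → ℤ) + 8 * ((w : GolayPt → ℤ) none + (w : GolayPt → ℤ) (some 0)) + 32 :=
      fun w => vecU_sum _
    rw [e, e, hf.2] at h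
    have h' : ((f v : leechLattice) : GolayPt → ℤ) none + ((f v : leechLattice) : GolayPt → ℤ) (some 0) =
        (v : GolayPt → ℤ) none + (v : GolayPt → ℤ) (some 0) := by omega
    have := congrArg (fun z : ℤ => (z : F13)) h'
    push_cast at this
    exact this
  have hbasis : ∀ j, lin ((mat f).mulVec (red (eightE j))) = lin (red (eightE j)) := fun j => by
    rw [mat_mulVec f hf, hL]
  have heq : lin ∘ₗ (mat f).mulVecLin = lin := by
    apply (Pi.basisFun F13 GolayPt).ext
    intro j
    have e : red (eightE j) = (8 : F13) • Pi.basisFun F13 GolayPt j := by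
      ext i
      by_cases h : i = j <;> simp [red, eightE, h, Pi.single_apply]
    have h := hbasis j
    rw [e, Matrix.mulVec_smul, map_smul, map_smul] at h
    simpa using mul_left_cancel₀ (a := (8 : F13)) (by decide) h
  exact LinearMap.congr_fun heq x

theorem co2_mem {f : Equiv.Perm leechLattice} (hf : f ∈ Spor.Co2) :
    f ∈ Co0 ∧ f Spor.leechU = Spor.leechU := hf

/-- the 23-dimensional representation -/
noncomputable def rep : ↥Spor.Co2 →* Module.End F13 ↥(LinearMap.ker lin) where
  toFun f := ((mat f.1).mulVecLin).restrict (p := LinearMap.ker lin) (q := LinearMap.ker lin) fun x hx => by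
    rw [LinearMap.mem_ker] at hx ⊢
    rw [Matrix.mulVecLin_apply, lin_mat f.1 (co2_mem f.2).1 (co2_mem f.2).2, hx]
  map_one' := by
    ext x i
    simp [mat_one]
  map_mul' f g := by
    ext x i
    simp [mat_mul f.1 g.1 (co2_mem f.2).1, Matrix.mulVec_mulVec]

theorem rep_injective : Function.Injective rep := by
  rw [← MonoidHom.ker_eq_bot_iff, eq_bot_iff]
  intro f hf
  rw [MonoidHom.mem_ker] at hf
  rw [Subgroup.mem_bot]
  apply Subtype.ext
  refine mat_injective f.1 (co2_mem f.2).1 ?_
  have hu : (mat f.1).mulVec (red Spor.leechU) = red Spor.leechU := by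
    rw [mat_mulVec f.1 (co2_mem f.2).1, (co2_mem f.2).2]
  apply Matrix.ext_of_mulVec_single
  intro j
  set x : GolayPt → F13 := Pi.single j 1
  have hlu : lin (red Spor.leechU) = (8 : F13) := by decide
  have hy : x - ((5 : F13) * lin x) • red Spor.leechU ∈ LinearMap.ker lin := by
    rw [LinearMap.mem_ker, map_sub, map_smul, hlu, smul_eq_mul, mul_comm (5 : F13), mul_assoc,
      show (5 : F13) * 8 = 1 from by decide, mul_one, sub_self]
  have h := congrArg Subtype.val (LinearMap.congr_fun hf ⟨_, hy⟩)
  simp only [rep, MonoidHom.coe_mk, OneHom.coe_mk, LinearMap.restrict_apply, Matrix.mulVecLin_apply,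
    Module.End.one_apply, Matrix.mulVec_sub, Matrix.mulVec_smul, hu, sub_left_inj] at h
  rw [h, Matrix.one_mulVec]


/-- The second Conway group (the stabilizer in the Leech lattice automorphism group of the short vector fixed in the definitions) is isomorphic to a subgroup of the general linear group of degree 23 over the field with 13 elements: there is an injective homomorphism into it. -/
theorem result : ∃ f : ↥Cfsg.Spor.Co2 →* GL (Fin 23) (ZMod 13), Function.Injective f := by
  have hrank : Module.finrank (ZMod 13) ↥(LinearMap.ker lin) = 23 := by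
    have hs : Function.Surjective lin := fun c => ⟨Pi.single none c, by simp [lin_apply]⟩
    have := LinearMap.finrank_range_add_finrank_ker lin
    rw [LinearMap.range_eq_top.2 hs, finrank_top, Module.finrank_self, Module.finrank_pi] at this
    simp [GolayPt, Fintype.card_option, ZMod.card] at this
    exact Nat.add_left_cancel (this.trans (by norm_num : (24 : ℕ) = 1 + 23))
  let b := (Module.finBasisOfFinrankEq (ZMod 13) ↥(LinearMap.ker lin) hrank)
  let e := algEquivMatrix b
  let h : ↥Cfsg.Spor.Co2 →* Matrix (Fin 23) (Fin 23) (ZMod 13) := e.toRingEquiv.toRingHom.toMonoidHom.comp rep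
  exact ⟨h.toHomUnits, fun p q hpq => rep_injective (e.injective (congrArg Units.val hpq))⟩

end Cfsg.Agent.S5546
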