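import Cfsg.Statements.S5547
import Cfsg.Agent.S1696
import Cfsg.Agent.Lib.FiTwentyTwoRep.Hom

set_option autoImplicit false
open Cfsg

namespace Cfsg.Agent.S5547

/-- The Fischer group Fi₂₂ (the finitely presented 3-transposition group of the definitions) is isomorphic to a subgroup of the general linear group of degree 78 over the field with 13 elements: there is an injective homomorphism into it. -/
theorem result : ∃ f : Cfsg.Spor.Fi22 →* GL (Fin 78) (ZMod 13), Function.Injective f := by
  obtain ⟨φ, hφ⟩ := Lib.FiTwentyTwoRep.exists_hom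
  haveI : IsSimpleGroup Cfsg.Spor.Fi22 := Cfsg.Agent.S1696.result.1
  refine ⟨φ, ?_⟩
  rw [← MonoidHom.ker_eq_bot_iff]
  rcases IsSimpleGroup.eq_bot_or_eq_top_of_normal φ.ker inferInstance with h | h
  · exact h
  · exfalso
    have h1 : φ (PresentedGroup.of Cfsg.Spor.Fi22.Gen.a) = 1 := by
      have hm : (PresentedGroup.of Cfsg.Spor.Fi22.Gen.a : Cfsg.Spor.Fi22) ∈ φ.ker := by
        rw [h]; exact Subgroup.mem_top _
      exact hm
    rw [hφ] at h1
    apply Lib.FiTwentyTwoRep.mat_zero_ne_one
    rw [← Lib.FiTwentyTwoRep.unitGen_val (by norm_num), h1, Units.val_one]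

end Cfsg.Agent.S5547
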