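import Cfsg.Statements.S5550
import Cfsg.Agent.Lib.Golay.Transitive
import Cfsg.Agent.Lib.Golay.Cosets
import Cfsg.Agent.Lib.Leech.Moves

set_option autoImplicit false
open Cfsg

namespace Cfsg.Agent.S5550

open Cfsg.Agent.Lib
open Cfsg.Agent.Lib.Golay (word IsCodeSet)
open scoped Pointwise symmDiff

theorem comp_symm_word (σ : Equiv.Perm GolayPt) (s : Finset GolayPt) :
    (fun p => word s (σ.symm p)) = word (σ • s) := by
  funext p
  simp only [word]
  congr 1
  rw [← Finset.inv_smul_mem_iff]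
  rfl

/-- The listed elements move every non-zero coset. -/
def movesAll (gs : List (List ℕ)) : Bool :=
  (gs.all Golay.inM24) && (List.range 4095).all fun y => gs.any fun g =>
    !Golay.isCodeMask (Golay.imageMask g ((y + 1) * 4096) ^^^ ((y + 1) * 4096)) &&
      decide (Golay.imageMask g ((y + 1) * 4096) < 2 ^ 24)

theorem checks : movesAll Leech.MoveData.gensAll = true ∧
    movesAll Leech.MoveData.gensOctad = true ∧
    movesAll (Golay.Data.levels12.flatMap fun l => l.2.2) = true ∧
    (Golay.Data.levels12.flatMap fun l => l.2.2).all Golay.inDodecad = true := by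
  decide +kernel

theorem exists_move {gs : List (List ℕ)} (h : movesAll gs = true) {S : Finset GolayPt}
    (hS : ¬ IsCodeSet S) :
    ∃ g ∈ gs, Golay.toPerm g ∈ M24 ∧ ¬ IsCodeSet ((Golay.toPerm g • S) ∆ S) := by
  rw [movesAll, Bool.and_eq_true] at h
  set x := Golay.maskOf S % 4096
  set m := Golay.maskOf S ^^^ Golay.encode x
  have hx : x < 4096 := Nat.mod_lt _ (by norm_num)
  have hm : m < 2 ^ 24 := Nat.xor_lt_two_pow (Golay.maskOf_lt S) (Golay.encode_lt x hx)
  have hSm : Golay.ptsOf m = S ∆ Golay.ptsOf (Golay.encode x) := by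
    rw [Golay.ptsOf_xor, Golay.ptsOf_maskOf]
  have hmod : m % 4096 = 0 := by
    show (Golay.maskOf S ^^^ Golay.encode x) % 2 ^ 12 = 0
    rw [Nat.xor_mod_two_pow, show Golay.encode x % 2 ^ 12 = x from Golay.encode_mod x hx]
    exact Nat.xor_self _
  have hm0 : m ≠ 0 := fun e => hS (by
    rw [e, Golay.ptsOf_zero] at hSm
    rw [symmDiff_eq_bot.mp (hSm.symm.trans Finset.bot_eq_empty.symm)]
    exact Golay.encode_isCodeSet x)
  obtain ⟨g, hg, hb⟩ := List.any_eq_true.mp
    (List.all_eq_true.mp h.2 (m / 4096 - 1) (List.mem_range.mpr (by omega)))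
  rw [show (m / 4096 - 1 + 1) * 4096 = m by omega, Bool.and_eq_true, Bool.not_eq_true',
    decide_eq_true_eq] at hb
  have hv := List.all_eq_true.mp h.1 g hg
  refine ⟨g, hg, Golay.toPerm_mem_M24 hv, fun hc => ?_⟩
  have he := Golay.encode_isCodeSet x
  have hge := Golay.M24_isCodeSet (Golay.toPerm_mem_M24 hv) he
  have : IsCodeSet ((Golay.toPerm g • Golay.ptsOf m) ∆ Golay.ptsOf m) := by
    rw [hSm, Golay.smul_symmDiff_finset, symmDiff_symmDiff_symmDiff_comm]
    exact hc.symmDiff (hge.symmDiff he)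
  rw [Golay.toPerm_smul_ptsOf (Golay.inM24.valid hv), ← Golay.ptsOf_xor] at this
  rw [(Golay.isCodeSet_ptsOf_iff (Nat.xor_lt_two_pow hb.2 hm)).mp this] at hb
  exact Bool.noConfusion hb.1

/-- The stabiliser of the point set fixes no non-zero coset. -/
def Good (s : Finset GolayPt) : Prop :=
  ∀ T : Finset GolayPt, ¬ IsCodeSet T → ∃ σ ∈ M24, σ • s = s ∧ ¬ IsCodeSet ((σ • T) ∆ T)

theorem Good.conj {s : Finset GolayPt} (h : Good s) {g : Equiv.Perm GolayPt} (hg : g ∈ M24) :
    Good (g • s) := by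
  intro T hT
  obtain ⟨σ, hσ, hs, hc⟩ := h (g⁻¹ • T) (by rwa [Golay.M24_isCodeSet_iff (inv_mem hg)])
  refine ⟨g * σ * g⁻¹, mul_mem (mul_mem hg hσ) (inv_mem hg), ?_, ?_⟩
  · rw [mul_smul, mul_smul, inv_smul_smul, hs]
  · rw [← Golay.M24_isCodeSet_iff (inv_mem hg), Golay.smul_symmDiff_finset, mul_smul, mul_smul,
      inv_smul_smul]
    exact hc

theorem Good.compl {s : Finset GolayPt} (h : Good s) : Good sᶜ := by
  intro T hT
  obtain ⟨σ, hσ, hs, hc⟩ := h T hT
  refine ⟨σ, hσ, ?_, hc⟩
  ext p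
  rw [← Finset.inv_smul_mem_iff, Finset.mem_compl, Finset.mem_compl, Finset.inv_smul_mem_iff, hs]

theorem good_all {u : Finset GolayPt} (hu : IsCodeSet u) : Good u := by
  have hall : ∀ {s : Finset GolayPt}, (∀ σ : Equiv.Perm GolayPt, σ • s = s) → Good s := by
    intro s hs T hT
    obtain ⟨g, -, h1, h2⟩ := exists_move checks.1 hT
    exact ⟨_, h1, hs _, h2⟩
  have hoct : Good Leech.octad0 := fun T hT => by
    obtain ⟨g, hg, h1, h2⟩ := exists_move checks.2.1 hT
    exact ⟨_, h1, (Leech.gensOctad_mem g hg).2.2, h2⟩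
  have hdod : Good (Golay.ptsOf Golay.Data.dodecad0) := fun T hT => by
    obtain ⟨g, hg, h1, h2⟩ := exists_move checks.2.2.1 hT
    exact ⟨_, h1, (Subgroup.mem_inf.mp (Golay.toPerm_mem_dodecadGroup
      (List.all_eq_true.mp checks.2.2.2 g hg))).2, h2⟩
  have ho : Leech.octad0 ∈ octads := Golay.mem_octads_of_mask (by decide +kernel)
  rcases Golay.card_isCodeSet hu with h | h | h | h | h
  · rw [Finset.card_eq_zero.mp h]; exact hall fun σ => Finset.smul_finset_empty σ
  · obtain ⟨g, hg, e⟩ := Golay.octads_transitive ho (Golay.mem_octads_iff.mpr ⟨hu, h⟩)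
    exact e ▸ hoct.conj hg
  · obtain ⟨g, hg, e⟩ := Golay.dodecads_transitive Golay.dodecad0_mem
      (Golay.mem_dodecads_iff.mpr ⟨hu, h⟩)
    exact e ▸ hdod.conj hg
  · obtain ⟨g, hg, e⟩ := Golay.octads_transitive ho (o' := uᶜ) (Golay.mem_octads_iff.mpr
      ⟨hu.compl, by rw [Finset.card_compl, Golay.card_golayPt, h]⟩)
    have := (hoct.conj hg).compl
    rwa [e, compl_compl] at this
  · rw [(Finset.card_eq_iff_eq_univ _).mp (h.trans Golay.card_golayPt.symm)]
    exact hall fun σ => Finset.smul_finset_univ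


/-- Let u be a word of the length-24 binary Golay code of the definitions (possibly zero or all-ones) and w any binary word of length 24 outside the code. Then some automorphism of the code (a coordinate permutation preserving it) fixes u but moves w to a word not congruent to w modulo the code: the stabilizer of a codeword fixes no non-zero element of the quotient of the space of all words by the code. -/
theorem result (u : (Cfsg.GolayPt → ZMod 2)) (hu : u ∈ Cfsg.golayCode) (w : (Cfsg.GolayPt → ZMod 2)) (hw : w ∉ Cfsg.golayCode) : ∃ σ ∈ Cfsg.M24, (fun p => u (σ.symm p)) = u ∧ (fun p => w (σ.symm p)) - w ∉ Cfsg.golayCode := by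
  have hT : ¬ IsCodeSet (support₂ w) := fun h => hw (Golay.mem_golayCode_iff.mpr h)
  obtain ⟨σ, hσ, hs, hc⟩ := good_all (Golay.mem_golayCode_iff.mp hu) _ hT
  refine ⟨σ, hσ, ?_, fun h => hc ?_⟩
  · rw [← Golay.word_support₂ u, comp_symm_word, hs]
  · rw [← Golay.word_support₂ w, comp_symm_word, Golay.sub_mem_iff, Golay.support₂_word,
      Golay.support₂_word] at h
    exact h

end Cfsg.Agent.S5550
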