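import Cfsg.Statements.S5562
import Mathlib

set_option autoImplicit false
open Pointwise
open Cfsg

namespace Cfsg.Agent.S5562

/-- Let G be a finite group, d an involution of G whose conjugates pairwise have products of odd order, and x any involution of G. Then the conjugacy class of d is the disjoint union, over the conjugates a of d commuting with x, of the sets of conjugates of d commuting with ax: every conjugate of d commutes with ax for exactly one conjugate a of d that commutes with x. -/
theorem result {G : Type*} [Group G] [Finite G] (d : G) (hd : orderOf d = 2)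
    (hodd : ∀ a ∈ conjugatesOf d, ∀ b ∈ conjugatesOf d, Odd (orderOf (a * b)))
    (x : G) (hx : orderOf x = 2) :
    ∀ e ∈ conjugatesOf d,
      ∃! a : G, a ∈ conjugatesOf d ∧ Commute a x ∧ Commute e (a * x) := by
  intro e he
  have hD : ∀ a ∈ conjugatesOf d, ∀ g : G, g * a * g⁻¹ ∈ conjugatesOf d := by
    intro a ha g
    exact IsConj.trans (ha) (isConj_iff.2 ⟨g, rfl⟩)
  have hsq : ∀ a ∈ conjugatesOf d, a * a = 1 := by
    intro a ha
    obtain ⟨c, rfl⟩ := isConj_iff.1 (ha)
    have : d * d = 1 := by rw [← pow_two]; rw [← hd]; exact pow_orderOf_eq_one d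
    calc c * d * c⁻¹ * (c * d * c⁻¹) = c * (d * d) * c⁻¹ := by group
      _ = 1 := by rw [this]; group
  have hxx : x * x = 1 := by rw [← pow_two, ← hx]; exact pow_orderOf_eq_one x
  have hxi : x⁻¹ = x := inv_eq_of_mul_eq_one_right hxx
  have hee := hsq e he
  have hei : e⁻¹ = e := inv_eq_of_mul_eq_one_right hee
  obtain ⟨f, hf⟩ : ∃ f, f = x * e * x := ⟨_, rfl⟩
  have hfD : f ∈ conjugatesOf d := by
    have := hD e he x; rwa [hxi, ← hf] at this
  have hff := hsq f hfD
  have hxe : x * e = f * x := by rw [hf]; simp [mul_assoc, hxx]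
  have hxf : x * f = e * x := by rw [hf]; simp [← mul_assoc, hxx]
  obtain ⟨w, hw⟩ : ∃ w, w = e * f := ⟨_, rfl⟩
  obtain ⟨k, hk⟩ : ∃ k : ℕ, orderOf w = 2 * k + 1 := hw ▸ hodd e he f hfD
  have hwn : w ^ (2 * k + 1) = 1 := hk ▸ pow_orderOf_eq_one w
  have hew : e * w = f := by rw [hw, ← mul_assoc, hee, one_mul]
  have hwinv : e * w * e = w⁻¹ := by
    rw [eq_inv_iff_mul_eq_one]
    calc e * w * e * w = (e * w) * (e * w) := by group
      _ = 1 := by rw [hew, hff]
  have hwinvj : ∀ j : ℕ, e * w ^ j * e = (w ^ j)⁻¹ := by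
    intro j
    have := (conj_pow (i := j) (a := e) (b := w)).symm
    rw [hei, hwinv, inv_pow] at this
    exact this
  have hxw : x * w * x = w⁻¹ := by
    rw [eq_inv_iff_mul_eq_one, hw]
    calc x * (e * f) * x * (e * f) = (x * e) * (f * x) * (e * f) := by group
      _ = (f * x) * (x * e) * (e * f) := by rw [hxe]
      _ = f * (x * x) * (e * e) * f := by group
      _ = 1 := by rw [hxx, hee, mul_one, mul_one, hff]
  have hxwj : ∀ j : ℕ, x * w ^ j * x = (w ^ j)⁻¹ := by
    intro j
    have := (conj_pow (i := j) (a := x) (b := w)).symm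
    rw [hxi, hxw, inv_pow] at this
    exact this
  -- existence
  have key : ∀ i : ℕ, (w ^ i)⁻¹ * e * w ^ i = e * w ^ (2 * i) := by
    intro i
    rw [← hwinvj i, two_mul, pow_add]
    calc e * w ^ i * e * e * w ^ i = e * w ^ i * (e * e) * w ^ i := by group
      _ = e * (w ^ i * w ^ i) := by rw [hee]; group
  have hk1 : w ^ (2 * ((k+1) * (k+1))) = w ^ (k+1) := by
    have : 2 * ((k+1) * (k+1)) = (2 * k + 1) * (k + 1) + (k + 1) := by ring
    rw [this, pow_add, pow_mul, hwn, one_pow, one_mul]
  have h4 : w ^ (k+1) * w ^ (k+1) = w := by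
    rw [← pow_add, show k + 1 + (k + 1) = (2 * k + 1) + 1 by omega, pow_succ, hwn, one_mul]
  obtain ⟨b, hbD, hbx, hbe⟩ : ∃ b, b ∈ conjugatesOf d ∧
      Commute b x ∧ b * f * b = e := by
    refine ⟨e * w ^ (k+1), ?_, ?_, ?_⟩
    · have := hD e he (w ^ ((k+1)*(k+1)))⁻¹
      rwa [inv_inv, key, hk1] at this
    · show (e * w ^ (k+1)) * x = x * (e * w ^ (k+1))
      have h5 : w * (w ^ (k+1))⁻¹ = w ^ (k+1) := by rw [mul_inv_eq_iff_eq_mul, h4]
      symm
      calc x * (e * w ^ (k+1)) = (x * e) * w ^ (k+1) * (x * x) := by rw [hxx]; group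
        _ = f * (x * w ^ (k+1) * x) * x := by rw [hxe]; group
        _ = _ := by rw [hxwj, ← hew, mul_assoc e w, h5]
    · calc e * w ^ (k+1) * f * (e * w ^ (k+1)) = (e * w ^ (k+1) * e) * w * e * w ^ (k+1) := by
            rw [← hew]; group
        _ = (w ^ (k+1))⁻¹ * (w ^ (k+1) * w ^ (k+1)) * e * w ^ (k+1) := by rw [hwinvj, h4]
        _ = w ^ (k+1) * e * w ^ (k+1) := by group
        _ = (w ^ (k+1) * (e * w ^ (k+1) * e)) * e := by simp [mul_assoc, hee]
        _ = e := by rw [hwinvj]; group
  have hbb := hsq b hbD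
  refine ⟨b, ⟨hbD, hbx, ?_⟩, ?_⟩
  · show e * (b * x) = b * x * e
    calc e * (b * x) = b * f * b * (b * x) := by rw [hbe]
      _ = b * f * (b * b) * x := by group
      _ = b * (f * x) := by rw [hbb]; group
      _ = _ := by rw [← hxe]; group
  · rintro a ⟨haD, hax, hae⟩
    have haa := hsq a haD
    have haf : a * f * a = e := by
      rw [hf]
      calc a * (x * e * x) * a = (a * x) * e * (x * a) := by group
        _ = (a * x) * e * (a * x) := by rw [hax.eq]
        _ = e * ((a * x) * (a * x)) := by rw [← hae.eq]; group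
        _ = e * (a * (x * a) * x) := by group
        _ = e := by rw [← hax.eq]; simp [mul_assoc, hxx, haa]
    obtain ⟨u, hu⟩ : ∃ u, u = a * b := ⟨_, rfl⟩
    have hai : a⁻¹ = a := inv_eq_of_mul_eq_one_right haa
    have hue : e * u * e⁻¹ = u := by
      have h1 : u * e = e * u := by
        calc u * e = a * b * (b * f * b) := by rw [hu, hbe]
          _ = a * (b * b) * f * b := by group
          _ = a * f * (a * a) * b := by rw [hbb, haa]; group
          _ = (a * f * a) * (a * b) := by group
          _ = e * u := by rw [haf, ← hu]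
      rw [← h1]; group
    have hua : a * u * a⁻¹ = u⁻¹ := by
      rw [eq_inv_iff_mul_eq_one, hai, hu]
      calc a * (a * b) * a * (a * b) = (a * a) * b * (a * a) * b := by group
        _ = 1 := by rw [haa]; simp [hbb]
    obtain ⟨m, hm⟩ := hodd a haD e he
    have hv : a * e * u * (a * e)⁻¹ = u⁻¹ := by
      calc a * e * u * (a * e)⁻¹ = a * (e * u * e⁻¹) * a⁻¹ := by group
        _ = u⁻¹ := by rw [hue, hua]
    have hvp : ∀ i : ℕ, (a * e) ^ i * u * ((a * e) ^ i)⁻¹ = if Even i then u else u⁻¹ := by
      intro i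
      induction i with
      | zero => simp
      | succ n ih =>
        calc (a*e) ^ (n+1) * u * ((a*e) ^ (n+1))⁻¹
            = (a*e) * ((a*e) ^ n * u * ((a*e) ^ n)⁻¹) * (a*e)⁻¹ := by
              rw [pow_succ', mul_inv_rev]; simp only [mul_assoc]
          _ = _ := by
              rw [ih]
              by_cases h : Even n
              · rw [if_pos h, if_neg (by simp [Nat.even_add_one, h]), hv]
              · rw [if_neg h, if_pos (by simpa [Nat.even_add_one] using h)]
                calc a * e * u⁻¹ * (a * e)⁻¹ = (a * e * u * (a * e)⁻¹)⁻¹ := by group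
                  _ = u := by rw [hv, inv_inv]
    have h2 : u = u⁻¹ := by
      have := hvp (orderOf (a * e))
      rw [pow_orderOf_eq_one, if_neg (by rw [hm]; simp)] at this
      simpa using this
    have h3 : u ^ 2 = 1 := by rw [pow_two]; nth_rewrite 1 [h2]; exact inv_mul_cancel u
    have h4 : u = 1 := by
      obtain ⟨n, hn⟩ := hodd a haD b hbD
      rw [← hu] at hn
      have := pow_orderOf_eq_one u
      rwa [hn, pow_succ, pow_mul, h3, one_pow, one_mul] at this
    calc a = (a * b) * b := by rw [mul_assoc, hbb, mul_one]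
      _ = b := by rw [← hu, h4, one_mul]

end Cfsg.Agent.S5562
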