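import Cfsg.Statements.S5576
import Cfsg.Agent.Lib.J4Eleven90.Assembly
import Cfsg.Agent.Lib.J4Eleven90.Model68
import Cfsg.Agent.Lib.J4Iso59.Iso
import Cfsg.Agent.S5569
import Cfsg.Agent.S5572
import Cfsg.Agent.S5573

set_option autoImplicit false
open Cfsg

namespace Cfsg.Agent.S5576

/-- Let G be a finite non-abelian simple group of Janko-four type (an involution z whose centralizer H has an extraspecial largest normal 2-subgroup E of order 2^13 containing its centralizer in H, a normal subgroup N ≥ E of H with N/E of order 3 and H/N the automorphism group of M₂₂, and a subgroup P ≤ N of order 3 with C_E(P) = ⟨z⟩, N_H(P) ≠ C_H(P) and P ≤ C_H(P)′). Then G has exactly two conjugacy classes of elements of order 11. -/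
theorem result {G : Type*} [Group G] [Finite G] [IsSimpleGroup G] (hG : ¬ IsMulCommutative G) (hJ : Cfsg.IsOfJankoFourType G) :
    ∃ x y : G, orderOf x = 11 ∧ orderOf y = 11 ∧ ¬ IsConj x y ∧ ∀ w : G, orderOf w = 11 → IsConj w x ∨ IsConj w y := by
  obtain ⟨z, hz⟩ := hJ
  obtain ⟨f⟩ := Cfsg.Agent.Lib.J4Iso59.iso G ⟨z, hz⟩
  obtain ⟨F, ⟨W⟩⟩ := Cfsg.Agent.Lib.J4Eleven90.inputs hG hz
    { two := fun t ht hnc => Cfsg.Agent.S5569.result hG z hz t ht hnc
      five := fun Q hQ hQz =>
        ⟨(Cfsg.Agent.S5572.result hG z hz Q hQ hQz).1, (Cfsg.Agent.S5572.result hG z hz Q hQ hQz).2.1⟩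
      seven := fun S hS hSz =>
        ⟨(Cfsg.Agent.S5573.result hG z hz S hS hSz).1, (Cfsg.Agent.S5573.result hG z hz S hS hSz).2.1⟩ }
    f.symm Cfsg.Agent.Lib.J4Eleven90.witness_model
  exact Cfsg.Agent.Lib.J4Eleven90.two_classes F W

end Cfsg.Agent.S5576
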