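import Cfsg.Statements.S5577
import Cfsg.Agent.Lib.J4Iso59.Iso
import Cfsg.Agent.Lib.J4Large96.Main
import Cfsg.Agent.S5569
import Cfsg.Agent.S5572
import Cfsg.Agent.S5573
-- import your own Cfsg.Agent.* helpers here

set_option autoImplicit false
open Cfsg

namespace Cfsg.Agent.S5577

/-- Let G be a finite non-abelian simple group of Janko-four type (an involution z whose centralizer H has an extraspecial largest normal 2-subgroup E of order 2^13 containing its centralizer in H, a normal subgroup N ≥ E of H with N/E of order 3 and H/N the automorphism group of M₂₂, and a subgroup P ≤ N of order 3 with C_E(P) = ⟨z⟩, N_H(P) ≠ C_H(P) and P ≤ C_H(P)′). Then for p = 23, 29, 31, 37 and 43 every Sylow p-subgroup of G is self-centralizing, with normalizer of order 23·22, 29·28, 31·10, 37·12 and 43·14 respectively. -/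
theorem result {G : Type*} [Group G] [Finite G] [IsSimpleGroup G] (hG : ¬ IsMulCommutative G) (hJ : Cfsg.IsOfJankoFourType G) :
    (∀ U : Sylow 23 G, Subgroup.centralizer ((U : Subgroup G) : Set G) = (U : Subgroup G) ∧ Nat.card ↥(Subgroup.normalizer ((U : Subgroup G) : Set G)) = 23 * 22) ∧
    (∀ U : Sylow 29 G, Subgroup.centralizer ((U : Subgroup G) : Set G) = (U : Subgroup G) ∧ Nat.card ↥(Subgroup.normalizer ((U : Subgroup G) : Set G)) = 29 * 28) ∧
    (∀ U : Sylow 31 G, Subgroup.centralizer ((U : Subgroup G) : Set G) = (U : Subgroup G) ∧ Nat.card ↥(Subgroup.normalizer ((U : Subgroup G) : Set G)) = 31 * 10) ∧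
    (∀ U : Sylow 37 G, Subgroup.centralizer ((U : Subgroup G) : Set G) = (U : Subgroup G) ∧ Nat.card ↥(Subgroup.normalizer ((U : Subgroup G) : Set G)) = 37 * 12) ∧
    (∀ U : Sylow 43 G, Subgroup.centralizer ((U : Subgroup G) : Set G) = (U : Subgroup G) ∧ Nat.card ↥(Subgroup.normalizer ((U : Subgroup G) : Set G)) = 43 * 14) := by
  obtain ⟨z, P, hW⟩ := hJ
  have hA : Cfsg.IsOfJankoFourTypeAt z := ⟨P, hW⟩
  refine Cfsg.Agent.Lib.J4Large96.large_primes_of_iso hG
    (Cfsg.Agent.Lib.J4Iso59.iso G ⟨z, P, hW⟩) z P hW (fun t ht hnc => ?_)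
    (fun Q hQ hQz => ?_) (fun S hS hSz => ?_)
  · obtain ⟨V, K, h1, h2, h3, -, h5, h6, h7, h8⟩ := Cfsg.Agent.S5569.result hG z hA t ht hnc
    exact ⟨V, K, h1, h2, h3, h5, h6, h7, h8⟩
  · have h := Cfsg.Agent.S5572.result hG z hA Q hQ hQz
    exact ⟨h.1, h.2.2.2⟩
  · have h := Cfsg.Agent.S5573.result hG z hA S hS hSz
    exact ⟨h.1, h.2.2.2⟩

end Cfsg.Agent.S5577
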