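import Cfsg.Statements.S5588
import Cfsg.Agent.Lib.Y555.Main

set_option autoImplicit false
open Cfsg

namespace Cfsg.Agent.S5588

open Cfsg.Agent.Lib.CosetTable Cfsg.Agent.Lib.Y555

/-- the nodes in the order of the library -/
def node (n : ℕ) : Cfsg.Spor.Bimonster.Gen :=
  [.a, .b1, .c1, .d1, .e1, .f1, .b2, .c2, .d2, .e2, .f2, .b3, .c3, .d3, .e3, .f3].getD n .a

/-- the presentation by the graph and the spider relation -/
def presY : Pres Cfsg.Spor.Bimonster.Gen where
  k := 16
  gen := node
  idx
    | .a => 0 | .b1 => 1 | .c1 => 2 | .d1 => 3 | .e1 => 4 | .f1 => 5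
    | .b2 => 6 | .c2 => 7 | .d2 => 8 | .e2 => 9 | .f2 => 10
    | .b3 => 11 | .c3 => 12 | .d3 => 13 | .e3 => 14 | .f3 => 15
  edges := Cfsg.Spor.Bimonster.edges
  extraE := [spiderE]
  subsE := []

theorem presY_good : presY.Good where
  gen_idx x := by cases x <;> rfl
  idx_lt x := by cases x <;> decide
  idx_gen := by decide
  mem_nodes x := by cases x <;> decide

/-- the single further relator -/
def extraY : List (FreeGroup Cfsg.Spor.Bimonster.Gen) := presY.extraE.map (WExp.free presY.gen)

/-- the presented group -/
abbrev TY : Type := presY.Grp extraY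

/-- the words of the relators, as a certificate without data -/
def certY : Cert where
  k := 16
  rels := presY.relWords
  subs := []
  rules := .leaf 16 [] 0 0
  facts := .leaf 0
  defs := .leaf 0

theorem modelY : Model (presY.gens extraY) certY :=
  Pres.model presY_good rfl rfl rfl (by decide +kernel)

theorem exists_par : ∃ π : TY →* Multiplicative (ZMod 2),
    ∀ g, g < 16 → π (presY.gens extraY g) = Multiplicative.ofAdd 1 := by
  have hc : ∀ w : List ℕ, eval (fun _ => Multiplicative.ofAdd (1 : ZMod 2)) w =
      Multiplicative.ofAdd ((w.length : ℕ) : ZMod 2) := by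
    intro w
    induction w with
    | nil => simp [eval]
    | cons a w ih =>
      simp only [eval, ih, List.length_cons, Nat.cast_add, Nat.cast_one, ofAdd_add]
  refine Pres.exists_hom presY_good rfl _ (fun _ _ => by decide) (by decide +kernel) ?_
  intro w hw
  have h : ∀ w ∈ presY.relWords, ((w.length : ℕ) : ZMod 2) = 0 := by decide +kernel
  rw [hc, h w hw, ofAdd_zero]

theorem rel_gens : ∀ w ∈ relW, eval (presY.gens extraY) w = 1 := by
  have key : ∀ w ∈ relW, w ∈ presY.relWords ∨ w.reverse ∈ presY.relWords ∨
      w = Cert.rotate spiderWord 3 ∨ w = Cert.rotate spiderWord 6 := by decide +kernel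
  have hlt : ∀ w ∈ relW, ∀ a ∈ w, a < 16 := by decide +kernel
  have hs : eval (presY.gens extraY) spiderWord = 1 := modelY.rel _ (by decide +kernel)
  intro w hw
  rcases key w hw with h | h | rfl | rfl
  · exact modelY.rel _ h
  · have := modelY.rel _ h
    rwa [eval_reverse _ _ (fun a ha => Pres.gens_invol presY_good a), inv_eq_one] at this
  · exact eval_rotate _ _ _ hs
  · exact eval_rotate _ _ _ hs

/-- the end node of an arm as a power of a product of nodes -/
theorem arm_rel (D : Data TY) (m : ℕ) (hm : m < 3) (P : List ℕ)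
    (hP : (List.replicate 9 P.reverse).flatten ∈
      centralWords.map fun v => (v.map fun a => sigA.getD a 0).map (tau^[m])) :
    D.f (tau^[m] 5) = (P.map D.f).prod ^ 9 := by
  have e : (P.map D.f).prod ^ 9 = eval D.f (List.replicate 9 P.reverse).flatten := by
    rw [eval_flatten, eval_eq_prod_reverse, List.reverse_reverse]
  rw [e]
  obtain ⟨v, hv, hu⟩ := List.mem_map.mp hP
  rw [← hu]
  have hm' : v.map (fun a => sigA.getD a 0) ∈
      centralWords.map (List.map fun a => sigA.getD a 0) := List.mem_map_of_mem hv
  interval_cases m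
  · simp only [Function.iterate_zero, id_eq, List.map_id]
    exact D.last_eq.trans (D.eval_central hm').symm
  · simp only [Function.iterate_one]
    rw [← eval_map tau _ (f := D.f)]
    exact D.shift.last_eq.trans (D.shift.eval_central hm').symm
  · rw [show (tau^[2] : ℕ → ℕ) = tau ∘ tau from rfl, ← List.map_map, ← D.eval_shift2]
    exact D.shift.shift.last_eq.trans (D.shift.shift.eval_central hm').symm

/-- a word in a presented group -/
theorem mk_eq_lift {α : Type} (R : Set (FreeGroup α)) (r : FreeGroup α) :
    PresentedGroup.mk R r = FreeGroup.lift (fun x => (PresentedGroup.of x : PresentedGroup R)) r := by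
  have h : FreeGroup.lift (fun x => (PresentedGroup.of x : PresentedGroup R)) =
      PresentedGroup.mk R := by
    ext x; simp [PresentedGroup.of]
  rw [h]

theorem gens_eq (n : ℕ) : presY.gens extraY n = PresentedGroup.of (node n) := rfl

theorem extraY_eq : extraY = [(Cfsg.Spor.Bimonster.a * Cfsg.Spor.Bimonster.b1 *
    Cfsg.Spor.Bimonster.c1 * Cfsg.Spor.Bimonster.a * Cfsg.Spor.Bimonster.b2 *
    Cfsg.Spor.Bimonster.c2 * Cfsg.Spor.Bimonster.a * Cfsg.Spor.Bimonster.b3 *
    Cfsg.Spor.Bimonster.c3) ^ 10] := rfl

/-- In the group presented by the sixteen involutions of the Y₅₅₅ Coxeter diagram subject only to the Coxeter relations and the single spider relation (a b₁ c₁ a b₂ c₂ a b₃ c₃)^10 = 1, each of the further relators used in the definitions' presentation of the Bimonster (each end node equals the ninth power of the Coxeter element of a sub-diagram of type E₇) already holds. Equivalently, the Y₅₅₅ diagram with the spider relation alone presents the Bimonster. -/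
theorem result :
    ∀ r ∈ Cfsg.Spor.Bimonster.extra,
      (PresentedGroup.mk (Cfsg.Spor.coxRelators Cfsg.Spor.Bimonster.edges ∪ {r' | r' ∈ [(Cfsg.Spor.Bimonster.a * Cfsg.Spor.Bimonster.b1 * Cfsg.Spor.Bimonster.c1 * Cfsg.Spor.Bimonster.a * Cfsg.Spor.Bimonster.b2 * Cfsg.Spor.Bimonster.c2 * Cfsg.Spor.Bimonster.a * Cfsg.Spor.Bimonster.b3 * Cfsg.Spor.Bimonster.c3) ^ 10]}) r) = 1 := by
  obtain ⟨par, hpar⟩ := exists_par
  let D : Data TY := ⟨presY.gens extraY, rel_gens, par, hpar⟩
  intro r hr
  rw [← extraY_eq, mk_eq_lift]
  simp only [Cfsg.Spor.Bimonster.extra, List.mem_cons, List.not_mem_nil, or_false] at hr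
  rcases hr with rfl | rfl | rfl | rfl | rfl | rfl | rfl
  · rw [← mk_eq_lift]
    refine PresentedGroup.one_of_mem (Or.inr ?_)
    show _ ∈ extraY
    rw [extraY_eq]
    exact List.mem_singleton.mpr rfl
  all_goals rw [map_mul, map_inv, map_pow, mul_inv_eq_one]
  all_goals simp only [map_mul, FreeGroup.lift_apply_of]
  · have h := arm_rel D 0 (by norm_num) [0, 1, 6, 11, 2, 7, 3] (by decide +kernel)
    simp only [List.map_cons, List.map_nil, List.prod_cons, List.prod_nil, mul_one,
      ← mul_assoc, D, gens_eq] at h
    exact h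
  · have h := arm_rel D 0 (by norm_num) [0, 1, 11, 6, 2, 12, 3] (by decide +kernel)
    simp only [List.map_cons, List.map_nil, List.prod_cons, List.prod_nil, mul_one,
      ← mul_assoc, D, gens_eq] at h
    exact h
  · have h := arm_rel D 1 (by norm_num) [0, 6, 1, 11, 7, 2, 8] (by decide +kernel)
    simp only [List.map_cons, List.map_nil, List.prod_cons, List.prod_nil, mul_one,
      ← mul_assoc, D, gens_eq] at h
    exact h
  · have h := arm_rel D 1 (by norm_num) [0, 6, 11, 1, 7, 12, 8] (by decide +kernel)
    simp only [List.map_cons, List.map_nil, List.prod_cons, List.prod_nil, mul_one,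
      ← mul_assoc, D, gens_eq] at h
    exact h
  · have h := arm_rel D 2 (by norm_num) [0, 11, 1, 6, 12, 2, 13] (by decide +kernel)
    simp only [List.map_cons, List.map_nil, List.prod_cons, List.prod_nil, mul_one,
      ← mul_assoc, D, gens_eq] at h
    exact h
  · have h := arm_rel D 2 (by norm_num) [0, 11, 6, 1, 12, 7, 13] (by decide +kernel)
    simp only [List.map_cons, List.map_nil, List.prod_cons, List.prod_nil, mul_one,
      ← mul_assoc, D, gens_eq] at h
    exact h

end Cfsg.Agent.S5588
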