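import Cfsg.Statements.S5596
import Mathlib
import Cfsg.Agent.Lib.LargeExtra.Setting
-- import your own Cfsg.Agent.* helpers here

set_option autoImplicit false
open Cfsg

namespace Cfsg.Agent.S5596

/-- Setting: `z` is an involution of the finite group `G`; for each element `x`, `Q x` is the largest normal 2-subgroup of the centralizer of `x`; `Q z` is extraspecial and contains its own centralizer in `G`. A subgroup `U` is singular when it is elementary abelian, every non-identity element of `U` is conjugate to `z`, and any two non-identity elements `u`, `v` of `U` are orthogonal (`v ∈ Q u`). Write `QU` for the intersection of the `Q u` and `LU` for the join of the `Q u` over the non-identity `u` in `U`. If `U` is singular of order `2 ^ n` with `n ≥ 2`, then `U ≤ QU ≤ LU`, `LU` normalizes `U`, and `LU` induces on `U` its full automorphism group (the general linear group of dimension `n` over the field with two elements): every automorphism of `U` is conjugation by some element of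 `LU`. -/
theorem result {G : Type*} [Group G] [Finite G]
    (Q : G → Subgroup G)
    (hQ : ∀ x : G, Q x = (Cfsg.pCore 2 ↥(Subgroup.centralizer ({x} : Set G))).map (Subgroup.centralizer ({x} : Set G)).subtype)
    (z : G) (hz : orderOf z = 2) (hE : Cfsg.IsExtraspecial 2 ↥(Q z))
    (hC : Subgroup.centralizer ((Q z : Subgroup G) : Set G) ≤ Q z)
    (U : Subgroup G) (hU2 : ∀ u ∈ U, u * u = 1)
    (hS : ∀ u ∈ U, u ≠ 1 → ∃ g : G, g * z * g⁻¹ = u)
    (hO : ∀ u ∈ U, ∀ v ∈ U, u ≠ 1 → v ≠ 1 → v ∈ Q u)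
    (QU LU : Subgroup G) (hQU : QU = ⨅ u ∈ ((U : Set G) \ {1}), Q u) (hLU : LU = ⨆ u ∈ ((U : Set G) \ {1}), Q u)
    (n : ℕ) (hn : 2 ≤ n) (hcard : Nat.card ↥U = 2 ^ n) :
    U ≤ QU ∧ QU ≤ LU ∧ LU ≤ Subgroup.normalizer (U : Set G) ∧
      ∀ φ : ↥U ≃* ↥U, ∃ g ∈ LU, ∀ u : ↥U, g * (u : G) * g⁻¹ = ((φ u : ↥U) : G) := by
  have hQ' : Lib.LargeExtra.IsCoreMap Q := hQ
  have hgood : ∀ g : G, Lib.LargeExtra.Good (Q (g * z * g⁻¹)) (g * z * g⁻¹) :=
    hQ'.good_conj hz hE hC
  have hUg : ∀ u ∈ U, u ≠ 1 → Lib.LargeExtra.Good (Q u) u := by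
    intro u hu hu1
    obtain ⟨g, rfl⟩ := hS u hu hu1
    exact hgood g
  have hUU : ∀ u ∈ U, u ≠ 1 → ∀ v ∈ U, v ∈ Q u := by
    intro u hu hu1 v hv
    by_cases hv1 : v = 1
    · exact hv1 ▸ (Q u).one_mem
    · exact hO u hu v hv hu1 hv1
  have memQU : ∀ {x : G}, x ∈ QU ↔ ∀ u ∈ U, u ≠ 1 → x ∈ Q u := by
    intro x
    simp [hQU, Subgroup.mem_iInf]
  have hgen : ∀ u ∈ U, u ≠ 1 → ∀ g ∈ Q u, ∀ v ∈ Q u, g * v * g⁻¹ * v⁻¹ ∈ U := by
    intro u hu hu1 g hg v hv
    rcases (hUg u hu hu1).comm g hg v hv with e | e <;> rw [e]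
    · rw [mul_inv_cancel]; exact U.one_mem
    · rw [(hUg u hu hu1).le_cent v hv, mul_inv_cancel_right]; exact hu
  have hLN : LU ≤ Subgroup.normalizer (U : Set G) := by
    rw [hLU]
    refine iSup₂_le fun u hu => fun g hg => ?_
    obtain ⟨huU, hu1⟩ : u ∈ U ∧ u ≠ 1 := by simpa using hu
    have key : ∀ h ∈ Q u, ∀ v ∈ U, h * v * h⁻¹ ∈ U := by
      intro h hh v hv
      simpa using mul_mem (hgen u huU hu1 h hh v (hUU u huU hu1 v hv)) hv
    rw [Subgroup.mem_normalizer_iff]
    refine fun v => ⟨key g hg v, fun hv => ?_⟩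
    have := key g⁻¹ (inv_mem hg) _ hv
    simpa [mul_assoc] using this
  obtain ⟨u₀, hu₀, hu₀1⟩ : ∃ u ∈ U, u ≠ 1 := by
    by_contra hno
    push Not at hno
    have hb : U = ⊥ := (Subgroup.eq_bot_iff_forall U).2 hno
    have : 2 ^ 2 ≤ 2 ^ n := Nat.pow_le_pow_right (by norm_num) hn
    rw [← hcard, hb, Subgroup.card_bot] at this
    omega
  have hQle : ∀ u ∈ U, u ≠ 1 → Q u ≤ LU := by
    intro u hu hu1
    rw [hLU]
    exact le_iSup₂_of_le u (by simp [hu, hu1]) le_rfl
  refine ⟨fun x hx => memQU.2 fun u hu hu1 => hUU u hu hu1 x hx,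
    fun x hx => hQle u₀ hu₀ hu₀1 (memQU.1 hx u₀ hu₀ hu₀1), hLN, fun φ => ?_⟩
  have hconj : ∀ g ∈ LU, ∀ v ∈ U, g * v * g⁻¹ ∈ U :=
    fun g hg v hv => (Subgroup.mem_normalizer_iff.1 (hLN hg) v).1 hv
  -- extend agreement subgroup by subgroup
  suffices h : ∀ S : Subgroup ↥U, ∃ g ∈ LU, ∀ u ∈ S, g * (u : G) * g⁻¹ = ((φ u : ↥U) : G) by
    obtain ⟨g, hg, he⟩ := h ⊤
    exact ⟨g, hg, fun u => he u (Subgroup.mem_top u)⟩
  intro S
  induction S using WellFoundedLT.induction with
  | ind S ih =>
    by_cases hS1 : S = ⊥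
    · refine ⟨1, LU.one_mem, fun u hu => ?_⟩
      rw [hS1, Subgroup.mem_bot] at hu
      simp [hu]
    -- a maximal proper subgroup of S and an element outside it
    obtain ⟨T, hT, hTmax⟩ : ∃ T, T < S ∧ ∀ T', T' < S → ¬ T < T' := by
      obtain ⟨T, hT, hmax⟩ := WellFounded.has_min (wellFounded_gt (α := Subgroup ↥U))
        {T | T < S} ⟨⊥, bot_lt_iff_ne_bot.2 hS1⟩
      exact ⟨T, hT, fun T' h1 h2 => hmax T' h1 h2⟩
    obtain ⟨g, hg, hgT⟩ := ih T hT
    obtain ⟨s, hsS, hsT⟩ := SetLike.exists_of_lt hT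
    have hspan : S = T ⊔ Subgroup.zpowers s := by
      have hle : T ⊔ Subgroup.zpowers s ≤ S := sup_le hT.le (Subgroup.zpowers_le.2 hsS)
      refine (hle.eq_or_lt.resolve_right fun hlt => hTmax _ hlt ?_).symm
      exact lt_of_le_not_ge le_sup_left
        (fun hh => hsT (hh (Subgroup.mem_sup_right (Subgroup.mem_zpowers s))))
    -- it suffices to agree on T and on s
    suffices h : ∃ k ∈ LU, (∀ u ∈ T, k * (u : G) * k⁻¹ = ((φ u : ↥U) : G)) ∧
        k * (s : G) * k⁻¹ = ((φ s : ↥U) : G) by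
      obtain ⟨k, hk, hkT, hks⟩ := h
      refine ⟨k, hk, fun u hu => ?_⟩
      let E : Subgroup ↥U :=
        { carrier := {u | k * (u : G) * k⁻¹ = ((φ u : ↥U) : G)}
          one_mem' := by simp
          mul_mem' := by
            intro a b ha hb
            show k * ((a : G) * b) * k⁻¹ = ((φ (a * b) : ↥U) : G)
            rw [map_mul, Subgroup.coe_mul, ← ha, ← hb]
            group
          inv_mem' := by
            intro a ha
            show k * ((a : G)⁻¹) * k⁻¹ = ((φ a⁻¹ : ↥U) : G)
            rw [map_inv, Subgroup.coe_inv, ← ha]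
            group }
      rw [hspan] at hu
      exact (sup_le (show T ≤ E from hkT) (Subgroup.zpowers_le.2 (show s ∈ E from hks))) hu
    let v : G := g * (s : G) * g⁻¹
    let w : G := ((φ s : ↥U) : G)
    have hvU : v ∈ U := hconj g hg _ s.2
    have hwU : w ∈ U := (φ s).2
    by_cases hvw : v = w
    · exact ⟨g, hg, hgT, hvw⟩
    have hw2 : w * w = 1 := hU2 w hwU
    have hv2 : v * v = 1 := hU2 v hvU
    have hu0 : v * w ∈ U := mul_mem hvU hwU
    have hu1 : v * w ≠ 1 := fun e => hvw (by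
      calc v = v * w * w := by rw [mul_assoc, hw2, mul_one]
        _ = w := by rw [e, one_mul])
    have hG := hUg _ hu0 hu1
    let T' : Subgroup G := (T.map φ.toMonoidHom).map U.subtype
    have hT'U : T' ≤ U := Subgroup.map_subtype_le _
    have hT'w : w ∉ T' := by
      rintro ⟨a, ⟨t, ht, rfl⟩, hta⟩
      exact hsT (by
        have : φ t = φ s := Subtype.ext hta
        rwa [φ.injective this] at ht)
    -- the subgroup T' ⊔ ⟨v w⟩
    let R : Subgroup G := T' ⊔ Subgroup.zpowers (v * w)
    have hRQ : R ≤ Q (v * w) :=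
      sup_le (hT'U.trans (fun a ha => hUU _ hu0 hu1 a ha)) (Subgroup.zpowers_le.2 hG.x_mem)
    have hvT' : v ∉ T' := by
      rintro ⟨a, ⟨t, ht, rfl⟩, hta⟩
      apply hsT
      have h1 : g * (t : G) * g⁻¹ = g * (s : G) * g⁻¹ := (hgT t ht).trans hta
      rwa [Subtype.ext (mul_left_cancel (mul_right_cancel h1))] at ht
    have hcomm : ∀ a ∈ U, ∀ b ∈ U, a * b = b * a := by
      intro a ha b hb
      have ha' : a⁻¹ = a := inv_eq_of_mul_eq_one_right (hU2 a ha)
      have hb' : b⁻¹ = b := inv_eq_of_mul_eq_one_right (hU2 b hb)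
      calc a * b = (a * b)⁻¹ := (inv_eq_of_mul_eq_one_right (hU2 _ (mul_mem ha hb))).symm
        _ = _ := by rw [mul_inv_rev, ha', hb']
    have hvR : v ∉ R := by
      let R' : Subgroup G :=
        { carrier := {a | a ∈ T' ∨ a * (v * w) ∈ T'}
          one_mem' := Or.inl T'.one_mem
          mul_mem' := by
            have hu2 : (v * w) * (v * w) = 1 := hU2 _ hu0
            have hT'c : ∀ b, b ∈ T' ∨ b * (v * w) ∈ T' → b * (v * w) = (v * w) * b := by
              rintro b (hb | hb)
              · exact hcomm _ (hT'U hb) _ hu0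
              · have hbU : b ∈ U := by
                  have := mul_mem (hT'U hb) hu0
                  rwa [mul_assoc b, hu2, mul_one] at this
                exact hcomm _ hbU _ hu0
            rintro a b (ha | ha) (hb | hb)
            · exact Or.inl (mul_mem ha hb)
            · exact Or.inr (by rw [mul_assoc]; exact mul_mem ha hb)
            · refine Or.inr ?_
              rw [mul_assoc, hT'c b (Or.inl hb), ← mul_assoc]
              exact mul_mem ha hb
            · refine Or.inl ?_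
              have h1 := mul_mem ha hb
              rwa [mul_assoc a, ← mul_assoc (v * w) b, ← hT'c b (Or.inr hb),
                mul_assoc b, hu2, mul_one] at h1
          inv_mem' := by
            rintro a (ha | ha)
            · exact Or.inl (inv_mem ha)
            · refine Or.inr ?_
              have hu2 : (v * w)⁻¹ = v * w := inv_eq_of_mul_eq_one_right (hU2 _ hu0)
              have h1 := inv_mem ha
              rw [mul_inv_rev, hu2] at h1
              have haU : a ∈ U := by
                have := mul_mem (hT'U ha) (inv_mem hu0)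
                rwa [mul_inv_cancel_right] at this
              rwa [hcomm _ (inv_mem haU) _ hu0] }
      intro hv
      have : R ≤ R' := sup_le (fun a ha => Or.inl ha)
        (Subgroup.zpowers_le.2 (show v * w ∈ R' from Or.inr (by
          rw [hU2 _ hu0]; exact T'.one_mem)))
      rcases this hv with h | h
      · exact hvT' h
      · exact hT'w (by rwa [← mul_assoc, hv2, one_mul] at h)
    obtain ⟨q, hq, hqR, hqv⟩ := Lib.LargeExtra.exists_separating hG R hRQ
      (Subgroup.mem_sup_right (Subgroup.mem_zpowers _)) (hUU _ hu0 hu1 v hvU) hvR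
    refine ⟨q * g, mul_mem (hQle _ hu0 hu1 hq) hg, fun u hu => ?_, ?_⟩
    · have hm : ((φ u : ↥U) : G) ∈ R :=
        Subgroup.mem_sup_left ⟨φ u, ⟨u, hu, rfl⟩, rfl⟩
      calc q * g * (u : G) * (q * g)⁻¹ = q * (g * (u : G) * g⁻¹) * q⁻¹ := by group
        _ = _ := by rw [hgT u hu, hqR _ hm, mul_inv_cancel_right]
    · calc q * g * (s : G) * (q * g)⁻¹ = q * v * q⁻¹ := by simp only [v]; group
        _ = v * (v * w) := hqv
        _ = w := by rw [← mul_assoc, hv2, one_mul]

end Cfsg.Agent.S5596
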