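import Cfsg.Statements.S5597
import Mathlib
import Cfsg.Agent.Lib.LargeExtra.Setting
-- import your own Cfsg.Agent.* helpers here

set_option autoImplicit false
open Cfsg

namespace Cfsg.Agent.S5597

/-- Setting: `z` is an involution of the finite group `G`; for each element `x`, `Q x` is the largest normal 2-subgroup of the centralizer of `x`; `Q z` is extraspecial and contains its own centralizer in `G`. A subgroup `U` is singular when it is elementary abelian, every non-identity element of `U` is conjugate to `z`, and any two non-identity elements `u`, `v` of `U` are orthogonal (`v ∈ Q u`). Write `QU` for the intersection of the `Q u` and `LU` for the join of the `Q u` over the non-identity `u` in `U`. If `U` is a non-trivial singular subgroup, then `LU` acts trivially on `QU / U` (every commutator of an element of `LU` with an element of `QU` lies in `U`), and for every `x` in `QU` outside `U` the centralizer of `U` in `LU`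 permutes the coset `x U` transitively: each `x u` with `u ∈ U` is a conjugate of `x` by an element of `LU` centralizing `U`. -/
theorem result {G : Type*} [Group G] [Finite G]
    (Q : G → Subgroup G)
    (hQ : ∀ x : G, Q x = (Cfsg.pCore 2 ↥(Subgroup.centralizer ({x} : Set G))).map (Subgroup.centralizer ({x} : Set G)).subtype)
    (z : G) (hz : orderOf z = 2) (hE : Cfsg.IsExtraspecial 2 ↥(Q z))
    (hC : Subgroup.centralizer ((Q z : Subgroup G) : Set G) ≤ Q z)
    (U : Subgroup G) (hU2 : ∀ u ∈ U, u * u = 1)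
    (hS : ∀ u ∈ U, u ≠ 1 → ∃ g : G, g * z * g⁻¹ = u)
    (hO : ∀ u ∈ U, ∀ v ∈ U, u ≠ 1 → v ≠ 1 → v ∈ Q u)
    (QU LU : Subgroup G) (hQU : QU = ⨅ u ∈ ((U : Set G) \ {1}), Q u) (hLU : LU = ⨆ u ∈ ((U : Set G) \ {1}), Q u)
    (hU : U ≠ ⊥) :
    (∀ g ∈ LU, ∀ x ∈ QU, g * x * g⁻¹ * x⁻¹ ∈ U) ∧
      ∀ x ∈ QU, x ∉ U → ∀ u ∈ U, ∃ g ∈ LU ⊓ Subgroup.centralizer (U : Set G), g * x * g⁻¹ = x * u := by
  have hQ' : Lib.LargeExtra.IsCoreMap Q := hQ
  have hgood : ∀ g : G, Lib.LargeExtra.Good (Q (g * z * g⁻¹)) (g * z * g⁻¹) :=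
    hQ'.good_conj hz hE hC
  have hUg : ∀ u ∈ U, u ≠ 1 → Lib.LargeExtra.Good (Q u) u := by
    intro u hu hu1
    obtain ⟨g, rfl⟩ := hS u hu hu1
    exact hgood g
  have hUU : ∀ u ∈ U, u ≠ 1 → ∀ v ∈ U, v ∈ Q u := by
    intro u hu hu1 v hv
    by_cases hv1 : v = 1
    · exact hv1 ▸ (Q u).one_mem
    · exact hO u hu v hv hu1 hv1
  have memQU : ∀ {x : G}, x ∈ QU ↔ ∀ u ∈ U, u ≠ 1 → x ∈ Q u := by
    intro x
    simp [hQU, Subgroup.mem_iInf]
  have hgen : ∀ u ∈ U, u ≠ 1 → ∀ g ∈ Q u, ∀ v ∈ Q u, g * v * g⁻¹ * v⁻¹ ∈ U := by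
    intro u hu hu1 g hg v hv
    rcases (hUg u hu hu1).comm g hg v hv with e | e <;> rw [e]
    · rw [mul_inv_cancel]; exact U.one_mem
    · rw [(hUg u hu hu1).le_cent v hv, mul_inv_cancel_right]; exact hu
  have hLN : LU ≤ Subgroup.normalizer (U : Set G) := by
    rw [hLU]
    refine iSup₂_le fun u hu => fun g hg => ?_
    obtain ⟨huU, hu1⟩ : u ∈ U ∧ u ≠ 1 := by simpa using hu
    have key : ∀ h ∈ Q u, ∀ v ∈ U, h * v * h⁻¹ ∈ U := by
      intro h hh v hv
      simpa using mul_mem (hgen u huU hu1 h hh v (hUU u huU hu1 v hv)) hv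
    rw [Subgroup.mem_normalizer_iff]
    refine fun v => ⟨key g hg v, fun hv => ?_⟩
    have := key g⁻¹ (inv_mem hg) _ hv
    simpa [mul_assoc] using this
  have hQU_norm : ∀ u ∈ U, u ≠ 1 → ∀ g ∈ Q u, ∀ x ∈ QU, g * x * g⁻¹ * x⁻¹ ∈ U :=
    fun u hu hu1 g hg x hx => hgen u hu hu1 g hg x (memQU.1 hx u hu hu1)
  have hUQU : U ≤ QU := fun x hx => memQU.2 fun u hu hu1 => hUU u hu hu1 x hx
  refine ⟨?_, ?_⟩
  · intro g hg
    rw [hLU, iSup_subtype', Subgroup.iSup_eq_closure] at hg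
    have hLN' : Subgroup.closure (⋃ u : {u // u ∈ (U : Set G) \ {1}}, ((Q u : Subgroup G) : Set G))
        ≤ Subgroup.normalizer (U : Set G) := by
      rw [← Subgroup.iSup_eq_closure, ← iSup_subtype' (f := fun u _ => Q u), ← hLU]; exact hLN
    refine Subgroup.closure_induction (p := fun g _ => ∀ x ∈ QU, g * x * g⁻¹ * x⁻¹ ∈ U)
      ?_ ?_ ?_ ?_ hg
    · rintro g ⟨_, ⟨⟨u, hu⟩, rfl⟩, hgu⟩
      obtain ⟨huU, hu1⟩ : u ∈ U ∧ u ≠ 1 := by simpa using hu
      exact hQU_norm u huU hu1 g hgu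
    · intro x _; simp
    · intro a b hca hcb iha ihb x hx
      have hb := ihb x hx
      have hax := (Subgroup.mem_normalizer_iff.1 (hLN' hca) _).1 hb
      have := mul_mem hax (iha x hx)
      have e : a * b * x * (a * b)⁻¹ * x⁻¹
          = a * (b * x * b⁻¹ * x⁻¹) * a⁻¹ * (a * x * a⁻¹ * x⁻¹) := by group
      rwa [e]
    · intro a hca iha x hx
      have h := inv_mem ((Subgroup.mem_normalizer_iff.1 (inv_mem (hLN' hca)) _).1 (iha x hx))
      have e : a⁻¹ * x * a⁻¹⁻¹ * x⁻¹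
          = (a⁻¹ * (a * x * a⁻¹ * x⁻¹) * a⁻¹⁻¹)⁻¹ := by group
      rwa [e]
  · intro x hx hxU u hu
    by_cases hu1 : u = 1
    · exact ⟨1, Subgroup.one_mem _, by simp [hu1]⟩
    obtain ⟨p, hp, hpU, hpx⟩ := Lib.LargeExtra.exists_separating (hUg u hu hu1) U
      (fun v hv => hUU u hu hu1 v hv) hu (memQU.1 hx u hu hu1) hxU
    refine ⟨p, ⟨?_, Subgroup.mem_centralizer_iff.2 fun a ha => (hpU a ha).symm⟩, hpx⟩
    rw [hLU]
    exact (le_iSup₂_of_le u (by simp [hu, hu1]) le_rfl : Q u ≤ _) hp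

end Cfsg.Agent.S5597
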