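import Cfsg.Statements.S5598
import Mathlib
import Cfsg.Agent.Lib.LargeExtra.Setting
-- import your own Cfsg.Agent.* helpers here

set_option autoImplicit false
open Cfsg

namespace Cfsg.Agent.S5598

/-- Setting: `z` is an involution of the finite group `G`; for each element `x`, `Q x` is the largest normal 2-subgroup of the centralizer of `x`; `Q z` is extraspecial and contains its own centralizer in `G`. A subgroup `U` is singular when it is elementary abelian, every non-identity element of `U` is conjugate to `z`, and any two non-identity elements `u`, `v` of `U` are orthogonal (`v ∈ Q u`). Write `QU` for the intersection of the `Q u` and `LU` for the join of the `Q u` over the non-identity `u` in `U`. If the singular subgroup `U` is generated by a set `T` of non-identity elements, then `QU` is already the intersection of the `Q t` over `t ∈ T`. -/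
theorem result {G : Type*} [Group G] [Finite G]
    (Q : G → Subgroup G)
    (hQ : ∀ x : G, Q x = (Cfsg.pCore 2 ↥(Subgroup.centralizer ({x} : Set G))).map (Subgroup.centralizer ({x} : Set G)).subtype)
    (z : G) (hz : orderOf z = 2) (hE : Cfsg.IsExtraspecial 2 ↥(Q z))
    (hC : Subgroup.centralizer ((Q z : Subgroup G) : Set G) ≤ Q z)
    (U : Subgroup G) (hU2 : ∀ u ∈ U, u * u = 1)
    (hS : ∀ u ∈ U, u ≠ 1 → ∃ g : G, g * z * g⁻¹ = u)
    (hO : ∀ u ∈ U, ∀ v ∈ U, u ≠ 1 → v ≠ 1 → v ∈ Q u)
    (QU LU : Subgroup G) (hQU : QU = ⨅ u ∈ ((U : Set G) \ {1}), Q u) (hLU : LU = ⨆ u ∈ ((U : Set G) \ {1}), Q u)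
    (T : Set G) (hT : Subgroup.closure T = U) (hT1 : (1 : G) ∉ T) :
    QU = ⨅ t ∈ T, Q t := by
  have hQ' : Lib.LargeExtra.IsCoreMap Q := hQ
  have hgood : ∀ g : G, Lib.LargeExtra.Good (Q (g * z * g⁻¹)) (g * z * g⁻¹) :=
    hQ'.good_conj hz hE hC
  have hUg : ∀ u ∈ U, u ≠ 1 → Lib.LargeExtra.Good (Q u) u := by
    intro u hu hu1
    obtain ⟨g, rfl⟩ := hS u hu hu1
    exact hgood g
  have hUU : ∀ u ∈ U, u ≠ 1 → ∀ v ∈ U, v ∈ Q u := by
    intro u hu hu1 v hv
    by_cases hv1 : v = 1
    · exact hv1 ▸ (Q u).one_mem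
    · exact hO u hu v hv hu1 hv1
  have memQU : ∀ {x : G}, x ∈ QU ↔ ∀ u ∈ U, u ≠ 1 → x ∈ Q u := by
    intro x
    simp [hQU, Subgroup.mem_iInf]
  refine le_antisymm ?_ ?_
  · refine le_iInf₂ fun t ht => fun x hx => memQU.1 hx t ?_ (fun e => hT1 (e ▸ ht))
    rw [← hT]; exact Subgroup.subset_closure ht
  · set P := ⨅ t ∈ T, Q t with hP
    intro d hd
    refine memQU.2 fun u hu hu1 => ?_
    have key : ∀ v : G, v ∈ Subgroup.closure T → v = 1 ∨ P ≤ Q v := by
      intro v hv
      induction hv using Subgroup.closure_induction with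
      | mem t ht => exact Or.inr (iInf₂_le t ht)
      | one => exact Or.inl rfl
      | mul a b ha hb iha ihb =>
        rcases iha with rfl | iha
        · rwa [one_mul]
        rcases ihb with rfl | ihb
        · exact Or.inr (by rwa [mul_one])
        have haU : a ∈ U := hT ▸ ha
        have hbU : b ∈ U := hT ▸ hb
        by_cases hab : b = a
        · left; rw [hab]; exact hU2 a haU
        by_cases ha1 : a = 1
        · rw [ha1, one_mul]; exact Or.inr ihb
        by_cases hb1 : b = 1
        · rw [hb1, mul_one]; exact Or.inr iha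
        exact Or.inr ((le_inf ihb iha).trans (hQ'.inf_le_mul (hUg b hbU hb1) (hUg a haU ha1)
          (hO b hbU a haU hb1 ha1) hab))
      | inv a ha iha =>
        rw [inv_eq_of_mul_eq_one_right (hU2 a (hT ▸ ha))]
        exact iha
    exact ((key u (hT.symm ▸ hu)).resolve_left hu1) hd

end Cfsg.Agent.S5598
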