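import Cfsg.Statements.S5599
import Mathlib
import Cfsg.Agent.Lib.Golay.Transitive
import Cfsg.Agent.Lib.Golay.OctadStab

set_option autoImplicit false
open scoped Pointwise
open Cfsg

namespace Cfsg.Agent.S5599

open Cfsg.Agent.Lib.Golay in
/-- In the automorphism group of the length-24 code, the two-point Mathieu group (permutations of the code's group fixing the extra point and the residue 0) has index 2 in the setwise stabiliser of that pair of points, and an element of the code's group interchanging the two points normalises the two-point group and induces on it, by conjugation, an automorphism that is not inner. -/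
theorem result (g : Equiv.Perm Cfsg.GolayPt) (hg : g ∈ Cfsg.M24) (h₁ : g none = some 0) (h₂ : g (some 0) = none) : Cfsg.Spor.M22.relIndex (Cfsg.M24 ⊓ MulAction.stabilizer (Equiv.Perm Cfsg.GolayPt) ({none, some 0} : Finset Cfsg.GolayPt)) = 2 ∧ (∀ x ∈ Cfsg.Spor.M22, g * x * g⁻¹ ∈ Cfsg.Spor.M22) ∧ ¬ ∃ h ∈ Cfsg.Spor.M22, ∀ x ∈ Cfsg.Spor.M22, g * x * g⁻¹ = h * x * h⁻¹ := by
  set A := MulAction.stabilizer (Equiv.Perm Cfsg.GolayPt) ({none, some 0} : Finset Cfsg.GolayPt)
  have fix : ∀ x ∈ Cfsg.Spor.M22, x ∈ Cfsg.M24 ∧ x none = none ∧ x (some 0) = some 0 := fun x hx =>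
    ⟨(Subgroup.mem_inf.1 (Subgroup.mem_inf.1 hx).1).1, (Subgroup.mem_inf.1 (Subgroup.mem_inf.1 hx).1).2,
      (Subgroup.mem_inf.1 hx).2⟩
  have mk : ∀ x ∈ Cfsg.M24, x none = none → x (some 0) = some 0 → x ∈ Cfsg.Spor.M22 :=
    fun x h a b => Subgroup.mem_inf.2 ⟨Subgroup.mem_inf.2 ⟨h, a⟩, b⟩
  have hne : (none : Cfsg.GolayPt) ≠ some 0 := by simp
  refine ⟨?_, ?_, ?_⟩
  · rw [Subgroup.relIndex_eq_two_iff_exists_notMem_and']
    refine ⟨g, Subgroup.mem_inf.2 ⟨hg, ?_⟩, fun h => hne ((fix g h).2.1.symm.trans h₁), ?_⟩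
    · show g • ({none, some 0} : Finset Cfsg.GolayPt) = _
      rw [Finset.smul_finset_insert, Finset.smul_finset_singleton, Equiv.Perm.smul_def,
        Equiv.Perm.smul_def, h₁, h₂, Finset.pair_comm]
    · intro b hb
      obtain ⟨hbM, hbA⟩ := Subgroup.mem_inf.1 hb
      have hbA' : b • ({none, some 0} : Finset Cfsg.GolayPt) = {none, some 0} := hbA
      have hn : b none ∈ ({none, some 0} : Finset Cfsg.GolayPt) := by
        rw [← hbA', smul_finset_eq_image]; exact Finset.mem_image_of_mem _ (by simp)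
      have h0 : b (some 0) ∈ ({none, some 0} : Finset Cfsg.GolayPt) := by
        rw [← hbA', smul_finset_eq_image]; exact Finset.mem_image_of_mem _ (by simp)
      simp only [Finset.mem_insert, Finset.mem_singleton] at hn h0
      rcases hn with hn | hn
      · refine Or.inr (mk b hbM hn (h0.resolve_left fun e => hne (b.injective (hn.trans e.symm))))
      · refine Or.inl (mk _ (mul_mem hg hbM) (by rw [Equiv.Perm.mul_apply, hn, h₂]) ?_)
        rw [Equiv.Perm.mul_apply, h0.resolve_right fun e => hne (b.injective (hn.trans e.symm)), h₁]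
  · intro x hx
    obtain ⟨hxM, hxn, hx0⟩ := fix x hx
    refine mk _ (mul_mem (mul_mem hg hxM) (inv_mem hg)) ?_ ?_
    · have e : g⁻¹ none = some 0 := by rw [Equiv.Perm.inv_eq_iff_eq, h₂]
      rw [Equiv.Perm.mul_apply, Equiv.Perm.mul_apply, e, hx0, h₂]
    · have e : g⁻¹ (some 0) = none := by rw [Equiv.Perm.inv_eq_iff_eq, h₁]
      rw [Equiv.Perm.mul_apply, Equiv.Perm.mul_apply, e, hxn, h₁]
  · rintro ⟨h, hh, hconj⟩
    obtain ⟨hhM, hhn, hh0⟩ := fix h hh
    set t := h⁻¹ * g with ht
    have tn : t none = some 0 := by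
      rw [ht, Equiv.Perm.mul_apply, h₁, Equiv.Perm.inv_eq_iff_eq, hh0]
    have t0 : t (some 0) = none := by
      rw [ht, Equiv.Perm.mul_apply, h₂, Equiv.Perm.inv_eq_iff_eq, hhn]
    have tc : ∀ x ∈ Cfsg.Spor.M22, x * t = t * x := by
      intro x hx
      calc x * t = h⁻¹ * (h * x * h⁻¹) * g := by rw [ht]; group
        _ = t * x := by rw [← hconj x hx, ht]; group
    clear_value t
    have others : ∀ q : Cfsg.GolayPt, q ≠ none → q ≠ some 0 → t q = q := by
      intro q hqn hq0
      by_contra hq
      have a1 : t q ≠ none := fun e => hq0 (t.injective (e.trans t0.symm))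
      have a2 : t q ≠ some 0 := fun e => hqn (t.injective (e.trans tn.symm))
      obtain ⟨c, -, hcne⟩ : ∃ c ∈ (Finset.univ : Finset Cfsg.GolayPt),
          c ∉ ({none, some 0, q, t q} : Finset Cfsg.GolayPt) := by
        refine Finset.exists_mem_notMem_of_card_lt_card ?_
        rw [Finset.card_univ, card_golayPt]
        exact lt_of_le_of_lt Finset.card_le_four (by norm_num)
      simp only [Finset.mem_insert, Finset.mem_singleton, not_or] at hcne
      obtain ⟨c1, c2, c3, c4⟩ := hcne
      obtain ⟨x, hxM, hxe⟩ := exists_map_list [none, some 0, q, t q] [none, some 0, q, c] rfl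
        (by simp) (by simp [Ne.symm hqn, Ne.symm hq0, Ne.symm hq, Ne.symm a1, Ne.symm a2])
        (by simp [Ne.symm hqn, Ne.symm hq0, Ne.symm c1, Ne.symm c2, Ne.symm c3])
      simp only [List.map_cons, List.map_nil, List.cons.injEq, and_true] at hxe
      obtain ⟨x1, x2, x3, x4⟩ := hxe
      have := Equiv.ext_iff.1 (tc x (mk x hxM x1 x2)) q
      rw [Equiv.Perm.mul_apply, Equiv.Perm.mul_apply, x3, x4] at this
      exact c4 this
    -- a transposition fixes an octad pointwise and a further point
    obtain ⟨o, ho, p, hp, hon, ho0, hpn, hp0⟩ : ∃ o ∈ Cfsg.octads, ∃ p, p ∉ o ∧ none ∉ o ∧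
        (some 0 : Cfsg.GolayPt) ∉ o ∧ p ≠ none ∧ p ≠ some 0 := by
      have hchk : (List.range 4096).any (fun x => popCount (encode x) == 8 &&
          !(encode x).testBit 23 && !(encode x).testBit 0) = true := by decide +kernel
      obtain ⟨x, -, hx⟩ := List.any_eq_true.1 hchk
      simp only [Bool.and_eq_true, beq_iff_eq, Bool.not_eq_true'] at hx
      have ho : ptsOf (encode x) ∈ Cfsg.octads :=
        mem_octads_iff.2 ⟨encode_isCodeSet x, by rw [card_ptsOf, hx.1.1]⟩
      obtain ⟨p, -, hp⟩ : ∃ p ∈ (Finset.univ : Finset Cfsg.GolayPt),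
          p ∉ ptsOf (encode x) ∪ {none, some 0} := by
        refine Finset.exists_mem_notMem_of_card_lt_card ?_
        rw [Finset.card_univ, card_golayPt]
        refine lt_of_le_of_lt (Finset.card_union_le _ _) ?_
        rw [octad_card ho, Finset.card_pair hne]
        norm_num
      simp only [Finset.mem_union, Finset.mem_insert, Finset.mem_singleton, not_or] at hp
      refine ⟨_, ho, p, hp.1, ?_, ?_, hp.2.1, hp.2.2⟩
      · intro h
        have := mem_ptsOf.1 h
        rw [show (idx (none : Cfsg.GolayPt)).val = 23 from by decide +kernel, hx.1.2] at this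
        simp at this
      · intro h
        have := mem_ptsOf.1 h
        rw [show (idx (some 0 : Cfsg.GolayPt)).val = 0 from by decide +kernel, hx.2] at this
        simp at this
    have t1 : t = 1 := OctadStab.eq_one_of_fix ho hp
      (Subgroup.mem_inf.2 ⟨ht.symm ▸ mul_mem (inv_mem hhM) hg, (mem_fixingSubgroup_iff _).2 fun q hq =>
        others q (fun e => hon (e ▸ hq)) (fun e => ho0 (e ▸ hq))⟩) (others p hpn hp0)
    rw [t1] at tn
    exact hne tn

end Cfsg.Agent.S5599
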