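import Cfsg.Statements.S5600
import Mathlib
import Cfsg.Agent.Lib.Golay.OctadPairs
import Cfsg.Agent.Lib.Golay.OctadStab

set_option autoImplicit false
open scoped Pointwise
open Cfsg

namespace Cfsg.Agent.S5600

open Cfsg.Agent.Lib.Golay Cfsg.Agent.Lib.Golay.StabCert in
/-- Although the group of the length-24 code is only 5-transitive on the 24 points, it induces the full symmetric group on every 6-element subset: every permutation of a 6-set E is the restriction of an element of the group mapping E to itself. The pointwise stabiliser of E has order 16 when E lies in an octad and order 3 otherwise; in the latter case the setwise stabiliser of E has order 2160. -/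
theorem result (E : Finset Cfsg.GolayPt) (hE : E.card = 6) : (∀ σ : Equiv.Perm ↥E, ∃ g ∈ Cfsg.M24, ∀ p : ↥E, g p = σ p) ∧ ((∃ o ∈ Cfsg.octads, E ⊆ o) → Nat.card {g : Equiv.Perm Cfsg.GolayPt // g ∈ Cfsg.M24 ∧ ∀ p ∈ E, g p = p} = 16) ∧ ((¬ ∃ o ∈ Cfsg.octads, E ⊆ o) → Nat.card {g : Equiv.Perm Cfsg.GolayPt // g ∈ Cfsg.M24 ∧ ∀ p ∈ E, g p = p} = 3 ∧ Nat.card ↥(MulAction.stabilizer Cfsg.M24 E) = 2160) := by
  classical
  obtain ⟨five, hf5, hf⟩ := Finset.exists_subset_card_eq (s := E) (n := 5) (by omega)
  obtain ⟨o, ⟨ho, hfo⟩, huniq⟩ := octads_steiner.2 five hf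
  by_cases hEo : ∃ o ∈ Cfsg.octads, E ⊆ o
  · obtain ⟨o', ho', hE'⟩ := hEo
    have hex : ∀ σ : Equiv.Perm ↥E, ∃ g ∈ Cfsg.M24, ∀ p : ↥E, g p = σ p := by
      intro σ
      obtain ⟨a, b, hab, hd⟩ := Finset.card_eq_two.1 (show (o' \ E).card = 2 by
        rw [Finset.card_sdiff_of_subset hE', octad_card ho', hE])
      have ha : a ∈ o' \ E := hd ▸ Finset.mem_insert_self _ _
      have hb : b ∈ o' \ E := hd ▸ Finset.mem_insert_of_mem (Finset.mem_singleton_self _)
      rw [Finset.mem_sdiff] at ha hb
      let τ : Equiv.Perm {x // x ∈ o'} := σ.extendDomain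
        ({ toFun := fun x => ⟨⟨x.1, hE' x.2⟩, x.2⟩
           invFun := fun x => ⟨x.1.1, x.2⟩
           left_inv := fun _ => rfl
           right_inv := fun _ => rfl } : ↥E ≃ Subtype fun x : {x // x ∈ o'} => x.1 ∈ E)
      let τ' : Equiv.Perm {x // x ∈ o'} :=
        if Equiv.Perm.sign σ = 1 then τ else τ * Equiv.swap ⟨a, ha.1⟩ ⟨b, hb.1⟩
      have hsign : Equiv.Perm.sign τ' = 1 := by
        show Equiv.Perm.sign (if Equiv.Perm.sign σ = 1 then τ else τ * Equiv.swap ⟨a, ha.1⟩ ⟨b, hb.1⟩) = 1
        split_ifs with h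
        · rw [Equiv.Perm.sign_extendDomain, h]
        · rw [map_mul, Equiv.Perm.sign_extendDomain, Equiv.Perm.sign_swap (fun e => hab (congrArg Subtype.val e)),
            (Int.units_eq_one_or _).resolve_left h]
          rfl
      have hτ : ∀ p : ↥E, (τ' ⟨p.1, hE' p.2⟩).1 = (σ p).1 := by
        intro p
        have h1 : (τ ⟨p.1, hE' p.2⟩).1 = (σ p).1 := by
          exact congrArg Subtype.val (Equiv.Perm.extendDomain_apply_image σ _ p)
        show ((if Equiv.Perm.sign σ = 1 then τ else τ * Equiv.swap ⟨a, ha.1⟩ ⟨b, hb.1⟩)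
          ⟨p.1, hE' p.2⟩).1 = _
        split_ifs with h
        · exact h1
        · rw [Equiv.Perm.mul_apply, Equiv.swap_apply_of_ne_of_ne
            (fun e => ha.2 (by rw [← show p.1 = a from congrArg Subtype.val e]; exact p.2))
            (fun e => hb.2 (by rw [← show p.1 = b from congrArg Subtype.val e]; exact p.2)), h1]
      obtain ⟨g, hg⟩ : τ' ∈ (OctadStab.restrictHom o').range := by
        rw [OctadStab.range_restrict ho', Equiv.Perm.mem_alternatingGroup]
        exact hsign
      refine ⟨g.1, (Subgroup.mem_inf.1 g.2).1, fun p => ?_⟩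
      rw [← hτ p, ← hg]
      rfl
    refine ⟨hex, fun _ => ?_, fun h => absurd ⟨o', ho', hE'⟩ h⟩
    rw [← (octad_pointwise ho').1]
    refine Nat.card_congr (Equiv.subtypeEquivRight fun g => ?_)
    rw [Subgroup.mem_inf, mem_fixingSubgroup_iff]
    constructor
    · rintro ⟨hg, hfix⟩
      refine ⟨hg, fun p hp => ?_⟩
      have hgo : g • o' = o' := by
        refine octad_eq_of_five_le (M24_octad hg ho') ho' ?_
        have : E ⊆ g • o' ∩ o' := fun q hq => Finset.mem_inter.2
          ⟨by rw [smul_finset_eq_image, ← hfix q hq]; exact Finset.mem_image_of_mem _ (hE' hq), hE' hq⟩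
        have := Finset.card_le_card this
        omega
      by_cases hpE : p ∈ E
      · exact hfix p hpE
      -- otherwise the two remaining points would be exchanged by an odd permutation
      by_contra hne
      obtain ⟨a, b, hab, hd⟩ := Finset.card_eq_two.1 (show (o' \ E).card = 2 by
        rw [Finset.card_sdiff_of_subset hE', octad_card ho', hE])
      have hm : ∀ q, q ∈ o' → q ∉ E → g q ∈ o' ∧ g q ∉ E := by
        intro q hq hqE
        refine ⟨by rw [← hgo, smul_finset_eq_image]; exact Finset.mem_image_of_mem _ hq, fun h => hqE ?_⟩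
        rwa [← g.injective (hfix _ h)]
      let G : ↥(OctadStab.stabG o') := ⟨g, Subgroup.mem_inf.2 ⟨hg, hgo⟩⟩
      have heven : Equiv.Perm.sign (OctadStab.restrictHom o' G) = 1 := by
        rw [← Equiv.Perm.mem_alternatingGroup, ← OctadStab.range_restrict ho']
        exact ⟨G, rfl⟩
      have hp' : p ∈ o' := Finset.mem_coe.1 hp
      have hswap : OctadStab.restrictHom o' G =
          Equiv.swap (⟨p, hp'⟩ : {x // x ∈ o'}) ⟨g p, (hm p hp' hpE).1⟩ := by
        refine Equiv.ext fun q => Subtype.ext ?_
        show g q.1 = _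
        by_cases e1 : q.1 = p
        · rw [show q = ⟨p, hp'⟩ from Subtype.ext e1, Equiv.swap_apply_left]
        by_cases e2 : q.1 = g p
        · rw [show q = ⟨g p, (hm p hp' hpE).1⟩ from Subtype.ext e2, Equiv.swap_apply_right]
          show g (g p) = p
          have h1 := hm p hp' hpE
          have h2 := hm _ h1.1 h1.2
          have m : ∀ x, x ∈ o' → x ∉ E → x = a ∨ x = b := fun x h h' => by
            have : x ∈ o' \ E := Finset.mem_sdiff.2 ⟨h, h'⟩
            simpa [hd] using this
          have h3 : g (g p) ≠ g p := fun e => hne (g.injective e)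
          rcases m p hp' hpE with e | e <;> rcases m _ h1.1 h1.2 with e' | e' <;>
            rcases m _ h2.1 h2.2 with e'' | e'' <;>
            first | exact e''.trans e.symm | exact absurd (e''.trans e'.symm) h3 |
              exact absurd (e'.trans e.symm) hne
        · rw [Equiv.swap_apply_of_ne_of_ne (fun e => e1 (congrArg Subtype.val e))
            (fun e => e2 (congrArg Subtype.val e))]
          by_cases hqE : q.1 ∈ E
          · exact hfix _ hqE
          exfalso
          have m : ∀ x, x ∈ o' → x ∉ E → x = a ∨ x = b := fun x h h' => by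
            have : x ∈ o' \ E := Finset.mem_sdiff.2 ⟨h, h'⟩
            simpa [hd] using this
          have h1 := hm p hp' hpE
          have h0 : g p ≠ p := hne
          rcases m p hp' hpE with e | e <;> rcases m _ h1.1 h1.2 with e' | e' <;>
            rcases m _ q.2 hqE with e'' | e'' <;>
            first | exact e1 (e''.trans e.symm) | exact e2 (e''.trans e'.symm) |
              exact h0 (e'.trans e.symm)
      rw [hswap, Equiv.Perm.sign_swap (fun e => hne (congrArg Subtype.val e).symm)] at heven
      exact absurd heven (by decide)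
    · rintro ⟨hg, hfix⟩
      exact ⟨hg, fun p hp => hfix p (Finset.mem_coe.2 (hE' hp))⟩
  · obtain ⟨x, hx⟩ := Finset.card_eq_one.1
      (show (E \ five).card = 1 by rw [Finset.card_sdiff_of_subset hf5]; omega)
    have hxm : x ∈ E ∧ x ∉ five := Finset.mem_sdiff.1 (hx ▸ Finset.mem_singleton_self x)
    have hxo : x ∉ o := fun h => hEo ⟨o, ho, fun p hp => by
      by_cases hp5 : p ∈ five
      · exact hfo hp5
      · have : p ∈ E \ five := Finset.mem_sdiff.2 ⟨hp, hp5⟩
        rw [hx, Finset.mem_singleton] at this
        rw [this]; exact h⟩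
    have eight := octad_card ho
    -- the pointwise stabiliser of five points of an octad moves the other points transitively
    have trans5 : ∀ (o : Finset Cfsg.GolayPt), o ∈ Cfsg.octads → ∀ p q, p ∉ o → q ∉ o →
        ∃ g ∈ Cfsg.M24, (∀ r ∈ o, g r = r) ∧ g p = q := by
      intro o ho p q hp hq
      let F := OctadStab.fixG o
      have horb : MulAction.orbit F p = ((oᶜ : Finset Cfsg.GolayPt) : Set Cfsg.GolayPt) := by
        refine Set.eq_of_subset_of_ncard_le ?_ ?_ (Set.toFinite _)
        · rintro _ ⟨g, rfl⟩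
          rw [Finset.mem_coe, Finset.mem_compl]
          intro h
          apply hp
          have h' := OctadStab.fix_apply g.2 h
          rwa [← g.1.injective h']
        · rw [Set.ncard_coe_finset, Finset.card_compl, octad_card ho, card_golayPt]
          have := ncard_orbit_mul_card F p
          rw [show F ⊓ MulAction.stabilizer (Equiv.Perm Cfsg.GolayPt) p = ⊥ from by
            rw [Subgroup.eq_bot_iff_forall]
            intro g hg
            exact OctadStab.eq_one_of_fix ho hp (Subgroup.mem_inf.1 hg).1 (Subgroup.mem_inf.1 hg).2,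
            Subgroup.card_bot, show Nat.card F = 16 from (octad_pointwise ho).1, mul_one] at this
          omega
      have hq' : q ∈ MulAction.orbit F p := by
        rw [horb, Finset.mem_coe, Finset.mem_compl]; exact hq
      obtain ⟨g, hg⟩ := hq'
      exact ⟨g.1, (Subgroup.mem_inf.1 g.2).1, fun r hr => OctadStab.fix_apply g.2 hr, hg⟩
    have hex : ∀ σ : Equiv.Perm ↥E, ∃ g ∈ Cfsg.M24, ∀ p : ↥E, g p = σ p := by
      intro σ
      let L := five.attach.toList.map fun p => (⟨p.1, hf5 p.2⟩ : ↥E)
      have hLnd : L.Nodup := (Finset.nodup_toList _).map fun p q e =>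
        Subtype.ext (congrArg Subtype.val e :)
      obtain ⟨g, hg, hge⟩ := exists_map_list (L.map (·.1)) (L.map fun p => (σ p).1)
        ((List.length_map _).trans (List.length_map _).symm)
        (by simp only [L, List.length_map, Finset.length_toList, Finset.card_attach, hf, le_refl]) (hLnd.map Subtype.val_injective)
        (hLnd.map (Subtype.val_injective.comp σ.injective))
      have hgf : ∀ p : ↥E, p.1 ∈ five → g p = σ p := fun p hp => by
        rw [List.map_map] at hge
        exact List.map_inj_left.1 hge p (List.mem_map.2 ⟨⟨p.1, hp⟩, by simp, rfl⟩)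
      obtain ⟨g', hg', hfix', hgx⟩ := trans5 (g • o) (M24_octad hg ho) (g x) (σ ⟨x, hxm.1⟩).1
        (by rw [smul_finset_eq_image, Function.Injective.mem_finset_image g.injective]; exact hxo)
        (fun h => hEo ⟨g • o, M24_octad hg ho, fun p hp => by
          obtain ⟨r, hr⟩ := σ.surjective ⟨p, hp⟩
          by_cases hr5 : r.1 ∈ five
          · rw [show p = g r.1 by rw [hgf r hr5, hr], smul_finset_eq_image]
            exact Finset.mem_image_of_mem _ (hfo hr5)
          · have : r.1 ∈ E \ five := Finset.mem_sdiff.2 ⟨r.2, hr5⟩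
            rw [hx, Finset.mem_singleton] at this
            rw [show p = (σ ⟨x, hxm.1⟩).1 by rw [show (⟨x, hxm.1⟩ : ↥E) = r from Subtype.ext this.symm, hr]]
            exact h⟩)
      refine ⟨g' * g, mul_mem hg' hg, fun p => ?_⟩
      by_cases hp : p.1 ∈ five
      · rw [Equiv.Perm.mul_apply, hfix' _ (by
          rw [smul_finset_eq_image]; exact Finset.mem_image_of_mem _ (hfo hp)), hgf p hp]
      · have : p.1 ∈ E \ five := Finset.mem_sdiff.2 ⟨p.2, hp⟩
        rw [hx, Finset.mem_singleton] at this
        rw [Equiv.Perm.mul_apply, this, hgx, show p = ⟨x, hxm.1⟩ from Subtype.ext this]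
    refine ⟨hex, fun h => absurd h hEo, fun _ => ?_⟩
    -- order of the pointwise stabiliser
    let F5 := Cfsg.M24 ⊓ fixingSubgroup (Equiv.Perm Cfsg.GolayPt) (five : Set Cfsg.GolayPt)
    have h48 : Nat.card F5 = 48 := by
      obtain ⟨c, hc, hce⟩ := exists_map_list ([3, 2, 1, 0, 23].map ptN) five.toList (by simp [hf])
        (by simp) (by decide +kernel) five.nodup_toList
      rw [← card_fix5]
      refine (Nat.card_congr ((conjEquiv c _).trans (MulEquiv.subgroupCongr ?_)).toEquiv).symm
      rw [Subgroup.map_inf_eq _ _ _ (MulAut.conj c).injective, map_conj_M24 hc]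
      congr 1
      ext s
      rw [Subgroup.mem_map_equiv, MulAut.conj_symm_apply, mem_fixNums, mem_fixingSubgroup_iff]
      constructor
      · intro h q hq
        have : q ∈ ([3, 2, 1, 0, 23].map ptN).map c := by rw [hce]; simpa using hq
        obtain ⟨r, hr, rfl⟩ := List.mem_map.1 this
        obtain ⟨i, hi, rfl⟩ := List.mem_map.1 hr
        have := h i hi
        rw [Equiv.Perm.mul_apply, Equiv.Perm.mul_apply, Equiv.Perm.inv_eq_iff_eq] at this
        exact this
      · intro h i hi
        have : c (ptN i) ∈ five := by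
          rw [← Finset.mem_toList, ← hce]
          exact List.mem_map_of_mem (List.mem_map_of_mem hi)
        rw [Equiv.Perm.mul_apply, Equiv.Perm.mul_apply, Equiv.Perm.inv_eq_iff_eq]
        exact h _ this
    have horb : MulAction.orbit F5 x = ((oᶜ : Finset Cfsg.GolayPt) : Set Cfsg.GolayPt) := by
      refine Set.Subset.antisymm ?_ ?_
      · rintro _ ⟨g, rfl⟩
        rw [Finset.mem_coe, Finset.mem_compl]
        intro h
        obtain ⟨hgM, hgf⟩ := Subgroup.mem_inf.1 g.2
        rw [mem_fixingSubgroup_iff] at hgf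
        have hgo : g.1 • o = o := by
          refine octad_eq_of_five_le (M24_octad hgM ho) ho ?_
          rw [← hf]
          refine Finset.card_le_card fun p hp => Finset.mem_inter.2 ⟨?_, hfo hp⟩
          rw [smul_finset_eq_image, ← show g.1 p = p from hgf p hp]
          exact Finset.mem_image_of_mem _ (hfo hp)
        exact hxo ((mem_iff_of_smul_eq hgo x).1 h)
      · intro q hq
        rw [Finset.mem_coe, Finset.mem_compl] at hq
        obtain ⟨g, hg, hfix, hgx⟩ := trans5 o ho x q hxo hq
        exact ⟨⟨g, Subgroup.mem_inf.2 ⟨hg, (mem_fixingSubgroup_iff _).2 fun p hp =>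
          hfix p (hfo hp)⟩⟩, hgx⟩
    have h3 := ncard_orbit_mul_card F5 x
    rw [horb, Set.ncard_coe_finset, Finset.card_compl, eight, card_golayPt, h48] at h3
    have hpt : Nat.card {g : Equiv.Perm Cfsg.GolayPt // g ∈ Cfsg.M24 ∧ ∀ p ∈ E, g p = p} = 3 := by
      have e : Nat.card {g : Equiv.Perm Cfsg.GolayPt // g ∈ Cfsg.M24 ∧ ∀ p ∈ E, g p = p} =
          Nat.card ↥(F5 ⊓ MulAction.stabilizer (Equiv.Perm Cfsg.GolayPt) x) := by
        refine Nat.card_congr (Equiv.subtypeEquivRight fun g => ?_)
        rw [Subgroup.mem_inf, Subgroup.mem_inf, mem_fixingSubgroup_iff]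
        constructor
        · rintro ⟨hg, h⟩
          exact ⟨⟨hg, fun p hp => h p (hf5 hp)⟩, h x hxm.1⟩
        · rintro ⟨⟨hg, h⟩, h'⟩
          refine ⟨hg, fun p hp => ?_⟩
          by_cases hp5 : p ∈ five
          · exact h p hp5
          · have : p ∈ E \ five := Finset.mem_sdiff.2 ⟨hp, hp5⟩
            rw [hx, Finset.mem_singleton] at this
            rw [this]; exact h'
      omega
    refine ⟨hpt, ?_⟩
    have hmem : ∀ g : ↥(MulAction.stabilizer Cfsg.M24 E), ∀ q, g.1.1 q ∈ E ↔ q ∈ E := fun g q =>
      mem_iff_of_smul_eq (show g.1.1 • E = E from g.2) q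
    let f : ↥(MulAction.stabilizer Cfsg.M24 E) →* Equiv.Perm ↥E :=
      { toFun := fun g => g.1.1.subtypePerm (hmem g)
        map_one' := Equiv.ext fun _ => rfl
        map_mul' := fun _ _ => Equiv.ext fun _ => rfl }
    have hsurj : Function.Surjective f := fun σ => by
      obtain ⟨g, hg, hgs⟩ := hex σ
      have hst : g • E = E := by
        refine Finset.eq_of_subset_of_card_le (fun y hy => ?_) (Finset.card_smul_finset g E).ge
        rw [smul_finset_eq_image, Finset.mem_image] at hy
        obtain ⟨p, hp, rfl⟩ := hy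
        rw [hgs ⟨p, hp⟩]
        exact (σ ⟨p, hp⟩).2
      exact ⟨⟨⟨g, hg⟩, hst⟩, Equiv.ext fun p => Subtype.ext (hgs p)⟩
    have hker : Nat.card f.ker = 3 := by
      rw [← hpt]
      refine Nat.card_congr
        { toFun := fun g => ⟨g.1.1.1, g.1.1.2, fun p hp =>
            congrArg Subtype.val (Equiv.ext_iff.1 (MonoidHom.mem_ker.1 g.2) ⟨p, hp⟩)⟩
          invFun := fun g => ⟨⟨⟨g.1, g.2.1⟩, ?_⟩, ?_⟩
          left_inv := fun _ => rfl
          right_inv := fun _ => rfl }
      · show g.1 • E = E
        rw [smul_finset_eq_image]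
        conv_rhs => rw [← Finset.image_id (s := E)]
        exact Finset.image_congr fun p hp => g.2.2 p hp
      · exact Equiv.ext fun p => Subtype.ext (g.2.2 p.1 p.2)
    have := f.ker.card_mul_index
    rw [Subgroup.index_ker, MonoidHom.range_eq_top.2 hsurj, Subgroup.card_top, hker, Nat.card_perm,
      Nat.card_eq_fintype_card, Fintype.card_coe, hE] at this
    have : Nat.factorial 6 = 720 := by decide
    omega

end Cfsg.Agent.S5600
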