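import Cfsg.Statements.S5601
import Mathlib
import Cfsg.Agent.Lib.Golay.ClassCount

set_option autoImplicit false
open scoped Pointwise
open Cfsg

namespace Cfsg.Agent.S5601

open Cfsg.Agent.Lib.Golay Cfsg.Agent.Lib.Golay.Classes in
/-- The group of the length-24 code has exactly two conjugacy classes of subgroups of order 3: a subgroup of order 3 fixes either exactly 6 of the 24 points or none of them, both cases occur, and two subgroups of order 3 with the same number of fixed points are conjugate. -/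
theorem result : (∀ X : Subgroup ↥Cfsg.M24, Nat.card X = 3 → {p : Cfsg.GolayPt | ∀ x ∈ X, ((x : ↥Cfsg.M24) : Equiv.Perm Cfsg.GolayPt) p = p}.ncard = 6 ∨ {p : Cfsg.GolayPt | ∀ x ∈ X, ((x : ↥Cfsg.M24) : Equiv.Perm Cfsg.GolayPt) p = p}.ncard = 0) ∧ (∃ X : Subgroup ↥Cfsg.M24, Nat.card X = 3 ∧ {p : Cfsg.GolayPt | ∀ x ∈ X, ((x : ↥Cfsg.M24) : Equiv.Perm Cfsg.GolayPt) p = p}.ncard = 6) ∧ (∃ X : Subgroup ↥Cfsg.M24, Nat.card X = 3 ∧ {p : Cfsg.GolayPt | ∀ x ∈ X, ((x : ↥Cfsg.M24) : Equiv.Perm Cfsg.GolayPt) p = p}.ncard = 0) ∧ ∀ X Y : Subgroup ↥Cfsg.M24, Nat.card X = 3 → Nat.card Y = 3 → {p : Cfsg.GolayPt | ∀ x ∈ X, ((x : ↥Cfsg.M24) : Equiv.Perm Cfsg.GolayPt) p = p}.ncard = {p : Cfsg.GolayPt | ∀ x ∈ Y, ((x : ↥Cfsg.M24) : Equiv.Perm Cfsg.GolayPt) p = p}.ncard → ∃ k : ↥Cfsg.M24, MulAut.conj k • X = Y := by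
  have v := reps_valid
  simp only [List.all_cons, Bool.and_eq_true] at v
  obtain ⟨-, -, v6, v0, -⟩ := v
  obtain ⟨-, -, n6, n0⟩ := fixNum_reps
  have key : ∀ X : Subgroup ↥Cfsg.M24, Nat.card X = 3 → ∃ x : ↥Cfsg.M24,
      Subgroup.zpowers x = X ∧
      {p : Cfsg.GolayPt | ∀ x ∈ X, ((x : ↥Cfsg.M24) : Equiv.Perm Cfsg.GolayPt) p = p}.ncard =
        fixCount x.1 ∧
      ((fixCount x.1 = 6 ∧ ∃ k ∈ Cfsg.M24, k * toPerm ClassData.rep3f6 * k⁻¹ = x.1) ∨
      (fixCount x.1 = 0 ∧ ∃ k ∈ Cfsg.M24, k * toPerm ClassData.rep3f0 * k⁻¹ = x.1)) := by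
    intro X hX
    obtain ⟨x, hx, hgen⟩ := exists_gen X Nat.prime_three hX
    have hx' : orderOf x.1 = 3 := by rw [Subgroup.orderOf_coe, hx]
    refine ⟨x, hgen, ?_, ?_⟩
    · rw [fixCount, ← Set.ncard_coe_finset]
      congr 1
      ext p
      simp only [Finset.coe_filter, Finset.mem_univ, true_and, Set.mem_ofPred_eq]
      refine ⟨fun h => h x (hgen ▸ Subgroup.mem_zpowers x), fun h y hy => ?_⟩
      rw [← hgen, Subgroup.mem_zpowers_iff] at hy
      obtain ⟨n, rfl⟩ := hy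
      rw [SubgroupClass.coe_zpow]
      exact Equiv.Perm.zpow_apply_eq_self_of_apply_eq_self h n
    · obtain ⟨r, hr, k, hk, e⟩ := classify_three x.2 hx'
      simp only [List.mem_cons, List.not_mem_nil, or_false] at hr
      rcases hr with rfl | rfl
      · exact Or.inl ⟨by rw [← e, fixCount_conj, fixCount_toPerm (inM24.valid v6), n6], k, hk, e⟩
      · exact Or.inr ⟨by rw [← e, fixCount_conj, fixCount_toPerm (inM24.valid v0), n0], k, hk, e⟩
  have ex : ∀ r : List ℕ, ∀ v : inM24 r = true,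
      (∀ p, toPerm r (toPerm r (toPerm r p)) = p) → (∃ p, toPerm r p ≠ p) →
      ∃ X : Subgroup ↥Cfsg.M24, Nat.card X = 3 ∧
      {p : Cfsg.GolayPt | ∀ x ∈ X, ((x : ↥Cfsg.M24) : Equiv.Perm Cfsg.GolayPt) p = p}.ncard =
        fixNum r := by
    intro r v h3 ⟨p, hp⟩
    have ho : orderOf (⟨toPerm r, toPerm_mem_M24 v⟩ : ↥Cfsg.M24) = 3 := by
      rw [← Subgroup.orderOf_coe]
      haveI := Fact.mk Nat.prime_three
      exact orderOf_eq_prime (by ext q; simp [pow_succ, h3 q])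
        fun e => hp (by rw [show toPerm r = 1 from e, Equiv.Perm.one_apply])
    refine ⟨Subgroup.zpowers ⟨toPerm r, toPerm_mem_M24 v⟩, by rw [Nat.card_zpowers, ho], ?_⟩
    rw [← fixCount_toPerm (inM24.valid v), fixCount, ← Set.ncard_coe_finset]
    congr 1
    ext q
    simp only [Finset.coe_filter, Finset.mem_univ, true_and, Set.mem_ofPred_eq]
    refine ⟨fun h => h ⟨toPerm r, toPerm_mem_M24 v⟩ (Subgroup.mem_zpowers _), fun h y hy => ?_⟩
    rw [Subgroup.mem_zpowers_iff] at hy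
    obtain ⟨n, rfl⟩ := hy
    rw [SubgroupClass.coe_zpow]
    exact Equiv.Perm.zpow_apply_eq_self_of_apply_eq_self h n
  refine ⟨?_, ?_, ?_, ?_⟩
  · intro X hX
    obtain ⟨x, -, e, h | h⟩ := key X hX
    · exact Or.inl (e.trans h.1)
    · exact Or.inr (e.trans h.1)
  · obtain ⟨X, h1, h2⟩ := ex ClassData.rep3f6 v6 (by decide +kernel) (by decide +kernel)
    exact ⟨X, h1, h2.trans n6⟩
  · obtain ⟨X, h1, h2⟩ := ex ClassData.rep3f0 v0 (by decide +kernel) (by decide +kernel)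
    exact ⟨X, h1, h2.trans n0⟩
  · intro X Y hX hY hXY
    obtain ⟨x, rfl, ex', hx⟩ := key X hX
    obtain ⟨y, rfl, ey', hy⟩ := key Y hY
    rw [ex', ey'] at hXY
    have fin : ∀ r : Equiv.Perm Cfsg.GolayPt, (∃ k ∈ Cfsg.M24, k * r * k⁻¹ = x.1) →
        (∃ k ∈ Cfsg.M24, k * r * k⁻¹ = y.1) →
        ∃ k : ↥Cfsg.M24, MulAut.conj k • Subgroup.zpowers x = Subgroup.zpowers y := by
      rintro r ⟨k, hk, e⟩ ⟨k', hk', e'⟩
      refine ⟨⟨k' * k⁻¹, mul_mem hk' (inv_mem hk)⟩, ?_⟩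
      rw [conj_smul_zpowers]
      congr 1
      apply Subtype.ext
      simp only [Subgroup.coe_mul, Subgroup.coe_inv, ← e, ← e']
      group
    rcases hx with hx | hx <;> rcases hy with hy | hy
    · exact fin _ hx.2 hy.2
    · omega
    · omega
    · exact fin _ hx.2 hy.2

end Cfsg.Agent.S5601
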