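import Cfsg.Statements.S5602
import Mathlib
import Cfsg.Agent.Lib.Golay.ClassCount

set_option autoImplicit false
open scoped Pointwise
open Cfsg

namespace Cfsg.Agent.S5602

open Cfsg.Agent.Lib.Golay Cfsg.Agent.Lib.Golay.Classes in
/-- An element of order 3 of the group of the length-24 code having exactly 6 fixed points maps to themselves exactly 21 octads, exactly 15 trios, exactly 16 sextets and exactly 20 dodecads. -/
theorem result (g : Equiv.Perm Cfsg.GolayPt) (hg : g ∈ Cfsg.M24) (h₃ : orderOf g = 3) (h₆ : (Finset.univ.filter fun p => g p = p).card = 6) : {o : Finset Cfsg.GolayPt | o ∈ Cfsg.octads ∧ g • o = o}.ncard = 21 ∧ {T : Finset (Finset Cfsg.GolayPt) | T ∈ Cfsg.trios ∧ g • T = T}.ncard = 15 ∧ {S : Finset (Finset Cfsg.GolayPt) | S ∈ Cfsg.sextets ∧ g • S = S}.ncard = 16 ∧ {d : Finset Cfsg.GolayPt | d ∈ Cfsg.dodecads ∧ g • d = d}.ncard = 20 := by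
  have v := reps_valid
  simp only [List.all_cons, Bool.and_eq_true] at v
  obtain ⟨v8, v2, v6, v0, -⟩ := v
  obtain ⟨n8, n2, n6, n0⟩ := fixNum_reps
  obtain ⟨r, hr, k, hk, rfl⟩ := classify_three hg h₃
  simp only [List.mem_cons, List.not_mem_nil, or_false] at hr
  rcases hr with rfl | rfl
  · exact ⟨(count_octad hk (inM24.valid v6)).trans counts_code.2.2.1,
      (count_trio hk (inM24.valid v6)).trans counts_trio.2.2.1,
      (count_sextet hk (inM24.valid v6)).trans counts_sextet.2.2.1,
      (count_dodecad hk (inM24.valid v6)).trans counts_code.2.2.2⟩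
  · change fixCount _ = 6 at h₆
    rw [fixCount_conj, fixCount_toPerm (inM24.valid v0), n0] at h₆
    omega

end Cfsg.Agent.S5602
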