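import Cfsg.Statements.S5604
import Mathlib
import Cfsg.Agent.Lib.Golay.ClassCount

set_option autoImplicit false
open scoped Pointwise
open Cfsg

namespace Cfsg.Agent.S5604

open Cfsg.Agent.Lib.Golay Cfsg.Agent.Lib.Golay.Classes in
set_option maxHeartbeats 1000000 in
/-- For a subgroup S of order 7 of the group of the length-24 code (a Sylow 7-subgroup): the normaliser of S has order 126, the centraliser of S has order 42 and is non-abelian, and the whole normaliser leaves some trio invariant. (These are the orders of a Frobenius group of order 21 times a symmetric group of degree 3; the isomorphism type itself is not asserted here.) -/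
theorem result (S : Subgroup ↥Cfsg.M24) (hS : Nat.card S = 7) : Nat.card ↥(Subgroup.normalizer (S : Set ↥Cfsg.M24)) = 126 ∧ Nat.card ↥(Subgroup.centralizer (S : Set ↥Cfsg.M24)) = 42 ∧ (∃ x ∈ Subgroup.centralizer (S : Set ↥Cfsg.M24), ∃ y ∈ Subgroup.centralizer (S : Set ↥Cfsg.M24), x * y ≠ y * x) ∧ ∃ T ∈ Cfsg.trios, ∀ n ∈ Subgroup.normalizer (S : Set ↥Cfsg.M24), ((n : ↥Cfsg.M24) : Equiv.Perm Cfsg.GolayPt) • T = T := by
  have v := reps_valid
  simp only [List.all_cons, Bool.and_eq_true] at v
  obtain ⟨-, -, -, -, v7, v72, v73, v74, v75, v76, -⟩ := v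
  let r : Equiv.Perm Cfsg.GolayPt := toPerm ClassData.rep7f3
  have rpow : toPerm ClassData.rep7x2 = r ^ 2 ∧ toPerm ClassData.rep7x3 = r ^ 3 ∧
      toPerm ClassData.rep7x4 = r ^ 4 ∧ toPerm ClassData.rep7x5 = r ^ 5 ∧
      toPerm ClassData.rep7x6 = r ^ 6 ∧ r ^ 7 = 1 := by
    have hp : ∀ (m : ℕ) (l : List ℕ), validList l = true →
        (∀ i : Fin 24, applyNum l i.val =
          (List.range m).foldl (fun x _ => applyNum ClassData.rep7f3 x) i.val) →
        toPerm l = r ^ m := by
      intro m l hl h
      refine (toPerm_eq_iff hl _).2 fun i => ?_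
      rw [h i]
      have main : ∀ n : ℕ, (idx ((r ^ n) (pt i))).val =
          (List.range n).foldl (fun x _ => applyNum ClassData.rep7f3 x) i.val := by
        intro n
        induction n with
        | zero => simp [idx_pt]
        | succ n ih =>
          rw [List.range_succ, List.foldl_append, List.foldl_cons, List.foldl_nil, pow_succ',
            Equiv.Perm.mul_apply, ← ih]
          exact idx_toPerm (inM24.valid v7) _
      exact main m
    refine ⟨hp 2 _ (inM24.valid v72) (by decide +kernel), hp 3 _ (inM24.valid v73) (by decide +kernel),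
      hp 4 _ (inM24.valid v74) (by decide +kernel), hp 5 _ (inM24.valid v75) (by decide +kernel),
      hp 6 _ (inM24.valid v76) (by decide +kernel), ?_⟩
    rw [← hp 7 (List.range 24) (by decide +kernel) (by decide +kernel)]
    exact (toPerm_eq_iff (by decide +kernel) 1).2 fun i => by
      rw [Equiv.Perm.one_apply, idx_pt]
      revert i
      decide +kernel
  obtain ⟨p2, p3, p4, p5, p6, p7⟩ := rpow
  obtain ⟨x, hx, hgen⟩ := exists_gen S (by norm_num : Nat.Prime 7) hS
  obtain ⟨l, hl, k, hk, e⟩ := classify_seven x.2 (by rw [Subgroup.orderOf_coe, hx])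
  obtain ⟨y, hy, hgen'⟩ : ∃ y : ↥Cfsg.M24, y.1 = k * r * k⁻¹ ∧ Subgroup.zpowers y = S := by
    simp only [List.mem_cons, List.not_mem_nil, or_false] at hl
    rcases hl with rfl | rfl
    · exact ⟨x, e.symm, hgen⟩
    · have e5 : (x ^ 5).1 = k * r * k⁻¹ := by
        have e15 : r ^ (3 * 5) = r := by
          rw [show 3 * 5 = 7 + (7 + 1) from rfl, pow_add, pow_add, p7, one_mul, one_mul, pow_one]
        rw [SubmonoidClass.coe_pow, ← e, conj_pow, p3, ← pow_mul, e15]
      refine ⟨x ^ 5, e5, le_antisymm ?_ ?_⟩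
      · rw [← hgen, Subgroup.zpowers_le]
        exact pow_mem (Subgroup.mem_zpowers x) 5
      · rw [← hgen, Subgroup.zpowers_le]
        refine ⟨(3 : ℕ), ?_⟩
        show (x ^ 5) ^ ((3 : ℕ) : ℤ) = x
        rw [zpow_natCast, ← pow_mul, ← pow_mod_orderOf, hx, pow_one]
  subst hgen'
  have hyo : orderOf y = 7 := by rw [← Nat.card_zpowers, hS]
  have hcentmem : ∀ c : ↥Cfsg.M24,
      c ∈ Subgroup.centralizer (Subgroup.zpowers y : Set ↥Cfsg.M24) ↔
        c.1 * (k * r * k⁻¹) = k * r * k⁻¹ * c.1 := by
    intro c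
    rw [Subgroup.zpowers_eq_closure, Subgroup.centralizer_closure,
      Subgroup.mem_centralizer_singleton_iff, ← hy]
    exact ⟨fun h => congrArg Subtype.val h, fun h => Subtype.ext h⟩
  have hcc : Nat.card (centM24 ClassData.rep7f3) = 42 := by
    rw [card_centM24 cent7f3_ok]
    rfl
  obtain ⟨hw, hc⟩ := cent_mem cent7f3_ok
  let T0 : List ℕ := [1584464, 6656640, 8536111]
  have hT : StabCert.canonFam T0 = true ∧ Suborbit.Trio.isTrioCode T0 = true ∧
      (ClassData.wit7f3 ++ ClassData.cent7f3 ++ [ClassData.norm7x2, ClassData.norm7x4]).all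
        (fun l => validList l && fixFam l T0) = true := by decide +kernel
  have hTlt := (StabCert.canonFam_spec hT.1).2
  have hfix : ∀ l ∈ ClassData.wit7f3 ++ ClassData.cent7f3 ++
      [ClassData.norm7x2, ClassData.norm7x4],
      toPerm l • StabCert.famOf T0 = StabCert.famOf T0 := fun l hl => by
    have := List.all_eq_true.1 hT.2.2 l hl
    rw [Bool.and_eq_true] at this
    exact (smul_famOf_eq_iff this.1 hTlt).2 this.2
  have vn : inM24 ClassData.norm7x2 = true ∧ inM24 ClassData.norm7x4 = true := by decide +kernel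
  have nconj : ∀ (n t : List ℕ), validList n = true → validList t = true →
      (∀ i : Fin 24, applyNum n (applyNum ClassData.rep7f3 i.val) = applyNum t (applyNum n i.val)) →
      toPerm n * r = toPerm t * toPerm n := by
    intro n t hn ht h
    refine Equiv.ext fun p => ptEquiv.injective (Fin.ext ?_)
    show (idx (toPerm n (toPerm ClassData.rep7f3 p))).val = (idx (toPerm t (toPerm n p))).val
    rw [idx_toPerm hn, idx_toPerm (inM24.valid v7), idx_toPerm ht, idx_toPerm hn]
    exact h _
  have n2 := nconj ClassData.norm7x2 ClassData.rep7x2 (inM24.valid vn.1) (inM24.valid v72)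
    (by decide +kernel)
  have n4 := nconj ClassData.norm7x4 ClassData.rep7x4 (inM24.valid vn.2) (inM24.valid v74)
    (by decide +kernel)
  rw [p2] at n2
  rw [p4] at n4
  let nn : Fin 3 → Equiv.Perm Cfsg.GolayPt :=
    ![1, toPerm ClassData.norm7x2, toPerm ClassData.norm7x4]
  let ee : Fin 3 → ℕ := ![1, 2, 4]
  have e0 : nn 0 = 1 ∧ ee 0 = 1 := ⟨rfl, rfl⟩
  have e1 : nn 1 = toPerm ClassData.norm7x2 ∧ ee 1 = 2 := ⟨rfl, rfl⟩
  have e2 : nn 2 = toPerm ClassData.norm7x4 ∧ ee 2 = 4 := ⟨rfl, rfl⟩
  have hnn : ∀ i, nn i ∈ Cfsg.M24 ∧ nn i * r = r ^ ee i * nn i ∧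
      nn i • StabCert.famOf T0 = StabCert.famOf T0 := by
    intro i
    obtain rfl | rfl | rfl : i = 0 ∨ i = 1 ∨ i = 2 := by omega
    · rw [e0.1, e0.2]
      exact ⟨one_mem _, by simp, one_smul _ _⟩
    · rw [e1.1, e1.2]
      exact ⟨toPerm_mem_M24 vn.1, n2,
        hfix ClassData.norm7x2 (List.mem_append_right _ List.mem_cons_self)⟩
    · rw [e2.1, e2.2]
      exact ⟨toPerm_mem_M24 vn.2, n4, hfix ClassData.norm7x4
        (List.mem_append_right _ (List.mem_cons_of_mem _ List.mem_cons_self))⟩
  have excl : ∀ (t : List ℕ) (starts : List (List ℕ)), validList t = true →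
      (ClassData.wit7f3.all fun w => (List.range 24).all fun i =>
        applyNum w (applyNum t i) == applyNum t (applyNum w i)) = true →
      (List.range 24).all (fun i => applyNum t i == i || applyNum ClassData.rep7f3 i != i) = true →
      startsOK 7 t starts = true →
      solveOK (pack ClassData.rep7f3) (pack t) (starts.map pack) [] = true →
      applyNum t 23 ≠ 23 →
      ∀ c ∈ Cfsg.M24, c * r ≠ toPerm t * c := by
    intro t starts ht hwt hmv hst hsolve ht23 c hcm hcr
    have hmoved : applyNum t (idx (c (ptN 23))).val ≠ (idx (c (ptN 23))).val := by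
      intro e
      have h1 : toPerm t (c (ptN 23)) = c (ptN 23) := by
        apply ptEquiv.injective
        apply Fin.ext
        show (idx (toPerm t (c (ptN 23)))).val = _
        rw [idx_toPerm ht]; exact e
      have h2 : r (ptN 23) = ptN 23 := c.injective
        ((Equiv.ext_iff.1 hcr (ptN 23)).trans h1)
      revert h2
      decide +kernel
    have hr : applyNum ClassData.rep7f3 (idx (c (ptN 23))).val ≠ (idx (c (ptN 23))).val := by
      have := List.all_eq_true.1 hmv _ (List.mem_range.2 (idx (c (ptN 23))).isLt)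
      simpa [hmoved] using this
    have hcov : (List.range 24).all (fun i => applyNum ClassData.rep7f3 i == i ||
        ClassData.wit7f3.any fun w => validList w && applyNum w 23 == i) = true := by
      decide +kernel
    have := List.all_eq_true.1 hcov _ (List.mem_range.2 (idx (c (ptN 23))).isLt)
    simp only [beq_eq_false_iff_ne.2 hr, Bool.false_or, List.any_eq_true, Bool.and_eq_true,
      beq_iff_eq] at this
    obtain ⟨w, hwm, hwv, hwi⟩ := this
    have hwc : toPerm w * toPerm t = toPerm t * toPerm w := by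
      refine Equiv.ext fun p => ptEquiv.injective (Fin.ext ?_)
      show (idx (toPerm w (toPerm t p))).val = (idx (toPerm t (toPerm w p))).val
      rw [idx_toPerm hwv, idx_toPerm ht, idx_toPerm ht, idx_toPerm hwv]
      exact beq_iff_eq.1 (List.all_eq_true.1 (List.all_eq_true.1 hwt w hwm) _
        (List.mem_range.2 (idx p).isLt))
    obtain ⟨l, hl, -⟩ := solutions (n := 7) (r := ClassData.rep7f3) (s := t) (starts := starts)
      (known := []) (inM24.valid v7) ht (by decide +kernel) hst
      rfl (by rw [List.map_nil]; exact hsolve) (k := (toPerm w)⁻¹ * c)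
      (mul_mem (inv_mem (mem_centM24.1 (hw w hwm)).1) hcm)
      (by
        rw [Equiv.Perm.mul_apply, Equiv.Perm.inv_eq_iff_eq]
        apply ptEquiv.injective
        apply Fin.ext
        show (idx (c (ptN 23))).val = (idx (toPerm w (ptN 23))).val
        rw [idx_toPerm hwv, idx_ptN (by norm_num), hwi])
      (by
        show (toPerm w)⁻¹ * c * r = _
        rw [mul_assoc, hcr, ← mul_assoc, (Commute.inv_left (show Commute _ _ from hwc)).eq,
          mul_assoc])
    exact List.not_mem_nil hl
  have hnorm : ∀ c : ↥Cfsg.M24, c ∈ Subgroup.normalizer (Subgroup.zpowers y : Set ↥Cfsg.M24) →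
      ∃ i, ∃ z ∈ centM24 ClassData.rep7f3, c.1 = k * (nn i * z) * k⁻¹ := by
    intro c hcn
    rw [Subgroup.mem_normalizer_iff] at hcn
    obtain ⟨j, hj⟩ := mem_powers_iff_mem_zpowers.2 ((hcn y).1 (Subgroup.mem_zpowers y))
    have hjm : j % 7 < 7 := Nat.mod_lt _ (by norm_num)
    have hj' : (k⁻¹ * c.1 * k) * r = r ^ (j % 7) * (k⁻¹ * c.1 * k) := by
      have h1 : c.1 * (k * r * k⁻¹) * c.1⁻¹ = k * r ^ j * k⁻¹ := by
        rw [← conj_pow, ← hy]
        exact (congrArg Subtype.val hj).symm
      have h3 : r ^ j = r ^ (j % 7) := by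
        conv_lhs => rw [← Nat.div_add_mod j 7, pow_add, pow_mul, p7, one_pow, one_mul]
      rw [← h3]
      calc k⁻¹ * c.1 * k * r = k⁻¹ * (c.1 * (k * r * k⁻¹) * c.1⁻¹) * c.1 * k := by group
        _ = r ^ j * (k⁻¹ * c.1 * k) := by rw [h1]; group
    have hcm : k⁻¹ * c.1 * k ∈ Cfsg.M24 := mul_mem (mul_mem (inv_mem hk) c.2) hk
    have pick : ∀ i : Fin 3, j % 7 = ee i →
        ∃ i, ∃ z ∈ centM24 ClassData.rep7f3, c.1 = k * (nn i * z) * k⁻¹ := by
      intro i hi
      refine ⟨i, (nn i)⁻¹ * (k⁻¹ * c.1 * k), mem_centM24.2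
        ⟨mul_mem (inv_mem (hnn i).1) hcm, ?_⟩, by group⟩
      show (nn i)⁻¹ * (k⁻¹ * c.1 * k) * r = r * ((nn i)⁻¹ * (k⁻¹ * c.1 * k))
      have hn : (nn i)⁻¹ * r ^ ee i = r * (nn i)⁻¹ := by
        rw [eq_mul_inv_iff_mul_eq, mul_assoc, ← (hnn i).2.1, ← mul_assoc, inv_mul_cancel, one_mul]
      rw [mul_assoc, hj', hi, ← mul_assoc, hn, mul_assoc]
    interval_cases h : j % 7
    · exfalso
      rw [pow_zero, one_mul] at hj'
      have hr1 : r = 1 := mul_left_cancel (hj'.trans (mul_one _).symm)
      have : r (ptN 23) = ptN 23 := by rw [hr1]; rfl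
      revert this
      decide +kernel
    · exact pick 0 rfl
    · exact pick 1 rfl
    · exact absurd hj' (p3 ▸ excl _ ClassData.starts7x3 (inM24.valid v73) (by decide +kernel)
        (by decide +kernel) (by decide +kernel) (by decide +kernel) (by decide +kernel) _ hcm)
    · exact pick 2 rfl
    · exact absurd hj' (p5 ▸ excl _ ClassData.starts7x5 (inM24.valid v75) (by decide +kernel)
        (by decide +kernel) (by decide +kernel) (by decide +kernel) (by decide +kernel) _ hcm)
    · exact absurd hj' (p6 ▸ excl _ ClassData.starts7x6 (inM24.valid v76) (by decide +kernel)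
        (by decide +kernel) (by decide +kernel) (by decide +kernel) (by decide +kernel) _ hcm)
  refine ⟨?_, ?_, ?_, ?_⟩
  · let f : Fin 3 × ↥(centM24 ClassData.rep7f3) →
        ↥(Subgroup.normalizer (Subgroup.zpowers y : Set ↥Cfsg.M24)) := fun a =>
      ⟨⟨k * (nn a.1 * a.2.1) * k⁻¹,
        mul_mem (mul_mem hk (mul_mem (hnn a.1).1 (mem_centM24.1 a.2.2).1)) (inv_mem hk)⟩, by
        obtain ⟨hn1, hn2, -⟩ := hnn a.1
        have hz := (mem_centM24.1 a.2.2).2
        rw [← Subgroup.zpowers_le] at *
        set c : ↥Cfsg.M24 := ⟨k * (nn a.1 * a.2.1) * k⁻¹, _⟩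
        have hcy : c * y * c⁻¹ = y ^ ee a.1 := by
          apply Subtype.ext
          simp only [Subgroup.coe_mul, Subgroup.coe_inv, SubmonoidClass.coe_pow, hy, conj_pow, c]
          calc k * (nn a.1 * a.2.1) * k⁻¹ * (k * r * k⁻¹) * (k * (nn a.1 * a.2.1) * k⁻¹)⁻¹
              = k * (nn a.1 * (a.2.1 * r) * a.2.1⁻¹ * (nn a.1)⁻¹) * k⁻¹ := by group
            _ = k * (nn a.1 * r * (nn a.1)⁻¹) * k⁻¹ := by
              rw [show a.2.1 * r = r * a.2.1 from hz]; group
            _ = k * r ^ ee a.1 * k⁻¹ := by rw [hn2]; group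
        rw [Subgroup.zpowers_le, Subgroup.mem_normalizer_iff_map_conj_eq]
        rw [MonoidHom.map_zpowers]
        refine Subgroup.eq_of_le_of_card_ge (Subgroup.zpowers_le.2 ?_) ?_
        · show c * y * c⁻¹ ∈ _
          rw [hcy]; exact pow_mem (Subgroup.mem_zpowers y) _
        · rw [Nat.card_zpowers, Nat.card_zpowers]
          exact le_of_eq (orderOf_injective _ (MulAut.conj c).injective y).symm⟩
    have hb : Function.Bijective f := by
      constructor
      · rintro ⟨i, z⟩ ⟨i', z'⟩ e
        have e' : nn i * z.1 = nn i' * z'.1 := by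
          have := congrArg (fun q : ↥(Subgroup.normalizer _) => k⁻¹ * q.1.1 * k) e
          simpa [f, mul_assoc] using this
        have hh : ∀ i (z : ↥(centM24 ClassData.rep7f3)),
            nn i * z.1 * r = r ^ ee i * (nn i * z.1) := fun i z => by
          rw [mul_assoc, show z.1 * r = r * z.1 from (mem_centM24.1 z.2).2, ← mul_assoc,
            (hnn i).2.1, mul_assoc]
        have hii : r ^ ee i = r ^ ee i' := by
          have h1 := hh i z
          rw [e', hh i' z'] at h1
          exact (mul_right_cancel h1).symm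
        have : i = i' := by
          have h23 : ∀ i i' : Fin 3, (r ^ ee i) (ptN 23) = (r ^ ee i') (ptN 23) → i = i' := by
            decide +kernel
          exact h23 i i' (by rw [hii])
        subst this
        exact Prod.ext rfl (Subtype.ext (mul_left_cancel e'))
      · intro c
        obtain ⟨i, z, hz, e⟩ := hnorm c.1 c.2
        exact ⟨(i, ⟨z, hz⟩), Subtype.ext (Subtype.ext e.symm)⟩
    rw [← Nat.card_congr (Equiv.ofBijective f hb), Nat.card_prod, hcc, Nat.card_fin]
  · rw [← hcc, ← card_cent_conj (l := ClassData.rep7f3) hk]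
    exact Nat.card_congr
      { toFun := fun c => ⟨c.1.1, c.1.2, (hcentmem c.1).1 c.2⟩
        invFun := fun c => ⟨⟨c.1, c.2.1⟩, (hcentmem _).2 c.2.2⟩
        left_inv := fun c => rfl
        right_inv := fun c => rfl }
  · have hpair : (ClassData.wit7f3 ++ ClassData.cent7f3).any (fun a =>
        (ClassData.wit7f3 ++ ClassData.cent7f3).any fun b => validList a && validList b &&
          applyNum a (applyNum b 23) != applyNum b (applyNum a 23) ||
          validList a && validList b && applyNum a (applyNum b 0) != applyNum b (applyNum a 0) ||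
          validList a && validList b && applyNum a (applyNum b 4) != applyNum b (applyNum a 4)) =
        true := by decide +kernel
    obtain ⟨a, ha, hb⟩ := List.any_eq_true.1 hpair
    obtain ⟨b, hb, hab⟩ := List.any_eq_true.1 hb
    have mem : ∀ l ∈ ClassData.wit7f3 ++ ClassData.cent7f3,
        toPerm l ∈ centM24 ClassData.rep7f3 := fun l hl => by
      rcases List.mem_append.1 hl with h | h
      exacts [hw l h, (hc l h).1]
    have hne : toPerm a * toPerm b ≠ toPerm b * toPerm a := by
      simp only [Bool.or_eq_true, Bool.and_eq_true, bne_iff_ne] at hab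
      intro e
      have e' := fun i (hi : i < 24) =>
        congrArg (fun σ : Equiv.Perm Cfsg.GolayPt => (idx (σ (ptN i))).val) e
      rcases hab with (⟨⟨va, vb⟩, h⟩ | ⟨⟨va, vb⟩, h⟩) | ⟨⟨va, vb⟩, h⟩
      · apply h; simpa [idx_toPerm va, idx_toPerm vb, idx_ptN] using e' 23 (by norm_num)
      · apply h; simpa [idx_toPerm va, idx_toPerm vb, idx_ptN] using e' 0 (by norm_num)
      · apply h; simpa [idx_toPerm va, idx_toPerm vb, idx_ptN] using e' 4 (by norm_num)
    have inC : ∀ l (hl : l ∈ ClassData.wit7f3 ++ ClassData.cent7f3),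
        (⟨k * toPerm l * k⁻¹,
          mul_mem (mul_mem hk (mem_centM24.1 (mem l hl)).1) (inv_mem hk)⟩ : ↥Cfsg.M24) ∈
          Subgroup.centralizer (Subgroup.zpowers y : Set ↥Cfsg.M24) := fun l hl => by
      rw [hcentmem]
      refine conj_mem_cent.2 ?_
      simpa [mul_assoc] using (mem_centM24.1 (mem l hl)).2
    refine ⟨_, inC a ha, _, inC b hb, fun e => hne ?_⟩
    have := congrArg (fun q : ↥Cfsg.M24 => k⁻¹ * q.1 * k) e
    simpa [mul_assoc] using this
  · refine ⟨k • StabCert.famOf T0, trios_inv k hk _ (Suborbit.Trio.famOf_trio hT.2.1), ?_⟩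
    intro c hcn
    obtain ⟨i, z, hz, e⟩ := hnorm c hcn
    obtain ⟨w, hwm, l, hlm, rfl⟩ := cent_factor cent7f3_ok hz
    rw [e, smul_conj_iff, inv_smul_smul, mul_smul, mul_smul, hfix l (by simp [hlm]),
      hfix w (by simp [hwm]), (hnn i).2.2]

end Cfsg.Agent.S5604
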