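import Cfsg.Statements.S5605
import Mathlib
import Cfsg.Agent.Lib.Golay.ClassCount

set_option autoImplicit false
open scoped Pointwise
open Cfsg

namespace Cfsg.Agent.S5605

open Cfsg.Agent.Lib.Golay Cfsg.Agent.Lib.Golay.Classes in
/-- An involution of the group of the length-24 code with exactly 8 fixed points maps to themselves exactly 71 octads, exactly 99 trios and exactly 91 sextets. -/
theorem result (g : Equiv.Perm Cfsg.GolayPt) (hg : g ∈ Cfsg.M24) (h₂ : orderOf g = 2) (h₈ : (Finset.univ.filter fun p => g p = p).card = 8) : {o : Finset Cfsg.GolayPt | o ∈ Cfsg.octads ∧ g • o = o}.ncard = 71 ∧ {T : Finset (Finset Cfsg.GolayPt) | T ∈ Cfsg.trios ∧ g • T = T}.ncard = 99 ∧ {S : Finset (Finset Cfsg.GolayPt) | S ∈ Cfsg.sextets ∧ g • S = S}.ncard = 91 := by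
  have v := reps_valid
  simp only [List.all_cons, Bool.and_eq_true] at v
  obtain ⟨v8, v2, v6, v0, -⟩ := v
  obtain ⟨n8, n2, n6, n0⟩ := fixNum_reps
  obtain ⟨r, hr, k, hk, rfl⟩ := classify_two hg h₂
  simp only [List.mem_cons, List.not_mem_nil, or_false] at hr
  rcases hr with rfl | rfl
  · exact ⟨(count_octad hk (inM24.valid v8)).trans counts_code.1,
      (count_trio hk (inM24.valid v8)).trans counts_trio.1,
      (count_sextet hk (inM24.valid v8)).trans counts_sextet.1⟩
  · change fixCount _ = 8 at h₈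
    rw [fixCount_conj, fixCount_toPerm (inM24.valid v2), n2] at h₈
    omega

end Cfsg.Agent.S5605
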