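import Cfsg.Statements.S5607
import Mathlib
import Cfsg.Agent.Lib.Golay.ClassCount

set_option autoImplicit false
open scoped Pointwise
open Cfsg

namespace Cfsg.Agent.S5607

open Cfsg.Agent.Lib.Golay Cfsg.Agent.Lib.Golay.Classes in
/-- For a fixed-point-free involution t of the group of the length-24 code: its centraliser in that group has order 7680, is transitive on the 24 points, and is contained, together with t, in the stabiliser of some sextet. -/
theorem result (t : Equiv.Perm Cfsg.GolayPt) (ht : t ∈ Cfsg.M24) (h₂ : orderOf t = 2) (h₀ : ∀ p, t p ≠ p) : Nat.card {c : Equiv.Perm Cfsg.GolayPt // c ∈ Cfsg.M24 ∧ c * t = t * c} = 7680 ∧ (∀ p q : Cfsg.GolayPt, ∃ c ∈ Cfsg.M24, c * t = t * c ∧ c p = q) ∧ ∃ S ∈ Cfsg.sextets, t • S = S ∧ ∀ c ∈ Cfsg.M24, c * t = t * c → c • S = S := by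
  have v := reps_valid
  simp only [List.all_cons, Bool.and_eq_true] at v
  obtain ⟨v8, v2, v6, v0, -⟩ := v
  obtain ⟨n8, n2, n6, n0⟩ := fixNum_reps
  obtain ⟨r, hr, k, hk, rfl⟩ := classify_two ht h₂
  simp only [List.mem_cons, List.not_mem_nil, or_false] at hr
  rcases hr with rfl | rfl
  · have h := fixCount_eq_zero.2 h₀
    rw [fixCount_conj, fixCount_toPerm (inM24.valid v8), n8] at h
    omega
  · have hcard : Nat.card (centM24 ClassData.rep2f0) = 7680 := by
      rw [card_centM24 cent2f0_ok]
      decide +kernel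
    obtain ⟨hw, hc⟩ := cent_mem cent2f0_ok
    have tr : ∀ p : Cfsg.GolayPt, ∃ c ∈ centM24 ClassData.rep2f0, c (ptN 23) = p := by
      intro p
      have hcov : (List.range 24).all (fun i =>
          ClassData.wit2f0.any fun w => validList w && applyNum w 23 == i) = true := by
        decide +kernel
      obtain ⟨w, hwm, hwi⟩ := List.any_eq_true.1
        (List.all_eq_true.1 hcov (idx p).val (List.mem_range.2 (idx p).isLt))
      simp only [Bool.and_eq_true, beq_iff_eq] at hwi
      refine ⟨toPerm w, hw w hwm, ptEquiv.injective (Fin.ext ?_)⟩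
      show (idx (toPerm w (ptN 23))).val = (idx p).val
      rw [idx_toPerm hwi.1, idx_ptN (by norm_num), hwi.2]
    refine ⟨(card_cent_conj hk).trans hcard, ?_, ?_⟩
    · intro p q
      obtain ⟨a, ha, hap⟩ := tr (k⁻¹ p)
      obtain ⟨b, hb, hbq⟩ := tr (k⁻¹ q)
      have hba := mem_centM24.1 (mul_mem hb (inv_mem ha))
      refine ⟨k * (b * a⁻¹) * k⁻¹, mul_mem (mul_mem hk hba.1) (inv_mem hk), ?_, ?_⟩
      · refine conj_mem_cent.2 ?_
        simpa [mul_assoc] using hba.2
      · have e1 : a⁻¹ (k⁻¹ p) = ptN 23 := by rw [← hap]; simp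
        simp only [Equiv.Perm.mul_apply, e1, hbq]
        simp
    · let S0 : List ℕ := [107008, 264198, 655496, 2113632, 5243920, 8392961]
      have hS0 : StabCert.canonFam S0 = true ∧ Suborbit.Sextet.isSextetCode S0 = true ∧
          (ClassData.wit2f0 ++ ClassData.cent2f0 ++ [ClassData.rep2f0]).all
            (fun l => validList l && fixFam l S0) = true := by decide +kernel
      have hlt := (StabCert.canonFam_spec hS0.1).2
      have hfix : ∀ l ∈ ClassData.wit2f0 ++ ClassData.cent2f0 ++ [ClassData.rep2f0],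
          toPerm l • StabCert.famOf S0 = StabCert.famOf S0 := fun l hl => by
        have := List.all_eq_true.1 hS0.2.2 l hl
        rw [Bool.and_eq_true] at this
        exact (smul_famOf_eq_iff this.1 hlt).2 this.2
      have hall : ∀ c ∈ centM24 ClassData.rep2f0, c • StabCert.famOf S0 = StabCert.famOf S0 := by
        intro c hcm
        obtain ⟨w, hwm, l, hl, rfl⟩ := cent_factor cent2f0_ok hcm
        rw [mul_smul, hfix l (by simp [hl]), hfix w (by simp [hwm])]
      refine ⟨k • StabCert.famOf S0,
        sextets_inv k hk _ (Suborbit.Sextet.famOf_sextet hS0.2.1), ?_, ?_⟩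
      · rw [smul_conj_iff, inv_smul_smul, hfix _ (by simp)]
      · intro c hcm hcc
        have := hall _ (mem_centM24.2
          ⟨mul_mem (mul_mem (inv_mem hk) hcm) hk, conj_mem_cent.1 hcc⟩)
        rw [mul_smul, mul_smul, inv_smul_eq_iff] at this
        exact this

end Cfsg.Agent.S5607
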