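import Cfsg.Statements.S5608
import Mathlib
import Cfsg.Agent.Lib.Golay.ClassCount

set_option autoImplicit false
open scoped Pointwise
open Cfsg

namespace Cfsg.Agent.S5608

open Cfsg.Agent.Lib.Golay Cfsg.Agent.Lib.Golay.Classes in
set_option maxHeartbeats 2000000 in
/-- If an element of order 3 and an involution of the group of the length-24 code commute, then either the element of order 3 has exactly 6 fixed points and the involution exactly 8, or both are fixed-point-free. -/
theorem result (x s : Equiv.Perm Cfsg.GolayPt) (hx : x ∈ Cfsg.M24) (hs : s ∈ Cfsg.M24) (h₃ : orderOf x = 3) (h₂ : orderOf s = 2) (hc : Commute x s) : ((Finset.univ.filter fun p => x p = p).card = 6 ∧ (Finset.univ.filter fun p => s p = p).card = 8) ∨ ((Finset.univ.filter fun p => x p = p).card = 0 ∧ (Finset.univ.filter fun p => s p = p).card = 0) := by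
  have v := reps_valid
  simp only [List.all_cons, Bool.and_eq_true] at v
  obtain ⟨-, -, v6, v0, -⟩ := v
  obtain ⟨-, -, n6, n0⟩ := fixNum_reps
  have key : ∀ {n : ℕ} {r : List ℕ} {wit cent starts : List (List ℕ)} {k : Equiv.Perm Cfsg.GolayPt}
      (m : ℕ), centOK n r wit cent starts = true →
      (wit.all fun w => cent.all fun l => validList (compList w l) && validList w && validList l &&
        (!((List.range 24).all fun i =>
            applyNum (compList w l) (applyNum (compList w l) i) == i) ||
          (List.range 24).all (fun i => applyNum (compList w l) i == i) ||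
          fixNum (compList w l) == m)) = true →
      k ∈ Cfsg.M24 → k * toPerm r * k⁻¹ = x → fixCount s = m := by
    intro n r wit cent starts k m hok hall hk hkx
    have hs' : k⁻¹ * s * k ∈ centM24 r := mem_centM24.2
      ⟨mul_mem (mul_mem (inv_mem hk) hs) hk, conj_mem_cent.1 (by rw [hkx]; exact hc.eq.symm)⟩
    obtain ⟨w, hw, l, hl, e⟩ := cent_factor hok hs'
    have := List.all_eq_true.1 (List.all_eq_true.1 hall w hw) l hl
    simp only [Bool.and_eq_true, Bool.or_eq_true, Bool.not_eq_true', beq_iff_eq] at this
    obtain ⟨⟨⟨vwl, vw⟩, vl⟩, h⟩ := this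
    rw [← toPerm_mul vw vl vwl] at e
    have es : s = k * toPerm (compList w l) * k⁻¹ := by rw [← e]; group
    have hinv : ∀ i < 24, applyNum (compList w l) (applyNum (compList w l) i) = i := by
      intro i hi
      have h2 : s * s = 1 := by rw [← pow_two, ← h₂, pow_orderOf_eq_one]
      have h3 : toPerm (compList w l) * toPerm (compList w l) = 1 := by
        have : k * (toPerm (compList w l) * toPerm (compList w l)) * k⁻¹ = 1 := by
          rw [← h2, es]; group
        simpa using this
      have := congrArg (fun σ : Equiv.Perm Cfsg.GolayPt => (idx (σ (ptN i))).val) h3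
      simpa only [Equiv.Perm.mul_apply, idx_toPerm vwl, idx_ptN hi, Equiv.Perm.one_apply] using this
    rcases h with (h | h) | h
    · rw [List.all_eq_false] at h
      obtain ⟨i, hi, hne⟩ := h
      simp [hinv i (List.mem_range.1 hi)] at hne
    · exfalso
      have h1 : toPerm (compList w l) = 1 := (toPerm_eq_iff vwl 1).2 fun i => by
        have := beq_iff_eq.1 (List.all_eq_true.1 h i.val (List.mem_range.2 i.isLt))
        rw [this, Equiv.Perm.one_apply, idx_pt]
      rw [es, h1, mul_one, mul_inv_cancel, orderOf_one] at h₂
      omega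
    · rw [es, fixCount_conj, fixCount_toPerm vwl, h]
  obtain ⟨r, hr, k, hk, e⟩ := classify_three hx h₃
  simp only [List.mem_cons, List.not_mem_nil, or_false] at hr
  rcases hr with rfl | rfl
  · refine Or.inl ⟨?_, key 8 cent3f6_ok (by decide +kernel) hk e⟩
    show fixCount x = 6
    rw [← e, fixCount_conj, fixCount_toPerm (inM24.valid v6), n6]
  · refine Or.inr ⟨?_, key 0 cent3f0_ok (by decide +kernel) hk e⟩
    show fixCount x = 0
    rw [← e, fixCount_conj, fixCount_toPerm (inM24.valid v0), n0]

end Cfsg.Agent.S5608
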