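import Cfsg.Statements.S5609
import Mathlib
import Cfsg.Agent.Lib.Golay.OctadPairs

set_option autoImplicit false
open scoped Pointwise
open Cfsg

namespace Cfsg.Agent.S5609

open Cfsg.Agent.Lib.Golay Cfsg.Agent.Lib.Golay.StabCert in
/-- In the graph on the 759 octads of the length-24 code in which two octads are adjacent when they are disjoint, the graph is connected (of diameter 3) and two distinct octads are at distance 1, 2 or 3 exactly when they meet in 0, 4 or 2 points respectively. -/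
theorem result (o o' : Finset Cfsg.GolayPt) (ho : o ∈ Cfsg.octads) (ho' : o' ∈ Cfsg.octads) (hne : o ≠ o') : (Cfsg.blockGraph Cfsg.octads).Connected ∧ ((Cfsg.blockGraph Cfsg.octads).dist ⟨o, ho⟩ ⟨o', ho'⟩ = 1 ↔ (o ∩ o').card = 0) ∧ ((Cfsg.blockGraph Cfsg.octads).dist ⟨o, ho⟩ ⟨o', ho'⟩ = 2 ↔ (o ∩ o').card = 4) ∧ ((Cfsg.blockGraph Cfsg.octads).dist ⟨o, ho⟩ ⟨o', ho'⟩ = 3 ↔ (o ∩ o').card = 2) := by
  classical
  have adj : ∀ a b : ↥Cfsg.octads, (Cfsg.blockGraph Cfsg.octads).Adj a b ↔
      (a.1 ∩ b.1).card = 0 := by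
    intro a b
    rw [Cfsg.blockGraph, SimpleGraph.fromRel_adj]
    simp only [Finset.disjoint_iff_inter_eq_empty, Finset.inter_comm b.1, or_self,
      Finset.card_eq_zero, and_iff_right_iff_imp]
    intro h e
    subst e
    rw [Finset.inter_self] at h
    have := octad_card a.2
    rw [h] at this
    simp at this
  have witness : ∀ a b : ↥Cfsg.octads, ((a.1 ∩ b.1).card = 4 →
        ∃ c, (Cfsg.blockGraph Cfsg.octads).Adj a c ∧ (Cfsg.blockGraph Cfsg.octads).Adj c b) ∧
      ((a.1 ∩ b.1).card = 2 →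
        (∀ c, ¬ ((Cfsg.blockGraph Cfsg.octads).Adj a c ∧ (Cfsg.blockGraph Cfsg.octads).Adj c b)) ∧
        ∃ c d, (Cfsg.blockGraph Cfsg.octads).Adj a c ∧ (Cfsg.blockGraph Cfsg.octads).Adj c d ∧
          (Cfsg.blockGraph Cfsg.octads).Adj d b) := by
    intro a b
    obtain ⟨g, r, hr, ha, hb, hc⟩ := OctadPairs.exists_root a.2 b.2
    have hz : ∀ m n : ℕ, (g • ptsOf m ∩ g • ptsOf n).card = popCount (m &&& n) := fun m n => by
      rw [← Finset.smul_finset_inter, Finset.card_smul_finset, ← ptsOf_land, card_ptsOf]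
    have facts : Orbits.Octad.orbits.all (fun r =>
      (popCount (Orbits.Octad.base &&& r.1) != 4 || (List.range 4096).any fun x =>
        popCount (encode x) == 8 && popCount (Orbits.Octad.base &&& encode x) == 0 &&
          popCount (encode x &&& r.1) == 0) &&
      (popCount (Orbits.Octad.base &&& r.1) != 2 ||
        ((List.range 4096).all fun x =>
          !(popCount (encode x) == 8 && popCount (Orbits.Octad.base &&& encode x) == 0 &&
          popCount (encode x &&& r.1) == 0)) &&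
        (List.range 4096).any fun x => popCount (encode x) == 8 &&
          popCount (Orbits.Octad.base &&& encode x) == 0 &&
          (List.range 4096).any fun y => popCount (encode y) == 8 &&
            popCount (encode x &&& encode y) == 0 && popCount (encode y &&& r.1) == 0)) = true := by
      decide +kernel
    have hf := List.all_eq_true.1 facts r hr
    simp only [Bool.and_eq_true, Bool.or_eq_true, bne_iff_ne, List.any_eq_true, List.all_eq_true,
      List.mem_range, Bool.not_eq_true', beq_iff_eq] at hf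
    rw [hc] at hf
    have mk : ∀ x, popCount (encode x) = 8 → g • ptsOf (encode x) ∈ Cfsg.octads := fun x h =>
      smul_octad g (mem_octads_iff.2 ⟨encode_isCodeSet x, by rw [card_ptsOf, h]⟩)
    refine ⟨fun h4 => ?_, fun h2 => ?_⟩
    · obtain ⟨x, -, ⟨h8, hx1⟩, hx2⟩ := hf.1.resolve_left (fun h => h h4)
      exact ⟨⟨_, mk x h8⟩, (adj _ _).2 (by rw [← ha, hz, hx1]),
        (adj _ _).2 (by rw [← hb, hz, hx2])⟩
    · obtain ⟨hnone, x, -, ⟨h8, hx1⟩, y, -, ⟨h8', hxy⟩, hy⟩ := hf.2.resolve_left (fun h => h h2)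
      refine ⟨?_, ⟨_, mk x h8⟩, ⟨_, mk y h8'⟩, (adj _ _).2 (by rw [← ha, hz, hx1]),
        (adj _ _).2 (by rw [hz, hxy]), (adj _ _).2 (by rw [← hb, hz, hy])⟩
      rintro ⟨c, hc'⟩ ⟨h1, h2'⟩
      have hgc : g⁻¹ • c ∈ Cfsg.octads := smul_octad g⁻¹ hc'
      obtain ⟨hcode, h8c⟩ := mem_octads_iff.1 hgc
      obtain ⟨i, hi, hm⟩ := hcode.exists_eq
      have e : c = g • ptsOf (encode i) := by rw [← hm, smul_inv_smul]
      rw [adj] at h1 h2'
      dsimp only at h1 h2'
      rw [← ha, e, hz] at h1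
      rw [← hb, e, hz] at h2'
      rw [hm, card_ptsOf] at h8c
      have := hnone i hi
      simp [h1, h2', h8c] at this
  have three : ∀ a b : ↥Cfsg.octads, a ≠ b → (Cfsg.blockGraph Cfsg.octads).Reachable a b ∧
      ((a.1 ∩ b.1).card = 0 ∧ (Cfsg.blockGraph Cfsg.octads).dist a b = 1 ∨
        (a.1 ∩ b.1).card = 4 ∧ (Cfsg.blockGraph Cfsg.octads).dist a b = 2 ∨
        (a.1 ∩ b.1).card = 2 ∧ (Cfsg.blockGraph Cfsg.octads).dist a b = 3) := by
    intro a b hab
    obtain ⟨w4, w2⟩ := witness a b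
    have hcase : (a.1 ∩ b.1).card = 0 ∨ (a.1 ∩ b.1).card = 4 ∨ (a.1 ∩ b.1).card = 2 := by
      have := octad_inter_cases a.2 b.2 (fun e => hab (Subtype.ext e))
      omega
    rcases hcase with h | h | h
    · have h1 := (adj a b).2 h
      exact ⟨h1.reachable, Or.inl ⟨h, SimpleGraph.dist_eq_one_iff_adj.2 h1⟩⟩
    · obtain ⟨c, h1, h2⟩ := w4 h
      let w := SimpleGraph.Walk.cons h1 (SimpleGraph.Walk.cons h2 SimpleGraph.Walk.nil)
      refine ⟨w.reachable, Or.inr (Or.inl ⟨h, ?_⟩)⟩
      have hle : (Cfsg.blockGraph Cfsg.octads).dist a b ≤ 2 := SimpleGraph.dist_le w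
      have h0 := w.reachable.pos_dist_of_ne hab
      have h1' : (Cfsg.blockGraph Cfsg.octads).dist a b ≠ 1 := fun e => by
        rw [SimpleGraph.dist_eq_one_iff_adj, adj] at e
        omega
      omega
    · obtain ⟨hno, c, d, h1, h2, h3⟩ := w2 h
      let w := SimpleGraph.Walk.cons h1 (SimpleGraph.Walk.cons h2
        (SimpleGraph.Walk.cons h3 SimpleGraph.Walk.nil))
      refine ⟨w.reachable, Or.inr (Or.inr ⟨h, ?_⟩)⟩
      have hle : (Cfsg.blockGraph Cfsg.octads).dist a b ≤ 3 := SimpleGraph.dist_le w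
      have h0 := w.reachable.pos_dist_of_ne hab
      have h1' : (Cfsg.blockGraph Cfsg.octads).dist a b ≠ 1 := fun e => by
        rw [SimpleGraph.dist_eq_one_iff_adj, adj] at e
        omega
      have h2' : (Cfsg.blockGraph Cfsg.octads).dist a b ≠ 2 := fun e => by
        obtain ⟨p, hp⟩ := w.reachable.exists_walk_length_eq_dist
        rw [e] at hp
        exact hno (p.getVert 1) ⟨by simpa using p.adj_getVert_succ (i := 0) (by omega),
          by
            have := p.adj_getVert_succ (i := 1) (by omega)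
            rwa [show (1 : ℕ) + 1 = p.length from hp.symm, p.getVert_length] at this⟩
      omega
  have hconn : (Cfsg.blockGraph Cfsg.octads).Connected := by
    have : Nonempty ↥Cfsg.octads := ⟨⟨o, ho⟩⟩
    refine ⟨fun a b => ?_⟩
    by_cases hab : a = b
    · rw [hab]
    · exact (three a b hab).1
  refine ⟨hconn, ?_⟩
  rcases (three ⟨o, ho⟩ ⟨o', ho'⟩ (fun e => hne (congrArg Subtype.val e))).2 with ⟨h, e⟩ | ⟨h, e⟩ | ⟨h, e⟩ <;>
    · dsimp only at h
      rw [e, h]
      norm_num

end Cfsg.Agent.S5609
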