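import Cfsg.Statements.S5614
import Mathlib
import Cfsg.Agent.Lib.Golay.OctadPairs

set_option autoImplicit false
open scoped Pointwise
open Cfsg

namespace Cfsg.Agent.S5614

open Cfsg.Agent.Lib.Golay Cfsg.Agent.Lib.Golay.StabCert in
/-- In the group of the length-24 code, the joint stabiliser of two octads meeting in exactly two points is isomorphic to the symmetric group of degree 6. -/
theorem result (o o' : Finset Cfsg.GolayPt) (ho : o ∈ Cfsg.octads) (ho' : o' ∈ Cfsg.octads) (h₂ : (o ∩ o').card = 2) : Nonempty (↥(MulAction.stabilizer Cfsg.M24 o ⊓ MulAction.stabilizer Cfsg.M24 o') ≃* Equiv.Perm (Fin 6)) := by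
  refine OctadPairs.iso_perm_six _ (six := o \ o') ?_ ((OctadPairs.card_joint ho ho').2.2 h₂) ?_ ?_
  · rw [Finset.card_sdiff, Finset.inter_comm, h₂, octad_card ho]
  · intro g hg p
    obtain ⟨h1, h2⟩ := Subgroup.mem_inf.1 hg
    conv_lhs => rw [← MulAction.mem_stabilizer_iff.1 h1, ← MulAction.mem_stabilizer_iff.1 h2]
    rw [← Finset.smul_finset_sdiff, Finset.smul_mem_smul_finset_iff]
  · intro g hg hfix
    obtain ⟨-, h2⟩ := Subgroup.mem_inf.1 hg
    refine Subtype.ext (OctadPairs.eq_one_of_six (w := o') ho Finset.sdiff_subset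
      (by rw [Finset.card_sdiff, Finset.inter_comm, h₂, octad_card ho])
      ⟨(mem_octads_iff.1 ho').1, Or.inl ⟨octad_card ho', ?_⟩⟩ g.2 hfix h2)
    ext p
    simp only [Finset.mem_sdiff, Finset.mem_inter]
    tauto

end Cfsg.Agent.S5614
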