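import Cfsg.Statements.S5615
import Mathlib
import Cfsg.Agent.Lib.Golay.OctadTrios

set_option autoImplicit false
open scoped Pointwise
open Cfsg

namespace Cfsg.Agent.S5615

open Cfsg.Agent.Lib.Golay Cfsg.Agent.Lib.Golay.StabCert in
/-- An octad of the length-24 code lies in exactly 15 trios; the stabiliser of the octad in the code's group acts doubly transitively on these 15 trios, and the kernel of this action is the pointwise stabiliser of the octad. -/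
theorem result (o : Finset Cfsg.GolayPt) (ho : o ∈ Cfsg.octads) : {T : Finset (Finset Cfsg.GolayPt) | T ∈ Cfsg.trios ∧ o ∈ T}.ncard = 15 ∧ (∀ T₁ T₂ T₁' T₂' : Finset (Finset Cfsg.GolayPt), T₁ ∈ Cfsg.trios → T₂ ∈ Cfsg.trios → T₁' ∈ Cfsg.trios → T₂' ∈ Cfsg.trios → o ∈ T₁ → o ∈ T₂ → o ∈ T₁' → o ∈ T₂' → T₁ ≠ T₂ → T₁' ≠ T₂' → ∃ g ∈ Cfsg.M24, g • o = o ∧ g • T₁ = T₁' ∧ g • T₂ = T₂') ∧ ∀ g ∈ Cfsg.M24, g • o = o → ((∀ T ∈ Cfsg.trios, o ∈ T → g • T = T) ↔ ∀ p ∈ o, g p = p) := by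
  refine ⟨OctadTrios.ncard_at ho, ?_, ?_⟩
  · intro T₁ T₂ T₁' T₂' h₁ h₂ h₁' h₂' m₁ m₂ m₁' m₂' hne hne'
    obtain ⟨g, g0, g1, g2⟩ := OctadTrios.two_transitive ho (T₁ := T₁) (T₂ := T₂) (T₁' := T₁')
      (T₂' := T₂') ⟨h₁, m₁⟩ ⟨h₂, m₂⟩ ⟨h₁', m₁'⟩ ⟨h₂', m₂'⟩ hne hne'
    exact ⟨g.1, g.2, g0, g1, g2⟩
  · intro g hg hgo
    exact ⟨fun h => OctadTrios.pointwise_of_fix ho hg hgo fun T hT => h T hT.1 hT.2,
      fun h T hT hoT => OctadTrios.fix_trio ho hg h ⟨hT, hoT⟩⟩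

end Cfsg.Agent.S5615
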