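import Cfsg.Statements.S5616
import Mathlib
import Cfsg.Agent.Lib.Golay.Cross.TriadSextet

set_option autoImplicit false
open scoped Pointwise
open Cfsg

namespace Cfsg.Agent.S5616

open Cfsg.Agent.Lib.Golay Cfsg.Agent.Lib.Golay.StabCert in
/-- Let Y be a set of 3 of the 24 points. The sextets of the length-24 code whose tetrads meeting Y number 1, 2 or 3 are respectively 21, 630 and 1120 in number, and two sextets with the same number of tetrads meeting Y are conjugate under the setwise stabiliser of Y in the code's group. -/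
theorem result (Y : Finset Cfsg.GolayPt) (hY : Y.card = 3) : {S : Finset (Finset Cfsg.GolayPt) | S ∈ Cfsg.sextets ∧ (S.filter fun t => (t ∩ Y).Nonempty).card = 1}.ncard = 21 ∧ {S : Finset (Finset Cfsg.GolayPt) | S ∈ Cfsg.sextets ∧ (S.filter fun t => (t ∩ Y).Nonempty).card = 2}.ncard = 630 ∧ {S : Finset (Finset Cfsg.GolayPt) | S ∈ Cfsg.sextets ∧ (S.filter fun t => (t ∩ Y).Nonempty).card = 3}.ncard = 1120 ∧ ∀ S S' : Finset (Finset Cfsg.GolayPt), S ∈ Cfsg.sextets → S' ∈ Cfsg.sextets → (S.filter fun t => (t ∩ Y).Nonempty).card = (S'.filter fun t => (t ∩ Y).Nonempty).card → ∃ g ∈ Cfsg.M24, g • Y = Y ∧ g • S = S' := by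
  obtain ⟨g, rfl⟩ := Suborbit.Triad.transitive (show Y ∈ {s : Finset Cfsg.GolayPt | s.card = 3} from hY)
  set B := Orbits.Triad.base with hB
  -- the number of tetrads meeting the triad, read from the profile
  have key : ∀ S ∈ Cfsg.sextets, (S.filter fun t => (t ∩ g • ptsOf B).Nonempty).card +
      Cross.TriadSextet.inv (g⁻¹ • S) = 6 := by
    intro S hS
    have e1 : Cross.TriadSextet.inv (g⁻¹ • S) = meetProfile {g • ptsOf B} S 0 := by
      show meetProfile (famOf [B]) (g⁻¹ • S) 0 = _
      rw [Cross.famOf_singleton, ← meetProfile_smul g, smul_inv_smul, Finset.smul_finset_singleton]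
    have e2 : meetProfile {g • ptsOf B} S 0 =
        (S.filter fun t => ¬ (t ∩ g • ptsOf B).Nonempty).card := by
      rw [meetProfile]
      refine Finset.card_bij (fun x _ => x.2) ?_ ?_ ?_
      · intro x hx
        simp only [Finset.mem_filter, Finset.mem_product, Finset.mem_singleton] at hx ⊢
        refine ⟨hx.1.2, ?_⟩
        rw [Finset.not_nonempty_iff_eq_empty, ← Finset.card_eq_zero, Finset.inter_comm, ← hx.1.1]
        exact hx.2
      · intro x hx y hy e
        simp only [Finset.mem_filter, Finset.mem_product, Finset.mem_singleton] at hx hy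
        exact Prod.ext (hx.1.1.trans hy.1.1.symm) e
      · intro t ht
        simp only [Finset.mem_filter] at ht
        refine ⟨(g • ptsOf B, t), ?_, rfl⟩
        simp only [Finset.mem_filter, Finset.mem_product, Finset.mem_singleton]
        refine ⟨⟨trivial, ht.1⟩, ?_⟩
        rw [Finset.card_eq_zero, Finset.inter_comm]
        exact Finset.not_nonempty_iff_eq_empty.1 ht.2
    rw [e1, e2, Finset.card_filter_add_card_filter_not]
    exact hS.1
  have orb : ∀ (i : ℕ) (o : List ℕ × Cfsg.Agent.Lib.Orbit.OrbTree (List ℕ)), o ∈ CrossData.TriadSextet.orbits →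
      Cross.TriadSextet.inv (famOf o.1) = i → i ≤ 6 →
      {S : Finset (Finset Cfsg.GolayPt) | S ∈ Cfsg.sextets ∧
        (S.filter fun t => (t ∩ g • ptsOf B).Nonempty).card = 6 - i}.ncard =
      (Cfsg.Agent.Lib.Orbit.Coding.orbCodes o).length := by
    intro i o ho hi h6
    rw [← ((Cross.TriadSextet.at_conj g).1 o ho).2]
    congr 1
    ext S
    rw [Cfsg.Agent.Lib.Orbit.cross_orbit_smul, Set.mem_smul_set_iff_inv_smul_mem]
    rw [show (famOf o.1) = famCoding.den o.1 from rfl] at hi ⊢
    rw [Cross.TriadSextet.decomp.mem_orbit_iff _ Cross.TriadSextet.inv_smul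
      Cross.TriadSextet.sep ho, hi]
    constructor
    · rintro ⟨hS, h⟩
      refine ⟨smul_sextet _ hS, ?_⟩
      have := key S hS
      omega
    · rintro ⟨hS, h⟩
      have hS' : S ∈ Cfsg.sextets := by simpa using smul_sextet g hS
      refine ⟨hS', ?_⟩
      have := key S hS'
      omega
  refine ⟨?_, ?_, ?_, ?_⟩
  · exact (orb 5 (CrossData.TriadSextet.root0, CrossData.TriadSextet.tree0) List.mem_cons_self
      (by rw [Cross.TriadSextet.inv_code List.mem_cons_self]; decide +kernel) (by norm_num)).trans
      (List.cons.inj Cross.TriadSextet.sizes).1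
  · exact (orb 4 (CrossData.TriadSextet.root1, CrossData.TriadSextet.tree1)
      (List.mem_cons_of_mem _ List.mem_cons_self)
      (by
        rw [Cross.TriadSextet.inv_code (List.mem_cons_of_mem _ List.mem_cons_self)]
        decide +kernel) (by norm_num)).trans
      (List.cons.inj (List.cons.inj Cross.TriadSextet.sizes).2).1
  · exact (orb 3 (CrossData.TriadSextet.root2, CrossData.TriadSextet.tree2)
      (List.mem_cons_of_mem _ (List.mem_cons_of_mem _ List.mem_cons_self))
      (by
        rw [Cross.TriadSextet.inv_code (List.mem_cons_of_mem _ (List.mem_cons_of_mem _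
          List.mem_cons_self))]
        decide +kernel) (by norm_num)).trans
      (List.cons.inj (List.cons.inj (List.cons.inj Cross.TriadSextet.sizes).2).2).1
  · intro S S' hS hS' he
    have := key S hS
    have := key S' hS'
    obtain ⟨h, hh, e⟩ := Cross.TriadSextet.decomp.exists_smul_eq _ Cross.TriadSextet.inv_smul
      Cross.TriadSextet.sep (x := g⁻¹ • S) (y := g⁻¹ • S') (smul_sextet _ hS) (smul_sextet _ hS')
      (by omega)
    refine ⟨(g * h * g⁻¹ : ↥Cfsg.M24), (g * h * g⁻¹).2, ?_, ?_⟩
    · show (g * h * g⁻¹) • (g • ptsOf B) = g • ptsOf B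
      rw [mul_smul, mul_smul, inv_smul_smul, MulAction.mem_stabilizer_iff.1 hh]
    · show (g * h * g⁻¹) • S = S'
      rw [mul_smul, mul_smul, e, smul_inv_smul]

end Cfsg.Agent.S5616
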