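import Cfsg.Statements.S5618
import Mathlib
import Cfsg.Agent.Lib.Golay.OctadPairs
import Cfsg.Agent.Lib.Golay.Dodecad

set_option autoImplicit false
open scoped Pointwise
open Cfsg

namespace Cfsg.Agent.S5618

open Cfsg.Agent.Lib.Golay Cfsg.Agent.Lib.Golay.StabCert in
/-- For a dodecad d of the length-24 code and a hexad C on it (a 6-point intersection of d with an octad): the joint stabiliser of d and C in the code's group is isomorphic to the symmetric group of degree 6, and it acts faithfully both on the six points of C and on the six points of d outside C. -/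
theorem result (d : Finset Cfsg.GolayPt) (hd : d ∈ Cfsg.dodecads) (C : Finset Cfsg.GolayPt) (hC : C ∈ Cfsg.hexadsOn d) : Nonempty (↥(MulAction.stabilizer Cfsg.M24 d ⊓ MulAction.stabilizer Cfsg.M24 C) ≃* Equiv.Perm (Fin 6)) ∧ (∀ g ∈ MulAction.stabilizer Cfsg.M24 d ⊓ MulAction.stabilizer Cfsg.M24 C, (∀ p ∈ C, ((g : ↥Cfsg.M24) : Equiv.Perm Cfsg.GolayPt) p = p) → g = 1) ∧ ∀ g ∈ MulAction.stabilizer Cfsg.M24 d ⊓ MulAction.stabilizer Cfsg.M24 C, (∀ p ∈ d \ C, ((g : ↥Cfsg.M24) : Equiv.Perm Cfsg.GolayPt) p = p) → g = 1 := by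
  obtain ⟨hC6, o, ho, rfl⟩ := hC
  have hoC : ∀ g ∈ MulAction.stabilizer Cfsg.M24 d ⊓ MulAction.stabilizer Cfsg.M24 (o ∩ d),
      g • o = o := by
    intro g hg
    refine octad_eq_of_five_le (smul_octad g ho) ho ?_
    have h : o ∩ d ⊆ g • o ∩ o := by
      intro p hp
      refine Finset.mem_inter.2 ⟨?_, (Finset.mem_inter.1 hp).1⟩
      rw [← MulAction.mem_stabilizer_iff.1 (Subgroup.mem_inf.1 hg).2] at hp
      exact Finset.smul_finset_subset_smul_finset Finset.inter_subset_left hp
    have := Finset.card_le_card h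
    omega
  have hd12 := (mem_dodecads_iff.1 hd).2
  have hd' := (mem_dodecads_iff.1 hd).1
  have f1 : ∀ g ∈ MulAction.stabilizer Cfsg.M24 d ⊓ MulAction.stabilizer Cfsg.M24 (o ∩ d),
      (∀ p ∈ o ∩ d, ((g : ↥Cfsg.M24) : Equiv.Perm Cfsg.GolayPt) p = p) → g = 1 :=
    fun g hg hfix => Subtype.ext (OctadPairs.eq_one_of_six (w := d) ho Finset.inter_subset_left hC6
      ⟨hd', Or.inr ⟨hd12, Finset.inter_comm d o⟩⟩ g.2 hfix (Subgroup.mem_inf.1 hg).1)
  have f2 : ∀ g ∈ MulAction.stabilizer Cfsg.M24 d ⊓ MulAction.stabilizer Cfsg.M24 (o ∩ d),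
      (∀ p ∈ d \ (o ∩ d), ((g : ↥Cfsg.M24) : Equiv.Perm Cfsg.GolayPt) p = p) → g = 1 := by
    intro g hg hfix
    have h8 : (symmDiff d o).card = 8 := by
      have := card_symmDiff_add d o
      rw [hd12, octad_card ho, Finset.inter_comm, hC6] at this
      omega
    have ho' : symmDiff d o ∈ Cfsg.octads :=
      mem_octads_iff.2 ⟨hd'.symmDiff (mem_octads_iff.1 ho).1, h8⟩
    refine Subtype.ext (OctadPairs.eq_one_of_six (o := symmDiff d o) (six := d \ (o ∩ d)) (w := d)
      ho' ?_ ?_ ⟨hd', Or.inr ⟨hd12, ?_⟩⟩ g.2 hfix (Subgroup.mem_inf.1 hg).1)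
    · intro p
      simp only [Finset.mem_sdiff, Finset.mem_inter, Finset.mem_symmDiff]
      tauto
    · rw [Finset.card_sdiff_of_subset Finset.inter_subset_right, hd12, hC6]
    · ext p
      simp only [Finset.mem_sdiff, Finset.mem_inter, Finset.mem_symmDiff]
      tauto
  refine ⟨OctadPairs.iso_perm_six _ (six := o ∩ d) hC6 ?_ ?_ f1, f1, f2⟩
  · have hcd : Nat.card (MulAction.stabilizer Cfsg.M24 d) = 95040 := by
      rw [← card_stab_dodecad hd]
      exact Nat.card_congr
        { toFun := fun g => ⟨g.1.1, Subgroup.mem_inf.mpr ⟨g.1.2, g.2⟩⟩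
          invFun := fun g => ⟨⟨g.1, (Subgroup.mem_inf.mp g.2).1⟩, (Subgroup.mem_inf.mp g.2).2⟩
          left_inv := fun _ => rfl
          right_inv := fun _ => rfl }
    have horb : MulAction.orbit (MulAction.stabilizer Cfsg.M24 d) (o ∩ d) =
        (fun x => x ∩ d) '' {x : Finset Cfsg.GolayPt | x ∈ Cfsg.octads ∧ (x ∩ d).card = 6} := by
      ext C'
      constructor
      · rintro ⟨⟨g, e⟩, rfl⟩
        replace e : g • d = d := e
        refine ⟨g • o, ⟨smul_octad g ho, ?_⟩, ?_⟩
        · conv_lhs => rw [← e, ← Finset.smul_finset_inter, Finset.card_smul_finset, hC6]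
        · show g • o ∩ d = g • (o ∩ d)
          rw [Finset.smul_finset_inter, e]
      · rintro ⟨x, ⟨hx, hx6⟩, rfl⟩
        obtain ⟨a, haC, ha⟩ := Finset.exists_subset_card_eq (s := o ∩ d) (n := 5) (by omega)
        obtain ⟨b, hbC, hb⟩ := Finset.exists_subset_card_eq (s := x ∩ d) (n := 5) (by omega)
        let ea := (a.equivFinOfCardEq ha).symm
        let eb := (b.equivFinOfCardEq hb).symm
        obtain ⟨g, hg, hgd, hgp⟩ := stabDodecad_five hd (fun i => (ea i).1) (fun i => (eb i).1)
          (Subtype.val_injective.comp ea.injective) (Subtype.val_injective.comp eb.injective)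
          (fun i => (Finset.mem_inter.1 (haC (ea i).2)).2)
          (fun i => (Finset.mem_inter.1 (hbC (eb i).2)).2)
        refine ⟨⟨⟨g, hg⟩, hgd⟩, ?_⟩
        show g • (o ∩ d) = x ∩ d
        have hgo : g • o = x := by
          refine octad_eq_of_five_le (M24_octad hg ho) hx ?_
          rw [← hb]
          refine Finset.card_le_card fun p hp => Finset.mem_inter.2 ⟨?_, ?_⟩
          · obtain ⟨i, hi⟩ := eb.surjective ⟨p, hp⟩
            rw [show p = g (ea i).1 by rw [hgp i, hi]]
            rw [smul_finset_eq_image]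
            exact Finset.mem_image_of_mem _ (Finset.mem_inter.1 (haC (ea i).2)).1
          · exact (Finset.mem_inter.1 (hbC hp)).1
        rw [Finset.smul_finset_inter, hgo, hgd]
    have hn : (MulAction.orbit (MulAction.stabilizer Cfsg.M24 d) (o ∩ d)).ncard = 132 := by
      rw [horb, Set.InjOn.ncard_image ?_, (octads_meet_counts hd).1]
      intro x hx y hy e
      refine octad_eq_of_five_le hx.1 hy.1 ?_
      have h : x ∩ d ⊆ x ∩ y := Finset.subset_inter Finset.inter_subset_left
        ((show x ∩ d = y ∩ d from e).le.trans Finset.inter_subset_left)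
      have := Finset.card_le_card h
      rw [hx.2] at this
      omega
    have := OctadPairs.ncard_orbit_mul (MulAction.stabilizer Cfsg.M24 d) (o ∩ d)
    rw [hn, hcd] at this
    omega
  · intro g hg p
    conv_lhs => rw [← MulAction.mem_stabilizer_iff.1 (Subgroup.mem_inf.1 hg).2]
    rw [Finset.smul_mem_smul_finset_iff]

end Cfsg.Agent.S5618
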