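import Cfsg.Statements.S5619
import Mathlib
import Cfsg.Agent.Lib.Golay.ThreePoint

set_option autoImplicit false
open scoped Pointwise
open Cfsg

namespace Cfsg.Agent.S5619

open Cfsg.Agent.Lib.Golay in
/-- In the group of the length-24 code, the subgroup fixing a dodecad setwise and three of its points individually (a group of order 72) has a normal Sylow 3-subgroup that is elementary abelian of order 9, and its Sylow 2-subgroups are quaternion of order 8. -/
theorem result (d : Finset Cfsg.GolayPt) (hd : d ∈ Cfsg.dodecads) (p q r : Cfsg.GolayPt) (hp : p ∈ d) (hq : q ∈ d) (hr : r ∈ d) (hpq : p ≠ q) (hpr : p ≠ r) (hqr : q ≠ r) : (∀ Q : Sylow 3 ↥(MulAction.stabilizer Cfsg.M24 d ⊓ MulAction.stabilizer Cfsg.M24 p ⊓ MulAction.stabilizer Cfsg.M24 q ⊓ MulAction.stabilizer Cfsg.M24 r), (Q : Subgroup ↥(MulAction.stabilizer Cfsg.M24 d ⊓ MulAction.stabilizer Cfsg.M24 p ⊓ MulAction.stabilizer Cfsg.M24 q ⊓ MulAction.stabilizer Cfsg.M24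 r)).Normal ∧ Nat.card ↥Q = 9 ∧ ∀ x ∈ (Q : Subgroup ↥(MulAction.stabilizer Cfsg.M24 d ⊓ MulAction.stabilizer Cfsg.M24 p ⊓ MulAction.stabilizer Cfsg.M24 q ⊓ MulAction.stabilizer Cfsg.M24 r)), x ^ 3 = 1) ∧ ∀ P : Sylow 2 ↥(MulAction.stabilizer Cfsg.M24 d ⊓ MulAction.stabilizer Cfsg.M24 p ⊓ MulAction.stabilizer Cfsg.M24 q ⊓ MulAction.stabilizer Cfsg.M24 r), Nonempty (↥P ≃* QuaternionGroup 2) := by
  obtain ⟨c, hc, hcd⟩ := dodecads_transitive dodecad0_mem hd
  have hb0 : ∀ i : Fin 5, ptN ([23, 0, 1, 2, 3].getD i.val 0) ∈ ptsOf Data.dodecad0 := by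
    decide +kernel
  have hinj : Function.Injective fun i : Fin 5 => c (ptN ([23, 0, 1, 2, 3].getD i.val 0)) :=
    fun i j h => by
      have key : ∀ i j : Fin 5, ptN ([23, 0, 1, 2, 3].getD i.val 0) =
          ptN ([23, 0, 1, 2, 3].getD j.val 0) → i = j := by decide +kernel
      exact key i j (c.injective h)
  have h12 := (mem_dodecads_iff.1 hd).2
  obtain ⟨t, ht, htc⟩ := Finset.exists_subset_card_eq (s := ((d.erase p).erase q).erase r) (n := 2)
    (by
      rw [Finset.card_erase_of_mem (by simp [hr, Ne.symm hqr, Ne.symm hpr]),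
        Finset.card_erase_of_mem (by simp [hq, Ne.symm hpq]), Finset.card_erase_of_mem hp, h12]
      norm_num)
  obtain ⟨u, v, huv, rfl⟩ := Finset.card_eq_two.1 htc
  have hu : u ∈ ((d.erase p).erase q).erase r := ht (Finset.mem_insert_self _ _)
  have hv : v ∈ ((d.erase p).erase q).erase r :=
    ht (Finset.mem_insert_of_mem (Finset.mem_singleton_self _))
  simp only [Finset.mem_erase] at hu hv
  have hy : Function.Injective ![p, q, r, u, v] := by
    rw [← List.nodup_ofFn]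
    simp [hpq, hpr, hqr, Ne.symm hu.2.2.1, Ne.symm hu.2.1, Ne.symm hu.1, Ne.symm hv.2.2.1,
      Ne.symm hv.2.1, Ne.symm hv.1, huv]
  obtain ⟨b, hb, hbd, hbx⟩ := stabDodecad_five hd
    (fun i : Fin 5 => c (ptN ([23, 0, 1, 2, 3].getD i.val 0))) ![p, q, r, u, v] hinj hy
    (fun i => by rw [← hcd, smul_finset_eq_image]; exact Finset.mem_image_of_mem _ (hb0 i))
    (fun i => by fin_cases i <;> simp [hp, hq, hr, hu.2.2.2, hv.2.2.2])
  have hk : b * c ∈ Cfsg.M24 := mul_mem hb hc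
  have hkd : (b * c) • ptsOf Data.dodecad0 = d := by rw [mul_smul, hcd, hbd]
  have k23 : (b * c) (ptN 23) = p := hbx 0
  have k0 : (b * c) (ptN 0) = q := hbx 1
  have k1 : (b * c) (ptN 1) = r := hbx 2
  have emap : ThreePoint.base.map (MulAut.conj (b * c)).toMonoidHom =
      Cfsg.M24 ⊓ MulAction.stabilizer (Equiv.Perm Cfsg.GolayPt) d ⊓
        MulAction.stabilizer (Equiv.Perm Cfsg.GolayPt) p ⊓
        MulAction.stabilizer (Equiv.Perm Cfsg.GolayPt) q ⊓
        MulAction.stabilizer (Equiv.Perm Cfsg.GolayPt) r := by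
    have e : ThreePoint.base = Cfsg.M24 ⊓ MulAction.stabilizer (Equiv.Perm Cfsg.GolayPt)
        (ptsOf Data.dodecad0) ⊓ MulAction.stabilizer (Equiv.Perm Cfsg.GolayPt) (ptN 23) ⊓
        MulAction.stabilizer (Equiv.Perm Cfsg.GolayPt) (ptN 0) ⊓
        MulAction.stabilizer (Equiv.Perm Cfsg.GolayPt) (ptN 1) := by
      simp [ThreePoint.base, dodecadGroup, fixNums, inf_assoc]
    rw [e, map_conj_inf_stab hk, map_conj_inf_stab hk, map_conj_inf_stab hk, map_conj_inf_stab hk,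
      map_conj_M24 hk, hkd, Equiv.Perm.smul_def, Equiv.Perm.smul_def, Equiv.Perm.smul_def, k23, k0,
      k1]
  let back : ↥(Cfsg.M24 ⊓ MulAction.stabilizer (Equiv.Perm Cfsg.GolayPt) d ⊓
        MulAction.stabilizer (Equiv.Perm Cfsg.GolayPt) p ⊓
        MulAction.stabilizer (Equiv.Perm Cfsg.GolayPt) q ⊓
        MulAction.stabilizer (Equiv.Perm Cfsg.GolayPt) r) ≃*
      ↥(MulAction.stabilizer Cfsg.M24 d ⊓ MulAction.stabilizer Cfsg.M24 p ⊓
        MulAction.stabilizer Cfsg.M24 q ⊓ MulAction.stabilizer Cfsg.M24 r) :=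
    { toFun := fun g => ⟨⟨g.1, g.2.1.1.1.1⟩, ⟨⟨g.2.1.1.1.2, g.2.1.1.2⟩, g.2.1.2⟩, g.2.2⟩
      invFun := fun g => ⟨g.1.1, ⟨⟨⟨g.1.2, g.2.1.1.1⟩, g.2.1.1.2⟩, g.2.1.2⟩, g.2.2⟩
      left_inv := fun _ => rfl
      right_inv := fun _ => rfl
      map_mul' := fun _ _ => rfl }
  exact ThreePoint.sylow_facts
    (((conjEquiv (b * c) ThreePoint.base).trans (MulEquiv.subgroupCongr emap)).trans back)

end Cfsg.Agent.S5619
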