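import Cfsg.Statements.S5620
import Mathlib
import Cfsg.Agent.Lib.Golay.Simple

set_option autoImplicit false
open scoped Pointwise
open Cfsg

namespace Cfsg.Agent.S5620

open Cfsg.Agent.Lib.Golay in
/-- Inside the stabiliser of the dodecad of squares (a Mathieu group of degree 12), the stabiliser of the residue 0 (a point of the dodecad) and the stabiliser of the extra point (a point outside the dodecad) are isomorphic but not conjugate; conjugation by a suitable element of the code's group that maps the dodecad of squares onto its complement carries the first onto the second. -/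
theorem result : Nonempty (↥(Cfsg.Spor.M12 ⊓ MulAction.stabilizer (Equiv.Perm Cfsg.GolayPt) (none : Cfsg.GolayPt)) ≃* ↥Cfsg.Spor.M11) ∧ (¬ ∃ k ∈ Cfsg.Spor.M12, MulAut.conj k • Cfsg.Spor.M11 = Cfsg.Spor.M12 ⊓ MulAction.stabilizer (Equiv.Perm Cfsg.GolayPt) (none : Cfsg.GolayPt)) ∧ ∃ g ∈ Cfsg.M24, g • Cfsg.Spor.squareDodecad = Finset.univ \ Cfsg.Spor.squareDodecad ∧ MulAut.conj g • Cfsg.Spor.M11 = Cfsg.Spor.M12 ⊓ MulAction.stabilizer (Equiv.Perm Cfsg.GolayPt) (none : Cfsg.GolayPt) := by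
  set S := Cfsg.Spor.squareDodecad
  have h0S : (some 0 : Cfsg.GolayPt) ∈ S := by decide +kernel
  have hnS : (none : Cfsg.GolayPt) ∉ S := by decide +kernel
  have hS : S ∈ Cfsg.dodecads := by
    have e : S = ptsOf (maskOf S) := (ptsOf_maskOf S).symm
    rw [e]
    exact mem_dodecads_of_mask (by decide +kernel)
  have hc : Sᶜ ∈ Cfsg.dodecads := by
    rw [mem_dodecads_iff] at hS ⊢
    exact ⟨hS.1.compl, by rw [Finset.card_compl, hS.2, card_golayPt]⟩
  -- the stabiliser of the extra point moves every point of the dodecad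
  have move : ∀ a ∈ S, ∀ b ∈ S, ∃ h ∈ Cfsg.M24, h • Sᶜ = Sᶜ ∧ h none = none ∧ h a = b := by
    intro a ha b hb
    have ext3 : ∀ x ∈ S, ∃ f : Fin 3 → Cfsg.GolayPt, Function.Injective f ∧ (∀ i, f i ∉ Sᶜ) ∧
        f 0 = x := by
      intro x hx
      obtain ⟨t, ht, htc⟩ := Finset.exists_subset_card_eq (s := S.erase x) (n := 2) (by
        have := Finset.pred_card_le_card_erase (a := x) (s := S)
        have := (mem_dodecads_iff.1 hS).2
        omega)
      let e := (t.equivFinOfCardEq htc).symm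
      refine ⟨Fin.cons x fun i => (e i).1, Fin.cons_injective_iff.mpr
        ⟨fun ⟨i, hi⟩ => (Finset.mem_erase.1 (ht (e i).2)).1 hi,
          Subtype.val_injective.comp e.injective⟩, fun i => ?_, rfl⟩
      rw [Finset.mem_compl, not_not]
      exact Fin.cases hx (fun j => (Finset.mem_erase.1 (ht (e j).2)).2) i
    obtain ⟨f, hf, hf', hf0⟩ := ext3 a ha
    obtain ⟨f', hf1, hf1', hf1'0⟩ := ext3 b hb
    obtain ⟨g, hg, hgd, hgp, hgf⟩ := compl_three hc (p := none) (Finset.mem_compl.2 hnS) f f' hf hf1 hf' hf1'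
    exact ⟨g, hg, hgd, hgp, by rw [← hf0, hgf 0, hf1'0]⟩
  have stab_compl : ∀ g : Equiv.Perm Cfsg.GolayPt, g • Sᶜ = Sᶜ ↔ g • S = S := by
    intro g
    have : g • Sᶜ = (g • S)ᶜ := by
      ext p
      simp [← Finset.inv_smul_mem_iff]
    rw [this, compl_inj_iff]
  obtain ⟨k, hk, hkS⟩ := dodecads_transitive hS hc
  obtain ⟨b, hb, hbd, hbx⟩ : ∃ b ∈ Cfsg.M24, b • Sᶜ = Sᶜ ∧ b (k (some 0)) = none := by
    have h1 : k (some 0) ∈ Sᶜ := by
      rw [← hkS, smul_finset_eq_image]; exact Finset.mem_image_of_mem _ h0S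
    obtain ⟨t, ht, htc⟩ := Finset.exists_subset_card_eq (s := Sᶜ.erase (k (some 0))) (n := 4) (by
      have := Finset.pred_card_le_card_erase (a := k (some 0)) (s := Sᶜ)
      have := (mem_dodecads_iff.1 hc).2
      omega)
    obtain ⟨u, hu, huc⟩ := Finset.exists_subset_card_eq (s := Sᶜ.erase none) (n := 4) (by
      have := Finset.pred_card_le_card_erase (a := (none : Cfsg.GolayPt)) (s := Sᶜ)
      have := (mem_dodecads_iff.1 hc).2
      omega)
    let e := (t.equivFinOfCardEq htc).symm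
    let e' := (u.equivFinOfCardEq huc).symm
    obtain ⟨g, hg, hgd, hgx⟩ := stabDodecad_five hc (Fin.cons (k (some 0)) fun i => (e i).1)
      (Fin.cons none fun i => (e' i).1)
      (Fin.cons_injective_iff.mpr ⟨fun ⟨i, hi⟩ => (Finset.mem_erase.1 (ht (e i).2)).1 hi,
        Subtype.val_injective.comp e.injective⟩)
      (Fin.cons_injective_iff.mpr ⟨fun ⟨i, hi⟩ => (Finset.mem_erase.1 (hu (e' i).2)).1 hi,
        Subtype.val_injective.comp e'.injective⟩)
      (fun i => Fin.cases h1 (fun j => (Finset.mem_erase.1 (ht (e j).2)).2) i)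
      (fun i => Fin.cases (Finset.mem_compl.2 hnS) (fun j => (Finset.mem_erase.1 (hu (e' j).2)).2) i)
    exact ⟨g, hg, hgd, hgx 0⟩
  have hg : b * k ∈ Cfsg.M24 := mul_mem hb hk
  have hgS : (b * k) • S = Sᶜ := by rw [mul_smul, hkS, hbd]
  have hconj : MulAut.conj (b * k) • Cfsg.Spor.M11 =
      Cfsg.Spor.M12 ⊓ MulAction.stabilizer (Equiv.Perm Cfsg.GolayPt) (none : Cfsg.GolayPt) := by
    show (Cfsg.Spor.M11).map (MulAut.conj (b * k)).toMonoidHom = _
    rw [Cfsg.Spor.M11, Cfsg.Spor.M12, map_conj_inf_stab hg, map_conj_inf_stab hg, map_conj_M24 hg,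
      hgS, Equiv.Perm.smul_def, Equiv.Perm.mul_apply, hbx]
    rw [show MulAction.stabilizer (Equiv.Perm Cfsg.GolayPt) Sᶜ =
      MulAction.stabilizer (Equiv.Perm Cfsg.GolayPt) S from SetLike.ext fun g => stab_compl g]
  refine ⟨⟨?_⟩, ?_, b * k, hg, hgS.trans (Finset.compl_eq_univ_sdiff S), hconj⟩
  · exact ((Cfsg.Spor.M11.equivSMul (MulAut.conj (b * k))).trans
      (MulEquiv.subgroupCongr hconj)).symm
  · rintro ⟨m, hm, e⟩
    have hm0 : m (some 0) ∈ S := by
      obtain ⟨-, hmS⟩ := Subgroup.mem_inf.1 hm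
      rw [← show m • S = S from hmS]
      rw [smul_finset_eq_image]
      exact Finset.mem_image_of_mem _ h0S
    obtain ⟨c, hcS, hne⟩ : ∃ c ∈ S, c ≠ m (some 0) :=
      Finset.exists_mem_ne (by rw [(mem_dodecads_iff.1 hS).2]; norm_num) _
    obtain ⟨h, hh, hhd, hhn, hhm⟩ := move _ hm0 c hcS
    have hmem : h ∈ Cfsg.Spor.M12 ⊓
        MulAction.stabilizer (Equiv.Perm Cfsg.GolayPt) (none : Cfsg.GolayPt) :=
      Subgroup.mem_inf.2 ⟨Subgroup.mem_inf.2 ⟨hh, (stab_compl h).1 hhd⟩, hhn⟩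
    rw [← e, Subgroup.mem_pointwise_smul_iff_inv_smul_mem] at hmem
    have h2 : (m⁻¹ * h * m) (some 0) = some 0 := by
      have := MulAction.mem_stabilizer_iff.1 (Subgroup.mem_inf.1 hmem).2
      simpa [MulAut.smul_def, MulAut.conj_inv_apply] using this
    apply hne
    rw [Equiv.Perm.mul_apply, Equiv.Perm.mul_apply, Equiv.Perm.inv_eq_iff_eq] at h2
    rw [← hhm, h2]

end Cfsg.Agent.S5620
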