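import Cfsg.Statements.S5637
import Cfsg.Agent.Lib.TensorMax.Main

set_option autoImplicit false
open Cfsg

namespace Cfsg.Agent.S5637

open Cfsg.Agent.Lib.TensorMax

lemma isMaximalIn_map {G H : Type*} [Group G] [Group H] (Φ : G ≃* H) {K L : Subgroup G}
    (h : Cfsg.Geo.IsMaximalIn K L) :
    Cfsg.Geo.IsMaximalIn (K.map Φ.toMonoidHom) (L.map Φ.toMonoidHom) := by
  refine ⟨(Subgroup.map_lt_map_iff_of_injective Φ.injective).2 h.1, fun M hLM hMK => ?_⟩
  have hback : (M.comap Φ.toMonoidHom).map Φ.toMonoidHom = M :=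
    Subgroup.map_comap_eq_self_of_surjective Φ.surjective M
  rcases h.2 (M.comap Φ.toMonoidHom) (fun x hx => hLM ⟨x, hx, rfl⟩)
      (fun x hx => by
        obtain ⟨y, hy, hyx⟩ := hMK hx
        exact Φ.injective hyx ▸ hy) with h' | h'
  · exact Or.inl (by rw [← hback, h'])
  · exact Or.inr (by rw [← hback, h'])

/-- For a finite field F with q elements and n = n₁ n₂ ≥ 13 with 2 ≤ n₁ < n₂, excluding n₁ = q = 2, the stabiliser in SL_n(F) of a tensor decomposition F^n ≅ F^(n₁) ⊗ F^(n₂) (the conjugate by any P of the Kronecker-product subgroup transported along any bijection Fin n ≃ Fin n₁ × Fin n₂, intersected with SL_n(F)) is a maximal subgroup of SL_n(F). -/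
theorem result {F : Type*} [Field F] [Fintype F] (n : ℕ) (hn : 13 ≤ n) (n₁ n₂ : ℕ) (h1 : 2 ≤ n₁) (h12 : n₁ < n₂) (hex : ¬ (n₁ = 2 ∧ Fintype.card F = 2)) (e : Fin n ≃ Fin n₁ × Fin n₂) (P : Matrix.GeneralLinearGroup (Fin n) F) : Cfsg.Geo.IsMaximalIn (Cfsg.Geo.specialLinear (Fin n) F) (Cfsg.Geo.tensorProductSubgroup n₁ n₂ e P ⊓ Cfsg.Geo.specialLinear (Fin n) F) := by
  classical
  have hc : n = n₁ * n₂ := by
    have := Fintype.card_congr e
    simpa using this
  have hb : 4 ≤ n₂ := by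
    by_contra hlt
    have : n₁ * n₂ ≤ 2 * 3 := Nat.mul_le_mul (by omega) (by omega)
    omega
  have hexF : 3 ≤ n₁ ∨ ∃ t : F, t ≠ 0 ∧ t ≠ 1 := by
    by_cases ha : 3 ≤ n₁
    · exact Or.inl ha
    refine Or.inr ?_
    by_contra hno
    push Not at hno
    refine hex ⟨by omega, le_antisymm ?_ Fintype.one_lt_card⟩
    calc Fintype.card F = (Finset.univ : Finset F).card := rfl
      _ ≤ ({0, 1} : Finset F).card := Finset.card_le_card fun x _ => by
          simp only [Finset.mem_insert, Finset.mem_singleton]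
          exact or_iff_not_imp_left.2 (hno x)
      _ ≤ 2 := Finset.card_le_two
  let Φ : GL (Fin n₁ × Fin n₂) F ≃* GL (Fin n) F :=
    (Cfsg.Geo.glReindex e.symm).trans (MulAut.conj P)
  have hSL : (Cfsg.Geo.specialLinear (Fin n₁ × Fin n₂) F).map Φ.toMonoidHom =
      Cfsg.Geo.specialLinear (Fin n) F := by
    have hdet : ∀ x, Matrix.GeneralLinearGroup.det (Φ x) = Matrix.GeneralLinearGroup.det x := by
      intro x
      show Matrix.GeneralLinearGroup.det (P * _ * P⁻¹) = _
      rw [map_mul, map_mul, map_inv, mul_right_comm, mul_inv_cancel, one_mul]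
      exact Units.ext (Matrix.det_reindex_self _ _)
    ext g
    refine ⟨?_, fun hg => ⟨Φ.symm g, ?_, Φ.apply_symm_apply g⟩⟩
    · rintro ⟨x, hx, rfl⟩
      show Matrix.GeneralLinearGroup.det (Φ x) = 1
      rw [hdet]
      exact hx
    · show Matrix.GeneralLinearGroup.det (Φ.symm g) = 1
      rw [← hdet, Φ.apply_symm_apply]
      exact hg
  have hK : (tensorSL n₁ n₂ F).map Φ.toMonoidHom =
      Cfsg.Geo.tensorProductSubgroup n₁ n₂ e P ⊓ Cfsg.Geo.specialLinear (Fin n) F := by
    rw [tensorSL, Subgroup.map_inf _ _ _ Φ.injective, hSL]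
    congr 1
    rw [Cfsg.Geo.tensorProductSubgroup, Subgroup.map_map]
    rfl
  have h := isMaximalIn_map Φ (isMaximalIn_tensorSL (F := F) h1 h12 (by omega) hexF)
  rwa [hSL, hK] at h

end Cfsg.Agent.S5637
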