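import Cfsg.Statements.S5652
import Cfsg.Agent.Lib.Forms.CharTwoPoints
import Cfsg.Agent.Lib.Forms.Symplectic

set_option autoImplicit false
open Cfsg

namespace Cfsg.Agent.S5652

open Matrix Cfsg.Agent.Lib.Forms

variable {F : Type*} [Field F] [Finite F] [CharP F 2] {m : ℕ}

theorem exists_sqrt (x : F) : ∃ y : F, y ^ 2 = x := by
  obtain ⟨y, hy⟩ := surjective_frobenius F 2 x
  exact ⟨y, by rw [← hy, frobenius_def]⟩

/-- The symplectic group, as invertible matrices. -/
noncomputable def toGL : Matrix.symplecticGroup (Fin m) F →* Matrix.GeneralLinearGroup (Fin m ⊕ Fin m) F :=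
  (Submonoid.subtype (Matrix.symplecticGroup (Fin m) F)).toHomUnits

theorem key (hm : 7 ≤ m) {Q : QuadraticForm F (Fin m ⊕ Fin m → F)}
    (hpol : ∀ u v, QuadraticMap.polar Q u v = Cfsg.sympForm m F u v) :
    Cfsg.Geo.IsMaximalIn (Cfsg.spGL m F) (Cfsg.Geo.quadSimilarityGroup ⇑Q ⊓ Cfsg.spGL m F) := by
  have hQ : (QuadraticMap.polarBilin Q).Nondegenerate := by
    have e : QuadraticMap.polarBilin Q = sympBilin m F := by
      refine LinearMap.ext fun u => LinearMap.ext fun v => ?_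
      rw [QuadraticMap.polarBilin_apply_apply, sympBilin_apply, hpol]
    rw [e]
    exact ⟨(sympBilin_goodForm (m := m) (F := F)).nondeg, (sympBilin_goodForm (m := m) (F := F)).nondeg_right⟩
  have hn : Module.finrank F (Fin m ⊕ Fin m → F) = m + m := by
    rw [Module.finrank_fintype_fun_eq_card]; simp
  have hsp : ∀ g ∈ Cfsg.spGL m F, ∀ u v, QuadraticMap.polar Q
      ((g : Matrix (Fin m ⊕ Fin m) (Fin m ⊕ Fin m) F) *ᵥ u) ((g : Matrix (Fin m ⊕ Fin m) (Fin m ⊕ Fin m) F) *ᵥ v)
        = QuadraticMap.polar Q u v := fun g hg u v => by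
    rw [hpol, hpol]; exact hg u v
  have one1 : ∀ {a : Fin m ⊕ Fin m → F}, a ≠ 0 → LinearIndependent F ![a] := fun ha =>
    linearIndependent_unique_iff.mpr (by simpa using ha)
  set H := Cfsg.Geo.quadSimilarityGroup ⇑Q ⊓ Cfsg.spGL m F with hHdef
  have mem_H : ∀ g : Matrix.GeneralLinearGroup (Fin m ⊕ Fin m) F,
      g ∈ H ↔ ∀ x, Q ((g : Matrix (Fin m ⊕ Fin m) (Fin m ⊕ Fin m) F) *ᵥ x) = Q x := by
    intro g
    refine ⟨fun hg x => ?_, fun hg => ⟨⟨1, fun x => by simp [hg x]⟩, fun u v => ?_⟩⟩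
    · obtain ⟨c, hc⟩ := hg.1
      obtain ⟨y, -, hy0, -⟩ := exists_value_char_two hQ (K := (⊤ : Submodule F (Fin m ⊕ Fin m → F)))
        (by rw [finrank_top]; omega) (by rw [finrank_top]; omega) (1 : F)
      obtain ⟨r, hr⟩ := exists_polar_eq hQ (one1 hy0) ![1]
      have hr' : QuadraticMap.polar Q y r = 1 := hr 0
      have h1 := hsp g hg.2 y r
      rw [hr', QuadraticMap.polar, ← mulVec_add, hc, hc, hc] at h1
      have hc1 : (c : F) = 1 := by
        rw [QuadraticMap.polar] at hr'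
        linear_combination h1 - (c : F) * hr'
      rw [hc x, hc1, one_mul]
    · show Cfsg.sympForm m F _ _ = Cfsg.sympForm m F u v
      rw [← hpol, ← hpol]
      exact polar_preserves_of_quad (T := Matrix.mulVecLin (g : Matrix (Fin m ⊕ Fin m) (Fin m ⊕ Fin m) F))
        (fun x => hg x) u v
  have hinv : ∀ (g : Matrix.GeneralLinearGroup (Fin m ⊕ Fin m) F) (x : Fin m ⊕ Fin m → F),
      (g : Matrix (Fin m ⊕ Fin m) (Fin m ⊕ Fin m) F) *ᵥ
        (((g⁻¹ : Matrix.GeneralLinearGroup (Fin m ⊕ Fin m) F) : Matrix (Fin m ⊕ Fin m) (Fin m ⊕ Fin m) F) *ᵥ x) = x :=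
    fun g x => by rw [mulVec_mulVec, Units.mul_inv, one_mulVec]
  have htv : ∀ (A : Matrix.symplecticGroup (Fin m) F) (v : Fin m ⊕ Fin m → F) (c : F),
      (A : Matrix (Fin m ⊕ Fin m) (Fin m ⊕ Fin m) F) = Cfsg.sympTransvection m v c →
      ∀ x, ((toGL A : Matrix.GeneralLinearGroup (Fin m ⊕ Fin m) F) : Matrix (Fin m ⊕ Fin m) (Fin m ⊕ Fin m) F) *ᵥ x
        = x + (c * QuadraticMap.polar Q x v) • v := by
    intro A v c hA x
    rw [hpol, ← sympTransvection_mulVec, ← hA]
    rfl
  refine ⟨lt_of_le_of_ne inf_le_right fun e => ?_, fun M hHM hMK => ?_⟩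
  · obtain ⟨v, -, hv0, hv⟩ := exists_value_char_two hQ (K := (⊤ : Submodule F (Fin m ⊕ Fin m → F)))
      (by rw [finrank_top]; omega) (by rw [finrank_top]; omega) (0 : F)
    obtain ⟨r, hr⟩ := exists_polar_eq hQ (one1 hv0) ![1]
    have hr' : QuadraticMap.polar Q r v = 1 := by rw [QuadraticMap.polar_comm]; exact hr 0
    have hTsp : toGL (sympTransElem v 1) ∈ Cfsg.spGL m F :=
      fun a b => mem_symplecticGroup_iff_preserves.mp (sympTransElem v (1 : F)).2 a b
    rw [← e, mem_H] at hTsp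
    have h1 := hTsp r
    rw [htv _ v 1 rfl, hr', one_mul, one_smul, QuadraticMap.map_add (⇑Q), hv, hr', add_zero] at h1
    exact one_ne_zero (by linear_combination h1)
  by_cases hM : M ≤ H
  · exact Or.inl (le_antisymm hM hHM)
  obtain ⟨g, hgM, hgH⟩ := SetLike.not_le_iff_exists.mp hM
  refine Or.inr (le_antisymm hMK ?_)
  -- the translation attached to `g`
  obtain ⟨a, ha⟩ : ∃ a, ∀ x, Q ((g : Matrix (Fin m ⊕ Fin m) (Fin m ⊕ Fin m) F) *ᵥ x)
      = Q x + QuadraticMap.polar Q a x ^ 2 := by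
    choose r hr using fun x => exists_sqrt (Q ((g : Matrix (Fin m ⊕ Fin m) (Fin m ⊕ Fin m) F) *ᵥ x) + Q x)
    have hsq : ∀ a b : F, a ^ 2 = b ^ 2 → a = b :=
      fun a b h => frobenius_inj F 2 (by simpa [frobenius_def] using h)
    let φ : (Fin m ⊕ Fin m → F) →ₗ[F] F :=
      { toFun := r
        map_add' := fun x y => hsq _ _ (by
          rw [hr, CharTwo.add_sq, hr, hr, mulVec_add, QuadraticMap.map_add (⇑Q), hsp g (hMK hgM) x y,
            QuadraticMap.map_add (⇑Q) x y]
          linear_combination CharTwo.add_self_eq_zero (QuadraticMap.polar Q x y))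
        map_smul' := fun c x => hsq _ _ (by
          simp only [RingHom.id_apply, smul_eq_mul]
          rw [hr, mul_pow, hr, mulVec_smul, QuadraticMap.map_smul, QuadraticMap.map_smul, smul_eq_mul, smul_eq_mul]
          ring) }
    obtain ⟨a, ha⟩ := (IsGoodForm.of_quadratic hQ).exists_vec φ
    refine ⟨a, fun x => ?_⟩
    have h1 : QuadraticMap.polar Q a x = r x := ha x
    rw [h1, hr]
    linear_combination -(CharTwo.add_self_eq_zero (Q x))
  have ha0 : a ≠ 0 := fun h0 => hgH ((mem_H g).mpr fun x => by simp [ha x, h0, QuadraticMap.polar])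
  -- isometries move translations
  have hmove : ∀ u u', u ≠ 0 → u' ≠ 0 → Q u = Q u' → ∀ f ∈ M,
      (∀ x, Q ((f : Matrix (Fin m ⊕ Fin m) (Fin m ⊕ Fin m) F) *ᵥ x) = Q x + QuadraticMap.polar Q u' x ^ 2) →
      ∃ f' ∈ M, ∀ x, Q ((f' : Matrix (Fin m ⊕ Fin m) (Fin m ⊕ Fin m) F) *ᵥ x)
        = Q x + QuadraticMap.polar Q u x ^ 2 := by
    intro u u' hu hu' huv f hf hfx
    obtain ⟨e, he, hei⟩ := witt_family_quad hQ ![u] ![u'] (one1 hu) (one1 hu')
      (fun i => by fin_cases i; simpa using huv) (fun i j => by fin_cases i; fin_cases j; simp [QuadraticMap.polar_self, huv])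
    have hmem : (glEquiv (Fin m ⊕ Fin m) F).symm e ∈ H :=
      (mem_H _).mpr fun x => by rw [glEquiv_symm_mulVec, he]
    refine ⟨f * (glEquiv (Fin m ⊕ Fin m) F).symm e, M.mul_mem hf (hHM hmem), fun x => ?_⟩
    rw [Units.val_mul, ← mulVec_mulVec, glEquiv_symm_mulVec, hfx, he]
    have h1 := polar_preserves_of_quad (T := e.toLinearMap) he u x
    simp only [LinearEquiv.coe_coe] at h1
    rw [show e u = u' from by simpa using hei 0] at h1
    rw [h1]
  -- translations by every vector whose value is `t ^ 2 + t`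
  have hC : ∀ d, d ≠ 0 → ∀ t, Q d = t ^ 2 + t → ∃ f ∈ M,
      ∀ x, Q ((f : Matrix (Fin m ⊕ Fin m) (Fin m ⊕ Fin m) F) *ᵥ x) = Q x + QuadraticMap.polar Q d x ^ 2 := by
    intro d hd t hdt
    obtain ⟨r, hr⟩ := exists_polar_eq hQ (one1 ha0) ![1]
    have har : QuadraticMap.polar Q a r = 1 := hr 0
    have hfr := le_finrank_perp_range hQ ![a, r]
    obtain ⟨z, hz, hz0, hzQ⟩ := exists_value_char_two hQ
      (K := perp (QuadraticMap.polarBilin Q) (Submodule.span F (Set.range ![a, r])))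
      (by omega) (by omega) (Q a + t ^ 2 + t ^ 2 * Q r)
    have haz : QuadraticMap.polar Q a z = 0 := mem_perp_range.mp hz 0
    have hrz : QuadraticMap.polar Q r z = 0 := mem_perp_range.mp hz 1
    set b := t • r + z with hb
    have hab : QuadraticMap.polar Q a b = t := by
      simp [hb, QuadraticMap.polar_add_right, QuadraticMap.polar_smul_right, har, haz]
    have hQb : Q b = Q a + t ^ 2 := by
      rw [hb, QuadraticMap.map_add (⇑Q), hzQ, QuadraticMap.map_smul, QuadraticMap.polar_smul_left, hrz,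
        smul_eq_mul, smul_zero, add_zero]
      linear_combination CharTwo.add_self_eq_zero (t ^ 2 * Q r)
    have hb0 : b ≠ 0 := fun e => by
      rw [e] at hab
      simp [QuadraticMap.polar] at hab
      exact hz0 (by simpa [hb, ← hab] using e)
    have hba : a + b ≠ 0 := fun e => by
      have h1 : QuadraticMap.polar Q r (a + b) = 0 := by rw [e]; simp [QuadraticMap.polar]
      rw [QuadraticMap.polar_add_right, QuadraticMap.polar_comm Q r a, har, hb, QuadraticMap.polar_add_right,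
        QuadraticMap.polar_smul_right, polar_self_char_two, hrz, smul_zero, add_zero, add_zero] at h1
      exact one_ne_zero h1
    have hgb : Q ((g : Matrix (Fin m ⊕ Fin m) (Fin m ⊕ Fin m) F) *ᵥ b) = Q a := by
      rw [ha, hab, hQb, add_assoc, CharTwo.add_self_eq_zero, add_zero]
    have hgb0 : (g : Matrix (Fin m ⊕ Fin m) (Fin m ⊕ Fin m) F) *ᵥ b ≠ 0 := fun e => hb0 (by
      have h' := congrArg (((g⁻¹ : Matrix.GeneralLinearGroup (Fin m ⊕ Fin m) F) :
        Matrix (Fin m ⊕ Fin m) (Fin m ⊕ Fin m) F) *ᵥ ·) e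
      simpa [mulVec_mulVec] using h')
    obtain ⟨f₁, hf₁, hf₁x⟩ := hmove _ a hgb0 ha0 hgb g hgM ha
    have hab' : Q d = Q (a + b) := by
      rw [QuadraticMap.map_add (⇑Q), hQb, hab, hdt]
      linear_combination -(CharTwo.add_self_eq_zero (Q a))
    refine hmove d (a + b) hd hba hab' (f₁ * g) (M.mul_mem hf₁ hgM) fun x => ?_
    rw [Units.val_mul, ← mulVec_mulVec, hf₁x, hsp g (hMK hgM), ha,
      show QuadraticMap.polar Q (a + b) x = QuadraticMap.polar Q a x + QuadraticMap.polar Q b x from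
        QuadraticMap.polar_add_left .., CharTwo.add_sq]
    ring
  have hall : ∀ A : Matrix.symplecticGroup (Fin m) F, A ∈ M.comap toGL := by
    intro A
    have hA : A ∈ Subgroup.closure (sympTransSet m F) := by
      rw [closure_sympTransSet_eq_top]; exact Subgroup.mem_top A
    refine (Subgroup.closure_le _).mpr ?_ hA
    rintro T ⟨v, c, hT⟩
    show toGL T ∈ M
    obtain ⟨s, hs⟩ := exists_sqrt (c ^ 2 * Q v + c)
    have hSQ : ∀ x, Q (((toGL T : Matrix.GeneralLinearGroup (Fin m ⊕ Fin m) F) :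
        Matrix (Fin m ⊕ Fin m) (Fin m ⊕ Fin m) F) *ᵥ x) = Q x + QuadraticMap.polar Q (s • v) x ^ 2 := fun x => by
      rw [htv T v c hT, QuadraticMap.map_add (⇑Q), QuadraticMap.map_smul, QuadraticMap.polar_smul_right,
        QuadraticMap.polar_smul_left, QuadraticMap.polar_comm Q v x]
      simp only [smul_eq_mul]
      rw [mul_pow, hs]
      ring
    by_cases h0 : s • v = 0
    · exact hHM ((mem_H _).mpr fun x => by simp [hSQ x, h0, QuadraticMap.polar])
    obtain ⟨f, hf, hfx⟩ := hC _ h0 (c * Q v) (by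
      rw [QuadraticMap.map_smul, smul_eq_mul, ← pow_two, hs]; ring)
    have hSf : toGL T * f⁻¹ ∈ H := (mem_H _).mpr fun y => by
      rw [Units.val_mul, ← mulVec_mulVec, hSQ, ← hfx, hinv]
    simpa using M.mul_mem (hHM hSf) hf
  intro x hx
  have hxs : (x : Matrix (Fin m ⊕ Fin m) (Fin m ⊕ Fin m) F) ∈ Matrix.symplecticGroup (Fin m) F :=
    mem_symplecticGroup_iff_preserves.mpr hx
  have h1 : toGL ⟨_, hxs⟩ ∈ M := hall ⟨_, hxs⟩
  rwa [show toGL ⟨_, hxs⟩ = x from Units.ext rfl] at h1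

/-- For a finite field F of characteristic two and m ≥ 7, let Q be a non-degenerate quadratic form on F^(2m) whose polar form is the standard alternating form. Then the elements of Sp_2m(F) that are similarities of Q (they are exactly the isometries of Q) form a maximal subgroup of Sp_2m(F). -/
theorem result {F : Type*} [Field F] [Fintype F] (m : ℕ) (hm : 7 ≤ m) (heven : ¬ Odd (Fintype.card F)) (Q : (Fin m ⊕ Fin m → F) → F) (hQ : Cfsg.Geo.IsNondegenerateQuadraticForm Q) (hpol : ∀ u v, QuadraticMap.polar Q u v = Cfsg.sympForm m F u v) : Cfsg.Geo.IsMaximalIn (Cfsg.spGL m F) (Cfsg.Geo.quadSimilarityGroup Q ⊓ Cfsg.spGL m F) := by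
  haveI := Cfsg.Agent.Lib.Forms.charP_two_of_not_odd heven
  exact key hm (Q := Cfsg.Agent.Lib.Forms.bundleQuad Q hQ) hpol

end Cfsg.Agent.S5652
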