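import Cfsg.Statements.S5666
import Cfsg.Agent.Lib.TensorMixed.Main
import Cfsg.Agent.Lib.SympMax.Basic

set_option autoImplicit false
open Cfsg

namespace Cfsg.Agent.S5666

open Matrix Cfsg.Agent.Lib Cfsg.Agent.Lib.TensorMax Cfsg.Agent.Lib.TensorForm Cfsg.Agent.Lib.TensorMixed
open scoped Kronecker

/-- For a finite field F of odd order q and m ≥ 7, suppose the standard alternating form on F^(2m) is similar, through a change of basis P and a bijection of index sets e, to the tensor product of a non-degenerate symplectic form f₁ on F^(n₁) and a non-degenerate symmetric bilinear form f₂ on F^(n₂) with n₂ ≥ 3. Unless q = 3 and n₂ = 3, the elements of Sp_2m(F) in the stabiliser of this tensor decomposition (the conjugate by P of the Kronecker-product subgroup transported along e) form a maximal subgroup of Sp_2m(F). -/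
theorem result {F : Type*} [Field F] [Fintype F] (m : ℕ) (hm : 7 ≤ m) (hodd : Odd (Fintype.card F)) (n₁ n₂ : ℕ) (hn₂ : 3 ≤ n₂) (hex : ¬ (Fintype.card F = 3 ∧ n₂ = 3)) (e : (Fin m ⊕ Fin m) ≃ Fin n₁ × Fin n₂) (P : Matrix.GeneralLinearGroup (Fin m ⊕ Fin m) F) (f₁ : (Fin n₁ → F) → (Fin n₁ → F) → F) (f₂ : (Fin n₂ → F) → (Fin n₂ → F) → F) (hf₁ : Cfsg.Geo.IsSymplecticForm f₁) (hf₂ : Cfsg.Geo.IsSymmetricForm f₂) (hT : Cfsg.Geo.IsTensorFormStructure id (Cfsg.sympForm m F) f₁ f₂ e P) : Cfsg.Geo.IsMaximalIn (Cfsg.spGL m F) (Cfsg.Geo.tensorProductSubgroup n₁ n₂ e P ⊓ Cfsg.spGL m F) := by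
  classical
  obtain ⟨κ, hκ, hc⟩ := hT
  have hA : IsAlt f₁ :=
    ⟨⟨hf₁.bilinear.add_left, hf₁.bilinear.smul_left,
      fun v w => by rw [RingHom.id_apply, neg_one_mul]; exact hf₁.skew w v,
      fun v hv => (hf₁.nondegenerate v hv).2, fun s => rfl, by simp⟩, hf₁.alternating⟩
  let fU : (Fin n₂ → F) → (Fin n₂ → F) → F := fun v w => κ * f₂ v w
  have hU : IsSForm (RingHom.id F) 1 fU :=
    ⟨fun x y v => by simp only [fU, hf₂.bilinear.add_left, mul_add],
      fun t x v => by simp only [fU, hf₂.bilinear.smul_left]; ring,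
      fun v w => by simp only [fU, RingHom.id_apply, one_mul, hf₂.symm v w],
      fun v hv => (hf₂.nondegenerate v hv).2.imp fun w hw => mul_ne_zero hκ hw, fun s => rfl, by simp⟩
  have h2 : (2 : F) ≠ 0 := by
    intro e
    have hchar : ringChar F = 2 := by
      have hd := (ringChar.spec F 2).1 (by exact_mod_cast e)
      rcases (Nat.dvd_prime Nat.prime_two).1 hd with h | h
      · exact absurd h (CharP.char_ne_one F (ringChar F))
      · exact h
    exact Nat.not_even_iff_odd.2 hodd (Nat.even_iff.2 (FiniteField.even_card_iff_char_two.1 hchar))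
  have hcard : m + m = n₁ * n₂ := by simpa using Fintype.card_congr e
  obtain ⟨b, hb, -⟩ := LinClasses.exists_symp_basis hf₁
  rw [Fintype.card_fin] at hb
  have h12 : 2 ≤ n₁ := by
    rcases Nat.eq_zero_or_pos b with h | h
    · exfalso
      have : n₁ = 0 := by omega
      rw [this, zero_mul] at hcard
      omega
    · omega
  have hlarge : 3 ≤ n₁ ∨ 7 ≤ n₂ := by
    rcases Nat.lt_or_ge n₁ 3 with h | h
    · have : n₁ = 2 := by omega
      subst this
      omega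
    · exact Or.inl h
  have hfield : 5 ≤ Nat.card F ∨ 4 ≤ n₂ := by
    rw [Nat.card_eq_fintype_card]
    by_contra h
    push Not at h
    have h1 := Fintype.one_lt_card (α := F)
    obtain ⟨j, hj⟩ := hodd
    exact hex ⟨by omega, by omega⟩
  -- coordinates
  let L : Matrix (Fin n₂) (Fin n₁) F →ₗ[F] (Fin m ⊕ Fin m → F) :=
    { toFun := fun Y => (P : Matrix (Fin m ⊕ Fin m) (Fin m ⊕ Fin m) F) *ᵥ fun i => Y (e i).2 (e i).1
      map_add' := fun Y Z => by rw [← Matrix.mulVec_add]; rfl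
      map_smul' := fun t Y => by rw [RingHom.id_apply, ← Matrix.mulVec_smul]; rfl }
  have hsum : ∀ {n : ℕ} {σ : F →+* F} {ε : F} {f : (Fin n → F) → (Fin n → F) → F}, IsSForm σ ε f → σ = RingHom.id F →
      ∀ x y, f x y = ∑ i, ∑ j, x i * f (Pi.single i 1) (Pi.single j 1) * y j := by
    intro n σ ε f hf hσ x y
    subst hσ
    rw [← hf.dot_cov]
    simp only [dotProduct, cov]
    refine Finset.sum_congr rfl fun i _ => ?_
    let R : (Fin n → F) →+ F :=
      { toFun := fun v => f (Pi.single i 1) v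
        map_zero' := hf.zero_right _
        map_add' := fun p q => hf.add_right _ p q }
    show x i * R y = _
    conv_lhs => rw [pi_eq_sum_univ' y, map_sum, Finset.mul_sum]
    refine Finset.sum_congr rfl fun j _ => ?_
    show x i * f _ (y j • _) = _
    rw [hf.smul_right, RingHom.id_apply]
    ring
  have hform : ∀ X Y, Cfsg.sympForm m F (L X) (L Y) = tB fU f₁ X Y := by
    have hpure : ∀ u v (a a' : Fin n₁ → F),
        Cfsg.sympForm m F (L (vecMulVec u a)) (L (vecMulVec v a')) = f₁ a a' * fU u v := by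
      intro u v a a'
      have h := hc (fun p => u p.2 * a p.1) (fun p => v p.2 * a' p.1)
      refine h.trans ?_
      show κ * _ = f₁ a a' * (κ * f₂ u v)
      rw [hsum hA.form rfl a a', show f₂ u v = ∑ i, ∑ j, u i * f₂ (Pi.single i 1) (Pi.single j 1) * v j from ?_]
      · simp only [Cfsg.Geo.formOfGram, Fintype.sum_prod_type, kroneckerMap_apply, Cfsg.Geo.gramMatrix, id_eq,
          Finset.sum_mul, Finset.mul_sum]
        refine Finset.sum_comm.trans (Finset.sum_congr rfl fun j _ => ?_)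
        conv_rhs => rw [Finset.sum_comm]
        refine Finset.sum_congr rfl fun i _ => ?_
        refine Finset.sum_comm.trans (Finset.sum_congr rfl fun k _ => Finset.sum_congr rfl fun l _ => ?_)
        ring
      · have h := hsum hU rfl u v
        simp only [fU] at h
        refine mul_left_cancel₀ hκ (h.trans ?_)
        rw [Finset.mul_sum]
        refine Finset.sum_congr rfl fun i _ => ?_
        rw [Finset.mul_sum]
        exact Finset.sum_congr rfl fun j _ => by ring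
    intro X Y
    conv_lhs => rw [TensorMixed.eq_sum_rows X, TensorMixed.eq_sum_rows Y]
    rw [map_sum, map_sum, ← Forms.sympBilin_apply]
    simp only [map_sum, LinearMap.sum_apply, Forms.sympBilin_apply, hpure]
    have hR : ∀ (q : Fin n₂ → F) (x : Matrix (Fin n₂) (Fin n₁) F) (a : Fin n₁ → F),
        fU (x *ᵥ cov f₁ a) q = ∑ i, f₁ (x i) a * fU (Pi.single i 1) q := by
      intro q x a
      let R : (Fin n₂ → F) →+ F :=
        { toFun := fun v => fU v q
          map_zero' := hU.zero_left _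
          map_add' := fun p p' => hU.add_left p p' q }
      show R (x *ᵥ cov f₁ a) = _
      conv_lhs => rw [pi_eq_sum_univ' (x *ᵥ cov f₁ a), map_sum]
      refine Finset.sum_congr rfl fun i _ => ?_
      show fU (((x *ᵥ cov f₁ a) i) • _) q = _
      rw [hU.smul_left, ← hA.form.dot_cov]
      rfl
    simp only [tB, hR]
  have hsur : Function.Surjective L := fun v => by
    refine ⟨Matrix.of fun i j =>
      (((P⁻¹ : GL (Fin m ⊕ Fin m) F) : Matrix (Fin m ⊕ Fin m) (Fin m ⊕ Fin m) F) *ᵥ v) (e.symm (j, i)), ?_⟩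
    show (P : Matrix (Fin m ⊕ Fin m) (Fin m ⊕ Fin m) F) *ᵥ (fun i =>
      (((P⁻¹ : GL (Fin m ⊕ Fin m) F) : Matrix (Fin m ⊕ Fin m) (Fin m ⊕ Fin m) F) *ᵥ v) (e.symm ((e i).1, (e i).2))) = v
    simp only [Prod.mk.eta, Equiv.symm_apply_apply]
    rw [Matrix.mulVec_mulVec, ← Units.val_mul, mul_inv_cancel, Units.val_one, Matrix.one_mulVec]
  let e' : Fin n₂ × Fin n₁ ≃ Fin m ⊕ Fin m := (Equiv.prodComm _ _).trans e.symm
  let Φ : GL (Fin n₂ × Fin n₁) F ≃* GL (Fin m ⊕ Fin m) F := (Cfsg.Geo.glReindex e').trans (MulAut.conj P)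
  have hL : ∀ g Y, L (op g Y) = (Φ g : Matrix (Fin m ⊕ Fin m) (Fin m ⊕ Fin m) F) *ᵥ L Y := fun g Y => by
    have hΦ : (Φ g : Matrix (Fin m ⊕ Fin m) (Fin m ⊕ Fin m) F) = (P : Matrix (Fin m ⊕ Fin m) (Fin m ⊕ Fin m) F) *
        (g : Matrix (Fin n₂ × Fin n₁) (Fin n₂ × Fin n₁) F).submatrix e'.symm e'.symm *
        ((P⁻¹ : GL (Fin m ⊕ Fin m) F) : Matrix (Fin m ⊕ Fin m) (Fin m ⊕ Fin m) F) := rfl
    have hY : (fun i => Y (e i).2 (e i).1) = (fun p : Fin n₂ × Fin n₁ => Y p.1 p.2) ∘ e'.symm := rfl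
    show (P : Matrix (Fin m ⊕ Fin m) (Fin m ⊕ Fin m) F) *ᵥ (fun i => op g Y (e i).2 (e i).1) = _
    show _ = _ *ᵥ ((P : Matrix (Fin m ⊕ Fin m) (Fin m ⊕ Fin m) F) *ᵥ fun i => Y (e i).2 (e i).1)
    rw [hΦ, Matrix.mulVec_mulVec, Matrix.mul_assoc, ← Units.val_mul, inv_mul_cancel, Units.val_one, Matrix.mul_one,
      ← Matrix.mulVec_mulVec, hY, Matrix.submatrix_mulVec_equiv, Function.comp_assoc, Equiv.self_comp_symm,
      Function.comp_id]
    rfl
  have hiso : ∀ g, Φ g ∈ Cfsg.spGL m F ↔ ∀ X Y, tB fU f₁ (op g X) (op g Y) = tB fU f₁ X Y := fun g => by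
    constructor
    · intro hg X Y
      rw [← hform, ← hform, hL, hL, SympMax.apply_sp hg]
    · intro hg u v
      obtain ⟨X, rfl⟩ := hsur u
      obtain ⟨Y, rfl⟩ := hsur v
      show Cfsg.sympForm m F ((Φ g : Matrix (Fin m ⊕ Fin m) (Fin m ⊕ Fin m) F) *ᵥ L X)
        ((Φ g : Matrix (Fin m ⊕ Fin m) (Fin m ⊕ Fin m) F) *ᵥ L Y) = Cfsg.sympForm m F (L X) (L Y)
      rw [← hL, ← hL, hform, hform]
      exact hg X Y
  have hK : ∀ g, Φ g ∈ Cfsg.Geo.tensorProductSubgroup n₁ n₂ e P ↔ g ∈ Cfsg.Geo.kroneckerSubgroup n₂ n₁ F := by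
    intro g
    have key : ∀ (g₁ : GL (Fin n₁ × Fin n₂) F) (g₂ : GL (Fin n₂ × Fin n₁) F),
        (∀ p q, (g₁ : Matrix (Fin n₁ × Fin n₂) (Fin n₁ × Fin n₂) F) p q =
          (g₂ : Matrix (Fin n₂ × Fin n₁) (Fin n₂ × Fin n₁) F) p.swap q.swap) →
        MulAut.conj P (Cfsg.Geo.glReindex e.symm g₁) = Φ g₂ := fun g₁ g₂ h => by
      refine congrArg (MulAut.conj P) (Units.ext (Matrix.ext fun i j => ?_))
      exact h (e i) (e j)
    constructor
    · rintro ⟨_, ⟨g₁, ⟨A, C, hAC⟩, rfl⟩, hg⟩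
      obtain ⟨g₂, hg₂⟩ : ∃ g₂ : GL (Fin n₂ × Fin n₁) F, (g₂ : Matrix (Fin n₂ × Fin n₁) (Fin n₂ × Fin n₁) F) =
          (C : Matrix (Fin n₂) (Fin n₂) F) ⊗ₖ (A : Matrix (Fin n₁) (Fin n₁) F) :=
        ⟨⟨(C : Matrix (Fin n₂) (Fin n₂) F) ⊗ₖ (A : Matrix (Fin n₁) (Fin n₁) F),
          ((C⁻¹ : GL (Fin n₂) F) : Matrix (Fin n₂) (Fin n₂) F) ⊗ₖ ((A⁻¹ : GL (Fin n₁) F) : Matrix (Fin n₁) (Fin n₁) F),
          by rw [← mul_kronecker_mul, Units.mul_inv, Units.mul_inv, one_kronecker_one],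
          by rw [← mul_kronecker_mul, Units.inv_mul, Units.inv_mul, one_kronecker_one]⟩, rfl⟩
      have h := key g₁ g₂ fun p q => by
        rw [hAC, hg₂, kroneckerMap_apply, kroneckerMap_apply]; exact mul_comm _ _
      have : g = g₂ := Φ.injective (hg.symm.trans h)
      exact this ▸ ⟨C, A, hg₂⟩
    · rintro ⟨C, A, hCA⟩
      obtain ⟨g₁, hg₁⟩ : ∃ g₁ : GL (Fin n₁ × Fin n₂) F, (g₁ : Matrix (Fin n₁ × Fin n₂) (Fin n₁ × Fin n₂) F) =
          (A : Matrix (Fin n₁) (Fin n₁) F) ⊗ₖ (C : Matrix (Fin n₂) (Fin n₂) F) :=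
        ⟨⟨(A : Matrix (Fin n₁) (Fin n₁) F) ⊗ₖ (C : Matrix (Fin n₂) (Fin n₂) F),
          ((A⁻¹ : GL (Fin n₁) F) : Matrix (Fin n₁) (Fin n₁) F) ⊗ₖ ((C⁻¹ : GL (Fin n₂) F) : Matrix (Fin n₂) (Fin n₂) F),
          by rw [← mul_kronecker_mul, Units.mul_inv, Units.mul_inv, one_kronecker_one],
          by rw [← mul_kronecker_mul, Units.inv_mul, Units.inv_mul, one_kronecker_one]⟩, rfl⟩
      exact ⟨_, ⟨g₁, ⟨A, C, hg₁⟩, rfl⟩, key g₁ g fun p q => by
        rw [hg₁, hCA, kroneckerMap_apply, kroneckerMap_apply]; exact mul_comm _ _⟩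
  have htrans : ∀ (g : GL (Fin n₂ × Fin n₁) F) (X : Matrix (Fin n₂) (Fin n₁) F) (l : F),
      (∀ Y, op g Y = Y + (l * tB fU f₁ Y X) • X) → Φ g = SympMax.T (L X) l := fun g X l h => by
    refine Units.ext (Matrix.ext_iff_mulVec.mpr fun v => ?_)
    obtain ⟨Y, rfl⟩ := hsur v
    rw [← hL, h, map_add, map_smul, SympMax.T_mulVec, hform]
  let S₀ : MSetup fU f₁ ((Cfsg.spGL m F).comap Φ.toMonoidHom) :=
    ⟨hU, hA, h2, h12, hn₂, hlarge, hfield, fun g hg => (hiso g).1 hg, fun g _ hg => (hiso g).2 hg⟩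
  refine ⟨lt_of_le_of_ne inf_le_right fun heq => ?_, fun N hHN hNS => ?_⟩
  · obtain ⟨X, hX⟩ : ∃ X : Matrix (Fin n₂) (Fin n₁) F, X ≠ 0 :=
      ⟨Matrix.of fun _ _ => 1, fun h => one_ne_zero (congrFun (congrFun h ⟨0, by omega⟩) ⟨0, by omega⟩)⟩
    obtain ⟨g, hg⟩ := Φ.surjective (SympMax.T (L X) 1)
    refine S₀.not_kron_of_trans hX (g := g) (fun Y => ?_) ((hK g).1 ?_)
    · have hinj : Function.Injective L := LinearMap.ker_eq_bot.1 (by
        rw [LinearMap.ker_eq_bot']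
        intro Y hY
        exact S₀.B_nondeg fun Z => by rw [← hform, hY, ← Forms.sympBilin_apply, map_zero, LinearMap.zero_apply])
      refine hinj ?_
      rw [hL, hg, SympMax.T_mulVec, map_add, map_smul, hform, one_mul]
    · rw [hg]
      exact (heq.ge (SympMax.T_mem (L X) 1)).1
  have S : MSetup fU f₁ (N.comap Φ.toMonoidHom) :=
    ⟨hU, hA, h2, h12, hn₂, hlarge, hfield, fun g hg => (hiso g).1 (hNS hg),
      fun g hg hgi => hHN ⟨(hK g).2 hg, (hiso g).2 hgi⟩⟩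
  rcases S.kron_or_all with h | h
  · left
    refine le_antisymm (fun n hn => ?_) hHN
    obtain ⟨g, rfl⟩ := Φ.surjective n
    exact ⟨(hK g).2 (h hn), hNS hn⟩
  · right
    refine SympMax.eq_spGL hNS fun v l => ?_
    obtain ⟨X, rfl⟩ := hsur v
    obtain ⟨g, hg, hgX⟩ := h X l
    rw [← htrans g X l hgX]
    exact hg

end Cfsg.Agent.S5666
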