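import Cfsg.Statements.S5675
import Cfsg.Agent.Lib.SingMax.NonDegMain
import Cfsg.Agent.Lib.NonMax.OddForm

set_option autoImplicit false
open Cfsg

namespace Cfsg.Agent.S5675



/-- Let F be a finite field of odd order q, m ≥ 6, Q the standard quadratic form on F^(2m+1) and Ω the commutator subgroup of its isometry group. Let W be a non-zero subspace of even dimension on which the polar form of Q is non-degenerate; exclude the case q = 3, dim W = 2 with Q vanishing on some line of W (a plus-type plane). Then the elements of Ω stabilising W (equivalently, stabilising its orthogonal complement, of odd dimension) form a maximal subgroup of Ω. -/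
theorem result {F : Type*} [Field F] [Fintype F] (hodd : Odd (Fintype.card F)) (m : ℕ) (hm : 6 ≤ m) (W : Submodule F (Unit ⊕ (Fin m ⊕ Fin m) → F)) (hW0 : W ≠ ⊥) (hev : Even (Module.finrank F W)) (hW : Cfsg.Geo.IsNondegenerateOn (QuadraticMap.polar (Cfsg.quadFormOdd m F)) W) (hex : ¬ (Fintype.card F = 3 ∧ Module.finrank F W = 2 ∧ Cfsg.Geo.IsPlusTypeOn (Cfsg.quadFormOdd m F) W)) : Cfsg.Geo.IsMaximalIn (Cfsg.Geo.omegaGL (Cfsg.quadFormOdd m F)) (Cfsg.Geo.subspaceStabilizer W ⊓ Cfsg.Geo.omegaGL (Cfsg.quadFormOdd m F)) := by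
  have h2 : (2 : F) ≠ 0 := by
    intro h
    haveI : CharP F 2 := CharTwo.of_one_ne_zero_of_two_eq_zero one_ne_zero h
    exact Nat.not_odd_iff_even.2 (Nat.even_iff.2 (FiniteField.even_card_iff_char_two.1 (ringChar.eq F 2))) hodd
  have hQ' := Cfsg.Agent.Lib.Forms.nondegenerate_bundleQuad _ (Cfsg.Agent.Lib.NonMax.isNondegenerateQuadraticForm_odd m h2)
  set Q := Cfsg.Agent.Lib.Forms.bundleQuad _ (Cfsg.Agent.Lib.NonMax.isNondegenerateQuadraticForm_odd m h2)
  have hcard : Fintype.card (Unit ⊕ (Fin m ⊕ Fin m)) = 2 * m + 1 := by simp; omega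
  have hW1 : W ≠ ⊤ := fun h => by
    rw [h, finrank_top, Module.finrank_fintype_fun_eq_card, hcard] at hev
    obtain ⟨j, hj⟩ := hev
    omega
  have hdU := Cfsg.Agent.Lib.MaxClass.finrank_polarPerp hQ' W
  have hdW := Submodule.finrank_le W
  rw [Module.finrank_fintype_fun_eq_card] at hdW
  refine Cfsg.Agent.Lib.SingMax.isMaximalIn_nondegenerate hQ' hW (by omega) hW0 hW1
    (fun h => absurd h (by omega)) ?_ ?_
  · rintro ⟨hq, hd, hp⟩
    have h1 := Fintype.one_lt_card (α := F)
    refine hex ⟨?_, hd, hp⟩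
    rcases hodd with ⟨c, hc⟩
    omega
  · rintro ⟨-, hd, -⟩
    obtain ⟨j, hj⟩ := hev
    omega

end Cfsg.Agent.S5675
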