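import Cfsg.Statements.S5677
import Cfsg.Agent.Lib.OrthMax.Main
import Cfsg.Agent.Lib.NonMax.OddForm
-- import your own Cfsg.Agent.* helpers here

set_option autoImplicit false
open Cfsg

namespace Cfsg.Agent.S5677

/-- Let F be a finite field of odd order q, m ≥ 6, Q the standard quadratic form on F^(2m+1) and Ω the commutator subgroup of its isometry group. Let D be a decomposition of F^(2m+1) into t ≥ 2 pairwise orthogonal, pairwise Q-isometric subspaces of equal dimension k > 1 on which the polar form is non-degenerate. Unless q = 3 and k = 3, the elements of Ω permuting the members of D form a maximal subgroup of Ω. -/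
theorem result {F : Type*} [Field F] [Fintype F] (hodd : Odd (Fintype.card F)) (m : ℕ) (hm : 6 ≤ m) {t : ℕ} (k : ℕ) (hk : 1 < k) (D : Fin t → Submodule F (Unit ⊕ (Fin m ⊕ Fin m) → F)) (hD : Cfsg.Geo.IsOrthogonalMDecomposition (Cfsg.quadFormOdd m F) k D) (hex : ¬ (Fintype.card F = 3 ∧ k = 3)) : Cfsg.Geo.IsMaximalIn (Cfsg.Geo.omegaGL (Cfsg.quadFormOdd m F)) (Cfsg.Geo.decompositionStabilizer D ⊓ Cfsg.Geo.omegaGL (Cfsg.quadFormOdd m F)) := by
  have h2 := Cfsg.Agent.Lib.OrthMax.two_ne_zero_of_odd hodd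
  have hQ := Cfsg.Agent.Lib.NonMax.isNondegenerateQuadraticForm_odd (F := F) m h2
  have hc := Cfsg.Agent.Lib.Forms.coe_bundleQuad _ hQ
  have h : Cfsg.Agent.Lib.OrthMax.Dec (Cfsg.Agent.Lib.Forms.bundleQuad _ hQ) k D := ⟨by rw [hc]; exact hD.decomp⟩
  have hcard := h.card_eq
  simp only [Fintype.card_sum, Fintype.card_unit, Fintype.card_fin] at hcard
  have hkodd : k % 2 = 1 := by
    have h1 : (t * k) % 2 = 1 := by omega
    rw [Nat.mul_mod] at h1
    rcases Nat.mod_two_eq_zero_or_one k with h' | h'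
    · rw [h', mul_zero] at h1; omega
    · exact h'
  have hq : 5 ≤ Nat.card F ∨ k ≠ 3 := by
    by_cases hk3 : k = 3
    · left
      rw [Nat.card_eq_fintype_card]
      have h3 : Fintype.card F ≠ 3 := fun h3 => hex ⟨h3, hk3⟩
      have h4 : 1 < Fintype.card F := Fintype.one_lt_card
      rw [Nat.odd_iff] at hodd
      omega
    · exact Or.inr hk3
  have key := Cfsg.Agent.Lib.OrthMax.isMaximalIn_decomp (Cfsg.Agent.Lib.Forms.nondegenerate_bundleQuad _ hQ)
    (by simp only [Fintype.card_sum, Fintype.card_unit, Fintype.card_fin]; omega) h (by omega)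
    (fun hk3 => ⟨h2, hq.resolve_right (fun hne => hne hk3)⟩) (fun hk4 => by omega)
    (Or.inr fun i j => by rw [hc]; exact hD.isometric i j)
  rw [hc] at key
  exact key

end Cfsg.Agent.S5677
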