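import Cfsg.Statements.S5680
import Mathlib
import Cfsg.Agent.Lib.Classical.EichlerStandard
import Cfsg.Agent.Lib.MaxClass.Degree
import Cfsg.Agent.Lib.OrthExt.Three

set_option autoImplicit false
open Cfsg
open Cfsg.Agent.Lib

namespace Cfsg.Agent.S5680

/-- Let F be a finite field of odd order, m ≥ 6, Q the standard quadratic form on F^(2m+1) and Ω the commutator subgroup of its isometry group. Let K be a subfield of the algebra of (2m+1) × (2m+1) matrices over F containing the scalars, of prime degree r over F with r ≠ 2m + 1, whose elements are self-adjoint for the polar form of Q. Then the elements of Ω normalising K form a maximal subgroup of Ω. -/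
theorem result {F : Type*} [Field F] [Fintype F] (hodd : Odd (Fintype.card F)) (m : ℕ) (hm : 6 ≤ m) (r : ℕ) (hr : r.Prime) (hrn : 2 * m + 1 ≠ r) (K : Subalgebra F (Matrix (Unit ⊕ (Fin m ⊕ Fin m)) (Unit ⊕ (Fin m ⊕ Fin m)) F)) (hK : Cfsg.Geo.IsFieldSubalgebra r K) (hsa : Cfsg.Geo.IsSelfAdjointFor (QuadraticMap.polar (Cfsg.quadFormOdd m F)) K) : Cfsg.Geo.IsMaximalIn (Cfsg.Geo.omegaGL (Cfsg.quadFormOdd m F)) (Cfsg.Geo.subalgebraNormalizer K ⊓ Cfsg.Geo.omegaGL (Cfsg.quadFormOdd m F)) := by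
  classical
  have h2 : (2 : F) ≠ 0 := fun h => by
    haveI := CharTwo.of_one_ne_zero_of_two_eq_zero one_ne_zero h
    have he : Fintype.card F % 2 = 0 := FiniteField.even_card_of_char_two (ringChar.eq F 2)
    obtain ⟨k, hk⟩ := hodd
    omega
  have hB : OrthExt.Nd (Cfsg.Agent.Lib.Classical.oddQuadForm m F) :=
    ⟨h2, Cfsg.Agent.Lib.Classical.nondeg_congr (Cfsg.Agent.Lib.Classical.oddEquiv m) (fun _ => rfl)
      (Cfsg.Agent.Lib.Classical.nondeg_hypTower (Cfsg.Agent.Lib.Classical.nondeg_sq h2) m)⟩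
  have hcard : Fintype.card (Unit ⊕ (Fin m ⊕ Fin m)) = 2 * m + 1 := by
    simp only [Fintype.card_sum, Fintype.card_unit, Fintype.card_fin]; omega
  obtain ⟨k, hk⟩ : r ∣ 2 * m + 1 := hcard ▸ Cfsg.Agent.Lib.MaxClass.finrank_dvd_of_isFieldSubalgebra hK
  have h3 : 3 * r ≤ 2 * m + 1 := by
    rcases Nat.lt_or_ge k 3 with hk3 | hk3
    · interval_cases k <;> omega
    · calc 3 * r ≤ k * r := Nat.mul_le_mul_right r hk3
        _ = 2 * m + 1 := by rw [hk, mul_comm]
  rw [← Cfsg.Agent.Lib.Classical.coe_oddQuadForm (F := F) m] at hsa ⊢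
  exact OrthExt.isMaximalIn_extField_three hB r hr (hcard ▸ h3) (by omega)
    (fun h => by subst h; omega) K hK hsa

end Cfsg.Agent.S5680
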