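import Cfsg.Agent.Lib.Dickson.Invariant
import Cfsg.Statements.S5686

set_option autoImplicit false
open Cfsg

namespace Cfsg.Agent.S5686

open Cfsg.Agent.Lib Cfsg.Agent.Lib.Orth Cfsg.Agent.Lib.Parity QuadraticMap in
theorem aux {F : Type*} [Field F] {n : ℕ} (Q : QuadraticForm F (Fin n → F))
    (hnd : (QuadraticMap.polarBilin Q).Nondegenerate) {U W : Submodule F (Fin n → F)}
    (hU : IsLagr Q U) (hW : ∀ w ∈ W, Q w = 0)
    (hdW : Module.finrank F W + 1 = Module.finrank F U) (h2 : 2 ≤ Module.finrank F W) :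
    ∃ K : Subgroup (Matrix.GeneralLinearGroup (Fin n) F),
      Cfsg.Geo.subspaceStabilizer W ⊓ Cfsg.Geo.omegaGL (⇑Q) < K ∧ K < Cfsg.Geo.omegaGL (⇑Q) := by
  classical
  let bW := Module.finBasis F W
  let bU := Module.finBasis F U
  -- a maximal singular subspace over `W`
  have hle : Module.finrank F W ≤ Module.finrank F U := by omega
  let u : Fin (Module.finrank F W) → (Fin n → F) := fun i => ((bU (Fin.castLE hle i) : U) : Fin n → F)
  have hu : LinearIndependent F u :=
    ((bU.linearIndependent.map' U.subtype U.ker_subtype).comp _ (Fin.castLE_injective hle))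
  let φ : ↥W →ₗ[F] (Fin n → F) := bW.constr F u
  have hφU : ∀ a, φ a ∈ U := by
    intro a
    simp only [φ, Module.Basis.constr_apply_fintype]
    exact U.sum_mem fun i _ => U.smul_mem _ (bU _).2
  have hφi : Function.Injective φ := by
    rw [injective_iff_map_eq_zero]
    intro a ha
    simp only [φ, Module.Basis.constr_apply_fintype] at ha
    have := Fintype.linearIndependent_iff.1 hu _ ha
    exact bW.ext_elem fun i => by simpa using this i
  obtain ⟨e, he, heφ⟩ := Forms.witt_quad hnd φ hφi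
    (fun a => by rw [hU.singular _ (hφU a), hW _ a.2])
  set A := U.map e.symm.toLinearMap with hAdef
  have hA : IsLagr Q A := hU.map e.symm fun v => by rw [← he (e.symm v), e.apply_symm_apply]
  have hdA : Module.finrank F A = Module.finrank F U := LinearEquiv.finrank_map_eq _ _
  have hWA : W ≤ A := fun w hw => ⟨φ ⟨w, hw⟩, hφU _, by
    rw [← heφ ⟨w, hw⟩]; exact e.symm_apply_apply w⟩
  -- membership in stabilisers
  have hmap : ∀ (g : ↥(isometryGroup F ⇑Q)) (X : Submodule F (Fin n → F)),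
      (∀ v ∈ X, app g v ∈ X) →
      (g : Matrix.GeneralLinearGroup (Fin n) F) ∈ Cfsg.Geo.subspaceStabilizer X := by
    intro g X h v
    refine ⟨fun hv => h v hv, fun hv => ?_⟩
    have hmaps : X.map (Dickson.toLin Q g).toLinearMap = X := by
      refine Submodule.eq_of_le_of_finrank_eq ?_ (LinearEquiv.finrank_map_eq _ _)
      rintro _ ⟨x, hx, rfl⟩
      exact h x hx
    obtain ⟨x, hx, hxv⟩ : app g v ∈ X.map (Dickson.toLin Q g).toLinearMap := by
      rw [hmaps]; exact hv
    exact (app_injective g (show app g x = app g v from hxv)) ▸ hx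
  refine ⟨Cfsg.Geo.subspaceStabilizer A ⊓ Cfsg.Geo.omegaGL (⇑Q), ?_⟩
  -- the stabiliser of `W` fixes `A`
  have hfix : Cfsg.Geo.subspaceStabilizer W ⊓ Cfsg.Geo.omegaGL (⇑Q)
      ≤ Cfsg.Geo.subspaceStabilizer A ⊓ Cfsg.Geo.omegaGL (⇑Q) := by
    rintro _ ⟨hgW, g, hg, rfl⟩
    refine ⟨?_, g, hg, rfl⟩
    have hchar : Dickson.classChar hnd hA g = 1 := Dickson.omega_le_ker _ hg
    rw [Dickson.classChar_apply, ← Dickson.toLin_toLinearMap] at hchar
    set A' := A.map (Dickson.toLin Q g).toLinearMap with hA'def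
    have hA' : IsLagr Q A' := hA.map _ (Dickson.toLin_preserves g)
    have hdA' : Module.finrank F A' = Module.finrank F A := LinearEquiv.finrank_map_eq _ _
    have hWA' : W ≤ A' := by
      intro w hw
      have hw' : app g⁻¹ w ∈ W := (hgW (app g⁻¹ w)).2 (by
        show app g (app g⁻¹ w) ∈ W
        rwa [app_app_inv])
      exact ⟨app g⁻¹ w, hWA hw', app_app_inv g w⟩
    have h1 := Submodule.finrank_mono (le_inf hWA hWA')
    have h2' : Module.finrank F ↥(A ⊓ A') ≤ Module.finrank F A :=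
      Submodule.finrank_mono inf_le_left
    rw [par, neg_one_pow_eq_one_iff_even (by decide)] at hchar
    have hev : Module.finrank F ↥(A ⊓ A') = Module.finrank F A := by
      rw [Nat.even_iff] at hchar
      omega
    have heq : A ⊓ A' = A := Submodule.eq_of_le_of_finrank_eq inf_le_left hev
    have hAA' : A = A' := Submodule.eq_of_le_of_finrank_eq (heq ▸ inf_le_right) hdA'.symm
    refine hmap g A fun v hv => ?_
    rw [hAA']
    exact ⟨v, hv, rfl⟩
  -- vectors and functionals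
  obtain ⟨e₀, he₀A, he₀W⟩ : ∃ e₀ ∈ A, e₀ ∉ W := by
    by_contra h
    push Not at h
    have := Submodule.finrank_mono (show A ≤ W from h)
    omega
  let e₁ : Fin n → F := ((bW ⟨0, by omega⟩ : W) : Fin n → F)
  let e₂ : Fin n → F := ((bW ⟨1, by omega⟩ : W) : Fin n → F)
  have he₁W : e₁ ∈ W := (bW _).2
  have he₂W : e₂ ∈ W := (bW _).2
  have hli := (bW.linearIndependent.map' W.subtype W.ker_subtype)
  have hpair : LinearIndependent F ![e₁, e₂] := by
    rw [show ![e₁, e₂] = (⇑W.subtype ∘ ⇑bW) ∘ ![(⟨0, by omega⟩ : Fin _), ⟨1, by omega⟩] by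
      funext i
      fin_cases i <;> rfl]
    exact hli.comp _ (by
      intro a b hab
      fin_cases a <;> fin_cases b <;> simp [Fin.ext_iff] at hab ⊢)
  rw [LinearIndependent.pair_iff] at hpair
  have hn1 : e₁ ∉ Submodule.span F {e₀, e₂} := by
    rw [Submodule.mem_span_pair]
    rintro ⟨s, t, h⟩
    by_cases hs : s = 0
    · subst hs
      rw [zero_smul, zero_add] at h
      exact one_ne_zero (hpair 1 (-t) (by rw [← h]; module)).1
    · refine he₀W ((W.smul_mem_iff hs).1 ?_)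
      rw [eq_sub_of_add_eq h]
      exact W.sub_mem he₁W (W.smul_mem _ he₂W)
  have hn2 : e₂ ∉ Submodule.span F {e₀, e₁} := by
    rw [Submodule.mem_span_pair]
    rintro ⟨s, t, h⟩
    by_cases hs : s = 0
    · subst hs
      rw [zero_smul, zero_add] at h
      exact one_ne_zero (hpair (-t) 1 (by rw [← h]; module)).2
    · refine he₀W ((W.smul_mem_iff hs).1 ?_)
      rw [eq_sub_of_add_eq h]
      exact W.sub_mem he₂W (W.smul_mem _ he₁W)
  obtain ⟨f₁, hf₁, hf₁k⟩ := Submodule.exists_le_ker_of_notMem hn1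
  obtain ⟨f₂, hf₂, hf₂k⟩ := Submodule.exists_le_ker_of_notMem hn2
  let c₁ : (Fin n → F) →ₗ[F] F := (f₁ e₁)⁻¹ • f₁
  let c₂ : (Fin n → F) →ₗ[F] F := (f₂ e₂)⁻¹ • f₂
  have c11 : c₁ e₁ = 1 := by simp [c₁, hf₁]
  have c22 : c₂ e₂ = 1 := by simp [c₂, hf₂]
  have c10 : c₁ e₀ = 0 := by
    simp [c₁, LinearMap.mem_ker.1 (hf₁k (Submodule.subset_span (Set.mem_insert e₀ {e₂})))]
  have c12 : c₁ e₂ = 0 := by
    simp [c₁, LinearMap.mem_ker.1 (hf₁k (Submodule.subset_span
      (Set.mem_insert_of_mem e₀ (Set.mem_singleton e₂))))]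
  have c20 : c₂ e₀ = 0 := by
    simp [c₂, LinearMap.mem_ker.1 (hf₂k (Submodule.subset_span (Set.mem_insert e₀ {e₁})))]
  have c21 : c₂ e₁ = 0 := by
    simp [c₂, LinearMap.mem_ker.1 (hf₂k (Submodule.subset_span
      (Set.mem_insert_of_mem e₀ (Set.mem_singleton e₁))))]
  -- transvections of `A` extended to isometries
  have hext : ∀ (c : (Fin n → F) →ₗ[F] F) (d : Fin n → F), d ∈ A → c d = 0 →
      ∃ g : ↥(isometryGroup F ⇑Q), (∀ v ∈ A, app g v = v + c v • d) ∧
        (g : Matrix.GeneralLinearGroup (Fin n) F) ∈ Cfsg.Geo.subspaceStabilizer A := by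
    intro c d hd hcd
    let ψ : ↥A →ₗ[F] (Fin n → F) := A.subtype + (c.comp A.subtype).smulRight d
    have hψA : ∀ a, ψ a ∈ A := fun a => A.add_mem a.2 (A.smul_mem _ hd)
    have hψi : Function.Injective ψ := by
      rw [injective_iff_map_eq_zero]
      intro a ha
      have h0 : (a : Fin n → F) + c a • d = 0 := ha
      have hc : c a = 0 := by simpa [hcd] using congrArg c h0
      rw [hc, zero_smul, add_zero] at h0
      exact Subtype.ext h0
    obtain ⟨g, hg, hgψ⟩ := Forms.witt_quad hnd ψ hψi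
      (fun a => by rw [hA.singular _ (hψA a), hA.singular _ a.2])
    refine ⟨ofEquiv Q g hg, fun v hv => ?_, hmap _ _ fun v hv => ?_⟩
    · rw [app_ofEquiv]; exact hgψ ⟨v, hv⟩
    · rw [app_ofEquiv, hgψ ⟨v, hv⟩]; exact hψA _
  obtain ⟨ga, hga, hgaA⟩ := hext c₂ e₀ he₀A c20
  obtain ⟨gb, hgb, hgbA⟩ := hext c₁ e₂ (hWA he₂W) c12
  set g := ga * gb * ga⁻¹ * gb⁻¹ with hgdef
  have hgΩ : g ∈ Omega F ⇑Q :=
    Subgroup.commutator_mem_commutator (H₁ := ⊤) (H₂ := ⊤) (g₁ := ga) (g₂ := gb)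
      (Subgroup.mem_top _) (Subgroup.mem_top _)
  have hge : app g e₁ = e₁ + e₀ := by
    have h1 : app gb⁻¹ e₁ = e₁ - e₂ := by
      have : app gb (e₁ - e₂) = e₁ := by
        rw [hgb _ (A.sub_mem (hWA he₁W) (hWA he₂W)), map_sub, c11, c12]; module
      conv_lhs => rw [← this]
      rw [app_inv_app]
    have h3 : app ga⁻¹ (e₁ - e₂) = e₁ - e₂ + e₀ := by
      have : app ga (e₁ - e₂ + e₀) = e₁ - e₂ := by
        rw [hga _ (A.add_mem (A.sub_mem (hWA he₁W) (hWA he₂W)) he₀A), map_add, map_sub, c21, c22,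
          c20]
        module
      conv_lhs => rw [← this]
      rw [app_inv_app]
    rw [hgdef, app_mul, app_mul, app_mul, h1, h3,
      hgb _ (A.add_mem (A.sub_mem (hWA he₁W) (hWA he₂W)) he₀A), map_add, map_sub, c11, c12, c10,
      hga _ (A.add_mem (A.add_mem (A.sub_mem (hWA he₁W) (hWA he₂W)) he₀A)
        (A.smul_mem _ (hWA he₂W))), map_add, map_add, map_sub, map_smul, c21, c22, c20]
    simp only [smul_eq_mul]
    module
  have hgA : (g : Matrix.GeneralLinearGroup (Fin n) F) ∈ Cfsg.Geo.subspaceStabilizer A := by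
    rw [hgdef]
    push_cast
    exact mul_mem (mul_mem (mul_mem hgaA hgbA) (inv_mem hgaA)) (inv_mem hgbA)
  constructor
  · refine lt_of_le_of_ne hfix fun h => ?_
    have hgK : (g : Matrix.GeneralLinearGroup (Fin n) F) ∈
        Cfsg.Geo.subspaceStabilizer A ⊓ Cfsg.Geo.omegaGL (⇑Q) := ⟨hgA, g, hgΩ, rfl⟩
    rw [← h] at hgK
    have := (hgK.1 e₁).1 he₁W
    change app g e₁ ∈ W at this
    rw [hge] at this
    exact he₀W ((W.add_mem_iff_right he₁W).1 this)
  -- a conjugate of `g` moves `A`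
  obtain ⟨f, hf, hfk⟩ := Submodule.exists_le_ker_of_notMem he₀W
  obtain ⟨v₀, hv₀⟩ := (Forms.IsGoodForm.of_quadratic hnd).exists_vec f
  obtain ⟨v, hv, hvA⟩ : ∃ v, Q v ≠ 0 ∧ ∀ y ∈ A, polar (⇑Q) v y = f y := by
    by_cases h : Q v₀ = 0
    · refine ⟨v₀ + e₀, ?_, fun y hy => ?_⟩
      · rw [show Q (v₀ + e₀) = Q v₀ + Q e₀ + polar (⇑Q) v₀ e₀ by simp [polar]]
        rw [h, hA.singular _ he₀A, zero_add, zero_add]
        exact fun h' => hf ((hv₀ e₀).symm.trans h')
      · rw [polar_add_left, hA.polar_eq_zero he₀A hy, add_zero]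
        exact hv₀ y
    · exact ⟨v₀, h, fun y _ => hv₀ y⟩
  refine lt_of_le_of_ne inf_le_right fun h => ?_
  have hnΩ : refl Q v hv * g * (refl Q v hv)⁻¹ ∈ Omega F ⇑Q :=
    Subgroup.Normal.conj_mem (inferInstanceAs (commutator ↥(isometryGroup F ⇑Q)).Normal) g hgΩ _
  have hmem : ((refl Q v hv * g * (refl Q v hv)⁻¹ : ↥(isometryGroup F ⇑Q)) :
      Matrix.GeneralLinearGroup (Fin n) F) ∈ Cfsg.Geo.omegaGL (⇑Q) := ⟨_, hnΩ, rfl⟩
  rw [← h] at hmem
  have h5 := (hmem.1 e₁).1 (hWA he₁W)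
  change app (refl Q v hv * g * (refl Q v hv)⁻¹) e₁ ∈ A at h5
  have hpe : polar (⇑Q) v e₁ = 0 := by rw [hvA _ (hWA he₁W)]; exact hfk he₁W
  rw [app_mul, app_mul, refl_inv, app_refl_of_polar_eq_zero hv hpe, hge, app_add,
    app_refl_of_polar_eq_zero hv hpe, app_refl, hvA _ he₀A] at h5
  have hc : (Q v)⁻¹ * f e₀ ≠ 0 := mul_ne_zero (inv_ne_zero hv) hf
  have h6 : ((Q v)⁻¹ * f e₀) • v ∈ A := by
    have := A.sub_mem (A.add_mem (hWA he₁W) he₀A) h5
    convert this using 1
    module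
  exact hv (hA.singular v ((A.smul_mem_iff hc).1 h6))

/-- Let F be a finite field with q elements, n ≥ 13 even, Q a non-degenerate quadratic form on F^n of plus type (some subspace of dimension n/2 is totally singular), and Ω the commutator subgroup of the isometry group of Q, viewed inside GL_n(F). The elements of Ω stabilising a subspace of dimension n/2 − 1 on which Q vanishes form a subgroup that is not maximal: some subgroup lies strictly between it and Ω. -/
theorem result {F : Type*} [Field F] [Fintype F] {n : ℕ} (hn : 13 ≤ n) (heven : Even n) (Q : (Fin n → F) → F) (hQ : Cfsg.Geo.IsNondegenerateQuadraticForm Q) (hplus : Cfsg.Geo.IsPlusTypeOn Q ⊤) (W : Submodule F (Fin n → F)) (hW : Cfsg.Geo.IsTotallySingularQuad Q W) (hdim : 2 * (Module.finrank F W + 1) = n) : ∃ K : Subgroup (Matrix.GeneralLinearGroup (Fin n) F), Cfsg.Geo.subspaceStabilizer W ⊓ Cfsg.Geo.omegaGL Q < K ∧ K < Cfsg.Geo.omegaGL Q := by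
  obtain ⟨U, -, hUs, hUd⟩ := hplus
  rw [finrank_top, Module.finrank_fin_fun] at hUd
  let Q₀ : QuadraticForm F (Fin n → F) := QuadraticMap.ofPolar Q
    (fun c v => by rw [hQ.smul c v, smul_eq_mul, pow_two])
    (fun x x' y => hQ.polar_bilinear.add_left x x' y)
    (fun c x y => by rw [hQ.polar_bilinear.smul_left c x y, smul_eq_mul])
  have hnd : (QuadraticMap.polarBilin Q₀).Nondegenerate := by
    refine ⟨fun v hv => ?_, fun v hv => ?_⟩
    · by_contra h
      obtain ⟨x, hx⟩ := (hQ.nondegenerate v h).2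
      exact hx (hv x)
    · by_contra h
      obtain ⟨x, hx⟩ := (hQ.nondegenerate v h).1
      exact hx (hv x)
  exact aux Q₀ hnd (U := U) (W := W)
    ⟨hUs, by rw [Module.finrank_fin_fun]; omega⟩ hW (by omega) (by omega)

end Cfsg.Agent.S5686
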