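import Cfsg.Statements.S5693
import Cfsg.Agent.Lib.SingMax.SmallDecomp
import Cfsg.Agent.Lib.NonMax.OrthFrames

set_option autoImplicit false
open Cfsg

namespace Cfsg.Agent.S5693

open QuadraticMap Cfsg.Agent.Lib.SingMax

variable {ι : Type} [Fintype ι] [DecidableEq ι] {F : Type*} [Field F] [Finite F]
  {Q : QuadraticForm F (ι → F)}

theorem exists_pair_in (hQ : (QuadraticMap.polarBilin Q).Nondegenerate) {W : Submodule F (ι → F)}
    (hW : Cfsg.Geo.IsNondegenerateOn (polar ⇑Q) W) {U : Submodule F (ι → F)} (hUW : U ≤ W)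
    (hU : Cfsg.Geo.IsTotallySingularQuad (⇑Q) U) (hU0 : 0 < Module.finrank F U) :
    ∃ e f, e ∈ U ∧ f ∈ W ∧ Q e = 0 ∧ Q f = 0 ∧ polar ⇑Q e f = 1 := by
  obtain ⟨e, he, he0⟩ := U.ne_bot_iff.mp (fun h => by rw [h, finrank_bot] at hU0; exact lt_irrefl 0 hU0)
  obtain ⟨f, hf, hfQ, hef⟩ := exists_partner_in hQ hW (hUW he) he0 (hU e he)
  exact ⟨e, f, he, hf, hU e he, hfQ, hef⟩

omit [Finite F] in
theorem span_pair_eq {W : Submodule F (ι → F)} {e f : ι → F} (he : e ∈ W) (hf : f ∈ W) (heQ : Q e = 0)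
    (hfQ : Q f = 0) (hef : polar ⇑Q e f = 1) (hd : Module.finrank F W = 2) :
    W = Submodule.span F {e, f} := by
  refine (Submodule.eq_of_le_of_finrank_le (Submodule.span_le.2 ?_) ?_).symm
  · rintro z (rfl | rfl) <;> assumption
  have hli : LinearIndependent F ![e, f] := by
    refine LinearIndependent.pair_iff.2 fun s r h => ?_
    have h1 := congrArg (polar ⇑Q f) h
    have h2 := congrArg (polar ⇑Q e) h
    simp only [polar_add_right, polar_smul_right, Cfsg.Agent.Lib.Orth.polar_self_zero heQ,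
      Cfsg.Agent.Lib.Orth.polar_self_zero hfQ, hef, polar_comm (⇑Q) f e, polar_zero_right, smul_eq_mul,
      mul_zero, mul_one, zero_add, add_zero] at h1 h2
    exact ⟨h1, h2⟩
  have h2 := finrank_span_eq_card hli
  rw [Matrix.range_cons, Matrix.range_cons, Matrix.range_empty, Set.union_empty, Set.singleton_union,
    Fintype.card_fin] at h2
  rw [h2, hd]

theorem exists_minus_pair [CharP F 2] (hQ : (QuadraticMap.polarBilin Q).Nondegenerate)
    {W : Submodule F (ι → F)} (hW : Cfsg.Geo.IsNondegenerateOn (polar ⇑Q) W) (hd : Module.finrank F W = 4)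
    (hp : Cfsg.Geo.IsPlusTypeOn (⇑Q) W) :
    ∃ a b a' b', W = Submodule.span F {a, b, a', b'} ∧ Q a = 1 ∧ Q b = 1 ∧ Q a' = 1 ∧ Q b' = 1 ∧
      polar ⇑Q a b = 1 ∧ polar ⇑Q a' b' = 1 ∧ polar ⇑Q a a' = 0 ∧ polar ⇑Q a b' = 0 ∧
      polar ⇑Q b a' = 0 ∧ polar ⇑Q b b' = 0 := by
  obtain ⟨U, hUW, hU, hUd⟩ := hp
  obtain ⟨e, f, he, hf, heQ, hfQ, hef⟩ := exists_pair_in hQ hW hUW hU (by omega)
  obtain ⟨u, hu, hue⟩ : ∃ u ∈ U, u ∉ F ∙ e := by
    by_contra h
    push Not at h
    have h1 := Submodule.finrank_mono (show U ≤ F ∙ e from h)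
    have h2 : Module.finrank F (F ∙ e) ≤ 1 := by
      simpa [Set.finrank] using finrank_span_le_card ({e} : Set (ι → F))
    omega
  set e' := u - polar ⇑Q f u • e with he'
  have he'U : e' ∈ U := U.sub_mem hu (U.smul_mem _ he)
  have he'Q : Q e' = 0 := hU e' he'U
  have he'0 : e' ≠ 0 := fun h => hue (sub_eq_zero.1 h ▸ Submodule.smul_mem _ _ (Submodule.mem_span_singleton_self e))
  have pee : polar ⇑Q e e' = 0 := by
    simp [QuadraticMap.polar, hU e he, he'Q, hU _ (U.add_mem he he'U)]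
  have pfe : polar ⇑Q f e' = 0 := by
    rw [he', polar_sub_right, polar_smul_right, polar_comm _ f e, hef, smul_eq_mul, mul_one, sub_self]
  obtain ⟨z, hz, -, hez⟩ := exists_partner_in hQ hW (hUW he'U) he'0 he'Q
  set y := z - polar ⇑Q f z • e - polar ⇑Q e z • f with hy
  have hyW : y ∈ W := W.sub_mem (W.sub_mem hz (W.smul_mem _ (hUW he))) (W.smul_mem _ hf)
  set f' := y - Q y • e' with hf'
  have hye : polar ⇑Q e y = 0 := by
    rw [hy, polar_sub_right, polar_sub_right, polar_smul_right, polar_smul_right, hef,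
      Cfsg.Agent.Lib.Orth.polar_self_zero heQ]
    simp
  have hyf : polar ⇑Q f y = 0 := by
    rw [hy, polar_sub_right, polar_sub_right, polar_smul_right, polar_smul_right, polar_comm _ f e, hef,
      Cfsg.Agent.Lib.Orth.polar_self_zero hfQ]
    simp
  have hye' : polar ⇑Q e' y = 1 := by
    rw [hy, polar_sub_right, polar_sub_right, polar_smul_right, polar_smul_right, hez, polar_comm _ e' e, pee,
      polar_comm _ e' f, pfe]
    simp
  have pef' : polar ⇑Q e f' = 0 := by rw [hf', polar_sub_right, hye, polar_smul_right, pee, smul_zero, sub_zero]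
  have pff' : polar ⇑Q f f' = 0 := by rw [hf', polar_sub_right, hyf, polar_smul_right, pfe, smul_zero, sub_zero]
  have pe'f' : polar ⇑Q e' f' = 1 := by
    rw [hf', polar_sub_right, hye', polar_smul_right, Cfsg.Agent.Lib.Orth.polar_self_zero he'Q, smul_zero, sub_zero]
  have hf'Q : Q f' = 0 := by
    rw [hf', sub_eq_add_neg, QuadraticMap.map_add (⇑Q), QuadraticMap.map_neg, QuadraticMap.map_smul, he'Q,
      polar_neg_right, polar_smul_right, polar_comm _ y e', hye']
    simp
  have hf'W : f' ∈ W := W.sub_mem hyW (W.smul_mem _ (hUW he'U))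
  have h11 : (1 : F) + 1 = 0 := CharTwo.add_self_eq_zero 1
  refine ⟨e + f, f + (e' + f'), e' + f', f' + (e + f), ?_, ?_⟩
  swap
  · simp [QuadraticMap.map_add (⇑Q), heQ, hfQ, he'Q, hf'Q, hef, pe'f', pee, pfe, pef', pff',
      polar_comm (⇑Q) f e, polar_comm (⇑Q) e' e, polar_comm (⇑Q) e' f, polar_comm (⇑Q) f' e,
      polar_comm (⇑Q) f' f, polar_comm (⇑Q) f' e', Cfsg.Agent.Lib.Forms.polar_self_char_two, h11, CharTwo.two_eq_zero]
  refine (Submodule.eq_of_le_of_finrank_le (Submodule.span_le.2 ?_) ?_).symm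
  · rintro v (rfl | rfl | rfl | rfl)
    exacts [W.add_mem (hUW he) hf, W.add_mem hf (W.add_mem (hUW he'U) hf'W),
      W.add_mem (hUW he'U) hf'W, W.add_mem hf'W (W.add_mem (hUW he) hf)]
  set S := Submodule.span F {e + f, f + (e' + f'), e' + f', f' + (e + f)} with hS
  have m1 : e + f ∈ S := Submodule.subset_span (by simp)
  have m2 : f + (e' + f') ∈ S := Submodule.subset_span (by simp)
  have m3 : e' + f' ∈ S := Submodule.subset_span (by simp)
  have m4 : f' + (e + f) ∈ S := Submodule.subset_span (by simp)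
  have s2 : f ∈ S := by simpa using S.sub_mem m2 m3
  have s1 : e ∈ S := by simpa using S.sub_mem m1 s2
  have s4 : f' ∈ S := by simpa using S.sub_mem m4 m1
  have s3 : e' ∈ S := by simpa using S.sub_mem m3 s4
  have hli : LinearIndependent F ![e, f, e', f'] := by
    rw [Fintype.linearIndependent_iff]
    intro c hc
    rw [Fin.sum_univ_four] at hc
    have h1 := congrArg (polar ⇑Q f) hc
    have h2 := congrArg (polar ⇑Q e) hc
    have h3 := congrArg (polar ⇑Q f') hc
    have h4 := congrArg (polar ⇑Q e') hc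
    simp [heQ, hfQ, he'Q, hf'Q, hef, pe'f', pee, pfe, pef', pff', polar_comm (⇑Q) f e,
      polar_comm (⇑Q) e' e, polar_comm (⇑Q) e' f, polar_comm (⇑Q) f' e, polar_comm (⇑Q) f' f,
      polar_comm (⇑Q) f' e', Cfsg.Agent.Lib.Forms.polar_self_char_two] at h1 h2 h3 h4
    intro i; fin_cases i <;> assumption
  have h5 := finrank_span_eq_card hli
  rw [Fintype.card_fin] at h5
  have h6 : Submodule.span F (Set.range ![e, f, e', f']) ≤ S := by
    rw [Submodule.span_le]
    rintro _ ⟨i, rfl⟩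
    fin_cases i <;> assumption
  have := Submodule.finrank_mono h6
  omega


/-- Let F be a finite field with q elements, n ≥ 13 even, Q a non-degenerate quadratic form on F^n of plus type (some subspace of dimension n/2 is totally singular), and Ω the commutator subgroup of the isometry group of Q, viewed inside GL_n(F). Let D be a decomposition of F^n into t ≥ 2 pairwise orthogonal, pairwise Q-isometric subspaces of equal dimension k on which the polar form is non-degenerate (with, for even k, all members of plus type or t even; for odd k, q odd and square discriminant), in one of the cases: k = 2 with q = 3; k = 2 with plus-type members and q ∈ {2, 4, 5}; k = 3 with q = 3; k = 4 with plus-type members and q = 2. Then the elements of Ω permuting the members of D form a subgroup that is not maximal: some subgroup lies strictly between it and Ω. -/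
theorem result {F : Type*} [Field F] [Fintype F] {n : ℕ} (hn : 13 ≤ n) (heven : Even n) (Q : (Fin n → F) → F) (hQ : Cfsg.Geo.IsNondegenerateQuadraticForm Q) (hplus : Cfsg.Geo.IsPlusTypeOn Q ⊤) {t : ℕ} (k : ℕ) (D : Fin t → Submodule F (Fin n → F)) (hD : Cfsg.Geo.IsOrthogonalMDecomposition Q k D) (hke : Even k → ((∀ i, Cfsg.Geo.IsPlusTypeOn Q (D i)) ∨ Even t)) (hko : Odd k → (Odd (Fintype.card F) ∧ Cfsg.Geo.HasSquareDiscriminant Q)) (hcase : ((k = 2 ∧ (Fintype.card F = 3 ∨ ((∀ i, Cfsg.Geo.IsPlusTypeOn Q (D i)) ∧ (Fintype.card F = 2 ∨ Fintype.card F = 4 ∨ Fintype.card F = 5)))) ∨ (k = 3 ∧ Fintype.card F = 3) ∨ (k = 4 ∧ Fintype.card F = 2 ∧ ∀ i, Cfsg.Geo.IsPlusTypeOn Q (D i)))) : ∃ K : Subgroup (Matrix.GeneralLinearGroup (Fin n) F), Cfsg.Geo.decompositionStabilizer D ⊓ Cfsg.Geo.omegaGL Q < K ∧ K < Cfsg.Geo.omegaGL Q := by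
  classical
  set Q' := Cfsg.Agent.Lib.Forms.bundleQuad Q hQ with hQdef
  have hQ' := Cfsg.Agent.Lib.Forms.nondegenerate_bundleQuad Q hQ
  have hn7 : 7 ≤ Fintype.card (Fin n) := by simp; omega
  have hcard : Fintype.card (Fin n) = t * k := Cfsg.Agent.Lib.NonMax.card_members hD.decomp.decomp
  rw [Fintype.card_fin] at hcard
  have hnd : ∀ i, Cfsg.Geo.IsNondegenerateOn (QuadraticMap.polar ⇑Q') (D i) := hD.decomp.nondegenerate
  have horth : ∀ i j, i ≠ j → ∀ u ∈ D i, ∀ v ∈ D j, QuadraticMap.polar ⇑Q' u v = 0 := hD.decomp.orthogonal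
  have hfr := hD.decomp.decomp.finrank_eq
  have htrans : ∀ i, Cfsg.Geo.IsPlusTypeOn Q (D i) → ∀ j, Cfsg.Geo.IsPlusTypeOn Q (D j) := by
    intro i hi j
    obtain ⟨U, hUW, hU, hUd⟩ := hi
    obtain ⟨φ, hφ⟩ := hD.isometric i j
    refine ⟨((U.comap (D i).subtype).map φ.toLinearMap).map (D j).subtype, Submodule.map_subtype_le _ _, ?_, ?_⟩
    · rintro z ⟨w, ⟨y, hy, rfl⟩, rfl⟩
      exact (hφ y).trans (hU _ hy)
    · rw [Submodule.finrank_map_subtype_eq, ← (Submodule.equivMapOfInjective φ.toLinearMap φ.injective _).finrank_eq,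
        (Submodule.comapSubtypeEquivOfLe hUW).finrank_eq, hfr j, hUd, hfr i]
  have hplanes : k = 2 → (∀ i, Cfsg.Geo.IsPlusTypeOn Q (D i)) → ∃ e f, Cfsg.Agent.Lib.SingMax.PlaneFrame Q' D e f := by
    intro hk hp
    have h : ∀ i, ∃ e f, e ∈ D i ∧ f ∈ D i ∧ Q' e = 0 ∧ Q' f = 0 ∧ QuadraticMap.polar ⇑Q' e f = 1 := by
      intro i
      obtain ⟨U, hUW, hU, hUd⟩ := hp i
      obtain ⟨e, f, he, h⟩ := exists_pair_in (Q := Q') hQ' (hnd i) hUW hU (by have := hfr i; omega)
      exact ⟨e, f, hUW he, h⟩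
    choose e f he hf heQ hfQ hef using h
    exact ⟨e, f, fun i => span_pair_eq (he i) (hf i) (heQ i) (hfQ i) (hef i) (hk ▸ hfr i), heQ, hfQ, hef, horth⟩
  have hthree : Fintype.card F = 3 → (k = 2 ∨ k = 3) → (k = 2 → ∀ i, ¬ Cfsg.Geo.IsPlusTypeOn Q (D i)) →
      ∃ K : Subgroup (Matrix.GeneralLinearGroup (Fin n) F),
        Cfsg.Geo.decompositionStabilizer D ⊓ Cfsg.Geo.omegaGL Q < K ∧ K < Cfsg.Geo.omegaGL Q := fun hq hk hmp =>
    Cfsg.Agent.Lib.NonMax.exists_between_orth_decomposition hQ hq hk (by rcases hk with rfl | rfl <;> omega) D hD hmp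
  rcases hcase with ⟨hk, hq⟩ | ⟨hk, hq⟩ | ⟨hk, hq, hp⟩
  · by_cases hp : ∀ i, Cfsg.Geo.IsPlusTypeOn Q (D i)
    swap
    · rcases hq with hq | ⟨hp', -⟩
      · exact hthree hq (Or.inl hk) fun _ i hi => hp (htrans i hi)
      · exact absurd hp' hp
    obtain ⟨e, f, hF⟩ := hplanes hk hp
    subst hk
    have ht : 5 ≤ t := by omega
    have h5 : Fintype.card F = 2 ∨ Fintype.card F = 4 ∨ Fintype.card F = 3 ∨ Fintype.card F = 5 := by
      rcases hq with hq | ⟨-, hq | hq | hq⟩ <;> simp [hq]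
    let u : Fin t → (Fin n → F) := fun i => e i + f i
    let i₀ : Fin t := ⟨0, by omega⟩
    let i₁ : Fin t := ⟨1, by omega⟩
    let i₂ : Fin t := ⟨2, by omega⟩
    let i₃ : Fin t := ⟨3, by omega⟩
    have hQu : ∀ i, Q' (u i) = 1 := hF.Q_pair
    have hpu : ∀ i j, i ≠ j → QuadraticMap.polar ⇑Q' (u i) (u j) = 0 := hF.pair_pair
    have key : ∀ x y z, QuadraticMap.polar ⇑Q' (x + y) z =
        QuadraticMap.polar ⇑Q' x z + QuadraticMap.polar ⇑Q' y z := fun x y z => by
      rw [QuadraticMap.polar_add_left]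
    by_cases h3 : Fintype.card F = 3
    · have three : (3 : F) = 0 := by
        have := Nat.cast_card_eq_zero F
        rw [h3] at this
        exact_mod_cast this
      refine Cfsg.Agent.Lib.SingMax.between_graph hF hQ' hn7 ht (m := 1) one_pos (fun x y => by ring) (fun c hc => ?_)
        (fun x => by simp) (fun x => by simp) (w := u i₀ + u i₁ + u i₂ + u i₃)
        ⟨[i₀, i₁, i₂, i₃], by simp [i₀, i₁, i₂, i₃], by simp [i₀], by simp [i₁], by simp [i₀, i₁, i₂, i₃],
          by simp [u]; abel⟩ ?_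
      · have h := FiniteField.pow_card_sub_one_eq_one c hc
        rw [h3] at h
        rw [pow_one]
        exact eq_inv_of_mul_eq_one_right (by linear_combination h)
      · rw [QuadraticMap.map_add (⇑Q'), QuadraticMap.map_add (⇑Q'), QuadraticMap.map_add (⇑Q'),
          key (u i₀ + u i₁) (u i₂) (u i₃), key (u i₀) (u i₁) (u i₂), key (u i₀) (u i₁) (u i₃),
          hQu, hQu, hQu, hQu, hpu i₀ i₁ (by simp [i₀, i₁]), hpu i₀ i₂ (by simp [i₀, i₂]),
          hpu i₁ i₂ (by simp [i₁, i₂]), hpu i₀ i₃ (by simp [i₀, i₃]), hpu i₁ i₃ (by simp [i₁, i₃]),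
          hpu i₂ i₃ (by simp [i₂, i₃])]
        linear_combination three
    by_cases h55 : Fintype.card F = 5
    · exact Cfsg.Agent.Lib.SingMax.between_five hF hQ' hn7 ht h55
    have hq24 : Fintype.card F = 2 ∨ Fintype.card F = 4 := by omega
    haveI : CharP F 2 := Cfsg.Agent.Lib.Forms.charP_two_of_not_odd (by
      rcases hq24 with h | h <;> rw [h] <;> decide)
    have h4 : ∀ x : F, x ^ 4 = x := by
      intro x
      rcases hq24 with h | h
      · have := FiniteField.pow_card x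
        rw [h] at this
        calc x ^ 4 = (x ^ 2) ^ 2 := by ring
          _ = x := by rw [this, this]
      · have := FiniteField.pow_card x
        rwa [h] at this
    have hadd : ∀ x y : F, (x + y) ^ 2 = x ^ 2 + y ^ 2 := fun x y => CharTwo.add_sq x y
    refine Cfsg.Agent.Lib.SingMax.between_graph hF hQ' hn7 ht (m := 2) two_pos hadd (fun c hc => ?_)
      (fun x => by rw [← pow_mul]; exact h4 x) (fun x => by rw [hadd, ← pow_mul, h4 x, add_comm])
      (w := u i₀ + u i₁ + u i₂)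
      ⟨[i₀, i₁, i₂], by simp [i₀, i₁, i₂], by simp [i₀], by simp [i₁], by simp [i₀, i₁, i₂],
        by simp [u]; abel⟩ ?_
    · exact eq_inv_of_mul_eq_one_right (mul_left_cancel₀ hc (by linear_combination h4 c))
    · rw [QuadraticMap.map_add (⇑Q'), QuadraticMap.map_add (⇑Q'), key (u i₀) (u i₁) (u i₂),
        hQu, hQu, hQu, hpu i₀ i₁ (by simp [i₀, i₁]), hpu i₀ i₂ (by simp [i₀, i₂]),
        hpu i₁ i₂ (by simp [i₁, i₂])]
      linear_combination (CharTwo.two_eq_zero : (2 : F) = 0)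
  · exact hthree hq (Or.inr hk) fun h2 => absurd h2 (by omega)
  · haveI : CharP F 2 := Cfsg.Agent.Lib.Forms.charP_two_of_not_odd (by rw [hq]; decide)
    have h : ∀ i, ∃ a b a' b', _ := fun i =>
      exists_minus_pair (Q := Q') hQ' (hnd i) (hk ▸ hfr i) (hp i)
    choose a b a' b' hs h1 h2 h3 h4 h5 h6 h7 h8 h9 h10 using h
    exact Cfsg.Agent.Lib.SingMax.between_four_two (Q := Q') hQ' hn7 hq hD.decomp.decomp.two_le
      hD.decomp.decomp.indep hD.decomp.decomp.iSup_eq_top horth a b a' b' hs h1 h2 h3 h4 h5 h6 h7 h8 h9 h10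

end Cfsg.Agent.S5693
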