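import Cfsg.Statements.S5698
import Mathlib
import Cfsg.Agent.Lib.Orth.Siegel
import Cfsg.Agent.Lib.Dickson.Invariant
import Cfsg.Agent.Lib.Dickson.StdQuad

set_option autoImplicit false
open Cfsg
open Cfsg.Agent.Lib
open Matrix

namespace Cfsg.Agent.S5698

variable {F : Type*} [Field F] {n : ℕ} {B : QuadraticForm F (Fin n → F)}

/-- an element of `Ω` fixing `U` pointwise and moving `W` -/
lemma exists_mover (hB : (QuadraticMap.polarBilin B).Nondegenerate) {k : ℕ} (hk : 3 ≤ k)
    {U W : Submodule F (Fin n → F)} (hU : Parity.IsLagr B U) (hW : Parity.IsLagr B W)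
    (hdU : Module.finrank F U = k) (hdW : Module.finrank F W = k) (htop : U ⊔ W = ⊤) (hbot : U ⊓ W = ⊥) :
    ∃ h : GL (Fin n) F, h ∈ Cfsg.Geo.omegaGL ⇑B ∧ (∀ x ∈ U, (h : Matrix (Fin n) (Fin n) F) *ᵥ x = x) ∧
      ∃ v ∈ W, (h : Matrix (Fin n) (Fin n) F) *ᵥ v ∉ W := by
  classical
  let ψ : U →ₗ[F] Module.Dual F W := W.subtype.dualMap ∘ₗ (QuadraticMap.polarBilin B) ∘ₗ U.subtype
  have hψ : ∀ (u : U) (w : W), ψ u w = QuadraticMap.polar ⇑B u w := fun u w => rfl
  have hinj : Function.Injective ψ := (injective_iff_map_eq_zero ψ).2 fun u hu => by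
    refine Subtype.ext (hB.1 _ fun v => ?_)
    obtain ⟨a, ha, c, hc, rfl⟩ := Submodule.mem_sup.1 (htop.symm ▸ Submodule.mem_top : v ∈ U ⊔ W)
    show QuadraticMap.polar ⇑B (u : Fin n → F) (a + c) = 0
    rw [QuadraticMap.polar_add_right, hU.polar_eq_zero u.2 ha, zero_add]
    exact (hψ u ⟨c, hc⟩).symm.trans (LinearMap.congr_fun hu _)
  have hsurj : Function.Surjective ψ := (LinearMap.injective_iff_surjective_of_finrank_eq_finrank
    (by rw [hdU, Subspace.dual_finrank_eq, hdW])).1 hinj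
  let b := Module.finBasisOfFinrankEq F W hdW
  choose u hu using fun i => hsurj (b.coord i)
  have hpair : ∀ i j, QuadraticMap.polar ⇑B (u i : Fin n → F) (b j : Fin n → F) = if i = j then 1 else 0 := fun i j => by
    rw [← hψ, hu]
    simp [Finsupp.single_apply, eq_comm]
  let i1 : Fin k := ⟨0, by omega⟩
  let i2 : Fin k := ⟨1, by omega⟩
  let i3 : Fin k := ⟨2, by omega⟩
  have h12 : i1 ≠ i2 := by simp [i1, i2, Fin.ext_iff]
  have h13 : i1 ≠ i3 := by simp [i1, i3, Fin.ext_iff]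
  have h23 : i2 ≠ i3 := by simp [i2, i3, Fin.ext_iff]
  have hu0 : ∀ i, B (u i : Fin n → F) = 0 := fun i => hU.singular _ (u i).2
  have hv0 : ∀ j, B (b j : Fin n → F) = 0 := fun j => hW.singular _ (b j).2
  have huu : ∀ i j, QuadraticMap.polar ⇑B (u i : Fin n → F) (u j : Fin n → F) = 0 := fun i j => hU.polar_eq_zero (u i).2 (u j).2
  have hvv : ∀ i j, QuadraticMap.polar ⇑B (b i : Fin n → F) (b j : Fin n → F) = 0 := fun i j => hW.polar_eq_zero (b i).2 (b j).2
  have hvu : ∀ i j, QuadraticMap.polar ⇑B (b j : Fin n → F) (u i : Fin n → F) = if i = j then 1 else 0 := fun i j => by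
    rw [QuadraticMap.polar_comm]; exact hpair i j
  let g : F → ↥(isometryGroup F ⇑B) := fun c => Orth.siegel B (b i2 : Fin n → F) (u i3 : Fin n → F) (hv0 i2) (hu0 i3)
    (by rw [hvu, if_neg h23.symm]) c
  let s : F → ↥(isometryGroup F ⇑B) := fun c => Orth.siegel B (u i1 : Fin n → F) (u i2 : Fin n → F) (hu0 i1) (hu0 i2) (huu i1 i2) c
  have hg : g (-1) = (g 1)⁻¹ := eq_inv_of_mul_eq_one_left (by
    rw [Orth.siegel_mul]
    refine Orth.isometry_ext fun x => ?_
    rw [Orth.app_siegel, Orth.app_one]; simp)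
  have hs : s (-1) = (s 1)⁻¹ := eq_inv_of_mul_eq_one_left (by
    rw [Orth.siegel_mul]
    refine Orth.isometry_ext fun x => ?_
    rw [Orth.app_siegel, Orth.app_one]; simp)
  let h := g 1 * s 1 * g (-1) * s (-1)
  have hh : h ∈ Omega F ⇑B := by
    show g 1 * s 1 * g (-1) * s (-1) ∈ _
    rw [hg, hs]
    exact Subgroup.commutator_mem_commutator (Subgroup.mem_top _) (Subgroup.mem_top _)
  refine ⟨(h : GL (Fin n) F), ⟨h, hh, rfl⟩, fun x hx => ?_, b i1, (b i1).2, fun hmem => ?_⟩
  · show Orth.app h x = x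
    have e1 : ∀ i, QuadraticMap.polar ⇑B (u i : Fin n → F) x = 0 := fun i => hU.polar_eq_zero (u i).2 hx
    simp only [h, g, s, Orth.app_mul, Orth.app_siegel]
    simp [e1, huu, QuadraticMap.polar_add_right, QuadraticMap.polar_sub_right, QuadraticMap.polar_smul_right, hvu, h12.symm, h23.symm, h13.symm]
  · have hval : Orth.app h (b i1 : Fin n → F) = (b i1 : Fin n → F) + (u i3 : Fin n → F) := by
      simp only [h, g, s, Orth.app_mul, Orth.app_siegel]
      simp [huu, hvv, hpair, hvu, QuadraticMap.polar_add_right, QuadraticMap.polar_sub_right, QuadraticMap.polar_smul_right, QuadraticMap.polar_neg_right, h12, h13, h23, h12.symm, h13.symm, h23.symm]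
      abel
    have hmem' : Orth.app h (b i1 : Fin n → F) ∈ W := hmem
    rw [hval, W.add_mem_iff_right (b i1).2] at hmem'
    have h0 : (u i3 : Fin n → F) ∈ U ⊓ W := ⟨(u i3).2, hmem'⟩
    rw [hbot, Submodule.mem_bot] at h0
    have := hpair i3 i3
    rw [h0, if_pos rfl] at this
    simp [QuadraticMap.polar] at this


/-- Let F be a finite field with q elements, n ≥ 13 even, Q a non-degenerate quadratic form on F^n of plus type (some subspace of dimension n/2 is totally singular), and Ω the commutator subgroup of the isometry group of Q, viewed inside GL_n(F). Suppose n/2 is odd and let D be a decomposition of F^n into two complementary subspaces of dimension n/2 on each of which Q vanishes. Then the elements of Ω preserving or interchanging the two subspaces form a subgroup that is not maximal: some subgroup lies strictly between it and Ω. -/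
theorem result {F : Type*} [Field F] [Fintype F] {n : ℕ} (hn : 13 ≤ n) (heven : Even n) (Q : (Fin n → F) → F) (hQ : Cfsg.Geo.IsNondegenerateQuadraticForm Q) (hplus : Cfsg.Geo.IsPlusTypeOn Q ⊤) (k : ℕ) (hk : 2 * k = n) (hko : Odd k) (D : Fin 2 → Submodule F (Fin n → F)) (hD : Cfsg.Geo.IsMDecomposition k D) (hts : ∀ i, Cfsg.Geo.IsTotallySingularQuad Q (D i)) : ∃ K : Subgroup (Matrix.GeneralLinearGroup (Fin n) F), Cfsg.Geo.decompositionStabilizer D ⊓ Cfsg.Geo.omegaGL Q < K ∧ K < Cfsg.Geo.omegaGL Q := by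
  classical
  let B : QuadraticForm F (Fin n → F) := QuadraticMap.ofPolar Q
    (fun a x => by rw [hQ.smul, smul_eq_mul, pow_two]) hQ.polar_bilinear.add_left
    (fun a x y => by rw [hQ.polar_bilinear.smul_left, smul_eq_mul])
  have hB : (QuadraticMap.polarBilin B).Nondegenerate := StdForms.nondegenerate_of_left B fun u hu => by
    by_contra h
    obtain ⟨x, hx⟩ := (hQ.nondegenerate u h).2
    exact hx (hu x)
  have hfin : Module.finrank F (Fin n → F) = n := Module.finrank_fin_fun F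
  have hL : ∀ i, Parity.IsLagr B (D i) := fun i =>
    ⟨fun u hu => hts i u hu, by rw [hD.finrank_eq, hfin, hk]⟩
  have htop : D 0 ⊔ D 1 = ⊤ := by
    rw [← hD.iSup_eq_top]
    exact le_antisymm (sup_le (le_iSup D 0) (le_iSup D 1)) (iSup_le fun i => by fin_cases i <;> simp)
  have hbot : D 0 ⊓ D 1 = ⊥ := (hD.indep.pairwiseDisjoint (by decide : (0 : Fin 2) ≠ 1)).eq_bot
  obtain ⟨a, haΩ, haU, v, hv, hav⟩ := exists_mover hB (by omega) (hL 0) (hL 1) (hD.finrank_eq 0) (hD.finrank_eq 1) htop hbot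
  obtain ⟨c, hcΩ, hcW, w, hw, hcw⟩ := exists_mover hB (by omega) (hL 1) (hL 0) (hD.finrank_eq 1) (hD.finrank_eq 0)
    (by rw [sup_comm, htop]) (by rw [inf_comm, hbot])
  have hmem : ∀ g : GL (Fin n) F, (∀ x ∈ D 0, (g : Matrix (Fin n) (Fin n) F) *ᵥ x = x) → g ∈ Cfsg.Geo.subspaceStabilizer (D 0) := by
    intro g hg x
    show x ∈ D 0 ↔ (g : Matrix (Fin n) (Fin n) F) *ᵥ x ∈ D 0
    refine ⟨fun hx => by rwa [hg x hx], fun hx => ?_⟩
    have h := hg _ hx
    have h2 := congrArg (fun y => ((g⁻¹ : GL (Fin n) F) : Matrix (Fin n) (Fin n) F) *ᵥ y) h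
    simp only [Matrix.mulVec_mulVec, ← Units.val_mul, ← mul_assoc, inv_mul_cancel, one_mul, Units.val_one, Matrix.one_mulVec] at h2
    rwa [h2] at hx
  refine ⟨Cfsg.Geo.subspaceStabilizer (D 0) ⊓ Cfsg.Geo.omegaGL Q, lt_of_le_of_ne ?_ ?_, lt_of_le_of_ne inf_le_right ?_⟩
  · rintro g ⟨⟨σ, hσ⟩, hgΩ⟩
    refine ⟨?_, hgΩ⟩
    have hfix : σ 0 = 0 := by
      by_contra hne
      have h01 : σ 0 = 1 := by revert hne; generalize σ 0 = j; revert j; decide
      obtain ⟨y, hy, rfl⟩ := hgΩ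
      have h1 := MonoidHom.mem_ker.1 (Dickson.omega_le_ker (Q := B) (Dickson.classChar hB (hL 0)) hy)
      have h1 := ((Dickson.classChar_apply hB (hL 0) y).symm.trans h1)
      rw [Parity.par] at h1
      rw [show (D 0).map (Matrix.mulVecLin ((y : GL (Fin n) F) : Matrix (Fin n) (Fin n) F)) = D 1 from h01 ▸ hσ 0,
        hbot, finrank_bot, add_zero, hD.finrank_eq, hko.neg_one_pow] at h1
      exact absurd h1 (by decide)
    intro x
    show x ∈ D 0 ↔ (g : Matrix (Fin n) (Fin n) F) *ᵥ x ∈ D 0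
    have h := hσ 0
    rw [hfix] at h
    refine ⟨fun hx => h ▸ ⟨x, hx, by rw [Matrix.toLin'_apply]⟩, fun hx => ?_⟩
    rw [← h] at hx
    obtain ⟨y, hy, hyx⟩ := hx
    rw [Matrix.toLin'_apply] at hyx
    rwa [← Matrix.mulVec_injective_of_isUnit g.isUnit hyx]
  · intro heq
    have ha : a ∈ Cfsg.Geo.decompositionStabilizer D ⊓ Cfsg.Geo.omegaGL Q := heq ▸ ⟨hmem a haU, haΩ⟩
    obtain ⟨σ, hσ⟩ := ha.1
    have h0 : σ 0 = 0 := by
      by_contra hne
      have h01 : σ 0 = 1 := by revert hne; generalize σ 0 = j; revert j; decide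
      have h := hσ 0
      rw [h01] at h
      have hle : D 0 ≤ D 1 := fun x hx => h ▸ ⟨x, hx, by rw [Matrix.toLin'_apply, haU x hx]⟩
      have h2 := hD.finrank_eq 0
      rw [← inf_eq_left.2 hle, hbot, finrank_bot] at h2
      omega
    have h1 : σ 1 = 1 := by
      have : σ 1 ≠ 0 := fun e => absurd (σ.injective (e.trans h0.symm)) (by decide)
      revert this; generalize σ 1 = j; revert j; decide
    have h := hσ 1
    rw [h1] at h
    exact hav (h ▸ ⟨v, hv, by rw [Matrix.toLin'_apply]⟩)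
  · intro heq
    have hc : c ∈ Cfsg.Geo.subspaceStabilizer (D 0) ⊓ Cfsg.Geo.omegaGL Q := heq.symm ▸ hcΩ
    exact hcw ((hc.1 w).1 hw)

end Cfsg.Agent.S5698
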