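import Cfsg.Statements.S5701
import Mathlib
import Cfsg.Agent.Lib.OrthExt.Standard

set_option autoImplicit false
open Cfsg
open Cfsg.Agent.Lib

namespace Cfsg.Agent.S5701

/-- Let F be a finite field with q elements, n ≥ 13 even, Q a non-degenerate quadratic form on F^n (of either type), and Ω the commutator subgroup of the isometry group of Q, viewed inside GL_n(F). Suppose q is odd. Let K be a subfield of the algebra of n × n matrices over F containing the scalars, of prime degree r over F with n/r ≥ 3, whose elements are self-adjoint for the polar form of Q. Then the elements of Ω normalising K form a maximal subgroup of Ω. -/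
theorem result {F : Type*} [Field F] [Fintype F] {n : ℕ} (hn : 13 ≤ n) (heven : Even n) (Q : (Fin n → F) → F) (hQ : Cfsg.Geo.IsNondegenerateQuadraticForm Q) (hodd : Odd (Fintype.card F)) (r : ℕ) (hr : r.Prime) (hnr : 3 * r ≤ n) (K : Subalgebra F (Matrix (Fin n) (Fin n) F)) (hK : Cfsg.Geo.IsFieldSubalgebra r K) (hsa : Cfsg.Geo.IsSelfAdjointFor (QuadraticMap.polar Q) K) : Cfsg.Geo.IsMaximalIn (Cfsg.Geo.omegaGL Q) (Cfsg.Geo.subalgebraNormalizer K ⊓ Cfsg.Geo.omegaGL Q) := by
  classical
  let B : QuadraticForm F (Fin n → F) := QuadraticMap.ofPolar Q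
    (fun a x => by rw [hQ.smul, smul_eq_mul, sq])
    (fun x x' y => hQ.polar_bilinear.add_left x x' y)
    (fun a x y => hQ.polar_bilinear.smul_left a x y)
  have h2 : (2 : F) ≠ 0 := fun h => by
    haveI := CharTwo.of_one_ne_zero_of_two_eq_zero one_ne_zero h
    have he : Fintype.card F % 2 = 0 := FiniteField.even_card_of_char_two (ringChar.eq F 2)
    obtain ⟨k, hk⟩ := hodd
    omega
  have hB : OrthExt.Nd B := ⟨h2, fun z hz => by
    by_contra h0
    obtain ⟨x, hx⟩ := (hQ.nondegenerate z h0).2
    exact hx (hz x)⟩
  exact OrthExt.isMaximalIn_extField_even (Q := B) hB r hr (by rw [Fintype.card_fin]; exact hnr)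
    (by rw [Fintype.card_fin]; exact heven) (by rw [Fintype.card_fin]; exact hn) K hK hsa

end Cfsg.Agent.S5701
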