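import Cfsg.Statements.S5709
import Cfsg.Agent.Lib.TensorOrth.Transfer

set_option autoImplicit false
open Cfsg

namespace Cfsg.Agent.S5709

open Cfsg.Agent.Lib Cfsg.Agent.Lib.TensorOrth

/-- Let F be a finite field with q elements, n ≥ 13 even, Q a non-degenerate quadratic form on F^n of minus type (no subspace of dimension n/2 is totally singular), and Ω the commutator subgroup of the isometry group of Q, viewed inside GL_n(F). Suppose q is odd and that, through a change of basis P and a bijection of index sets e, the polar form of Q is similar to the tensor product of non-degenerate symmetric bilinear forms f₁ on F^(n₁), n₁ odd and at least 3, and f₂ on F^(n₂), n₂ even and at least 4 with no totally isotropic subspace of dimension n₂/2 (minus type). Unless q = 3 and n₁ = 3, the elements of Ω in the stabiliser of this tensor decomposition form a maximal subgroup of Ω. -/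
theorem result {F : Type*} [Field F] [Fintype F] {n : ℕ} (hn : 13 ≤ n) (heven : Even n) (Q : (Fin n → F) → F) (hQ : Cfsg.Geo.IsNondegenerateQuadraticForm Q) (hminus : ¬ Cfsg.Geo.IsPlusTypeOn Q ⊤) (hodd : Odd (Fintype.card F)) (n₁ n₂ : ℕ) (h1 : 3 ≤ n₁) (h1o : Odd n₁) (h2 : 4 ≤ n₂) (h2e : Even n₂) (hex : ¬ (Fintype.card F = 3 ∧ n₁ = 3)) (e : (Fin n) ≃ Fin n₁ × Fin n₂) (P : Matrix.GeneralLinearGroup (Fin n) F) (f₁ : (Fin n₁ → F) → (Fin n₁ → F) → F) (f₂ : (Fin n₂ → F) → (Fin n₂ → F) → F) (hf₁ : Cfsg.Geo.IsSymmetricForm f₁) (hf₂ : Cfsg.Geo.IsSymmetricForm f₂) (hf₂m : ¬ Cfsg.Geo.IsPlusTypeOn (fun v : Fin n₂ → F => f₂ v v) ⊤) (hT : Cfsg.Geo.IsTensorFormStructure id (QuadraticMap.polar Q) f₁ f₂ e P) : Cfsg.Geo.IsMaximalIn (Cfsg.Geo.omegaGL Q) (Cfsg.Geo.tensorProductSubgroup n₁ n₂ e P ⊓ Cfsg.Geo.omegaGL Q) := by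
  classical
  have h2' := two_ne_zero_of_odd hodd
  have hcard : n = n₁ * n₂ := by simpa using Fintype.card_congr e
  obtain ⟨j₁, rfl⟩ := h1o
  obtain ⟨j₂, rfl⟩ := h2e
  have hmin : j₂ + j₂ = 4 → ∀ z y, z ≠ 0 → f₂ z z = 0 → f₂ y y = 0 → f₂ z y = 0 → y ∈ F ∙ z := by
    intro h4 z y hz0 hz hy hzy
    by_contra hyn
    refine hf₂m ⟨Submodule.span F (Set.range ![z, y]), le_top, fun w hw => ?_, ?_⟩
    · rw [Submodule.mem_span_range_iff_exists_fun] at hw
      obtain ⟨l, rfl⟩ := hw
      simp [Fin.sum_univ_two, hf₂.bilinear.add_left, hf₂.bilinear.add_right, hf₂.bilinear.smul_left,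
        hf₂.bilinear.smul_right, hz, hy, hzy, hf₂.symm y z]
    · have hli : LinearIndependent F ![z, y] :=
        (LinearIndependent.pair_iff' hz0).2 fun l hl => hyn (Submodule.mem_span_singleton.2 ⟨l, hl⟩)
      rw [finrank_span_eq_card hli, finrank_top, Module.finrank_fin_fun, Fintype.card_fin]
      omega
  have hq : Q = ⇑(Forms.bundleQuad Q hQ) := rfl
  rw [hq] at hT ⊢
  by_cases hcase : 2 * j₁ + 1 + 2 ≤ j₂ + j₂
  · refine isMaximalIn_of_structure _ h2' hf₁ hf₂ hT h1 ?_ ?_ (fun h => by omega) (Or.inl hcase)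
    · omega
    · rw [Nat.card_eq_fintype_card]
      by_contra h
      push Not at h
      have := Fintype.one_lt_card (α := F)
      obtain ⟨j, hj⟩ := hodd
      exact hex ⟨by omega, by omega⟩
  · rw [← tensorProductSubgroup_swap]
    refine isMaximalIn_of_structure _ h2' hf₂ hf₁ (tensorStructure_swap hT) (by omega) ?_ (Or.inr h2) hmin ?_
    · rcases Nat.lt_or_ge j₁ 2 with h | h
      · obtain rfl : j₁ = 1 := by omega
        omega
      · omega
    · by_cases h : j₂ + j₂ + 2 ≤ 2 * j₁ + 1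
      · exact Or.inl h
      · exact Or.inr ⟨⟨j₂, rfl⟩, ⟨j₁, rfl⟩, by omega⟩

end Cfsg.Agent.S5709
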