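import Cfsg.Statements.S5713
import Cfsg.Agent.Lib.MinimalDegree.Uniprimitive
import Cfsg.Agent.Lib.MinimalDegree.TwoTransitive
-- import your own Cfsg.Agent.* helpers here

set_option autoImplicit false
open Cfsg

namespace Cfsg.Agent.S5713

open Cfsg.Agent.MinimalDegree

theorem moved_card_ge {G Ω : Type*} [Group G] [Finite G] [MulAction G Ω] [FaithfulSMul G Ω]
    [Fintype Ω] [DecidableEq Ω] [MulAction.IsPreprimitive G Ω]
    (hA : ¬ alternatingGroup Ω ≤ (MulAction.toPermHom G Ω).range)
    (g : G) (hg : g ≠ 1) : Fintype.card Ω ≤ (2 * (moved (Ω := Ω) G g).card + 1) ^ 2 := by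
  classical
  haveI := Fintype.ofFinite G
  have hnon : ∀ c : G, c ≠ 1 → (moved (Ω := Ω) G c).Nonempty := by
    intro c hc
    by_contra h
    rw [Finset.not_nonempty_iff_eq_empty, Finset.eq_empty_iff_forall_notMem] at h
    apply hc
    apply eq_of_smul_eq_smul (α := Ω)
    intro x
    have := h x
    rw [mem_moved, not_not] at this
    rw [this, one_smul]
  have hone : ∀ c : G, (moved (Ω := Ω) G c).Nonempty → c ≠ 1 := by
    rintro c ⟨x, hx⟩ rfl
    exact mem_moved.mp hx (one_smul G x)
  by_cases htwo : ∀ a b c d : Ω, a ≠ b → c ≠ d → SameOrbital G a b c d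
  · obtain ⟨g0, hg0, hmin⟩ := Finset.exists_min_image
      (Finset.univ.filter fun c : G => c ≠ 1) (fun c => (moved (Ω := Ω) G c).card)
      ⟨g, by simp [hg]⟩
    simp only [Finset.mem_filter, Finset.mem_univ, true_and] at hg0 hmin
    have hbound := two_transitive_bound htwo g0 (hnon g0 hg0) fun c hc => hmin c (hone c hc)
    have hle := hmin g hg
    refine le_trans ?_ (Nat.pow_le_pow_left (by omega : 2 * (moved (Ω := Ω) G g0).card + 1 ≤
      2 * (moved (Ω := Ω) G g).card + 1) 2)
    by_contra hlt
    push Not at hlt
    set m := (moved (Ω := Ω) G g0).card with hm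
    haveI : MulAction.IsPreprimitive (MulAction.toPermHom G Ω).range Ω := by
      let f : Ω →ₑ[(MulAction.toPermHom G Ω).rangeRestrict] Ω :=
        { toFun := id, map_smul' := fun _ _ => rfl }
      exact MulAction.IsPreprimitive.of_surjective (f := f) Function.surjective_id
    set σ := MulAction.toPermHom G Ω g0 with hσ
    have hσmem : σ ∈ (MulAction.toPermHom G Ω).range := ⟨g0, rfl⟩
    have hσcard : σ.support.card = m := by
      rw [hm]
      congr 1
      ext x
      rw [Equiv.Perm.mem_support, mem_moved]
      rfl
    have h4 : 4 ≤ m := by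
      by_contra h
      have h2 : 2 ≤ m := by
        rw [← hσcard]
        refine Equiv.Perm.two_le_card_support_of_ne_one fun e => ?_
        have := hnon g0 hg0
        rw [← Finset.card_pos, ← hm, ← hσcard, e] at this
        simp at this
      rcases (by omega : m = 2 ∨ m = 3) with h' | h'
      · apply hA
        rw [Equiv.Perm.subgroup_eq_top_of_isPreprimitive_of_isSwap_mem inferInstance σ
          (Equiv.Perm.card_support_eq_two.mp (hσcard.trans h')) hσmem]
        exact le_top
      · exact hA (Equiv.Perm.alternatingGroup_le_of_isPreprimitive_of_isThreeCycle_mem inferInstance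
          (card_support_eq_three_iff.mp (hσcard.trans h')) hσmem)
    have z1 : (4 : ℤ) ≤ m := by exact_mod_cast h4
    have z2 : (2 * (m : ℤ) + 1) ^ 2 < Fintype.card Ω := by exact_mod_cast hlt
    nlinarith [mul_le_mul_of_nonneg_left z2.le (show (0 : ℤ) ≤ (m : ℤ) - 3 by omega)]
  · obtain ⟨a, ha⟩ := hnon g hg
    have hab : a ≠ g • a := Ne.symm (mem_moved.mp ha)
    have hd := card_le_four_dset_sq (G := G) htwo hab
    have hsub : dset G a (g • a) ⊆ moved G g := by
      intro z hz
      rw [mem_dset] at hz
      rw [mem_moved]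
      exact fun e => hz ⟨g, rfl, e⟩
    have := Finset.card_le_card hsub
    have := Nat.pow_le_pow_left this 2
    have e : (2 * (moved (Ω := Ω) G g).card + 1) ^ 2 =
        4 * (moved (Ω := Ω) G g).card ^ 2 + 4 * (moved (Ω := Ω) G g).card + 1 := by ring
    omega


/-- A classification-free minimal-degree bound. Let G be a finite group acting faithfully and primitively on a finite set Ω with n elements, and suppose that the image of G in the symmetric group on Ω does not contain the alternating group on Ω. Then every non-identity element of G moves at least (√n − 1)/2 points of Ω, that is, it fixes at most n − (√n − 1)/2 points. -/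
theorem result {G Ω : Type*} [Group G] [Finite G] [MulAction G Ω] [FaithfulSMul G Ω] [Fintype Ω] [DecidableEq Ω]
    (hprim : MulAction.IsPreprimitive G Ω)
    (hA : ¬ alternatingGroup Ω ≤ (MulAction.toPermHom G Ω).range)
    (g : G) (hg : g ≠ 1) :
    (Real.sqrt (Fintype.card Ω) - 1) / 2 ≤ (Fintype.card Ω : ℝ) - Nat.card (MulAction.fixedBy Ω g) := by
  classical
  haveI := hprim
  have h := moved_card_ge hA g hg
  set m := (moved (Ω := Ω) G g).card with hm
  have hfix : Nat.card (MulAction.fixedBy Ω g) + m = Fintype.card Ω := by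
    have e : Nat.card (MulAction.fixedBy Ω g) =
        (Finset.univ.filter fun x : Ω => g • x = x).card := by
      rw [Nat.card_eq_fintype_card, ← Set.toFinset_card]
      congr 1
      ext x
      simp
    rw [e, hm, ← Finset.card_univ (α := Ω)]
    convert Finset.card_filter_add_card_filter_not (s := (Finset.univ : Finset Ω))
      (fun x : Ω => g • x = x) using 3
    ext x
    simp [mem_moved]
  have h1 : (Fintype.card Ω : ℝ) ≤ (2 * (m : ℝ) + 1) ^ 2 := by exact_mod_cast h
  have h2 : Real.sqrt (Fintype.card Ω) ≤ 2 * (m : ℝ) + 1 := Real.sqrt_le_iff.mpr ⟨by positivity, h1⟩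
  have h3 : (Nat.card (MulAction.fixedBy Ω g) : ℝ) + (m : ℝ) = Fintype.card Ω := by
    exact_mod_cast hfix
  linarith

end Cfsg.Agent.S5713
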