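import Cfsg.Statements.S5722
import Mathlib
import Cfsg.Agent.Lib.CompLength

set_option autoImplicit false
set_option linter.style.haveILetI false
open Cfsg

namespace Cfsg.Agent.S5722


open ArithmeticFunction
open scoped Pointwise

theorem two_pow_cardFactors_le (m : ℕ) (hm : m ≠ 0) : 2 ^ cardFactors m ≤ m := by
  conv_rhs => rw [← Nat.prod_primeFactorsList hm]
  rw [cardFactors_apply]
  refine List.pow_card_le_prod _ 2 fun q hq => (Nat.prime_of_mem_primeFactorsList hq).two_le

/-- The order of `GL(d, p)`. -/
def glOrder (p d : ℕ) : ℕ := ∏ i : Fin d, (p ^ d - p ^ (i : ℕ))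

theorem small_check : ∀ p ∈ Finset.range 33, ∀ d ∈ Finset.range 6, 2 ≤ p → 1 ≤ d → p ^ d < 33 →
    (p, d) ≠ (2, 3) → (p, d) ≠ (2, 2) → 8 ^ d * glOrder p d ^ 3 ≤ 16 ^ (p ^ d - 1) := by
  decide +kernel

theorem gl_bound (p d : ℕ) (hp : p.Prime) (hd : 1 ≤ d) :
    3 * (d + cardFactors (glOrder p d)) + 4 ≤ 4 * p ^ d := by
  have hpos : ∀ i : Fin d, p ^ d - p ^ (i : ℕ) ≠ 0 := fun i => by
    have := Nat.pow_lt_pow_right hp.one_lt i.isLt
    omega
  have hne : glOrder p d ≠ 0 := Finset.prod_ne_zero_iff.mpr fun i _ => hpos i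
  by_cases hbig : p ^ d < 33
  · by_cases h23 : (p, d) = (2, 3)
    · obtain ⟨rfl, rfl⟩ := Prod.mk.injEq _ _ _ _ ▸ h23
      rw [show glOrder 2 3 = 2 * (2 * (2 * (3 * 7))) by rfl]
      simp only [cardFactors_mul, ne_eq, mul_eq_zero, OfNat.ofNat_ne_zero, or_self, not_false_eq_true,
        cardFactors_apply_prime Nat.prime_two, cardFactors_apply_prime Nat.prime_three,
        cardFactors_apply_prime (show Nat.Prime 7 by norm_num)]
      norm_num
    by_cases h22 : (p, d) = (2, 2)
    · obtain ⟨rfl, rfl⟩ := Prod.mk.injEq _ _ _ _ ▸ h22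
      rw [show glOrder 2 2 = 2 * 3 by rfl, cardFactors_mul two_ne_zero three_ne_zero,
        cardFactors_apply_prime Nat.prime_two, cardFactors_apply_prime Nat.prime_three]
      norm_num
    have hp33 : p < 33 := lt_of_le_of_lt (Nat.le_self_pow (by omega) p) hbig
    have hd6 : d < 6 := by
      by_contra h
      have h1 : 2 ^ 6 ≤ 2 ^ d := Nat.pow_le_pow_right two_pos (by omega)
      have h2 : 2 ^ d ≤ p ^ d := Nat.pow_le_pow_left hp.two_le d
      omega
    have h := small_check p (Finset.mem_range.mpr hp33) d (Finset.mem_range.mpr hd6) hp.two_le hd hbig h23 h22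
    have h1 : 2 ^ (3 * (d + cardFactors (glOrder p d))) ≤ 2 ^ (4 * (p ^ d - 1)) := by
      rw [mul_add, pow_add, pow_mul, mul_comm 3 (cardFactors _), pow_mul, pow_mul]
      exact le_trans (Nat.mul_le_mul le_rfl (Nat.pow_le_pow_left (two_pow_cardFactors_le _ hne) 3)) h
    have := (Nat.pow_le_pow_iff_right Nat.one_lt_two).mp h1
    have := Nat.one_le_pow d p hp.pos
    omega
  · set n := p ^ d
    obtain ⟨L, hL1, hL2⟩ : ∃ L, n ≤ 2 ^ L ∧ 2 ^ L < 2 * n := by
      refine ⟨Nat.clog 2 n, Nat.le_pow_clog Nat.one_lt_two n, ?_⟩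
      have hc := Nat.pow_pred_clog_lt_self Nat.one_lt_two (x := n) (by omega)
      have hc0 : 0 < Nat.clog 2 n := Nat.clog_pos Nat.one_lt_two (by omega)
      have : 2 ^ Nat.clog 2 n = 2 * 2 ^ (Nat.clog 2 n).pred := by
        rw [← pow_succ', Nat.pred_eq_sub_one, Nat.sub_add_cancel hc0]
      omega
    have hdL : d ≤ L := by
      have : 2 ^ d ≤ 2 ^ L := (Nat.pow_le_pow_left hp.two_le d).trans hL1
      exact (Nat.pow_le_pow_iff_right Nat.one_lt_two).mp this
    have hΩ : cardFactors (glOrder p d) ≤ L * L := by
      have h1 : glOrder p d ≤ n ^ d := by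
        refine le_trans (Finset.prod_le_prod' (g := fun _ : Fin d => n) fun i _ => Nat.sub_le _ _) ?_
        simp [n]
      have h2 : 2 ^ cardFactors (glOrder p d) ≤ 2 ^ (L * L) := by
        refine (two_pow_cardFactors_le _ hne).trans (h1.trans ?_)
        rw [pow_mul]
        exact le_trans (Nat.pow_le_pow_left hL1 d) (Nat.pow_le_pow_right (by positivity) hdL)
      exact (Nat.pow_le_pow_iff_right Nat.one_lt_two).mp h2
    have h6 : 6 ≤ L := by
      by_contra h
      have : 2 ^ L ≤ 2 ^ 5 := Nat.pow_le_pow_right two_pos (by omega)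
      omega
    have key : ∀ M, 6 ≤ M → 3 * M + 3 * (M * M) + 2 ≤ 2 * 2 ^ M := by
      intro M hM
      induction M, hM using Nat.le_induction with
      | base => norm_num
      | succ M hM ihM =>
        have e : (M + 1) * (M + 1) = M * M + 2 * M + 1 := by ring
        have h2 : 6 * M ≤ M * M := Nat.mul_le_mul_right M hM
        rw [pow_succ 2 M, e]
        omega
    have := key L h6
    omega

universe u

/-- Number of orbits. -/
noncomputable def orbs (G Ω : Type*) [Group G] [MulAction G Ω] : ℕ :=
  Nat.card (Quotient (MulAction.orbitRel G Ω))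

theorem orbs_le_card (G Ω : Type*) [Group G] [MulAction G Ω] [Finite Ω] : orbs G Ω ≤ Nat.card Ω :=
  Nat.card_le_card_of_surjective _ Quotient.mk''_surjective

theorem orbs_eq_one (G Ω : Type*) [Group G] [MulAction G Ω] [MulAction.IsPretransitive G Ω] [Nonempty Ω] :
    orbs G Ω = 1 := by
  rw [orbs, Nat.card_eq_one_iff_unique]
  exact ⟨⟨fun a b => by
      induction a using Quotient.inductionOn' with | _ a =>
      induction b using Quotient.inductionOn' with | _ b =>
      exact Quotient.sound' (MulAction.exists_smul_eq G b a)⟩, ⟨Quotient.mk'' (Classical.arbitrary Ω)⟩⟩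

theorem vectorSpace_units {V : Type*} [AddCommGroup V] {p : ℕ} [Fact p.Prime] [Module (ZMod p) V] [Finite V] :
    ∃ d, Nat.card V = p ^ d ∧ Nat.card (V ≃+ V) ∣ glOrder p d := by
  haveI : Module.Finite (ZMod p) V := Module.Finite.of_finite
  refine ⟨Module.finrank (ZMod p) V, ?_, ?_⟩
  · rw [Module.natCard_eq_pow_finrank (K := ZMod p) (V := V), Nat.card_zmod]
  · let e : (V ≃+ V) ≃ (V ≃ₗ[ZMod p] V) :=
      { toFun := fun f => { f with map_smul' := fun c v => ZMod.map_smul f.toAddMonoidHom c v }
        invFun := fun f => f.toAddEquiv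
        left_inv := fun f => rfl
        right_inv := fun f => rfl }
    rw [Nat.card_congr e, Nat.card_congr (LinearMap.GeneralLinearGroup.generalLinearEquiv (ZMod p) V).symm.toEquiv,
      Nat.card_congr (Units.mapEquiv (algEquivMatrix (Module.finBasis (ZMod p) V)).toMulEquiv).toEquiv,
      Matrix.card_GL_field, ZMod.card]
    exact dvd_refl _

theorem elemAbelian_aut {E : Type*} [CommGroup E] [Finite E] {p : ℕ} [Fact p.Prime]
    (hE : ∀ x : E, x ^ p = 1) : ∃ d, Nat.card E = p ^ d ∧ Nat.card (MulAut E) ∣ glOrder p d := by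
  letI : Module (ZMod p) (Additive E) :=
    AddCommGroup.zmodModule (fun v => congrArg Additive.ofMul (hE v.toMul))
  haveI : Finite (Additive E) := inferInstanceAs (Finite E)
  obtain ⟨d, hd, hgl⟩ := vectorSpace_units (V := Additive E) (p := p)
  refine ⟨d, hd, ?_⟩
  have h := Nat.card_congr (MulEquiv.toAdditive : (E ≃* E) ≃ (Additive E ≃+ Additive E))
  exact h ▸ hgl

theorem primitive_case (G Ω : Type*) [Group G] [Finite G] [MulAction G Ω] [Finite Ω] [FaithfulSMul G Ω]
    [Group.IsSolvable G] [hprim : MulAction.IsPreprimitive G Ω] [Nontrivial Ω] :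
    3 * ArithmeticFunction.cardFactors (Nat.card G) + 4 ≤ 4 * Nat.card Ω := by
  classical
  obtain ⟨ω⟩ := (inferInstance : Nonempty Ω)
  haveI : Nontrivial G := by
    obtain ⟨a, b, hab⟩ := exists_pair_ne Ω
    obtain ⟨g, hg⟩ := MulAction.exists_smul_eq G a b
    exact ⟨g, 1, fun h => hab (by rw [← hg, h, one_smul])⟩
  -- an abelian normal subgroup from the derived series
  obtain ⟨A, hA, hA0, hAc⟩ : ∃ A : Subgroup G, A.Normal ∧ A ≠ ⊥ ∧ ∀ a ∈ A, ∀ b ∈ A, a * b = b * a := by
    obtain ⟨m, hm⟩ := Group.IsSolvable.solvable (G := G)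
    have hex : ∃ k, derivedSeries G (k + 1) = ⊥ := ⟨m, le_bot_iff.mp (hm ▸ derivedSeries_antitone G (Nat.le_succ m))⟩
    refine ⟨derivedSeries G (Nat.find hex), derivedSeries_normal G _, ?_, ?_⟩
    · intro h
      cases hk : Nat.find hex with
      | zero => rw [hk, derivedSeries_zero] at h; exact top_ne_bot h
      | succ k => exact Nat.find_min hex (m := k) (by omega) (hk ▸ h)
    · intro a ha b hb
      have h := Nat.find_spec hex
      rw [derivedSeries_succ, Subgroup.commutator_eq_bot_iff_le_centralizer] at h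
      exact (Subgroup.mem_centralizer_iff.mp (h ha) b hb).symm
  obtain ⟨p, hp, hpA⟩ := Nat.exists_prime_and_dvd ((Subgroup.one_lt_card_iff_ne_bot A).mpr hA0).ne'
  haveI := Fact.mk hp
  let E : Subgroup G :=
    { carrier := {x | x ∈ A ∧ x ^ p = 1}
      one_mem' := ⟨A.one_mem, one_pow p⟩
      mul_mem' := fun {a b} ha hb => ⟨A.mul_mem ha.1 hb.1, by
        rw [(show Commute a b from hAc a ha.1 b hb.1).mul_pow, ha.2, hb.2, mul_one]⟩
      inv_mem' := fun {a} ha => ⟨A.inv_mem ha.1, by rw [inv_pow, ha.2, inv_one]⟩ }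
  haveI hEn : E.Normal := ⟨fun x hx g => ⟨hA.conj_mem x hx.1 g, by rw [conj_pow, hx.2, mul_one, mul_inv_cancel]⟩⟩
  have hE0 : E ≠ ⊥ := by
    obtain ⟨a, ha⟩ := exists_prime_orderOf_dvd_card' p hpA
    have hmem : (a : G) ∈ E := ⟨a.2, by rw [← Subgroup.coe_pow, ← ha, pow_orderOf_eq_one, Subgroup.coe_one]⟩
    intro h
    rw [h, Subgroup.mem_bot] at hmem
    rw [show a = 1 from Subtype.ext hmem, orderOf_one] at ha
    exact hp.ne_one ha.symm
  haveI htr : MulAction.IsPretransitive E Ω := by
    refine MulAction.IsQuasiPreprimitive.isPretransitive_of_normal fun h => hE0 ?_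
    rw [Subgroup.eq_bot_iff_forall]
    intro x hx
    refine eq_of_smul_eq_smul (α := Ω) fun η => ?_
    have : η ∈ MulAction.fixedPoints E Ω := by rw [h]; trivial
    rw [one_smul]
    exact this ⟨x, hx⟩
  have hEc : ∀ a b : E, a * b = b * a := fun a b => Subtype.ext (hAc a a.2.1 b b.2.1)
  have hfree : ∀ x : E, x • ω = ω → x = 1 := by
    intro x hx
    refine Subtype.ext (eq_of_smul_eq_smul (α := Ω) fun η => ?_)
    obtain ⟨y, rfl⟩ := MulAction.exists_smul_eq E ω η
    show x • y • ω = (1 : E) • y • ω
    rw [← mul_smul, hEc, mul_smul, hx, one_smul]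
  have hcardE : Nat.card E = Nat.card Ω := by
    refine Nat.card_congr (Equiv.ofBijective (fun x : E => x • ω) ⟨?_, fun η => MulAction.exists_smul_eq E ω η⟩)
    intro a b h
    have := hfree (b⁻¹ * a) (by rw [mul_smul, show a • ω = b • ω from h, inv_smul_smul])
    exact (inv_mul_eq_one.mp this).symm
  let S := MulAction.stabilizer G ω
  let conj : S →* MulAut E := (MulAut.conjNormal : G →* MulAut E).comp S.subtype
  have hinj : Function.Injective conj := by
    rw [← MonoidHom.ker_eq_bot_iff, Subgroup.eq_bot_iff_forall]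
    intro g hg
    refine Subtype.ext (eq_of_smul_eq_smul (α := Ω) fun η => ?_)
    obtain ⟨x, rfl⟩ := MulAction.exists_smul_eq E ω η
    have h1 : MulAut.conjNormal (g : G) x = x := by
      have := MonoidHom.mem_ker.mp hg
      exact DFunLike.congr_fun this x
    have h2 : (g : G) * (x : G) = (x : G) * g := by
      have := congrArg Subtype.val h1
      rw [MulAut.conjNormal_apply] at this
      exact mul_inv_eq_iff_eq_mul.mp this
    show (g : G) • (x : G) • ω = (1 : G) • (x : G) • ω
    rw [← mul_smul, h2, mul_smul, one_smul]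
    exact congrArg _ g.2
  let cg : CommGroup E := { (inferInstance : Group E) with mul_comm := hEc }
  obtain ⟨d, hd, hdvd'⟩ := @elemAbelian_aut E cg _ p _ (fun v => Subtype.ext v.2.2)
  have hn : Nat.card Ω = p ^ d := hcardE ▸ hd
  have hdvd : Nat.card S ∣ glOrder p d := (Subgroup.card_dvd_of_injective conj hinj).trans hdvd'
  have hd1 : 1 ≤ d := by
    by_contra h
    have hd0 : d = 0 := by omega
    rw [hd0, pow_zero] at hn
    have := Finite.one_lt_card (α := Ω)
    omega
  have hG : Nat.card G = Nat.card S * p ^ d := by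
    rw [← hn, ← MulAction.index_stabilizer_of_transitive G ω, Subgroup.card_mul_index]
  have hgl : glOrder p d ≠ 0 := by
    refine Finset.prod_ne_zero_iff.mpr fun i _ => ?_
    have := Nat.pow_lt_pow_right hp.one_lt i.isLt
    omega
  obtain ⟨c, hc⟩ := hdvd
  have hc0 : c ≠ 0 := by rintro rfl; exact hgl (by rw [hc, mul_zero])
  have hΩle : ArithmeticFunction.cardFactors (Nat.card S) ≤ ArithmeticFunction.cardFactors (glOrder p d) := by
    rw [hc, cardFactors_mul Nat.card_pos.ne' hc0]
    exact Nat.le_add_right _ _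
  have := gl_bound p d hp hd1
  rw [hG, cardFactors_mul Nat.card_pos.ne' (pow_ne_zero _ hp.ne_zero), cardFactors_apply_prime_pow hp, hn]
  omega

theorem cardFactors_hom {G H : Type*} [Group G] [Finite G] [Group H] (f : G →* H) :
    cardFactors (Nat.card G) = cardFactors (Nat.card f.ker) + cardFactors (Nat.card f.range) := by
  haveI : Finite f.range := Finite.of_surjective f.rangeRestrict f.rangeRestrict_surjective
  rw [← cardFactors_mul Nat.card_pos.ne' Nat.card_pos.ne', ← Subgroup.index_ker, Subgroup.card_mul_index]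

theorem solvable_bound : ∀ (n : ℕ) (G Ω : Type u) [Group G] [Finite G] [MulAction G Ω] [Finite Ω]
    [FaithfulSMul G Ω] [Group.IsSolvable G], Nat.card Ω = n →
      3 * ArithmeticFunction.cardFactors (Nat.card G) + 4 * orbs G Ω ≤ 4 * n := by
  intro n
  induction n using Nat.strong_induction_on with
  | _ n ih =>
    intro G X _ _ _ _ _ _ hn
    classical
    by_cases h2 : Nat.card X ≤ 1
    · haveI : Subsingleton X := Finite.card_le_one_iff_subsingleton.mp h2
      haveI : Subsingleton G := ⟨fun a b => eq_of_smul_eq_smul (α := X) fun x => Subsingleton.elim _ _⟩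
      rw [Nat.card_unique (α := G), cardFactors_one, ← hn]
      have := orbs_le_card G X
      omega
    haveI : Nontrivial X := Finite.one_lt_card_iff_nontrivial.mp (by omega)
    by_cases htr : MulAction.IsPretransitive G X
    · haveI := htr
      rw [orbs_eq_one G X]
      by_cases hpr : MulAction.IsPreprimitive G X
      · haveI := hpr
        rw [← hn]
        exact primitive_case G X
      · obtain ⟨B, hB, hBnt⟩ : ∃ B : Set X, MulAction.IsBlock G B ∧ ¬ MulAction.IsTrivialBlock B := by
          by_contra h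
          push Not at h
          exact hpr { isTrivialBlock_of_isBlock := fun {B} hB => h B hB }
        rw [MulAction.IsTrivialBlock, not_or] at hBnt
        obtain ⟨hBs, hBu⟩ := hBnt
        rw [Set.not_subsingleton_iff] at hBs
        obtain ⟨a, ha, b, hb, hab⟩ := hBs
        let Y := ↥(MulAction.orbit G B)
        haveI : Finite Y := Subtype.finite
        have hcov : ∀ x : X, ∃ y : Y, x ∈ (y : Set X) := fun x => by
          obtain ⟨g, rfl⟩ := MulAction.exists_smul_eq G a x
          exact ⟨⟨g • B, MulAction.mem_orbit B g⟩, Set.smul_mem_smul_set ha⟩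
        choose π hπ using hcov
        have huniq : ∀ (x : X) (y : Y), x ∈ (y : Set X) → π x = y := by
          rintro x ⟨_, g, rfl⟩ hx
          obtain ⟨g', hg'⟩ := (π x).2
          apply Subtype.ext
          rw [← hg']
          by_contra hne
          have hdis := hB hne
          have hx' := hπ x
          rw [← hg'] at hx'
          exact Set.disjoint_left.mp hdis hx' hx
        have hequiv : ∀ (g : G) (x : X), π (g • x) = g • π x := fun g x =>
          huniq _ _ (Set.smul_mem_smul_set (hπ x))
        have hπs : Function.Surjective π := fun y => by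
          obtain ⟨_, g, rfl⟩ := y
          exact ⟨g • a, huniq _ _ (Set.smul_mem_smul_set ha)⟩
        have hb1 : Nat.card Y < n := by
          rw [← hn]
          refine lt_of_le_of_ne (Nat.card_le_card_of_surjective π hπs) fun h => hab ?_
          have hbij := (Nat.bijective_iff_surjective_and_card π).mpr ⟨hπs, h.symm⟩
          exact hbij.1 ((huniq a ⟨B, MulAction.mem_orbit_self B⟩ ha).trans
            (huniq b ⟨B, MulAction.mem_orbit_self B⟩ hb).symm)
        have hb2 : 1 < Nat.card Y := by
          rw [Finite.one_lt_card_iff_nontrivial]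
          obtain ⟨x, hx⟩ := (Set.ne_univ_iff_exists_notMem _).mp hBu
          refine ⟨π x, ⟨B, MulAction.mem_orbit_self B⟩, fun h => hx ?_⟩
          have h3 := hπ x
          rw [h] at h3
          exact h3
        let f : G →* Equiv.Perm Y := MulAction.toPermHom G Y
        haveI : Nonempty Y := ⟨π a⟩
        haveI : MulAction.IsPretransitive f.range Y := ⟨fun u v => by
          obtain ⟨x, rfl⟩ := hπs u
          obtain ⟨x', rfl⟩ := hπs v
          obtain ⟨g, rfl⟩ := MulAction.exists_smul_eq G x x'
          exact ⟨⟨f g, g, rfl⟩, (hequiv g x).symm⟩⟩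
        haveI : Group.IsSolvable f.range := Group.isSolvable_of_surjective f.rangeRestrict_surjective
        haveI : Group.IsSolvable f.ker := inferInstance
        have hY := ih _ hb1 f.range Y rfl
        rw [orbs_eq_one f.range Y] at hY
        -- the kernel is intransitive
        have hker : 3 * ArithmeticFunction.cardFactors (Nat.card f.ker) + 4 * orbs f.ker X ≤ 4 * n ∧
            Nat.card Y ≤ orbs f.ker X := by
          have horb : Nat.card Y ≤ orbs f.ker X := by
            refine Nat.card_le_card_of_surjective (Quotient.lift π fun x x' h => ?_)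
              (Function.Surjective.of_comp (g := Quotient.mk'') hπs)
            obtain ⟨k, rfl⟩ := MulAction.orbitRel_apply.mp h
            show π ((k : G) • x') = π x'
            rw [hequiv]
            exact Equiv.Perm.ext_iff.mp (MonoidHom.mem_ker.mp k.2) (π x')
          refine ⟨?_, horb⟩
          have hnt : ¬ MulAction.IsPretransitive f.ker X := fun h => by
            have := orbs_eq_one f.ker X
            omega
          exact intransitive n ih f.ker X hn hnt
        have hsum := cardFactors_hom f
        omega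
    · exact intransitive n ih G X hn htr
where
  intransitive (n : ℕ) (ih : ∀ m, m < n → ∀ (G Ω : Type u) [Group G] [Finite G] [MulAction G Ω] [Finite Ω]
      [FaithfulSMul G Ω] [Group.IsSolvable G], Nat.card Ω = m →
        3 * ArithmeticFunction.cardFactors (Nat.card G) + 4 * orbs G Ω ≤ 4 * m)
      (G X : Type u) [Group G] [Finite G] [MulAction G X] [Finite X] [FaithfulSMul G X] [Group.IsSolvable G]
      (hn : Nat.card X = n) (htr : ¬ MulAction.IsPretransitive G X) :
      3 * ArithmeticFunction.cardFactors (Nat.card G) + 4 * orbs G X ≤ 4 * n := by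
    classical
    obtain ⟨a, b, hab⟩ : ∃ a b : X, b ∉ MulAction.orbit G a := by
      by_contra h
      push Not at h
      exact htr ⟨fun a b => h a b⟩
    let O : SubMulAction G X :=
      { carrier := MulAction.orbit G a
        smul_mem' := fun g x hx => MulAction.mem_orbit_of_mem_orbit g hx }
    let C : SubMulAction G X :=
      { carrier := (MulAction.orbit G a)ᶜ
        smul_mem' := fun g x hx h => hx (by
          have h2 := MulAction.mem_orbit_of_mem_orbit g⁻¹ h
          rwa [inv_smul_smul] at h2) }
    have hsum : Nat.card O + Nat.card C = n := by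
      rw [← hn, ← Set.ncard_add_ncard_compl (MulAction.orbit G a), ← Nat.card_coe_set_eq, ← Nat.card_coe_set_eq]
      rfl
    have hO0 : 0 < Nat.card O := by
      haveI : Nonempty O := ⟨⟨a, MulAction.mem_orbit_self a⟩⟩
      exact Nat.card_pos
    have hC0 : 0 < Nat.card C := by
      haveI : Nonempty C := ⟨⟨b, hab⟩⟩
      exact Nat.card_pos
    let f : G →* Equiv.Perm O := MulAction.toPermHom G O
    haveI : Group.IsSolvable f.range := Group.isSolvable_of_surjective f.rangeRestrict_surjective
    haveI : Group.IsSolvable f.ker := inferInstance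
    haveI : Nonempty O := ⟨⟨a, MulAction.mem_orbit_self a⟩⟩
    haveI : MulAction.IsPretransitive f.range O := ⟨fun u v => by
      obtain ⟨g, hg⟩ := u.2
      obtain ⟨g', hg'⟩ := v.2
      refine ⟨⟨f (g' * g⁻¹), g' * g⁻¹, rfl⟩, Subtype.ext ?_⟩
      show (g' * g⁻¹) • (u : X) = v
      rw [← hg, ← hg']
      show (g' * g⁻¹) • g • a = g' • a
      rw [smul_smul, inv_mul_cancel_right]⟩
    haveI : FaithfulSMul f.ker C := ⟨fun {k l} h => Subtype.ext (eq_of_smul_eq_smul (α := X) fun x => by
      by_cases hx : x ∈ MulAction.orbit G a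
      · have hk := Equiv.Perm.ext_iff.mp (MonoidHom.mem_ker.mp k.2) (⟨x, hx⟩ : O)
        have hl := Equiv.Perm.ext_iff.mp (MonoidHom.mem_ker.mp l.2) (⟨x, hx⟩ : O)
        exact (congrArg Subtype.val hk).trans (congrArg Subtype.val hl).symm
      · exact congrArg Subtype.val (h (⟨x, hx⟩ : C)))⟩
    have hO := ih _ (by omega) f.range O rfl
    rw [orbs_eq_one f.range O] at hO
    have hC := ih _ (by omega) f.ker C rfl
    have horb : orbs G X ≤ orbs f.ker C + 1 := by
      rw [orbs, orbs, ← Finite.card_option]
      refine Nat.card_le_card_of_surjective (fun o => o.elim (Quotient.mk'' a)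
        (Quotient.lift (fun c : C => Quotient.mk'' (c : X)) fun c c' h => ?_)) fun q => ?_
      · obtain ⟨k, rfl⟩ := MulAction.orbitRel_apply.mp h
        exact Quotient.sound' ⟨(k : G), rfl⟩
      · induction q using Quotient.inductionOn' with | _ x =>
        by_cases hx : x ∈ MulAction.orbit G a
        · exact ⟨none, (Quotient.sound' hx).symm⟩
        · exact ⟨some (Quotient.mk'' ⟨x, hx⟩), rfl⟩
    have hh := cardFactors_hom f
    omega

/-- If a finite group G acts faithfully on a finite set with n points and r orbits, then the composition length of G is at most 4(n − r)/3. Here the composition length is expressed through chains: the conclusion bounds the length l of every chain of subgroups 1 = H₀ < H₁ < ⋯ < H_l = G in which each term is normal in the next (the longest such chains are exactly the composition series). -/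
theorem result {G Ω : Type*} [Group G] [Finite G] [MulAction G Ω] [FaithfulSMul G Ω] [Fintype Ω]
    (l : ℕ) (H : Fin (l + 1) → Subgroup G) (h0 : H 0 = ⊥) (hl : H (Fin.last l) = ⊤)
    (hchain : ∀ i : Fin l, H i.castSucc < H i.succ ∧ ((H i.castSucc).subgroupOf (H i.succ)).Normal) :
    3 * l ≤ 4 * (Fintype.card Ω - Nat.card (Quotient (MulAction.orbitRel G Ω))) := by
  obtain ⟨S, hS, hle⟩ := Cfsg.Agent.Lib.CompLength.exists_solvable_chain_le H h0 hl hchain
  let f : S →* Equiv.Perm Ω := (MulAction.toPermHom G Ω).comp S.subtype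
  have hf : Function.Injective f := by
    intro a b h
    exact Subtype.ext (eq_of_smul_eq_smul (α := Ω) fun x => Equiv.Perm.ext_iff.mp h x)
  haveI := hS
  haveI : Group.IsSolvable f.range := Group.isSolvable_of_surjective f.rangeRestrict_surjective
  have h1 := solvable_bound (Nat.card Ω) f.range Ω rfl
  rw [← Nat.card_congr (MonoidHom.ofInjective hf).toEquiv] at h1
  have h2 : Nat.card (Quotient (MulAction.orbitRel G Ω)) ≤ orbs f.range Ω := by
    refine Nat.card_le_card_of_surjective (Quotient.map' id fun x y h => ?_)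
      (fun q => q.inductionOn' fun x => ⟨Quotient.mk'' x, rfl⟩)
    obtain ⟨⟨_, s, rfl⟩, rfl⟩ := MulAction.orbitRel_apply.mp h
    exact ⟨(s : G), rfl⟩
  rw [← Nat.card_eq_fintype_card]
  omega

end Cfsg.Agent.S5722
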