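import Cfsg.Statements.S5726
import Mathlib

set_option autoImplicit false
set_option linter.style.haveILetI false
open Cfsg

namespace Cfsg.Agent.S5726


/-- In a transitive action, every orbit of a Sylow `p`-subgroup has size divisible by the
`p`-part of the degree. -/
theorem dvd_card_orbit_sylow {G Ω : Type*} [Group G] [Finite G] [MulAction G Ω]
    (htr : MulAction.IsPretransitive G Ω) {p k : ℕ} [hp : Fact p.Prime] (hd : p ^ k ∣ Nat.card Ω)
    (P : Sylow p G) (ω : Ω) : p ^ k ∣ Nat.card (MulAction.orbit P ω) := by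
  have h1 : (MulAction.stabilizer G ω).index = Nat.card Ω :=
    MulAction.index_stabilizer_of_transitive G ω
  have h2 : (MulAction.stabilizer P ω).index = Nat.card (MulAction.orbit P ω) := by
    rw [MulAction.index_stabilizer, ← Nat.card_coe_set_eq]
  have h3 : Nat.card (MulAction.stabilizer P ω) ∣ Nat.card (MulAction.stabilizer G ω) := by
    let f : MulAction.stabilizer P ω →* MulAction.stabilizer G ω :=
      { toFun := fun x => ⟨((x : P) : G), x.2⟩
        map_one' := rfl
        map_mul' := fun _ _ => rfl }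
    refine Subgroup.card_dvd_of_injective f ?_
    intro a b hab
    exact Subtype.ext (Subtype.ext (congrArg (fun z : MulAction.stabilizer G ω => (z : G)) hab))
  obtain ⟨a, ha⟩ := (IsPGroup.iff_card.mp P.2)
  have h4 := Subgroup.card_mul_index (MulAction.stabilizer P ω)
  have hS : Nat.card (MulAction.stabilizer P ω) ∣ p ^ a := ha ▸ Subgroup.card_subgroup_dvd_card _
  obtain ⟨b, -, hb⟩ := (Nat.dvd_prime_pow hp.out).mp hS
  have h5 : p ^ (k + b) ∣ Nat.card G := by
    rw [← Subgroup.card_mul_index (MulAction.stabilizer G ω), h1, pow_add, mul_comm]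
    exact mul_dvd_mul (hb ▸ h3) hd
  have h6 : p ^ (k + b) ∣ p ^ a := by
    rw [← ha, P.card_eq_multiplicity]
    exact pow_dvd_pow _ ((hp.out.pow_dvd_iff_le_factorization Nat.card_pos.ne').mp h5)
  have h7 : p ^ b * p ^ k ∣ p ^ b * Nat.card (MulAction.orbit P ω) := by
    rw [← pow_add, add_comm b k]
    calc p ^ (k + b) ∣ p ^ a := h6
      _ = _ := by rw [← ha, ← h2, ← hb, h4]
  exact (Nat.mul_dvd_mul_iff_left (pow_pos hp.out.pos b)).mp h7

/-- If a finite group acts faithfully and transitively on a set with p^k elements, p a prime and k ≥ 1, then some element of order p fixes no point. -/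
theorem result {G Ω : Type*} [Group G] [Finite G] [MulAction G Ω] [FaithfulSMul G Ω] [Fintype Ω] (htr : MulAction.IsPretransitive G Ω)
    (p k : ℕ) (hp : p.Prime) (hk : 1 ≤ k) (hΩ : Fintype.card Ω = p ^ k) :
    ∃ g : G, orderOf g = p ∧ ∀ ω : Ω, g • ω ≠ ω := by
  haveI := Fact.mk hp
  have hcard : Nat.card Ω = p ^ k := by rw [Nat.card_eq_fintype_card, hΩ]
  obtain ⟨P⟩ : Nonempty (Sylow p G) := inferInstance
  have hne : Nonempty Ω := Fintype.card_pos_iff.mp (by rw [hΩ]; exact pow_pos hp.pos k)
  have horb : ∀ ω : Ω, MulAction.orbit P ω = Set.univ := by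
    intro ω
    apply Set.eq_of_subset_of_ncard_le (Set.subset_univ _) _ Set.finite_univ
    rw [Set.ncard_univ, hcard, ← Nat.card_coe_set_eq]
    refine Nat.le_of_dvd ?_ (dvd_card_orbit_sylow htr (dvd_of_eq hcard.symm) P ω)
    haveI : Nonempty (MulAction.orbit P ω) := ⟨⟨ω, MulAction.mem_orbit_self ω⟩⟩
    exact Nat.card_pos
  haveI : Nontrivial P := by
    rw [← Finite.one_lt_card_iff_nontrivial]
    obtain ⟨ω⟩ := hne
    have h := Subgroup.index_dvd_card (MulAction.stabilizer P ω)
    rw [MulAction.index_stabilizer, horb ω, Set.ncard_univ, hcard] at h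
    exact lt_of_lt_of_le (Nat.one_lt_pow (by omega) hp.one_lt) (Nat.le_of_dvd Nat.card_pos h)
  haveI hZ : Nontrivial (Subgroup.center P) := P.2.center_nontrivial
  obtain ⟨j, hj⟩ := IsPGroup.iff_card.mp (P.2.to_subgroup (Subgroup.center P))
  have hd : p ∣ Nat.card (Subgroup.center P) := by
    have h1 : 1 < Nat.card (Subgroup.center P) := Finite.one_lt_card_iff_nontrivial.mpr hZ
    rw [hj] at h1 ⊢
    refine dvd_pow_self p ?_
    rintro rfl
    simp at h1
  obtain ⟨z, hz⟩ := exists_prime_orderOf_dvd_card' p hd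
  refine ⟨((z : P) : G), by rw [Subgroup.orderOf_coe, Subgroup.orderOf_coe, hz], ?_⟩
  intro ω hω
  have hfix : ∀ η : Ω, ((z : P) : G) • η = η := by
    intro η
    have hη : η ∈ MulAction.orbit P ω := by rw [horb ω]; trivial
    obtain ⟨x, rfl⟩ := hη
    have hc : (x : P) * (z : P) = (z : P) * x := Subgroup.mem_center_iff.mp z.2 x
    show ((z : P) : G) • ((x : G) • ω) = (x : G) • ω
    have hc' : (x : G) * ((z : P) : G) = ((z : P) : G) * (x : G) := congrArg Subtype.val hc
    rw [← mul_smul, ← hc', mul_smul, hω]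
  have hz1 : ((z : P) : G) = 1 := eq_of_smul_eq_smul (α := Ω) fun η => by rw [hfix η, one_smul]
  have hz2 : z = 1 := Subtype.ext (Subtype.ext hz1)
  rw [hz2, orderOf_one] at hz
  exact hp.ne_one hz.symm

end Cfsg.Agent.S5726
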