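import Cfsg.Statements.S5727
import Mathlib
import Cfsg.Agent.S5726

set_option autoImplicit false
set_option linter.style.haveILetI false
open Cfsg

namespace Cfsg.Agent.S5727


/-- If a finite group acts faithfully and transitively on a set with m·p elements, where p is a prime and 1 ≤ m ≤ p, then some element of order p fixes no point. -/
theorem result {G Ω : Type*} [Group G] [Finite G] [MulAction G Ω] [FaithfulSMul G Ω] [Fintype Ω] (htr : MulAction.IsPretransitive G Ω)
    (p m : ℕ) (hp : p.Prime) (hm : 1 ≤ m) (hmp : m ≤ p) (hΩ : Fintype.card Ω = m * p) :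
    ∃ g : G, orderOf g = p ∧ ∀ ω : Ω, g • ω ≠ ω := by
  haveI := Fact.mk hp
  classical
  rcases hmp.eq_or_lt with h | hlt
  · exact Cfsg.Agent.S5726.result htr p 2 hp (by norm_num) (by rw [hΩ, h, sq])
  obtain ⟨P⟩ : Nonempty (Sylow p G) := inferInstance
  have hcard : Nat.card Ω = m * p := by rw [Nat.card_eq_fintype_card, hΩ]
  have horb : ∀ ω : Ω, Nat.card (MulAction.orbit P ω) = p := by
    intro ω
    haveI : Nonempty (MulAction.orbit P ω) := ⟨⟨ω, MulAction.mem_orbit_self ω⟩⟩
    obtain ⟨j, hj⟩ := P.2.card_orbit ω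
    have h1 : p ^ 1 ∣ Nat.card (MulAction.orbit P ω) :=
      Cfsg.Agent.S5726.dvd_card_orbit_sylow htr (by rw [hcard, pow_one]; exact dvd_mul_left p m) P ω
    have h2 : Nat.card (MulAction.orbit P ω) ≤ m * p := by
      rw [← hcard]; exact Nat.card_le_card_of_injective Subtype.val Subtype.val_injective
    have hlt2 : p ^ j < p ^ 2 := by
      rw [← hj]; exact lt_of_le_of_lt h2 (by rw [sq]; exact Nat.mul_lt_mul_of_pos_right hlt hp.pos)
    have hj1 : 1 ≤ j := (Nat.pow_dvd_pow_iff_le_right hp.one_lt).mp (hj ▸ h1)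
    have hj2 : j < 2 := (Nat.pow_lt_pow_iff_right hp.one_lt).mp hlt2
    rw [hj, show j = 1 by omega, pow_one]
  have hidx : ∀ ω : Ω, (MulAction.stabilizer P ω).index = p := fun ω => by
    rw [MulAction.index_stabilizer, ← Nat.card_coe_set_eq, horb]
  have hnormal : ∀ ω : Ω, (MulAction.stabilizer P ω).Normal := by
    intro ω
    obtain ⟨a, ha⟩ := IsPGroup.iff_card.mp P.2
    have ha0 : a ≠ 0 := by
      rintro rfl
      have h := Subgroup.index_dvd_card (MulAction.stabilizer P ω)
      rw [hidx, ha, pow_zero, Nat.dvd_one] at h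
      exact hp.ne_one h
    apply Subgroup.normal_of_index_eq_minFac_card
    rw [hidx, ha, Nat.pow_minFac ha0, hp.minFac_eq]
  have hstab : ∀ (ω : Ω) (x : P), MulAction.stabilizer P (x • ω) = MulAction.stabilizer P ω := by
    intro ω x
    rw [MulAction.stabilizer_smul_eq_stabilizer_map_conj]
    haveI := hnormal ω
    refine le_antisymm ?_ ?_
    · rintro y ⟨z, hz, rfl⟩
      exact (hnormal ω).conj_mem z hz x
    · intro y hy
      refine ⟨x⁻¹ * y * x⁻¹⁻¹, (hnormal ω).conj_mem y hy x⁻¹, ?_⟩
      simp [mul_assoc]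
  let Q := Quotient (MulAction.orbitRel P Ω)
  haveI : Fintype Q := Fintype.ofFinite Q
  have hQ : Fintype.card Q * p = m * p := by
    have he := Nat.card_congr (MulAction.selfEquivSigmaOrbits P Ω)
    rw [Nat.card_sigma, hcard] at he
    rw [he]
    simp only [horb, Finset.sum_const, Finset.card_univ, smul_eq_mul]
    exact le_antisymm (le_of_eq rfl) (le_of_eq rfl)
  have hQm : Fintype.card Q = m := Nat.eq_of_mul_eq_mul_right hp.pos hQ
  haveI : Fintype P := Fintype.ofFinite P
  let S : Finset P := Finset.univ.biUnion fun c : Q => Finset.univ.filter fun x : P => x • c.out = c.out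
  have hS : S.card * p < Fintype.card P * p := by
    calc S.card * p
        ≤ (∑ c : Q, (Finset.univ.filter fun x : P => x • c.out = c.out).card) * p :=
          Nat.mul_le_mul_right _ Finset.card_biUnion_le
      _ = ∑ c : Q, Fintype.card P := by
          rw [Finset.sum_mul]
          refine Finset.sum_congr rfl fun c _ => ?_
          have h := Subgroup.card_mul_index (MulAction.stabilizer P c.out)
          rw [hidx, Nat.card_eq_fintype_card, Nat.card_eq_fintype_card] at h
          rw [← h]
          congr 1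
          exact (Fintype.card_subtype _).symm
      _ = m * Fintype.card P := by rw [Finset.sum_const, Finset.card_univ, hQm, smul_eq_mul]
      _ < p * Fintype.card P := Nat.mul_lt_mul_of_pos_right hlt Fintype.card_pos
      _ = _ := mul_comm _ _
  obtain ⟨x, -, hx⟩ := Finset.exists_mem_notMem_of_card_lt_card
    (s := S) (t := (Finset.univ : Finset P)) (by rw [Finset.card_univ]; exact Nat.lt_of_mul_lt_mul_right hS)
  have hmove : ∀ ω : Ω, x • ω ≠ ω := by
    intro ω hω
    apply hx
    simp only [S, Finset.mem_biUnion, Finset.mem_univ, true_and, Finset.mem_filter]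
    refine ⟨Quotient.mk'' ω, ?_⟩
    have hr : (MulAction.orbitRel P Ω) (Quotient.out (Quotient.mk'' ω : Q)) ω :=
      Quotient.mk_out (s := MulAction.orbitRel P Ω) ω
    obtain ⟨y, hy⟩ := (MulAction.orbitRel_apply.mp hr)
    have : x ∈ MulAction.stabilizer P (y • ω) := by rw [hstab]; exact hω
    have hy' : y • ω = Quotient.out (Quotient.mk'' ω : Q) := hy
    rw [hy'] at this
    exact this
  have hpow : x ^ p = 1 := by
    have h : ∀ ω : Ω, (x ^ p) • ω = ω := by
      intro ω
      haveI := hnormal ω
      have := Subgroup.pow_index_mem (MulAction.stabilizer P ω) x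
      rw [hidx] at this
      exact this
    apply Subtype.ext
    apply eq_of_smul_eq_smul (α := Ω)
    intro ω
    show ((x ^ p : P) : G) • ω = (1 : G) • ω
    rw [one_smul]
    exact h ω
  have hx1 : x ≠ 1 := by
    intro h
    haveI : Nonempty Ω := Fintype.card_pos_iff.mp (by rw [hΩ]; exact Nat.mul_pos (by omega) hp.pos)
    obtain ⟨ω⟩ := (inferInstance : Nonempty Ω)
    exact hmove ω (by rw [h, one_smul])
  refine ⟨(x : G), by rw [Subgroup.orderOf_coe]; exact orderOf_eq_prime hpow hx1, fun ω => hmove ω⟩

end Cfsg.Agent.S5727
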