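import Cfsg.Statements.S5728
import Mathlib

set_option autoImplicit false
set_option linter.style.haveILetI false
open Cfsg

namespace Cfsg.Agent.S5728


/-- An elusive transitive action. Let p = 2^s − 1 be a prime and let F be the field with p² elements. Inside the group of affine maps x ↦ a·x + b of F (a ≠ 0), consider the subgroup of maps with both coefficients in the prime field. Then every element of prime order of the affine group is conjugate, within the affine group, to an element of that subgroup; equivalently, in the transitive action of the affine group on the cosets of that subgroup (of degree p(p + 1)) every element of prime order fixes a point. -/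
theorem result (p s : ℕ) [Fact p.Prime] (hs : p = 2 ^ s - 1)
    (g : Equiv.Perm (GaloisField p 2)) (hg : g ∈ Cfsg.affineGroup (GaloisField p 2)) (hord : (orderOf g).Prime) :
    ∃ x ∈ Cfsg.affineGroup (GaloisField p 2), ∃ a b : ZMod p, a ≠ 0 ∧
      ∀ y : GaloisField p 2, (x * g * x⁻¹) y = algebraMap (ZMod p) (GaloisField p 2) a * y + algebraMap (ZMod p) (GaloisField p 2) b := by
  classical
  haveI : Finite (GaloisField p 2) := inferInstance
  haveI : Fintype (GaloisField p 2) := Fintype.ofFinite _
  have hp : p.Prime := Fact.out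
  obtain ⟨u, b, hgy⟩ := hg
  have hg1 : g ≠ 1 := fun h => Nat.not_prime_one (by rwa [h, orderOf_one] at hord)
  by_cases hu : (u : GaloisField p 2) = 1
  · have hb : b ≠ 0 := by
      intro hb
      apply hg1
      ext y
      simp [hgy, hu, hb]
    refine ⟨Equiv.mulLeft₀ b⁻¹ (inv_ne_zero hb), ⟨Units.mk0 b⁻¹ (inv_ne_zero hb), 0, fun y => by simp⟩, 1, 1, one_ne_zero, fun y => ?_⟩
    simp only [Equiv.Perm.mul_apply, map_one, one_mul]
    show b⁻¹ * g ((Equiv.mulLeft₀ b⁻¹ (inv_ne_zero hb)).symm y) = y + 1
    rw [hgy, hu, one_mul]
    have : (Equiv.mulLeft₀ b⁻¹ (inv_ne_zero hb)).symm y = b * y := by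
      rw [Equiv.symm_apply_eq]
      show y = b⁻¹ * (b * y)
      field_simp
    rw [this]
    field_simp
  · set a : GaloisField p 2 := (u : GaloisField p 2) with ha
    set c := b / (1 - a) with hc
    have h1a : (1 : GaloisField p 2) - a ≠ 0 := sub_ne_zero.mpr (Ne.symm hu)
    have hfix : ∀ y, g (y + c) = a * y + c := by
      intro y
      rw [hgy, hc]
      field_simp
      ring
    have hpow : ∀ (k : ℕ) y, (g ^ k) (y + c) = a ^ k * y + c := by
      intro k
      induction k with
      | zero => intro y; simp
      | succ k ih =>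
        intro y
        rw [pow_succ', Equiv.Perm.mul_apply, ih, hfix, pow_succ']
        ring
    have har : a ^ orderOf g = 1 := by
      have := hpow (orderOf g) 1
      rw [pow_orderOf_eq_one, Equiv.Perm.one_apply, mul_one] at this
      exact (add_right_cancel this).symm
    have hs2 : 2 ≤ s := by
      have := hp.two_le
      by_contra h
      push Not at h
      interval_cases s <;> simp_all
    have hodd : 2 ∣ p - 1 := by
      obtain ⟨s', rfl⟩ : ∃ s', s = s' + 2 := ⟨s - 2, by omega⟩
      have h4 : 1 ≤ 2 ^ s' := Nat.one_le_two_pow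
      rw [pow_add] at hs
      omega
    have hcardF : Fintype.card (GaloisField p 2) = p ^ 2 := by
      rw [← Nat.card_eq_fintype_card, GaloisField.card p 2 two_ne_zero]
    have hqa : a ^ (p ^ 2 - 1) = 1 := by
      rw [← hcardF]; exact FiniteField.pow_card_sub_one_eq_one a u.ne_zero
    have hr : orderOf a ∣ p - 1 := by
      have h1 := orderOf_dvd_of_pow_eq_one har
      rcases (Nat.dvd_prime hord).mp h1 with h2 | h2
      · rw [h2]; exact one_dvd _
      rw [h2]
      have h3 : orderOf g ∣ p ^ 2 - 1 := h2 ▸ orderOf_dvd_of_pow_eq_one hqa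
      have h4 : p ^ 2 - 1 = (p - 1) * 2 ^ s := by
        have h5 : 2 ^ s = p + 1 := by
          have := hp.two_le
          omega
        rw [h5, mul_comm, sq, Nat.mul_comm, ← Nat.sq_sub_sq, one_pow, sq]
      rw [h4] at h3
      rcases hord.dvd_mul.mp h3 with h5 | h5
      · exact h5
      · rw [(Nat.prime_dvd_prime_iff_eq hord Nat.prime_two).mp (hord.dvd_of_dvd_pow h5)]
        exact hodd
    have hap : a ^ p = a := by
      calc a ^ p = a ^ (p - 1) * a := by
            rw [← pow_succ, Nat.sub_add_cancel hp.one_lt.le]
        _ = a := by rw [orderOf_dvd_iff_pow_eq_one.mp hr, one_mul]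
    have hbot : a ∈ (⊥ : Subfield (GaloisField p 2)) := (Subfield.mem_bot_iff_pow_eq_self (GaloisField p 2) p).mpr hap
    obtain ⟨z, hz⟩ := (mem_bot_iff_intCast p (GaloisField p 2)).mp hbot
    refine ⟨Equiv.addRight (-c), ⟨1, -c, fun y => by simp⟩, (z : ZMod p), 0, ?_, fun y => ?_⟩
    · intro h
      apply u.ne_zero
      show a = 0
      rw [← hz, ← map_intCast (algebraMap (ZMod p) (GaloisField p 2)), h, map_zero]
    · rw [map_intCast, hz, map_zero, add_zero, Equiv.Perm.mul_apply, Equiv.Perm.mul_apply]
      show g (y + - -c) + -c = a * y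
      rw [neg_neg, hfix]
      ring

end Cfsg.Agent.S5728
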