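import Cfsg.Statements.S5729
import Mathlib

set_option autoImplicit false
set_option linter.style.haveILetI false
open Cfsg

namespace Cfsg.Agent.S5729


/-- Let a finite group G act faithfully and transitively on a set with n ≥ 3 points. Then either G is a Frobenius permutation group (Frobenius as a permutation group: transitive, some non-identity element fixes a point, and no non-identity element fixes two points) of order n(n − 1) and exactly |G|/n of its elements are derangements (fix no point), or the number of derangements is greater than |G|/n. -/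
theorem result {G Ω : Type*} [Group G] [Finite G] [MulAction G Ω] [FaithfulSMul G Ω] [Fintype Ω] (htr : MulAction.IsPretransitive G Ω) (hn : 3 ≤ Fintype.card Ω) :
    ((MulAction.IsPretransitive G Ω ∧ (∃ g : G, g ≠ 1 ∧ ∃ ω : Ω, g • ω = ω) ∧ ∀ g : G, g ≠ 1 → Nat.card (MulAction.fixedBy Ω g) ≤ 1) ∧ Nat.card G = Fintype.card Ω * (Fintype.card Ω - 1) ∧ Fintype.card Ω * Nat.card {g : G // ∀ ω : Ω, g • ω ≠ ω} = Nat.card G) ∨
    Nat.card G < Fintype.card Ω * Nat.card {g : G // ∀ ω : Ω, g • ω ≠ ω} := by
  classical
  haveI : Fintype G := Fintype.ofFinite G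
  set n := Fintype.card Ω with hn'
  let π : G → ℕ := fun g => Fintype.card (MulAction.fixedBy Ω g)
  have hΩne : Nonempty Ω := Fintype.card_pos_iff.mp (by omega)
  have hs1 : ∑ g : G, π g = Fintype.card G := by
    rw [MulAction.sum_card_fixedBy_eq_card_orbits_mul_card_group]
    haveI : Subsingleton (Quotient (MulAction.orbitRel G Ω)) := ⟨fun a b => by
      induction a using Quotient.inductionOn' with | _ a =>
      induction b using Quotient.inductionOn' with | _ b =>
      exact Quotient.sound' (MulAction.exists_smul_eq G b a)⟩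
    rw [show Fintype.card (Quotient (MulAction.orbitRel G Ω)) = 1 from
      Fintype.card_eq_one_iff.mpr ⟨Quotient.mk'' (Classical.arbitrary Ω), fun y => Subsingleton.elim _ _⟩, one_mul]
  have hs2 : 2 * Fintype.card G ≤ ∑ g : G, π g ^ 2 := by
    have h := MulAction.sum_card_fixedBy_eq_card_orbits_mul_card_group G (Ω × Ω)
    have hpair : ∀ g : G, Fintype.card (MulAction.fixedBy (Ω × Ω) g) = π g ^ 2 := by
      intro g
      rw [sq, ← Fintype.card_prod]
      exact Fintype.card_congr
        { toFun := fun x => (⟨x.1.1, (Prod.ext_iff.mp x.2).1⟩, ⟨x.1.2, (Prod.ext_iff.mp x.2).2⟩)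
          invFun := fun x => ⟨(x.1.1, x.2.1), Prod.ext x.1.2 x.2.2⟩
          left_inv := fun x => rfl
          right_inv := fun x => rfl }
    simp only [hpair] at h
    rw [h]
    refine Nat.mul_le_mul_right _ ?_
    obtain ⟨a, b, hab⟩ := Fintype.exists_pair_of_one_lt_card (α := Ω) (by omega)
    refine Fintype.one_lt_card_iff.mpr ⟨Quotient.mk'' (a, a), Quotient.mk'' (a, b), fun h => ?_⟩
    obtain ⟨g, hg⟩ := MulAction.orbitRel_apply.mp (Quotient.exact' h)
    have h1 : g • a = a := congrArg Prod.fst hg
    have h2 : g • b = a := congrArg Prod.snd hg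
    exact hab (MulAction.injective g (h1.trans h2.symm))
  have hle : ∀ g : G, π g ≤ n := fun g => Fintype.card_subtype_le _
  have hder : ∀ g : G, π g = 0 ↔ ∀ ω : Ω, g • ω ≠ ω := by
    intro g
    simp only [π, Fintype.card_eq_zero_iff, isEmpty_subtype]
    rfl
  set D := Nat.card {g : G // ∀ ω : Ω, g • ω ≠ ω} with hD
  have hD' : D = (Finset.univ.filter fun g : G => π g = 0).card := by
    rw [hD, Nat.card_eq_fintype_card, Fintype.card_subtype]
    simp only [hder]
  have hkey : ∑ g : G, ((π g : ℤ) - 1) * ((π g : ℤ) - n) =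
      (n : ℤ) * D + ∑ g ∈ Finset.univ.filter (fun g : G => ¬ π g = 0), ((π g : ℤ) - 1) * ((π g : ℤ) - n) := by
    rw [← Finset.sum_filter_add_sum_filter_not Finset.univ (fun g : G => π g = 0)]
    congr 1
    rw [hD', mul_comm (n : ℤ), ← nsmul_eq_mul, ← Finset.sum_const]
    refine Finset.sum_congr rfl fun g hg => ?_
    simp [(Finset.mem_filter.mp hg).2]
  have htot : (Fintype.card G : ℤ) ≤ ∑ g : G, ((π g : ℤ) - 1) * ((π g : ℤ) - n) := by
    have : ∑ g : G, ((π g : ℤ) - 1) * ((π g : ℤ) - n) =
        (∑ g : G, π g ^ 2 : ℕ) - ((n : ℤ) + 1) * (∑ g : G, π g : ℕ) + (n : ℤ) * Fintype.card G := by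
      push_cast
      rw [Finset.mul_sum, ← Finset.sum_sub_distrib, mul_comm (n : ℤ), ← Finset.card_univ (α := G),
        ← nsmul_eq_mul, ← Finset.sum_const, ← Finset.sum_add_distrib]
      exact Finset.sum_congr rfl fun g _ => by ring
    rw [this, hs1]
    have h2 : (2 : ℤ) * Fintype.card G ≤ ((∑ g : G, π g ^ 2 : ℕ) : ℤ) := by exact_mod_cast hs2
    nlinarith [h2]
  have hneg : ∀ g ∈ Finset.univ.filter (fun g : G => ¬ π g = 0), ((π g : ℤ) - 1) * ((π g : ℤ) - n) ≤ 0 := by
    intro g hg
    have h1 : (1 : ℤ) ≤ π g := by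
      have := (Finset.mem_filter.mp hg).2
      omega
    have h2 : (π g : ℤ) ≤ n := by exact_mod_cast hle g
    nlinarith
  rw [Nat.card_eq_fintype_card]
  rcases lt_or_ge (Fintype.card G) (n * D) with h | h
  · exact Or.inr h
  left
  have hz : ∑ g ∈ Finset.univ.filter (fun g : G => ¬ π g = 0), ((π g : ℤ) - 1) * ((π g : ℤ) - n) = 0 := by
    have h' : (n : ℤ) * D ≤ Fintype.card G := by exact_mod_cast h
    have := Finset.sum_nonpos hneg
    linarith [hkey, htot]
  have hone : ∀ g : G, g ≠ 1 → π g ≤ 1 := by
    intro g hg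
    by_contra hlt
    push Not at hlt
    have h0 := (Finset.sum_eq_zero_iff_of_nonpos hneg).mp hz g
      (Finset.mem_filter.mpr ⟨Finset.mem_univ _, by omega⟩)
    rcases mul_eq_zero.mp h0 with h0 | h0
    · omega
    · have hall : π g = n := by omega
      apply hg
      apply eq_of_smul_eq_smul (α := Ω)
      intro ω
      rw [one_smul]
      by_contra hω
      have : π g < n := Fintype.card_subtype_lt (p := fun x : Ω => g • x = x) hω
      omega
  have hDn : n * D = Fintype.card G := by
    refine le_antisymm h ?_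
    have : (Fintype.card G : ℤ) ≤ (n : ℤ) * D := by linarith [hkey, htot]
    exact_mod_cast this
  have hsum : Fintype.card G + D + 1 = Fintype.card G + n := by
    have hpi1 : π 1 = n := Fintype.card_congr (Equiv.subtypeUnivEquiv fun ω => one_smul G ω)
    have hfun : ∑ g : G, (π g + (if π g = 0 then 1 else 0) + (if g = 1 then 1 else 0)) =
        ∑ g : G, (1 + (if g = 1 then n else 0)) := by
      refine Finset.sum_congr rfl fun g _ => ?_
      by_cases hg : g = 1
      · subst hg
        rw [hpi1, if_neg (by omega), if_pos rfl, if_pos rfl]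
        omega
      · have := hone g hg
        rw [if_neg hg, if_neg hg]
        split <;> omega
    simp only [Finset.sum_add_distrib, hs1, ← Finset.card_filter, ← hD', Finset.sum_ite_eq',
      Finset.mem_univ, if_true, Finset.sum_const, Finset.card_univ, smul_eq_mul, mul_one,
      Finset.card_filter] at hfun
    rw [hD', Finset.card_filter]
    exact hfun
  have hG : Fintype.card G = n * (n - 1) := by rw [← hDn, show D = n - 1 by omega]
  refine ⟨⟨htr, ?_, fun g hg => ?_⟩, hG, hDn⟩
  · by_contra hno
    push Not at hno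
    have hsub : D + 1 = Fintype.card G := by
      rw [hD', ← Finset.card_univ, show (Finset.univ.filter fun g : G => π g = 0) = Finset.univ.erase 1 from ?_,
        Finset.card_erase_add_one (Finset.mem_univ _)]
      ext g
      simp only [Finset.mem_filter, Finset.mem_univ, true_and, Finset.mem_erase, and_true, hder]
      refine ⟨fun h1 h2 => ?_, fun h1 ω => hno g h1 ω⟩
      exact h1 (Classical.arbitrary Ω) (by rw [h2, one_smul])
    rw [hG] at hsub
    have h2 : n * (n - 1) ≥ 2 * n := by
      rw [mul_comm 2 n]; exact Nat.mul_le_mul_left n (by omega)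
    omega
  · rw [Nat.card_eq_fintype_card]
    exact hone g hg

end Cfsg.Agent.S5729
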