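import Cfsg.Statements.S5737
import Mathlib
import Cfsg.Agent.Lib.SuzukiBinary.Tori
import Cfsg.Agent.Lib.SuzukiSp4.Iso

set_option autoImplicit false
open Cfsg

namespace Cfsg.Agent.S5737

open Cfsg.Agent.Lib Cfsg.Agent.Lib.Suzuki Cfsg.Agent.Lib.SuzukiSubgroups Cfsg.Agent.Lib.SuzukiSolv
open Cfsg.Agent.Lib.SuzukiBinary MulAction

section
variable {F : Type*} [Field F] [Fintype F] {m : ℕ} (h : Hyp F m)
include h

theorem not_binary_subfield {k : ℕ} (hk : 1 ≤ k) (hkm : k < m) (hdiv : 2 * k + 1 ∣ 2 * m + 1) :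
    ¬ BinR (subSz h (2 ^ (2 * k + 1))) := by
  classical
  have := h.charP
  set z := 2 ^ (2 * k + 1) with hz
  have hz8 : 8 ≤ z := le_trans (by norm_num) (Nat.pow_le_pow_right two_pos (show 3 ≤ 2 * k + 1 by omega))
  let σ : F →+* F := iterateFrobenius F 2 (2 * k + 1)
  have hσ : ∀ x, σ x = x ^ z := fun x => iterateFrobenius_def 2 (2 * k + 1) x
  -- the entries lie in the subfield
  have hfixed : ∀ g ∈ subSz h z,
      Matrix.SpecialLinearGroup.map σ (g : Matrix.SpecialLinearGroup (Fin 4) F) = g := by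
    intro g hg
    induction hg using Subgroup.closure_induction with
    | mem g hg =>
      have hθ : ∀ x, σ x = x → σ (theta m x) = theta m x := fun x hx => by
        rw [theta, map_pow, hx]
      rcases hg with (⟨a, b, ha, hb, rfl⟩ | ⟨u, hu, rfl⟩) | rfl
      · rw [← hσ] at ha hb
        refine Subtype.ext ?_
        show (σ.mapMatrix (slT m a b : Matrix (Fin 4) (Fin 4) F)) = _
        ext i j
        fin_cases i <;> fin_cases j <;> simp [szT, slT, ha, hb, hθ a ha, hθ b hb, ovFun_eq]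
      · rw [← hσ] at hu
        refine Subtype.ext ?_
        show (σ.mapMatrix (slH m u : Matrix (Fin 4) (Fin 4) F)) = _
        ext i j
        fin_cases i <;> fin_cases j <;> simp [szH, slH, hu, hθ _ hu]
      · refine Subtype.ext ?_
        show (σ.mapMatrix (slW F : Matrix (Fin 4) (Fin 4) F)) = _
        ext i j
        fin_cases i <;> fin_cases j <;> simp [szW, slW]
    | one => exact map_one _
    | mul x y _ _ hx hy => rw [Subgroup.coe_mul, map_mul, hx, hy]
    | inv x _ hx => rw [Subgroup.coe_inv, map_inv, hx]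
  have hq : Fintype.card F = 2 ^ (2 * m + 1) := h.hF
  obtain ⟨v, hv⟩ : ∃ v : F, v ^ z ≠ v := by
    by_contra hall
    push Not at hall
    have h1 := ncard_fixed_le (F := F) (z := z) (by omega)
    rw [show {x : F | x ^ z = x} = Set.univ from Set.eq_univ_of_forall hall, Set.ncard_univ,
      Nat.card_eq_fintype_card, hq, hz] at h1
    have := (Nat.pow_le_pow_iff_right (le_refl 2)).1 h1
    omega
  have hv0 : v ≠ 0 := fun e => hv (by rw [e, zero_pow (by omega)])
  obtain ⟨u, hu, hu1⟩ : ∃ u : Fˣ, u ^ (z - 1) = 1 ∧ u ≠ 1 := by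
    obtain ⟨g, hg⟩ := IsCyclic.exists_ofOrder_eq_natCard (α := Fˣ)
    rw [Nat.card_units, Nat.card_eq_fintype_card, hq] at hg
    obtain ⟨c, hc⟩ := hdiv
    have hd : z - 1 ∣ 2 ^ (2 * m + 1) - 1 := by
      rw [hc, pow_mul, ← hz]
      simpa using Nat.sub_dvd_pow_sub_pow z 1 c
    obtain ⟨r, hr⟩ := hd
    refine ⟨g ^ r, by rw [← pow_mul, mul_comm, ← hr, ← hg]; exact pow_orderOf_eq_one g, fun e => ?_⟩
    have h1 := orderOf_dvd_of_pow_eq_one e
    rw [hg, hr] at h1
    have hr0 : 0 < r := by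
      rcases Nat.eq_zero_or_pos r with rfl | h0
      · exfalso
        rw [mul_zero] at hr
        have : 2 ^ 1 ≤ 2 ^ (2 * m + 1) := Nat.pow_le_pow_right two_pos (by omega)
        omega
      · exact h0
    have h2 := Nat.le_of_dvd hr0 h1
    have : 2 * r ≤ (z - 1) * r := Nat.mul_le_mul_right r (by omega)
    omega
  have huz : (u : F) ^ z = u := by
    have := congrArg Units.val hu
    rw [Units.val_pow_eq_pow_val, Units.val_one] at this
    calc (u : F) ^ z = (u : F) ^ (z - 1) * u := by rw [← pow_succ]; congr 1; omega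
      _ = u := by rw [this, one_mul]
  set V := Units.mk0 v hv0
  have hT : szT h 0 1 ∈ subSz h z :=
    Subgroup.subset_closure (Or.inl (Or.inl ⟨0, 1, zero_pow (by omega), one_pow z, rfl⟩))
  have hH : szH h u ∈ subSz h z := Subgroup.subset_closure (Or.inl (Or.inr ⟨u, huz, rfl⟩))
  refine not_binary_split h (p := szH h V) hu1 hT one_ne_zero hH ?_ ?_
  · rwa [szH_inv, szH_mul, szH_mul, mul_comm V⁻¹ u, inv_mul_cancel_right]
  intro g hg hg'
  set M : Matrix (Fin 4) (Fin 4) F := szMat (F := F) (m := m) g with hM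
  set M' : Matrix (Fin 4) (Fin 4) F := szMat (F := F) (m := m) ((szH h V)⁻¹ * g * szH h V) with hM'
  have hfe : ∀ x ∈ subSz h z, ∀ i j, σ (szMat (F := F) (m := m) x i j) = szMat (F := F) (m := m) x i j :=
    fun x hx i j => congrFun (congrFun (congrArg Subtype.val (hfixed x hx)) i) j
  let d : Fin 4 → F := ![v * theta m v, v, v⁻¹, (v * theta m v)⁻¹]
  have hrel : ∀ i j, d i * M' i j = M i j * d j := by
    intro i j
    have e : szMat (F := F) (m := m) (szH h V) * M' = M * szMat (F := F) (m := m) (szH h V) := by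
      rw [hM, hM', ← map_mul, ← map_mul, show szH h V * ((szH h V)⁻¹ * g * szH h V) = g * szH h V by group]
    have e' := congrFun (congrFun e i) j
    have hdiag : szMat (F := F) (m := m) (szH h V) = Matrix.diagonal d := by
      ext a b
      fin_cases a <;> fin_cases b <;> simp [szMat, szH, slH, d, V]
    rwa [hdiag, Matrix.diagonal_mul, Matrix.mul_diagonal] at e'
  have hts := theta_ne_zero (m := m) hv0
  have hd0 : ∀ i, d i ≠ 0 := fun i => by fin_cases i <;> simp [d, hv0, hts]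
  have hoff : ∀ i j, M i j ≠ 0 → (d j / d i) ^ z = d j / d i := by
    intro i j hij
    have e1 := congrArg σ (hrel i j)
    rw [map_mul, map_mul, hM', hM, hfe _ hg', hfe _ hg, hσ, hσ, ← hM, ← hM'] at e1
    have e2 := hrel i j
    have := hd0 i
    have hd' : d i ^ z ≠ 0 := pow_ne_zero _ (hd0 i)
    rw [div_pow, div_eq_div_iff hd' (hd0 i)]
    refine mul_left_cancel₀ hij ?_
    linear_combination (d i ^ z) * e2 - (d i) * e1
  -- injective monomials
  have i1 : ∀ r : F, r ^ z = r → r = theta m v → False := fun r hr e => hv <| h.theta_injective (by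
    rw [theta_pow, ← e]; exact hr)
  have i2 : ∀ r : F, r ^ z = r → r = theta m v * v ^ 2 → False := fun r hr e => hv <| by
    have : theta m (v ^ z) * (v ^ z) ^ 2 = theta m v * v ^ 2 := by
      rw [theta_pow, ← pow_mul, mul_comm z 2, pow_mul, ← mul_pow, ← e]; exact hr
    have h1 := h.eq_one_of_theta_mul_sq (u := v ^ z / v) (div_ne_zero (pow_ne_zero _ hv0) hv0) (by
      rw [div_eq_mul_inv (v ^ z), theta_mul, theta_inv, mul_pow, inv_pow,
        show theta m (v ^ z) * (theta m v)⁻¹ * ((v ^ z) ^ 2 * (v ^ 2)⁻¹) =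
          (theta m (v ^ z) * (v ^ z) ^ 2) * (theta m v * v ^ 2)⁻¹ by rw [mul_inv]; ring, this,
        mul_inv_cancel₀ (mul_ne_zero hts (pow_ne_zero 2 hv0))])
    exact (div_eq_one_iff_eq hv0).1 h1
  have hsq : ∀ r : F, (r ^ 2) ^ z = r ^ 2 → r ^ z = r := fun r hr => by
    refine frobenius_inj F 2 ?_
    simp only [frobenius_def]
    rw [← pow_mul, mul_comm, pow_mul]; exact hr
  have i3 : ∀ r : F, r ^ z = r → r = v ^ 2 → False := fun r hr e => hv (hsq v (by rw [← e]; exact hr))
  have i4 : ∀ r : F, r ^ z = r → r = (v * theta m v) ^ 2 → False := fun r hr e => hv <| by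
    have h0 := hsq (v * theta m v) (by rw [← e]; exact hr)
    have h1 := h.eq_one_of_theta_mul (u := v ^ z / v) (div_ne_zero (pow_ne_zero _ hv0) hv0) (by
      rw [div_eq_mul_inv (v ^ z), theta_mul, theta_inv, theta_pow,
        show v ^ z * v⁻¹ * (theta m v ^ z * (theta m v)⁻¹) = (v * theta m v) ^ z * (v * theta m v)⁻¹ by
          rw [mul_inv, mul_pow]; ring, h0, mul_inv_cancel₀ (mul_ne_zero hv0 hts)])
    exact (div_eq_one_iff_eq hv0).1 h1
  have hinvz : ∀ r : F, r⁻¹ ^ z = r⁻¹ → r ^ z = r := fun r hr => inv_injective (by rw [← inv_pow]; exact hr)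
  have hzero : ∀ i j, i ≠ j → M i j = 0 := by
    intro i j hij
    by_contra hne
    have hr := hoff i j hne
    fin_cases i <;> fin_cases j
    all_goals first
      | exact hij rfl
      | (refine i1 _ hr ?_; simp [d]; field_simp; done)
      | (refine i2 _ hr ?_; simp [d]; field_simp; done)
      | (refine i3 _ hr ?_; simp [d]; field_simp; done)
      | (refine i4 _ hr ?_; simp [d]; field_simp; done)
      | (refine i1 _ (hinvz _ (by rw [inv_div]; exact hr)) ?_; simp [d]; field_simp; done)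
      | (refine i2 _ (hinvz _ (by rw [inv_div]; exact hr)) ?_; simp [d]; field_simp; done)
      | (refine i3 _ (hinvz _ (by rw [inv_div]; exact hr)) ?_; simp [d]; field_simp; done)
      | (refine i4 _ (hinvz _ (by rw [inv_div]; exact hr)) ?_; simp [d]; field_simp; done)
      | (refine i1 _ (hr) ?_; simp [d]; done)
      | (refine i1 _ (hinvz _ (by rw [inv_div]; exact hr)) ?_; simp [d]; done)
  have hfix : g • ovInf F m = ovInf F m ∧ g • ovAff m (0 : F) 0 = ovAff m (0 : F) 0 := by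
    refine ⟨Subtype.ext ?_, Subtype.ext ?_⟩
    · refine slSmulMk _ _ _ (M 0 0) ?_
      have := hzero 1 0 (by decide)
      have := hzero 2 0 (by decide)
      have := hzero 3 0 (by decide)
      ext i
      fin_cases i <;> simp_all [M, szMat, Matrix.mulVec, dotProduct, Fin.sum_univ_four]
    · refine slSmulMk _ _ _ (M 3 3) ?_
      have := hzero 0 3 (by decide)
      have := hzero 1 3 (by decide)
      have := hzero 2 3 (by decide)
      ext i
      fin_cases i <;> simp_all [M, szMat, avec, ovFun, Matrix.mulVec, dotProduct, Fin.sum_univ_four]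
  exact mem_split_of_fix h hfix.1 hfix.2

theorem transl_case {H : Subgroup (Cfsg.Sz F m)} (hb : BinR H) (hne : H ≠ ⊥) (hH : H ≤ transl h) :
    ∃ c, cmap c H = zsub h := by
  refine ⟨1, ?_⟩
  rw [cmap_one]
  by_cases hz : H ≤ zsub h
  · exact eq_zsub_of_binary h hz hne hb
  · exfalso
    obtain ⟨g, hg, hgz⟩ : ∃ g ∈ H, g ∉ zsub h := by
      by_contra hc
      push Not at hc
      exact hz hc
    obtain ⟨a, b, rfl⟩ := hH hg
    have ha : a ≠ 0 := fun e => hgz (e ▸ ⟨b, rfl⟩)
    obtain ⟨c, hc⟩ := conj_four_normal h a b ha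
    have hcinf : c • ovInf F m = ovInf F m := by
      refine SuzukiSylow.smul_inf_of_conj h (a := a) (b := b)
        (fun e => ha (szT_inj h (e.trans (szT_one h).symm)).1) ?_
      rcases hc with hc | hc <;> rw [hc]
      · exact szT_mem_transl h 1 0
      · exact inv_mem (szT_mem_transl h 1 0)
    have hcT : cmap c (transl h) = transl h := by rw [← transAt_inf h, cmap_transAt, hcinf]
    refine not_binary_four h (H := cmap c H) ((Subgroup.map_mono hH).trans hcT.le) ?_ (hb.map (MulAut.conj c))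
    rcases hc with hc | hc
    · exact ⟨_, hg, hc⟩
    · refine inv_mem_iff.1 ?_
      exact ⟨_, hg, hc⟩

theorem point_case {H : Subgroup (Cfsg.Sz F m)} (hb : BinR H) (hne : H ≠ ⊥)
    (hH : ∀ g ∈ H, g • ovInf F m = ovInf F m) : ∃ c, cmap c H = zsub h := by
  by_cases hT : H ≤ transl h
  · exact transl_case h hb hne hT
  obtain ⟨x, hxH, hxT⟩ : ∃ x ∈ H, x ∉ transl h := by
    by_contra hc
    push Not at hc
    exact hT hc
  exfalso
  have hx1 : x ≠ 1 := fun e => hxT (e ▸ one_mem _)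
  by_cases htriv : ∀ g ∈ H, g ∈ transl h → g = 1
  · -- an abelian complement
    have hcomm : ∀ a ∈ H, ∀ b ∈ H, a * b = b * a := by
      intro a ha b hb'
      have hmem : a * b * (b * a)⁻¹ ∈ H := mul_mem (mul_mem ha hb') (inv_mem (mul_mem hb' ha))
      refine mul_inv_eq_one.1 (htriv _ hmem ?_)
      refine (lam_eq_one h (g := ⟨_, hH _ hmem⟩)).1 ?_
      let A : stabilizer (Cfsg.Sz F m) (ovInf F m) := ⟨a, hH a ha⟩
      let B : stabilizer (Cfsg.Sz F m) (ovInf F m) := ⟨b, hH b hb'⟩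
      show lam h (A * B * (B * A)⁻¹) = 1
      have h1 : lam h (B * A) * lam h (B * A)⁻¹ = 1 := by rw [← map_mul, mul_inv_cancel, map_one]
      rw [map_mul, map_mul, mul_comm (lam h A), ← map_mul, h1]
    rcases exists_member h hx1 with ⟨p, hp⟩ | ⟨U, hU, hxU⟩
    · have := eq_of_mem_transAt h hp hx1 (hH x hxH)
      exact hxT (transAt_inf h ▸ this ▸ hp)
    · exact not_binary_cyc h hU (fun g hg => by
        rw [← cyc_centralizer h hU hxU hx1, Subgroup.mem_centralizer_singleton_iff]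
        exact hcomm g hg x hxH) hxH hx1 hb
  · push Not at htriv
    obtain ⟨t, htH, htT, ht1⟩ := htriv
    obtain ⟨l, u, hu, he⟩ := (eq_conj_of_fix_inf h hx1 (hH x hxH)).resolve_left hxT
    obtain ⟨j, hj, v, hv, hjx⟩ : ∃ j : Cfsg.Sz F m, j • ovInf F m = ovInf F m ∧
        ∃ v : Fˣ, v ≠ 1 ∧ j * x * j⁻¹ = szH h v := by
      have hfix : szH h u • l⁻¹ • ovInf F m = l⁻¹ • ovInf F m := by
        have := hH x hxH
        rw [he, mul_smul, mul_smul] at this
        exact eq_inv_smul_iff.2 this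
      rcases fix_szH h hu hfix with e | e
      · exact ⟨l⁻¹, e, u, hu, by rw [he]; group⟩
      · refine ⟨szW h * l⁻¹, by rw [mul_smul, e, szW_zero], u⁻¹, inv_ne_one.2 hu, ?_⟩
        rw [he, show szW h * l⁻¹ * (l * szH h u * l⁻¹) * (szW h * l⁻¹)⁻¹ = szW h * szH h u * (szW h)⁻¹ by group,
          szW_inv, szW_mul_szH, mul_assoc, szW_mul_self, mul_one]
    have hjT : cmap j (transl h) = transl h := by rw [← transAt_inf h, cmap_transAt, hj]
    obtain ⟨d₀, hd, hd0⟩ : ∃ d₀, szT h 0 d₀ ∈ cmap j H ∧ d₀ ≠ 0 := by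
      obtain ⟨a, b, e⟩ : j * t * j⁻¹ ∈ transl h := hjT ▸ (⟨t, htT, rfl⟩ : j * t * j⁻¹ ∈ cmap j (transl h))
      have hm : szT h a b ∈ cmap j H := ⟨t, htH, e⟩
      by_cases ha : a = 0
      · refine ⟨b, ha ▸ hm, fun hb0 => ht1 ?_⟩
        rw [ha, hb0, szT_one] at e
        exact conj_eq_one_iff.1 e
      · refine ⟨theta m a * a, ?_, mul_ne_zero (theta_ne_zero ha) ha⟩
        have := mul_mem hm hm
        rwa [szT_mul, h.add_self, h.add_self, zero_add] at this
    have hstab : ∀ g ∈ cmap j H, g • ovInf F m = ovInf F m := by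
      rintro _ ⟨g, hg, rfl⟩
      show (j * g * j⁻¹) • ovInf F m = _
      rw [mul_smul, mul_smul, inv_smul_eq_iff.2 hj.symm, hH g hg, hj]
    have hk : szH h v ∈ cmap j H := ⟨x, hxH, hjx⟩
    refine not_binary_split h (p := szW h) hv hd hd0 hk ?_ ?_ (hb.map (MulAut.conj j))
    · rw [szW_inv, szW_mul_szH, mul_assoc, szW_mul_self, mul_one, ← szH_inv]
      exact inv_mem hk
    · intro g hg hg'
      refine mem_split_of_fix h (hstab g hg) ?_
      have h2 := hstab _ hg'
      rwa [mul_smul, mul_smul, szW_inv, szW_inf, ← szW_inv, inv_smul_eq_iff, szW_inf] at h2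

theorem point_case' {H : Subgroup (Cfsg.Sz F m)} (hb : BinR H) (hne : H ≠ ⊥) {p : Cfsg.suzukiOvoid F m}
    (hH : ∀ g ∈ H, g • p = p) : ∃ c, cmap c H = zsub h := by
  obtain ⟨k, rfl⟩ := exists_move h p
  obtain ⟨c, hc⟩ := point_case h (H := cmap k⁻¹ H) (hb.map (MulAut.conj k⁻¹))
    (fun e => hne ((Subgroup.map_eq_bot_iff_of_injective _ (MulAut.conj k⁻¹).injective).1 e)) (by
      rintro _ ⟨g, hg, rfl⟩
      show (k⁻¹ * g * k⁻¹⁻¹) • ovInf F m = _
      rw [inv_inv, mul_smul, mul_smul, hH g hg, inv_smul_smul])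
  exact ⟨c * k⁻¹, by rw [← cmap_cmap, hc]⟩

theorem binary_main {H : Subgroup (Cfsg.Sz F m)} (hb : BinR H) (hne : H ≠ ⊥) (htop : H ≠ ⊤) :
    ∃ c, cmap c H = zsub h := by
  have := SuzukiSylow.finite_Sz h
  by_cases hab : NoAb H
  · exfalso
    obtain ⟨k, hk, hkm, hdiv, c, hc⟩ := classify h hab hne htop
    exact not_binary_subfield h hk hkm hdiv (hc ▸ hb.map (MulAut.conj c))
  simp only [NoAb, not_forall] at hab
  obtain ⟨A, hAM, hinv, hcomm, hA⟩ := hab
  obtain ⟨a, ha, ha1⟩ := A.bot_or_exists_ne_one.resolve_left hA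
  have hconjA : ∀ x ∈ H, x * a * x⁻¹ ∈ A := fun x hx => hinv x hx ⟨a, ha, rfl⟩
  rcases exists_member h ha1 with ⟨p, hp⟩ | ⟨U, hU, haU⟩
  · refine point_case' h hb hne (p := p) fun x hx => ?_
    have h1 : (x⁻¹ * a * x⁻¹⁻¹) • p = p :=
      fix_comm h hp ha1 (hcomm _ (hconjA x⁻¹ (inv_mem hx)) a ha)
    refine eq_of_mem_transAt h hp ha1 ?_
    rw [inv_inv, mul_smul, mul_smul, inv_smul_eq_iff] at h1
    exact h1
  · exfalso
    have hHN : H ≤ Subgroup.normalizer (U : Set (Cfsg.Sz F m)) := fun x hx => by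
      rw [mem_normalizer_iff_cmap]
      refine cyc_eq_of_mem h (cycU_cmap h hU x) hU ⟨a, haU, rfl⟩ ?_ (fun e => ha1 (conj_eq_one_iff.1 e))
      rw [← cyc_centralizer h hU haU ha1, Subgroup.mem_centralizer_singleton_iff]
      exact hcomm _ (hconjA x hx) a ha
    by_cases hle : H ≤ U
    · exact not_binary_cyc h hU hle (hAM ha) ha1 hb
    · exact not_binary_normalizer h hU hHN (hAM ha) haU ha1 hle hb

theorem map_center_transl :
    (Subgroup.center (transl h)).map (transl h).subtype = zsub h := by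
  ext g
  constructor
  · rintro ⟨t, ht, rfl⟩
    obtain ⟨b, e⟩ := (center_transl h).1 ht
    exact ⟨b, e⟩
  · rintro ⟨b, rfl⟩
    exact ⟨⟨_, szT_mem_transl h 0 b⟩, (center_transl h).2 ⟨b, rfl⟩, rfl⟩

end

/-- Images of centres under isomorphisms of the ambient group. -/
theorem map_center {G G' : Type*} [Group G] [Group G'] (e : G ≃* G') (S : Subgroup G) :
    ((Subgroup.center S).map S.subtype).map e.toMonoidHom =
      (Subgroup.center (S.map e.toMonoidHom)).map (S.map e.toMonoidHom).subtype := by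
  ext g
  constructor
  · rintro ⟨_, ⟨t, ht, rfl⟩, rfl⟩
    refine ⟨⟨_, t, t.2, rfl⟩, Subgroup.mem_center_iff.2 ?_, rfl⟩
    rintro ⟨_, y, hy, rfl⟩
    refine Subtype.ext ?_
    show e y * e t = e t * e y
    rw [← map_mul, ← map_mul]
    exact congrArg e (congrArg Subtype.val (Subgroup.mem_center_iff.1 ht ⟨y, hy⟩))
  · rintro ⟨⟨_, y, hy, rfl⟩, ht, rfl⟩
    refine ⟨y, ⟨⟨y, hy⟩, Subgroup.mem_center_iff.2 fun z => Subtype.ext (e.injective ?_), rfl⟩, rfl⟩
    show e ((z : G) * y) = e (y * z)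
    rw [map_mul, map_mul]
    exact congrArg Subtype.val (Subgroup.mem_center_iff.1 ht ⟨e z, z, z.2, rfl⟩)

/-- Let G = Sz(q) be a Suzuki group, q = 2^(2a+1) with a ≥ 1 (realised inside Sp₄ over the field with q elements), and let H be a proper subgroup of G. Then the action of G on the cosets of H is binary if and only if H is trivial or H is the centre of a Sylow 2-subgroup of G. Here an action is binary (relational complexity 2) when, for every n ≥ 2 and all n-tuples I, J of points, if for every pair of positions some group element carries the corresponding pair of entries of I to those of J, then a single group element carries I to J. -/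
theorem result {F : Type*} [Field F] [Fintype F] (a : ℕ) (ha : 1 ≤ a) (hF : Fintype.card F = 2 ^ (2 * a + 1))
    (H : Subgroup (Cfsg.Lie.Sz F (2 ^ (a + 1)))) (hH : H ≠ ⊤) :
    (∀ (n : ℕ) (I J : Fin n → (Cfsg.Lie.Sz F (2 ^ (a + 1))) ⧸ H), 2 ≤ n →
        (∀ i j : Fin n, i ≠ j → ∃ g : (Cfsg.Lie.Sz F (2 ^ (a + 1))), g • I i = J i ∧ g • I j = J j) → ∃ g : (Cfsg.Lie.Sz F (2 ^ (a + 1))), ∀ i, g • I i = J i) ↔
      (H = ⊥ ∨ ∃ P : Sylow 2 (Cfsg.Lie.Sz F (2 ^ (a + 1))), H = (Subgroup.center (P : Subgroup (Cfsg.Lie.Sz F (2 ^ (a + 1))))).map (P : Subgroup (Cfsg.Lie.Sz F (2 ^ (a + 1)))).subtype) := by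
  have h : Hyp F a := ⟨ha, hF⟩
  have := SuzukiSylow.finite_Sz h
  let e := SuzukiSp4.szEquiv h
  have hfin : Finite (Cfsg.Lie.Sz F (2 ^ (a + 1))) := Finite.of_equiv _ e.toEquiv
  rw [binR_iff]
  set H₀ := H.map e.symm.toMonoidHom with hH₀
  have hback : H₀.map e.toMonoidHom = H := by
    rw [hH₀, Subgroup.map_map]
    ext g
    simp
  have hiff : BinR H ↔ BinR H₀ :=
    ⟨fun hb => hb.map e.symm, fun hb => hback ▸ hb.map e⟩
  rw [hiff]
  constructor
  · intro hb
    rcases eq_or_ne H ⊥ with rfl | hne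
    · exact Or.inl rfl
    refine Or.inr ?_
    obtain ⟨c, hc⟩ := binary_main h hb (fun e0 => hne (by rw [← hback, e0, Subgroup.map_bot]))
      (fun e0 => hH (by rw [← hback, e0, Subgroup.map_top_of_surjective e.toMonoidHom e.surjective]))
    have := Fact.mk Nat.prime_two
    obtain ⟨Q⟩ := (inferInstance : Nonempty (Sylow 2 (Cfsg.Sz F a)))
    obtain ⟨x, hx⟩ := SuzukiSylow.exists_conj_transl h Q
    let f : Cfsg.Sz F a ≃* Cfsg.Lie.Sz F (2 ^ (a + 1)) := (MulAut.conj (x⁻¹)).trans ((MulAut.conj c⁻¹).trans e)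
    let P : Sylow 2 (Cfsg.Lie.Sz F (2 ^ (a + 1))) := Q.mapSurjective (f := f.toMonoidHom) f.surjective
    refine ⟨P, ?_⟩
    have hP : (P : Subgroup (Cfsg.Lie.Sz F (2 ^ (a + 1)))) = (transl h).map ((MulAut.conj c⁻¹).trans e).toMonoidHom := by
      show (Q : Subgroup (Cfsg.Sz F a)).map f.toMonoidHom = _
      rw [hx, Subgroup.map_map]
      congr 1
      ext g
      simp [f, mul_assoc]
    rw [hP, ← map_center, map_center_transl, ← hc, Subgroup.map_map]
    conv_lhs => rw [← hback]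
    congr 1
    ext g
    simp [mul_assoc]
  · rintro (rfl | ⟨P, rfl⟩)
    · rw [hH₀, Subgroup.map_bot]
      intro n I J hn hp
      let i₀ : Fin n := ⟨0, by omega⟩
      refine ⟨J i₀ * (I i₀)⁻¹, fun k => ?_⟩
      rcases eq_or_ne i₀ k with rfl | hk
      · simp [mul_assoc]
      obtain ⟨g, h0, hk'⟩ := hp i₀ k hk
      rw [Subgroup.mem_bot] at h0 hk' ⊢
      rw [← hk', show J i₀ = g * I i₀ by rw [mul_assoc, inv_mul_eq_one] at h0; exact h0, mul_inv_cancel_right]
    · have := Fact.mk Nat.prime_two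
      let Q : Sylow 2 (Cfsg.Sz F a) := P.mapSurjective (f := e.symm.toMonoidHom) e.symm.surjective
      obtain ⟨x, hx⟩ := SuzukiSylow.exists_conj_transl h Q
      have hQ : (P : Subgroup (Cfsg.Lie.Sz F (2 ^ (a + 1)))).map e.symm.toMonoidHom =
          (transl h).map (MulAut.conj x).toMonoidHom := hx
      rw [hH₀, map_center, hQ, ← map_center, map_center_transl]
      exact (binary_zsub h).map (MulAut.conj x)

end Cfsg.Agent.S5737
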