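import Cfsg.Statements.S5738
import Mathlib

set_option autoImplicit false
set_option linter.style.haveILetI false
open Cfsg

namespace Cfsg.Agent.S5738


variable {F K : Type*} [Field F] [Field K] [Algebra F K]

/-- The Singer group of multiplications by non-zero elements. -/
noncomputable def singer (F K : Type*) [Field F] [Field K] [Algebra F K] : Subgroup (Module.End F K)ˣ :=
  (Units.map ((Algebra.lmul F K : K →ₐ[F] Module.End F K) : K →* Module.End F K)).range

theorem mem_singer_iff (g : (Module.End F K)ˣ) :
    g ∈ singer F K ↔ ∃ a : K, ∀ v, (g : Module.End F K) v = a * v := by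
  constructor
  · rintro ⟨u, rfl⟩
    exact ⟨u, fun v => rfl⟩
  · rintro ⟨a, ha⟩
    have ha0 : a ≠ 0 := by
      intro h
      have h1 := LinearMap.congr_fun g.inv_mul 1
      have h2 : (g : Module.End F K) 1 = 0 := by rw [ha, h, zero_mul]
      have h3 : ((g⁻¹ : (Module.End F K)ˣ) : Module.End F K) ((g : Module.End F K) 1) = 1 := h1
      rw [h2, map_zero] at h3
      exact zero_ne_one h3
    exact ⟨Units.mk0 a ha0, Units.ext (LinearMap.ext fun v => (ha v).symm)⟩

theorem card_singer [Finite K] : Nat.card (singer F K) = Nat.card Kˣ := by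
  refine (Nat.card_congr (MonoidHom.ofInjective ?_).toEquiv).symm
  intro a b h
  have := congrArg (fun g : (Module.End F K)ˣ => (g : Module.End F K) 1) h
  exact Units.ext (by simpa using this)

theorem semilinear_of_mem_normalizer {g : (Module.End F K)ˣ}
    (hg : g ∈ Subgroup.normalizer (singer F K : Set (Module.End F K)ˣ)) (a v : K) :
    ∃ c : K, ∀ w, (g : Module.End F K) (a * w) = c * (g : Module.End F K) w := by
  rcases eq_or_ne a 0 with rfl | ha
  · exact ⟨0, fun w => by simp⟩
  · have hL : Units.map ((Algebra.lmul F K : K →ₐ[F] Module.End F K) : K →* Module.End F K)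
        (Units.mk0 a ha) ∈ singer F K := ⟨_, rfl⟩
    rw [Subgroup.mem_normalizer_iff_map_conj_eq] at hg
    have h2 : MulAut.conj g (Units.map ((Algebra.lmul F K : K →ₐ[F] Module.End F K) : K →* Module.End F K)
        (Units.mk0 a ha)) ∈ singer F K := by
      rw [← hg]; exact ⟨_, hL, rfl⟩
    obtain ⟨c, hc⟩ := (mem_singer_iff _).mp h2
    refine ⟨c, fun w => ?_⟩
    have h3 := hc ((g : Module.End F K) w)
    rw [MulAut.conj_apply, Units.val_mul, Units.val_mul, Module.End.mul_apply, Module.End.mul_apply] at h3
    rw [← h3]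
    have h4 : ((g⁻¹ : (Module.End F K)ˣ) : Module.End F K) ((g : Module.End F K) w) = w :=
      LinearMap.congr_fun g.inv_mul w
    rw [h4]
    rfl

theorem card_normalizer [Finite K] [Finite F] :
    Nat.card (Subgroup.normalizer (singer F K : Set (Module.End F K)ˣ)) =
      Nat.card (K ≃ₐ[F] K) * Nat.card Kˣ := by
  let t : (K ≃ₐ[F] K) × Kˣ → (Module.End F K)ˣ := fun x =>
    Units.map ((Algebra.lmul F K : K →ₐ[F] Module.End F K) : K →* Module.End F K) x.2 *
      ⟨x.1.toLinearMap, x.1.symm.toLinearMap, LinearMap.ext x.1.apply_symm_apply,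
        LinearMap.ext x.1.symm_apply_apply⟩
  have ht : ∀ x v, (t x : Module.End F K) v = (x.2 : K) * x.1 v := fun x v => rfl
  have hmem : ∀ x, t x ∈ Subgroup.normalizer (singer F K : Set (Module.End F K)ˣ) := by
    intro x
    rw [Subgroup.mem_normalizer_iff_map_conj_eq]
    haveI : Finite (singer F K) := Finite.of_surjective
      (Units.map ((Algebra.lmul F K : K →ₐ[F] Module.End F K) : K →* Module.End F K)).rangeRestrict
      (MonoidHom.rangeRestrict_surjective _)
    refine SetLike.coe_injective (Set.eq_of_subset_of_ncard_le ?_ ?_ (Set.toFinite _))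
    · rintro _ ⟨m, hm, rfl⟩
      obtain ⟨a, ha⟩ := (mem_singer_iff m).mp hm
      refine (mem_singer_iff _).mpr ⟨x.1 a, fun v => ?_⟩
      show ((t x * m * (t x)⁻¹ : (Module.End F K)ˣ) : Module.End F K) v = x.1 a * v
      have h4 : (t x : Module.End F K) ((((t x)⁻¹ : (Module.End F K)ˣ) : Module.End F K) v) = v :=
        LinearMap.congr_fun (t x).mul_inv v
      rw [Units.val_mul, Units.val_mul, Module.End.mul_apply, Module.End.mul_apply, ha, ht, map_mul]
      conv_rhs => rw [← h4, ht]
      ring
    · rw [Subgroup.coe_map]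
      exact (Set.ncard_image_of_injective _ (MulAut.conj (t x)).injective).symm.le
  refine ((Nat.card_congr (Equiv.ofBijective
    (fun x => (⟨t x, hmem x⟩ : Subgroup.normalizer (singer F K : Set (Module.End F K)ˣ))) ⟨?_, ?_⟩)).symm.trans
      (Nat.card_prod _ _))
  · rintro ⟨σ, u⟩ ⟨τ, w⟩ h
    have h1 : ∀ v, (u : K) * σ v = (w : K) * τ v := fun v =>
      congrArg (fun g : Subgroup.normalizer (singer F K : Set (Module.End F K)ˣ) =>
        ((g : (Module.End F K)ˣ) : Module.End F K) v) h
    have h2 : u = w := Units.ext (by simpa using h1 1)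
    subst h2
    simp only [Prod.mk.injEq, and_true]
    exact AlgEquiv.ext fun v => mul_left_cancel₀ u.ne_zero (h1 v)
  · rintro ⟨g, hg⟩
    set u : K := (g : Module.End F K) 1 with hu
    have hinj : Function.Injective (g : Module.End F K) := fun a b h => by
      have := congrArg (fun z => ((g⁻¹ : (Module.End F K)ˣ) : Module.End F K) z) h
      have h4 : ∀ w, ((g⁻¹ : (Module.End F K)ˣ) : Module.End F K) ((g : Module.End F K) w) = w :=
        LinearMap.congr_fun g.inv_mul
      simpa [h4] using this
    have hu0 : u ≠ 0 := fun h => one_ne_zero (hinj (h.trans (map_zero _).symm))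
    have hmul : ∀ a b, u⁻¹ * (g : Module.End F K) (a * b) =
        (u⁻¹ * (g : Module.End F K) a) * (u⁻¹ * (g : Module.End F K) b) := by
      intro a b
      obtain ⟨c, hc⟩ := semilinear_of_mem_normalizer hg a b
      have h1 := hc 1
      rw [mul_one, ← hu] at h1
      rw [hc b, h1]
      field_simp
    let f : K →ₐ[F] K := AlgHom.ofLinearMap (u⁻¹ • (g : Module.End F K))
      (show u⁻¹ * u = 1 from inv_mul_cancel₀ hu0) hmul
    have hf : Function.Bijective f := Finite.injective_iff_bijective.mp f.toRingHom.injective
    refine ⟨(AlgEquiv.ofBijective f hf, Units.mk0 u hu0), ?_⟩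
    apply Subtype.ext
    apply Units.ext
    ext v
    show u * (u⁻¹ * (g : Module.End F K) v) = (g : Module.End F K) v
    rw [← mul_assoc, mul_inv_cancel₀ hu0, one_mul]

/-- Let F ⊆ K be finite fields with |F| = q and [K : F] = n ≥ 2, so |K| = q^n. Regard K as an n-dimensional F-vector space; the multiplications by non-zero elements of K form a cyclic subgroup of GL_F(K) of order q^n − 1 acting regularly on the non-zero vectors (a Singer group). Its normaliser in GL_F(K) has order n·(q^n − 1). -/
theorem result {F K : Type*} [Field F] [Fintype F] [Field K] [Fintype K] [Algebra F K] (n : ℕ) (hn : 2 ≤ n) (hdim : Module.finrank F K = n) :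
    Nat.card (Subgroup.normalizer (((Units.map ((Algebra.lmul F K : K →ₐ[F] Module.End F K) : K →* Module.End F K)).range : Subgroup (Module.End F K)ˣ) : Set (Module.End F K)ˣ)) = n * (Fintype.card K - 1) := by
  change Nat.card (Subgroup.normalizer (singer F K : Set (Module.End F K)ˣ)) = _
  rw [card_normalizer, IsGalois.card_aut_eq_finrank, hdim, Nat.card_units, Nat.card_eq_fintype_card]

end Cfsg.Agent.S5738
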