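import Cfsg.Statements.S5739
import Mathlib
import Cfsg.Agent.S5738

set_option autoImplicit false
set_option linter.style.haveILetI false
open Cfsg

namespace Cfsg.Agent.S5739


open Cfsg.Agent.S5738 in
theorem inter_singer {F K : Type*} [Field F] [Fintype F] [Field K] [Fintype K] [Algebra F K]
    (g : (Module.End F K)ˣ) (hg : (singer F K).map (MulAut.conj g).toMonoidHom ≠ singer F K) :
    ∃ r : ℕ, 1 ≤ r ∧ r ∣ Module.finrank F K ∧ r < Module.finrank F K ∧
      Nat.card ↥((singer F K).map (MulAut.conj g).toMonoidHom ⊓ singer F K) = Fintype.card F ^ r - 1 := by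
  classical
  let φ : K →ₐ[F] Module.End F K :=
    AlgHom.ofLinearMap
      { toFun := fun a => (g : Module.End F K) * Algebra.lmul F K a * ((g⁻¹ : (Module.End F K)ˣ) : Module.End F K)
        map_add' := fun a b => by rw [map_add, mul_add, add_mul]
        map_smul' := fun c a => by rw [map_smul, mul_smul_comm, smul_mul_assoc, RingHom.id_apply] }
      (by show (g : Module.End F K) * Algebra.lmul F K 1 * _ = 1
          rw [map_one, mul_one, Units.mul_inv])
      (fun a b => by
        show (g : Module.End F K) * Algebra.lmul F K (a * b) * _ = _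
        rw [map_mul]
        simp [mul_assoc])
  let E : Subalgebra F K := (Algebra.lmul F K : K →ₐ[F] Module.End F K).range.comap φ
  have hfield : IsField E := Finite.isField_of_domain E
  let E' : IntermediateField F K := E.toIntermediateField' hfield
  let ι : E'ˣ →* Kˣ := Units.map (E'.val : E' →* K)
  let j : E'ˣ →* (Module.End F K)ˣ := (MulAut.conj g).toMonoidHom.comp
    ((Units.map ((Algebra.lmul F K : K →ₐ[F] Module.End F K) : K →* Module.End F K)).comp ι)
  have hj : Function.Injective j := by
    intro a b h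
    have h1 := (MulAut.conj g).injective h
    have h2 := congrArg (fun g : (Module.End F K)ˣ => (g : Module.End F K) 1) h1
    exact Units.ext (Subtype.ext (by simpa [ι] using h2))
  have hrange : j.range = (singer F K).map (MulAut.conj g).toMonoidHom ⊓ singer F K := by
    ext y
    constructor
    · rintro ⟨a, rfl⟩
      refine Subgroup.mem_inf.mpr ⟨⟨_, ⟨ι a, rfl⟩, rfl⟩, ?_⟩
      obtain ⟨c, hc⟩ := ((a : E') : E).2
      exact (mem_singer_iff _).mpr ⟨c, fun v => (LinearMap.congr_fun hc v).symm⟩
    · intro hy
      obtain ⟨⟨m, ⟨u, rfl⟩, rfl⟩, hy2⟩ := Subgroup.mem_inf.mp hy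
      obtain ⟨c, hc⟩ := (mem_singer_iff _).mp hy2
      have hu : (u : K) ∈ E' := ⟨c, LinearMap.ext fun v => (hc v).symm⟩
      refine ⟨Units.mk0 ⟨(u : K), hu⟩ (fun h => u.ne_zero (congrArg Subtype.val h)), ?_⟩
      exact congrArg (MulAut.conj g) (congrArg
        (Units.map ((Algebra.lmul F K : K →ₐ[F] Module.End F K) : K →* Module.End F K))
        (show ι (Units.mk0 ⟨(u : K), hu⟩ _) = u from Units.ext rfl))
  have hcard : Nat.card ↥((singer F K).map (MulAut.conj g).toMonoidHom ⊓ singer F K) =
      Fintype.card F ^ Module.finrank F E' - 1 := by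
    rw [← hrange, ← Nat.card_congr (MonoidHom.ofInjective hj).toEquiv, Nat.card_units,
      Module.natCard_eq_pow_finrank (K := F) (V := E'), Nat.card_eq_fintype_card]
  refine ⟨Module.finrank F E', Module.finrank_pos, Dvd.intro _ (Module.finrank_mul_finrank F E' K), ?_, hcard⟩
  refine lt_of_le_of_ne (Submodule.finrank_le (Subalgebra.toSubmodule E'.toSubalgebra)) fun heq => hg ?_
  have h1 : Nat.card ↥((singer F K).map (MulAut.conj g).toMonoidHom ⊓ singer F K) = Nat.card (singer F K) := by
    rw [hcard, card_singer, Nat.card_units, heq, ← Nat.card_eq_fintype_card (α := F),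
      ← Module.natCard_eq_pow_finrank (K := F) (V := K)]
  haveI : Finite (singer F K) := Nat.finite_of_card_ne_zero (by rw [card_singer]; exact Nat.card_pos.ne')
  have h2 := SetLike.coe_injective (Set.eq_of_subset_of_ncard_le
    (inf_le_right : (singer F K).map (MulAut.conj g).toMonoidHom ⊓ singer F K ≤ singer F K)
    (by rw [← Nat.card_coe_set_eq, ← Nat.card_coe_set_eq]; exact le_of_eq h1.symm) (Set.toFinite _))
  symm
  refine SetLike.coe_injective (Set.eq_of_subset_of_ncard_le ?_ ?_ ?_)
  · exact (h2.symm.le.trans inf_le_left)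
  · rw [Subgroup.coe_map]
    exact (Set.ncard_image_of_injective _ (MulAut.conj g).injective).le
  · rw [Subgroup.coe_map]
    exact (Set.toFinite _).image _

/-- Let F ⊆ K be finite fields with |F| = q and [K : F] = n ≥ 2, and let M ≤ GL_F(K) be the Singer group of multiplications by non-zero elements of K. If g ∈ GL_F(K) does not normalise M, then the order of M ∩ gMg⁻¹ divides q^r − 1 for some proper divisor r of n. In particular, when n is prime, that order divides q − 1. -/
theorem result {F K : Type*} [Field F] [Fintype F] [Field K] [Fintype K] [Algebra F K] (n : ℕ) (hn : 2 ≤ n) (hdim : Module.finrank F K = n)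
    (g : (Module.End F K)ˣ) (hg : ((Units.map ((Algebra.lmul F K : K →ₐ[F] Module.End F K) : K →* Module.End F K)).range).map (MulAut.conj g).toMonoidHom ≠ (Units.map ((Algebra.lmul F K : K →ₐ[F] Module.End F K) : K →* Module.End F K)).range) :
    ∃ r : ℕ, 1 ≤ r ∧ r ∣ n ∧ r < n ∧ Nat.card ↥(((Units.map ((Algebra.lmul F K : K →ₐ[F] Module.End F K) : K →* Module.End F K)).range).map (MulAut.conj g).toMonoidHom ⊓ (Units.map ((Algebra.lmul F K : K →ₐ[F] Module.End F K) : K →* Module.End F K)).range) ∣ Fintype.card F ^ r - 1 := by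
  obtain ⟨r, h1, h2, h3, h4⟩ := inter_singer g hg
  refine ⟨r, h1, hdim ▸ h2, hdim ▸ h3, ?_⟩
  exact dvd_of_eq h4

end Cfsg.Agent.S5739
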