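import Cfsg.Statements.S5742
import Cfsg.Agent.Lib.Fi22TE6.Setup
import Cfsg.Agent.Lib.Fi22TE6.Outer
import Cfsg.Agent.Lib.Compute.AutBound
import Cfsg.Agent.S2079

set_option autoImplicit false
open Cfsg

namespace Cfsg.Agent.S5742

open Cfsg.Agent.Lib.Fi22TE6

/-- The simple group ²E₆(2) (the twisted group of type E₆ over the field with 4 elements) contains at least three pairwise non-conjugate subgroups isomorphic to the Fischer group Fi₂₂. -/
theorem result {K : Type*} [Field K] [Fintype K] (hK : Fintype.card K = 4) :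
    ∃ H : Fin 3 → Subgroup (Cfsg.Lie.twistedE6 K 2),
      (∀ i, Cfsg.Spor.IsoFi22 (H i)) ∧
      (∀ i j, i ≠ j → ∀ g : (Cfsg.Lie.twistedE6 K 2), (H i).map (MulAut.conj g).toMonoidHom ≠ H j) := by
  obtain ⟨hC, ω, hω⟩ := exists_omega hK
  haveI := hC
  let e : Cfsg.Spor.Fi22 ≃* (fiHom ω hω).range := MonoidHom.ofInjective (fiHom_injective ω hω)
  obtain ⟨Hs, hiso, hne⟩ := three_classes hK (fiHom ω hω).range
    (by rintro _ ⟨g, rfl⟩; exact fiHom_mem ω hω g)
    (commutant_of_nodes ω hω _ fun x _ => ⟨_, fiHom_of ω hω x⟩)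
    (by rw [← Cfsg.Agent.Lib.Compute.card_out_congr e]; exact Cfsg.Agent.S2079.result)
  exact ⟨Hs, fun i => ⟨(hiso i).some.trans e.symm⟩, hne⟩

end Cfsg.Agent.S5742
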