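import Cfsg.Statements.S5743
import Mathlib
import Cfsg.Agent.Lib.Chev16.F4InE6Classes

set_option autoImplicit false
open Cfsg

namespace Cfsg.Agent.S5743

open Cfsg.Lie Cfsg.Agent.Lib.Chev Cfsg.Agent.Lib.Chev16


/-- The simple group ²E₆(2) (the twisted group of type E₆ over the field with 4 elements) contains at least three pairwise non-conjugate subgroups isomorphic to the Chevalley group F₄(2). -/
theorem result {K : Type*} [Field K] [Fintype K] (hK : Fintype.card K = 4) :
    ∃ H : Fin 3 → Subgroup (Cfsg.Lie.twistedE6 K 2),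
      (∀ i, Nonempty ((H i) ≃* Cfsg.Lie.chevF4.group (ZMod 2))) ∧
      (∀ i j, i ≠ j → ∀ g : (Cfsg.Lie.twistedE6 K 2), (H i).map (MulAut.conj g).toMonoidHom ≠ H j) := by

  haveI : Fact (Nat.Prime 2) := ⟨Nat.prime_two⟩
  haveI hC : CharP K 2 := by
    obtain ⟨p, hp⟩ := CharP.exists K
    obtain ⟨n, hpp, hn⟩ := FiniteField.card K p
    rw [hK] at hn
    have : p ∣ 2 ^ 2 := by rw [show (2 : ℕ) ^ 2 = p ^ (n : ℕ) from hn]; exact dvd_pow_self p n.ne_zero
    rwa [(Nat.prime_dvd_prime_iff_eq hpp Nat.prime_two).1 (hpp.dvd_of_dvd_pow this)] at hp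
  classical
  have h3 : Fintype.card Kˣ = 3 := by rw [Fintype.card_units, hK]
  haveI : Nontrivial Kˣ := Fintype.one_lt_card_iff_nontrivial.1 (by omega)
  obtain ⟨ω, hω⟩ := exists_ne (1 : Kˣ)
  have hω3 : ω ^ 3 = 1 := by rw [← h3]; exact pow_card_eq_one
  set d : GL chevE6.Idx K := dgl fun j => ω ^ outExp j with hd
  have hpow : ∀ m : ℕ, d ^ m = dgl fun j => (ω ^ outExp j) ^ m := fun m =>
    ((dglHom (K := K)).map_pow (fun j => ω ^ outExp j) m).symm
  have hd3 : d ^ 3 = 1 := by
    rw [hpow, show (fun j => (ω ^ outExp j) ^ 3) = (1 : ℕ → Kˣ) from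
      funext fun j => by rw [← pow_mul, mul_comm, pow_mul, hω3, one_pow]; rfl]
    exact dgl_one
  set R : Subgroup (GL chevE6.Idx K) := (emb4 K).range with hR
  set tw : Subgroup (GL chevE6.Idx K) := twistedE6 K 2
  have hle : ∀ m : ℕ, R.map (MulAut.conj (d ^ m)).toMonoidHom ≤ tw := by
    intro m
    induction m with
    | zero =>
      rintro _ ⟨_, ⟨k, rfl⟩, rfl⟩
      simpa using emb4_mem_twisted K k
    | succ m ih =>
      rintro _ ⟨u, hu, rfl⟩
      have := dgl_conj_twisted ω hω3 (ih ⟨u, hu, rfl⟩)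
      rw [← hd] at this
      simpa [pow_succ', mul_assoc] using this
  refine ⟨fun i => (R.map (MulAut.conj (d ^ i.val)).toMonoidHom).subgroupOf tw, fun i => ?_, ?_⟩
  · exact ⟨((Subgroup.subgroupOfEquivOfLe (hle i)).trans
      (R.equivMapOfInjective _ (MulAut.conj (d ^ i.val)).injective).symm).trans
      (MonoidHom.ofInjective (emb4_injective K)).symm⟩
  intro i j hij g e
  beta_reduce at e
  have hG : (g : GL chevE6.Idx K) ∈ chevE6.group K := twisted_le_group 2 g.2
  have hmap : (R.map (MulAut.conj (d ^ i.val)).toMonoidHom).map (MulAut.conj (g : GL chevE6.Idx K)).toMonoidHom =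
      R.map (MulAut.conj (d ^ j.val)).toMonoidHom := by
    refine le_antisymm ?_ ?_
    · rintro _ ⟨u, hu, rfl⟩
      have h1 : (MulAut.conj g).toMonoidHom (⟨u, hle _ hu⟩ : ↥tw) ∈
          (R.map (MulAut.conj (d ^ j.val)).toMonoidHom).subgroupOf tw :=
        e ▸ Subgroup.mem_map_of_mem _ (Subgroup.mem_subgroupOf.2 hu)
      simpa [Subgroup.mem_subgroupOf] using h1
    · intro u hu
      have h1 : (⟨u, hle _ hu⟩ : ↥tw) ∈ (R.map (MulAut.conj (d ^ j.val)).toMonoidHom).subgroupOf tw :=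
        Subgroup.mem_subgroupOf.2 hu
      rw [← e] at h1
      obtain ⟨v, hv, ev⟩ := h1
      exact ⟨v, Subgroup.mem_subgroupOf.1 hv, congrArg Subtype.val ev⟩
  -- move everything to one diagonal element
  set m : ℕ := 2 * j.val + i.val with hm
  set di : GL chevE6.Idx K := d ^ i.val with hdi
  have hg' : di⁻¹ * (g : GL chevE6.Idx K) * di ∈ chevE6.group K := by
    have h1 : di⁻¹ = d ^ (2 * i.val) := by
      refine inv_eq_of_mul_eq_one_left ?_
      rw [hdi, ← pow_add, show 2 * i.val + i.val = 3 * i.val by ring, pow_mul, hd3, one_pow]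
    have := dgl_conj_group (fun j => (ω ^ outExp j) ^ (2 * i.val)) hG
    rw [← hpow, ← h1, inv_inv] at this
    exact this
  have hfix : R.map (MulAut.conj (d ^ m * (di⁻¹ * (g : GL chevE6.Idx K) * di))).toMonoidHom = R := by
    have hj : d ^ m = (d ^ j.val)⁻¹ * di := by
      rw [hm, hdi, eq_inv_mul_iff_mul_eq, ← pow_add, show j.val + (2 * j.val + i.val) = 3 * j.val + i.val by ring,
        pow_add, pow_mul, hd3, one_pow, one_mul]
    rw [hj, show (d ^ j.val)⁻¹ * di * (di⁻¹ * (g : GL chevE6.Idx K) * di) = (d ^ j.val)⁻¹ * ((g : GL chevE6.Idx K) * di) by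
      group]
    have h2 : ∀ (a b : GL chevE6.Idx K) (S : Subgroup (GL chevE6.Idx K)),
        S.map (MulAut.conj (a * b)).toMonoidHom =
          (S.map (MulAut.conj b).toMonoidHom).map (MulAut.conj a).toMonoidHom := by
      intro a b S
      rw [Subgroup.map_map]
      congr 1
      ext u
      simp [mul_assoc]
    rw [h2, h2, hmap, ← h2, inv_mul_cancel]
    ext u
    simp
  rw [hpow] at hfix
  obtain ⟨c', hc'⟩ := outer_normalizer _ hg' hfix
  have hωm := no_inner_out hK ω hc'
  have h3' : orderOf ω = 3 := orderOf_eq_prime hω3 hω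
  have hdvd : 3 ∣ m := h3' ▸ orderOf_dvd_of_pow_eq_one hωm
  exact hij (Fin.ext (by omega))

end Cfsg.Agent.S5743
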