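import Cfsg.Statements.S5744
import Cfsg.Agent.Lib.Fi22TE6.Setup
import Cfsg.Agent.Lib.Fi22TE6.Outer
import Cfsg.Agent.Lib.Compute.AutBound
import Cfsg.Agent.Lib.POmegaBalance.Odd
import Cfsg.Agent.S1686
import Cfsg.Agent.S2604

set_option autoImplicit false
open Cfsg

namespace Cfsg.Agent.S5744

open Cfsg.Agent.Lib.Fi22TE6 Cfsg.Spor

theorem omega_equiv_pomega :
    Nonempty (Cfsg.Omega (ZMod 3) (Cfsg.quadFormOdd 3 (ZMod 3)) ≃*
      Cfsg.POmega (ZMod 3) (Cfsg.quadFormOdd 3 (ZMod 3))) := by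
  have h := Cfsg.Agent.Lib.POmegaBalance.omega_center_eq_bot (F := ZMod 3) (m := 3) (by decide) le_rfl
  rw [Cfsg.Agent.Lib.Classical.coe_oddQuadForm] at h
  exact ⟨((QuotientGroup.quotientMulEquivOfEq h).trans QuotientGroup.quotientBot).symm⟩

theorem card_out_pomega :
    Nat.card (Cfsg.Out (Cfsg.POmega (ZMod 3) (Cfsg.quadFormOdd 3 (ZMod 3)))) = 2 := by
  haveI : Fact (Nat.Prime 3) := ⟨Nat.prime_three⟩
  obtain ⟨e⟩ := Cfsg.Agent.S2604.result (F := ZMod 3) (p := 3) (f := 1) (m := 3) le_rfl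
    (by rw [ZMod.card, pow_one]) (by decide) le_rfl
  rw [Nat.card_congr e.toEquiv, Nat.card_congr Multiplicative.toAdd, Nat.card_prod, Nat.card_zmod,
    Nat.card_zmod]

/-- The simple group ²E₆(2) (the twisted group of type E₆ over the field with 4 elements) contains at least three pairwise non-conjugate subgroups isomorphic to the orthogonal group Ω₇(3) (the commutator subgroup of the isometry group of x₀² + x₁y₁ + x₂y₂ + x₃y₃ over the field with 3 elements). -/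
theorem result {K : Type*} [Field K] [Fintype K] (hK : Fintype.card K = 4) :
    ∃ H : Fin 3 → Subgroup (Cfsg.Lie.twistedE6 K 2),
      (∀ i, Nonempty ((H i) ≃* Cfsg.Omega (ZMod 3) (Cfsg.quadFormOdd 3 (ZMod 3)))) ∧
      (∀ i j, i ≠ j → ∀ g : (Cfsg.Lie.twistedE6 K 2), (H i).map (MulAut.conj g).toMonoidHom ≠ H j) := by
  obtain ⟨hC, ω, hω⟩ := exists_omega hK
  haveI := hC
  obtain ⟨e1⟩ := Cfsg.Agent.S1686.result
  obtain ⟨e2⟩ := omega_equiv_pomega
  set S : Subgroup Fi22 := (Subgroup.closure ({Fi22.b, Fi22.c, Fi22.d, Fi22.e, Fi22.f, Fi22.g, Fi22.h, Fi22.i} :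
    Set (FreeGroup Fi22.Gen))).map (PresentedGroup.mk (coxRelators Fi22.edges ∪ {r | r ∈ Fi22.extra})) with hS
  let e : S ≃* S.map (fiHom ω hω) := S.equivMapOfInjective _ (fiHom_injective ω hω)
  obtain ⟨Hs, hiso, hne⟩ := three_classes hK (S.map (fiHom ω hω))
    (by rintro _ ⟨g, -, rfl⟩; exact fiHom_mem ω hω g)
    (commutant_of_nodes ω hω _ fun x hx => ⟨PresentedGroup.of x,
      ⟨FreeGroup.of x, Subgroup.subset_closure (by cases x <;> simp_all), rfl⟩, fiHom_of ω hω x⟩)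
    (by rw [← Cfsg.Agent.Lib.Compute.card_out_congr (e1.symm.trans e)]; exact card_out_pomega)
  exact ⟨Hs, fun i => ⟨(hiso i).some.trans ((e.symm.trans e1).trans e2.symm)⟩, hne⟩

end Cfsg.Agent.S5744
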