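import Cfsg.Statements.S5746
import Cfsg.Agent.Lib.SuzG2J2.Basic
import Cfsg.Agent.Lib.G2Natural.Transport

set_option autoImplicit false
open Cfsg

namespace Cfsg.Agent.S5746

/-- The Chevalley group G₂(4) (over the field with 4 elements) has a maximal subgroup H isomorphic to the Hall–Janko group J₂ such that for every x outside H the intersection H ∩ xHx⁻¹ is a maximal subgroup of H; that is, the action of G₂(4) on the cosets of H is extremely primitive. -/
theorem result {F : Type*} [Field F] [Fintype F] (hF : Fintype.card F = 4) :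
    ∃ H : Subgroup (Cfsg.Lie.chevG2.group F), IsCoatom H ∧ Cfsg.Spor.IsoJ2 H ∧
      ∀ x : Cfsg.Lie.chevG2.group F, x ∉ H → IsCoatom ((H ⊓ H.map (MulAut.conj x).toMonoidHom).subgroupOf H) := by
  haveI : Fact (Nat.Prime 2) := ⟨Nat.prime_two⟩
  let K := GaloisField 2 2
  haveI : Fintype K := Fintype.ofFinite K
  have hK : Fintype.card K = 4 := by
    rw [← Nat.card_eq_fintype_card, GaloisField.card 2 2 (by norm_num)]; norm_num
  obtain ⟨hc, w, hw⟩ := Cfsg.Agent.S1679.exists_root K hK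
  obtain ⟨q, hq⟩ := Cfsg.Agent.S1679.exists_to_G2 w hw
  have hG : Nat.card (Cfsg.Lie.chevG2.group K) = 251596800 := by
    rw [Cfsg.Agent.S1059.result hK]; norm_num
  haveI := Cfsg.Agent.S1679.order_le.1
  haveI : Finite (Cfsg.Lie.chevG2.group K) :=
    Nat.finite_of_card_ne_zero (by rw [hG]; norm_num)
  have hb : Function.Bijective q :=
    (Nat.bijective_iff_injective_and_card _).mpr ⟨hq, by rw [hG]; exact Cfsg.Agent.S1679.simple_PH.2⟩
  let e : Cfsg.Agent.S1679.PH ≃* Cfsg.Lie.chevG2.group F := (MulEquiv.ofBijective q hb).trans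
    (Lib.G2Natural.groupMap Cfsg.Lie.chevG2 (FiniteField.ringEquivOfCardEq (hK.trans hF.symm)))
  obtain ⟨hmax, hext⟩ := Lib.SuzG2J2.extremely_primitive
  obtain ⟨j, -⟩ := Lib.SuzG2J2.exists_to_J2
  let H := Lib.SuzG2J2.HJ.map e.toMonoidHom
  let eH : Lib.SuzG2J2.HJ ≃* H := Lib.SuzG2J2.HJ.equivMapOfInjective _ e.injective
  refine ⟨H, ?_, ⟨eH.symm.trans j⟩, fun x hx => ?_⟩
  · exact (OrderIso.isCoatom_iff e.mapSubgroup _).mpr hmax
  · have hx' : e.symm x ∉ Lib.SuzG2J2.HJ := fun h => hx (by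
      rw [show H = Lib.SuzG2J2.HJ.map e.toMonoidHom from rfl, Subgroup.mem_map_equiv]; exact h)
    have heq : (H ⊓ H.map (MulAut.conj x).toMonoidHom).subgroupOf H =
        eH.mapSubgroup ((Lib.SuzG2J2.HJ ⊓ Lib.SuzG2J2.HJ.map
          (MulAut.conj (e.symm x)).toMonoidHom).subgroupOf Lib.SuzG2J2.HJ) := by
      ext ⟨y, hy⟩
      rw [MulEquiv.mapSubgroup_apply]
      erw [Subgroup.mem_map_equiv]
      rw [Subgroup.mem_subgroupOf, Subgroup.mem_subgroupOf]
      have he : ((eH.symm ⟨y, hy⟩ : Lib.SuzG2J2.HJ) : Cfsg.Agent.S1679.PH) = e.symm y :=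
        e.injective (by
          rw [MulEquiv.apply_symm_apply]
          exact congrArg Subtype.val (eH.apply_symm_apply ⟨y, hy⟩))
      rw [he]
      simp only [Subgroup.mem_inf, Subgroup.mem_map_equiv, MulAut.conj_symm_apply, H, map_mul,
        map_inv]
    rw [heq, OrderIso.isCoatom_iff]
    exact hext _ hx'

end Cfsg.Agent.S5746
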