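import Cfsg.Statements.S5747
import Mathlib

set_option autoImplicit false
set_option linter.style.haveILetI false
open Cfsg

namespace Cfsg.Agent.S5747


variable {G Ω : Type*} [Group G] [MulAction G Ω]

/-- The pointwise stabiliser of a list inside a subgroup. -/
def stabL : Subgroup G → List Ω → Subgroup G
  | S, [] => S
  | S, x :: l => stabL (S ⊓ MulAction.stabilizer G x) l

/-- Each point of the list is moved by the stabiliser of the previous ones. -/
def Irr : Subgroup G → List Ω → Prop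
  | _, [] => True
  | S, x :: l => ¬ S ≤ MulAction.stabilizer G x ∧ Irr (S ⊓ MulAction.stabilizer G x) l

/-- An irredundant base for a subgroup. -/
def IB (S : Subgroup G) (l : List Ω) : Prop := Irr S l ∧ stabL S l = ⊥

theorem IB_cons (S : Subgroup G) (x : Ω) (l : List Ω) :
    IB S (x :: l) ↔ ¬ S ≤ MulAction.stabilizer G x ∧ IB (S ⊓ MulAction.stabilizer G x) l := by
  simp [IB, Irr, stabL, and_assoc]

theorem IB_append (S : Subgroup G) (c d : List Ω) : IB S (c ++ d) ↔ Irr S c ∧ IB (stabL S c) d := by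
  induction c generalizing S with
  | nil => simp [Irr, stabL]
  | cons x c ih => rw [List.cons_append, IB_cons, ih]; simp [Irr, stabL, and_assoc]

theorem mem_stabL (S : Subgroup G) (l : List Ω) (g : G) :
    g ∈ stabL S l ↔ g ∈ S ∧ ∀ x ∈ l, g • x = x := by
  induction l generalizing S with
  | nil => simp [stabL]
  | cons x l ih => simp [stabL, ih, and_assoc]

theorem stabL_perm (S : Subgroup G) {l l' : List Ω} (h : l.Perm l') : stabL S l = stabL S l' := by
  ext g; simp only [mem_stabL, h.mem_iff]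

theorem exists_sublist_IB (S : Subgroup G) (l : List Ω) (h : stabL S l = ⊥) :
    ∃ c, c.Sublist l ∧ IB S c := by
  induction l generalizing S with
  | nil => exact ⟨[], List.Sublist.refl _, trivial, h⟩
  | cons x l ih =>
    by_cases hx : S ≤ MulAction.stabilizer G x
    · have h' : stabL (S ⊓ MulAction.stabilizer G x) l = ⊥ := h
      rw [inf_eq_left.mpr hx] at h'
      obtain ⟨c, hc, hb⟩ := ih S h'
      exact ⟨c, hc.cons x, hb⟩
    · obtain ⟨c, hc, hb⟩ := ih _ h
      exact ⟨x :: c, hc.cons_cons x, (IB_cons _ _ _).mpr ⟨hx, hb⟩⟩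

theorem exists_perm_append_of_sublist {α : Type*} {c l : List α} (h : c.Sublist l) :
    ∃ d, l.Perm (c ++ d) := by
  induction h with
  | slnil => exact ⟨[], List.Perm.refl _⟩
  | @cons c l x _ ih =>
    obtain ⟨d, hd⟩ := ih
    exact ⟨x :: d, (hd.cons x).trans List.perm_middle.symm⟩
  | @cons_cons c l x _ ih =>
    obtain ⟨d, hd⟩ := ih
    exact ⟨d, hd.cons x⟩

theorem moved_of_irr {S : Subgroup G} {l : List Ω} (h : Irr S l) {y : Ω} (hy : y ∈ l) :
    ¬ S ≤ MulAction.stabilizer G y := by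
  induction l generalizing S with
  | nil => simp at hy
  | cons x l ih =>
    rcases List.mem_cons.mp hy with rfl | hy
    · exact h.1
    · exact fun hle => ih h.2 hy (inf_le_left.trans hle)

theorem nodup_of_irr {S : Subgroup G} {l : List Ω} (h : Irr S l) : l.Nodup := by
  induction l generalizing S with
  | nil => exact List.nodup_nil
  | cons x l ih => exact List.nodup_cons.mpr ⟨fun hx => moved_of_irr h.2 hx inf_le_right, ih h.2⟩

theorem exists_perm_ofFn {α : Type*} {n : ℕ} (a : Fin n → α) (l' : List α)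
    (hp : l'.Perm (List.ofFn a)) (hd : (List.ofFn a).Nodup) :
    ∃ σ : Equiv.Perm (Fin n), List.ofFn (a ∘ σ) = l' := by
  have hlen : l'.length = n := by rw [hp.length_eq, List.length_ofFn]
  subst hlen
  have ha : Function.Injective a := List.nodup_ofFn.mp hd
  have hmem : ∀ i, ∃ j, a j = l'.get i := fun i =>
    List.mem_ofFn.mp (hp.mem_iff.mp (List.get_mem l' i))
  choose e he using hmem
  have hinj : Function.Injective e := by
    intro i j hij
    have h1 : l'.get i = l'.get j := by rw [← he, ← he, hij]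
    exact (hp.nodup_iff.mpr hd).injective_get h1
  refine ⟨Equiv.ofBijective e (Finite.injective_iff_bijective.mp hinj), ?_⟩
  rw [show a ∘ (Equiv.ofBijective e _) = l'.get from funext he, List.ofFn_get]

/-- Reordering invariance. -/
def Reorder (Ω : Type*) [MulAction G Ω] (S : Subgroup G) : Prop :=
  ∀ l l' : List Ω, l.Perm l' → IB S l → IB S l'

theorem exchange (S : Subgroup G) (hR : Reorder Ω S) (x : Ω) (l : List Ω)
    (hx : ¬ S ≤ MulAction.stabilizer G x) (hl : IB S l) :
    ∃ c, IB S (x :: c) ∧ c.length + 1 = l.length := by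
  have h0 : stabL (S ⊓ MulAction.stabilizer G x) l = ⊥ := by
    rw [eq_bot_iff]
    intro g hg
    rw [mem_stabL] at hg
    rw [← hl.2, mem_stabL]
    exact ⟨hg.1.1, hg.2⟩
  obtain ⟨c, hc, hb⟩ := exists_sublist_IB _ l h0
  have hxc : IB S (x :: c) := (IB_cons _ _ _).mpr ⟨hx, hb⟩
  obtain ⟨d, hd⟩ := exists_perm_append_of_sublist hc
  have hcd : IB S (c ++ d) := hR _ _ hd hl
  have hcx : IB S (c ++ [x]) := hR _ _ List.perm_append_comm.symm (by simpa using hxc) |> fun h => h
  refine ⟨c, hxc, ?_⟩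
  rw [hd.length_eq, List.length_append]
  rcases d with _ | ⟨d₁, _ | ⟨d₂, rest⟩⟩
  · exfalso
    have h1 := ((IB_append _ _ _).mp hcd).2.2
    have h2 := ((IB_cons _ _ _).mp ((IB_append _ _ _).mp hcx).2).1
    rw [stabL] at h1
    rw [h1] at h2
    exact h2 bot_le
  · simp
  · exfalso
    obtain ⟨hirr, h1⟩ := (IB_append _ _ _).mp hcd
    obtain ⟨hd1, h2⟩ := (IB_cons _ _ _).mp h1
    obtain ⟨hd2, -⟩ := (IB_cons _ _ _).mp h2
    set U := stabL S c ⊓ MulAction.stabilizer G d₁
    have h3 : stabL S c ⊓ MulAction.stabilizer G x = ⊥ :=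
      ((IB_cons _ _ _).mp ((IB_append _ _ _).mp hcx).2).2.2
    have hxU : ¬ U ≤ MulAction.stabilizer G x := by
      intro h
      have h4 : U = ⊥ := by
        rw [eq_bot_iff, ← h3]; exact le_inf inf_le_left h
      exact hd2 (h4 ▸ bot_le)
    have h5 : IB S (c ++ [d₁, x]) := (IB_append _ _ _).mpr ⟨hirr, (IB_cons _ _ _).mpr ⟨hd1,
      (IB_cons _ _ _).mpr ⟨hxU, trivial, by
        show U ⊓ MulAction.stabilizer G x = ⊥
        rw [eq_bot_iff, ← h3]; exact inf_le_inf_right _ inf_le_left⟩⟩⟩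
    have h6 := hR _ _ (List.Perm.append_left c (List.Perm.swap x d₁ [])) h5
    have h7 := ((IB_cons _ _ _).mp ((IB_cons _ _ _).mp ((IB_append _ _ _).mp h6).2).2).1
    rw [h3] at h7
    exact h7 bot_le

theorem length_eq (S : Subgroup G) (hR : Reorder Ω S) (l l' : List Ω) (hl : IB S l) (hl' : IB S l') :
    l.length = l'.length := by
  induction l' generalizing S l with
  | nil =>
    cases l with
    | nil => rfl
    | cons y l =>
      exfalso
      have h : S = ⊥ := hl'.2
      exact ((IB_cons _ _ _).mp hl).1 (h ▸ bot_le)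
  | cons x t ih =>
    obtain ⟨hx, ht⟩ := (IB_cons _ _ _).mp hl'
    obtain ⟨c, hc, hlen⟩ := exchange S hR x l hx hl
    have hR' : Reorder Ω (S ⊓ MulAction.stabilizer G x) := by
      intro a b hab ha
      exact ((IB_cons _ _ _).mp (hR _ _ (hab.cons x) ((IB_cons _ _ _).mpr ⟨hx, ha⟩))).2
    rw [List.length_cons, ← ih _ hR' c ((IB_cons _ _ _).mp hc).2 ht, hlen]

theorem IB_ofFn_iff : ∀ {t : ℕ} (S : Subgroup G) (f : Fin t → Ω), IB S (List.ofFn f) ↔
    ((∀ g ∈ S, (∀ i : Fin t, g • f i = f i) → g = 1) ∧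
      ∀ i : Fin t, ∃ g ∈ S, (∀ j : Fin t, j < i → g • f j = f j) ∧ g • f i ≠ f i) := by
  intro t
  induction t with
  | zero =>
    intro S f
    simp [IB, Irr, stabL, Subgroup.eq_bot_iff_forall]
  | succ t ih =>
    intro S f
    rw [List.ofFn_succ, IB_cons, ih, SetLike.not_le_iff_exists]
    simp only [Fin.forall_fin_succ, Subgroup.mem_inf, MulAction.mem_stabilizer_iff, and_imp,
      Fin.succ_lt_succ_iff, Fin.not_lt_zero, Fin.succ_pos, false_imp_iff, implies_true, true_imp_iff,
      and_assoc, true_and, forall_const]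
    constructor
    · rintro ⟨⟨g, hg, hg0⟩, h1, h2⟩
      exact ⟨h1, ⟨g, hg, hg0⟩, h2⟩
    · rintro ⟨h1, ⟨g, hg, hg0⟩, h2⟩
      exact ⟨⟨g, hg, hg0⟩, h1, h2⟩

/-- Let a finite group G act on a finite set Ω. An irredundant base is a sequence of points ω₁, …, ω_t whose pointwise stabiliser is trivial and in which each ω_i is moved by some element fixing ω₁, …, ω_{i−1}. Then all irredundant bases have the same length if and only if every reordering of an irredundant base is again an irredundant base. -/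
theorem result {G Ω : Type*} [Group G] [Finite G] [MulAction G Ω] [Fintype Ω] :
    (∀ (t t' : ℕ) (f : Fin t → Ω) (f' : Fin t' → Ω), ((∀ g : G, (∀ i : Fin t, g • f i = f i) → g = 1) ∧ ∀ i : Fin t, ∃ g : G, (∀ j : Fin t, j < i → g • f j = f j) ∧ g • f i ≠ f i) → ((∀ g : G, (∀ i : Fin t', g • f' i = f' i) → g = 1) ∧ ∀ i : Fin t', ∃ g : G, (∀ j : Fin t', j < i → g • f' j = f' j) ∧ g • f' i ≠ f' i) → t = t') ↔
    (∀ (t : ℕ) (f : Fin t → Ω) (σ : Equiv.Perm (Fin t)), ((∀ g : G, (∀ i : Fin t, g • f i = f i) → g = 1) ∧ ∀ i : Fin t, ∃ g : G, (∀ j : Fin t, j < i → g • f j = f j) ∧ g • f i ≠ f i) → ((∀ g : G, (∀ i : Fin t, g • (f ∘ σ) i = (f ∘ σ) i) → g = 1) ∧ ∀ i : Fin t, ∃ g : G, (∀ j : Fin t, j < i → g • (f ∘ σ) j = (f ∘ σ) j) ∧ g • (f ∘ σ) i ≠ (f ∘ σ) i)) := by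
  have key : ∀ {t : ℕ} (f : Fin t → Ω), IB (⊤ : Subgroup G) (List.ofFn f) ↔
      ((∀ g : G, (∀ i : Fin t, g • f i = f i) → g = 1) ∧
        ∀ i : Fin t, ∃ g : G, (∀ j : Fin t, j < i → g • f j = f j) ∧ g • f i ≠ f i) := by
    intro t f
    simp [IB_ofFn_iff]
  have ofList : ∀ l : List Ω, ∃ f : Fin l.length → Ω, List.ofFn f = l := fun l => ⟨l.get, List.ofFn_get l⟩
  simp only [← key]
  constructor
  · intro h t f σ hf
    have hp : (List.ofFn (f ∘ σ)).Perm (List.ofFn f) := Equiv.Perm.ofFn_comp_perm σ f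
    obtain ⟨c, hc, hb⟩ := exists_sublist_IB (⊤ : Subgroup G) (List.ofFn (f ∘ σ)) (by rw [stabL_perm _ hp]; exact hf.2)
    obtain ⟨f', hf'⟩ := ofList c
    have hlen := h t c.length f f' hf (hf'.symm ▸ hb)
    rwa [hc.eq_of_length (by rw [List.length_ofFn, ← hlen])] at hb
  · intro h t t' f f' hf hf'
    have hR : Reorder Ω (⊤ : Subgroup G) := by
      intro l l' hp hl
      obtain ⟨a, ha⟩ := ofList l
      obtain ⟨σ, hσ⟩ := exists_perm_ofFn a l' (ha.symm ▸ hp.symm) (ha.symm ▸ nodup_of_irr hl.1)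
      rw [← hσ]
      exact h _ a σ (by rw [ha]; exact hl)
    simpa using length_eq ⊤ hR _ _ hf hf' 

end Cfsg.Agent.S5747
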