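import Cfsg.Statements.S5748
import Cfsg.Agent.Lib.AbelianInvCentralizer.Classify
import Cfsg.Agent.Lib.AbelianInvCentralizer.SylowTwo
import Cfsg.Agent.Lib.CNTheorem.Main
-- import your own Cfsg.Agent.* helpers here

set_option autoImplicit false
set_option linter.style.haveILetI false
open Cfsg

namespace Cfsg.Agent.S5748

/-- A finite non-abelian simple group in which commuting is a transitive relation on the non-identity elements (equivalently, every non-identity element has abelian centraliser) is isomorphic to PSL₂ over a field with 2^f elements for some f ≥ 2; conversely these groups have that property. -/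
theorem result {G : Type*} [Group G] [Finite G] [IsSimpleGroup G] (hG : ¬ IsMulCommutative G) :
    (∀ a b c : G, a ≠ 1 → b ≠ 1 → c ≠ 1 → Commute a b → Commute b c → Commute a c) ↔
    ∃ (F : Type) (_ : Field F) (_ : Fintype F) (f : ℕ), 2 ≤ f ∧ Fintype.card F = 2 ^ f ∧ Nonempty (G ≃* Matrix.ProjectiveSpecialLinearGroup (Fin 2) F) := by
  classical
  constructor
  · intro hCT
    have hC : Lib.AbelianInvCentralizer.HasAbelianCent G := fun t ht a b ha hb => by
      by_cases ha1 : a = 1
      · rw [ha1]; exact Commute.one_left b
      by_cases hb1 : b = 1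
      · rw [hb1]; exact Commute.one_right a
      exact hCT a t b ha1 ht.2 hb1 ha hb.symm
    have hnsolv : ¬ Group.IsSolvable G := fun hs => hG (by
      haveI := hs
      exact ⟨⟨fun a b => IsSimpleGroup.comm_iff_isSolvable.mpr hs a b⟩⟩)
    have heven : Even (Nat.card G) := by
      rw [← Nat.not_odd_iff_even]
      intro hodd
      refine hnsolv (Lib.CNTheorem.isSolvable_of_odd_cn hodd fun g hg => ?_)
      haveI : IsMulCommutative ↥(Subgroup.centralizer ({g} : Set G)) := ⟨⟨fun a b => Subtype.ext (by
        by_cases ha1 : (a : G) = 1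
        · simp [ha1]
        by_cases hb1 : (b : G) = 1
        · simp [hb1]
        exact (hCT a g b ha1 hg hb1 (Subgroup.mem_centralizer_singleton_iff.mp a.2)
          (Commute.symm (Subgroup.mem_centralizer_singleton_iff.mp b.2))).eq)⟩⟩
      letI : CommGroup ↥(Subgroup.centralizer ({g} : Set G)) :=
        { (inferInstance : Group ↥(Subgroup.centralizer ({g} : Set G))) with mul_comm := fun a b => mul_comm' a b }
      exact CommGroup.isNilpotent
    obtain ⟨P⟩ : Nonempty (Sylow 2 G) := inferInstance
    have hPne : (P : Subgroup G) ≠ ⊥ := P.ne_bot_of_dvd_card heven.two_dvd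
    rcases Lib.AbelianInvCentralizer.sylow_trichotomy hC P with hc | hn | ⟨hF, hS⟩
    · exfalso
      have hmin : (Nat.card G).minFac = 2 := (Nat.minFac_eq_two_iff _).mpr heven.two_dvd
      have hcompl := IsCyclic.isComplement' hmin (P := P) hc
      rcases Subgroup.Normal.eq_bot_or_eq_top
        (MonoidHom.normal_ker (MonoidHom.transferSylow P (IsCyclic.normalizer_le_centralizer hmin hc)))
        with h | h
      · rw [h, Subgroup.isComplement'_bot_left] at hcompl
        refine hG ⟨⟨fun a b => ?_⟩⟩
        haveI := hc
        have ha : a ∈ (P : Subgroup G) := by rw [hcompl]; exact Subgroup.mem_top a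
        have hb : b ∈ (P : Subgroup G) := by rw [hcompl]; exact Subgroup.mem_top b
        exact congrArg Subtype.val (IsCyclic.commGroup.mul_comm (⟨a, ha⟩ : (P : Subgroup G)) ⟨b, hb⟩)
      · rw [h, Subgroup.isComplement'_top_left] at hcompl
        exact hPne hcompl
    · exfalso
      refine hnsolv ?_
      rcases hn.eq_bot_or_eq_top with h | h
      · exact absurd h hPne
      · haveI : Group.IsNilpotent G := (Group.isNilpotent_congr (Subgroup.topEquiv (G := G))).mp (by
          rw [← h]; exact P.2.isNilpotent)
        infer_instance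
    · obtain ⟨F, hFf, hFt, f, hchar, hf, hcard, -, ⟨e⟩⟩ :=
        Lib.AbelianInvCentralizer.exists_slTwo_prod hC hS hF
      have hZ : Subgroup.center G = ⊥ := by
        rcases (inferInstance : (Subgroup.center G).Normal).eq_bot_or_eq_top with h | h
        · exact h
        · exact absurd ⟨⟨fun a b => Subgroup.mem_center_iff.mp (h ▸ Subgroup.mem_top b) a⟩⟩ hG
      haveI : Subsingleton ↥(Subgroup.center G) := by rw [hZ]; infer_instance
      haveI : Subsingleton (Subgroup.center (Matrix.SpecialLinearGroup (Fin 2) F)) := by
        rw [Lib.AbelianInvCentralizer.slTwo_center_eq_bot]; infer_instance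
      have hq : Function.Bijective
          (QuotientGroup.mk' (Subgroup.center (Matrix.SpecialLinearGroup (Fin 2) F))) := by
        refine ⟨?_, QuotientGroup.mk'_surjective _⟩
        rw [← MonoidHom.ker_eq_bot_iff, QuotientGroup.ker_mk']
        exact Lib.AbelianInvCentralizer.slTwo_center_eq_bot
      refine ⟨F, hFf, hFt, f, hf, hcard, ⟨(e.trans ?_).trans (MulEquiv.ofBijective _ hq)⟩⟩
      exact MulEquiv.ofBijective (MonoidHom.fst _ _)
        ⟨fun x y hxy => Prod.ext hxy (Subsingleton.elim _ _), fun x => ⟨(x, 1), rfl⟩⟩
  · rintro ⟨F, hFf, hFt, f, -, hcard, ⟨e⟩⟩ a b c ha hb hc hab hbc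
    haveI : CharP F 2 := charP_of_card_eq_prime_pow hcard
    have hq : Function.Bijective
        (QuotientGroup.mk' (Subgroup.center (Matrix.SpecialLinearGroup (Fin 2) F))) := by
      refine ⟨?_, QuotientGroup.mk'_surjective _⟩
      rw [← MonoidHom.ker_eq_bot_iff, QuotientGroup.ker_mk']
      exact Lib.AbelianInvCentralizer.slTwo_center_eq_bot
    let ψ := e.trans (MulEquiv.ofBijective _ hq).symm
    have h1 := Lib.AbelianInvCentralizer.slTwo_commute_trans (z := ψ b)
      (fun h => hb ((map_eq_one_iff ψ ψ.injective).mp h)) (hab.map ψ) (hbc.symm.map ψ)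
    simpa using h1.map ψ.symm

end Cfsg.Agent.S5748
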