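import Cfsg.Statements.S5751
import Mathlib
import Cfsg.Agent.Lib.Chev.Perfect
import Cfsg.Agent.Lib.Chev16.E8Checks
import Cfsg.Agent.Lib.Chev16.IteratedCores

set_option autoImplicit false
open Cfsg

namespace Cfsg.Agent.S5751

open Cfsg.Lie Cfsg.Agent.Lib.Chev Cfsg.Agent.Lib.Chev16

/-- An extremal example for iterated cores of conjugate maximal subgroups: there exist a finite group G and two distinct conjugate maximal subgroups M₁, M₂ of G, with M₁ having trivial core in G, such that, if we define two descending sequences of subgroups by A₀ = M₁, B₀ = M₂ and, for every i, A_{i+1} = the core in M₁ of A_i ∩ B_i and B_{i+1} = the core in M₂ of A_i ∩ B_i (the core in M of a subgroup Y ≤ M is the largest normal subgroup of M contained in Y), the subgroup A₆ is trivial while A₅ is not (so the index 6 cannot be lowered to 5). (One example is a maximal parabolic subgroup of the Chevalley group of type E₈ over a finite field and a suitable conjugate of it.) -/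
theorem result :
    ∃ (G : Type) (_ : Group G) (_ : Finite G) (M₁ M₂ : Subgroup G) (g : G) (A B : ℕ → Subgroup G),
      IsCoatom M₁ ∧ M₂ = M₁.map (MulAut.conj g).toMonoidHom ∧ M₁ ≠ M₂ ∧ M₁.normalCore = ⊥ ∧ A 0 = M₁ ∧ B 0 = M₂ ∧
      (∀ i, A (i + 1) = ((A i ⊓ B i).subgroupOf M₁).normalCore.map M₁.subtype) ∧
      (∀ i, B (i + 1) = ((A i ⊓ B i).subgroupOf M₂).normalCore.map M₂.subtype) ∧ A 6 = ⊥ ∧ A 5 ≠ ⊥ := by

  classical
  have hh : Rooted chevE8 E8.cert := Rooted.mk checked_E8 descent_E8
  haveI : Subsingleton (ZMod 2)ˣ := ⟨by decide⟩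
  have hd : 3 < chevE8.rank := by decide
  have hlow : ∀ r < chevE8.nroots, 2 ≤ coef chevE8 E8.cert 3 r →
      coef chevE8 E8.cert 3 r - 1 ≤ coef chevE8 E8.cert 3 (Cfsg.Agent.Lib.Chev.refl E8.cert 3 r) := by
    intro r hr h2
    have := low_ok
    simp only [allN_iff, Bool.or_eq_true, decide_eq_true_eq] at this
    rcases this r hr with h | h
    · omega
    · exact h
  have hact : ∀ j ∈ others chevE8 3, ∃ r < chevE8.nroots, coef chevE8 E8.cert 3 r = 1 ∧ chevE8.cartan j r ≠ 0 := by
    intro j hj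
    obtain ⟨hne, hj'⟩ := Finset.mem_erase.1 hj
    have := act_ok
    simp only [allN_iff, Bool.or_eq_true, natBeq_eq, decide_eq_true_eq, List.any_eq_true, List.mem_range,
      Bool.and_eq_true, Bool.not_eq_true', decide_eq_false_iff_not] at this
    rcases this j (Finset.mem_range.1 hj') with h | ⟨r, hr, h⟩
    · exact absurd h hne
    · exact ⟨r, hr, h⟩
  have hWs : ∀ k : ℕ, k ≤ 6 → ∀ W ∈ lvlWords k, ∀ i ∈ W, i ∈ others chevE8 3 := by
    intro k hk W hW i hi
    have := lvlWords_ok
    simp only [List.all_eq_true, List.mem_range, Bool.and_eq_true, Nat.blt_eq, Bool.not_eq_true', natBeq_eq,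
      decide_eq_false_iff_not] at this
    obtain ⟨h1, h2⟩ := this k (by omega) W hW i hi
    exact Finset.mem_erase.2 ⟨h2, Finset.mem_range.2 h1⟩
  have h1 : ∀ r < chevE8.nroots, coef chevE8 E8.cert 3 r = 1 →
      ∃ W ∈ lvlWords 1, perm E8.cert W r = chevE8.simple 3 := by
    intro r hr cr
    have := first_ok
    simp only [allN_iff, Bool.or_eq_true, Bool.not_eq_true', decide_eq_false_iff_not, List.any_eq_true,
      natBeq_eq, decide_eq_true_eq] at this
    exact (this r hr).resolve_left (not_not_intro cr)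
  have hk : ∀ k : ℕ, k ≤ 6 → 2 ≤ k → ∀ r < chevE8.nroots, coef chevE8 E8.cert 3 r = (k : ℤ) →
      ∃ W ∈ lvlWords k, coef chevE8 E8.cert 3 (Cfsg.Agent.Lib.Chev.refl E8.cert 3 (perm E8.cert W r)) < (k : ℤ) := by
    intro k hk h2 r hr cr
    have := deep_ok
    simp only [List.all_eq_true, List.mem_range, allN_iff, Bool.or_eq_true, Bool.not_eq_true', decide_eq_false_iff_not,
      List.any_eq_true, decide_eq_true_eq, Nat.ble_eq] at this
    exact ((this k (by omega)).resolve_left (by omega) r hr).resolve_left (not_not_intro cr)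
  obtain ⟨hsimp, -⟩ := simple_large (F := ZMod 2) chevE8 (by simp)
  set M₁ := maxParabolic chevE8 (ZMod 2) 3 with hM₁
  set g := nd (F := ZMod 2) hh hd with hg
  refine ⟨↥(chevE8.group (ZMod 2)), inferInstance, inferInstance, M₁, M₁.map (MulAut.conj g).toMonoidHom, g,
    fun i => (coreSeq M₁ (M₁.map (MulAut.conj g).toMonoidHom) i).1,
    fun i => (coreSeq M₁ (M₁.map (MulAut.conj g).toMonoidHom) i).2,
    isCoatom_maxParabolic hh hd, rfl, conj_maxParabolic_ne hh hd, ?_, rfl, rfl, fun i => rfl, fun i => rfl,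
    ?_, ?_⟩
  · rcases hsimp.eq_bot_or_eq_top_of_normal M₁.normalCore inferInstance with h | h
    · exact h
    · exact absurd (eq_top_iff.2 (h ▸ Subgroup.normalCore_le M₁)) (maxParabolic_ne_top hh hd)
  · refine (Subgroup.eq_bot_iff_forall _).2 fun x hx => Subtype.ext ?_
    have h7 := coreSeq_le_lvl hh hd hlow hact lvlWords 6 hWs h1 hk 5 le_rfl x hx
    have he : lvl chevE8 E8.cert 3 (((5 : ℕ) : ℤ) + 2) = ∅ := by
      refine Set.eq_empty_of_forall_notMem fun r hr => ?_
      have := top_ok
      simp only [allN_iff, decide_eq_true_eq] at this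
      have := this r hr.1
      have := hr.2
      omega
    have hb : rootGen chevE8 (ZMod 2) (∅ : Set ℕ) = ⊥ := by
      rw [eq_bot_iff, rootGen, Subgroup.closure_le]
      rintro y ⟨r, t, hr, -⟩
      exact absurd hr (Set.notMem_empty r)
    rw [he, hb, Subgroup.mem_bot] at h7
    exact h7
  · intro hbot
    have hr : 239 < chevE8.nroots := by decide
    let x : ↥(chevE8.group (ZMod 2)) := ⟨xGL hh.toChecked (ZMod 2) hr 1, hh.toChecked.xGL_mem_group _ _⟩
    have hx := lvl_le_coreSeq hh hd hlow 5 x (mem_rootGen (r := 239) (t := (1 : ZMod 2))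
      ⟨hr, by rw [of_decide_eq_true highest_ok]; norm_num⟩ rfl)
    have hx1 := (Subgroup.eq_bot_iff_forall _).1 hbot x hx
    have hv := congrArg (fun g : ↥(chevE8.group (ZMod 2)) => ((g : GL chevE8.Idx (ZMod 2)) :
      Matrix chevE8.Idx chevE8.Idx (ZMod 2))) hx1
    simp only [x, coe_xGL, OneMemClass.coe_one, Units.val_one] at hv
    rw [hh.toChecked.x_eq_one_iff hr] at hv
    exact one_ne_zero hv

end Cfsg.Agent.S5751
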