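import Cfsg.Statements.S5752
import Cfsg.Agent.Lib.ThompsonWielandt.Main
import Cfsg.Agent.Lib.CharP.Fitting

set_option autoImplicit false
open Cfsg

namespace Cfsg.Agent.S5752

open Subgroup Cfsg.Agent.Lib Cfsg.Agent.Lib.ThompsonWielandt

variable {G : Type*} [Group G]

theorem relCore_eq_map {H X : Subgroup G} (hX : X ≤ H) :
    relCore H X = (X.subgroupOf H).normalCore.map H.subtype := by
  ext a
  constructor
  · intro ha
    refine ⟨⟨a, hX (relCore_le H X ha)⟩, fun b => ?_, rfl⟩
    exact mem_relCore.mp ha b b.2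
  · rintro ⟨y, hy, rfl⟩
    exact mem_relCore.mpr fun h hh => hy ⟨h, hh⟩

theorem kerK_eq_map (H M : Subgroup G) :
    kerK H M = ((H ⊓ M).subgroupOf H).normalCore.map H.subtype :=
  relCore_eq_map inf_le_left

theorem kerP_eq_map [Finite G] (H M : Subgroup G) :
    kerP H M = ((kerK H M ⊓ kerK M H).subgroupOf H).normalCore.map H.subtype := by
  rw [← relCore_eq_map (inf_le_left.trans ((kerK_le H M).trans inf_le_left))]
  refine le_antisymm (le_relCore (le_inf (kerP_le_kerK H M) (kerP_le H M))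
    (le_normalizer_kerP H M)) (le_relCore ?_ (le_normalizer_relCore _ _))
  exact (relCore_le _ _).trans inf_le_right

variable [Finite G] {H M : Subgroup G}

/-- The stronger form of the dichotomy: with `F*(H)` an `r`-group, `kerP H M` is an `r`-group. -/
theorem isPGroup_kerP (s : Setup H M) {r : ℕ} [Fact r.Prime] (hA : pCoreOf r H ≠ ⊥) :
    IsPGroup r (kerP H M) := by
  refine isPGroup_of_res_eq_bot (by_contra fun hW => ?_)
  set W := res r (kerP H M) with hWdef
  have hPH : kerP H M ≤ H := (kerP_le_inf H M).trans inf_le_left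
  have hK'H : kerK M H ≤ H := (kerK_le M H).trans inf_le_right
  have hK'M : kerK M H ≤ M := (kerK_le M H).trans inf_le_left
  set A := pCoreOf r H with hAdef
  set B := pCoreOf r M with hBdef
  have hBH : B ≤ H := s.pCoreOf_le_of_res_ne_bot hW
  set T := pCoreOf r (H ⊓ M) with hTdef
  have hTD : T ≤ H ⊓ M := CharP.pCoreOf_le _
  set R := relCore M (M ⊓ normalizer (W : Set G))
  have hTR : T ≤ R := by
    intro a ha
    refine mem_relCore.mpr fun m hm =>
      mem_inf.mpr ⟨mul_mem (mul_mem hm (hTD ha).2) (inv_mem hm), ?_⟩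
    refine mem_normalizer_res fun x hx hxo => ?_
    set z := m⁻¹ * x * m with hz
    have hzK : z ∈ kerK M H := by
      simpa [hz] using conj_mem_of_le_normalizer (le_normalizer_kerK M H) (inv_mem hm)
        (kerP_le H M hx)
    have hzD : z ∈ H ⊓ M := ⟨hK'H hzK, hK'M hzK⟩
    set c := a * z * a⁻¹ * z⁻¹ with hc
    have hcm : c ∈ T ⊓ kerK M H := by
      refine mem_inf.mpr ⟨?_, mul_mem (conj_mem_of_le_normalizer (le_normalizer_kerK M H)
        (hTD ha).2 hzK) (inv_mem hzK)⟩
      rw [hc, show a * z * a⁻¹ * z⁻¹ = a * (z * a⁻¹ * z⁻¹) by group]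
      exact mul_mem ha
        (conj_mem_of_le_normalizer (CharP.le_normalizer_pCoreOf _) hzD (inv_mem ha))
    set C := (T ⊓ kerK M H).map (MulAut.conj m).toMonoidHom
    have hC : IsPGroup r C := ((CharP.pCoreOf_isPGroup (H ⊓ M)).to_le inf_le_left).map _
    have hCK : C ≤ normalizer (kerP H M : Set G) := by
      refine le_trans ?_ (hK'H.trans (le_normalizer_kerP H M))
      rintro _ ⟨d, hd, rfl⟩
      exact conj_mem_of_le_normalizer (le_normalizer_kerK M H) hm hd.2
    refine mem_of_mem_sup hC hCK ?_ (by rwa [orderOf_conj'])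
    have h1 : m * a * m⁻¹ * x * (m * a * m⁻¹)⁻¹ = m * c * m⁻¹ * x := by rw [hc, hz]; group
    rw [h1]
    exact mul_mem (mem_sup_right ⟨c, hcm, rfl⟩) (mem_sup_left hx)
  have hRK : R ≤ kerK M H := le_kerK ((relCore_le _ _).trans inf_le_left)
    (((relCore_le _ _).trans inf_le_right).trans
      (s.normalizer_eq hW ((res_le r _).trans hPH)
        ((le_normalizer_kerP H M).trans (normalizer_le_normalizer_res r _))).le)
    (le_normalizer_relCore _ _)
  have hTB : T ≤ B :=
    (CharP.le_pCoreOf (hTR.trans hRK) (CharP.pCoreOf_isPGroup _)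
      ((le_inf hK'H hK'M).trans (CharP.le_normalizer_pCoreOf _))).trans
      (pCoreOf_le_of_normalized hK'M (le_normalizer_kerK M H))
  have hB : B ≠ ⊥ := by
    intro h
    refine hA (eq_bot_of_card_eq _ ?_)
    rw [← s.card_pCoreOf_eq r]
    exact card_eq_one.mpr h
  refine hA (s.pCoreOf_eq_bot_of_le (le_of_inf_normalizer_le (CharP.pCoreOf_isPGroup H)
    (CharP.pCoreOf_isPGroup M) (hBH.trans (CharP.le_normalizer_pCoreOf H)) ?_))
  rw [s.symm.normalizer_eq hB (CharP.pCoreOf_le M) (CharP.le_normalizer_pCoreOf M)]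
  refine le_trans ?_ hTB
  refine CharP.le_pCoreOf (le_inf (inf_le_left.trans (CharP.pCoreOf_le H)) inf_le_right)
    ((CharP.pCoreOf_isPGroup H).to_le inf_le_left) ?_
  exact le_trans (le_inf (inf_le_left.trans (CharP.le_normalizer_pCoreOf H))
    (inf_le_right.trans le_normalizer)) inf_normalizer_le_normalizer_inf

/-- One side: `F*` of the maximal subgroup and of the first core, and the second core. -/
theorem one_side (s : Setup H M) (hP : kerP H M ≠ ⊥) (hQ : kerP M H ≠ ⊥) :
    ∃ r : ℕ, r.Prime ∧ kerP H M ≠ ⊥ ∧ IsPGroup r (kerP H M) ∧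
      generalizedFittingSubgroup H = pCore r H ∧
      generalizedFittingSubgroup (kerK H M) = pCore r (kerK H M) ∧
      IsPGroup r (kerP H M) := by
  obtain ⟨r, hr, hR, hF, -⟩ := s.thompson_wielandt hP hQ
  haveI := Fact.mk hr
  have hA : pCoreOf r H ≠ ⊥ := fun h => hR (by rw [h, inf_bot_eq])
  have hP' := isPGroup_kerP s hA
  refine ⟨r, hr, hP, hP', hF, ?_, hP'⟩
  have hKH : kerK H M ≤ H := (kerK_le H M).trans inf_le_left
  have hn : ((kerK H M).subgroupOf H).Normal :=
    normal_subgroupOf_of_le_normalizer (le_normalizer_kerK H M)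
  refine CharP.generalizedFittingSubgroup_eq_pCore ?_
  exact CharP.centralizer_pCore_le_of_equiv (subgroupOfEquivOfLe hKH)
    (CharP.centralizer_pCore_le_of_isSubnormal
      (CharP.generalizedFittingSubgroup_eq_pCore_iff.mp hF) hn.isSubnormal)


/-- A form of the Thompson–Wielandt Theorem on primitive permutation groups. Let G be a finite group and M₁, M₂ two distinct conjugate maximal subgroups of G with trivial core in G; define two descending sequences of subgroups by A₀ = M₁, B₀ = M₂ and, for every i, A_{i+1} = the core in M₁ of A_i ∩ B_i and B_{i+1} = the core in M₂ of A_i ∩ B_i (the core in M of a subgroup Y ≤ M is the largest normal subgroup of M contained in Y). If A₂ and B₂ are both non-trivial, then for some prime p the subgroup generated by A₂ and B₂ is a p-group, and for each j the generalized Fitting subgroups of M_j and of its first core (A₁, resp. B₁) are their largest normal p-subgroups. -/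
theorem result {G : Type*} [Group G] [Finite G] (M₁ M₂ : Subgroup G) (hmax : IsCoatom M₁) (g : G)
    (hconj : M₂ = M₁.map (MulAut.conj g).toMonoidHom) (hne : M₁ ≠ M₂) (hcore : M₁.normalCore = ⊥)
    (A B : ℕ → Subgroup G) (hA0 : A 0 = M₁) (hB0 : B 0 = M₂)
    (hA : ∀ i, A (i + 1) = ((A i ⊓ B i).subgroupOf M₁).normalCore.map M₁.subtype)
    (hB : ∀ i, B (i + 1) = ((A i ⊓ B i).subgroupOf M₂).normalCore.map M₂.subtype) (hA2 : A 2 ≠ ⊥) (hB2 : B 2 ≠ ⊥) :
    ∃ p : ℕ, p.Prime ∧ IsPGroup p ↥(A 2 ⊔ B 2) ∧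
      Cfsg.generalizedFittingSubgroup ↥M₁ = Cfsg.pCore p ↥M₁ ∧ Cfsg.generalizedFittingSubgroup ↥(A 1) = Cfsg.pCore p ↥(A 1) ∧
      Cfsg.generalizedFittingSubgroup ↥M₂ = Cfsg.pCore p ↥M₂ ∧ Cfsg.generalizedFittingSubgroup ↥(B 1) = Cfsg.pCore p ↥(B 1) := by
  have hM2 : IsCoatom M₂ := by
    rw [hconj]
    exact ((MulAut.conj g).mapSubgroup.isCoatom_iff M₁).mpr hmax
  have s : Setup M₁ M₂ :=
    { maxH := hmax
      maxM := hM2
      ne := hne
      coreH := fun N hN hle => le_bot_iff.mp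
        (hcore ▸ (M₁.normal_le_normalCore (N := N)).mpr hle)
      coreM := fun N hN hle => by
        refine le_bot_iff.mp (hcore ▸ (M₁.normal_le_normalCore (N := N)).mpr fun x hx => ?_)
        have h' := hle (hN.conj_mem x hx g)
        rw [hconj] at h'
        obtain ⟨y, hy, hyx⟩ := h'
        exact (MulAut.conj g).injective hyx ▸ hy
      conj := ⟨g, hconj⟩ }
  have hA1 : A 1 = kerK M₁ M₂ := by rw [hA 0, hA0, hB0, kerK_eq_map]
  have hB1 : B 1 = kerK M₂ M₁ := by rw [hB 0, hA0, hB0, inf_comm M₁ M₂, kerK_eq_map]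
  have hA2' : A 2 = kerP M₁ M₂ := by rw [hA 1, hA1, hB1, kerP_eq_map]
  have hB2' : B 2 = kerP M₂ M₁ := by
    rw [hB 1, hA1, hB1, inf_comm (kerK M₁ M₂), kerP_eq_map]
  rw [hA2'] at hA2
  rw [hB2'] at hB2
  obtain ⟨r, hr, -, hPr, hF, hF1, -⟩ := one_side s hA2 hB2
  obtain ⟨q, hq, -, hQq, hF', hF1', -⟩ := one_side s.symm hB2 hA2
  haveI := Fact.mk hr
  haveI := Fact.mk hq
  obtain rfl : q = r := by
    by_contra hqr
    have h1 : kerP M₁ M₂ ≤ Cfsg.pCoreOf r M₂ :=
      (Lib.CharP.le_pCoreOf (kerP_le M₁ M₂) hPr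
        (((kerK_le M₂ M₁).trans inf_le_right).trans (le_normalizer_kerP M₁ M₂))).trans
        (pCoreOf_le_of_normalized ((kerK_le M₂ M₁).trans inf_le_left) (le_normalizer_kerK M₂ M₁))
    have h2 : Cfsg.pCore r ↥M₂ ≤ Cfsg.pCore q ↥M₂ := by
      rw [← hF']
      exact (Lib.Components.pCore_le_fittingSubgroup r).trans le_sup_right
    have h3 : IsPGroup q (kerP M₁ M₂) :=
      (Lib.CharP.pCoreOf_isPGroup (p := q) M₂).to_le (h1.trans (Subgroup.map_mono h2))
    exact hA2 (disjoint_self.mp (IsPGroup.disjoint_of_ne q r hqr _ _ h3 hPr))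
  refine ⟨q, hq, ?_, hF, ?_, hF', ?_⟩
  · rw [hA2', hB2']
    exact IsPGroup.to_sup_of_normal_right' hPr hQq
      ((kerP_le M₁ M₂).trans (((kerK_le M₂ M₁).trans inf_le_left).trans
        (le_normalizer_kerP M₂ M₁)))
  · rw [hA1]; exact hF1
  · rw [hB1]; exact hF1'

end Cfsg.Agent.S5752
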