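import Cfsg.Statements.S5754
import Mathlib

set_option autoImplicit false
set_option linter.style.haveILetI false
open Cfsg

namespace Cfsg.Agent.S5754


theorem exists_isometry_fixing {F V : Type*} [Field F] [AddCommGroup V] [Module F V]
    (Q : QuadraticForm F V) (hQ : Q.Anisotropic) (u u' : V) (hu : Q u = Q u') :
    ∃ φ : Q.IsometryEquiv Q, φ u = u' ∧
      ∀ w, QuadraticMap.polar Q u w = QuadraticMap.polar Q u' w → φ w = w := by
  by_cases h : u = u'
  · exact ⟨QuadraticMap.IsometryEquiv.refl Q, by subst h; rfl, fun w _ => rfl⟩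
  set x := u - u' with hx
  have hx0 : Q x ≠ 0 := fun h0 => h (sub_eq_zero.mp (hQ x h0))
  let f : Module.Dual F V := (Q x)⁻¹ • (QuadraticMap.polarBilin Q x)
  have hfx : f x = 2 := by
    show (Q x)⁻¹ * QuadraticMap.polar Q x x = 2
    rw [QuadraticMap.polar_self, two_smul]
    field_simp
    norm_num
  let r : V ≃ₗ[F] V := Module.reflection hfx
  have hr : ∀ v, r v = v - ((Q x)⁻¹ * QuadraticMap.polar Q x v) • x := fun v => Module.reflection_apply (h := hfx) v
  refine ⟨⟨r, fun v => ?_⟩, ?_, fun w hw => ?_⟩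
  · show Q (r v) = Q v
    rw [hr, sub_eq_add_neg, ← neg_smul, QuadraticMap.map_add Q, QuadraticMap.polar_smul_right,
      QuadraticMap.map_smul, QuadraticMap.polar_comm Q v x, smul_eq_mul, smul_eq_mul]
    field_simp
    ring
  · show r u = u'
    have hp : QuadraticMap.polar Q x u = Q x := by
      have h1 : QuadraticMap.polar Q x u = 2 * Q u - QuadraticMap.polar Q u' u := by
        rw [hx, QuadraticMap.polar_sub_left, QuadraticMap.polar_self, two_smul, two_mul]
      have h2 : Q x = Q u + Q u' - QuadraticMap.polar Q u u' := by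
        rw [hx, sub_eq_add_neg, QuadraticMap.map_add Q, QuadraticMap.map_neg, QuadraticMap.polar_neg_right]
        ring
      rw [h1, h2, hu, QuadraticMap.polar_comm Q u' u]
      ring
    rw [hr, hp, inv_mul_cancel₀ hx0, one_smul, hx]
    abel
  · show r w = w
    rw [hr, hx, QuadraticMap.polar_sub_left, hw, sub_self, mul_zero, zero_smul, sub_zero]

theorem exists_isometry {F V : Type*} [Field F] [AddCommGroup V] [Module F V]
    (Q : QuadraticForm F V) (hQ : Q.Anisotropic) : ∀ (n : ℕ) (w w' : Fin n → V),
    (∀ i, Q (w i) = Q (w' i)) → (∀ i j, Q (w i - w j) = Q (w' i - w' j)) →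
      ∃ φ : Q.IsometryEquiv Q, ∀ i, φ (w i) = w' i := by
  intro n
  induction n with
  | zero => exact fun w w' _ _ => ⟨QuadraticMap.IsometryEquiv.refl Q, fun i => i.elim0⟩
  | succ n ih =>
    intro w w' h1 h2
    obtain ⟨φ, hφ⟩ := ih (fun i => w i.castSucc) (fun i => w' i.castSucc) (fun i => h1 _) (fun i j => h2 _ _)
    obtain ⟨ψ, hψ, hψfix⟩ := exists_isometry_fixing Q hQ (φ (w (Fin.last n))) (w' (Fin.last n))
      ((φ.map_app _).trans (h1 _))
    refine ⟨φ.trans ψ, fun i => ?_⟩
    induction i using Fin.lastCases with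
    | last => exact hψ
    | cast i =>
      show ψ (φ (w i.castSucc)) = w' i.castSucc
      have h3 := hψfix (φ (w i.castSucc)) ?_
      · rw [h3]; exact hφ i
      have hpol : ∀ a b : V, QuadraticMap.polar Q a b = Q a + Q b - Q (a - b) := by
        intro a b
        rw [sub_eq_add_neg a b, QuadraticMap.map_add Q a (-b), QuadraticMap.map_neg, QuadraticMap.polar_neg_right]
        ring
      have h5 : φ (w (Fin.last n)) - φ (w i.castSucc) = φ (w (Fin.last n) - w i.castSucc) :=
        (map_sub φ.toLinearEquiv _ _).symm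
      have h6 := h2 (Fin.last n) i.castSucc
      rw [hpol, hpol, h5, φ.map_app, φ.map_app, φ.map_app, h6, hφ i, h1, h1]

/-- Let V be a finite-dimensional vector space over a finite field F carrying an anisotropic quadratic form Q (Q(v) = 0 only for v = 0). Then the group of all maps v ↦ φ(v) + c, with φ an isometry of Q and c ∈ V, acts on V as a binary permutation group: given n ≥ 2 and two n-tuples u, u' of vectors such that every pair of corresponding entries of u is carried to that of u' by such a map, one such map carries u to u'. -/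
theorem result {F V : Type*} [Field F] [Finite F] [AddCommGroup V] [Module F V] [Module.Finite F V]
    (Q : QuadraticForm F V) (hQ : Q.Anisotropic) (n : ℕ) (hn : 2 ≤ n) (u u' : Fin n → V)
    (h2 : ∀ i j : Fin n, i ≠ j → ∃ (φ : Q.IsometryEquiv Q) (c : V), φ (u i) + c = u' i ∧ φ (u j) + c = u' j) :
    ∃ (φ : Q.IsometryEquiv Q) (c : V), ∀ i, φ (u i) + c = u' i := by
  let i₀ : Fin n := ⟨0, by omega⟩
  have hd : ∀ i j, Q (u i - u j) = Q (u' i - u' j) := by
    intro i j
    by_cases hij : i = j
    · subst hij; simp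
    obtain ⟨φ, c, hi, hj⟩ := h2 i j hij
    rw [← hi, ← hj, add_sub_add_right_eq_sub, show φ (u i) - φ (u j) = φ (u i - u j) from
      (map_sub φ.toLinearEquiv _ _).symm, φ.map_app]
  obtain ⟨φ, hφ⟩ := exists_isometry Q hQ n (fun i => u i - u i₀) (fun i => u' i - u' i₀)
    (fun i => hd i i₀) (fun i j => by
      rw [sub_sub_sub_cancel_right, sub_sub_sub_cancel_right]; exact hd i j)
  refine ⟨φ, u' i₀ - φ (u i₀), fun i => ?_⟩
  have h := hφ i
  rw [show φ (u i - u i₀) = φ (u i) - φ (u i₀) from map_sub φ.toLinearEquiv _ _] at h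
  rw [add_sub, add_comm, ← add_sub, h, add_sub_cancel]

end Cfsg.Agent.S5754
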