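import Mathlib

set_option maxRecDepth 8000

namespace Cfsg.Agent.S5763

/-- Coset representatives of the Sylow 2-subgroup, in base 8. -/
def repTable : List Nat := [16434824,16434768,16431240,16205448,16434264,16431184,16205392,16427208,16398984,16201864,14141064,16430176,16204888,16427096,16398928,16201808,14141008,16423120,16394952,16197832,16137352,15940232,14137480,16426592,16397416,16200800,14140504,16423064,16394840,16197720,16137296,15940176,14137424,9248680,16390864,16193744,16362248,16133320,15936200,14133448,15907976,14040712,13875848,16422560,16393832,16197216,16135280,15938664,14136416,9019304,16390808,16193688,16362080,16133208,15936088,14133336,15907920,14040656,13875792,11345824,9248624,16358160,16129232,15932112,14129360,16100616,15903944,14036680,15674120,13871816,11779208,13811336,6954920,16389800,16193184,16361576,16131696,15935080,14132832,15905904,14038136,13874280,11116448,9019248,16358048,16129176,15932056,14129304,16100448,15903832,14036568,1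5673952,13871704,11779152,13811280,11607960,13442912,11345712,9248120,16325400,16096528,15899856,14032592,15670032,13867728,15838536,14003976,15641864,13807304,13609736,11775176,11746952,6987680,6954864,16357544,16127664,15931048,14128800,16099440,15902320,14034552,15673448,13870696,11777136,13808760,11149208,13213536,11116336,9018744,16325344,16096416,15899800,14032536,15669920,13867672,15838312,14003808,15641696,13807192,13609568,11775064,11746896,11640720,13705048,13442856,15539552,11607792,11345208,16063768,15834448,13999888,15637776,13803216,15407896,13605648,11771088,15609160,13741896,11513096,13545224,11742920,9084824,7020384,6987568,6954360,16324840,16095408,15898288,14030520,15669416,13866664,15837808,14002296,15640688,13805176,13609064,11773552,11744376,11411344,13246296,13213480,15310176,11149040,11115832,16063712,15834280,13999776,15637664,13803160,15407840,13605536,11771032,15608936,13741672,11512928,13545056,11742808,11644808,13737808,13967128,15801688,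13704936,15539496,11640496,11607288,13441848,15605072,15375640,13541136,11738832,13343512,11509008,9416008,13512520,11480840,9346960,9117528,7020328,7052640,9084656,6987064,16062704,15833776,13998264,15636656,13801144,15407336,13605032,11769520,15608432,13740664,11511920,13543544,11740792,11415432,13508432,13279000,15342936,13246184,15310120,11411120,11148536,13212472,15801576,13967072,15604904,13737640,15375584,13541024,11738776,13343456,11508896,9415784,13512296,11644528,11480672,15538992,11639992,13703928,11246872,11476752,9411920,9383752,9351048,9379664,11214616,9149784,9117416,7052584,9346736,9084152,7019320,15801072,13965560,15604400,13736632,15374576,13539512,11736760,13342952,11507888,9415280,13511288,11644024,11479160,13278944,13508264,15342824,15309616,11415152,11410616,13245176,11246816,11476640,9411752,9383528,11214560,9379496,9149672,7052080,9350768,9346232,9116408,15342320,13507256,11245808,13277432,11475128,9411248,9382520,11414648,9149168,9350264,9378488,11213048]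

/-- Two words giving a common element for each representative. -/
def witTable : List (List (Fin 3) × List (Fin 3)) := [
  ([0], [0]),
  ([1,0,1,0], [1]),
  ([0], [0]),
  ([0], [0]),
  ([1], [0,1,0]),
  ([2,1,0,1,2], [2,1,0,1,2]),
  ([2], [2]),
  ([0], [0]),
  ([0], [0]),
  ([0], [0]),
  ([0], [0]),
  ([2,1,0,1,2], [2,1,0,1,2]),
  ([1], [0,1,0]),
  ([2,1,0,1,2], [2,1,0,1,2]),
  ([2,1,0,1,2], [2,1,0,1,2]),
  ([0,1,0,2,0,1,0], [0,1,0,2,0,1,0]),
  ([1,0,1,0], [1]),
  ([2,1,0,1,2], [2,1,0,1,2]),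
  ([0], [0]),
  ([0], [0]),
  ([0], [0]),
  ([0], [0]),
  ([0], [0]),
  ([2,1,0,1,2], [2,1,0,1,2]),
  ([2,1,0,1,2], [2,1,0,1,2]),
  ([1,0,2,0,1], [1,0,1,0,2,1,0,1,0]),
  ([2], [2]),
  ([2,1,0,1,2], [2,1,0,1,2]),
  ([2,1,0,1,2], [2,1,0,1,2]),
  ([0,1,2,1,0], [0,1,0,2,0,1,0]),
  ([1,0,1,0,2,1,0,1,0], [1,0,2,0,1]),
  ([0,1,2,1,0], [0,1,0,2,0,1,0]),
  ([1,0,2,0,1], [0,1,0,2,0,1,0]),
  ([2,1,0,1,2], [1,0,1]),
  ([2,1,0,1,2], [2,1,0,1,2]),
  ([1,0,1,0,2,1,0,1,0], [1,0,2,0,1]),
  ([0], [0]),
  ([0], [0]),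
  ([0], [0]),
  ([0], [0]),
  ([0], [0]),
  ([0], [0]),
  ([0], [0]),
  ([1,0,1], [1,0,1]),
  ([2,1,0,1,2], [2,1,0,1,2]),
  ([1,2,1], [1,0,1,0,2,1,0,1,0]),
  ([1,0,1,2,1,0,1], [0,2,0]),
  ([1,2,1], [1,0,1,0,2,1,0,1,0]),
  ([0,1,0,2,0,1,0], [1,0,1,0,2,1,0,1,0]),
  ([2,1,0,1,2], [1,0,1]),
  ([2,1,0,1,2], [2,1,0,1,2]),
  ([0,2,0], [1,0,2,0,1]),
  ([2,0,2,0], [1]),
  ([0,2,0], [1,0,2,0,1]),
  ([0,1,0,2,0,1,0], [0,1,0,2,0,1,0]),
  ([1,2,1], [0,1,0,2,0,1,0]),
  ([1,0,1,2,1,0,1], [1,0,2,0,1]),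
  ([0,2,0], [1,0,2,0,1]),
  ([1,2,1], [0,1,0,2,0,1,0]),
  ([2,1,0,1,2], [1,0,1]),
  ([1,0,1,2,1,0,1], [0,1,2,1,0]),
  ([1], [2,0,2,0]),
  ([0,1,0,2,0,1,0], [0,1,0,2,0,1,0]),
  ([1,0,1,2,1,0,1], [1,0,2,0,1]),
  ([0,2,0], [1,0,2,0,1]),
  ([0], [0]),
  ([0], [0]),
  ([0], [0]),
  ([0], [0]),
  ([0], [0]),
  ([0], [0]),
  ([0], [0]),
  ([2], [0,2,0]),
  ([2], [0,2,0]),
  ([1,0,1], [1,0,1]),
  ([2,0,2,0], [1]),
  ([2], [0,2,0]),
  ([1,0,2,0,1], [1,0,1,0,2,1,0,1,0]),
  ([0,1,2,1,0], [1,0,1,0,2,1,0,1,0]),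
  ([1,0,1,0,2,1,0,1,0], [0,2,0]),
  ([2], [0,2,0]),
  ([0,1,2,1,0], [1,0,1,0,2,1,0,1,0]),
  ([2,1,0,1,2], [1,0,1]),
  ([2], [0,1,2,1,0]),
  ([2,0,2,1], [2,0,2,1]),
  ([0,1,2,1,0], [0,1,0,2,0,1,0]),
  ([2], [1,0,2,0,1]),
  ([1,0,1,0,2,1,0,1,0], [1,0,2,0,1]),
  ([1,0,1], [2,0,2]),
  ([2], [1,0,2,0,1]),
  ([1,0,1,0,2,1,0,1,0], [1,0,2,0,1]),
  ([2,0,2,0], [1]),
  ([1,0,2,0,1], [0,1,0,2,0,1,0]),
  ([2,0,2], [2,1,0,1,2]),
  ([2], [1,0,2,0,1]),
  ([2,1,2,1], [0,2,0]),
  ([1,0,2,0,1], [0,1,0,2,0,1,0]),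
  ([1,0,1,0,2,1,0,1,0], [0,1,2,1,0]),
  ([2], [0,1,2,1,0]),
  ([2,0,2], [1,0,1]),
  ([1], [2,0,2,0]),
  ([0,1,2,1,0], [0,1,0,2,0,1,0]),
  ([1,0,2,0,1], [0,1,0,2,0,1,0]),
  ([2,0,2], [1,0,1]),
  ([2], [1,0,2,0,1]),
  ([0], [0]),
  ([0], [0]),
  ([0], [0]),
  ([0], [0]),
  ([0], [0]),
  ([0], [0]),
  ([0], [0]),
  ([0,2,0], [0,2,0]),
  ([1,0,1], [2,1,0,1,2]),
  ([2,0,2,1], [2,0,2,1]),
  ([1,0,1], [1,0,1]),
  ([1,0,1], [1,0,1]),
  ([1,0,1], [1,0,1]),
  ([1,0,1], [2,0,2]),
  ([0,2,0], [0,2,0]),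
  ([1,0,1,2,1,0,1], [0,2,0]),
  ([2,0,2,0], [1]),
  ([0,1,0,2,0,1,0], [1,0,1,0,2,1,0,1,0]),
  ([2,0,2], [2,1,0,1,2]),
  ([0,2,0], [0,2,0]),
  ([2,1,0,1,2], [1,0,1]),
  ([1,2,1], [0,1,0,2,0,1,0]),
  ([0,2,0], [0,1,2,1,0]),
  ([1,0,1,2,1,0,1], [0,1,2,1,0]),
  ([2,1,0,1,2], [2,1,0,1,2]),
  ([2], [2,1,2,1,0,1,0]),
  ([0,1,0,2,0,1,0], [0,1,0,2,0,1,0]),
  ([1,2,1], [0,1,0,2,0,1,0]),
  ([2,1,2,1,0,1,0], [2]),
  ([1,0,1,2,1,0,1], [1,0,2,0,1]),
  ([1,0,1], [2,0,2]),
  ([1,0,1], [2,0,2]),
  ([2,1,0,1,0,2,1], [2]),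
  ([1,0,1,2,1,0,1], [1,0,2,0,1]),
  ([2,0,2,0], [1]),
  ([2,0,2], [2,1,0,1,2]),
  ([2,0,2], [2,1,0,1,2]),
  ([1], [2,0,2,0]),
  ([0,1,0], [2,0,2,0]),
  ([1,2,1], [0,1,0,2,0,1,0]),
  ([0,1,0,2,0,1,0], [0,1,0,2,0,1,0]),
  ([2,0,2], [2,1,0,1,2]),
  ([0,2,0], [0,1,2,1,0]),
  ([0,2,0], [1,2,1]),
  ([1], [2,0,2,0]),
  ([1], [2,0,2,0]),
  ([2], [2,1,0,1,0,2,1]),
  ([1,2,1], [0,1,0,2,0,1,0]),
  ([2,0,2], [1,0,1]),
  ([2,0,2], [1,0,1]),
  ([2,0,2], [2,1,0,1,2]),
  ([0], [0]),
  ([0], [0]),
  ([0], [0]),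
  ([0], [0]),
  ([0], [0]),
  ([2,1,0,1,2], [1,0,1]),
  ([1,0,1], [2,1,0,1,2]),
  ([1,0,1], [2,1,0,1,2]),
  ([1,0,1], [2,1,0,1,2]),
  ([2,1,0,1,2], [2,1,0,1,2]),
  ([2], [2,1,2,0,1,0]),
  ([1,0,1], [1,0,1]),
  ([1,0,1], [1,0,1]),
  ([2,1,2,0,1,0], [1,2,1]),
  ([1,0,1], [1,0,1]),
  ([1,0,1], [2,0,2]),
  ([1,0,1], [2,0,2]),
  ([2,0,1,0,2,1], [2]),
  ([1,0,1,0,2,1,0,1,0], [0,2,0]),
  ([2,0,2,0], [1]),
  ([2,0,2], [2,1,0,1,2]),
  ([2,0,2], [2,1,0,1,2]),
  ([2,1,0,1,2], [1,0,1]),
  ([0,2,0], [2,1,0,1,0,2,1]),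
  ([1,0,2,0,1], [0,1,0,2,0,1,0]),
  ([0,1,2,1,0], [0,1,0,2,0,1,0]),
  ([2,1,2,1,0,1,0], [2]),
  ([1,0,1,0,2,1,0,1,0], [0,1,2,1,0]),
  ([2,1,2,0,1,0], [2,1,0,1,0,2,1]),
  ([0,2,0], [2,1,2,1,0,1,0]),
  ([2,0,1,0,2,1], [2,1,0,1,0,2,1]),
  ([2,1,2,1], [2,1,2,1]),
  ([1,0,2,0,1], [0,1,0,2,0,1,0]),
  ([2,1,2,1,0,1,0], [2]),
  ([2,1,2,0,1,0], [1,2,1]),
  ([2,0,2], [2,1,0,1,2]),
  ([2,1,0,1,0,2,1], [2]),
  ([1,0,1], [2,0,2]),
  ([2,0,1,0,2,1], [2]),
  ([2,1,0,1,0,2,1], [2]),
  ([2,0,2], [2,1,0,1,2]),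
  ([0], [0]),
  ([2], [1,2,1]),
  ([2], [2,1,2,1]),
  ([2], [1,2,1]),
  ([0,2,0], [2,1,2,1,0,1,0]),
  ([0,1,2,1,0], [0,1,0,2,0,1,0]),
  ([2,0,2], [2,1,0,1,2]),
  ([2,0,2], [2,1,0,1,2]),
  ([2,0,2], [1,0,1]),
  ([0,2,0], [2,1,0,1,0,2,1]),
  ([2,1,2,0,1,0], [2,1,2,1,0,1,0]),
  ([2,0,1,0,2,1], [2,1,2,1,0,1,0]),
  ([2,0,2], [2,1,0,1,2]),
  ([2,0,2], [1,0,1]),
  ([2], [2,0,1,0,2,1]),
  ([0], [0]),
  ([0], [0]),
  ([0], [0]),
  ([2,1,0,1,2], [1,0,1]),
  ([0,2,0], [2,0,1,0,2,1]),
  ([1,0,1], [2,1,0,1,2]),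
  ([1,0,1], [2,1,0,1,2]),
  ([2,1,2,1], [1,2,1]),
  ([1,0,1], [2,1,0,1,2]),
  ([2,1,2,0,1,0], [2,1,0,1,0,2,1]),
  ([0,2,0], [2,1,2,0,1,0]),
  ([2,0,1,0,2,1], [2,1,0,1,0,2,1]),
  ([2,1,2,1], [2,1,2,1]),
  ([1,0,1], [1,0,1]),
  ([2,1,2,1], [1,2,1]),
  ([2,1,2,1,0,1,0], [2]),
  ([1,0,1], [1,0,1]),
  ([2,1,2,1], [2]),
  ([1,0,1], [2,0,2]),
  ([2,1,0,1,0,2,1], [2]),
  ([2,1,2,1], [2]),
  ([2,0,2], [2,1,0,1,2]),
  ([0], [0]),
  ([2,1,2,1], [2,1,2,1,0,1,0]),
  ([2], [2,1,0,1,0,2,1]),
  ([1,2,1], [2,0,1,0,2,0,1,0]),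
  ([2,0,1,0,2,1], [1,2,1]),
  ([0,1,0,2,0,1,0], [0,1,0,2,0,1,0]),
  ([2,1,2,1,0,1,0], [2]),
  ([2,1,2,1], [1,2,1]),
  ([2,0,2], [1,0,1]),
  ([1,2,1], [2,0,1,0,2,0,1,0]),
  ([2], [2,1,2,1,0,1,0]),
  ([2,1,2,0,1,0], [1,2,1]),
  ([2,1,2,1], [2,1,0,1,0,2,1]),
  ([2,0,1,0,2,1], [1,2,1]),
  ([2,1,2,0,1,0], [1,2,1]),
  ([2,0,2], [2,1,0,1,2]),
  ([2,1,2,1], [1,2,1]),
  ([2,1,2,1], [2,1,2,1]),
  ([2,1,2,1], [2]),
  ([2,1,0,1,0,2,1], [2]),
  ([1,0,1], [2,0,2]),
  ([2,1,2,1], [2]),
  ([2,0,2], [1,0,1]),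
  ([2,0,2], [2,1,0,1,2]),
  ([0,2,0], [2,1,2,0,1,0]),
  ([2,1,2,0,1,0], [2,1,2,1,0,1,0]),
  ([2,0,1,0,2,1], [2,1,2,1,0,1,0]),
  ([0,2,0], [2,0,1,0,2,1]),
  ([0], [0]),
  ([0], [0]),
  ([2,1,2,1], [2,1,2,1,0,1,0]),
  ([2], [2,0,1,0,2,1]),
  ([1,2,1], [2,1,0,1,0,2,0,1,0]),
  ([2,0,1,0,2,1,0,1,0], [2]),
  ([1,0,1], [2,1,0,1,2]),
  ([2,1,2,0,1,0], [1,2,1]),
  ([2,1,2,1,0,1,0], [2]),
  ([2,0,2], [1,0,1]),
  ([1,2,1], [2,0,1,0,2,1,0,1,0]),
  ([2], [2,1,2,0,1,0]),
  ([2,1,2,1,0,1,0], [2]),
  ([2,1,2,1], [2,1,0,1,0,2,1]),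
  ([2,0,1,0,2,1,0,1,0], [2]),
  ([2,1,2,1,0,1,0], [2]),
  ([1,0,1], [1,0,1]),
  ([2,1,2,1,0,1,0], [2]),
  ([2,1,2,1], [2,1,2,1]),
  ([2,1,0,1,0,2,1], [2]),
  ([2,0,1,0,2,1], [2]),
  ([1,0,1], [2,0,2]),
  ([2,1,0,1,0,2,1], [2]),
  ([2,1,2,1], [1,2,1]),
  ([2,1,2,1], [2,1,2,1]),
  ([2,1,2,1], [1,2,1]),
  ([2,0,2], [1,0,1]),
  ([2,1,2,1], [2]),
  ([2,1,2,0,1,0], [1,2,1]),
  ([2,0,1,0,2,1,0,1,0], [2]),
  ([2,0,1,0,2,1,0,1,0], [2]),
  ([2,1,2,1,0,1,0], [2]),
  ([2,1,2,1,0,1,0], [2]),
  ([2,0,1,0,2,1], [2]),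
  ([2,1,2,1,0,1,0], [2]),
  ([2,1,2,1], [2,1,2,1]),
  ([2,1,2,1,0,1,0], [2]),
  ([2,0,2], [1,0,1]),
  ([2,1,0,1,2,0], [1]),
  ([2,1,2,1,0,1,0], [2]),
  ([2,0,1,0,2,1], [1,2,1]),
  ([2,1,2,1,0,1,0], [2]),
  ([2,1,2,1], [2,1,2,1]),
  ([2,0,1,0,2,1], [1,2,1]),
  ([2,1,2,1,0,1,0], [2]),
  ([2,1,2,0,1,0], [1,2,1]),
  ([2,1,2,0,1,0], [1,2,1]),
  ([2,1,0,1,0,2,1], [2]),
  ([2,1,0,1,2,0], [1]),
  ([2,1,2,1], [1,2,1]),
  ([2,1,2,1], [2]),
  ([2,1,2,1], [2,1,2,1]),
  ([2,1,2,1], [1,2,1])]

/-- Action of the adjacent transpositions on the representatives. -/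
def transTable : List (List (Nat × List (Fin 3))) := [
  [(0, [0]), (1, []), (0, [1,0,1]), (2, []), (0, [2,0,2]), (3, []), (0, [2,1,0,1,2])],
  [(4, [1]), (0, []), (4, []), (5, []), (1, [2,0,2]), (6, []), (1, [2,1,0,1,2])],
  [(2, [0]), (5, []), (7, []), (0, []), (8, []), (9, []), (2, [2,1,0,1,2])],
  [(3, [0]), (6, []), (3, [1,0,1]), (9, []), (10, [2,1,2]), (0, []), (10, [])],
  [(1, [1]), (4, [1,0,1]), (1, []), (11, []), (4, [2,0,2]), (12, []), (4, [2,1,0,1,2])],
  [(11, [1]), (2, []), (13, []), (1, []), (14, []), (15, []), (5, [2,1,0,1,2])],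
  [(12, [1]), (3, []), (12, []), (15, []), (16, [2,1,2]), (1, []), (16, [])],
  [(7, [0]), (17, []), (2, []), (7, [1,0,1]), (18, []), (19, []), (7, [2,1,0,1,2])],
  [(8, [0]), (14, []), (18, []), (8, [2,0,2]), (2, []), (20, []), (8, [2,1,0,1,2])],
  [(9, [0]), (15, []), (19, []), (3, []), (21, []), (2, []), (22, [])],
  [(10, [0]), (16, []), (10, [1,0,1]), (22, []), (3, [2,1,2]), (10, [2,1,0,1,2]), (3, [])],
  [(5, [1]), (11, [1,0,1]), (23, []), (4, []), (24, []), (25, []), (11, [2,1,0,1,2])],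
  [(6, [1]), (12, [1,0,1]), (6, []), (25, []), (26, [2,1,2]), (4, []), (26, [])],
  [(23, [1]), (27, []), (5, []), (23, []), (28, []), (29, []), (13, [2,1,0,1,2])],
  [(24, [1]), (8, []), (28, []), (14, [2,0,2]), (5, []), (30, []), (14, [2,1,0,1,2])],
  [(25, [1]), (9, []), (29, []), (6, []), (31, []), (5, []), (32, [])],
  [(26, [1]), (10, []), (26, []), (32, []), (6, [2,1,2]), (16, [2,1,0,1,2]), (6, [])],
  [(33, [2]), (7, []), (27, []), (17, [1,0,1]), (34, []), (35, []), (17, [2,1,0,1,2])],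
  [(18, [0]), (34, []), (8, []), (36, []), (7, []), (37, []), (18, [2,1,0,1,2])],
  [(19, [0]), (35, []), (9, []), (19, [1,0,1]), (38, []), (7, []), (39, [])],
  [(20, [0]), (30, []), (37, []), (20, [2,0,2]), (40, []), (8, []), (41, [])],
  [(21, [0]), (31, []), (38, []), (42, [2,1,2]), (9, []), (40, []), (42, [])],
  [(22, [0]), (32, []), (39, []), (10, []), (42, []), (22, [2,1,0,1,2]), (9, [])],
  [(13, [1]), (43, []), (11, []), (13, []), (44, []), (45, []), (23, [2,1,0,1,2])],
  [(14, [1]), (24, [1,0,1]), (44, []), (24, [2,0,2]), (11, []), (46, []), (24, [2,1,0,1,2])],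
  [(15, [1]), (25, [1,0,1]), (45, []), (12, []), (47, []), (11, []), (48, [])],
  [(16, [1]), (26, [1,0,1]), (16, []), (48, []), (12, [2,1,2]), (26, [2,1,0,1,2]), (12, [])],
  [(49, [2]), (13, []), (17, []), (43, []), (50, []), (51, []), (27, [2,1,0,1,2])],
  [(44, [1]), (50, []), (14, []), (52, []), (13, []), (53, []), (28, [2,1,0,1,2])],
  [(45, [1]), (51, []), (15, []), (45, []), (54, []), (13, []), (55, [])],
  [(46, [1]), (20, []), (53, []), (30, [2,0,2]), (56, []), (14, []), (57, [])],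
  [(47, [1]), (21, []), (54, []), (58, [2,1,2]), (15, []), (56, []), (58, [])],
  [(48, [1]), (22, []), (55, []), (16, []), (58, []), (32, [2,1,0,1,2]), (15, [])],
  [(17, [2]), (33, [2,0,2]), (49, []), (33, [2,1,0,1,2]), (59, []), (60, []), (33, [1,0,1])],
  [(59, [2]), (18, []), (50, []), (61, []), (17, []), (62, []), (34, [2,1,0,1,2])],
  [(60, [2]), (19, []), (51, []), (35, [1,0,1]), (63, []), (17, []), (64, [])],
  [(36, [0]), (61, []), (36, [2,0,2]), (18, []), (36, [1,0,1]), (65, []), (36, [2,1,0,1,2])],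
  [(37, [0]), (62, []), (20, []), (65, []), (66, []), (18, []), (67, [])],
  [(38, [0]), (63, []), (21, []), (68, []), (19, []), (66, []), (69, [])],
  [(39, [0]), (64, []), (22, []), (39, [1,0,1]), (69, []), (39, [2,1,0,1,2]), (19, [])],
  [(40, [0]), (56, []), (66, []), (70, [2,1,2]), (20, []), (21, []), (71, [])],
  [(41, [0]), (57, []), (67, []), (41, [2,0,2]), (71, []), (41, [2,1,0,1,2]), (20, [])],
  [(42, [0]), (58, []), (69, []), (21, [2,1,2]), (22, []), (70, []), (21, [])],
  [(72, [2]), (23, []), (43, [1,0,1]), (27, []), (73, []), (74, []), (43, [2,1,0,1,2])],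
  [(28, [1]), (73, []), (24, []), (75, []), (23, []), (76, []), (44, [2,1,0,1,2])],
  [(29, [1]), (74, []), (25, []), (29, []), (77, []), (23, []), (78, [])],
  [(30, [1]), (46, [1,0,1]), (76, []), (46, [2,0,2]), (79, []), (24, []), (80, [])],
  [(31, [1]), (47, [1,0,1]), (77, []), (81, [2,1,2]), (25, []), (79, []), (81, [])],
  [(32, [1]), (48, [1,0,1]), (78, []), (26, []), (81, []), (48, [2,1,0,1,2]), (25, [])],
  [(27, [2]), (72, [2,1,2]), (33, []), (72, []), (82, []), (83, []), (49, [1,0,1])],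
  [(82, [2]), (28, []), (34, []), (84, []), (27, []), (85, []), (50, [2,1,0,1,2])],
  [(83, [2]), (29, []), (35, []), (74, []), (86, []), (27, []), (87, [])],
  [(75, [1]), (84, []), (52, [2,0,2]), (28, []), (75, []), (88, []), (52, [2,1,0,1,2])],
  [(76, [1]), (85, []), (30, []), (88, []), (89, []), (28, []), (90, [])],
  [(77, [1]), (86, []), (31, []), (91, []), (29, []), (89, []), (92, [])],
  [(78, [1]), (87, []), (32, []), (78, []), (92, []), (55, [2,1,0,1,2]), (29, [])],
  [(79, [1]), (40, []), (89, []), (93, [2,1,2]), (30, []), (31, []), (94, [])],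
  [(80, [1]), (41, []), (90, []), (57, [2,0,2]), (94, []), (57, [2,1,0,1,2]), (30, [])],
  [(81, [1]), (42, []), (92, []), (31, [2,1,2]), (32, []), (93, []), (31, [])],
  [(34, [2]), (59, [2,0,2]), (82, []), (95, []), (33, []), (96, []), (59, [1,0,1])],
  [(35, [2]), (60, [2,0,2]), (83, []), (60, [2,1,0,1,2]), (97, []), (33, []), (98, [])],
  [(95, [2]), (36, []), (99, []), (34, []), (61, [1,0,1]), (100, []), (61, [2,1,0,1,2])],
  [(96, [2]), (37, []), (85, []), (100, []), (101, []), (34, []), (102, [])],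
  [(97, [2]), (38, []), (86, []), (103, []), (35, []), (101, []), (104, [])],
  [(98, [2]), (39, []), (87, []), (64, [1,0,1]), (104, []), (64, [2,1,0,1,2]), (35, [])],
  [(65, [0]), (100, []), (65, [2,0,2]), (37, []), (105, []), (36, []), (106, [])],
  [(66, [0]), (101, []), (40, []), (107, []), (37, []), (38, []), (108, [])],
  [(67, [0]), (102, []), (41, []), (106, []), (108, []), (67, [2,1,0,1,2]), (37, [])],
  [(68, [0]), (103, []), (109, [2,1,2]), (38, []), (68, [1,0,1]), (107, []), (109, [])],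
  [(69, [0]), (104, []), (42, []), (109, []), (39, []), (110, []), (38, [])],
  [(70, [0]), (93, []), (110, []), (40, [2,1,2]), (70, [2,1,0,1,2]), (42, []), (111, [])],
  [(71, [0]), (94, []), (108, []), (111, [2,1,2]), (41, []), (111, []), (40, [])],
  [(43, [2]), (49, [2,1,2]), (72, [2,1,0,1,2]), (49, []), (112, []), (113, []), (72, [1,0,1])],
  [(112, [2]), (44, []), (73, [1,0,1]), (114, []), (43, []), (115, []), (73, [2,1,0,1,2])],
  [(113, [2]), (45, []), (74, [1,0,1]), (51, []), (116, []), (43, []), (117, [])],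
  [(52, [1]), (114, []), (75, [2,0,2]), (44, []), (52, []), (118, []), (75, [2,1,0,1,2])],
  [(53, [1]), (115, []), (46, []), (118, []), (119, []), (44, []), (120, [])],
  [(54, [1]), (116, []), (47, []), (121, []), (45, []), (119, []), (122, [])],
  [(55, [1]), (117, []), (48, []), (55, []), (122, []), (78, [2,1,0,1,2]), (45, [])],
  [(56, [1]), (79, [1,0,1]), (119, []), (123, [2,1,2]), (46, []), (47, []), (124, [])],
  [(57, [1]), (80, [1,0,1]), (120, []), (80, [2,0,2]), (124, []), (80, [2,1,0,1,2]), (46, [])],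
  [(58, [1]), (81, [1,0,1]), (122, []), (47, [2,1,2]), (48, []), (123, []), (47, [])],
  [(50, [2]), (112, [2,1,2]), (59, []), (125, []), (49, []), (126, []), (82, [1,0,1])],
  [(51, [2]), (113, [2,1,2]), (60, []), (113, []), (127, []), (49, []), (128, [])],
  [(125, [2]), (52, []), (129, []), (50, []), (114, []), (130, []), (84, [2,1,0,1,2])],
  [(126, [2]), (53, []), (62, []), (130, []), (131, []), (50, []), (132, [])],
  [(127, [2]), (54, []), (63, []), (133, []), (51, []), (131, []), (134, [])],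
  [(128, [2]), (55, []), (64, []), (117, []), (134, []), (87, [2,1,0,1,2]), (51, [])],
  [(118, [1]), (130, []), (88, [2,0,2]), (53, []), (135, []), (52, []), (136, [])],
  [(119, [1]), (131, []), (56, []), (137, []), (53, []), (54, []), (138, [])],
  [(120, [1]), (132, []), (57, []), (136, []), (138, []), (90, [2,1,0,1,2]), (53, [])],
  [(121, [1]), (133, []), (139, [2,1,2]), (54, []), (121, []), (137, []), (139, [])],
  [(122, [1]), (134, []), (58, []), (139, []), (55, []), (140, []), (54, [])],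
  [(123, [1]), (70, []), (140, []), (56, [2,1,2]), (93, [2,1,0,1,2]), (58, []), (141, [])],
  [(124, [1]), (71, []), (138, []), (141, [2,1,2]), (57, []), (141, []), (56, [])],
  [(61, [2]), (95, [2,0,2]), (142, []), (59, []), (95, [2,1,0,1,2]), (143, []), (95, [1,0,1])],
  [(62, [2]), (96, [2,0,2]), (126, []), (143, []), (144, []), (59, []), (145, [])],
  [(63, [2]), (97, [2,0,2]), (127, []), (146, []), (60, []), (144, []), (147, [])],
  [(64, [2]), (98, [2,0,2]), (128, []), (98, [2,1,0,1,2]), (147, []), (98, [1,0,1]), (60, [])],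
  [(142, [2]), (99, [2,0,2]), (61, []), (129, []), (99, [1,0,1]), (148, []), (99, [2,1,0,1,2])],
  [(143, [2]), (65, []), (148, []), (62, []), (149, []), (61, []), (150, [])],
  [(144, [2]), (66, []), (131, []), (151, []), (62, []), (63, []), (152, [])],
  [(145, [2]), (67, []), (132, []), (150, []), (152, []), (102, [2,1,0,1,2]), (62, [])],
  [(146, [2]), (68, []), (153, []), (63, []), (103, [1,0,1]), (151, []), (154, [])],
  [(147, [2]), (69, []), (134, []), (154, []), (64, []), (155, []), (63, [])],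
  [(105, [0]), (149, []), (105, [2,0,2]), (156, []), (65, []), (105, [1,0,1]), (157, [])],
  [(106, [0]), (150, []), (106, [2,0,2]), (67, []), (157, []), (106, [2,1,0,1,2]), (65, [])],
  [(107, [0]), (151, []), (158, [2,1,2]), (66, []), (156, []), (68, []), (159, [])],
  [(108, [0]), (152, []), (71, []), (159, []), (67, []), (160, []), (66, [])],
  [(109, [0]), (154, []), (68, [2,1,2]), (69, []), (109, [1,0,1]), (158, []), (68, [])],
  [(110, [0]), (155, []), (70, []), (158, []), (110, [2,1,0,1,2]), (69, []), (160, [])],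
  [(111, [0]), (141, []), (160, []), (71, [2,1,2]), (111, [2,1,0,1,2]), (71, []), (70, [])],
  [(73, [2]), (82, [2,1,2]), (112, [2,1,0,1,2]), (161, []), (72, []), (162, []), (112, [1,0,1])],
  [(74, [2]), (83, [2,1,2]), (113, [2,1,0,1,2]), (83, []), (163, []), (72, []), (164, [])],
  [(161, [2]), (75, []), (165, []), (73, []), (84, []), (166, []), (114, [2,1,0,1,2])],
  [(162, [2]), (76, []), (115, [1,0,1]), (166, []), (167, []), (73, []), (168, [])],
  [(163, [2]), (77, []), (116, [1,0,1]), (169, []), (74, []), (167, []), (170, [])],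
  [(164, [2]), (78, []), (117, [1,0,1]), (87, []), (170, []), (117, [2,1,0,1,2]), (74, [])],
  [(88, [1]), (166, []), (118, [2,0,2]), (76, []), (171, []), (75, []), (172, [])],
  [(89, [1]), (167, []), (79, []), (173, []), (76, []), (77, []), (174, [])],
  [(90, [1]), (168, []), (80, []), (172, []), (174, []), (120, [2,1,0,1,2]), (76, [])],
  [(91, [1]), (169, []), (175, [2,1,2]), (77, []), (91, []), (173, []), (175, [])],
  [(92, [1]), (170, []), (81, []), (175, []), (78, []), (176, []), (77, [])],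
  [(93, [1]), (123, [1,0,1]), (176, []), (79, [2,1,2]), (123, [2,1,0,1,2]), (81, []), (177, [])],
  [(94, [1]), (124, [1,0,1]), (174, []), (177, [2,1,2]), (80, []), (177, []), (79, [])],
  [(84, [2]), (161, [2,1,2]), (178, []), (82, []), (161, []), (179, []), (125, [1,0,1])],
  [(85, [2]), (162, [2,1,2]), (96, []), (179, []), (180, []), (82, []), (181, [])],
  [(86, [2]), (163, [2,1,2]), (97, []), (182, []), (83, []), (180, []), (183, [])],
  [(87, [2]), (164, [2,1,2]), (98, []), (164, []), (183, []), (128, [1,0,1]), (83, [])],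
  [(178, [2]), (129, [2,0,2]), (84, []), (99, []), (165, []), (184, []), (129, [2,1,0,1,2])],
  [(179, [2]), (88, []), (184, []), (85, []), (185, []), (84, []), (186, [])],
  [(180, [2]), (89, []), (101, []), (187, []), (85, []), (86, []), (188, [])],
  [(181, [2]), (90, []), (102, []), (186, []), (188, []), (132, [2,1,0,1,2]), (85, [])],
  [(182, [2]), (91, []), (189, []), (86, []), (169, []), (187, []), (190, [])],
  [(183, [2]), (92, []), (104, []), (190, []), (87, []), (191, []), (86, [])],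
  [(171, [1]), (185, []), (135, [2,0,2]), (192, []), (88, []), (171, []), (193, [])],
  [(172, [1]), (186, []), (136, [2,0,2]), (90, []), (193, []), (136, [2,1,0,1,2]), (88, [])],
  [(173, [1]), (187, []), (194, [2,1,2]), (89, []), (192, []), (91, []), (195, [])],
  [(174, [1]), (188, []), (94, []), (195, []), (90, []), (196, []), (89, [])],
  [(175, [1]), (190, []), (91, [2,1,2]), (92, []), (175, []), (194, []), (91, [])],
  [(176, [1]), (191, []), (93, []), (194, []), (140, [2,1,0,1,2]), (92, []), (196, [])],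
  [(177, [1]), (111, []), (196, []), (94, [2,1,2]), (141, [2,1,0,1,2]), (94, []), (93, [])],
  [(99, [2]), (197, []), (95, []), (178, []), (142, [2,1,0,1,2]), (198, []), (142, [1,0,1])],
  [(100, [2]), (143, [2,0,2]), (198, []), (96, []), (199, []), (95, []), (200, [])],
  [(101, [2]), (144, [2,0,2]), (180, []), (201, []), (96, []), (97, []), (202, [])],
  [(102, [2]), (145, [2,0,2]), (181, []), (200, []), (202, []), (145, [1,0,1]), (96, [])],
  [(103, [2]), (146, [2,0,2]), (203, []), (97, []), (146, [2,1,0,1,2]), (201, []), (204, [])],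
  [(104, [2]), (147, [2,0,2]), (183, []), (204, []), (98, []), (205, []), (97, [])],
  [(198, [2]), (148, [2,0,2]), (100, []), (184, []), (200, []), (99, []), (199, [])],
  [(199, [2]), (105, []), (200, []), (206, []), (100, []), (149, [1,0,1]), (198, [])],
  [(200, [2]), (106, []), (199, []), (102, []), (198, []), (150, [2,1,0,1,2]), (100, [])],
  [(201, [2]), (107, []), (207, []), (101, []), (206, []), (103, []), (208, [])],
  [(202, [2]), (108, []), (188, []), (208, []), (102, []), (209, []), (101, [])],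
  [(203, [2]), (210, [2,1,2]), (103, []), (189, []), (153, [1,0,1]), (207, []), (210, [])],
  [(204, [2]), (109, []), (210, []), (104, []), (154, [1,0,1]), (211, []), (103, [])],
  [(205, [2]), (110, []), (191, []), (211, []), (155, [2,1,0,1,2]), (104, []), (209, [])],
  [(156, [0]), (206, []), (212, [2,1,2]), (105, []), (107, []), (156, [1,0,1]), (213, [])],
  [(157, [0]), (198, []), (157, [2,0,2]), (213, []), (106, []), (197, []), (105, [])],
  [(158, [0]), (211, []), (107, [2,1,2]), (110, []), (212, []), (109, []), (214, [])],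
  [(159, [0]), (208, []), (214, [2,1,2]), (108, []), (213, []), (214, []), (107, [])],
  [(160, [0]), (209, []), (111, []), (214, []), (160, [2,1,0,1,2]), (108, []), (110, [])],
  [(114, [2]), (125, [2,1,2]), (215, []), (112, []), (125, []), (216, []), (161, [1,0,1])],
  [(115, [2]), (126, [2,1,2]), (162, [2,1,0,1,2]), (216, []), (217, []), (112, []), (218, [])],
  [(116, [2]), (127, [2,1,2]), (163, [2,1,0,1,2]), (219, []), (113, []), (217, []), (220, [])],
  [(117, [2]), (128, [2,1,2]), (164, [2,1,0,1,2]), (128, []), (220, []), (164, [1,0,1]), (113, [])],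
  [(215, [2]), (165, [2,0,2]), (114, []), (165, [1,0,1]), (129, []), (221, []), (165, [2,1,0,1,2])],
  [(216, [2]), (118, []), (221, []), (115, []), (222, []), (114, []), (223, [])],
  [(217, [2]), (119, []), (167, [1,0,1]), (224, []), (115, []), (116, []), (225, [])],
  [(218, [2]), (120, []), (168, [1,0,1]), (223, []), (225, []), (168, [2,1,0,1,2]), (115, [])],
  [(219, [2]), (121, []), (226, []), (116, []), (133, []), (224, []), (227, [])],
  [(220, [2]), (122, []), (170, [1,0,1]), (227, []), (117, []), (228, []), (116, [])],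
  [(135, [1]), (222, []), (171, [2,0,2]), (229, []), (118, []), (135, []), (230, [])],
  [(136, [1]), (223, []), (172, [2,0,2]), (120, []), (230, []), (172, [2,1,0,1,2]), (118, [])],
  [(137, [1]), (224, []), (231, [2,1,2]), (119, []), (229, []), (121, []), (232, [])],
  [(138, [1]), (225, []), (124, []), (232, []), (120, []), (233, []), (119, [])],
  [(139, [1]), (227, []), (121, [2,1,2]), (122, []), (139, []), (231, []), (121, [])],
  [(140, [1]), (228, []), (123, []), (231, []), (176, [2,1,0,1,2]), (122, []), (233, [])],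
  [(141, [1]), (177, [1,0,1]), (233, []), (124, [2,1,2]), (177, [2,1,0,1,2]), (124, []), (123, [])],
  [(129, [2]), (234, []), (125, []), (142, []), (215, []), (235, []), (178, [1,0,1])],
  [(130, [2]), (216, [2,1,2]), (235, []), (126, []), (236, []), (125, []), (237, [])],
  [(131, [2]), (217, [2,1,2]), (144, []), (238, []), (126, []), (127, []), (239, [])],
  [(132, [2]), (218, [2,1,2]), (145, []), (237, []), (239, []), (181, [1,0,1]), (126, [])],
  [(133, [2]), (219, [2,1,2]), (240, []), (127, []), (219, []), (238, []), (241, [])],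
  [(134, [2]), (220, [2,1,2]), (147, []), (241, []), (128, []), (242, []), (127, [])],
  [(235, [2]), (184, [2,0,2]), (130, []), (148, []), (243, []), (129, []), (244, [])],
  [(236, [2]), (135, []), (243, []), (245, []), (130, []), (222, []), (246, [])],
  [(237, [2]), (136, []), (244, []), (132, []), (246, []), (186, [2,1,0,1,2]), (130, [])],
  [(238, [2]), (137, []), (247, []), (131, []), (245, []), (133, []), (248, [])],
  [(239, [2]), (138, []), (152, []), (248, []), (132, []), (249, []), (131, [])],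
  [(240, [2]), (250, [2,1,2]), (133, []), (153, []), (226, []), (247, []), (250, [])],
  [(241, [2]), (139, []), (250, []), (134, []), (227, []), (251, []), (133, [])],
  [(242, [2]), (140, []), (155, []), (251, []), (191, [2,1,0,1,2]), (134, []), (249, [])],
  [(229, [1]), (245, []), (252, [2,1,2]), (135, []), (137, []), (229, []), (253, [])],
  [(230, [1]), (246, []), (193, [2,0,2]), (253, []), (136, []), (254, []), (135, [])],
  [(231, [1]), (251, []), (137, [2,1,2]), (140, []), (252, []), (139, []), (255, [])],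
  [(232, [1]), (248, []), (255, [2,1,2]), (138, []), (253, []), (255, []), (137, [])],
  [(233, [1]), (249, []), (141, []), (255, []), (196, [2,1,0,1,2]), (138, []), (140, [])],
  [(197, [0]), (142, []), (197, [2,0,2]), (234, []), (197, [2,1,0,1,2]), (157, []), (197, [1,0,1])],
  [(148, [2]), (157, []), (143, []), (235, []), (150, []), (142, []), (149, [])],
  [(149, [2]), (199, [2,0,2]), (150, []), (244, []), (143, []), (199, [2,1,0,1,2]), (148, [])],
  [(150, [2]), (200, [2,0,2]), (149, []), (145, []), (148, []), (200, [1,0,1]), (143, [])],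
  [(151, [2]), (201, [2,0,2]), (246, []), (144, []), (244, []), (146, []), (243, [])],
  [(152, [2]), (202, [2,0,2]), (239, []), (243, []), (145, []), (256, []), (144, [])],
  [(153, [2]), (254, []), (146, []), (240, []), (203, [2,1,0,1,2]), (246, []), (257, [])],
  [(154, [2]), (204, [2,0,2]), (257, []), (147, []), (204, [2,1,0,1,2]), (258, []), (146, [])],
  [(155, [2]), (205, [2,0,2]), (242, []), (258, []), (205, [1,0,1]), (147, []), (256, [])],
  [(244, [2]), (156, []), (237, []), (149, []), (151, []), (206, [1,0,1]), (235, [])],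
  [(246, [2]), (259, [2,1,2]), (151, []), (247, []), (237, []), (153, []), (236, [])],
  [(243, [2]), (159, []), (236, []), (152, []), (235, []), (260, []), (151, [])],
  [(256, [2]), (160, []), (249, []), (260, []), (209, [2,1,0,1,2]), (152, []), (155, [])],
  [(257, [2]), (153, [2,1,2]), (154, []), (250, []), (210, [1,0,1]), (259, []), (153, [])],
  [(258, [2]), (158, []), (259, []), (155, []), (261, []), (154, []), (260, [])],
  [(212, [0]), (261, []), (156, [2,1,2]), (212, [2,1,0,1,2]), (158, []), (212, [1,0,1]), (262, [])],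
  [(213, [0]), (235, []), (262, [2,1,2]), (157, []), (159, []), (234, []), (156, [])],
  [(214, [0]), (260, []), (159, [2,1,2]), (160, []), (262, []), (159, []), (158, [])],
  [(165, [2]), (263, []), (161, []), (215, [2,1,0,1,2]), (178, []), (264, []), (215, [1,0,1])],
  [(166, [2]), (179, [2,1,2]), (264, []), (162, []), (265, []), (161, []), (266, [])],
  [(167, [2]), (180, [2,1,2]), (217, [2,1,0,1,2]), (267, []), (162, []), (163, []), (268, [])],
  [(168, [2]), (181, [2,1,2]), (218, [2,1,0,1,2]), (266, []), (268, []), (218, [1,0,1]), (162, [])],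
  [(169, [2]), (182, [2,1,2]), (269, []), (163, []), (182, []), (267, []), (270, [])],
  [(170, [2]), (183, [2,1,2]), (220, [2,1,0,1,2]), (270, []), (164, []), (271, []), (163, [])],
  [(264, [2]), (221, [2,0,2]), (166, []), (221, [1,0,1]), (272, []), (165, []), (273, [])],
  [(265, [2]), (171, []), (272, []), (274, []), (166, []), (185, []), (275, [])],
  [(266, [2]), (172, []), (273, []), (168, []), (275, []), (223, [2,1,0,1,2]), (166, [])],
  [(267, [2]), (173, []), (276, []), (167, []), (274, []), (169, []), (277, [])],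
  [(268, [2]), (174, []), (225, [1,0,1]), (277, []), (168, []), (278, []), (167, [])],
  [(269, [2]), (279, [2,1,2]), (169, []), (226, [1,0,1]), (189, []), (276, []), (279, [])],
  [(270, [2]), (175, []), (279, []), (170, []), (190, []), (280, []), (169, [])],
  [(271, [2]), (176, []), (228, [1,0,1]), (280, []), (228, [2,1,0,1,2]), (170, []), (278, [])],
  [(192, [1]), (274, []), (281, [2,1,2]), (171, []), (173, []), (192, []), (282, [])],
  [(193, [1]), (275, []), (230, [2,0,2]), (282, []), (172, []), (283, []), (171, [])],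
  [(194, [1]), (280, []), (173, [2,1,2]), (176, []), (281, []), (175, []), (284, [])],
  [(195, [1]), (277, []), (284, [2,1,2]), (174, []), (282, []), (284, []), (173, [])],
  [(196, [1]), (278, []), (177, []), (284, []), (233, [2,1,0,1,2]), (174, []), (176, [])],
  [(234, [0]), (178, []), (263, [2,1,2]), (197, []), (263, []), (213, []), (234, [1,0,1])],
  [(184, [2]), (213, []), (179, []), (198, []), (208, []), (178, []), (206, [])],
  [(185, [2]), (265, [2,1,2]), (208, []), (285, []), (179, []), (265, []), (207, [])],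
  [(186, [2]), (266, [2,1,2]), (206, []), (181, []), (207, []), (237, [1,0,1]), (179, [])],
  [(187, [2]), (267, [2,1,2]), (286, []), (180, []), (285, []), (182, []), (287, [])],
  [(188, [2]), (268, [2,1,2]), (202, []), (287, []), (181, []), (288, []), (180, [])],
  [(189, [2]), (289, []), (182, []), (203, []), (269, []), (286, []), (290, [])],
  [(190, [2]), (270, [2,1,2]), (290, []), (183, []), (270, []), (291, []), (182, [])],
  [(191, [2]), (271, [2,1,2]), (205, []), (291, []), (242, [1,0,1]), (183, []), (288, [])],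
  [(208, [2]), (243, [2,0,2]), (185, []), (202, []), (184, []), (272, []), (201, [])],
  [(206, [2]), (244, [2,0,2]), (186, []), (199, []), (201, []), (244, [2,1,0,1,2]), (184, [])],
  [(285, [2]), (192, []), (287, []), (185, []), (187, []), (274, []), (286, [])],
  [(207, [2]), (193, []), (201, []), (286, []), (186, []), (203, []), (185, [])],
  [(286, [2]), (292, [2,1,2]), (187, []), (207, []), (287, []), (189, []), (285, [])],
  [(287, [2]), (195, []), (285, []), (188, []), (286, []), (293, []), (187, [])],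
  [(288, [2]), (196, []), (209, []), (293, []), (249, [2,1,0,1,2]), (188, []), (191, [])],
  [(290, [2]), (189, [2,1,2]), (190, []), (210, []), (279, []), (292, []), (189, [])],
  [(291, [2]), (194, []), (292, []), (191, []), (294, []), (190, []), (293, [])],
  [(281, [1]), (294, []), (192, [2,1,2]), (252, [2,1,0,1,2]), (194, []), (281, []), (295, [])],
  [(282, [1]), (286, []), (295, [2,1,2]), (193, []), (195, []), (289, []), (192, [])],
  [(283, [1]), (203, []), (254, [2,0,2]), (289, []), (254, [2,1,0,1,2]), (193, []), (283, [])],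
  [(284, [1]), (293, []), (195, [2,1,2]), (196, []), (295, []), (195, []), (194, [])],
  [(209, [2]), (256, [2,0,2]), (288, []), (272, []), (256, [1,0,1]), (202, []), (205, [])],
  [(210, [2]), (283, []), (204, []), (290, []), (257, [2,1,0,1,2]), (275, []), (203, [])],
  [(211, [2]), (258, [2,0,2]), (275, []), (205, []), (273, []), (204, []), (272, [])],
  [(275, [2]), (207, [2,1,2]), (211, []), (292, []), (266, []), (210, []), (265, [])],
  [(272, [2]), (214, []), (265, []), (209, []), (264, []), (208, []), (211, [])],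
  [(273, [2]), (212, []), (266, []), (261, [2,1,0,1,2]), (211, []), (261, [1,0,1]), (264, [])],
  [(262, [0]), (264, []), (213, [2,1,2]), (262, [2,1,0,1,2]), (214, []), (263, []), (212, [])],
  [(263, [0]), (215, []), (234, [2,1,2]), (263, [2,1,0,1,2]), (234, []), (262, []), (263, [1,0,1])],
  [(221, [2]), (262, []), (216, []), (264, [2,1,0,1,2]), (260, []), (215, []), (261, [])],
  [(222, [2]), (236, [2,1,2]), (260, []), (296, []), (216, []), (236, []), (259, [])],
  [(223, [2]), (237, [2,1,2]), (261, []), (218, []), (259, []), (266, [1,0,1]), (216, [])],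
  [(224, [2]), (238, [2,1,2]), (297, []), (217, []), (296, []), (219, []), (298, [])],
  [(225, [2]), (239, [2,1,2]), (268, [2,1,0,1,2]), (298, []), (218, []), (299, []), (217, [])],
  [(226, [2]), (300, []), (219, []), (269, [2,1,0,1,2]), (240, []), (297, []), (301, [])],
  [(227, [2]), (241, [2,1,2]), (301, []), (220, []), (241, []), (302, []), (219, [])],
  [(228, [2]), (242, [2,1,2]), (271, [2,1,0,1,2]), (302, []), (271, [1,0,1]), (220, []), (299, [])],
  [(260, [2]), (272, [2,0,2]), (222, []), (256, []), (221, []), (243, []), (258, [])],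
  [(261, [2]), (273, [2,0,2]), (223, []), (273, [1,0,1]), (258, []), (273, [2,1,0,1,2]), (221, [])],
  [(296, [2]), (229, []), (303, []), (222, []), (224, []), (245, []), (304, [])],
  [(259, [2]), (230, []), (258, []), (304, []), (223, []), (257, []), (222, [])],
  [(297, [2]), (305, [2,1,2]), (224, []), (276, [1,0,1]), (303, []), (226, []), (306, [])],
  [(298, [2]), (232, []), (306, []), (225, []), (304, []), (307, []), (224, [])],
  [(299, [2]), (233, []), (278, [1,0,1]), (307, []), (278, [2,1,0,1,2]), (225, []), (228, [])],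
  [(301, [2]), (226, [2,1,2]), (227, []), (279, [1,0,1]), (250, []), (305, []), (226, [])],
  [(302, [2]), (231, []), (305, []), (228, []), (308, []), (227, []), (307, [])],
  [(252, [1]), (308, []), (229, [2,1,2]), (281, [2,1,0,1,2]), (231, []), (252, []), (309, [])],
  [(253, [1]), (304, []), (309, [2,1,2]), (230, []), (232, []), (310, []), (229, [])],
  [(254, [1]), (257, []), (283, [2,0,2]), (310, []), (283, [2,1,0,1,2]), (230, []), (254, [])],
  [(255, [1]), (307, []), (232, [2,1,2]), (233, []), (309, []), (232, []), (231, [])],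
  [(245, [2]), (296, [2,1,2]), (248, []), (236, []), (238, []), (296, []), (247, [])],
  [(247, [2]), (253, []), (238, []), (246, []), (248, []), (240, []), (245, [])],
  [(248, [2]), (298, [2,1,2]), (245, []), (239, []), (247, []), (303, []), (238, [])],
  [(249, [2]), (299, [2,1,2]), (256, []), (303, []), (288, [1,0,1]), (239, []), (242, [])],
  [(310, [1]), (240, []), (300, [2,1,2]), (254, []), (300, []), (253, []), (310, [])],
  [(250, [2]), (310, []), (241, []), (257, []), (301, []), (304, []), (240, [])],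
  [(251, [2]), (302, [2,1,2]), (304, []), (242, []), (306, []), (241, []), (303, [])],
  [(304, [2]), (247, [2,1,2]), (251, []), (259, []), (298, []), (250, []), (296, [])],
  [(303, [2]), (255, []), (296, []), (249, []), (297, []), (248, []), (251, [])],
  [(306, [2]), (252, []), (298, []), (294, [2,1,0,1,2]), (251, []), (308, []), (297, [])],
  [(309, [1]), (297, []), (253, [2,1,2]), (295, [2,1,0,1,2]), (255, []), (300, []), (252, [])],
  [(274, [2]), (285, [2,1,2]), (293, []), (265, []), (267, []), (285, []), (292, [])],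
  [(276, [2]), (295, []), (267, []), (297, [2,1,0,1,2]), (293, []), (269, []), (294, [])],
  [(277, [2]), (287, [2,1,2]), (294, []), (268, []), (292, []), (311, []), (267, [])],
  [(278, [2]), (288, [2,1,2]), (299, [2,1,0,1,2]), (311, []), (299, [1,0,1]), (268, []), (271, [])],
  [(312, [1]), (269, []), (289, [2,1,2]), (300, [2,1,0,1,2]), (289, []), (295, []), (312, [])],
  [(279, [2]), (312, []), (270, []), (301, [2,1,0,1,2]), (290, []), (313, []), (269, [])],
  [(280, [2]), (291, [2,1,2]), (313, []), (271, []), (314, []), (270, []), (311, [])],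
  [(293, [2]), (311, [2,1,2]), (274, []), (288, []), (276, []), (287, []), (291, [])],
  [(292, [2]), (282, []), (291, []), (275, []), (277, []), (290, []), (274, [])],
  [(313, [2]), (276, [2,1,2]), (280, []), (305, [1,0,1]), (311, []), (279, []), (314, [])],
  [(294, [2]), (314, [2,1,2]), (277, []), (306, [1,0,1]), (291, []), (314, []), (276, [])],
  [(311, [2]), (284, []), (314, []), (278, []), (313, []), (277, []), (280, [])],
  [(314, [2]), (281, []), (311, []), (308, [2,1,0,1,2]), (280, []), (294, []), (313, [])],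
  [(295, [1]), (313, []), (282, [2,1,2]), (309, [2,1,0,1,2]), (284, []), (312, []), (281, [])],
  [(289, [1]), (290, []), (312, [2,1,2]), (283, []), (312, []), (282, []), (289, [])],
  [(307, [2]), (303, [2,1,2]), (308, []), (299, []), (305, []), (298, []), (302, [])],
  [(300, [1]), (301, []), (310, [2,1,2]), (312, [2,1,0,1,2]), (310, []), (309, []), (300, [])],
  [(305, [2]), (309, []), (302, []), (313, [2,1,0,1,2]), (307, []), (301, []), (308, [])],
  [(308, [2]), (306, [2,1,2]), (307, []), (314, [1,0,1]), (302, []), (306, []), (305, [])]]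

/-- The elements of the subgroup, in base 8. -/
def subTable : List Nat := [16434824,14599816,16406152,14571144,11789960,9954952,11761288,9926280,16434376,14599368,16405704,14570696,11789512,9954504,11760840,9925832,16434817,14599809,16406145,14571137,11789953,9954945,11761281,9926273,16434369,14599361,16405697,14570689,11789505,9954497,11760833,9925825,16433690,14598682,16405018,14570010,11788826,9953818,11760154,9925146,16433242,14598234,16404570,14569562,11788378,9953370,11759706,9924698,16433683,14598675,16405011,14570003,11788819,9953811,11760147,9925139,16433235,14598227,16404563,14569555,11788371,9953363,11759699,9924691,6852524,5017516,6823852,4988844,2207660,372652,2178988,343980,6852076,5017068,6823404,4988396,2207212,372204,2178540,343532,6852517,5017509,6823845,4988837,2207653,372645,2178981,343973,6852069,5017061,6823397,4988389,2207205,372197,2178533,343525,6851390,5016382,6822718,4987710,2206526,371518,2177854,342846,6850942,5015934,6822270,4987262,2206078,371070,2177406,342398,6851383,5016375,6822711,4987703,2206519,371511,2177847,342839,6850935,5015927,6822263,4987255,2206071,371063,2177399,342391]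

end Cfsg.Agent.S5763
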