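import Cfsg.Statements.S5763
import Mathlib
import Cfsg.Agent.S5763Data

set_option autoImplicit false
set_option linter.style.haveILetI false
open Cfsg

namespace Cfsg.Agent.S5763


/-- Decode a base 8 code as a function. -/
def dec (c : Nat) (k : Fin 8) : Fin 8 := ⟨(c / 8 ^ (k : ℕ)) % 8, Nat.mod_lt _ (by decide)⟩

/-- Encode a function in base 8. -/
def enc (f : Fin 8 → Fin 8) : Nat :=
  (f 0 : ℕ) + 8 * (f 1) + 64 * (f 2) + 512 * (f 3) + 4096 * (f 4) + 32768 * (f 5) + 262144 * (f 6) + 2097152 * (f 7)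

/-- The three generators. -/
def gen : Fin 3 → Equiv.Perm (Fin 8)
  | 0 => Equiv.swap 0 1
  | 1 => Equiv.swap 0 2 * Equiv.swap 1 3
  | 2 => Equiv.swap 0 4 * Equiv.swap 1 5 * (Equiv.swap 2 6 * Equiv.swap 3 7)

/-- The generators as base 8 codes. -/
def genCode : Fin 3 → Nat
  | 0 => enc (gen 0)
  | 1 => enc (gen 1)
  | 2 => enc (gen 2)

theorem genCode_spec : ∀ j k, dec (genCode j) k = gen j k := by decide +kernel

/-- A word as a function. -/
def app : List (Fin 3) → Fin 8 → Fin 8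
  | [], k => k
  | j :: w, k => dec (genCode j) (app w k)

/-- A word as a permutation. -/
def word (w : List (Fin 3)) : Equiv.Perm (Fin 8) := (w.map gen).prod

theorem word_apply : ∀ w k, word w k = app w k := by
  intro w
  induction w with
  | nil => intro k; rfl
  | cons j w ih =>
    intro k
    show (gen j * word w) k = _
    rw [Equiv.Perm.mul_apply, ih]
    exact (genCode_spec j _).symm

theorem word_append (u v : List (Fin 3)) : word (u ++ v) = word u * word v := by
  simp [word]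

/-- The Sylow 2-subgroup generated by the three generators. -/
def P0 : Subgroup (Equiv.Perm (Fin 8)) where
  carrier := {p | ∃ w, word w = p}
  one_mem' := ⟨[], rfl⟩
  mul_mem' := by
    rintro _ _ ⟨u, rfl⟩ ⟨v, rfl⟩
    exact ⟨u ++ v, word_append u v⟩
  inv_mem' := by
    rintro _ ⟨u, rfl⟩
    have hpow : ∀ n, ∃ w, word w = word u ^ n := by
      intro n
      induction n with
      | zero => exact ⟨[], rfl⟩
      | succ n ih =>
        obtain ⟨w, hw⟩ := ih
        exact ⟨w ++ u, by rw [word_append, hw, pow_succ]⟩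
    obtain ⟨w, hw⟩ := hpow (orderOf (word u) - 1)
    refine ⟨w, hw.trans (eq_inv_of_mul_eq_one_left ?_)⟩
    rw [← pow_succ, Nat.sub_add_cancel (orderOf_pos _), pow_orderOf_eq_one]

theorem sub_id : enc id ∈ subTable ∧ ∀ k, dec (enc id) k = k := by decide +kernel

theorem sub_step : ∀ c ∈ subTable, ∀ j : Fin 3,
    enc (fun k => dec (genCode j) (dec c k)) ∈ subTable ∧
      ∀ k, dec (enc (fun k => dec (genCode j) (dec c k))) k = dec (genCode j) (dec c k) := by
  decide +kernel

theorem sub_order : ∀ c ∈ subTable, ∀ k,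
    dec c (dec c (dec c (dec c (dec c (dec c (dec c (dec c k))))))) = k := by
  decide +kernel

theorem mem_subTable : ∀ w : List (Fin 3), ∃ c ∈ subTable, ∀ k, app w k = dec c k := by
  intro w
  induction w with
  | nil => exact ⟨_, sub_id.1, fun k => (sub_id.2 k).symm⟩
  | cons j w ih =>
    obtain ⟨c, hc, hk⟩ := ih
    refine ⟨_, (sub_step c hc j).1, fun k => ?_⟩
    rw [(sub_step c hc j).2 k, ← hk]
    rfl

theorem isPGroup_P0 : IsPGroup 2 P0 := by
  rintro ⟨_, w, rfl⟩
  refine ⟨3, Subtype.ext ?_⟩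
  obtain ⟨c, hc, hk⟩ := mem_subTable w
  have h : (word w : Fin 8 → Fin 8) = dec c := funext fun k => (word_apply w k).trans (hk k)
  show word w ^ (2 ^ 3) = 1
  ext k
  rw [Equiv.Perm.coe_pow, h]
  exact congrArg Fin.val (sub_order c hc k)

/-- The `i`-th representative. -/
def rep (i : Nat) : Fin 8 → Fin 8 := dec (repTable.getD i 0)

theorem rep_zero : ∀ k, rep 0 k = k := by decide +kernel

theorem wit_ok : ∀ i ∈ List.range 315,
    (∀ k, app (witTable.getD i ([], [])).1 (rep i k) = rep i (app (witTable.getD i ([], [])).2 k)) ∧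
      ∃ k, app (witTable.getD i ([], [])).1 k ≠ k := by
  decide +kernel

/-- The transition for representative `i` and transposition `s`. -/
def tr (i : Nat) (s : Fin 7) : Nat × List (Fin 3) := (transTable.getD i []).getD s (0, [])

theorem trans_ok : ∀ i ∈ List.range 315, ∀ s : Fin 7, (tr i s).1 < 315 ∧
    ∀ k, Equiv.swap s.castSucc s.succ (rep i k) = rep (tr i s).1 (app (tr i s).2 k) := by
  decide +kernel

theorem cover (x : Equiv.Perm (Fin 8)) : ∃ i < 315, ∃ w, ∀ k, x k = rep i (app w k) := by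
  have hx : x ∈ Submonoid.closure (Set.range fun i : Fin 7 => Equiv.swap i.castSucc i.succ) := by
    rw [Equiv.Perm.mclosure_swap_castSucc_succ]; trivial
  induction hx using Submonoid.closure_induction_left with
  | one => exact ⟨0, by norm_num, [], fun k => (rep_zero k).symm⟩
  | mul_left s hs y _ ih =>
    obtain ⟨s, rfl⟩ := hs
    obtain ⟨i, hi, w, hw⟩ := ih
    obtain ⟨h1, h2⟩ := trans_ok i (List.mem_range.mpr hi) s
    refine ⟨_, h1, (tr i s).2 ++ w, fun k => ?_⟩
    rw [Equiv.Perm.mul_apply, hw, h2, ← word_apply, ← word_apply, ← word_apply, word_append]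
    rfl

theorem P0_inter (x : Equiv.Perm (Fin 8)) : ∃ u ∈ P0, u ≠ 1 ∧ x⁻¹ * u * x ∈ P0 := by
  obtain ⟨i, hi, w, hw⟩ := cover x
  obtain ⟨h1, k, h2⟩ := wit_ok i (List.mem_range.mpr hi)
  set u₁ := (witTable.getD i ([], [])).1
  set u₂ := (witTable.getD i ([], [])).2
  refine ⟨word u₁, ⟨u₁, rfl⟩, fun h => h2 ?_, ?_⟩
  · rw [← word_apply, h]; rfl
  · have h3 : word u₁ * x = x * ((word w)⁻¹ * word u₂ * word w) := by
      refine Equiv.ext fun m => ?_
      rw [Equiv.Perm.mul_apply, word_apply, hw, h1, Equiv.Perm.mul_apply, hw, ← word_apply w,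
        Equiv.Perm.mul_apply, Equiv.Perm.mul_apply, ← word_apply w, Equiv.Perm.inv_def, Equiv.apply_symm_apply, word_apply, word_apply]
    rw [mul_assoc, h3, inv_mul_cancel_left]
    exact P0.mul_mem (P0.mul_mem (P0.inv_mem ⟨w, rfl⟩) ⟨u₂, rfl⟩) ⟨w, rfl⟩

/-- In the symmetric group on 8 letters any two Sylow 2-subgroups have non-trivial intersection: for a Sylow 2-subgroup H and every element x, H ∩ xHx⁻¹ ≠ 1. -/
theorem result (H : Sylow 2 (Equiv.Perm (Fin 8))) (x : Equiv.Perm (Fin 8)) :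
    (H : Subgroup (Equiv.Perm (Fin 8))) ⊓ (H : Subgroup (Equiv.Perm (Fin 8))).map (MulAut.conj x).toMonoidHom ≠ ⊥ := by
  obtain ⟨Q, hQ⟩ := isPGroup_P0.exists_le_sylow
  obtain ⟨g, rfl⟩ := MulAction.exists_smul_eq (Equiv.Perm (Fin 8)) Q H
  obtain ⟨u, hu, hu1, hu2⟩ := P0_inter (g⁻¹ * x * g)
  intro hbot
  rw [Subgroup.eq_bot_iff_forall] at hbot
  have hmem : ∀ q ∈ P0, g * q * g⁻¹ ∈ ((g • Q : Sylow 2 _) : Subgroup (Equiv.Perm (Fin 8))) := by
    intro q hq
    exact ⟨q, hQ hq, rfl⟩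
  have h0 := hbot (g * u * g⁻¹) ⟨hmem u hu, _, hmem _ hu2, by
    show x * (g * ((g⁻¹ * x * g)⁻¹ * u * (g⁻¹ * x * g)) * g⁻¹) * x⁻¹ = g * u * g⁻¹
    group⟩
  exact hu1 (conj_eq_one_iff.mp h0)

end Cfsg.Agent.S5763
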