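import Cfsg.Statements.S5769
import Cfsg.Agent.Lib.H59.E7Sixty.Main
import Cfsg.Agent.Lib.H59.E7Sixty.Groups

set_option autoImplicit false
open Cfsg

namespace Cfsg.Agent.S5769

/-- A subgroup is not isomorphic to a group with an element of order sixty-five. -/
theorem no_iso {K : Type*} [Group K] (H : Subgroup ↥(Cfsg.Lie.chevE7.group (ZMod 2))) {y : K}
    (hy : orderOf y = 65) : IsEmpty (↥H ≃* K) :=
  ⟨fun e => Lib.H59.E7Sixty.no_order_65 _ (show orderOf ((e.symm y : ↥H) : ↥(Cfsg.Lie.chevE7.group (ZMod 2))) = 65 by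
    rw [Subgroup.orderOf_coe, MulEquiv.orderOf_eq, hy])⟩

/-- The Chevalley group of type E₇ over the field with two elements (generated by its root elements in the adjoint representation) has no subgroup isomorphic to any of PSL₂(64), PSp₄(8), PSL₄(8), PSU₄(8) or PSp₆(8). Here F₈ and F₆₄ denote fields with 8 and 64 elements. -/
theorem result {F₈ F₆₄ : Type*} [Field F₈] [Fintype F₈] (h8 : Fintype.card F₈ = 8) [Field F₆₄] [Fintype F₆₄] (h64 : Fintype.card F₆₄ = 64)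
    (H : Subgroup ↥(Cfsg.Lie.chevE7.group (ZMod 2))) :
    IsEmpty (↥H ≃* Matrix.ProjectiveSpecialLinearGroup (Fin 2) F₆₄) ∧ IsEmpty (↥H ≃* Cfsg.PSp 2 F₈) ∧
    IsEmpty (↥H ≃* Matrix.ProjectiveSpecialLinearGroup (Fin 4) F₈) ∧ IsEmpty (↥H ≃* Cfsg.PSU 4 F₆₄ 8) ∧ IsEmpty (↥H ≃* Cfsg.PSp 3 F₈) := by
  obtain ⟨a, ha⟩ := Lib.H59.E7Sixty.psl2_65 h64
  obtain ⟨b, hb⟩ := Lib.H59.E7Sixty.psp_65 h8 (n := 2) le_rfl
  obtain ⟨c, hc⟩ := Lib.H59.E7Sixty.psl4_65 h8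
  obtain ⟨d, hd⟩ := Lib.H59.E7Sixty.psu4_65 h64
  obtain ⟨e, he⟩ := Lib.H59.E7Sixty.psp_65 h8 (n := 3) (by norm_num)
  exact ⟨no_iso H ha, no_iso H hb, no_iso H hc, no_iso H hd, no_iso H he⟩

end Cfsg.Agent.S5769
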