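import Cfsg.Statements.S5778
import Mathlib
import Cfsg.Agent.Lib.MaxClass.UnitaryThree.Subfield
import Cfsg.Agent.Lib.MaxClass.UnitaryThree.FieldCase
import Cfsg.Agent.Lib.MaxClass.UnitaryThree.Symplectic
-- import your own Cfsg.Agent.* helpers here

set_option autoImplicit false
set_option maxHeartbeats 1000000
open Cfsg

namespace Cfsg.Agent.S5778

open Cfsg.Agent.Lib.Aschbacher Cfsg.Agent.Lib.MaxClass

/-- Every maximal subgroup of SU_3(q), q ≥ 3, is of one of the listed geometric types or lies in the residual class. Let F be the field with q² elements, f the standard unitary form Σ u_i v_i^q on F^3, and H a maximal subgroup of SU_3(q) (the determinant-one isometries of f, inside GL_3(F)). Then H is the intersection with SU_3(q) of one of: the stabiliser of a non-zero subspace on which f vanishes; the stabiliser of a non-degenerate 1-space; for q ≠ 5, the stabiliser of a decomposition into three mutually orthogonal non-degenerate 1-spaces; for q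 ≠ 3, 5, the normaliser of an adjoint-closed degree-3 subfield of the matrix algebra; a subfield group of odd prime index whose F₀-structure carries f; for q odd, q ≥ 7, a subfield group of index 2 whose F₀-structure carries f; for q = p ≡ 2 mod 3 prime with p ≥ 11, the normaliser of an absolutely irreducible subgroup of order 27 with centre of order 3, exponent 3 and all characteristic abelian subgroups cyclic, contained in the similarity group of f — or else H lies in the residual class of the unitary case. -/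
theorem result {F : Type*} [Field F] [Fintype F] (q : ℕ) (hF : Fintype.card F = q ^ 2) (hq : 3 ≤ q) (H : Subgroup (Matrix.GeneralLinearGroup (Fin 3) F)) (hH : Cfsg.Geo.IsMaximalIn (Cfsg.GU 3 F q ⊓ Cfsg.Geo.specialLinear (Fin 3) F) H) :
    (∃ W : Submodule F (Fin 3 → F), W ≠ ⊥ ∧ Cfsg.Geo.IsTotallySingularFor (Cfsg.hermForm 3 F q) W ∧ H = Cfsg.Geo.subspaceStabilizer W ⊓ (Cfsg.GU 3 F q ⊓ Cfsg.Geo.specialLinear (Fin 3) F)) ∨
    (∃ W : Submodule F (Fin 3 → F), W ≠ ⊥ ∧ Cfsg.Geo.IsNondegenerateOn (Cfsg.hermForm 3 F q) W ∧ 2 * Module.finrank F W < 3 ∧ H = Cfsg.Geo.subspaceStabilizer W ⊓ (Cfsg.GU 3 F q ⊓ Cfsg.Geo.specialLinear (Fin 3) F)) ∨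
    (q ≠ 5 ∧ ∃ D : Fin 3 → Submodule F (Fin 3 → F), Cfsg.Geo.IsNondegenerateMDecomposition (Cfsg.hermForm 3 F q) 1 D ∧ H = Cfsg.Geo.decompositionStabilizer D ⊓ (Cfsg.GU 3 F q ⊓ Cfsg.Geo.specialLinear (Fin 3) F)) ∨
    (q ≠ 3 ∧ q ≠ 5 ∧ ∃ K : Subalgebra F (Matrix (Fin 3) (Fin 3) F), Cfsg.Geo.IsFieldSubalgebra 3 K ∧ Cfsg.Geo.IsAdjointClosedFor (Cfsg.hermForm 3 F q) K ∧ H = Cfsg.Geo.subalgebraNormalizer K ⊓ (Cfsg.GU 3 F q ⊓ Cfsg.Geo.specialLinear (Fin 3) F)) ∨
    (∃ (F₀ : Subfield F) (r : ℕ) (P : Matrix.GeneralLinearGroup (Fin 3) F), r.Prime ∧ Odd r ∧ Fintype.card F = Nat.card F₀ ^ r ∧ Cfsg.Geo.IsFormRationalStructure (Cfsg.hermForm 3 F q) F₀ 1 P ∧ H = Cfsg.Geo.subfieldSubgroup F₀ P ⊓ (Cfsg.GU 3 F q ⊓ Cfsg.Geo.specialLinear (Fin 3) F)) ∨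
    (Odd q ∧ 7 ≤ q ∧ ∃ (F₀ : Subfield F) (P : Matrix.GeneralLinearGroup (Fin 3) F), Fintype.card F = Nat.card F₀ ^ 2 ∧ Cfsg.Geo.IsFormRationalStructure (Cfsg.hermForm 3 F q) F₀ 1 P ∧ H = Cfsg.Geo.subfieldSubgroup F₀ P ⊓ (Cfsg.GU 3 F q ⊓ Cfsg.Geo.specialLinear (Fin 3) F)) ∨
    (∃ (p : ℕ) (R : Subgroup (Matrix.GeneralLinearGroup (Fin 3) F)), p.Prime ∧ q = p ∧ p % 3 = 2 ∧ 11 ≤ p ∧ Cfsg.Geo.IsSymplecticTypeGroup 3 R ∧ Cfsg.Geo.ActsAbsolutelyIrreducibly (Cfsg.Geo.matrixSet R) ∧ R ≤ Cfsg.Geo.similarityGroup (Cfsg.hermForm 3 F q) ∧ Nat.card R = 27 ∧ Nat.card (Subgroup.center R) = 3 ∧ H = Cfsg.Geo.subgroupNormalizer R ⊓ (Cfsg.GU 3 F q ⊓ Cfsg.Geo.specialLinear (Fin 3) F)) ∨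
    Cfsg.Geo.InUnitaryResidualClass H := by
  classical
  obtain ⟨σ, hσ⟩ := Cfsg.Agent.Lib.Aschbacher.exists_qAut hF
  have hHU : H ≤ Cfsg.GU 3 F q := hH.1.le.trans inf_le_left
  rcases Cfsg.Agent.Lib.Aschbacher.unitary_class_or_residual hF (by norm_num) H hHU with ⟨M, hM, hle⟩ | hres
  swap
  · right; right; right; right; right; right; right
    exact hres
  have key : ∀ X : Subgroup (Matrix.GeneralLinearGroup (Fin 3) F), H ≤ X →
      ¬ Cfsg.GU 3 F q ⊓ Cfsg.Geo.specialLinear (Fin 3) F ≤ X →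
      H = X ⊓ (Cfsg.GU 3 F q ⊓ Cfsg.Geo.specialLinear (Fin 3) F) :=
    fun X h1 h2 => Cfsg.Agent.Lib.MaxClass.eq_inf_of_maximal_le hH h1 h2
  rcases hM with hM | hM | hM | hM
  rcases hM with hM | hM | hM | hM | hM | hM | hM | hM
  · obtain ⟨W, h0, hts, rfl⟩ := hM
    exact Or.inl ⟨W, h0, hts, key _ (hle.trans inf_le_left)
      (Unitary.not_su_le_subspaceStabilizer hσ (by norm_num) h0 (Unitary.ts_ne_top hσ (by norm_num) hts))⟩
  · obtain ⟨W, h0, hnd, hlt, rfl⟩ := hM
    have h1 : W ≠ ⊤ := fun h => by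
      rw [h, finrank_top, Module.finrank_fintype_fun_eq_card, Fintype.card_fin] at hlt
      omega
    exact Or.inr (Or.inl ⟨W, h0, hnd, hlt, key _ (hle.trans inf_le_left)
      (Unitary.not_su_le_subspaceStabilizer hσ (by norm_num) h0 h1)⟩)
  · obtain ⟨t, k, D, hD, rfl⟩ := hM
    have htk : t * k = 3 := by simpa using isMDecomposition_card hD.decomp
    have ht := hD.decomp.two_le
    have hk := hD.decomp.pos
    obtain ⟨rfl, rfl⟩ : t = 3 ∧ k = 1 := by
      rcases Nat.lt_or_ge k 2 with h | h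
      · obtain rfl : k = 1 := by omega
        omega
      · have := Nat.mul_le_mul ht h
        omega
    have h5 : q ≠ 5 := fun h5 => Unitary.Three.false_of_lines hσ h5 hH hD (hle.trans inf_le_left)
    exact Or.inr (Or.inr (Or.inl ⟨h5, D, hD, key _ (hle.trans inf_le_left)
      (Unitary.not_su_le_lines_three hσ hq hD)⟩))
  · obtain ⟨k, D, h2k, -⟩ := hM
    omega
  · obtain ⟨F₀, r, P, hr, hodd, hcard, hrat, rfl⟩ := hM
    right; right; right; right; left
    exact ⟨F₀, r, P, hr, hodd, hcard, hrat, key _ (hle.trans inf_le_left)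
      (Unitary.not_su_le_subfieldSubgroup hσ (by norm_num) (Unitary.subfield_ne_top hr hcard) P)⟩
  · obtain ⟨F₀, P, hodd, hcard, hrat, rfl⟩ := hM
    have h35 : q ≠ 3 ∧ q ≠ 5 :=
      ⟨fun h => Unitary.Three.false_of_subfield_two hσ (Or.inl h) hH hcard hrat (hle.trans inf_le_left),
        fun h => Unitary.Three.false_of_subfield_two hσ (Or.inr h) hH hcard hrat (hle.trans inf_le_left)⟩
    obtain ⟨j, hj⟩ := hodd
    right; right; right; right; right; left
    exact ⟨⟨j, hj⟩, by omega, F₀, P, hcard, hrat, key _ (hle.trans inf_le_left)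
      (Unitary.not_su_le_subfieldSubgroup hσ (by norm_num) (Unitary.subfield_ne_top Nat.prime_two hcard) P)⟩
  · obtain ⟨F₀, P, ζ, hev, -⟩ := hM
    exact absurd hev (by decide)
  · obtain ⟨r, R, p, e, k, hR, hirr, hsim, hrp, hmin, hc, rfl⟩ := hM
    obtain ⟨a, hp, hchar, hqa, hdeg, hdata⟩ := Unitary.symplectic_data hF (by norm_num) hR hirr hrp hmin hc
    haveI := hchar
    have hrk : r = 3 ∧ k = 1 := by
      have hk1 : k ≠ 0 := fun h => by rw [h, pow_zero] at hdeg; omega
      have hdvd : r ∣ 3 := hdeg ▸ dvd_pow_self r hk1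
      have hr3 := (Nat.prime_dvd_prime_iff_eq hR.prime Nat.prime_three).1 hdvd
      subst hr3
      exact ⟨rfl, (Nat.pow_eq_self_iff (by norm_num)).1 hdeg.symm⟩
    obtain ⟨rfl, rfl⟩ := hrk
    rcases hdata with ⟨-, hz, -, hcard, hdvd, hpa, hlt⟩ | ⟨h, -⟩
    swap
    · omega
    have ha : a = 1 := by
      rcases Nat.eq_zero_or_pos a with rfl | ha
      · rw [pow_zero] at hqa; omega
      · have := Nat.le_of_dvd (by norm_num) hdvd
        omega
    subst ha
    rw [pow_one] at hqa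
    have hp1 : p ^ 1 % 3 ≠ 1 := hlt 1 one_pos (by norm_num)
    rw [pow_one] at hp1
    have hp2 : p % 3 = 2 := by
      have h3 : p % 3 ≠ 0 := fun h => by
        rw [Nat.pow_mod, h] at hpa
        norm_num at hpa
      omega
    have hsmall : ∀ m : ℕ, 0 < m → m < p → (m : F) ≠ 0 := fun m h0 hm h =>
      Nat.not_dvd_of_pos_of_lt h0 hm ((CharP.cast_eq_zero_iff F p m).1 h)
    have hexp : Monoid.exponent R = 3 := by rw [hR.exponent_eq]; norm_num
    have hcard' : Nat.card R = 27 := by rw [hcard]; norm_num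
    have hclass := Unitary.class_two_of_data hR (Or.inl ⟨by decide, hz⟩)
    have hRGU : R ≤ Cfsg.GU 3 F q := Unitary.le_GU_of_exponent hF hR hsim hexp (by omega)
    have h5 : p ≠ 5 := fun h => Unitary.Three.false_of_symplectic hσ (hqa.trans h) hH hRGU hirr hclass hcard' hz hexp
      (hle.trans inf_le_left)
    have h11 : 11 ≤ p := by
      by_contra h
      have hp' := hp.two_le
      interval_cases p <;> first | omega | norm_num at hp
    right; right; right; right; right; right; left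
    exact ⟨p, R, hp, hqa, hp2, h11, hR, hirr, hsim, hcard', hz, key _ (hle.trans inf_le_left)
      (Unitary.not_su_le_subgroupNormalizer_three hσ (by simpa using hsmall 2 two_pos (by omega))
        (by simpa using hsmall 3 three_pos (by omega)) hirr hclass)⟩
  · obtain ⟨r, K, hr, hodd, hK, hadj, rfl⟩ := hM
    haveI : Nonempty (Fin 3) := ⟨0⟩
    have hr3 : r ∣ 3 := by simpa using finrank_dvd_of_isFieldSubalgebra hK
    obtain rfl := (Nat.prime_dvd_prime_iff_eq hr Nat.prime_three).1 hr3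
    right; right; right; left
    exact ⟨fun h => Unitary.Three.false_of_field hσ (Or.inl h) hH hK hadj (hle.trans inf_le_left),
      fun h => Unitary.Three.false_of_field hσ (Or.inr h) hH hK hadj (hle.trans inf_le_left), K, hK, hadj,
      key _ (hle.trans inf_le_left) (Unitary.not_su_le_subalgebraNormalizer hσ (by norm_num) hr.two_le hK)⟩
  · obtain ⟨n₁, n₂, e, P, f₁, f₂, h1, h2, -⟩ := hM
    have hnn : n₁ * n₂ = 3 := by simpa using (Fintype.card_congr e).symm
    have := Nat.mul_le_mul h1 (show 3 ≤ n₂ by omega)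
    omega
  · obtain ⟨k, t, e, P, f₁, hk, ht, -⟩ := hM
    have hkt : k ^ t = 3 := by simpa using (Fintype.card_congr e).symm
    have := le_trans (Nat.pow_le_pow_left hk 2) (Nat.pow_le_pow_right (show 0 < k by omega) ht)
    omega

end Cfsg.Agent.S5778
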