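import Cfsg.Statements.S5781
import Mathlib
import Cfsg.Agent.Lib.MaxClass.LinearMax

set_option autoImplicit false
set_option linter.style.haveILetI false
open Cfsg

namespace Cfsg.Agent.S5781

open Cfsg.Agent.Lib.MaxClass

/-- Every maximal subgroup of SL_4(q) is of one of the listed geometric types or lies in the residual class. Let F be a finite field with q elements and H a maximal subgroup of SL_4(F) (inside GL_4(F)). Then H is the intersection with SL_4(F) of one of: the stabiliser of a proper non-zero subspace; for q ≥ 7, the stabiliser of a decomposition into four independent lines; for q ≥ 4, the stabiliser of a decomposition into two independent planes; the normaliser of a degree-2 subfield of the matrix algebra; a subfield group for a subfield F₀ with |F| = |F₀|^r, r prime; for q = p ≡ 1 mod 4 prime, the normaliser of an absolutely irreducible 2-subgroup R of exponent 4 with centre of order 4, all of whose characteristic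 abelian subgroups are cyclic, of order 2^(2+2m) for some m (here |R| = 64), with 4 dividing p − 1; for q odd, the similarity group of a non-degenerate quadratic form; the similarity group of a non-degenerate symplectic form; the similarity group of a non-degenerate unitary form — or else H lies in the residual class of the linear case. -/
theorem result {F : Type*} [Field F] [Fintype F] (H : Subgroup (Matrix.GeneralLinearGroup (Fin 4) F)) (hH : Cfsg.Geo.IsMaximalIn (Cfsg.Geo.specialLinear (Fin 4) F) H) :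
    (∃ W : Submodule F (Fin 4 → F), W ≠ ⊥ ∧ W ≠ ⊤ ∧ H = Cfsg.Geo.subspaceStabilizer W ⊓ Cfsg.Geo.specialLinear (Fin 4) F) ∨
    (7 ≤ Fintype.card F ∧ ∃ D : Fin 4 → Submodule F (Fin 4 → F), Cfsg.Geo.IsMDecomposition 1 D ∧ H = Cfsg.Geo.decompositionStabilizer D ⊓ Cfsg.Geo.specialLinear (Fin 4) F) ∨
    (4 ≤ Fintype.card F ∧ ∃ D : Fin 2 → Submodule F (Fin 4 → F), Cfsg.Geo.IsMDecomposition 2 D ∧ H = Cfsg.Geo.decompositionStabilizer D ⊓ Cfsg.Geo.specialLinear (Fin 4) F) ∨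
    (∃ K : Subalgebra F (Matrix (Fin 4) (Fin 4) F), Cfsg.Geo.IsFieldSubalgebra 2 K ∧ H = Cfsg.Geo.subalgebraNormalizer K ⊓ Cfsg.Geo.specialLinear (Fin 4) F) ∨
    (∃ (F₀ : Subfield F) (r : ℕ) (P : Matrix.GeneralLinearGroup (Fin 4) F), r.Prime ∧ Fintype.card F = Nat.card F₀ ^ r ∧ H = Cfsg.Geo.subfieldSubgroup F₀ P ⊓ Cfsg.Geo.specialLinear (Fin 4) F) ∨
    (∃ (p : ℕ) (R : Subgroup (Matrix.GeneralLinearGroup (Fin 4) F)), p.Prime ∧ Fintype.card F = p ∧ p % 4 = 1 ∧ Cfsg.Geo.IsLinearSymplecticTypeData 2 R ∧ H = Cfsg.Geo.subgroupNormalizer R ⊓ Cfsg.Geo.specialLinear (Fin 4) F) ∨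
    (Odd (Fintype.card F) ∧ ∃ Q : (Fin 4 → F) → F, Cfsg.Geo.IsNondegenerateQuadraticForm Q ∧ H = Cfsg.Geo.quadSimilarityGroup Q ⊓ Cfsg.Geo.specialLinear (Fin 4) F) ∨
    (∃ f : (Fin 4 → F) → (Fin 4 → F) → F, Cfsg.Geo.IsSymplecticForm f ∧ H = Cfsg.Geo.similarityGroup f ⊓ Cfsg.Geo.specialLinear (Fin 4) F) ∨
    (∃ (σ : F ≃+* F) (f : (Fin 4 → F) → (Fin 4 → F) → F), Cfsg.Geo.IsUnitaryForm σ f ∧ H = Cfsg.Geo.similarityGroup f ⊓ Cfsg.Geo.specialLinear (Fin 4) F) ∨
    Cfsg.Geo.InLinearResidualClass H := by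
  rcases linear_max (n := 4) (by norm_num) hH with ⟨W, h0, h1, he⟩ | ⟨t, m, D, hD, htm, hq1, hq2, he⟩ |
    ⟨r, K, hr, hdvd, hK, h34, he⟩ | ⟨n₁, n₂, e, P, h1, h2, hnn, hq, he⟩ | hsf |
    ⟨r, p, e, m, R, hR, hp, hchar, hcard, hr, hn, hm, hcase, he⟩ | ⟨m, t, e, P, hm, ht, hmt, he⟩ |
    ⟨f, hf, hev, he⟩ | ⟨σ, f, hf, he⟩ | ⟨Q, hQ, ho, he⟩ | hres
  · exact Or.inl ⟨W, h0, h1, he⟩
  · have ht2 := hD.two_le
    have hm0 := hD.pos
    have hm2 : m ≤ 2 := by nlinarith
    rcases (show (m = 1 ∧ t = 4) ∨ (m = 2 ∧ t = 2) by interval_cases m <;> omega) with ⟨rfl, rfl⟩ | ⟨rfl, rfl⟩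
    · exact Or.inr (Or.inl ⟨(hq1 rfl).2 rfl, D, hD, he⟩)
    · exact Or.inr (Or.inr (Or.inl ⟨(hq2 rfl).2 rfl, D, hD, he⟩))
  · have hrn := Nat.le_of_dvd (by norm_num) hdvd
    have hr2 := hr.two_le
    rcases (show r = 2 by interval_cases r <;> revert hr hdvd <;> norm_num) with rfl
    · exact Or.inr (Or.inr (Or.inr (Or.inl ⟨K, hK, he⟩)))
  · have h13 : n₁ ≤ 3 := by nlinarith
    exfalso; interval_cases n₁ <;> omega
  · exact Or.inr (Or.inr (Or.inr (Or.inr (Or.inl hsf))))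
  · have hrn := Nat.le_of_dvd (by norm_num) (hn ▸ dvd_pow_self r (by omega) : r ∣ 4)
    obtain rfl : r = 2 := by
      have hd : r ∣ 4 := hn ▸ dvd_pow_self r (by omega)
      have := hr.two_le
      interval_cases r <;> revert hr hd <;> norm_num
    rcases hcase with ⟨ho, -⟩ | ⟨-, rfl, hp4⟩
    · exact absurd ho (by decide)
    · rw [pow_one] at hcard
      exact Or.inr (Or.inr (Or.inr (Or.inr (Or.inr (Or.inl ⟨p, R, hp, hcard, hp4, hR, he⟩)))))
  · have hm4 : m ≤ 3 := by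
      by_contra hc
      have h16 : 16 ≤ m ^ t := le_trans (le_trans (by norm_num : (16:ℕ) ≤ 4 ^ 2) (Nat.pow_le_pow_left (by omega : 4 ≤ m) 2)) (Nat.pow_le_pow_right (by omega) ht)
      omega
    obtain rfl : m = 3 := by omega
    have ht3 : t < 3 := (Nat.pow_lt_pow_iff_right (by norm_num : 1 < 3)).mp (by rw [hmt]; norm_num)
    obtain rfl : t = 2 := by omega
    norm_num at hmt
  · exact Or.inr (Or.inr (Or.inr (Or.inr (Or.inr (Or.inr (Or.inr (Or.inl ⟨f, hf, he⟩)))))))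
  · exact Or.inr (Or.inr (Or.inr (Or.inr (Or.inr (Or.inr (Or.inr (Or.inr (Or.inl ⟨σ, f, hf, he⟩))))))))
  · exact Or.inr (Or.inr (Or.inr (Or.inr (Or.inr (Or.inr (Or.inl ⟨ho, Q, hQ, he⟩))))))
  · exact Or.inr (Or.inr (Or.inr (Or.inr (Or.inr (Or.inr (Or.inr (Or.inr (Or.inr (hres)))))))))

end Cfsg.Agent.S5781
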