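import Cfsg.Statements.S5784
import Cfsg.Agent.Lib.MaxClass.UnitaryMax
import Cfsg.Agent.Lib.MaxClass.UnitaryFourPair
import Cfsg.Agent.Lib.MaxClass.UnitaryFourPauli

set_option autoImplicit false
open Cfsg Cfsg.Geo Cfsg.Agent.Lib.MaxClass Cfsg.Agent.Lib.MaxClass.Unitary

namespace Cfsg.Agent.S5784

/-- Every maximal subgroup of SU_4(q) is of one of the listed geometric types or lies in the residual class. Let F be the field with q² elements, f the standard unitary form Σ u_i v_i^q on F^4, and H a maximal subgroup of SU_4(q) (inside GL_4(F)). Then H is the intersection with SU_4(q) of one of: the stabiliser of a non-zero subspace on which f vanishes; the stabiliser of a non-degenerate 1-space; for q ≠ 3, the stabiliser of a decomposition into four mutually orthogonal non-degenerate 1-spaces; for q ≥ 3, of a decomposition into two orthogonal non-degenerate 2-spaces; for q ≥ 4, of a decomposition into two totally isotropic 2-spaces;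 a subfield group of odd prime index whose F₀-structure carries f; a subfield group of index 2 whose F₀-structure carries ζ f, vanishing on pairs (u, u), for some non-zero ζ with ζ + ζ^q = 0; for q odd, a subfield group of index 2 whose F₀-structure carries f; for q = p ≡ 3 mod 4 prime, the normaliser of an absolutely irreducible symplectic-type 2-group of exponent 4, order 64 and centre of order 4 inside the similarity group of f — or else H lies in the residual class of the unitary case. -/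
theorem result {F : Type*} [Field F] [Fintype F] (q : ℕ) (hF : Fintype.card F = q ^ 2) (H : Subgroup (Matrix.GeneralLinearGroup (Fin 4) F)) (hH : Cfsg.Geo.IsMaximalIn (Cfsg.GU 4 F q ⊓ Cfsg.Geo.specialLinear (Fin 4) F) H) :
    (∃ W : Submodule F (Fin 4 → F), W ≠ ⊥ ∧ Cfsg.Geo.IsTotallySingularFor (Cfsg.hermForm 4 F q) W ∧ H = Cfsg.Geo.subspaceStabilizer W ⊓ (Cfsg.GU 4 F q ⊓ Cfsg.Geo.specialLinear (Fin 4) F)) ∨
    (∃ W : Submodule F (Fin 4 → F), W ≠ ⊥ ∧ Cfsg.Geo.IsNondegenerateOn (Cfsg.hermForm 4 F q) W ∧ 2 * Module.finrank F W < 4 ∧ H = Cfsg.Geo.subspaceStabilizer W ⊓ (Cfsg.GU 4 F q ⊓ Cfsg.Geo.specialLinear (Fin 4) F)) ∨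
    (q ≠ 3 ∧ ∃ D : Fin 4 → Submodule F (Fin 4 → F), Cfsg.Geo.IsNondegenerateMDecomposition (Cfsg.hermForm 4 F q) 1 D ∧ H = Cfsg.Geo.decompositionStabilizer D ⊓ (Cfsg.GU 4 F q ⊓ Cfsg.Geo.specialLinear (Fin 4) F)) ∨
    (3 ≤ q ∧ ∃ D : Fin 2 → Submodule F (Fin 4 → F), Cfsg.Geo.IsNondegenerateMDecomposition (Cfsg.hermForm 4 F q) 2 D ∧ H = Cfsg.Geo.decompositionStabilizer D ⊓ (Cfsg.GU 4 F q ⊓ Cfsg.Geo.specialLinear (Fin 4) F)) ∨
    (4 ≤ q ∧ ∃ D : Fin 2 → Submodule F (Fin 4 → F), Cfsg.Geo.IsMDecomposition 2 D ∧ (∀ i, Cfsg.Geo.IsTotallySingularFor (Cfsg.hermForm 4 F q) (D i)) ∧ H = Cfsg.Geo.decompositionStabilizer D ⊓ (Cfsg.GU 4 F q ⊓ Cfsg.Geo.specialLinear (Fin 4) F)) ∨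
    (∃ (F₀ : Subfield F) (r : ℕ) (P : Matrix.GeneralLinearGroup (Fin 4) F), r.Prime ∧ Odd r ∧ Fintype.card F = Nat.card F₀ ^ r ∧ Cfsg.Geo.IsFormRationalStructure (Cfsg.hermForm 4 F q) F₀ 1 P ∧ H = Cfsg.Geo.subfieldSubgroup F₀ P ⊓ (Cfsg.GU 4 F q ⊓ Cfsg.Geo.specialLinear (Fin 4) F)) ∨
    (∃ (F₀ : Subfield F) (P : Matrix.GeneralLinearGroup (Fin 4) F) (ζ : F), Fintype.card F = Nat.card F₀ ^ 2 ∧ ζ ≠ 0 ∧ ζ + ζ ^ q = 0 ∧ Cfsg.Geo.IsFormRationalStructure (Cfsg.hermForm 4 F q) F₀ ζ P ∧ (∀ u : Fin 4 → F, (∀ i, u i ∈ F₀) → (Cfsg.hermForm 4 F q) (Matrix.mulVec (P : Matrix (Fin 4) (Fin 4) F) u) (Matrix.mulVec (P : Matrix (Fin 4) (Fin 4) F) u) = 0) ∧ H = Cfsg.Geo.subfieldSubgroup F₀ P ⊓ (Cfsg.GU 4 F q ⊓ Cfsg.Geo.specialLinear (Fin 4) F)) ∨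
    (Odd q ∧ ∃ (F₀ : Subfield F) (P : Matrix.GeneralLinearGroup (Fin 4) F), Fintype.card F = Nat.card F₀ ^ 2 ∧ Cfsg.Geo.IsFormRationalStructure (Cfsg.hermForm 4 F q) F₀ 1 P ∧ H = Cfsg.Geo.subfieldSubgroup F₀ P ⊓ (Cfsg.GU 4 F q ⊓ Cfsg.Geo.specialLinear (Fin 4) F)) ∨
    (∃ (p : ℕ) (R : Subgroup (Matrix.GeneralLinearGroup (Fin 4) F)), p.Prime ∧ q = p ∧ p % 4 = 3 ∧ Cfsg.Geo.IsSymplecticTypeGroup 2 R ∧ Cfsg.Geo.ActsAbsolutelyIrreducibly (Cfsg.Geo.matrixSet R) ∧ R ≤ Cfsg.Geo.similarityGroup (Cfsg.hermForm 4 F q) ∧ Nat.card R = 64 ∧ Nat.card (Subgroup.center R) = 4 ∧ H = Cfsg.Geo.subgroupNormalizer R ⊓ (Cfsg.GU 4 F q ⊓ Cfsg.Geo.specialLinear (Fin 4) F)) ∨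
    Cfsg.Geo.InUnitaryResidualClass H := by
  obtain ⟨σ, hσ⟩ := Cfsg.Agent.Lib.Aschbacher.exists_qAut hF
  have hq2 := hσ.one_lt
  rcases unitary_max hF (n := 4) (by norm_num) (by norm_num) hH with
    ⟨W, h0, hts, he⟩ | ⟨W, h0, hnd, hlt, he⟩ | ⟨t, k, D, hD, htk, hk2, he⟩ | ⟨k, D, h2k, hD, hts, he⟩ |
    ⟨r, K, hr, hodd, hdvd, hK, hadj, he⟩ | ⟨n₁, n₂, e, P, f₁, f₂, h1, h2, hnn, hq3, hf1, hf2, hform, he⟩ |
    ⟨F₀, r, P, hr, hodd, hcard, hrat, he⟩ | ⟨F₀, P, hodd, hcard, hrat, he⟩ |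
    ⟨F₀, P, ζ, hev, hcard, hζ0, hζ, hrat, halt, he⟩ |
    ⟨r, p, a, k, R, hp, hchar, hq, hR, hirr, hsim, hn, hdata, he⟩ |
    ⟨k, e, P, f₁, hk, hkn, hex, hf1, hform, he⟩ | hres
  · exact Or.inl ⟨W, h0, hts, he⟩
  · exact Or.inr (Or.inl ⟨W, h0, hnd, hlt, he⟩)
  · have ht2 := hD.decomp.two_le
    have hk0 := hD.decomp.pos
    have hkn : k ≤ 2 := by nlinarith
    rcases (show (k = 1 ∧ t = 4) ∨ (k = 2 ∧ t = 2) by interval_cases k <;> omega) with ⟨rfl, rfl⟩ | ⟨rfl, rfl⟩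
    · by_cases hq : q = 3
      · subst hq
        obtain ⟨R, hR, hirr, hsim, hcard, hz, hle⟩ := FourPauli.pauli_four hσ hD
        have he' : H = subgroupNormalizer R ⊓ (GU 4 F 3 ⊓ specialLinear (Fin 4) F) :=
          eq_inf_of_maximal_le hH (he.trans_le hle)
            (not_su_le_subgroupNormalizer_of_four_le hσ (by norm_num) hirr (class_two_of_data hR (Or.inr ⟨rfl, hz⟩)))
        right; right; right; right; right; right; right; right; left
        exact ⟨3, R, Nat.prime_three, rfl, by norm_num, hR, hirr, hsim, hcard, hz, he'⟩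
      · right; right; left
        exact ⟨hq, D, hD, he⟩
    · right; right; right; left
      exact ⟨hk2 rfl, D, hD, he⟩
  · obtain rfl : k = 2 := by omega
    rcases Nat.lt_or_ge q 4 with hq | hq
    · have hsmall : ∀ c : F, σ c = c → c ≠ 0 → c = 1 ∨ c = -1 := by
        intro c hc hc0
        rw [hσ.eq_pow] at hc
        interval_cases q
        · left
          exact mul_left_cancel₀ hc0 (by linear_combination hc)
        · exact sq_eq_one_iff.mp (mul_left_cancel₀ hc0 (by linear_combination hc))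
      obtain ⟨F₀, P, ζ, hcard, hζ0, hζ, hrat, halt, hle⟩ := ts_pair_four hσ hsmall hD hts
      have he' : H = subfieldSubgroup F₀ P ⊓ (GU 4 F q ⊓ specialLinear (Fin 4) F) :=
        eq_inf_of_maximal_le hH (he.trans_le hle)
          (not_su_le_subfieldSubgroup hσ (by norm_num) (subfield_ne_top Nat.prime_two hcard) P)
      right; right; right; right; right; right; left
      exact ⟨F₀, P, ζ, hcard, hζ0, hζ, hrat, halt, he'⟩
    · right; right; right; right; left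
      exact ⟨hq, D, hD, hts, he⟩
  · exfalso
    have := Nat.le_of_dvd (by norm_num) hdvd
    interval_cases r <;> revert hr hdvd hodd <;> decide
  · nlinarith
  · right; right; right; right; right; left
    exact ⟨F₀, r, P, hr, hodd, hcard, hrat, he⟩
  · right; right; right; right; right; right; right; left
    exact ⟨hodd, F₀, P, hcard, hrat, he⟩
  · right; right; right; right; right; right; left
    exact ⟨F₀, P, ζ, hcard, hζ0, hζ, hrat, halt, he⟩
  · rcases hdata with ⟨ho, -, hk1, -⟩ | ⟨rfl, rfl, hp4, hz, hRc⟩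
    · exfalso
      have : Odd (4 : ℕ) := hn ▸ ho.pow
      exact absurd this (by decide)
    · obtain rfl : k = 2 := Nat.pow_right_injective le_rfl (hn.symm.trans (by norm_num : (4 : ℕ) = 2 ^ 2))
      right; right; right; right; right; right; right; right; left
      exact ⟨p, R, hp, by simpa using hq, hp4, hR, hirr, hsim, by rw [hRc]; norm_num, hz, he⟩
  · nlinarith
  · right; right; right; right; right; right; right; right; right
    exact hres

end Cfsg.Agent.S5784
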