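import Cfsg.Statements.S5787
import Cfsg.Agent.Lib.SympQuat.Frames

set_option autoImplicit false
open Cfsg

namespace Cfsg.Agent.S5787

/-- Every maximal subgroup of Sp_4(q), q odd, is of one of the listed geometric types or lies in the residual class. Let F be a finite field of odd order q, f the standard alternating form on F^4 (coordinates Fin 2 ⊕ Fin 2), and H a maximal subgroup of the isometry group Sp_4(F) (inside GL_4(F)). Then H is the intersection with Sp_4(F) of one of: the stabiliser of a non-zero totally isotropic subspace; the stabiliser of a decomposition into two orthogonal non-degenerate 2-spaces; for q ≥ 5, of a decomposition into two totally isotropic 2-spaces; the normaliser of a degree-2 subfield K of the matrix algebra, self-adjoint with f(k v, v) = 0; for q ≥ 5, the normaliser of a degree-2 subfield closed under adjoints but not self-adjoint; a subfield group whose F₀-structure carries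 a non-zero multiple of f, |F| = |F₀|^r with r prime; for q = p prime, the normaliser of an absolutely irreducible symplectic-type 2-group of exponent 4, order 32, centre of order 2 and minus type inside the similarity group of f — or else H lies in the residual class of the symplectic case. -/
theorem result {F : Type*} [Field F] [Fintype F] (hodd : Odd (Fintype.card F)) (H : Subgroup (Matrix.GeneralLinearGroup (Fin 2 ⊕ Fin 2) F)) (hH : Cfsg.Geo.IsMaximalIn (Cfsg.spGL 2 F) H) :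
    (∃ W : Submodule F (Fin 2 ⊕ Fin 2 → F), W ≠ ⊥ ∧ Cfsg.Geo.IsTotallySingularFor (Cfsg.sympForm 2 F) W ∧ H = Cfsg.Geo.subspaceStabilizer W ⊓ Cfsg.spGL 2 F) ∨
    (∃ D : Fin 2 → Submodule F (Fin 2 ⊕ Fin 2 → F), Cfsg.Geo.IsNondegenerateMDecomposition (Cfsg.sympForm 2 F) 2 D ∧ H = Cfsg.Geo.decompositionStabilizer D ⊓ Cfsg.spGL 2 F) ∨
    (5 ≤ Fintype.card F ∧ ∃ D : Fin 2 → Submodule F (Fin 2 ⊕ Fin 2 → F), Cfsg.Geo.IsMDecomposition 2 D ∧ (∀ i, Cfsg.Geo.IsTotallySingularFor (Cfsg.sympForm 2 F) (D i)) ∧ H = Cfsg.Geo.decompositionStabilizer D ⊓ Cfsg.spGL 2 F) ∨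
    (∃ K : Subalgebra F (Matrix (Fin 2 ⊕ Fin 2) (Fin 2 ⊕ Fin 2) F), Cfsg.Geo.IsFieldSubalgebra 2 K ∧ Cfsg.Geo.IsSelfAdjointFor (Cfsg.sympForm 2 F) K ∧ (∀ k ∈ K, ∀ v : (Fin 2 ⊕ Fin 2 → F), (Cfsg.sympForm 2 F) (Matrix.mulVec k v) v = 0) ∧ H = Cfsg.Geo.subalgebraNormalizer K ⊓ Cfsg.spGL 2 F) ∨
    (5 ≤ Fintype.card F ∧ ∃ K : Subalgebra F (Matrix (Fin 2 ⊕ Fin 2) (Fin 2 ⊕ Fin 2) F), Cfsg.Geo.IsFieldSubalgebra 2 K ∧ Cfsg.Geo.IsAdjointClosedFor (Cfsg.sympForm 2 F) K ∧ ¬ Cfsg.Geo.IsSelfAdjointFor (Cfsg.sympForm 2 F) K ∧ H = Cfsg.Geo.subalgebraNormalizer K ⊓ Cfsg.spGL 2 F) ∨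
    (∃ (F₀ : Subfield F) (r : ℕ) (P : Matrix.GeneralLinearGroup (Fin 2 ⊕ Fin 2) F) (ζ : F), r.Prime ∧ Fintype.card F = Nat.card F₀ ^ r ∧ ζ ≠ 0 ∧ Cfsg.Geo.IsFormRationalStructure (Cfsg.sympForm 2 F) F₀ ζ P ∧ H = Cfsg.Geo.subfieldSubgroup F₀ P ⊓ Cfsg.spGL 2 F) ∨
    (∃ (p : ℕ) (R : Subgroup (Matrix.GeneralLinearGroup (Fin 2 ⊕ Fin 2) F)), p.Prime ∧ Fintype.card F = p ∧ Cfsg.Geo.IsSymplecticTypeGroup 2 R ∧ Cfsg.Geo.ActsAbsolutelyIrreducibly (Cfsg.Geo.matrixSet R) ∧ R ≤ Cfsg.Geo.similarityGroup (Cfsg.sympForm 2 F) ∧ Nat.card R = 32 ∧ Nat.card (Subgroup.center R) = 2 ∧ Cfsg.Geo.IsOfMinusType 2 R ∧ H = Cfsg.Geo.subgroupNormalizer R ⊓ Cfsg.spGL 2 F) ∨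
    Cfsg.Geo.InSymplecticResidualClass H := by
  classical
  rcases Cfsg.Agent.Lib.MaxClass.symplectic_max (m := 2) (by norm_num) hH with ⟨W, h0, hts, he⟩ |
    ⟨W, h0, hnd, hlt, hev, he⟩ | ⟨t, k, D, hD, ht, hkev, htk, hq, he⟩ | ⟨D, ho, hD, hts, he⟩ |
    ⟨r, K, hr, hdvd, hK, hsa, halt, he⟩ | ⟨K, ho, hK, hac, hsa, he⟩ |
    ⟨n₁, n₂, e, P, f₁, f₂, ho, h3, h2, he1, hnn, hq, hf₁, hf₂, hstr, he⟩ | hsf |
    ⟨p, R, k, hp, ho, hcard, hR, hirr, hsim, hRc, hdeg, hz, hminus, he⟩ |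
    ⟨k, t, e, P, f₁, ho, hto, ht, hk, hke, hkt, hex, hf₁, hstr, he⟩ | ⟨Q, ho, hQ, hpol, he⟩ | hres
  · exact Or.inl ⟨W, h0, hts, he⟩
  · exfalso
    obtain ⟨j, hj⟩ := hev
    apply h0
    rw [← Submodule.finrank_eq_zero]
    omega
  · obtain ⟨rfl, rfl⟩ : k = 2 ∧ t = 2 := by
      obtain ⟨j, hj⟩ := hkev
      have := hD.decomp.pos
      have : k ≤ 2 := by nlinarith
      constructor <;> interval_cases k <;> omega
    exact Or.inr (Or.inl ⟨D, hD, he⟩)
  · by_cases h5 : 5 ≤ Fintype.card F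
    · exact Or.inr (Or.inr (Or.inl ⟨h5, D, hD, hts, he⟩))
    · have hq : Fintype.card F = 3 := by
        have := Fintype.one_lt_card (α := F)
        obtain ⟨j, hj⟩ := hodd
        omega
      exact Or.inr (Or.inr (Or.inr (Or.inr (Or.inr (Or.inr (Or.inl
        (Cfsg.Agent.Lib.SympQuat.planes_case hq hH hD hts he)))))))
  · obtain rfl : r = 2 := (Nat.prime_dvd_prime_iff_eq hr Nat.prime_two).mp hdvd
    exact Or.inr (Or.inr (Or.inr (Or.inl ⟨K, hK, hsa, halt, he⟩)))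
  · by_cases h5 : 5 ≤ Fintype.card F
    · exact Or.inr (Or.inr (Or.inr (Or.inr (Or.inl ⟨h5, K, hK, hac, hsa, he⟩))))
    · have hq : Fintype.card F = 3 := by
        have := Fintype.one_lt_card (α := F)
        obtain ⟨j, hj⟩ := hodd
        omega
      exact Or.inr (Or.inr (Or.inr (Or.inr (Or.inr (Or.inr (Or.inl
        (Cfsg.Agent.Lib.SympQuat.field_case hq hH hK hac hsa he)))))))
  · exfalso
    have := Nat.mul_le_mul h2 h3
    omega
  · exact Or.inr (Or.inr (Or.inr (Or.inr (Or.inr (Or.inl hsf)))))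
  · have hk4 : k < 4 := lt_of_lt_of_le (Nat.lt_pow_self (by norm_num : 1 < 2)) hdeg.symm.le
    obtain rfl : k = 2 := by interval_cases k <;> first | rfl | norm_num at hdeg
    exact Or.inr (Or.inr (Or.inr (Or.inr (Or.inr (Or.inr (Or.inl
      ⟨p, R, hp, hcard, hR, hirr, hsim, by rw [hRc]; norm_num, hz, hminus, he⟩))))))
  · exfalso
    have h1 := Nat.pow_le_pow_right (by omega : 0 < k) ht
    have h2 := Nat.pow_le_pow_left hk 3
    omega
  · exact absurd hodd ho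
  · exact Or.inr (Or.inr (Or.inr (Or.inr (Or.inr (Or.inr (Or.inr hres))))))

end Cfsg.Agent.S5787
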