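import Cfsg.Statements.S5790
import Mathlib
import Cfsg.Agent.Lib.MaxClass.SympMax

set_option autoImplicit false
set_option linter.style.haveILetI false
open Cfsg

namespace Cfsg.Agent.S5790

open Cfsg.Agent.Lib.MaxClass

/-- Every maximal subgroup of Sp_4(q), q ≥ 4 even, is of one of the listed geometric types or lies in the residual class. Let F be a finite field of even order q ≥ 4, f the standard alternating form on F^4 (coordinates Fin 2 ⊕ Fin 2), and H a maximal subgroup of Sp_4(F) (inside GL_4(F)). Then H is the intersection with Sp_4(F) of one of: the stabiliser of a non-zero totally isotropic subspace; the stabiliser of a decomposition into two orthogonal non-degenerate 2-spaces; the normaliser of a degree-2 subfield K of the matrix algebra, self-adjoint with f(k v, v) = 0; a subfield group whose F₀-structure carries a non-zero multiple of f, |F| = |F₀|^r with r prime; the similarity group of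 a non-degenerate quadratic form whose polar form is f — or else H lies in the residual class of the symplectic case. -/
theorem result {F : Type*} [Field F] [Fintype F] (heven : ¬ Odd (Fintype.card F)) (h4 : 4 ≤ Fintype.card F) (H : Subgroup (Matrix.GeneralLinearGroup (Fin 2 ⊕ Fin 2) F)) (hH : Cfsg.Geo.IsMaximalIn (Cfsg.spGL 2 F) H) :
    (∃ W : Submodule F (Fin 2 ⊕ Fin 2 → F), W ≠ ⊥ ∧ Cfsg.Geo.IsTotallySingularFor (Cfsg.sympForm 2 F) W ∧ H = Cfsg.Geo.subspaceStabilizer W ⊓ Cfsg.spGL 2 F) ∨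
    (∃ D : Fin 2 → Submodule F (Fin 2 ⊕ Fin 2 → F), Cfsg.Geo.IsNondegenerateMDecomposition (Cfsg.sympForm 2 F) 2 D ∧ H = Cfsg.Geo.decompositionStabilizer D ⊓ Cfsg.spGL 2 F) ∨
    (∃ K : Subalgebra F (Matrix (Fin 2 ⊕ Fin 2) (Fin 2 ⊕ Fin 2) F), Cfsg.Geo.IsFieldSubalgebra 2 K ∧ Cfsg.Geo.IsSelfAdjointFor (Cfsg.sympForm 2 F) K ∧ (∀ k ∈ K, ∀ v : (Fin 2 ⊕ Fin 2 → F), (Cfsg.sympForm 2 F) (Matrix.mulVec k v) v = 0) ∧ H = Cfsg.Geo.subalgebraNormalizer K ⊓ Cfsg.spGL 2 F) ∨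
    (∃ (F₀ : Subfield F) (r : ℕ) (P : Matrix.GeneralLinearGroup (Fin 2 ⊕ Fin 2) F) (ζ : F), r.Prime ∧ Fintype.card F = Nat.card F₀ ^ r ∧ ζ ≠ 0 ∧ Cfsg.Geo.IsFormRationalStructure (Cfsg.sympForm 2 F) F₀ ζ P ∧ H = Cfsg.Geo.subfieldSubgroup F₀ P ⊓ Cfsg.spGL 2 F) ∨
    (∃ Q : (Fin 2 ⊕ Fin 2 → F) → F, Cfsg.Geo.IsNondegenerateQuadraticForm Q ∧ (∀ u v : (Fin 2 ⊕ Fin 2 → F), QuadraticMap.polar Q u v = (Cfsg.sympForm 2 F) u v) ∧ H = Cfsg.Geo.quadSimilarityGroup Q ⊓ Cfsg.spGL 2 F) ∨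
    Cfsg.Geo.InSymplecticResidualClass H := by
  rcases symplectic_max (m := 2) (by norm_num) hH with ⟨W, h0, hts, he⟩ | ⟨W, h0, hnd, hlt, hev, he⟩ |
    ⟨t, k, D, hD, ht, hkev, htk, hq, he⟩ | ⟨D, ho, hD, hts, he⟩ | ⟨r, K, hr, hdvd, hK, hsa, halt, he⟩ |
    ⟨K, ho, hK, hac, hsa, he⟩ | ⟨n₁, n₂, e, P, f₁, f₂, ho, h3, h2, he1, hnn, hq, hf₁, hf₂, hstr, he⟩ | hsf |
    ⟨p, R, k, hp, ho, hcard, hR, hirr, hsim, hRc, hdeg, hz, hminus, he⟩ |
    ⟨k, t, e, P, f₁, ho, hto, ht, hk, hke, hkt, hex, hf₁, hstr, he⟩ | ⟨Q, ho, hQ, hpol, he⟩ | hres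
  · exact Or.inl (⟨W, h0, hts, he⟩)
  · exfalso
    obtain ⟨j, hj⟩ := hev
    exact h0 (Submodule.finrank_eq_zero.mp (by omega))
  · have hk0 := hD.decomp.pos
    have hk2 : k ≤ 2 := by nlinarith
    obtain ⟨j, hj⟩ := hkev
    rcases (show (k = 2 ∧ t = 2) by interval_cases k <;> omega) with ⟨rfl, rfl⟩
    · exact Or.inr (Or.inl (⟨D, hD, he⟩))
  · exact absurd ho heven
  · have hrn := Nat.le_of_dvd (by norm_num) hdvd
    have hr2 := hr.two_le
    rcases (show r = 2 by interval_cases r <;> revert hr hdvd <;> norm_num) with rfl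
    · exact Or.inr (Or.inr (Or.inl (⟨K, hK, hsa, halt, he⟩)))
  · exact absurd ho heven
  · exact absurd ho heven
  · exact Or.inr (Or.inr (Or.inr (Or.inl (hsf))))
  · exact absurd (hcard ▸ ho) heven
  · exact absurd ho heven
  · exact Or.inr (Or.inr (Or.inr (Or.inr (Or.inl (⟨Q, hQ, hpol, he⟩)))))
  · exact Or.inr (Or.inr (Or.inr (Or.inr (Or.inr (hres)))))

end Cfsg.Agent.S5790
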