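import Cfsg.Statements.S5793
import Mathlib
import Cfsg.Agent.Lib.MaxClass.LinearMax

set_option autoImplicit false
set_option linter.style.haveILetI false
open Cfsg

namespace Cfsg.Agent.S5793

open Cfsg.Agent.Lib.MaxClass

/-- Every maximal subgroup of SL_5(q) is of one of the listed geometric types or lies in the residual class. Let F be a finite field with q elements (p its characteristic) and H a maximal subgroup of SL_5(F) (inside GL_5(F)). Then H is the intersection with SL_5(F) of one of: the stabiliser of a proper non-zero subspace; for q ≥ 5, the stabiliser of a decomposition into 5 independent 1-spaces; the normaliser of a degree-5 subfield of the matrix algebra; a subfield group for a subfield F₀ with |F| = |F₀|^r, r prime; for q = p prime with p ≡ 1 mod 5, the normaliser of an absolutely irreducible 5-subgroup R of exponent 5 and order 5^(1+2m) with centre of order 5, all of whose characteristic abelian subgroups are cyclic, F being the smallest field of characteristic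 p containing the fifth roots of unity (here R is extraspecial of order 125); for q odd, the similarity group of a non-degenerate quadratic form; the similarity group of a non-degenerate unitary form — or else H lies in the residual class of the linear case (modulo scalars H is almost simple, with absolutely irreducible perfect socle preimage realisable over no proper subfield and fixing no non-degenerate quadratic, symplectic or unitary form). -/
theorem result {F : Type*} [Field F] [Fintype F] (H : Subgroup (Matrix.GeneralLinearGroup (Fin 5) F)) (hH : Cfsg.Geo.IsMaximalIn (Cfsg.Geo.specialLinear (Fin 5) F) H) :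
    (∃ W : Submodule F (Fin 5 → F), W ≠ ⊥ ∧ W ≠ ⊤ ∧ H = Cfsg.Geo.subspaceStabilizer W ⊓ Cfsg.Geo.specialLinear (Fin 5) F) ∨
    (5 ≤ Fintype.card F ∧ ∃ D : Fin 5 → Submodule F (Fin 5 → F), Cfsg.Geo.IsMDecomposition 1 D ∧ H = Cfsg.Geo.decompositionStabilizer D ⊓ Cfsg.Geo.specialLinear (Fin 5) F) ∨
    (∃ K : Subalgebra F (Matrix (Fin 5) (Fin 5) F), Cfsg.Geo.IsFieldSubalgebra 5 K ∧ H = Cfsg.Geo.subalgebraNormalizer K ⊓ Cfsg.Geo.specialLinear (Fin 5) F) ∨
    (∃ (F₀ : Subfield F) (r : ℕ) (P : Matrix.GeneralLinearGroup (Fin 5) F), r.Prime ∧ Fintype.card F = Nat.card F₀ ^ r ∧ H = Cfsg.Geo.subfieldSubgroup F₀ P ⊓ Cfsg.Geo.specialLinear (Fin 5) F) ∨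
    ((∃ p : ℕ, p.Prime ∧ Fintype.card F = p ∧ (p % 5 = 1)) ∧ ∃ R : Subgroup (Matrix.GeneralLinearGroup (Fin 5) F), Cfsg.Geo.IsLinearSymplecticTypeData 5 R ∧ H = Cfsg.Geo.subgroupNormalizer R ⊓ Cfsg.Geo.specialLinear (Fin 5) F) ∨
    (Odd (Fintype.card F) ∧ ∃ Q : (Fin 5 → F) → F, Cfsg.Geo.IsNondegenerateQuadraticForm Q ∧ H = Cfsg.Geo.quadSimilarityGroup Q ⊓ Cfsg.Geo.specialLinear (Fin 5) F) ∨
    (∃ (σ : F ≃+* F) (f : (Fin 5 → F) → (Fin 5 → F) → F), Cfsg.Geo.IsUnitaryForm σ f ∧ H = Cfsg.Geo.similarityGroup f ⊓ Cfsg.Geo.specialLinear (Fin 5) F) ∨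
    Cfsg.Geo.InLinearResidualClass H := by
  rcases linear_max (n := 5) (by norm_num) hH with ⟨W, h0, h1, he⟩ | ⟨t, m, D, hD, htm, hq1, hq2, he⟩ |
    ⟨r, K, hr, hdvd, hK, h34, he⟩ | ⟨n₁, n₂, e, P, h1, h2, hnn, hq, he⟩ | hsf |
    ⟨r, p, e, m, R, hR, hp, hchar, hcard, hr, hn, hm, hcase, he⟩ | ⟨m, t, e, P, hm, ht, hmt, he⟩ |
    ⟨f, hf, hev, he⟩ | ⟨σ, f, hf, he⟩ | ⟨Q, hQ, ho, he⟩ | hres
  · exact Or.inl ⟨W, h0, h1, he⟩
  · have ht2 := hD.two_le
    have hm0 := hD.pos
    have hm2 : m ≤ 2 := by nlinarith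
    rcases (show (m = 1 ∧ t = 5) by interval_cases m <;> omega) with ⟨rfl, rfl⟩
    · exact Or.inr (Or.inl ⟨(hq1 rfl).1, D, hD, he⟩)
  · have hrn := Nat.le_of_dvd (by norm_num) hdvd
    have hr2 := hr.two_le
    rcases (show r = 5 by interval_cases r <;> revert hr hdvd <;> norm_num) with rfl
    · exact Or.inr (Or.inr (Or.inl ⟨K, hK, he⟩))
  · have h13 : n₁ ≤ 3 := by nlinarith
    exfalso; interval_cases n₁ <;> omega
  · exact Or.inr (Or.inr (Or.inr (Or.inl hsf)))
  · have hrn := Nat.le_of_dvd (by norm_num) (hn ▸ dvd_pow_self r (by omega) : r ∣ 5)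
    obtain rfl : r = 5 := by
      have hd : r ∣ 5 := hn ▸ dvd_pow_self r (by omega)
      have := hr.two_le
      interval_cases r <;> revert hr hd <;> norm_num
    rcases hcase with ⟨-, ho, hed, hmod, hmin⟩ | ⟨h2, -⟩
    swap; · exact absurd h2 (by norm_num)
    have hle := Nat.le_of_dvd (by norm_num) hed
    obtain rfl : e = 1 := by interval_cases e <;> revert ho hed <;> decide
    rw [pow_one] at hcard hmod
    exact Or.inr (Or.inr (Or.inr (Or.inr (Or.inl ⟨⟨p, hp, hcard, hmod⟩, R, hR, he⟩))))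
  · have hm4 : m ≤ 3 := by
      by_contra hc
      have h16 : 16 ≤ m ^ t := le_trans (le_trans (by norm_num : (16:ℕ) ≤ 4 ^ 2) (Nat.pow_le_pow_left (by omega : 4 ≤ m) 2)) (Nat.pow_le_pow_right (by omega) ht)
      omega
    obtain rfl : m = 3 := by omega
    have ht3 : t < 3 := (Nat.pow_lt_pow_iff_right (by norm_num : 1 < 3)).mp (by rw [hmt]; norm_num)
    obtain rfl : t = 2 := by omega
    norm_num at hmt
  · exact absurd hev (by decide)
  · exact Or.inr (Or.inr (Or.inr (Or.inr (Or.inr (Or.inr (Or.inl ⟨σ, f, hf, he⟩))))))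
  · exact Or.inr (Or.inr (Or.inr (Or.inr (Or.inr (Or.inl ⟨ho, Q, hQ, he⟩)))))
  · exact Or.inr (Or.inr (Or.inr (Or.inr (Or.inr (Or.inr (Or.inr (hres)))))))

end Cfsg.Agent.S5793
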