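import Cfsg.Statements.S5796
import Cfsg.Agent.Lib.MaxClass.UnitaryMax
import Cfsg.Agent.Lib.MaxClass.UnitaryFiveMax

set_option autoImplicit false
open Cfsg Cfsg.Geo Cfsg.Agent.Lib.MaxClass Cfsg.Agent.Lib.MaxClass.Unitary

namespace Cfsg.Agent.S5796

/-- Every maximal subgroup of SU_5(q) is of one of the listed geometric types or lies in the residual class. Let F be the field with q² elements (characteristic p), f the standard unitary form Σ u_i v_i^q on F^5, and H a maximal subgroup of SU_5(q) (inside GL_5(F)). Then H is the intersection with SU_5(q) of one of: the stabiliser of a non-zero totally isotropic subspace; the stabiliser of a non-degenerate 1-space or 2-space; the stabiliser of a decomposition into five mutually orthogonal non-degenerate 1-spaces; for q ≥ 3, the normaliser of an adjoint-closed degree-5 subfield of the matrix algebra; a subfield group of odd prime index whose F₀-structure carries f; for q odd, a subfield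 group of index 2 whose F₀-structure carries f; for q = p ≡ 4 mod 5 or q = p² with p ≡ 2, 3 mod 5, the normaliser of an absolutely irreducible 5-group of exponent 5, order 125 and centre of order 5 with all characteristic abelian subgroups cyclic inside the similarity group of f — or else H lies in the residual class of the unitary case. -/
theorem result {F : Type*} [Field F] [Fintype F] (q : ℕ) (hF : Fintype.card F = q ^ 2) (H : Subgroup (Matrix.GeneralLinearGroup (Fin 5) F)) (hH : Cfsg.Geo.IsMaximalIn (Cfsg.GU 5 F q ⊓ Cfsg.Geo.specialLinear (Fin 5) F) H) :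
    (∃ W : Submodule F (Fin 5 → F), W ≠ ⊥ ∧ Cfsg.Geo.IsTotallySingularFor (Cfsg.hermForm 5 F q) W ∧ H = Cfsg.Geo.subspaceStabilizer W ⊓ (Cfsg.GU 5 F q ⊓ Cfsg.Geo.specialLinear (Fin 5) F)) ∨
    (∃ W : Submodule F (Fin 5 → F), W ≠ ⊥ ∧ Cfsg.Geo.IsNondegenerateOn (Cfsg.hermForm 5 F q) W ∧ 2 * Module.finrank F W < 5 ∧ H = Cfsg.Geo.subspaceStabilizer W ⊓ (Cfsg.GU 5 F q ⊓ Cfsg.Geo.specialLinear (Fin 5) F)) ∨
    (∃ D : Fin 5 → Submodule F (Fin 5 → F), Cfsg.Geo.IsNondegenerateMDecomposition (Cfsg.hermForm 5 F q) 1 D ∧ H = Cfsg.Geo.decompositionStabilizer D ⊓ (Cfsg.GU 5 F q ⊓ Cfsg.Geo.specialLinear (Fin 5) F)) ∨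
    (3 ≤ q ∧ ∃ K : Subalgebra F (Matrix (Fin 5) (Fin 5) F), Cfsg.Geo.IsFieldSubalgebra 5 K ∧ Cfsg.Geo.IsAdjointClosedFor (Cfsg.hermForm 5 F q) K ∧ H = Cfsg.Geo.subalgebraNormalizer K ⊓ (Cfsg.GU 5 F q ⊓ Cfsg.Geo.specialLinear (Fin 5) F)) ∨
    (∃ (F₀ : Subfield F) (r : ℕ) (P : Matrix.GeneralLinearGroup (Fin 5) F), r.Prime ∧ Odd r ∧ Fintype.card F = Nat.card F₀ ^ r ∧ Cfsg.Geo.IsFormRationalStructure (Cfsg.hermForm 5 F q) F₀ 1 P ∧ H = Cfsg.Geo.subfieldSubgroup F₀ P ⊓ (Cfsg.GU 5 F q ⊓ Cfsg.Geo.specialLinear (Fin 5) F)) ∨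
    (Odd q ∧ ∃ (F₀ : Subfield F) (P : Matrix.GeneralLinearGroup (Fin 5) F), Fintype.card F = Nat.card F₀ ^ 2 ∧ Cfsg.Geo.IsFormRationalStructure (Cfsg.hermForm 5 F q) F₀ 1 P ∧ H = Cfsg.Geo.subfieldSubgroup F₀ P ⊓ (Cfsg.GU 5 F q ⊓ Cfsg.Geo.specialLinear (Fin 5) F)) ∨
    (∃ (p : ℕ) (R : Subgroup (Matrix.GeneralLinearGroup (Fin 5) F)), p.Prime ∧ CharP F p ∧ ((q = p ∧ p % 5 = 4) ∨ (q = p ^ 2 ∧ (p % 5 = 2 ∨ p % 5 = 3))) ∧ Cfsg.Geo.IsSymplecticTypeGroup 5 R ∧ Cfsg.Geo.ActsAbsolutelyIrreducibly (Cfsg.Geo.matrixSet R) ∧ R ≤ Cfsg.Geo.similarityGroup (Cfsg.hermForm 5 F q) ∧ Nat.card R = 125 ∧ Nat.card (Subgroup.center R) = 5 ∧ H = Cfsg.Geo.subgroupNormalizer R ⊓ (Cfsg.GU 5 F q ⊓ Cfsg.Geo.specialLinear (Fin 5) F)) ∨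
    Cfsg.Geo.InUnitaryResidualClass H := by
  obtain ⟨σ, hσ⟩ := Cfsg.Agent.Lib.Aschbacher.exists_qAut hF
  have hq2 := hσ.one_lt
  rcases unitary_max hF (n := 5) (by norm_num) (by norm_num) hH with
    ⟨W, h0, hts, he⟩ | ⟨W, h0, hnd, hlt, he⟩ | ⟨t, k, D, hD, htk, hk2, he⟩ | ⟨k, D, h2k, hD, hts, he⟩ |
    ⟨r, K, hr, hodd, hdvd, hK, hadj, he⟩ | ⟨n₁, n₂, e, P, f₁, f₂, h1, h2, hnn, hq3, hf1, hf2, hform, he⟩ |
    ⟨F₀, r, P, hr, hodd, hcard, hrat, he⟩ | ⟨F₀, P, hodd, hcard, hrat, he⟩ |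
    ⟨F₀, P, ζ, hev, hcard, hζ0, hζ, hrat, halt, he⟩ |
    ⟨r, p, a, k, R, hp, hchar, hq, hR, hirr, hsim, hn, hdata, he⟩ |
    ⟨k, e, P, f₁, hk, hkn, hex, hf1, hform, he⟩ | hres
  · exact Or.inl ⟨W, h0, hts, he⟩
  · exact Or.inr (Or.inl ⟨W, h0, hnd, hlt, he⟩)
  · have ht2 := hD.decomp.two_le
    have hk0 := hD.decomp.pos
    have hkn : k ≤ 2 := by nlinarith
    obtain ⟨rfl, rfl⟩ : k = 1 ∧ t = 5 := by interval_cases k <;> omega
    right; right; left
    exact ⟨D, hD, he⟩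
  · omega
  · obtain rfl : r = 5 := by
      have := Nat.le_of_dvd (by norm_num) hdvd
      interval_cases r <;> revert hr hdvd hodd <;> decide
    rcases Nat.lt_or_ge q 3 with hq | hq
    · obtain rfl : q = 2 := by omega
      exact (Five.field_not_maximal hσ hK hadj hH (he.le.trans inf_le_left)).elim
    · right; right; right; left
      exact ⟨hq, K, hK, hadj, he⟩
  · have : n₁ ≤ 2 := by nlinarith
    interval_cases n₁
    omega
  · right; right; right; right; left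
    exact ⟨F₀, r, P, hr, hodd, hcard, hrat, he⟩
  · right; right; right; right; right; left
    exact ⟨hodd, F₀, P, hcard, hrat, he⟩
  · exact absurd hev (by decide)
  · obtain ⟨rfl, rfl⟩ : r = 5 ∧ k = 1 := by
      have h5 : (5 : ℕ).Prime := Nat.prime_five
      have h1 : r ∣ 5 ∨ k = 0 := by
        rcases Nat.eq_zero_or_pos k with h | h
        · exact Or.inr h
        · exact Or.inl (hn ▸ dvd_pow_self r h.ne')
      rcases h1 with h1 | rfl
      · obtain rfl := ((Nat.dvd_prime h5).mp h1).resolve_left hR.prime.one_lt.ne'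
        exact ⟨rfl, (Nat.pow_right_injective (by norm_num : 2 ≤ 5)) (hn.symm.trans (pow_one 5).symm)⟩
      · norm_num at hn
    rcases hdata with ⟨-, hz, -, hRc, hdvd, hp1, hlt⟩ | ⟨h, -⟩
    swap
    · norm_num at h
    right; right; right; right; right; right; left
    refine ⟨p, R, hp, hchar, ?_, hR, hirr, hsim, by rw [hRc]; norm_num, hz, he⟩
    have ha : 0 < a := by
      rcases Nat.eq_zero_or_pos a with h | h
      · subst h; rw [pow_zero] at hq; omega
      · exact h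
    have ha2 : a ≤ 2 := by
      have := Nat.le_of_dvd (by norm_num) hdvd
      omega
    interval_cases a
    · left
      refine ⟨by simpa using hq, ?_⟩
      have h1 := hlt 1 one_pos (by norm_num)
      rw [pow_one] at h1
      rw [Nat.pow_mod] at hp1
      have h5 := Nat.mod_lt p (show 5 > 0 by norm_num)
      obtain ⟨m, hm⟩ : ∃ m, m = p % 5 := ⟨_, rfl⟩
      rw [← hm] at h1 h5 hp1 ⊢
      interval_cases m <;> first | rfl | omega | (norm_num at hp1)
    · right
      refine ⟨hq, ?_⟩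
      have h1 := hlt 1 one_pos (by norm_num)
      have h2 := hlt 2 (by norm_num) (by norm_num)
      rw [pow_one] at h1
      rw [Nat.pow_mod] at hp1 h2
      have h5 := Nat.mod_lt p (show 5 > 0 by norm_num)
      obtain ⟨m, hm⟩ : ∃ m, m = p % 5 := ⟨_, rfl⟩
      rw [← hm] at h1 h5 hp1 h2 ⊢
      interval_cases m <;> first | exact Or.inl rfl | exact Or.inr rfl | omega | (norm_num at hp1) | (norm_num at h2)
  · have : k ≤ 2 := by nlinarith
    omega
  · right; right; right; right; right; right; right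
    exact hres

end Cfsg.Agent.S5796
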