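import Cfsg.Statements.S5811
import Cfsg.Agent.Lib.MaxClass.UnitaryMax

set_option autoImplicit false
open Cfsg Cfsg.Geo Cfsg.Agent.Lib.MaxClass.Unitary

namespace Cfsg.Agent.S5811

/-- Every maximal subgroup of SU_7(q) is of one of the listed geometric types or lies in the residual class. Let F be the field with q² elements (characteristic p), f the standard unitary form Σ u_i v_i^q on F^7, and H a maximal subgroup of SU_7(q) (inside GL_7(F)). Then H is the intersection with SU_7(q) of one of: the stabiliser of a non-zero totally isotropic subspace; the stabiliser of a non-degenerate 1-, 2- or 3-space; the stabiliser of a decomposition into seven mutually orthogonal non-degenerate 1-spaces; the normaliser of an adjoint-closed degree-7 subfield of the matrix algebra; a subfield group of odd prime index whose F₀-structure carries f; for q odd, a subfield group of index 2 whose F₀-structure carries f; for q = p prime with p ≡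 6 mod 7, or q = p³ with p ≡ 3 or 5 mod 7, the normaliser of an absolutely irreducible 7-group R of exponent 7, order 343 and centre of order 7, all of whose characteristic abelian subgroups are cyclic, contained in the similarity group of f — or else H lies in the residual class of the unitary case (modulo scalars H is almost simple, with absolutely irreducible perfect socle preimage realisable over no proper subfield and fixing no non-degenerate quadratic or symplectic form). -/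
theorem result {F : Type*} [Field F] [Fintype F] (q : ℕ) (hF : Fintype.card F = q ^ 2) (H : Subgroup (Matrix.GeneralLinearGroup (Fin 7) F)) (hH : Cfsg.Geo.IsMaximalIn (Cfsg.GU 7 F q ⊓ Cfsg.Geo.specialLinear (Fin 7) F) H) :
    (∃ W : Submodule F (Fin 7 → F), W ≠ ⊥ ∧ Cfsg.Geo.IsTotallySingularFor (Cfsg.hermForm 7 F q) W ∧ H = Cfsg.Geo.subspaceStabilizer W ⊓ (Cfsg.GU 7 F q ⊓ Cfsg.Geo.specialLinear (Fin 7) F)) ∨
    (∃ W : Submodule F (Fin 7 → F), W ≠ ⊥ ∧ Cfsg.Geo.IsNondegenerateOn (Cfsg.hermForm 7 F q) W ∧ 2 * Module.finrank F W < 7 ∧ H = Cfsg.Geo.subspaceStabilizer W ⊓ (Cfsg.GU 7 F q ⊓ Cfsg.Geo.specialLinear (Fin 7) F)) ∨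
    (∃ D : Fin 7 → Submodule F (Fin 7 → F), Cfsg.Geo.IsNondegenerateMDecomposition (Cfsg.hermForm 7 F q) 1 D ∧ H = Cfsg.Geo.decompositionStabilizer D ⊓ (Cfsg.GU 7 F q ⊓ Cfsg.Geo.specialLinear (Fin 7) F)) ∨
    (∃ K : Subalgebra F (Matrix (Fin 7) (Fin 7) F), Cfsg.Geo.IsFieldSubalgebra 7 K ∧ Cfsg.Geo.IsAdjointClosedFor (Cfsg.hermForm 7 F q) K ∧ H = Cfsg.Geo.subalgebraNormalizer K ⊓ (Cfsg.GU 7 F q ⊓ Cfsg.Geo.specialLinear (Fin 7) F)) ∨
    (∃ (F₀ : Subfield F) (r : ℕ) (P : Matrix.GeneralLinearGroup (Fin 7) F), r.Prime ∧ Odd r ∧ Fintype.card F = Nat.card F₀ ^ r ∧ Cfsg.Geo.IsFormRationalStructure (Cfsg.hermForm 7 F q) F₀ 1 P ∧ H = Cfsg.Geo.subfieldSubgroup F₀ P ⊓ (Cfsg.GU 7 F q ⊓ Cfsg.Geo.specialLinear (Fin 7) F)) ∨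
    (Odd q ∧ ∃ (F₀ : Subfield F) (P : Matrix.GeneralLinearGroup (Fin 7) F), Fintype.card F = Nat.card F₀ ^ 2 ∧ Cfsg.Geo.IsFormRationalStructure (Cfsg.hermForm 7 F q) F₀ 1 P ∧ H = Cfsg.Geo.subfieldSubgroup F₀ P ⊓ (Cfsg.GU 7 F q ⊓ Cfsg.Geo.specialLinear (Fin 7) F)) ∨
    (∃ (p : ℕ) (R : Subgroup (Matrix.GeneralLinearGroup (Fin 7) F)), p.Prime ∧ CharP F p ∧ ((q = p ∧ p % 7 = 6) ∨ (q = p ^ 3 ∧ (p % 7 = 3 ∨ p % 7 = 5))) ∧ Cfsg.Geo.IsSymplecticTypeGroup 7 R ∧ Cfsg.Geo.ActsAbsolutelyIrreducibly (Cfsg.Geo.matrixSet R) ∧ R ≤ Cfsg.Geo.similarityGroup (Cfsg.hermForm 7 F q) ∧ Nat.card R = 343 ∧ Nat.card (Subgroup.center R) = 7 ∧ H = Cfsg.Geo.subgroupNormalizer R ⊓ (Cfsg.GU 7 F q ⊓ Cfsg.Geo.specialLinear (Fin 7) F)) ∨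
    Cfsg.Geo.InUnitaryResidualClass H := by
  rcases unitary_max hF (n := 7) (by norm_num) (by norm_num) hH with
    ⟨W, h0, hts, he⟩ | ⟨W, h0, hnd, hlt, he⟩ | ⟨t, k, D, hD, htk, hk2, he⟩ | ⟨k, D, h2k, hD, hts, he⟩ |
    ⟨r, K, hr, hodd, hdvd, hK, hadj, he⟩ | ⟨n₁, n₂, e, P, f₁, f₂, h1, h2, hnn, hq3, hf1, hf2, hform, he⟩ |
    ⟨F₀, r, P, hr, hodd, hcard, hrat, he⟩ | ⟨F₀, P, hodd, hcard, hrat, he⟩ |
    ⟨F₀, P, ζ, hev, hcard, hζ0, hζ, hrat, halt, he⟩ |
    ⟨r, p, a, k, R, hp, hchar, hq, hR, hirr, hsim, hn, hdata, he⟩ |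
    ⟨k, e, P, f₁, hk, hkn, hex, hf1, hform, he⟩ | hres
  · exact Or.inl (⟨W, h0, hts, he⟩)
  · exact Or.inr (Or.inl (⟨W, h0, hnd, hlt, he⟩))
  · have ht2 := hD.decomp.two_le
    have hk0 := hD.decomp.pos
    have hkn : k ≤ 3 := by nlinarith
    obtain ⟨rfl, rfl⟩ := (show (k = 1 ∧ t = 7) by interval_cases k <;> omega)
    exact Or.inr (Or.inr (Or.inl (⟨D, hD, he⟩)))
  · omega
  · obtain rfl : r = 7 := by
      have := Nat.le_of_dvd (by norm_num) hdvd
      interval_cases r <;> revert hr hdvd hodd <;> decide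
    exact Or.inr (Or.inr (Or.inr (Or.inl (⟨K, hK, hadj, he⟩))))
  · have : n₁ ≤ 2 := by nlinarith
    interval_cases n₁ <;> omega
  · exact Or.inr (Or.inr (Or.inr (Or.inr (Or.inl (⟨F₀, r, P, hr, hodd, hcard, hrat, he⟩)))))
  · exact Or.inr (Or.inr (Or.inr (Or.inr (Or.inr (Or.inl (⟨hodd, F₀, P, hcard, hrat, he⟩))))))
  · exact absurd hev (by decide)
  · obtain rfl : r = 7 := ((Nat.prime_dvd_prime_iff_eq hR.prime (by norm_num)).mp (by
      rw [hn]; exact dvd_pow_self r (fun h => by subst h; norm_num at hn)))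
    obtain rfl : k = 1 := Nat.pow_right_injective (by norm_num) (show 7 ^ k = 7 ^ 1 from hn.symm.trans (by norm_num))
    rcases hdata with ⟨-, hz, -, hRc, hdvd, hmod, hmin⟩ | ⟨h, -⟩
    swap
    · omega
    have ha : q = p ∧ p % 7 = 6 ∨ q = p ^ 3 ∧ (p % 7 = 3 ∨ p % 7 = 5) := by
      have ha3 : a ≤ 3 := by have := Nat.le_of_dvd (by norm_num) hdvd; omega
      have hlt : p % 7 < 7 := Nat.mod_lt _ (by norm_num)
      interval_cases a
      · omega
      · refine Or.inl ⟨by rw [hq, pow_one], ?_⟩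
        have h1 := hmin 1 (by norm_num) (by norm_num)
        rw [Nat.pow_mod] at hmod h1
        interval_cases hp7 : p % 7 <;> revert hmod h1 <;> norm_num
      · omega
      · refine Or.inr ⟨hq, ?_⟩
        have h1 := hmin 1 (by norm_num) (by norm_num)
        have h2 := hmin 2 (by norm_num) (by norm_num)
        have h3 := hmin 3 (by norm_num) (by norm_num)
        rw [Nat.pow_mod] at hmod h1 h2 h3
        interval_cases hp7 : p % 7 <;> revert hmod h1 h2 h3 <;> norm_num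
    exact Or.inr (Or.inr (Or.inr (Or.inr (Or.inr (Or.inr (Or.inl (⟨p, R, hp, hchar, ha, hR, hirr, hsim, by rw [hRc]; norm_num, hz, he⟩)))))))
  · have : k ≤ 2 := by nlinarith
    omega
  · exact Or.inr (Or.inr (Or.inr (Or.inr (Or.inr (Or.inr (Or.inr (hres)))))))

end Cfsg.Agent.S5811
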