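import Cfsg.Statements.S5823
import Cfsg.Agent.Lib.SympQuat.PlusFour

set_option autoImplicit false
open Cfsg

namespace Cfsg.Agent.S5823

open Cfsg.Geo Matrix Cfsg.Agent.Lib.Aschbacher Cfsg.Agent.Lib.MaxClass Cfsg.Agent.Lib.SympQuat

/-- The plus-type case of `2 ⊗ 4`. -/
theorem plus_case {F : Type*} [Field F] [Fintype F] {H : Subgroup (GL (Fin 4 ⊕ Fin 4) F)}
    (hH : IsMaximalIn (spGL 4 F) H) (hodd : Odd (Fintype.card F)) (e : (Fin 4 ⊕ Fin 4) ≃ Fin 2 × Fin 4)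
    (P : GL (Fin 4 ⊕ Fin 4) F) {f₁ : (Fin 2 → F) → (Fin 2 → F) → F} {f₂ : (Fin 4 → F) → (Fin 4 → F) → F}
    (hf₁ : IsSymplecticForm f₁) (hf₂ : IsSymmetricForm f₂)
    (hplus : IsPlusTypeOn (fun v : Fin 4 → F => f₂ v v) ⊤)
    (hstr : IsTensorFormStructure id (sympForm 4 F) f₁ f₂ e P)
    (hle : H = tensorProductSubgroup 2 4 e P ⊓ spGL 4 F) :
    (∃ (p : ℕ) (R : Subgroup (GL (Fin 4 ⊕ Fin 4) F)), p.Prime ∧ Odd p ∧ Fintype.card F = p ∧
      IsSymplecticTypeGroup 2 R ∧ ActsAbsolutelyIrreducibly (matrixSet R) ∧ R ≤ similarityGroup (sympForm 4 F) ∧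
      Nat.card R = 128 ∧ Nat.card (Subgroup.center R) = 2 ∧ IsOfMinusType 3 R ∧
      H = subgroupNormalizer R ⊓ spGL 4 F) ∨
    (Odd (Fintype.card F) ∧ 5 ≤ Fintype.card F ∧ ∃ (e : (Fin 4 ⊕ Fin 4) ≃ (Fin 3 → Fin 2))
      (P : GL (Fin 4 ⊕ Fin 4) F) (f₁ : (Fin 2 → F) → (Fin 2 → F) → F), IsSymplecticForm f₁ ∧
      IsTensorPowerFormStructure id (sympForm 4 F) f₁ e P ∧ H = tensorWreathSubgroup 2 3 e P ⊓ spGL 4 F) := by
  classical
  have h2 : (2 : F) ≠ 0 := two_ne_zero_of_odd hodd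
  obtain ⟨e₃, B, c, hc, hB, hg⟩ := exists_cube h2 e P hf₁ hf₂ hplus hstr
  have hskew : (qJ : Matrix (Fin 2) (Fin 2) F)ᵀ = -qJ := qJ_transpose
  by_cases h5 : 5 ≤ Fintype.card F
  · refine Or.inr ⟨hodd, h5, e₃, B, formM (RingEquiv.refl F) qJ, ⟨isBilinearForm_formM _, fun v w => ?_,
      formM_self_of_skew h2 hskew, nondegenerate_formM (RingEquiv.refl F) isUnit_qJ.unit⟩,
      ⟨c, hc, fun x y => ?_⟩, eq_inf_of_maximal_le hH ?_ (sp_not_le_tensorWreathSubgroup (by norm_num)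
        le_rfl (by norm_num) e₃ B)⟩
    · simp only [formM, RingEquiv.refl_apply]
      rw [dotProduct_mulVec, ← Matrix.mulVec_transpose, hskew, Matrix.neg_mulVec, neg_dotProduct, dotProduct_comm]
    · rw [sympForm_eq, formM_frame, hB, formM_smul]
      congr 1
      rw [gramMatrix_formM]
      simp [formM, pureTensor, dotProduct, Matrix.mulVec, Finset.mul_sum, mul_assoc]
    · intro g hgH
      rw [hle] at hgH
      obtain ⟨π, gs, hgs⟩ := hg g hgH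
      exact mem_wreath_of_monoM e₃ B hgs
  · have hq : Fintype.card F = 3 := by
      have := Fintype.one_lt_card (α := F)
      obtain ⟨j, hj⟩ := hodd
      omega
    have h3 := three_zero hq
    let T : Fin 3 → Fin 4 → Matrix (Fin 2) (Fin 2) F := fun _ => q8
    have hT : ∀ i, IsPauliTable (T i) := fun _ => isPauliTable_q8 h3 h2
    have hneg : ∃ x ∈ pauliGroup e₃ B T hT,
        (x : Matrix (Fin 4 ⊕ Fin 4) (Fin 4 ⊕ Fin 4) F) * (x : Matrix (Fin 4 ⊕ Fin 4) (Fin 4 ⊕ Fin 4) F) = -1 := by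
      obtain ⟨x, hx, hxv⟩ := exists_mem (e := e₃) (B := B) hT ![1, 0, 0]
      refine ⟨x, hx, ?_⟩
      rw [hxv, pauli, ← map_mul, pureTensor_mul]
      have hp : ((fun i => T i (![1, 0, 0] i)) * fun i => T i (![1, 0, 0] i)) =
          fun i => (![-1, 1, 1] i : F) • (1 : Matrix (Fin 2) (Fin 2) F) := by
        funext i
        fin_cases i
        · ext a b
          fin_cases a <;> fin_cases b <;> simp [T, q8, genTable, qJ, Matrix.mul_apply, Fin.sum_univ_two]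
        · simp [T, q8, genTable]
        · simp [T, q8, genTable]
      rw [hp, pureTensor_smul_family, show (fun _ : Fin 3 => (1 : Matrix (Fin 2) (Fin 2) F)) = 1 from rfl,
        pureTensor_one, map_smul, map_one, Fin.prod_univ_three]
      simp
    have hsk : (pureTensor fun _ : Fin 3 => ((isUnit_qJ (F := F)).unit : Matrix (Fin 2) (Fin 2) F))ᵀ =
        -pureTensor fun _ : Fin 3 => ((isUnit_qJ (F := F)).unit : Matrix (Fin 2) (Fin 2) F) := by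
      rw [pureTensor_transpose, IsUnit.unit_spec, hskew,
        show (fun _ : Fin 3 => -(qJ : Matrix (Fin 2) (Fin 2) F)) = fun _ => (-1 : F) • qJ by simp,
        pureTensor_smul_family, Fin.prod_univ_three]
      simp
    obtain ⟨p, R, hp, hpo, hcard, hR, hirr, hsim, hRc, hz, hminus, he⟩ :=
      normalizer_case hq (by norm_num) hH e₃ B hT hneg hB
        (fun i a => ⟨1, Or.inl rfl, by rw [one_smul]; exact q8_isometry h3 a⟩)
        (Gs' := fun _ => isUnit_qJ.unit) hsk (fun i a => q8_isometry h3 a)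
        (fun g hgH => by
          rw [hle] at hgH
          obtain ⟨π, gs, hgs⟩ := hg g hgH
          exact mem_normalizer_pauli hT h2 hgs fun i a =>
            gl_normalises hq ((Matrix.isUnit_iff_isUnit_det _).mp (gs i).isUnit).ne_zero a)
    exact Or.inl ⟨p, R, hp, hpo, hcard, hR, hirr, hsim, by rw [hRc]; norm_num, hz, hminus, he⟩

/-- Every maximal subgroup of Sp_8(q) is of one of the listed geometric types or lies in the residual class. Let F be a finite field with q elements, f the standard alternating form on F^8 (coordinates Fin 4 ⊕ Fin 4), and H a maximal subgroup of Sp_8(F) (inside GL_8(F)). Then H is the intersection with Sp_8(F) of one of: the stabiliser of a non-zero totally isotropic subspace; the stabiliser of a non-degenerate 2-space; for q ≥ 3, the stabiliser of a decomposition into four mutually orthogonal non-degenerate 2-spaces; of a decomposition into two orthogonal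 non-degenerate 4-spaces; for q odd, of a decomposition into two totally isotropic 4-spaces; the normaliser of a degree-2 subfield K, self-adjoint with f(k v, v) = 0; for q odd, the normaliser of a degree-2 subfield closed under adjoints but not self-adjoint; for q odd, the stabiliser of a tensor decomposition of f into an alternating form on F^2 and a minus-type symmetric form on F^4; a subfield group (|F| = |F₀|^r, r prime) whose F₀-structure carries a non-zero multiple of f; for q = p an odd prime, the normaliser of an absolutely irreducible extraspecial group 2_-^(1+6) of exponent 4 inside the similarity group of f; for q odd, q ≥ 5, the stabiliser of a tensor decomposition of f as a third tensor power of an alternating form on F^2; for q even, the similarity group of a non-degenerate quadratic form polarising to f — or else H lies in the residual class of the symplectic case. -/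
theorem result {F : Type*} [Field F] [Fintype F] (H : Subgroup (Matrix.GeneralLinearGroup (Fin 4 ⊕ Fin 4) F)) (hH : Cfsg.Geo.IsMaximalIn (Cfsg.spGL 4 F) H) :
    (∃ W : Submodule F (Fin 4 ⊕ Fin 4 → F), W ≠ ⊥ ∧ Cfsg.Geo.IsTotallySingularFor (Cfsg.sympForm 4 F) W ∧ H = Cfsg.Geo.subspaceStabilizer W ⊓ Cfsg.spGL 4 F) ∨
    (∃ W : Submodule F (Fin 4 ⊕ Fin 4 → F), W ≠ ⊥ ∧ Cfsg.Geo.IsNondegenerateOn (Cfsg.sympForm 4 F) W ∧ Module.finrank F W < 4 ∧ H = Cfsg.Geo.subspaceStabilizer W ⊓ Cfsg.spGL 4 F) ∨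
    (3 ≤ Fintype.card F ∧ ∃ D : Fin 4 → Submodule F (Fin 4 ⊕ Fin 4 → F), Cfsg.Geo.IsNondegenerateMDecomposition (Cfsg.sympForm 4 F) 2 D ∧ H = Cfsg.Geo.decompositionStabilizer D ⊓ Cfsg.spGL 4 F) ∨
    (∃ D : Fin 2 → Submodule F (Fin 4 ⊕ Fin 4 → F), Cfsg.Geo.IsNondegenerateMDecomposition (Cfsg.sympForm 4 F) 4 D ∧ H = Cfsg.Geo.decompositionStabilizer D ⊓ Cfsg.spGL 4 F) ∨
    (Odd (Fintype.card F) ∧ ∃ D : Fin 2 → Submodule F (Fin 4 ⊕ Fin 4 → F), Cfsg.Geo.IsMDecomposition 4 D ∧ (∀ i, Cfsg.Geo.IsTotallySingularFor (Cfsg.sympForm 4 F) (D i)) ∧ H = Cfsg.Geo.decompositionStabilizer D ⊓ Cfsg.spGL 4 F) ∨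
    (∃ K : Subalgebra F (Matrix (Fin 4 ⊕ Fin 4) (Fin 4 ⊕ Fin 4) F), Cfsg.Geo.IsFieldSubalgebra 2 K ∧ Cfsg.Geo.IsSelfAdjointFor (Cfsg.sympForm 4 F) K ∧ (∀ k ∈ K, ∀ v : (Fin 4 ⊕ Fin 4 → F), (Cfsg.sympForm 4 F) (Matrix.mulVec k v) v = 0) ∧ H = Cfsg.Geo.subalgebraNormalizer K ⊓ Cfsg.spGL 4 F) ∨
    (Odd (Fintype.card F) ∧ ∃ K : Subalgebra F (Matrix (Fin 4 ⊕ Fin 4) (Fin 4 ⊕ Fin 4) F), Cfsg.Geo.IsFieldSubalgebra 2 K ∧ Cfsg.Geo.IsAdjointClosedFor (Cfsg.sympForm 4 F) K ∧ ¬ Cfsg.Geo.IsSelfAdjointFor (Cfsg.sympForm 4 F) K ∧ H = Cfsg.Geo.subalgebraNormalizer K ⊓ Cfsg.spGL 4 F) ∨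
    (Odd (Fintype.card F) ∧ ∃ (e : (Fin 4 ⊕ Fin 4) ≃ Fin 2 × Fin 4) (P : Matrix.GeneralLinearGroup (Fin 4 ⊕ Fin 4) F) (f₁ : (Fin 2 → F) → (Fin 2 → F) → F) (f₂ : (Fin 4 → F) → (Fin 4 → F) → F), Cfsg.Geo.IsSymplecticForm f₁ ∧ Cfsg.Geo.IsSymmetricForm f₂ ∧ ¬ Cfsg.Geo.IsPlusTypeOn (fun v : Fin 4 → F => f₂ v v) ⊤ ∧ Cfsg.Geo.IsTensorFormStructure id (Cfsg.sympForm 4 F) f₁ f₂ e P ∧ H = Cfsg.Geo.tensorProductSubgroup 2 4 e P ⊓ Cfsg.spGL 4 F) ∨
    (∃ (F₀ : Subfield F) (r : ℕ) (P : Matrix.GeneralLinearGroup (Fin 4 ⊕ Fin 4) F) (ζ : F), r.Prime ∧ Fintype.card F = Nat.card F₀ ^ r ∧ ζ ≠ 0 ∧ Cfsg.Geo.IsFormRationalStructure (Cfsg.sympForm 4 F) F₀ ζ P ∧ H = Cfsg.Geo.subfieldSubgroup F₀ P ⊓ Cfsg.spGL 4 F) ∨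
    (∃ (p : ℕ) (R : Subgroup (Matrix.GeneralLinearGroup (Fin 4 ⊕ Fin 4) F)), p.Prime ∧ Odd p ∧ Fintype.card F = p ∧ Cfsg.Geo.IsSymplecticTypeGroup 2 R ∧ Cfsg.Geo.ActsAbsolutelyIrreducibly (Cfsg.Geo.matrixSet R) ∧ R ≤ Cfsg.Geo.similarityGroup (Cfsg.sympForm 4 F) ∧ Nat.card R = 128 ∧ Nat.card (Subgroup.center R) = 2 ∧ Cfsg.Geo.IsOfMinusType 3 R ∧ H = Cfsg.Geo.subgroupNormalizer R ⊓ Cfsg.spGL 4 F) ∨
    (Odd (Fintype.card F) ∧ 5 ≤ Fintype.card F ∧ ∃ (e : (Fin 4 ⊕ Fin 4) ≃ (Fin 3 → Fin 2)) (P : Matrix.GeneralLinearGroup (Fin 4 ⊕ Fin 4) F) (f₁ : (Fin 2 → F) → (Fin 2 → F) → F), Cfsg.Geo.IsSymplecticForm f₁ ∧ Cfsg.Geo.IsTensorPowerFormStructure id (Cfsg.sympForm 4 F) f₁ e P ∧ H = Cfsg.Geo.tensorWreathSubgroup 2 3 e P ⊓ Cfsg.spGL 4 F) ∨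
    (¬ Odd (Fintype.card F) ∧ ∃ Q : (Fin 4 ⊕ Fin 4 → F) → F, Cfsg.Geo.IsNondegenerateQuadraticForm Q ∧ (∀ u v : (Fin 4 ⊕ Fin 4 → F), QuadraticMap.polar Q u v = (Cfsg.sympForm 4 F) u v) ∧ H = Cfsg.Geo.quadSimilarityGroup Q ⊓ Cfsg.spGL 4 F) ∨
    Cfsg.Geo.InSymplecticResidualClass H := by
  classical
  rcases symplectic_max (m := 4) (by norm_num) hH with ⟨W, h0, hts, he⟩ |
    ⟨W, h0, hnd, hlt, hev, he⟩ | ⟨t, k, D, hD, ht, hkev, htk, hq, he⟩ | ⟨D, ho, hD, hts, he⟩ |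
    ⟨r, K, hr, hdvd, hK, hsa, halt, he⟩ | ⟨K, ho, hK, hac, hsa, he⟩ |
    ⟨n₁, n₂, e, P, f₁, f₂, ho, h3, h2, he1, hnn, hq, hf₁, hf₂, hstr, he⟩ | hsf |
    ⟨p, R, k, hp, ho, hcard, hR, hirr, hsim, hRc, hdeg, hz, hminus, he⟩ |
    ⟨k, t, e, P, f₁, ho, hto, ht, hk, hke, hkt, hex, hf₁, hstr, he⟩ | ⟨Q, ho, hQ, hpol, he⟩ | hres
  · exact Or.inl ⟨W, h0, hts, he⟩
  · exact Or.inr (Or.inl ⟨W, h0, hnd, hlt, he⟩)
  · obtain ⟨j, hj⟩ := hkev
    have hk0 := hD.decomp.pos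
    have hk4 : k ≤ 4 := by nlinarith
    rcases (show (k = 2 ∧ t = 4) ∨ (k = 4 ∧ t = 2) by interval_cases k <;> omega) with ⟨rfl, rfl⟩ | ⟨rfl, rfl⟩
    · exact Or.inr (Or.inr (Or.inl ⟨hq rfl, D, hD, he⟩))
    · exact Or.inr (Or.inr (Or.inr (Or.inl ⟨D, hD, he⟩)))
  · exact Or.inr (Or.inr (Or.inr (Or.inr (Or.inl ⟨ho, D, hD, hts, he⟩))))
  · obtain rfl : r = 2 := (Nat.prime_dvd_prime_iff_eq hr Nat.prime_two).mp
      (hr.dvd_of_dvd_pow (show r ∣ 2 ^ 2 by norm_num; exact hdvd))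
    exact Or.inr (Or.inr (Or.inr (Or.inr (Or.inr (Or.inl ⟨K, hK, hsa, halt, he⟩)))))
  · exact Or.inr (Or.inr (Or.inr (Or.inr (Or.inr (Or.inr (Or.inl ⟨ho, K, hK, hac, hsa, he⟩))))))
  · obtain ⟨j, hj⟩ := he1
    have h14 : n₁ ≤ 2 := by nlinarith
    obtain rfl : n₁ = 2 := by omega
    obtain rfl : n₂ = 4 := by omega
    by_cases hplus : IsPlusTypeOn (fun v : Fin 4 → F => f₂ v v) ⊤
    · rcases plus_case hH ho e P hf₁ hf₂ hplus hstr he with h | h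
      · exact Or.inr (Or.inr (Or.inr (Or.inr (Or.inr (Or.inr (Or.inr (Or.inr (Or.inr (Or.inl h)))))))))
      · exact Or.inr (Or.inr (Or.inr (Or.inr (Or.inr (Or.inr (Or.inr (Or.inr (Or.inr (Or.inr (Or.inl h))))))))))
    · exact Or.inr (Or.inr (Or.inr (Or.inr (Or.inr (Or.inr (Or.inr (Or.inl
        ⟨ho, e, P, f₁, f₂, hf₁, hf₂, hplus, hstr, he⟩)))))))
  · exact Or.inr (Or.inr (Or.inr (Or.inr (Or.inr (Or.inr (Or.inr (Or.inr (Or.inl hsf))))))))
  · have hk8 : k < 8 := lt_of_lt_of_le (Nat.lt_pow_self (by norm_num : 1 < 2)) hdeg.symm.le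
    obtain rfl : k = 3 := by interval_cases k <;> first | rfl | norm_num at hdeg
    exact Or.inr (Or.inr (Or.inr (Or.inr (Or.inr (Or.inr (Or.inr (Or.inr (Or.inr (Or.inl
      ⟨p, R, hp, ho, hcard, hR, hirr, hsim, by rw [hRc]; norm_num, hz, hminus, he⟩)))))))))
  · obtain rfl : k = 2 := by
      by_contra hne
      have h1 := Nat.pow_le_pow_right (by omega : 0 < k) ht
      have h4 := Nat.pow_le_pow_left (show 3 ≤ k by omega) 3
      omega
    have ht8 : t < 8 := lt_of_lt_of_le (Nat.lt_pow_self (by norm_num : 1 < 2)) hkt.le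
    obtain rfl : t = 3 := by interval_cases t <;> first | rfl | norm_num at hkt
    have h5 : 5 ≤ Fintype.card F := by
      have := Fintype.one_lt_card (α := F)
      obtain ⟨j, hj⟩ := ho
      omega
    exact Or.inr (Or.inr (Or.inr (Or.inr (Or.inr (Or.inr (Or.inr (Or.inr (Or.inr (Or.inr (Or.inl
      ⟨ho, h5, e, P, f₁, hf₁, hstr, he⟩))))))))))
  · exact Or.inr (Or.inr (Or.inr (Or.inr (Or.inr (Or.inr (Or.inr (Or.inr (Or.inr (Or.inr (Or.inr (Or.inl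
      ⟨ho, Q, hQ, hpol, he⟩)))))))))))
  · exact Or.inr (Or.inr (Or.inr (Or.inr (Or.inr (Or.inr (Or.inr (Or.inr (Or.inr (Or.inr (Or.inr (Or.inr
      hres)))))))))))

end Cfsg.Agent.S5823
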