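import Cfsg.Statements.S5825
import Cfsg.Agent.Lib.OrthEight.NonDeg
import Cfsg.Agent.Lib.OrthEight.Subfield
import Cfsg.Agent.Lib.OrthEight.Point
import Cfsg.Agent.Lib.SingMax.NonDegSix
import Cfsg.Agent.Lib.OrthExt.Three
import Cfsg.Agent.Lib.OrthMax.EvenDim
import Cfsg.Agent.Lib.OrthMax.Five.Main

set_option autoImplicit false
open Cfsg

namespace Cfsg.Agent.S5825

open Cfsg.Agent.Lib Cfsg.Agent.Lib.SingMax Cfsg.Agent.Lib.MaxClass
open Cfsg.Geo (IsNondegenerateOn IsPlusTypeOn IsTotallySingularQuad)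

section

variable {F : Type*} [Field F] [Fintype F] {Q : QuadraticForm F (Fin 8 → F)}
  (hQ : (QuadraticMap.polarBilin Q).Nondegenerate)
include hQ

theorem lt_four (hminus : ¬ IsPlusTypeOn (⇑Q) ⊤) (U : Submodule F (Fin 8 → F)) (hU : ∀ x ∈ U, Q x = 0) :
    Module.finrank F U < 4 := by
  by_contra h
  have good := Forms.IsGoodForm.of_quadratic hQ
  have hle : U ≤ Forms.perp (QuadraticMap.polarBilin Q) U := fun v hv x hx => by
    simp [QuadraticMap.polar, hU v hv, hU x hx, hU _ (U.add_mem hx hv)]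
  have h1 := Submodule.finrank_mono hle
  have h2 := good.finrank_add_finrank_perp U
  rw [Module.finrank_fin_fun] at h2
  exact hminus ⟨U, le_top, hU, by rw [finrank_top, Module.finrank_fin_fun]; omega⟩

theorem exists_plane {W : Submodule F (Fin 8 → F)} (hW : IsNondegenerateOn (QuadraticMap.polar ⇑Q) W)
    (h5 : 5 ≤ Module.finrank F W) :
    ∃ S ≤ W, IsTotallySingularQuad (⇑Q) S ∧ 2 ≤ Module.finrank F S := by
  obtain ⟨e, he, he0, heQ⟩ := exists_singular_sub (Q := Q) (K := W) (by omega)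
  obtain ⟨f, hf, -, hef⟩ := exists_partner_in hQ hW he he0 heQ
  obtain ⟨s, hs, hs0, hsQ, hc⟩ := exists_singular_in (Q := Q) (W := W) ![e, f] (by omega)
  have h1 : QuadraticMap.polar (⇑Q) e s = 0 := hc 0
  have h2 : QuadraticMap.polar (⇑Q) f s = 0 := hc 1
  have hli : LinearIndependent F ![e, s] := (LinearIndependent.pair_iff' he0).mpr fun c h => by
    rw [← h, QuadraticMap.polar_smul_right, QuadraticMap.polar_comm _ f e, hef, smul_eq_mul, mul_one] at h2
    exact hs0 (by rw [← h, h2, zero_smul])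
  refine ⟨Submodule.span F (Set.range ![e, s]), Submodule.span_le.2 ?_, fun x hx => ?_, ?_⟩
  · rintro _ ⟨i, rfl⟩
    fin_cases i <;> assumption
  · obtain ⟨k, rfl⟩ := (Submodule.mem_span_range_iff_exists_fun F).mp hx
    simp [Fin.sum_univ_two, QuadraticMap.map_add (⇑Q), QuadraticMap.map_smul, QuadraticMap.polar_smul_left,
      QuadraticMap.polar_smul_right, heQ, hsQ, h1]
  · rw [finrank_span_eq_card hli, Fintype.card_fin]

theorem plus_half {W : Submodule F (Fin 8 → F)} (hd : Module.finrank F W = 4) (hW : ¬ IsPlusTypeOn (⇑Q) W)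
    (S : Submodule F (Fin 8 → F)) (hS : S ≤ W) (hSts : IsTotallySingularQuad (⇑Q) S) :
    Module.finrank F S ≤ 1 := by
  by_contra h
  obtain ⟨x, hx, hx0⟩ := S.ne_bot_iff.mp fun e => by rw [e, finrank_bot] at h; omega
  obtain ⟨y, hy, hyx⟩ := SetLike.not_le_iff_exists.1 (fun e : S ≤ F ∙ x => by
    have := Submodule.finrank_mono e
    rw [finrank_span_singleton hx0] at this
    omega)
  have hli : LinearIndependent F ![x, y] := (LinearIndependent.pair_iff' hx0).mpr fun c hc =>
    hyx (Submodule.mem_span_singleton.mpr ⟨c, hc⟩)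
  have hle : Submodule.span F (Set.range ![x, y]) ≤ S := Submodule.span_le.2 (by
    rintro _ ⟨i, rfl⟩
    fin_cases i <;> assumption)
  exact hW ⟨_, hle.trans hS, fun z hz => hSts z (hle hz), by rw [finrank_span_eq_card hli, Fintype.card_fin, hd]⟩

theorem five {W : Submodule F (Fin 8 → F)} (hW : IsNondegenerateOn (QuadraticMap.polar ⇑Q) W)
    (h5 : Module.finrank F W = 5) :
    Cfsg.Geo.IsMaximalIn (Cfsg.Geo.omegaGL ⇑Q) (Cfsg.Geo.subspaceStabilizer W ⊓ Cfsg.Geo.omegaGL ⇑Q) := by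
  have hdU := finrank_polarPerp hQ W
  rw [Fintype.card_fin, h5] at hdU
  refine OrthEight.WittTwo.isMaximalIn_nondeg hQ (by simp) hW (by omega) (exists_plane hQ hW (by omega))
    (fun h => ?_) (by rw [Fintype.card_fin]; omega) (fun h => by omega)
    (fun h => absurd h (by rw [Fintype.card_fin]; omega)) (fun h => by omega)
  rw [h, finrank_top, Module.finrank_fin_fun] at h5
  omega

theorem odd_dim {W : Submodule F (Fin 8 → F)} (hW0 : W ≠ ⊥) (hW1 : W ≠ ⊤) (hodd : Odd (Module.finrank F W))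
    (hW : IsNondegenerateOn (QuadraticMap.polar ⇑Q) W) :
    Cfsg.Geo.IsMaximalIn (Cfsg.Geo.omegaGL ⇑Q) (Cfsg.Geo.subspaceStabilizer W ⊓ Cfsg.Geo.omegaGL ⇑Q) := by
  have hdU := finrank_polarPerp hQ W
  have hdW := Submodule.finrank_le W
  rw [Module.finrank_fin_fun] at hdW
  rw [Fintype.card_fin] at hdU
  have ho := Nat.odd_iff.mp hodd
  by_cases h5 : Module.finrank F W = 5
  · exact five hQ hW h5
  by_cases h3 : Module.finrank F W = 3
  · rw [stab_eq_perp hQ hW]
    exact five hQ (nondegenerateOn_polarPerp hQ hW) (by omega)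
  exact isMaximalIn_nondegenerate_six hQ (by simp) hW (by rw [Fintype.card_fin]; omega) hW0 hW1
    (fun h => absurd h (by rw [Fintype.card_fin]; omega)) (fun h => by omega) (fun h => by omega)

theorem two_dim {W : Submodule F (Fin 8 → F)} (hd : Module.finrank F W = 2)
    (hW : IsNondegenerateOn (QuadraticMap.polar ⇑Q) W) (hex : IsPlusTypeOn (⇑Q) W → 4 ≤ Fintype.card F) :
    Cfsg.Geo.IsMaximalIn (Cfsg.Geo.omegaGL ⇑Q) (Cfsg.Geo.subspaceStabilizer W ⊓ Cfsg.Geo.omegaGL ⇑Q) := by
  have hdU := finrank_polarPerp hQ W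
  rw [Fintype.card_fin, hd] at hdU
  refine isMaximalIn_nondegenerate_six hQ (by simp) hW (by rw [Fintype.card_fin]; omega) (fun h => ?_)
    (fun h => ?_) (fun h => absurd h (by rw [Fintype.card_fin]; omega))
    (fun ⟨hq, _, hp⟩ => by have := hex hp; omega) (fun h => by omega)
  · rw [h, finrank_bot] at hd
    omega
  · rw [h, finrank_top, Module.finrank_fin_fun] at hd
    omega

theorem four_plus {W : Submodule F (Fin 8 → F)} (hd : Module.finrank F W = 4)
    (hW : IsNondegenerateOn (QuadraticMap.polar ⇑Q) W) (hp : IsPlusTypeOn (⇑Q) W)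
    (hU : ¬ IsPlusTypeOn (⇑Q) (polarPerp Q W)) :
    Cfsg.Geo.IsMaximalIn (Cfsg.Geo.omegaGL ⇑Q) (Cfsg.Geo.subspaceStabilizer W ⊓ Cfsg.Geo.omegaGL ⇑Q) := by
  have hdU := finrank_polarPerp hQ W
  rw [Fintype.card_fin, hd] at hdU
  obtain ⟨S, hSW, hSts, hSd⟩ := hp
  refine OrthEight.WittTwo.isMaximalIn_nondeg hQ (by simp) hW (by omega) ⟨S, hSW, hSts, by omega⟩
    (fun h => ?_) (by rw [Fintype.card_fin]; omega) (fun _ => by simp)
    (fun _ => plus_half hQ (by omega) hU) (fun h => by omega)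
  rw [h, finrank_top, Module.finrank_fin_fun] at hd
  omega

theorem four_dim (hminus : ¬ IsPlusTypeOn (⇑Q) ⊤) {W : Submodule F (Fin 8 → F)} (hd : Module.finrank F W = 4)
    (hW : IsNondegenerateOn (QuadraticMap.polar ⇑Q) W) :
    Cfsg.Geo.IsMaximalIn (Cfsg.Geo.omegaGL ⇑Q) (Cfsg.Geo.subspaceStabilizer W ⊓ Cfsg.Geo.omegaGL ⇑Q) := by
  have hdU := finrank_polarPerp hQ W
  rw [Fintype.card_fin, hd] at hdU
  have hU := nondegenerateOn_polarPerp hQ hW
  have hiff := OrthEven.isPlusTypeOn_sup_iff (a := 2) (b := 2) hW hU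
    (fun x hx y hy => mem_polarPerp.1 hy x hx) (by omega) (by omega) (by omega) (by omega)
  rw [(isCompl_polarPerp hQ hW).sup_eq_top] at hiff
  by_cases hp : IsPlusTypeOn (⇑Q) W
  · exact four_plus hQ hd hW hp fun hpU => hminus (hiff.mpr ⟨fun _ => hpU, fun _ => hp⟩)
  · rw [stab_eq_perp hQ hW]
    have hpU : IsPlusTypeOn (⇑Q) (polarPerp Q W) := by
      by_contra h
      exact hminus (hiff.mpr ⟨fun h' => absurd h' hp, fun h' => absurd h' h⟩)
    exact four_plus hQ (by omega) hU hpU (by rwa [polarPerp_polarPerp hQ W])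

end

/-- Maximal subgroups of Ω_8^-(q) of geometric type (any q). Let F be a finite field with q elements, Q a non-degenerate quadratic form on F^8 (non-degenerate polar form) of minus type (Witt index 3: no totally singular 4-space), and Ω = Ω_8^-(q) the commutator subgroup of the isometry group of Q, inside GL_8(F). Each of the following, intersected with Ω, is a maximal subgroup of Ω: (1) the stabiliser of any non-zero subspace on which Q vanishes identically (totally singular 1-, 2- and 3-spaces); (2) for q odd, the stabiliser of any proper subspace of odd dimension (1, 3, 5 or 7) on which the polar form of Q is non-degenerate; (3) the stabiliser of any non-degenerate 2-space of minus type (containing no non-zero singular vector); (4) for q ≥ 4, the stabiliser of any non-degenerate 2-space of plus type (containing a non-zero singular vector); (5) the stabiliser of any non-degenerate 4-space (its orthogonal complement is then a non-degenerate 4-space of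 the opposite type); (6) for q even, the stabiliser of the 1-space spanned by any non-singular vector v (Q(v) ≠ 0); (7) for q odd, the normaliser of any degree-2 subfield K of the matrix algebra whose elements are self-adjoint for the polar form of Q (Q is then the trace of a quadratic form over K); (8) every subfield group for a subfield F₀ of odd prime index r in F whose F₀-structure carries a non-zero scalar multiple of Q. -/
theorem result {F : Type*} [Field F] [Fintype F] (Q : (Fin 8 → F) → F) (hQ : Cfsg.Geo.IsNondegenerateQuadraticForm Q) (hminus : ¬ Cfsg.Geo.IsPlusTypeOn Q ⊤) :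
    (∀ W : Submodule F (Fin 8 → F), W ≠ ⊥ → Cfsg.Geo.IsTotallySingularQuad Q W → Cfsg.Geo.IsMaximalIn (Cfsg.Geo.omegaGL Q) (Cfsg.Geo.subspaceStabilizer W ⊓ Cfsg.Geo.omegaGL Q)) ∧
    (Odd (Fintype.card F) → ∀ W : Submodule F (Fin 8 → F), W ≠ ⊥ → W ≠ ⊤ → Odd (Module.finrank F W) → Cfsg.Geo.IsNondegenerateOn (QuadraticMap.polar Q) W → Cfsg.Geo.IsMaximalIn (Cfsg.Geo.omegaGL Q) (Cfsg.Geo.subspaceStabilizer W ⊓ Cfsg.Geo.omegaGL Q)) ∧
    (∀ W : Submodule F (Fin 8 → F), Module.finrank F W = 2 → Cfsg.Geo.IsNondegenerateOn (QuadraticMap.polar Q) W → ¬ Cfsg.Geo.IsPlusTypeOn Q W → Cfsg.Geo.IsMaximalIn (Cfsg.Geo.omegaGL Q) (Cfsg.Geo.subspaceStabilizer W ⊓ Cfsg.Geo.omegaGL Q)) ∧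
    (4 ≤ Fintype.card F → ∀ W : Submodule F (Fin 8 → F), Module.finrank F W = 2 → Cfsg.Geo.IsNondegenerateOn (QuadraticMap.polar Q) W → Cfsg.Geo.IsPlusTypeOn Q W → Cfsg.Geo.IsMaximalIn (Cfsg.Geo.omegaGL Q) (Cfsg.Geo.subspaceStabilizer W ⊓ Cfsg.Geo.omegaGL Q)) ∧
    (∀ W : Submodule F (Fin 8 → F), Module.finrank F W = 4 → Cfsg.Geo.IsNondegenerateOn (QuadraticMap.polar Q) W → Cfsg.Geo.IsMaximalIn (Cfsg.Geo.omegaGL Q) (Cfsg.Geo.subspaceStabilizer W ⊓ Cfsg.Geo.omegaGL Q)) ∧
    (¬ Odd (Fintype.card F) → ∀ v : (Fin 8 → F), Q v ≠ 0 → Cfsg.Geo.IsMaximalIn (Cfsg.Geo.omegaGL Q) (Cfsg.Geo.subspaceStabilizer (Submodule.span F {v}) ⊓ Cfsg.Geo.omegaGL Q)) ∧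
    (Odd (Fintype.card F) → ∀ K : Subalgebra F (Matrix (Fin 8) (Fin 8) F), Cfsg.Geo.IsFieldSubalgebra 2 K → Cfsg.Geo.IsSelfAdjointFor (QuadraticMap.polar Q) K → Cfsg.Geo.IsMaximalIn (Cfsg.Geo.omegaGL Q) (Cfsg.Geo.subalgebraNormalizer K ⊓ Cfsg.Geo.omegaGL Q)) ∧
    (∀ (F₀ : Subfield F) (r : ℕ) (P : Matrix.GeneralLinearGroup (Fin 8) F) (ζ : F), r.Prime → Odd r → Fintype.card F = Nat.card F₀ ^ r → ζ ≠ 0 → Cfsg.Geo.IsQuadFormRationalStructure (fun v : Fin 8 → F => ζ * Q v) F₀ P → Cfsg.Geo.IsMaximalIn (Cfsg.Geo.omegaGL Q) (Cfsg.Geo.subfieldSubgroup F₀ P ⊓ Cfsg.Geo.omegaGL Q)) := by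
  classical
  have hQ' := Forms.nondegenerate_bundleQuad Q hQ
  have hc := Forms.coe_bundleQuad Q hQ
  obtain ⟨B, hB⟩ : ∃ B : QuadraticForm F (Fin 8 → F), ⇑B = Q := ⟨_, hc⟩
  have hB' : (QuadraticMap.polarBilin B).Nondegenerate := by
    rwa [show B = Forms.bundleQuad Q hQ from DFunLike.coe_injective (hB.trans hc.symm)]
  subst hB
  refine ⟨fun W hW0 hW => ?_, fun _ W hW0 hW1 ho hW => odd_dim hB' hW0 hW1 ho hW,
    fun W hd hW hm => two_dim hB' hd hW fun hp => absurd hp hm,
    fun hq W hd hW _ => two_dim hB' hd hW fun _ => hq,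
    fun W hd hW => four_dim hB' hminus hd hW, fun hev v hv => ?_, fun hodd K hK hsa => ?_,
    fun F₀ r P ζ hr _ hcard hζ hP => ?_⟩
  · exact SingMax.isMaximalIn_singular hB' (by simp) W hW0 hW fun _ U hU hd => by
      have := lt_four hB' hminus U hU
      rw [Fintype.card_fin] at hd
      omega
  · haveI : CharP F 2 := by
      refine ringChar.of_eq ?_
      by_contra h
      exact hev (Nat.odd_iff.mpr (FiniteField.odd_card_of_char_ne_two h))
    exact OrthEight.Point.isMaximalIn_point hB' (by simp) (lt_four hB' hminus) hv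
  · refine OrthExt.isMaximalIn_extField_of (Q := B)
      ⟨OrthMax.two_ne_zero_of_odd hodd, fun z hz => hB'.1 z hz⟩ 2 Nat.prime_two (by simp)
      (fun _ => ⟨by simp, fun _ => lt_four hB' hminus⟩) K hK hsa ?_
    intro E _ _ _ _ _ D M hE hO a ha b hb
    refine OrthExt.commutator_mem_four hO ?_ ha hb
    have h := Module.finrank_mul_finrank F E (Fin 8 → F)
    rw [hE, Module.finrank_fin_fun] at h
    omega
  · rw [← OrthSubfield.omegaGL_smul _ hζ]
    set C := ζ • B with hC
    have hC' : (fun v => ζ * B v) = ⇑C := rfl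
    rw [hC'] at hP ⊢
    refine OrthSubfield.isMaximalIn_subfield_eight (fun z hz => ?_) (by simp) F₀ r hr
      (by rwa [Nat.card_eq_fintype_card]) P fun u => hP _ fun i => (u i).2
    refine hB'.1 z fun w => ?_
    have h := hz w
    simp only [hC, QuadraticMap.polar, smul_eq_mul, _root_.smul_apply, ← mul_sub] at h
    exact (mul_eq_zero.mp h).resolve_left hζ

end Cfsg.Agent.S5825
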