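import Cfsg.Statements.S5826
import Cfsg.Agent.Lib.MaxClass.OrthEven.Common
import Cfsg.Agent.Lib.MaxClass.OrthEven.Plus
import Cfsg.Agent.Lib.Forms.CharTwoPoints


set_option autoImplicit false
set_option linter.style.haveILetI false
open Cfsg

namespace Cfsg.Agent.S5826

open Cfsg.Geo Matrix QuadraticMap Cfsg.Agent.Lib Cfsg.Agent.Lib.MaxClass Cfsg.Agent.Lib.MaxClass.OrthEven


/-- Every maximal subgroup of Ω_8^-(q) is of one of the listed geometric types or lies in the residual class. Let F be a finite field with q elements, Q a non-degenerate quadratic form on F^8 of minus type (no totally singular 4-space), Ω the commutator subgroup of its isometry group, and H a maximal subgroup of Ω (inside GL_8(F)). Then H is the intersection with Ω of one of: the stabiliser of a non-zero totally singular subspace; for q odd, the stabiliser of a non-degenerate subspace of odd dimension; the stabiliser of a non-degenerate 2-space of minus type; for q ≥ 4, the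 stabiliser of a non-degenerate 2-space of plus type; the stabiliser of a non-degenerate 4-space; for q even, the stabiliser of the span of a non-singular vector; the normaliser of a degree-2 subfield of the matrix algebra; a subfield group of odd prime index whose F₀-structure carries a non-zero multiple of Q — or else H lies in the residual class of the orthogonal case (modulo scalars H is almost simple, with absolutely irreducible perfect socle preimage realisable over no proper subfield and fixing no non-degenerate unitary form). -/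
theorem result {F : Type*} [Field F] [Fintype F] (Q : (Fin 8 → F) → F) (hQ : Cfsg.Geo.IsNondegenerateQuadraticForm Q) (hminus : ¬ Cfsg.Geo.IsPlusTypeOn Q ⊤) (H : Subgroup (Matrix.GeneralLinearGroup (Fin 8) F)) (hH : Cfsg.Geo.IsMaximalIn (Cfsg.Geo.omegaGL Q) H) :
    (∃ W : Submodule F (Fin 8 → F), W ≠ ⊥ ∧ Cfsg.Geo.IsTotallySingularQuad Q W ∧ H = Cfsg.Geo.subspaceStabilizer W ⊓ Cfsg.Geo.omegaGL Q) ∨
    (Odd (Fintype.card F) ∧ ∃ W : Submodule F (Fin 8 → F), W ≠ ⊥ ∧ W ≠ ⊤ ∧ Odd (Module.finrank F W) ∧ Cfsg.Geo.IsNondegenerateOn (QuadraticMap.polar Q) W ∧ H = Cfsg.Geo.subspaceStabilizer W ⊓ Cfsg.Geo.omegaGL Q) ∨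
    (∃ W : Submodule F (Fin 8 → F), Module.finrank F W = 2 ∧ Cfsg.Geo.IsNondegenerateOn (QuadraticMap.polar Q) W ∧ ¬ Cfsg.Geo.IsPlusTypeOn Q W ∧ H = Cfsg.Geo.subspaceStabilizer W ⊓ Cfsg.Geo.omegaGL Q) ∨
    (4 ≤ Fintype.card F ∧ ∃ W : Submodule F (Fin 8 → F), Module.finrank F W = 2 ∧ Cfsg.Geo.IsNondegenerateOn (QuadraticMap.polar Q) W ∧ Cfsg.Geo.IsPlusTypeOn Q W ∧ H = Cfsg.Geo.subspaceStabilizer W ⊓ Cfsg.Geo.omegaGL Q) ∨
    (∃ W : Submodule F (Fin 8 → F), Module.finrank F W = 4 ∧ Cfsg.Geo.IsNondegenerateOn (QuadraticMap.polar Q) W ∧ H = Cfsg.Geo.subspaceStabilizer W ⊓ Cfsg.Geo.omegaGL Q) ∨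
    (¬ Odd (Fintype.card F) ∧ ∃ v : (Fin 8 → F), Q v ≠ 0 ∧ H = Cfsg.Geo.subspaceStabilizer (Submodule.span F {v}) ⊓ Cfsg.Geo.omegaGL Q) ∨
    (∃ K : Subalgebra F (Matrix (Fin 8) (Fin 8) F), Cfsg.Geo.IsFieldSubalgebra 2 K ∧ H = Cfsg.Geo.subalgebraNormalizer K ⊓ Cfsg.Geo.omegaGL Q) ∨
    (∃ (F₀ : Subfield F) (r : ℕ) (P : Matrix.GeneralLinearGroup (Fin 8) F) (ζ : F), r.Prime ∧ Odd r ∧ Fintype.card F = Nat.card F₀ ^ r ∧ ζ ≠ 0 ∧ Cfsg.Geo.IsQuadFormRationalStructure (fun v : Fin 8 → F => ζ * Q v) F₀ P ∧ H = Cfsg.Geo.subfieldSubgroup F₀ P ⊓ Cfsg.Geo.omegaGL Q) ∨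
    Cfsg.Geo.InOrthogonalResidualClass H := by
  classical
  obtain ⟨R, rfl, hR⟩ : ∃ R : QuadraticForm F (Fin 8 → F), ⇑R = Q ∧ (QuadraticMap.polarBilin R).Nondegenerate :=
    ⟨Forms.bundleQuad Q hQ, Forms.coe_bundleQuad Q hQ, Forms.nondegenerate_bundleQuad Q hQ⟩
  have hn : Fintype.card (Fin 8) = 8 := Fintype.card_fin 8
  rcases class_or_residual hR (Or.inl hn) (le_isometryGroup hH) with h | h | ⟨r, K, hr, hdvd, hK, hle, -⟩ |
    ⟨d, m, e, B, G₁, G₂, hd, hm, -, hgram, -, hor⟩ | h | h | h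
  · rcases subspaceCase_max hR (by omega) (by rw [hn]; decide) hH h with ⟨W, h0, hts, he⟩ |
      ⟨ho, W, h0, h1, hd, hnd, he⟩ | h | h | ⟨W, hnd, -, h4, hle, he⟩ | h
    · exact Or.inl ⟨W, h0, hts, he⟩
    · exact Or.inr (Or.inl ⟨ho, W, h0, h1, hd, hnd, he⟩)
    · exact Or.inr (Or.inr (Or.inl h))
    · exact Or.inr (Or.inr (Or.inr (Or.inl h)))
    · exact Or.inr (Or.inr (Or.inr (Or.inr (Or.inl ⟨W, by omega, hnd, he⟩))))
    · exact Or.inr (Or.inr (Or.inr (Or.inr (Or.inr (Or.inl h)))))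
  · refine absurd ?_ hminus
    rcases h with ⟨t, k, D, hD, -⟩ | ⟨k, D, hk, hD, hts, -⟩
    · have hcard := isMDecomposition_card hD.decomp.decomp
      rw [hn] at hcard
      refine plus_of_decomposition hR hD ?_ ⟨2, hn⟩
      have h2 := hD.decomp.decomp.two_le
      have hk0 := hD.decomp.decomp.pos
      have ht : t ≤ 8 := by nlinarith
      interval_cases t <;> first | decide | omega
    · exact plus_of_totallySingular (hts 0) (by rw [hD.finrank_eq 0, hk])
  · obtain rfl : r = 2 := by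
      have h1 := Nat.le_of_dvd (by omega) hdvd
      rw [hn] at hdvd h1
      interval_cases r <;> first | rfl | (exfalso; revert hr hdvd; decide)
    exact Or.inr (Or.inr (Or.inr (Or.inr (Or.inr (Or.inr (Or.inl ⟨K, hK,
      eq_inf_of_maximal_le hH hle (not_le_subalgebraNormalizer hR (by omega) le_rfl hK)⟩))))))
  · refine absurd ?_ hminus
    have hcard := Fintype.card_congr e
    rw [hn, Fintype.card_prod, Fintype.card_fin, Fintype.card_fin] at hcard
    have hdm : (d = 2 ∧ m = 4) ∨ (d = 4 ∧ m = 2) := by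
      have : d ≤ 4 := by nlinarith
      interval_cases d <;> omega
    refine plus_of_tensorCase_two hR (by omega) (by omega) (by omega) ?_ hgram ?_
    · rcases hdm with ⟨rfl, rfl⟩ | ⟨rfl, rfl⟩ <;> decide
    · rcases hor with ⟨-, -, h⟩ | ⟨ho, h, -⟩
      · exact Or.inl h
      · exact Or.inr ⟨Cfsg.Agent.Lib.Aschbacher.two_ne_zero_of_odd ho, h⟩
  · exact absurd h.2 hminus
  · obtain ⟨F₀, r, P, ζ, hr, hcard, hζ, hrat, he⟩ := subfieldCase_max hR (by omega) hH h
    rcases hr.eq_two_or_odd' with rfl | hro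
    · exact absurd (plus_of_subfield_two hR (m := 4) (by omega) hn hcard hζ hrat) hminus
    · exact Or.inr (Or.inr (Or.inr (Or.inr (Or.inr (Or.inr (Or.inr (Or.inl
        ⟨F₀, r, P, ζ, hr, hro, hcard, hζ, hrat, he⟩)))))))
  · exact Or.inr (Or.inr (Or.inr (Or.inr (Or.inr (Or.inr (Or.inr (Or.inr h)))))))


end Cfsg.Agent.S5826
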