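import Cfsg.Statements.S5834
import Cfsg.Agent.Lib.SingMax.NonDegSix
import Cfsg.Agent.Lib.SingMax.Basic
import Cfsg.Agent.Lib.OrthEight.NonDeg
import Cfsg.Agent.Lib.NonMax.OddForm
import Cfsg.Agent.Lib.OrthSubfield.Nine
import Cfsg.Agent.Lib.OrthFrame.Bridge
import Cfsg.Agent.Lib.OrthMax.Main
import Cfsg.Agent.Lib.OrthExt.Three
import Cfsg.Agent.Lib.Classical.EichlerStandard
import Cfsg.Agent.Lib.TensorThreeThree.Main

set_option autoImplicit false
open Cfsg

namespace Cfsg.Agent.S5834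

open Cfsg.Agent.Lib in
/-- A non-degenerate subspace of dimension four in dimension nine. -/
theorem four {ι : Type} [Fintype ι] [DecidableEq ι] {F : Type*} [Field F] [Fintype F]
    {Q : QuadraticForm F (ι → F)} (hQ : (QuadraticMap.polarBilin Q).Nondegenerate) (hn : Fintype.card ι = 9)
    {W : Submodule F (ι → F)} (hW : Cfsg.Geo.IsNondegenerateOn (QuadraticMap.polar ⇑Q) W)
    (hd : Module.finrank F W = 4) :
    Cfsg.Geo.IsMaximalIn (Cfsg.Geo.omegaGL ⇑Q) (Cfsg.Geo.subspaceStabilizer W ⊓ Cfsg.Geo.omegaGL ⇑Q) := by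
  have hdU := MaxClass.finrank_polarPerp hQ W
  rw [SingMax.stab_eq_perp hQ hW]
  have hpp := MaxClass.polarPerp_polarPerp hQ W
  have hU := MaxClass.nondegenerateOn_polarPerp hQ hW
  have hU5 : Module.finrank F (MaxClass.polarPerp Q W) = 5 := by omega
  obtain ⟨e, he, he0, heQ, -⟩ := SingMax.exists_singular_in (Q := Q) (W := MaxClass.polarPerp Q W)
    (![] : Fin 0 → ι → F) (by omega)
  obtain ⟨f, hf, hfQ, hef⟩ := SingMax.exists_partner_in hQ hU he he0 heQ
  obtain ⟨v, hv, hv0, hvQ, hvc⟩ := SingMax.exists_singular_in (Q := Q) (W := MaxClass.polarPerp Q W)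
    ![e, f] (by omega)
  have hev : QuadraticMap.polar ⇑Q e v = 0 := hvc 0
  have hfv : QuadraticMap.polar ⇑Q f v = 0 := hvc 1
  have hli : LinearIndependent F ![e, v] := (LinearIndependent.pair_iff' he0).mpr fun c hc => by
    subst hc
    rw [QuadraticMap.polar_smul_right, QuadraticMap.polar_comm, hef] at hfv
    exact hv0 (by rw [show c = 0 by simpa using hfv, zero_smul])
  refine OrthEight.WittTwo.isMaximalIn_nondeg hQ (by omega) hU (by omega)
    ⟨Submodule.span F (Set.range ![e, v]), ?_, ?_, ?_⟩ ?_ (by omega) (fun h => absurd h (by omega))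
    (fun h => absurd h (by omega)) (by rw [hpp]; omega)
  · rw [Submodule.span_le]
    rintro _ ⟨o, rfl⟩; fin_cases o <;> assumption
  · intro y hy
    rw [Matrix.range_cons, Matrix.range_cons, Matrix.range_empty, Set.union_empty, Set.singleton_union,
      Submodule.mem_span_pair] at hy
    obtain ⟨a, b, rfl⟩ := hy
    rw [QuadraticMap.map_add (⇑Q), QuadraticMap.map_smul, QuadraticMap.map_smul, QuadraticMap.polar_smul_left,
      QuadraticMap.polar_smul_right, heQ, hvQ, hev]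
    simp
  · rw [finrank_span_eq_card hli]; rfl
  · intro h
    rw [h, finrank_top, Module.finrank_fintype_fun_eq_card] at hU5
    omega

/-- Maximal subgroups of Ω_9(q) of geometric type, q odd. Let F be a finite field of odd order q, Q the standard quadratic form x₀² + Σ x_i y_i on F^9 (coordinates Unit ⊕ (Fin 4 ⊕ Fin 4)), and Ω = Ω_9(q) the commutator subgroup of its isometry group, inside GL_9(F). Each of the following, intersected with Ω, is a maximal subgroup of Ω: (1) the stabiliser of any non-zero subspace on which Q vanishes identically (totally singular 1- to 4-spaces); (2) the stabiliser of any non-zero even-dimensional subspace W (dimension 2, 4, 6 or 8) on which the polar form of Q is non-degenerate (equivalently of its odd-dimensional orthogonal complement), except when q = 3 and W is a 2-space containing a non-zero singular vector (a plus-type plane); (3) for q = p prime, the stabiliser of any decomposition of F^9 into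 nine pairwise orthogonal, pairwise Q-isometric non-degenerate 1-spaces; (4) for q ≥ 5, the stabiliser of any decomposition of F^9 into three pairwise orthogonal, pairwise Q-isometric non-degenerate 3-spaces; (5) the normaliser of any degree-3 subfield K of the matrix algebra whose elements are self-adjoint for the polar form of Q (Q is then the trace of a quadratic form over K); (6) every subfield group for a subfield F₀ with |F| = |F₀|^r, r prime, whose F₀-structure carries Q; (7) for q ≥ 5, the stabiliser of any decomposition of the polar form of Q as the tensor square of a non-degenerate symmetric bilinear form on F^3 up to a scalar (tensor-wreath subgroup). -/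
theorem result {F : Type*} [Field F] [Fintype F] (hodd : Odd (Fintype.card F)) :
    (∀ W : Submodule F (Unit ⊕ (Fin 4 ⊕ Fin 4) → F), W ≠ ⊥ → Cfsg.Geo.IsTotallySingularQuad (Cfsg.quadFormOdd 4 F) W → Cfsg.Geo.IsMaximalIn (Cfsg.Geo.omegaGL (Cfsg.quadFormOdd 4 F)) (Cfsg.Geo.subspaceStabilizer W ⊓ Cfsg.Geo.omegaGL (Cfsg.quadFormOdd 4 F))) ∧
    (∀ W : Submodule F (Unit ⊕ (Fin 4 ⊕ Fin 4) → F), W ≠ ⊥ → Even (Module.finrank F W) → Cfsg.Geo.IsNondegenerateOn (QuadraticMap.polar (Cfsg.quadFormOdd 4 F)) W → ¬ (Fintype.card F = 3 ∧ Module.finrank F W = 2 ∧ Cfsg.Geo.IsPlusTypeOn (Cfsg.quadFormOdd 4 F) W) → Cfsg.Geo.IsMaximalIn (Cfsg.Geo.omegaGL (Cfsg.quadFormOdd 4 F)) (Cfsg.Geo.subspaceStabilizer W ⊓ Cfsg.Geo.omegaGL (Cfsg.quadFormOdd 4 F))) ∧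
    ((Fintype.card F).Prime → ∀ D : Fin 9 → Submodule F (Unit ⊕ (Fin 4 ⊕ Fin 4) → F), Cfsg.Geo.IsOrthogonalMDecomposition (Cfsg.quadFormOdd 4 F) 1 D → Cfsg.Geo.IsMaximalIn (Cfsg.Geo.omegaGL (Cfsg.quadFormOdd 4 F)) (Cfsg.Geo.decompositionStabilizer D ⊓ Cfsg.Geo.omegaGL (Cfsg.quadFormOdd 4 F))) ∧
    (5 ≤ Fintype.card F → ∀ D : Fin 3 → Submodule F (Unit ⊕ (Fin 4 ⊕ Fin 4) → F), Cfsg.Geo.IsOrthogonalMDecomposition (Cfsg.quadFormOdd 4 F) 3 D → Cfsg.Geo.IsMaximalIn (Cfsg.Geo.omegaGL (Cfsg.quadFormOdd 4 F)) (Cfsg.Geo.decompositionStabilizer D ⊓ Cfsg.Geo.omegaGL (Cfsg.quadFormOdd 4 F))) ∧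
    (∀ K : Subalgebra F (Matrix (Unit ⊕ (Fin 4 ⊕ Fin 4)) (Unit ⊕ (Fin 4 ⊕ Fin 4)) F), Cfsg.Geo.IsFieldSubalgebra 3 K → Cfsg.Geo.IsSelfAdjointFor (QuadraticMap.polar (Cfsg.quadFormOdd 4 F)) K → Cfsg.Geo.IsMaximalIn (Cfsg.Geo.omegaGL (Cfsg.quadFormOdd 4 F)) (Cfsg.Geo.subalgebraNormalizer K ⊓ Cfsg.Geo.omegaGL (Cfsg.quadFormOdd 4 F))) ∧
    (∀ (F₀ : Subfield F) (r : ℕ) (P : Matrix.GeneralLinearGroup (Unit ⊕ (Fin 4 ⊕ Fin 4)) F), r.Prime → Fintype.card F = Nat.card F₀ ^ r → Cfsg.Geo.IsQuadFormRationalStructure (Cfsg.quadFormOdd 4 F) F₀ P → Cfsg.Geo.IsMaximalIn (Cfsg.Geo.omegaGL (Cfsg.quadFormOdd 4 F)) (Cfsg.Geo.subfieldSubgroup F₀ P ⊓ Cfsg.Geo.omegaGL (Cfsg.quadFormOdd 4 F))) ∧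
    (5 ≤ Fintype.card F → ∀ (e : (Unit ⊕ (Fin 4 ⊕ Fin 4)) ≃ (Fin 2 → Fin 3)) (P : Matrix.GeneralLinearGroup (Unit ⊕ (Fin 4 ⊕ Fin 4)) F) (f₁ : (Fin 3 → F) → (Fin 3 → F) → F), Cfsg.Geo.IsSymmetricForm f₁ → Cfsg.Geo.IsTensorPowerFormStructure id (QuadraticMap.polar (Cfsg.quadFormOdd 4 F)) f₁ e P → Cfsg.Geo.IsMaximalIn (Cfsg.Geo.omegaGL (Cfsg.quadFormOdd 4 F)) (Cfsg.Geo.tensorWreathSubgroup 3 2 e P ⊓ Cfsg.Geo.omegaGL (Cfsg.quadFormOdd 4 F))) := by
  classical
  have h2 : (2 : F) ≠ 0 := Cfsg.Agent.Lib.OrthMax.two_ne_zero_of_odd hodd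
  have hQ₀ := Cfsg.Agent.Lib.NonMax.isNondegenerateQuadraticForm_odd 4 h2
  have hQ' := Cfsg.Agent.Lib.Forms.nondegenerate_bundleQuad _ hQ₀
  have hc' := Cfsg.Agent.Lib.Forms.coe_bundleQuad _ hQ₀
  have hcard : Fintype.card (Unit ⊕ (Fin 4 ⊕ Fin 4)) = 9 := by simp
  refine ⟨fun W hW0 hW => ?_, fun W hW0 hev hW hex => ?_, fun hp D hD => ?_, fun h5 D hD => ?_,
    fun K hK hsa => ?_, fun F₀ r P hr hc hP => ?_, fun h5 e P f₁ hf₁ hT => ?_⟩
  · exact Cfsg.Agent.Lib.SingMax.isMaximalIn_singular hQ' (by omega) W hW0 hW fun h => absurd h (by omega)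
  · obtain ⟨j, hj⟩ := hev
    have hdU := Cfsg.Agent.Lib.MaxClass.finrank_polarPerp hQ' W
    have hdW := Submodule.finrank_le W
    rw [Module.finrank_fintype_fun_eq_card] at hdW
    have hW1 : W ≠ ⊤ := fun h => by
      have e : Module.finrank F W = 9 := by rw [h, finrank_top, Module.finrank_fintype_fun_eq_card, hcard]
      omega
    by_cases hd4 : Module.finrank F W = 4
    · exact four hQ' hcard hW hd4
    refine Cfsg.Agent.Lib.SingMax.isMaximalIn_nondegenerate_six hQ' (by omega) hW (by omega) hW0 hW1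
      (fun h => absurd h (by omega)) ?_ ?_
    · rintro ⟨hq, hd, hp⟩
      have h1 := Fintype.one_lt_card (α := F)
      obtain ⟨c, hc⟩ := hodd
      exact hex ⟨by omega, hd, hp⟩
    · rintro ⟨-, hd, -⟩
      omega
  · exact Cfsg.Agent.Lib.OrthFrame.frame_stabilizer_maximal hp h2 _ hQ₀ (by simp) D hD
  · have h : Cfsg.Agent.Lib.OrthMax.Dec (Cfsg.Agent.Lib.Forms.bundleQuad _ hQ₀) 3 D :=
      ⟨by rw [hc']; exact hD.decomp⟩
    have key := Cfsg.Agent.Lib.OrthMax.isMaximalIn_decomp hQ' (by omega) h le_rfl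
      (fun _ => ⟨h2, by rwa [Nat.card_eq_fintype_card]⟩) (fun h4 => absurd h4 (by omega))
      (Or.inr fun i j => by rw [hc']; exact hD.isometric i j)
    rw [hc'] at key
    exact key
  · have key := Cfsg.Agent.Lib.OrthExt.isMaximalIn_extField_three (q := Cfsg.Agent.Lib.Forms.bundleQuad _ hQ₀)
      ⟨h2, fun z hz => hQ'.1 z hz⟩ 3 Nat.prime_three (by omega) (by omega) (fun h => absurd h (by omega)) K hK
      (by rw [hc']; exact hsa)
    rw [hc'] at key
    exact key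
  · rw [← Cfsg.Agent.Lib.Classical.coe_oddQuadForm] at hP ⊢
    refine Cfsg.Agent.Lib.OrthSubfield.isMaximalIn_subfield_nine
      (Cfsg.Agent.Lib.Classical.nondeg_congr (Cfsg.Agent.Lib.Classical.oddEquiv 4) (fun v => rfl)
        (Cfsg.Agent.Lib.Classical.nondeg_hypTower (Cfsg.Agent.Lib.Classical.nondeg_sq h2) 4))
      (by omega) F₀ r hr ?_ P fun u => hP _ fun i => (u i).2
    rwa [Nat.card_eq_fintype_card]
  · have key := Cfsg.Agent.Lib.TensorThreeThree.isMaximalIn_tensorPower hQ' h2 h5 hf₁ (by rw [hc']; exact hT)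
    rw [hc'] at key
    exact key

end Cfsg.Agent.S5834
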