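import Cfsg.Statements.S5850
import Cfsg.Agent.Lib.MaxClass.OrthEven.Common
import Cfsg.Agent.Lib.MaxClass.OrthEven.Plus
import Cfsg.Agent.Lib.MaxClass.OrthEven.Halves
import Cfsg.Agent.Lib.MaxClass.OrthEven.Swap
import Cfsg.Agent.Lib.MaxClass.OrthEven.Small
import Cfsg.Agent.Lib.MaxClass.OrthEven.Reduce
import Cfsg.Agent.Lib.MaxClass.OrthEven.TenField
import Cfsg.Agent.Lib.Forms.CharTwoPoints


set_option autoImplicit false
set_option linter.style.haveILetI false
open Cfsg

namespace Cfsg.Agent.S5850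

open Cfsg.Geo Matrix QuadraticMap Cfsg.Agent.Lib Cfsg.Agent.Lib.MaxClass Cfsg.Agent.Lib.MaxClass.OrthEven
open Cfsg.Agent.Lib.Aschbacher
open scoped Kronecker


/-- Every maximal subgroup of Ω_10^-(q) is of one of the listed geometric types or lies in the residual class. Let F be a finite field with q elements (characteristic p), Q a non-degenerate quadratic form on F^10 of minus type (Witt index 4: no totally singular 5-space), Ω the commutator subgroup of its isometry group, and H a maximal subgroup of Ω (inside GL_10(F)). Then H is the intersection with Ω of one of: the stabiliser of a non-zero totally singular subspace; for q odd, the stabiliser of a non-degenerate subspace of odd dimension ≠ 5; the stabiliser of a non-degenerate 2-space of minus type; for q ≥ 4, the stabiliser of a non-degenerate 2-space of plus type; the stabiliser of a non-degenerate 4-space; for q even, the stabiliser of the span of a non-singular vector; for q = p prime with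 p ≡ 3 mod 4, the stabiliser of a decomposition into 10 pairwise orthogonal, pairwise isometric non-degenerate 1-spaces; for q ≠ 3, the stabiliser of a decomposition into 5 pairwise orthogonal, pairwise isometric non-degenerate 2-spaces; for q ≡ 3 mod 4, the stabiliser of a decomposition into 2 pairwise orthogonal, pairwise isometric non-degenerate 5-spaces; for q ≡ 1 mod 4, the stabiliser of a decomposition into two orthogonal, non-isometric non-degenerate 5-spaces; for q odd, the normaliser of a degree-2 subfield of the matrix algebra, self-adjoint for the polar form; the normaliser of a degree-2 subfield K, adjoint-closed but not self-adjoint, acting by similarities of Q; a subfield group (|F| = |F₀|^r, r odd prime) whose F₀-structure carries a non-zero multiple of Q — or else H lies in the residual class of the orthogonal case (modulo scalars H is almost simple, with absolutely irreducible perfect socle preimage realisable over no proper subfield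 and fixing no non-degenerate unitary form). -/
theorem result {F : Type*} [Field F] [Fintype F] (Q : (Fin 10 → F) → F) (hQ : Cfsg.Geo.IsNondegenerateQuadraticForm Q) (hminus : ¬ Cfsg.Geo.IsPlusTypeOn Q ⊤) (H : Subgroup (Matrix.GeneralLinearGroup (Fin 10) F)) (hH : Cfsg.Geo.IsMaximalIn (Cfsg.Geo.omegaGL Q) H) :
    (∃ W : Submodule F (Fin 10 → F), W ≠ ⊥ ∧ Cfsg.Geo.IsTotallySingularQuad Q W ∧ H = Cfsg.Geo.subspaceStabilizer W ⊓ Cfsg.Geo.omegaGL Q) ∨
    (Odd (Fintype.card F) ∧ ∃ W : Submodule F (Fin 10 → F), W ≠ ⊥ ∧ W ≠ ⊤ ∧ Odd (Module.finrank F W) ∧ 2 * Module.finrank F W ≠ 10 ∧ Cfsg.Geo.IsNondegenerateOn (QuadraticMap.polar Q) W ∧ H = Cfsg.Geo.subspaceStabilizer W ⊓ Cfsg.Geo.omegaGL Q) ∨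
    (∃ W : Submodule F (Fin 10 → F), Module.finrank F W = 2 ∧ Cfsg.Geo.IsNondegenerateOn (QuadraticMap.polar Q) W ∧ ¬ Cfsg.Geo.IsPlusTypeOn Q W ∧ H = Cfsg.Geo.subspaceStabilizer W ⊓ Cfsg.Geo.omegaGL Q) ∨
    (4 ≤ Fintype.card F ∧ ∃ W : Submodule F (Fin 10 → F), Module.finrank F W = 2 ∧ Cfsg.Geo.IsNondegenerateOn (QuadraticMap.polar Q) W ∧ Cfsg.Geo.IsPlusTypeOn Q W ∧ H = Cfsg.Geo.subspaceStabilizer W ⊓ Cfsg.Geo.omegaGL Q) ∨
    (∃ W : Submodule F (Fin 10 → F), Module.finrank F W = 4 ∧ Cfsg.Geo.IsNondegenerateOn (QuadraticMap.polar Q) W ∧ H = Cfsg.Geo.subspaceStabilizer W ⊓ Cfsg.Geo.omegaGL Q) ∨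
    (¬ Odd (Fintype.card F) ∧ ∃ v : (Fin 10 → F), Q v ≠ 0 ∧ H = Cfsg.Geo.subspaceStabilizer (Submodule.span F {v}) ⊓ Cfsg.Geo.omegaGL Q) ∨
    ((∃ p : ℕ, p.Prime ∧ Fintype.card F = p ∧ (p % 4 = 3)) ∧ ∃ D : Fin 10 → Submodule F (Fin 10 → F), Cfsg.Geo.IsOrthogonalMDecomposition Q 1 D ∧ H = Cfsg.Geo.decompositionStabilizer D ⊓ Cfsg.Geo.omegaGL Q) ∨
    (Fintype.card F ≠ 3 ∧ ∃ D : Fin 5 → Submodule F (Fin 10 → F), Cfsg.Geo.IsOrthogonalMDecomposition Q 2 D ∧ H = Cfsg.Geo.decompositionStabilizer D ⊓ Cfsg.Geo.omegaGL Q) ∨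
    (Fintype.card F % 4 = 3 ∧ ∃ D : Fin 2 → Submodule F (Fin 10 → F), Cfsg.Geo.IsOrthogonalMDecomposition Q 5 D ∧ H = Cfsg.Geo.decompositionStabilizer D ⊓ Cfsg.Geo.omegaGL Q) ∨
    (Fintype.card F % 4 = 1 ∧ ∃ D : Fin 2 → Submodule F (Fin 10 → F), Cfsg.Geo.IsNondegenerateMDecomposition (QuadraticMap.polar Q) 5 D ∧ ¬ Cfsg.Geo.AreIsometricFor Q (D 0) (D 1) ∧ H = Cfsg.Geo.decompositionStabilizer D ⊓ Cfsg.Geo.omegaGL Q) ∨
    (Odd (Fintype.card F) ∧ ∃ K : Subalgebra F (Matrix (Fin 10) (Fin 10) F), Cfsg.Geo.IsFieldSubalgebra 2 K ∧ Cfsg.Geo.IsSelfAdjointFor (QuadraticMap.polar Q) K ∧ H = Cfsg.Geo.subalgebraNormalizer K ⊓ Cfsg.Geo.omegaGL Q) ∨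
    (∃ K : Subalgebra F (Matrix (Fin 10) (Fin 10) F), Cfsg.Geo.IsFieldSubalgebra 2 K ∧ Cfsg.Geo.IsAdjointClosedFor (QuadraticMap.polar Q) K ∧ ¬ Cfsg.Geo.IsSelfAdjointFor (QuadraticMap.polar Q) K ∧ (∀ k ∈ K, ∃ c : F, ∀ v : (Fin 10 → F), Q (Matrix.mulVec k v) = c * Q v) ∧ H = Cfsg.Geo.subalgebraNormalizer K ⊓ Cfsg.Geo.omegaGL Q) ∨
    (∃ (F₀ : Subfield F) (r : ℕ) (P : Matrix.GeneralLinearGroup (Fin 10) F) (ζ : F), r.Prime ∧ Odd r ∧ Fintype.card F = Nat.card F₀ ^ r ∧ ζ ≠ 0 ∧ Cfsg.Geo.IsQuadFormRationalStructure (fun v : Fin 10 → F => ζ * Q v) F₀ P ∧ H = Cfsg.Geo.subfieldSubgroup F₀ P ⊓ Cfsg.Geo.omegaGL Q) ∨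
    Cfsg.Geo.InOrthogonalResidualClass H := by
  classical
  obtain ⟨R, rfl, hR⟩ : ∃ R : QuadraticForm F (Fin 10 → F), ⇑R = Q ∧ (QuadraticMap.polarBilin R).Nondegenerate :=
    ⟨Forms.bundleQuad Q hQ, Forms.coe_bundleQuad Q hQ, Forms.nondegenerate_bundleQuad Q hQ⟩
  have hn : Fintype.card (Fin 10) = 2 * 5 := Fintype.card_fin 10
  have hsub : SubfieldCase R H → ∃ (F₀ : Subfield F) (r : ℕ) (P : Matrix.GeneralLinearGroup (Fin 10) F) (ζ : F),
      r.Prime ∧ Odd r ∧ Fintype.card F = Nat.card F₀ ^ r ∧ ζ ≠ 0 ∧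
      IsQuadFormRationalStructure (fun v : Fin 10 → F => ζ * R v) F₀ P ∧
      H = subfieldSubgroup F₀ P ⊓ omegaGL ⇑R := by
    intro h
    obtain ⟨F₀, r, P, ζ, hr, hcard, hζ, hrat, he⟩ := subfieldCase_max hR (by omega) hH h
    refine ⟨F₀, r, P, ζ, hr, hr.odd_of_ne_two fun h2 => ?_, hcard, hζ, hrat, he⟩
    subst h2
    exact hminus (plus_of_subfield_two hR (m := 5) (by norm_num) hn hcard hζ hrat)
  rcases class_or_residual hR (Or.inr (Or.inl hn)) (le_isometryGroup hH) with h | h |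
    ⟨r, K, hr, hdvd, hK, hle, hfield⟩ | ⟨d, m, e, B, G₁, G₂, hd, hm, hle, hgram, -, hor⟩ | h | h | h
  · rcases subspaceCase_max hR (by omega) (by rw [hn]; decide) hH h with ⟨W, h0, hts, he⟩ |
      ⟨ho, W, h0, h1, hd, hnd, he⟩ | h | h | ⟨W, hnd, hev, h4, hle, he⟩ | h
    · exact Or.inl (⟨W, h0, hts, he⟩)
    · by_cases h5 : 2 * Module.finrank F W = 10
      · have h20 := two_ne_zero_of_odd ho
        have hU := nondegenerateOn_polarPerp hR hnd
        obtain ⟨hDnd, hleD, hDiso⟩ := decomposition_of_halves hR hnd (k := 5) (by omega) (by omega) hn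
          (le_isometryGroup hH) (he.le.trans inf_le_left)
        have heqD := eq_inf_of_maximal_le hH hleD
          (OrthEven.not_le_decompositionStabilizer hR (by omega) (by omega) (by omega) hDnd.decomp)
        obtain ⟨hI, hN⟩ := plus_iff_odd_halves h20 hR hnd hU (fun a ha b hb => mem_polarPerp.mp hb a ha)
          (SingMax.isCompl_polarPerp hR hnd).sup_eq_top (j := 2) (by norm_num) (by omega)
          (by rw [finrank_polarPerp hR]; omega)
        by_cases hiso : AreIsometricFor (⇑R) W (polarPerp R W)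
        · have hiff := hI hiso
          exact Or.inr (Or.inr (Or.inr (Or.inr (Or.inr (Or.inr (Or.inr (Or.inr (Or.inl (⟨(card_mod_four ho).2 fun h => hminus (hiff.mpr h), _, hDiso hiso, heqD⟩)))))))))
        · have hiff := hN hiso
          exact Or.inr (Or.inr (Or.inr (Or.inr (Or.inr (Or.inr (Or.inr (Or.inr (Or.inr (Or.inl (⟨(card_mod_four ho).1 (not_not.mp fun h => hminus (hiff.mpr h)), _, hDnd, by simpa using hiso, heqD⟩))))))))))
      · exact Or.inr (Or.inl (⟨ho, W, h0, h1, hd, h5, hnd, he⟩))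
    · exact Or.inr (Or.inr (Or.inl (h)))
    · exact Or.inr (Or.inr (Or.inr (Or.inl (h))))
    · exact Or.inr (Or.inr (Or.inr (Or.inr (Or.inl (⟨W, by obtain ⟨j, hj⟩ := hev; omega, hnd, he⟩)))))
    · exact Or.inr (Or.inr (Or.inr (Or.inr (Or.inr (Or.inl (h))))))
  · rcases h with ⟨t, k, D, hD, hle⟩ | ⟨k, D, hk, hD, hts, hle⟩
    · have hcard := isMDecomposition_card hD.decomp.decomp
      rw [Fintype.card_fin] at hcard
      have h2 := hD.decomp.decomp.two_le
      have hk0 := hD.decomp.decomp.pos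
      have heq := eq_inf_of_maximal_le hH hle
        (OrthEven.not_le_decompositionStabilizer hR (by omega) (by omega) (by omega) hD.decomp.decomp)
      have hoddk : Odd k → Odd (Fintype.card F) := fun hko => odd_card fun h20 => by
        have := even_finrank_of_nondegenerateOn h20 (hD.decomp.nondegenerate ⟨0, by omega⟩)
        rw [hD.decomp.decomp.finrank_eq] at this
        exact (Nat.not_even_iff_odd.mpr hko) this
      have ht : t ≤ 10 := by nlinarith
      obtain ⟨rfl, rfl⟩ | ⟨rfl, rfl⟩ | ⟨rfl, rfl⟩ : (t = 10 ∧ k = 1) ∨ (t = 5 ∧ k = 2) ∨ (t = 2 ∧ k = 5) := by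
        interval_cases t <;> omega
      · have ho := hoddk odd_one
        by_cases hp : (Fintype.card F).Prime
        · have hiff := plus_iff_of_decomposition_odd (two_ne_zero_of_odd ho) hR hD (by decide) (j := 2) (by norm_num) hn
          exact Or.inr (Or.inr (Or.inr (Or.inr (Or.inr (Or.inr (Or.inl (⟨⟨Fintype.card F, hp, rfl, (card_mod_four ho).2 fun h => hminus (hiff.mpr h)⟩, D, hD, heq⟩)))))))
        · exact Or.inr (Or.inr (Or.inr (Or.inr (Or.inr (Or.inr (Or.inr (Or.inr (Or.inr (Or.inr (Or.inr (Or.inr (Or.inl (hsub (subfieldCase_of_frame hR (two_ne_zero_of_odd ho) hp (le_isometryGroup hH) hD hle))))))))))))))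
      · by_cases h3 : Fintype.card F = 3
        · exact (false_of_between hH hle (exists_between_small (n := 10) (by norm_num) (⇑R) hQ 2 D hD (fun _ => le_rfl)
            (fun h => absurd h (by norm_num)) (Or.inl ⟨rfl, Or.inl h3⟩))).elim
        · exact Or.inr (Or.inr (Or.inr (Or.inr (Or.inr (Or.inr (Or.inr (Or.inl (⟨h3, D, hD, heq⟩))))))))
      · have ho := hoddk (by decide)
        have hiff := plus_iff_of_decomposition_odd (two_ne_zero_of_odd ho) hR hD (by decide) (j := 2) (by norm_num) hn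
        exact Or.inr (Or.inr (Or.inr (Or.inr (Or.inr (Or.inr (Or.inr (Or.inr (Or.inl (⟨(card_mod_four ho).2 fun h => hminus (hiff.mpr h), D, hD, heq⟩)))))))))
    · obtain rfl : k = 5 := by omega
      exact (hminus (plus_of_totallySingular (hts 0) (by rw [hD.finrank_eq, hn]))).elim
  · obtain rfl | rfl : r = 2 ∨ r = 5 := by
      have h1 := Nat.le_of_dvd (by omega) hdvd
      rw [Fintype.card_fin] at hdvd h1
      interval_cases r <;> first | omega | (exfalso; revert hr hdvd; decide)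
    · rcases hfield with ⟨hsa, halt⟩ | ⟨-, hadj, hnsa, hsim⟩
      · by_cases h20 : (2 : F) = 0
        · exact (false_of_alternating_field hR hn hK hsa fun k hk v => halt k hk v h20).elim
        · exact Or.inr (Or.inr (Or.inr (Or.inr (Or.inr (Or.inr (Or.inr (Or.inr (Or.inr (Or.inr (Or.inl (⟨odd_card h20, K, hK, hsa, eq_inf_of_maximal_le hH hle (OrthEven.not_le_subalgebraNormalizer hR (by omega) le_rfl hK)⟩)))))))))))
      · exact Or.inr (Or.inr (Or.inr (Or.inr (Or.inr (Or.inr (Or.inr (Or.inr (Or.inr (Or.inr (Or.inr (Or.inl (⟨K, hK, hadj, hnsa, hsim, eq_inf_of_maximal_le hH hle (OrthEven.not_le_subalgebraNormalizer hR (by omega) le_rfl hK)⟩))))))))))))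
    · rcases hfield with ⟨hsa, halt⟩ | ⟨h52, -⟩
      · rcases exists_pair_or_similar_field hR hn (le_isometryGroup hH) hK hle hsa halt with
          ⟨D, hD, hts, hle⟩ | ⟨K, hK, hadj, hnsa, hsim, hle⟩
        · exact (hminus (plus_of_totallySingular (hts 0) (by rw [hD.finrank_eq, hn]))).elim
        · exact Or.inr (Or.inr (Or.inr (Or.inr (Or.inr (Or.inr (Or.inr (Or.inr (Or.inr (Or.inr (Or.inr (Or.inl (⟨K, hK, hadj, hnsa, hsim, eq_inf_of_maximal_le hH hle (OrthEven.not_le_subalgebraNormalizer hR (by omega) le_rfl hK)⟩))))))))))))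
      · exact absurd h52 (by norm_num)
  · have hcard := Fintype.card_congr e
    rw [Fintype.card_prod, Fintype.card_fin, Fintype.card_fin, Fintype.card_fin] at hcard
    obtain ⟨G, hF, hG⟩ := exists_polarGram hR
    obtain ⟨rfl, rfl⟩ | ⟨rfl, rfl⟩ : (d = 2 ∧ m = 5) ∨ (d = 5 ∧ m = 2) := by
      have : d ≤ 5 := by nlinarith
      interval_cases d <;> omega
    all_goals
      rcases hor with ⟨h₁, h₂, -⟩ | ⟨ho, hs₁, hs₂⟩
      · first
          | exact absurd (even_of_symplectic h₁) (by decide)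
          | exact absurd (even_of_symplectic h₂) (by decide)
      obtain ⟨e', A₁, A₂, hs₁', hA, hle'⟩ : ∃ (e' : Fin 10 ≃ Fin 2 × Fin 5) (A₁ : GL (Fin 2) F)
          (A₂ : GL (Fin 5) F), IsSymmetricForm (formM (RingEquiv.refl F) (A₁ : Matrix (Fin 2) (Fin 2) F)) ∧
          gramIn (RingEquiv.refl F) G e' B = (A₁ : Matrix (Fin 2) (Fin 2) F) ⊗ₖ (A₂ : Matrix (Fin 5) (Fin 5) F) ∧
          H ≤ tensorProductSubgroup 2 5 e' B := by
        first
          | exact ⟨e, G₁, G₂, hs₁, hgram G hG, hle⟩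
          | (obtain ⟨e', hle', hA'⟩ := tensor_swap (hgram G hG)
             exact ⟨e', G₂, G₁, hs₂, hA', hle.trans hle'⟩)
      obtain ⟨k, δ, hδ, hk, hskew, hconj⟩ :=
        skew_of_tensor_two (le_isometryGroup hH) hG (by omega) hA hs₁' hle'
      rcases skew_case hR (two_ne_zero_of_odd ho) (by omega) hδ hk hskew hconj with
        ⟨K, hK, hadj, hnsa, hsim, hle⟩ | ⟨j, D, hj, hD, hts, hle⟩
      · exact Or.inr (Or.inr (Or.inr (Or.inr (Or.inr (Or.inr (Or.inr (Or.inr (Or.inr (Or.inr (Or.inr (Or.inl (⟨K, hK, hadj, hnsa, hsim, eq_inf_of_maximal_le hH hle (OrthEven.not_le_subalgebraNormalizer hR (by omega) le_rfl hK)⟩))))))))))))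
      · obtain rfl : j = 5 := by omega
        exact (hminus (plus_of_totallySingular (hts 0) (by rw [hD.finrank_eq, hn]))).elim
  · omega
  · exact Or.inr (Or.inr (Or.inr (Or.inr (Or.inr (Or.inr (Or.inr (Or.inr (Or.inr (Or.inr (Or.inr (Or.inr (Or.inl (hsub h)))))))))))))
  · exact Or.inr (Or.inr (Or.inr (Or.inr (Or.inr (Or.inr (Or.inr (Or.inr (Or.inr (Or.inr (Or.inr (Or.inr (Or.inr ((h))))))))))))))


end Cfsg.Agent.S5850
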