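import Cfsg.Statements.S5858
import Cfsg.Agent.Lib.SingMax.NonDegSix
import Cfsg.Agent.Lib.SingMax.Basic
import Cfsg.Agent.Lib.NonMax.OddForm
import Cfsg.Agent.Lib.OrthSubfield.Nine
import Cfsg.Agent.Lib.OrthFrame.Bridge
import Cfsg.Agent.Lib.Classical.EichlerStandard

set_option autoImplicit false
set_option linter.style.haveILetI false
open Cfsg

namespace Cfsg.Agent.S5858


/-- Maximal subgroups of Ω_11(q) of geometric type, q odd. Let F be a finite field of odd order q, Q the standard quadratic form x₀² + Σ x_i y_i on F^11 (coordinates Unit ⊕ (Fin 5 ⊕ Fin 5)), and Ω = Ω_11(q) the commutator subgroup of its isometry group, inside GL_11(F). Each of the following, intersected with Ω, is a maximal subgroup of Ω: (1) the stabiliser of any non-zero subspace on which Q vanishes identically (totally singular 1- to 5-spaces); (2) the stabiliser of any non-zero even-dimensional subspace W (dimension 2 to 10) on which the polar form of Q is non-degenerate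 (equivalently of its odd-dimensional orthogonal complement), except when q = 3 and W is a 2-space containing a non-zero singular vector (a plus-type plane); (3) for q = p prime, the stabiliser of any decomposition of F^11 into eleven pairwise orthogonal, pairwise Q-isometric non-degenerate 1-spaces; (4) every subfield group for a subfield F₀ with |F| = |F₀|^r, r prime, whose F₀-structure carries Q. -/
theorem result {F : Type*} [Field F] [Fintype F] (hodd : Odd (Fintype.card F)) :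
    (∀ W : Submodule F (Unit ⊕ (Fin 5 ⊕ Fin 5) → F), W ≠ ⊥ → Cfsg.Geo.IsTotallySingularQuad (Cfsg.quadFormOdd 5 F) W → Cfsg.Geo.IsMaximalIn (Cfsg.Geo.omegaGL (Cfsg.quadFormOdd 5 F)) (Cfsg.Geo.subspaceStabilizer W ⊓ Cfsg.Geo.omegaGL (Cfsg.quadFormOdd 5 F))) ∧
    (∀ W : Submodule F (Unit ⊕ (Fin 5 ⊕ Fin 5) → F), W ≠ ⊥ → Even (Module.finrank F W) → Cfsg.Geo.IsNondegenerateOn (QuadraticMap.polar (Cfsg.quadFormOdd 5 F)) W → ¬ (Fintype.card F = 3 ∧ Module.finrank F W = 2 ∧ Cfsg.Geo.IsPlusTypeOn (Cfsg.quadFormOdd 5 F) W) → Cfsg.Geo.IsMaximalIn (Cfsg.Geo.omegaGL (Cfsg.quadFormOdd 5 F)) (Cfsg.Geo.subspaceStabilizer W ⊓ Cfsg.Geo.omegaGL (Cfsg.quadFormOdd 5 F))) ∧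
    ((Fintype.card F).Prime → ∀ D : Fin 11 → Submodule F (Unit ⊕ (Fin 5 ⊕ Fin 5) → F), Cfsg.Geo.IsOrthogonalMDecomposition (Cfsg.quadFormOdd 5 F) 1 D → Cfsg.Geo.IsMaximalIn (Cfsg.Geo.omegaGL (Cfsg.quadFormOdd 5 F)) (Cfsg.Geo.decompositionStabilizer D ⊓ Cfsg.Geo.omegaGL (Cfsg.quadFormOdd 5 F))) ∧
    (∀ (F₀ : Subfield F) (r : ℕ) (P : Matrix.GeneralLinearGroup (Unit ⊕ (Fin 5 ⊕ Fin 5)) F), r.Prime → Fintype.card F = Nat.card F₀ ^ r → Cfsg.Geo.IsQuadFormRationalStructure (Cfsg.quadFormOdd 5 F) F₀ P → Cfsg.Geo.IsMaximalIn (Cfsg.Geo.omegaGL (Cfsg.quadFormOdd 5 F)) (Cfsg.Geo.subfieldSubgroup F₀ P ⊓ Cfsg.Geo.omegaGL (Cfsg.quadFormOdd 5 F))) := by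
  classical
  have h2 : (2 : F) ≠ 0 := Ring.two_ne_zero fun h => by
    have := Nat.odd_iff.mp hodd
    have h' := FiniteField.even_card_of_char_two h
    omega
  have hQ₀ := Cfsg.Agent.Lib.NonMax.isNondegenerateQuadraticForm_odd 5 h2
  have hQ' := Cfsg.Agent.Lib.Forms.nondegenerate_bundleQuad _ hQ₀
  set Q := Cfsg.Agent.Lib.Forms.bundleQuad _ hQ₀
  have hcard : Fintype.card (Unit ⊕ (Fin 5 ⊕ Fin 5)) = 11 := by simp
  refine ⟨fun W hW0 hW => ?_, fun W hW0 hev hW hex => ?_, fun hp D hD => ?_, fun F₀ r P hr hc hP => ?_⟩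
  · exact Cfsg.Agent.Lib.SingMax.isMaximalIn_singular hQ' (by omega) W hW0 hW fun h => absurd h (by omega)
  · obtain ⟨j, hj⟩ := hev
    have hdU := Cfsg.Agent.Lib.MaxClass.finrank_polarPerp hQ' W
    have hdW := Submodule.finrank_le W
    rw [Module.finrank_fintype_fun_eq_card] at hdW
    have hW1 : W ≠ ⊤ := fun h => by
      have e : Module.finrank F W = 11 := by rw [h, finrank_top, Module.finrank_fintype_fun_eq_card, hcard]
      omega
    refine Cfsg.Agent.Lib.SingMax.isMaximalIn_nondegenerate_six hQ' (by omega) hW (by omega) hW0 hW1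
      (fun h => absurd h (by omega)) ?_ ?_
    · rintro ⟨hq, hd, hp⟩
      have h1 := Fintype.one_lt_card (α := F)
      obtain ⟨c, hc⟩ := hodd
      exact hex ⟨by omega, hd, hp⟩
    · rintro ⟨-, hd, -⟩
      omega
  · exact Cfsg.Agent.Lib.OrthFrame.frame_stabilizer_maximal hp h2 _
      (Cfsg.Agent.Lib.NonMax.isNondegenerateQuadraticForm_odd 5 h2) (by simp) D hD
  · rw [← Cfsg.Agent.Lib.Classical.coe_oddQuadForm] at hP ⊢
    refine Cfsg.Agent.Lib.OrthSubfield.isMaximalIn_subfield_nine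
      (Cfsg.Agent.Lib.Classical.nondeg_congr (Cfsg.Agent.Lib.Classical.oddEquiv 5) (fun v => rfl)
        (Cfsg.Agent.Lib.Classical.nondeg_hypTower (Cfsg.Agent.Lib.Classical.nondeg_sq h2) 5))
      (by omega) F₀ r hr ?_ P fun u => hP _ fun i => (u i).2
    rwa [Nat.card_eq_fintype_card]

end Cfsg.Agent.S5858
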