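import Cfsg.Statements.S5871
import Cfsg.Agent.Lib.MaxClass.OrthEven.Common
import Cfsg.Agent.Lib.MaxClass.OrthEven.Plus
import Cfsg.Agent.Lib.MaxClass.OrthEven.Swap
import Cfsg.Agent.Lib.MaxClass.OrthEven.Small
import Cfsg.Agent.Lib.MaxClass.OrthEven.Reduce
import Cfsg.Agent.Lib.Forms.CharTwoPoints


set_option autoImplicit false
set_option linter.style.haveILetI false
open Cfsg

namespace Cfsg.Agent.S5871

open Cfsg.Geo Matrix QuadraticMap Cfsg.Agent.Lib Cfsg.Agent.Lib.MaxClass Cfsg.Agent.Lib.MaxClass.OrthEven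
open Cfsg.Agent.Lib.Aschbacher
open scoped Kronecker


/-- Every maximal subgroup of Ω_12^+(q) is of one of the listed geometric types or lies in the residual class. Let F be a finite field with q elements (characteristic p), Q a non-degenerate quadratic form on F^12 of plus type (Witt index 6: some totally singular 6-space), Ω the commutator subgroup of its isometry group, and H a maximal subgroup of Ω (inside GL_12(F)). Then H is the intersection with Ω of one of: the stabiliser of a non-zero totally singular subspace of dimension ≠ 5; for q odd, the stabiliser of a non-degenerate subspace of odd dimension; the stabiliser of a non-degenerate 2-space of minus type; for q ≥ 4, the stabiliser of a non-degenerate 2-space of plus type; the stabiliser of a non-degenerate 4-space; for q even, the stabiliser of the span of a non-singular vector; for q = p an odd prime, the stabiliser of a decomposition into 12 pairwise orthogonal, pairwise isometric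 non-degenerate 1-spaces; for q ≥ 7, the stabiliser of a decomposition into 6 pairwise orthogonal, pairwise isometric non-degenerate 2-spaces of plus type; for q ≠ 3, the stabiliser of a decomposition into 6 pairwise orthogonal, pairwise isometric non-degenerate 2-spaces of minus type; for q odd with q ≥ 5, the stabiliser of a decomposition into 4 pairwise orthogonal, pairwise isometric non-degenerate 3-spaces; for q ≥ 3, the stabiliser of a decomposition into 3 pairwise orthogonal, pairwise isometric non-degenerate 4-spaces; the stabiliser of a decomposition into 2 pairwise orthogonal, pairwise isometric non-degenerate 6-spaces; of a decomposition into two totally singular 6-spaces; the normaliser of a degree-2 subfield of the matrix algebra; the normaliser of a degree-3 subfield of the matrix algebra; the normaliser of a degree-2 subfield K, adjoint-closed but not self-adjoint, acting by similarities of Q; for q ≥ 3, the stabiliser of a tensor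 decomposition of Q into alternating forms on F^2 and F^6 (Q vanishing on pure tensors); a subfield group (|F| = |F₀|^r, r prime) whose F₀-structure carries a non-zero multiple of Q — or else H lies in the residual class of the orthogonal case (modulo scalars H is almost simple, with absolutely irreducible perfect socle preimage realisable over no proper subfield and fixing no non-degenerate unitary form). -/
theorem result {F : Type*} [Field F] [Fintype F] (Q : (Fin 12 → F) → F) (hQ : Cfsg.Geo.IsNondegenerateQuadraticForm Q) (hplus : Cfsg.Geo.IsPlusTypeOn Q ⊤) (H : Subgroup (Matrix.GeneralLinearGroup (Fin 12) F)) (hH : Cfsg.Geo.IsMaximalIn (Cfsg.Geo.omegaGL Q) H) :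
    (∃ W : Submodule F (Fin 12 → F), W ≠ ⊥ ∧ Cfsg.Geo.IsTotallySingularQuad Q W ∧ Module.finrank F W ≠ 5 ∧ H = Cfsg.Geo.subspaceStabilizer W ⊓ Cfsg.Geo.omegaGL Q) ∨
    (Odd (Fintype.card F) ∧ ∃ W : Submodule F (Fin 12 → F), W ≠ ⊥ ∧ W ≠ ⊤ ∧ Odd (Module.finrank F W) ∧ 2 * Module.finrank F W ≠ 12 ∧ Cfsg.Geo.IsNondegenerateOn (QuadraticMap.polar Q) W ∧ H = Cfsg.Geo.subspaceStabilizer W ⊓ Cfsg.Geo.omegaGL Q) ∨
    (∃ W : Submodule F (Fin 12 → F), Module.finrank F W = 2 ∧ Cfsg.Geo.IsNondegenerateOn (QuadraticMap.polar Q) W ∧ ¬ Cfsg.Geo.IsPlusTypeOn Q W ∧ H = Cfsg.Geo.subspaceStabilizer W ⊓ Cfsg.Geo.omegaGL Q) ∨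
    (4 ≤ Fintype.card F ∧ ∃ W : Submodule F (Fin 12 → F), Module.finrank F W = 2 ∧ Cfsg.Geo.IsNondegenerateOn (QuadraticMap.polar Q) W ∧ Cfsg.Geo.IsPlusTypeOn Q W ∧ H = Cfsg.Geo.subspaceStabilizer W ⊓ Cfsg.Geo.omegaGL Q) ∨
    (∃ W : Submodule F (Fin 12 → F), Module.finrank F W = 4 ∧ Cfsg.Geo.IsNondegenerateOn (QuadraticMap.polar Q) W ∧ H = Cfsg.Geo.subspaceStabilizer W ⊓ Cfsg.Geo.omegaGL Q) ∨
    (¬ Odd (Fintype.card F) ∧ ∃ v : (Fin 12 → F), Q v ≠ 0 ∧ H = Cfsg.Geo.subspaceStabilizer (Submodule.span F {v}) ⊓ Cfsg.Geo.omegaGL Q) ∨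
    ((∃ p : ℕ, p.Prime ∧ Odd p ∧ Fintype.card F = p) ∧ ∃ D : Fin 12 → Submodule F (Fin 12 → F), Cfsg.Geo.IsOrthogonalMDecomposition Q 1 D ∧ H = Cfsg.Geo.decompositionStabilizer D ⊓ Cfsg.Geo.omegaGL Q) ∨
    (7 ≤ Fintype.card F ∧ ∃ D : Fin 6 → Submodule F (Fin 12 → F), Cfsg.Geo.IsOrthogonalMDecomposition Q 2 D ∧ (∀ i, Cfsg.Geo.IsPlusTypeOn Q (D i)) ∧ H = Cfsg.Geo.decompositionStabilizer D ⊓ Cfsg.Geo.omegaGL Q) ∨
    (Fintype.card F ≠ 3 ∧ ∃ D : Fin 6 → Submodule F (Fin 12 → F), Cfsg.Geo.IsOrthogonalMDecomposition Q 2 D ∧ (∀ i, ¬ Cfsg.Geo.IsPlusTypeOn Q (D i)) ∧ H = Cfsg.Geo.decompositionStabilizer D ⊓ Cfsg.Geo.omegaGL Q) ∨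
    (Odd (Fintype.card F) ∧ 5 ≤ Fintype.card F ∧ ∃ D : Fin 4 → Submodule F (Fin 12 → F), Cfsg.Geo.IsOrthogonalMDecomposition Q 3 D ∧ H = Cfsg.Geo.decompositionStabilizer D ⊓ Cfsg.Geo.omegaGL Q) ∨
    (3 ≤ Fintype.card F ∧ ∃ D : Fin 3 → Submodule F (Fin 12 → F), Cfsg.Geo.IsOrthogonalMDecomposition Q 4 D ∧ H = Cfsg.Geo.decompositionStabilizer D ⊓ Cfsg.Geo.omegaGL Q) ∨
    (∃ D : Fin 2 → Submodule F (Fin 12 → F), Cfsg.Geo.IsOrthogonalMDecomposition Q 6 D ∧ H = Cfsg.Geo.decompositionStabilizer D ⊓ Cfsg.Geo.omegaGL Q) ∨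
    (∃ D : Fin 2 → Submodule F (Fin 12 → F), Cfsg.Geo.IsMDecomposition 6 D ∧ (∀ i, Cfsg.Geo.IsTotallySingularQuad Q (D i)) ∧ H = Cfsg.Geo.decompositionStabilizer D ⊓ Cfsg.Geo.omegaGL Q) ∨
    (∃ K : Subalgebra F (Matrix (Fin 12) (Fin 12) F), Cfsg.Geo.IsFieldSubalgebra 2 K ∧ H = Cfsg.Geo.subalgebraNormalizer K ⊓ Cfsg.Geo.omegaGL Q) ∨
    (∃ K : Subalgebra F (Matrix (Fin 12) (Fin 12) F), Cfsg.Geo.IsFieldSubalgebra 3 K ∧ H = Cfsg.Geo.subalgebraNormalizer K ⊓ Cfsg.Geo.omegaGL Q) ∨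
    (∃ K : Subalgebra F (Matrix (Fin 12) (Fin 12) F), Cfsg.Geo.IsFieldSubalgebra 2 K ∧ Cfsg.Geo.IsAdjointClosedFor (QuadraticMap.polar Q) K ∧ ¬ Cfsg.Geo.IsSelfAdjointFor (QuadraticMap.polar Q) K ∧ (∀ k ∈ K, ∃ c : F, ∀ v : (Fin 12 → F), Q (Matrix.mulVec k v) = c * Q v) ∧ H = Cfsg.Geo.subalgebraNormalizer K ⊓ Cfsg.Geo.omegaGL Q) ∨
    (3 ≤ Fintype.card F ∧ ∃ (e : Fin 12 ≃ Fin 2 × Fin 6) (P : Matrix.GeneralLinearGroup (Fin 12) F) (f₁ : (Fin 2 → F) → (Fin 2 → F) → F) (f₂ : (Fin 6 → F) → (Fin 6 → F) → F), Cfsg.Geo.IsSymplecticForm f₁ ∧ Cfsg.Geo.IsSymplecticForm f₂ ∧ Cfsg.Geo.IsTensorFormStructure id (QuadraticMap.polar Q) f₁ f₂ e P ∧ (∀ (x₁ : Fin 2 → F) (x₂ : Fin 6 → F), Q (Matrix.mulVec (P : Matrix (Fin 12) (Fin 12) F) ((fun a : Fin 2 × Fin 6 => x₁ a.1 * x₂ a.2) ∘ e)) = 0) ∧ H = Cfsg.Geo.tensorProductSubgroup 2 6 e P ⊓ Cfsg.Geo.omegaGL Q) ∨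
    (∃ (F₀ : Subfield F) (r : ℕ) (P : Matrix.GeneralLinearGroup (Fin 12) F) (ζ : F), r.Prime ∧ Fintype.card F = Nat.card F₀ ^ r ∧ ζ ≠ 0 ∧ Cfsg.Geo.IsQuadFormRationalStructure (fun v : Fin 12 → F => ζ * Q v) F₀ P ∧ H = Cfsg.Geo.subfieldSubgroup F₀ P ⊓ Cfsg.Geo.omegaGL Q) ∨
    Cfsg.Geo.InOrthogonalResidualClass H := by
  classical
  obtain ⟨R, rfl, hR⟩ : ∃ R : QuadraticForm F (Fin 12 → F), ⇑R = Q ∧ (QuadraticMap.polarBilin R).Nondegenerate :=
    ⟨Forms.bundleQuad Q hQ, Forms.coe_bundleQuad Q hQ, Forms.nondegenerate_bundleQuad Q hQ⟩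
  have hn : Fintype.card (Fin 12) = 12 := Fintype.card_fin 12
  have hq3 : Odd (Fintype.card F) → 3 ≤ Fintype.card F := fun ⟨j, hj⟩ => by
    have := Fintype.one_lt_card (α := F); omega
  rcases class_or_residual hR (Or.inr (Or.inr hn)) (le_isometryGroup hH) with h | h | ⟨r, K, hr, hdvd, hK, hle, -⟩ |
    ⟨d, m, e, B, G₁, G₂, hd, hm, hle, hgram, -, hor⟩ | h | h | h
  · rcases subspaceCase_max hR (by omega) (by rw [hn]; decide) hH h with ⟨W, h0, hts, he⟩ |
      ⟨ho, W, h0, h1, hd, hnd, he⟩ | h | h | ⟨W, hnd, hev, h4, hle, he⟩ | h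
    · by_cases h5 : Module.finrank F W = 5
      · obtain ⟨W₁, h01, hts1, hd1, hle1⟩ := exists_maximal_singular hR hplus hts (by omega) h5 hn
        exact Or.inl (⟨W₁, h01, hts1, by omega, eq_of_singular hR (by omega) hH h01 hts1 (he.le.trans hle1)⟩)
      · exact Or.inl (⟨W, h0, hts, h5, he⟩)
    · exact Or.inr (Or.inl (⟨ho, W, h0, h1, hd, by obtain ⟨j, hj⟩ := hd; omega, hnd, he⟩))
    · exact Or.inr (Or.inr (Or.inl (h)))
    · exact Or.inr (Or.inr (Or.inr (Or.inl (h))))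
    · by_cases h6 : Module.finrank F W = 6
      · have hU := nondegenerateOn_polarPerp hR hnd
        have hUd : Module.finrank F (polarPerp R W) = 2 * 3 := by rw [finrank_polarPerp hR]; omega
        have hiff := isPlusTypeOn_sup_iff hnd hU (fun a ha b hb => mem_polarPerp.mp hb a ha)
          (show 1 ≤ 3 by omega) (show 1 ≤ 3 by omega) (show Module.finrank F W = 2 * 3 by omega) hUd
        rw [(SingMax.isCompl_polarPerp hR hnd).sup_eq_top] at hiff
        obtain ⟨-, hleD, hD⟩ := decomposition_of_halves hR hnd (k := 6) (by omega) h6 hn (le_isometryGroup hH)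
          (he.le.trans inf_le_left)
        have hD' := hD (areIsometricFor_of_type hnd hU (show 1 ≤ 3 by omega) (by omega) hUd (hiff.mp hplus))
        exact Or.inr (Or.inr (Or.inr (Or.inr (Or.inr (Or.inr (Or.inr (Or.inr (Or.inr (Or.inr (Or.inr (Or.inl (⟨_, hD', eq_inf_of_maximal_le hH hleD (OrthEven.not_le_decompositionStabilizer hR (by omega) (by omega) (by omega) hD'.decomp.decomp)⟩))))))))))))
      · exact Or.inr (Or.inr (Or.inr (Or.inr (Or.inl (⟨W, by obtain ⟨j, hj⟩ := hev; omega, hnd, he⟩)))))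
    · exact Or.inr (Or.inr (Or.inr (Or.inr (Or.inr (Or.inl (h))))))
  · rcases h with ⟨t, k, D, hD, hle⟩ | ⟨k, D, hk, hD, hts, hle⟩
    · have hcard := isMDecomposition_card hD.decomp.decomp
      rw [hn] at hcard
      have h2 := hD.decomp.decomp.two_le
      have hk0 := hD.decomp.decomp.pos
      have heq := eq_inf_of_maximal_le hH hle
        (OrthEven.not_le_decompositionStabilizer hR (by omega) (by omega) (by omega) hD.decomp.decomp)
      have hoddk : Odd k → Odd (Fintype.card F) := fun hko => odd_card fun h20 => by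
        have := even_finrank_of_nondegenerateOn h20 (hD.decomp.nondegenerate ⟨0, by omega⟩)
        rw [hD.decomp.decomp.finrank_eq] at this
        exact (Nat.not_even_iff_odd.mpr hko) this
      have ht : t ≤ 12 := by nlinarith
      obtain ⟨rfl, rfl⟩ | ⟨rfl, rfl⟩ | ⟨rfl, rfl⟩ | ⟨rfl, rfl⟩ | ⟨rfl, rfl⟩ :
          (t = 12 ∧ k = 1) ∨ (t = 6 ∧ k = 2) ∨ (t = 4 ∧ k = 3) ∨ (t = 3 ∧ k = 4) ∨ (t = 2 ∧ k = 6) := by
        interval_cases t <;> omega
      · have ho := hoddk odd_one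
        by_cases hp : (Fintype.card F).Prime
        · exact Or.inr (Or.inr (Or.inr (Or.inr (Or.inr (Or.inr (Or.inl (⟨⟨Fintype.card F, hp, ho, rfl⟩, D, hD, heq⟩)))))))
        · exact Or.inr (Or.inr (Or.inr (Or.inr (Or.inr (Or.inr (Or.inr (Or.inr (Or.inr (Or.inr (Or.inr (Or.inr (Or.inr (Or.inr (Or.inr (Or.inr (Or.inr (Or.inl (subfieldCase_max hR (by omega) hH (subfieldCase_of_frame hR (two_ne_zero_of_odd ho) hp (le_isometryGroup hH) hD hle)))))))))))))))))))
      · have hsmall : ((∀ i, IsPlusTypeOn (⇑R) (D i)) ∧ Fintype.card F < 7) ∨ Fintype.card F = 3 → False := by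
          intro hc
          refine false_of_between hH hle (exists_between_small (n := 12) (by norm_num) (⇑R) hQ 2 D hD (fun _ => by norm_num)
            (fun h => absurd h (by norm_num)) (Or.inl ⟨rfl, ?_⟩))
          rcases hc with ⟨hp, hlt⟩ | hc
          · have := Fintype.one_lt_card (α := F)
            have h6 : Fintype.card F ≠ 6 := fun h6 => by
              have h := FiniteField.isPrimePow_card F
              rw [h6, isPrimePow_nat_iff_bounded] at h
              revert h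
              decide
            exact (show Fintype.card F = 3 ∨ Fintype.card F ≠ 3 from em _).imp id fun h3 => ⟨hp, by omega⟩
          · exact Or.inl hc
        by_cases hp : ∀ i, IsPlusTypeOn (⇑R) (D i)
        · by_cases h7 : 7 ≤ Fintype.card F
          · exact Or.inr (Or.inr (Or.inr (Or.inr (Or.inr (Or.inr (Or.inr (Or.inl (⟨h7, D, hD, hp, heq⟩))))))))
          · exact (hsmall (Or.inl ⟨hp, by omega⟩)).elim
        · obtain ⟨i₀, hi₀⟩ := not_forall.mp hp
          by_cases h3 : Fintype.card F = 3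
          · exact (hsmall (Or.inr h3)).elim
          · exact Or.inr (Or.inr (Or.inr (Or.inr (Or.inr (Or.inr (Or.inr (Or.inr (Or.inl (⟨h3, D, hD, fun i hi => hi₀ ((isPlusTypeOn_of_isometric (hD.isometric i i₀)).mp hi), heq⟩)))))))))
      · have ho := hoddk (by decide)
        by_cases h5 : 5 ≤ Fintype.card F
        · exact Or.inr (Or.inr (Or.inr (Or.inr (Or.inr (Or.inr (Or.inr (Or.inr (Or.inr (Or.inl (⟨ho, h5, D, hD, heq⟩))))))))))
        · exact (false_of_between hH hle (exists_between_small (n := 12) (by norm_num) (⇑R) hQ 3 D hD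
            (fun h => absurd h (by norm_num)) (fun _ => by norm_num)
            (Or.inr (Or.inl ⟨rfl, by have := hq3 ho; obtain ⟨j, hj⟩ := ho; omega⟩)))).elim
      · by_cases h3 : 3 ≤ Fintype.card F
        · exact Or.inr (Or.inr (Or.inr (Or.inr (Or.inr (Or.inr (Or.inr (Or.inr (Or.inr (Or.inr (Or.inl (⟨h3, D, hD, heq⟩)))))))))))
        · exact (false_of_between hH hle (exists_between_small (n := 12) (by norm_num) (⇑R) hQ 4 D hD
            (fun h => absurd h (by norm_num)) (fun h => absurd h (by norm_num))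
            (Or.inr (Or.inr ⟨rfl, by have := Fintype.one_lt_card (α := F); omega,
              fun i => (plus_iff_member (a := 2) hD (by decide) i).mpr hplus⟩)))).elim
      · exact Or.inr (Or.inr (Or.inr (Or.inr (Or.inr (Or.inr (Or.inr (Or.inr (Or.inr (Or.inr (Or.inr (Or.inl (⟨D, hD, heq⟩))))))))))))
    · obtain rfl : k = 6 := by omega
      exact Or.inr (Or.inr (Or.inr (Or.inr (Or.inr (Or.inr (Or.inr (Or.inr (Or.inr (Or.inr (Or.inr (Or.inr (Or.inl (⟨D, hD, hts, eq_inf_of_maximal_le hH hle (OrthEven.not_le_decompositionStabilizer hR (by omega) (by omega) (by omega) hD)⟩)))))))))))))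
  · have heq := eq_inf_of_maximal_le hH hle (OrthEven.not_le_subalgebraNormalizer hR (by omega) hr.two_le hK)
    obtain rfl | rfl : r = 2 ∨ r = 3 := by
      have h1 := Nat.le_of_dvd (by omega) hdvd
      rw [hn] at hdvd h1
      interval_cases r <;> first | omega | (exfalso; revert hr hdvd; decide)
    · exact Or.inr (Or.inr (Or.inr (Or.inr (Or.inr (Or.inr (Or.inr (Or.inr (Or.inr (Or.inr (Or.inr (Or.inr (Or.inr (Or.inl (⟨K, hK, heq⟩))))))))))))))
    · exact Or.inr (Or.inr (Or.inr (Or.inr (Or.inr (Or.inr (Or.inr (Or.inr (Or.inr (Or.inr (Or.inr (Or.inr (Or.inr (Or.inr (Or.inl (⟨K, hK, heq⟩)))))))))))))))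
  · have hcard := Fintype.card_congr e
    rw [hn, Fintype.card_prod, Fintype.card_fin, Fintype.card_fin] at hcard
    obtain ⟨G, hF, hG⟩ := exists_polarGram hR
    have htensor : ∀ (e : Fin 12 ≃ Fin 2 × Fin 6) (B : GL (Fin 12) F) (K₁ : GL (Fin 2) F) (K₂ : GL (Fin 6) F),
        gramIn (RingEquiv.refl F) G e B = (K₁ : Matrix (Fin 2) (Fin 2) F) ⊗ₖ (K₂ : Matrix (Fin 6) (Fin 6) F) →
        IsSymplecticForm (formM (RingEquiv.refl F) (K₁ : Matrix (Fin 2) (Fin 2) F)) →
        IsSymplecticForm (formM (RingEquiv.refl F) (K₂ : Matrix (Fin 6) (Fin 6) F)) →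
        (∀ x y, R (frameVec e B (pure2 x y)) = 0) → H ≤ tensorProductSubgroup 2 6 e B →
        3 ≤ Fintype.card F ∧ ∃ (e : Fin 12 ≃ Fin 2 × Fin 6) (P : Matrix.GeneralLinearGroup (Fin 12) F)
          (f₁ : (Fin 2 → F) → (Fin 2 → F) → F) (f₂ : (Fin 6 → F) → (Fin 6 → F) → F),
          IsSymplecticForm f₁ ∧ IsSymplecticForm f₂ ∧
          IsTensorFormStructure id (QuadraticMap.polar ⇑R) f₁ f₂ e P ∧
          (∀ (x₁ : Fin 2 → F) (x₂ : Fin 6 → F), R (Matrix.mulVec (P : Matrix (Fin 12) (Fin 12) F)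
            ((fun a : Fin 2 × Fin 6 => x₁ a.1 * x₂ a.2) ∘ e)) = 0) ∧
          H = tensorProductSubgroup 2 6 e P ⊓ omegaGL ⇑R := by
      intro e B K₁ K₂ hA h₁ h₂ hpure hle
      refine ⟨?_, e, B, _, _, h₁, h₂, ?_, hpure, eq_inf_of_maximal_le hH hle
        (OrthEven.not_le_tensorProductSubgroup hR (by omega) (by omega) (by omega) (by omega) e B)⟩
      · by_contra hq
        exact false_of_tensor_two hR (by have := Fintype.one_lt_card (α := F); omega) (by norm_num) (by norm_num) hH hG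
          hA h₁ h₂ hpure hle
      · rw [show polar ⇑R = formM (RingEquiv.refl F) (G : Matrix (Fin 12) (Fin 12) F) from
          funext fun u => funext (hG u), show (id : F → F) = ⇑(RingEquiv.refl F) from rfl]
        exact tensorFormStructure_of_gram one_ne_zero (by rw [one_smul]; exact hA)
    obtain ⟨rfl, rfl⟩ | ⟨rfl, rfl⟩ | ⟨rfl, rfl⟩ | ⟨rfl, rfl⟩ :
        (d = 2 ∧ m = 6) ∨ (d = 6 ∧ m = 2) ∨ (d = 3 ∧ m = 4) ∨ (d = 4 ∧ m = 3) := by
      have : d ≤ 6 := by nlinarith
      interval_cases d <;> omega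
    rotate_left 2
    iterate 2
      rcases hor with ⟨h₁, h₂, -⟩ | ⟨ho, hs₁, hs₂⟩
      · first
          | exact absurd (even_of_symplectic h₁) (by decide)
          | exact absurd (even_of_symplectic h₂) (by decide)
      have h20 := two_ne_zero_of_odd ho
      obtain ⟨e', A₁, A₂, hs₁', hs₂', hA, hle'⟩ : ∃ (e' : Fin 12 ≃ Fin 3 × Fin 4) (A₁ : GL (Fin 3) F)
          (A₂ : GL (Fin 4) F), IsSymmetricForm (formM (RingEquiv.refl F) (A₁ : Matrix (Fin 3) (Fin 3) F)) ∧
          IsSymmetricForm (formM (RingEquiv.refl F) (A₂ : Matrix (Fin 4) (Fin 4) F)) ∧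
          gramIn (RingEquiv.refl F) G e' B = (A₁ : Matrix (Fin 3) (Fin 3) F) ⊗ₖ (A₂ : Matrix (Fin 4) (Fin 4) F) ∧
          H ≤ tensorProductSubgroup 3 4 e' B := by
        first
          | exact ⟨e, G₁, G₂, hs₁, hs₂, hgram G hG, hle⟩
          | (obtain ⟨e', hle', hA'⟩ := tensor_swap (hgram G hG)
             exact ⟨e', G₂, G₁, hs₂, hs₁, hA', hle.trans hle'⟩)
      have hf₂ := ((plus_iff_of_tensor_sym (a := 2) h20 hG (by omega) (by omega) rfl hA hs₁').mp hplus).resolve_right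
        (by decide)
      obtain ⟨e₂, B₂, K₁, K₂, hA2, h₁', h₂', hpure2, hle2⟩ :=
        exists_two_six hR h20 hG hH.1.le hA hs₁' hs₂' hf₂ hle'
      exact Or.inr (Or.inr (Or.inr (Or.inr (Or.inr (Or.inr (Or.inr (Or.inr (Or.inr (Or.inr (Or.inr (Or.inr (Or.inr (Or.inr (Or.inr (Or.inr (Or.inl (htensor e₂ B₂ K₁ K₂ hA2 h₁' h₂' hpure2 hle2)))))))))))))))))
    iterate 2
      obtain ⟨e', A₁, A₂, hA, hle', hor'⟩ : ∃ (e' : Fin 12 ≃ Fin 2 × Fin 6) (A₁ : GL (Fin 2) F)
          (A₂ : GL (Fin 6) F),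
          gramIn (RingEquiv.refl F) G e' B = (A₁ : Matrix (Fin 2) (Fin 2) F) ⊗ₖ (A₂ : Matrix (Fin 6) (Fin 6) F) ∧
          H ≤ tensorProductSubgroup 2 6 e' B ∧
          ((IsSymplecticForm (formM (RingEquiv.refl F) (A₁ : Matrix (Fin 2) (Fin 2) F)) ∧
            IsSymplecticForm (formM (RingEquiv.refl F) (A₂ : Matrix (Fin 6) (Fin 6) F)) ∧
            ∀ x y, R (frameVec e' B (pure2 x y)) = 0) ∨
          (Odd (Fintype.card F) ∧ IsSymmetricForm (formM (RingEquiv.refl F) (A₁ : Matrix (Fin 2) (Fin 2) F)))) := by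
        first
          | exact ⟨e, G₁, G₂, hgram G hG, hle, hor.imp id fun h => ⟨h.1, h.2.1⟩⟩
          | (refine ⟨e.trans (Equiv.prodComm _ _), G₂, G₁, gramIn_swap (hgram G hG),
               hle.trans (tensorProduct_le_swap e B), hor.imp (fun h => ⟨h.2.1, h.1, fun x y => ?_⟩) fun h => ⟨h.1, h.2.2⟩⟩
             have hsw := h.2.2 y x
             have heq : frameVec (e.trans (Equiv.prodComm _ _)) B (pure2 x y) = frameVec e B (pure2 y x) := by
               simp only [frameVec, pure2]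
               congr 1
               funext a
               exact mul_comm _ _
             rw [heq]
             exact hsw)
      rcases hor' with ⟨h₁, h₂, hpure⟩ | ⟨ho, hs₁⟩
      · exact Or.inr (Or.inr (Or.inr (Or.inr (Or.inr (Or.inr (Or.inr (Or.inr (Or.inr (Or.inr (Or.inr (Or.inr (Or.inr (Or.inr (Or.inr (Or.inr (Or.inl (htensor e' B A₁ A₂ hA h₁ h₂ hpure hle')))))))))))))))))
      have h20 := two_ne_zero_of_odd ho
      obtain ⟨k, δ, hδ, hk, hskew, hconj⟩ :=
        skew_of_tensor_two (le_isometryGroup hH) hG (by omega) hA hs₁ hle'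
      rcases skew_case hR h20 (by omega) hδ hk hskew hconj with ⟨K, hK, -, -, -, hleK⟩ | ⟨j, D, hj, hD, hts, hleD⟩
      · exact Or.inr (Or.inr (Or.inr (Or.inr (Or.inr (Or.inr (Or.inr (Or.inr (Or.inr (Or.inr (Or.inr (Or.inr (Or.inr (Or.inl (⟨K, hK, eq_inf_of_maximal_le hH hleK (OrthEven.not_le_subalgebraNormalizer hR (by omega) le_rfl hK)⟩))))))))))))))
      · obtain rfl : j = 6 := by omega
        exact Or.inr (Or.inr (Or.inr (Or.inr (Or.inr (Or.inr (Or.inr (Or.inr (Or.inr (Or.inr (Or.inr (Or.inr (Or.inl (⟨D, hD, hts, eq_inf_of_maximal_le hH hleD (OrthEven.not_le_decompositionStabilizer hR (by omega) (by omega) (by omega) hD)⟩)))))))))))))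
  · omega
  · exact Or.inr (Or.inr (Or.inr (Or.inr (Or.inr (Or.inr (Or.inr (Or.inr (Or.inr (Or.inr (Or.inr (Or.inr (Or.inr (Or.inr (Or.inr (Or.inr (Or.inr (Or.inl (subfieldCase_max hR (by omega) hH h))))))))))))))))))
  · exact Or.inr (Or.inr (Or.inr (Or.inr (Or.inr (Or.inr (Or.inr (Or.inr (Or.inr (Or.inr (Or.inr (Or.inr (Or.inr (Or.inr (Or.inr (Or.inr (Or.inr (Or.inr ((h)))))))))))))))))))


end Cfsg.Agent.S5871
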