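import Cfsg.Statements.S5873
import Cfsg.Agent.Lib.SingMax.NonDegSix
import Cfsg.Agent.Lib.SingMax.PointNine
import Cfsg.Agent.Lib.SingMax.Basic
import Cfsg.Agent.Lib.OrthSubfield.Nine
import Cfsg.Agent.Lib.OrthMax.EvenDim
import Cfsg.Agent.Lib.OrthExt.Standard
import Cfsg.Agent.Lib.TensorThreeFour.Main

set_option autoImplicit false
set_option linter.style.haveILetI false
open Cfsg

namespace Cfsg.Agent.S5873

open Cfsg.Agent.Lib in
theorem nondeg {F : Type*} [Field F] [Fintype F] (Q : (Fin 12 → F) → F)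
    (hQ : Cfsg.Geo.IsNondegenerateQuadraticForm Q) (hminus : ¬ Cfsg.Geo.IsPlusTypeOn Q ⊤)
    (W : Submodule F (Fin 12 → F)) (hW0 : W ≠ ⊥) (hW1 : W ≠ ⊤)
    (hhalf : 2 * Module.finrank F W = 12 → Even (Module.finrank F W))
    (h10 : Module.finrank F W ≠ 10)
    (hex : Module.finrank F W = 2 → Cfsg.Geo.IsPlusTypeOn Q W → 4 ≤ Fintype.card F)
    (hW : Cfsg.Geo.IsNondegenerateOn (QuadraticMap.polar Q) W) :
    Cfsg.Geo.IsMaximalIn (Cfsg.Geo.omegaGL Q) (Cfsg.Geo.subspaceStabilizer W ⊓ Cfsg.Geo.omegaGL Q) := by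
  have hQ' := Forms.nondegenerate_bundleQuad Q hQ
  have hdU := MaxClass.finrank_polarPerp hQ' W
  have hdW := Submodule.finrank_le W
  rw [Module.finrank_fin_fun] at hdW
  rw [Fintype.card_fin] at hdU
  refine SingMax.isMaximalIn_nondegenerate_six hQ' (by simp) hW (by rw [Fintype.card_fin]; omega) hW0 hW1 ?_ ?_ ?_
  · intro h g hg hsw
    rw [Fintype.card_fin] at h
    obtain ⟨j, hj⟩ := hhalf h
    exact hminus (SingMax.plusType_of_swap hQ' hW (j := j) (by omega) (by simpa using h) hg hsw)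
  · rintro ⟨hq, hd, hp⟩
    have := hex hd hp
    omega
  · rintro ⟨-, hd, -⟩
    omega
open Cfsg.Agent.Lib in
theorem extField {F : Type*} [Field F] [Fintype F] (Q : (Fin 12 → F) → F)
    (hQ : Cfsg.Geo.IsNondegenerateQuadraticForm Q) (hodd : Odd (Fintype.card F)) (r : ℕ) (hr : r.Prime)
    (hr3 : r ≤ 3) (K : Subalgebra F (Matrix (Fin 12) (Fin 12) F)) (hK : Cfsg.Geo.IsFieldSubalgebra r K)
    (hsa : Cfsg.Geo.IsSelfAdjointFor (QuadraticMap.polar Q) K) :
    Cfsg.Geo.IsMaximalIn (Cfsg.Geo.omegaGL Q) (Cfsg.Geo.subalgebraNormalizer K ⊓ Cfsg.Geo.omegaGL Q) := by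
  have hQ' := Forms.nondegenerate_bundleQuad Q hQ
  refine OrthExt.isMaximalIn_extField (Q := Forms.bundleQuad Q hQ)
    ⟨OrthMax.two_ne_zero_of_odd hodd, fun z hz => hQ'.1 z hz⟩ r hr
    (by rw [Fintype.card_fin]; omega) (fun _ => by rw [Fintype.card_fin]; omega) K hK hsa ?_
  intro E _ _ _ _ _ D M hE hO a ha b hb
  refine OrthExt.commutator_mem_four hO ?_ ha hb
  have h := Module.finrank_mul_finrank F E (Fin 12 → F)
  rw [hE, Module.finrank_fin_fun] at h
  by_contra hlt
  have := Nat.mul_le_mul (Nat.le_refl r) (show Module.finrank E (Fin 12 → F) ≤ 3 by omega)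
  omega

/-- Maximal subgroups of Ω_12^-(q) of geometric type (any q). Let F be a finite field with q elements (characteristic p), Q a non-degenerate quadratic form on F^12 (non-degenerate polar form) of minus type (Witt index 5: no totally singular 6-space), and Ω = Ω_12^-(q) the commutator subgroup of the isometry group of Q, inside GL_12(F). Each of the following, intersected with Ω, is a maximal subgroup of Ω: (1) the stabiliser of any non-zero subspace on which Q vanishes identically (totally singular subspaces, dimensions 1 to 5); (2) for q odd, the stabiliser of any subspace of odd dimension on which the polar form of Q is non-degenerate; (3) the stabiliser of any non-degenerate 2-space of minus type (containing no non-zero singular vector); (4) for q ≥ 4, the stabiliser of any non-degenerate 2-space of plus type (containing a non-zero singular vector); (5) the stabiliser of any non-degenerate 4-space (either type); (6) the stabiliser of any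 non-degenerate 6-space (either type); (7) for q even, the stabiliser of the 1-space spanned by any non-singular vector v (Q(v) ≠ 0); (8) the stabiliser of any decomposition of F^12 into 3 pairwise orthogonal, pairwise Q-isometric non-degenerate 4-spaces of minus type; (9) for q odd, the normaliser of any degree-2 subfield K of the matrix algebra whose elements are self-adjoint for the polar form of Q (Q is then the trace of a quadratic form over K); (10) for q odd, the normaliser of any degree-3 subfield K of the matrix algebra whose elements are self-adjoint for the polar form of Q (Q is then the trace of a quadratic form over K); (11) for q odd with q ≥ 5, the stabiliser of any tensor decomposition F^12 = F^3 ⊗ F^4 in which the polar form of Q is the product of non-degenerate symmetric bilinear forms, the second of minus type, up to a scalar; (12) every subfield group for a subfield F₀ with |F| = |F₀|^r, r an odd prime, whose F₀-structure carries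 a non-zero scalar multiple of Q. -/
theorem result {F : Type*} [Field F] [Fintype F] (Q : (Fin 12 → F) → F) (hQ : Cfsg.Geo.IsNondegenerateQuadraticForm Q) (hminus : ¬ Cfsg.Geo.IsPlusTypeOn Q ⊤) :
    (∀ W : Submodule F (Fin 12 → F), W ≠ ⊥ → Cfsg.Geo.IsTotallySingularQuad Q W → Cfsg.Geo.IsMaximalIn (Cfsg.Geo.omegaGL Q) (Cfsg.Geo.subspaceStabilizer W ⊓ Cfsg.Geo.omegaGL Q)) ∧
    (Odd (Fintype.card F) → ∀ W : Submodule F (Fin 12 → F), W ≠ ⊥ → W ≠ ⊤ → Odd (Module.finrank F W) → 2 * Module.finrank F W ≠ 12 → Cfsg.Geo.IsNondegenerateOn (QuadraticMap.polar Q) W → Cfsg.Geo.IsMaximalIn (Cfsg.Geo.omegaGL Q) (Cfsg.Geo.subspaceStabilizer W ⊓ Cfsg.Geo.omegaGL Q)) ∧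
    (∀ W : Submodule F (Fin 12 → F), Module.finrank F W = 2 → Cfsg.Geo.IsNondegenerateOn (QuadraticMap.polar Q) W → ¬ Cfsg.Geo.IsPlusTypeOn Q W → Cfsg.Geo.IsMaximalIn (Cfsg.Geo.omegaGL Q) (Cfsg.Geo.subspaceStabilizer W ⊓ Cfsg.Geo.omegaGL Q)) ∧
    (4 ≤ Fintype.card F → ∀ W : Submodule F (Fin 12 → F), Module.finrank F W = 2 → Cfsg.Geo.IsNondegenerateOn (QuadraticMap.polar Q) W → Cfsg.Geo.IsPlusTypeOn Q W → Cfsg.Geo.IsMaximalIn (Cfsg.Geo.omegaGL Q) (Cfsg.Geo.subspaceStabilizer W ⊓ Cfsg.Geo.omegaGL Q)) ∧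
    (∀ W : Submodule F (Fin 12 → F), Module.finrank F W = 4 → Cfsg.Geo.IsNondegenerateOn (QuadraticMap.polar Q) W → Cfsg.Geo.IsMaximalIn (Cfsg.Geo.omegaGL Q) (Cfsg.Geo.subspaceStabilizer W ⊓ Cfsg.Geo.omegaGL Q)) ∧
    (∀ W : Submodule F (Fin 12 → F), Module.finrank F W = 6 → Cfsg.Geo.IsNondegenerateOn (QuadraticMap.polar Q) W → Cfsg.Geo.IsMaximalIn (Cfsg.Geo.omegaGL Q) (Cfsg.Geo.subspaceStabilizer W ⊓ Cfsg.Geo.omegaGL Q)) ∧
    (¬ Odd (Fintype.card F) → ∀ v : (Fin 12 → F), Q v ≠ 0 → Cfsg.Geo.IsMaximalIn (Cfsg.Geo.omegaGL Q) (Cfsg.Geo.subspaceStabilizer (Submodule.span F {v}) ⊓ Cfsg.Geo.omegaGL Q)) ∧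
    (∀ D : Fin 3 → Submodule F (Fin 12 → F), Cfsg.Geo.IsOrthogonalMDecomposition Q 4 D → (∀ i, ¬ Cfsg.Geo.IsPlusTypeOn Q (D i)) → Cfsg.Geo.IsMaximalIn (Cfsg.Geo.omegaGL Q) (Cfsg.Geo.decompositionStabilizer D ⊓ Cfsg.Geo.omegaGL Q)) ∧
    (Odd (Fintype.card F) → ∀ K : Subalgebra F (Matrix (Fin 12) (Fin 12) F), Cfsg.Geo.IsFieldSubalgebra 2 K → Cfsg.Geo.IsSelfAdjointFor (QuadraticMap.polar Q) K → Cfsg.Geo.IsMaximalIn (Cfsg.Geo.omegaGL Q) (Cfsg.Geo.subalgebraNormalizer K ⊓ Cfsg.Geo.omegaGL Q)) ∧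
    (Odd (Fintype.card F) → ∀ K : Subalgebra F (Matrix (Fin 12) (Fin 12) F), Cfsg.Geo.IsFieldSubalgebra 3 K → Cfsg.Geo.IsSelfAdjointFor (QuadraticMap.polar Q) K → Cfsg.Geo.IsMaximalIn (Cfsg.Geo.omegaGL Q) (Cfsg.Geo.subalgebraNormalizer K ⊓ Cfsg.Geo.omegaGL Q)) ∧
    (Odd (Fintype.card F) ∧ 5 ≤ Fintype.card F → ∀ (e : Fin 12 ≃ Fin 3 × Fin 4) (P : Matrix.GeneralLinearGroup (Fin 12) F) (f₁ : (Fin 3 → F) → (Fin 3 → F) → F) (f₂ : (Fin 4 → F) → (Fin 4 → F) → F), Cfsg.Geo.IsSymmetricForm f₁ → Cfsg.Geo.IsSymmetricForm f₂ → ¬ Cfsg.Geo.IsPlusTypeOn (fun v : Fin 4 → F => f₂ v v) ⊤ → Cfsg.Geo.IsTensorFormStructure id (QuadraticMap.polar Q) f₁ f₂ e P → Cfsg.Geo.IsMaximalIn (Cfsg.Geo.omegaGL Q) (Cfsg.Geo.tensorProductSubgroup 3 4 e P ⊓ Cfsg.Geo.omegaGL Q)) ∧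
    (∀ (F₀ : Subfield F) (r : ℕ) (P : Matrix.GeneralLinearGroup (Fin 12) F) (ζ : F), r.Prime → Odd r → Fintype.card F = Nat.card F₀ ^ r → ζ ≠ 0 → Cfsg.Geo.IsQuadFormRationalStructure (fun v : Fin 12 → F => ζ * Q v) F₀ P → Cfsg.Geo.IsMaximalIn (Cfsg.Geo.omegaGL Q) (Cfsg.Geo.subfieldSubgroup F₀ P ⊓ Cfsg.Geo.omegaGL Q)) := by
  classical
  open Cfsg.Agent.Lib in
  have hQ' := Forms.nondegenerate_bundleQuad Q hQ
  open Cfsg.Agent.Lib in
  refine ⟨fun W hW0 hW => ?_, fun _ W hW0 hW1 hodd hne hW => ?_, fun W hd hW hm => ?_, fun h4 W hd hW hp => ?_,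
    fun W hd hW => ?_, fun W hd hW => ?_, fun hev v hv => ?_, fun D hD hDm => ?_, fun _ K hK hKsa => ?_,
    fun _ K hK hKsa => ?_, fun hq e P f₁ f₂ hf₁ hf₂ hm hT => ?_, fun F₀ r P ζ hr _ hc hζ hP => ?_⟩
  · exact Cfsg.Agent.Lib.SingMax.isMaximalIn_singular hQ' (by simp) W hW0 hW fun _ U hU hd =>
      hminus ⟨U, le_top, hU, by rw [finrank_top, Module.finrank_fin_fun]; simpa using hd⟩
  · exact nondeg Q hQ hminus W hW0 hW1 (fun h => absurd h hne) (by rintro h; obtain ⟨j, hj⟩ := hodd; omega)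
      (by rintro h; obtain ⟨j, hj⟩ := hodd; omega) hW
  · exact nondeg Q hQ hminus W (fun h => by rw [h] at hd; simp at hd) (fun h => by rw [h] at hd; simp at hd) (fun _ => ⟨1, hd⟩)
      (by omega) (fun _ hp => absurd hp hm) hW
  · exact nondeg Q hQ hminus W (fun h => by rw [h] at hd; simp at hd) (fun h => by rw [h] at hd; simp at hd) (fun _ => ⟨1, hd⟩)
      (by omega) (fun _ _ => h4) hW
  · exact nondeg Q hQ hminus W (fun h => by rw [h] at hd; simp at hd) (fun h => by rw [h] at hd; simp at hd) (fun _ => ⟨2, hd⟩)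
      (by omega) (by omega) hW
  · exact nondeg Q hQ hminus W (fun h => by rw [h] at hd; simp at hd) (fun h => by rw [h] at hd; simp at hd) (fun _ => ⟨3, hd⟩)
      (by omega) (by omega) hW
  · haveI : CharP F 2 := by
      refine ringChar.of_eq ?_
      by_contra h
      exact hev (Nat.odd_iff.mpr (FiniteField.odd_card_of_char_ne_two h))
    exact Cfsg.Agent.Lib.SingMax.Point.isMaximalIn_point hQ' (by simp) hv
  · have hc' := Cfsg.Agent.Lib.Forms.coe_bundleQuad Q hQ
    have h : Cfsg.Agent.Lib.OrthMax.Dec (Cfsg.Agent.Lib.Forms.bundleQuad Q hQ) 4 D :=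
      ⟨by rw [hc']; exact hD.decomp⟩
    have key := Cfsg.Agent.Lib.OrthMax.isMaximalIn_decomp hQ' (by simp) h (by omega) (fun h3 => absurd h3 (by omega))
      (fun _ _ i x hx z hz hxQ hzQ hxz hx0 => by
        by_contra hne
        push Not at hne
        have hli : LinearIndependent F ![x, z] := (LinearIndependent.pair_iff' hx0).mpr fun c hc'' => hne c hc''.symm
        refine hDm i ⟨Submodule.span F (Set.range ![x, z]), ?_, ?_, ?_⟩
        · rw [Submodule.span_le]
          rintro _ ⟨o, rfl⟩; fin_cases o <;> assumption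
        · intro y hy
          rw [Matrix.range_cons, Matrix.range_cons, Matrix.range_empty, Set.union_empty, Set.singleton_union,
            Submodule.mem_span_pair] at hy
          obtain ⟨a, b, rfl⟩ := hy
          rw [← hc', QuadraticMap.map_add (Cfsg.Agent.Lib.Forms.bundleQuad Q hQ), QuadraticMap.map_smul,
            QuadraticMap.map_smul, QuadraticMap.polar_smul_left, QuadraticMap.polar_smul_right, hxQ, hzQ, hxz]
          simp
        · rw [finrank_span_eq_card hli, h.finrank_eq, Fintype.card_fin])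
      (Or.inr fun i j => by rw [hc']; exact hD.isometric i j)
    rw [hc'] at key
    exact key
  · exact extField Q hQ ‹_› 2 Nat.prime_two (by norm_num) K hK hKsa
  · exact extField Q hQ ‹_› 3 Nat.prime_three le_rfl K hK hKsa
  · have hc' := Cfsg.Agent.Lib.Forms.coe_bundleQuad Q hQ
    have key := Cfsg.Agent.Lib.TensorThreeFour.isMaximalIn_tensor hQ'
      (Cfsg.Agent.Lib.OrthMax.two_ne_zero_of_odd hq.1) hq.2 hf₁ hf₂ hm (by rw [hc']; exact hT)
    rw [hc'] at key
    exact key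
  · rw [← Cfsg.Agent.Lib.OrthSubfield.omegaGL_smul Q hζ]
    set B := ζ • Cfsg.Agent.Lib.Forms.bundleQuad Q hQ with hB
    have hB' : (fun v => ζ * Q v) = ⇑B := rfl
    rw [hB'] at hP ⊢
    refine Cfsg.Agent.Lib.OrthSubfield.isMaximalIn_subfield_nine (fun z hz => ?_) (by simp) F₀ r hr
      (by rwa [Nat.card_eq_fintype_card]) P fun u => hP _ fun i => (u i).2
    refine hQ'.1 z fun w => ?_
    have h := hz w
    simp only [hB, QuadraticMap.polar, smul_eq_mul, QuadraticMap.smul_apply, ← mul_sub] at h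
    exact (mul_eq_zero.mp h).resolve_left hζ

end Cfsg.Agent.S5873
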