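import Cfsg.Statements.S5874
import Cfsg.Agent.Lib.MaxClass.OrthEven.Common
import Cfsg.Agent.Lib.MaxClass.OrthEven.Plus
import Cfsg.Agent.Lib.Forms.CharTwoPoints
import Cfsg.Agent.Lib.NonMax.OrthFrames


set_option autoImplicit false
set_option linter.style.haveILetI false
open Cfsg

namespace Cfsg.Agent.S5874

open Cfsg.Geo Matrix QuadraticMap Cfsg.Agent.Lib Cfsg.Agent.Lib.MaxClass Cfsg.Agent.Lib.MaxClass.OrthEven
open Cfsg.Agent.Lib.Aschbacher
open scoped Kronecker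


/-- Every maximal subgroup of Ω_12^-(q) is of one of the listed geometric types or lies in the residual class. Let F be a finite field with q elements (characteristic p), Q a non-degenerate quadratic form on F^12 of minus type (Witt index 5: no totally singular 6-space), Ω the commutator subgroup of its isometry group, and H a maximal subgroup of Ω (inside GL_12(F)). Then H is the intersection with Ω of one of: the stabiliser of a non-zero totally singular subspace; for q odd, the stabiliser of a non-degenerate subspace of odd dimension; the stabiliser of a non-degenerate 2-space of minus type; for q ≥ 4, the stabiliser of a non-degenerate 2-space of plus type; the stabiliser of a non-degenerate 4-space; the stabiliser of a non-degenerate 6-space; for q even, the stabiliser of the span of a non-singular vector; the stabiliser of a decomposition into 3 pairwise orthogonal, pairwise isometric non-degenerate 4-spaces of minus type;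 the normaliser of a degree-2 subfield of the matrix algebra; the normaliser of a degree-3 subfield of the matrix algebra; for q odd with q ≥ 5, the stabiliser of a tensor decomposition of the polar form into symmetric forms on F^3 and F^4 (minus type); a subfield group (|F| = |F₀|^r, r odd prime) whose F₀-structure carries a non-zero multiple of Q — or else H lies in the residual class of the orthogonal case (modulo scalars H is almost simple, with absolutely irreducible perfect socle preimage realisable over no proper subfield and fixing no non-degenerate unitary form). -/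
theorem result {F : Type*} [Field F] [Fintype F] (Q : (Fin 12 → F) → F) (hQ : Cfsg.Geo.IsNondegenerateQuadraticForm Q) (hminus : ¬ Cfsg.Geo.IsPlusTypeOn Q ⊤) (H : Subgroup (Matrix.GeneralLinearGroup (Fin 12) F)) (hH : Cfsg.Geo.IsMaximalIn (Cfsg.Geo.omegaGL Q) H) :
    (∃ W : Submodule F (Fin 12 → F), W ≠ ⊥ ∧ Cfsg.Geo.IsTotallySingularQuad Q W ∧ H = Cfsg.Geo.subspaceStabilizer W ⊓ Cfsg.Geo.omegaGL Q) ∨
    (Odd (Fintype.card F) ∧ ∃ W : Submodule F (Fin 12 → F), W ≠ ⊥ ∧ W ≠ ⊤ ∧ Odd (Module.finrank F W) ∧ 2 * Module.finrank F W ≠ 12 ∧ Cfsg.Geo.IsNondegenerateOn (QuadraticMap.polar Q) W ∧ H = Cfsg.Geo.subspaceStabilizer W ⊓ Cfsg.Geo.omegaGL Q) ∨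
    (∃ W : Submodule F (Fin 12 → F), Module.finrank F W = 2 ∧ Cfsg.Geo.IsNondegenerateOn (QuadraticMap.polar Q) W ∧ ¬ Cfsg.Geo.IsPlusTypeOn Q W ∧ H = Cfsg.Geo.subspaceStabilizer W ⊓ Cfsg.Geo.omegaGL Q) ∨
    (4 ≤ Fintype.card F ∧ ∃ W : Submodule F (Fin 12 → F), Module.finrank F W = 2 ∧ Cfsg.Geo.IsNondegenerateOn (QuadraticMap.polar Q) W ∧ Cfsg.Geo.IsPlusTypeOn Q W ∧ H = Cfsg.Geo.subspaceStabilizer W ⊓ Cfsg.Geo.omegaGL Q) ∨
    (∃ W : Submodule F (Fin 12 → F), Module.finrank F W = 4 ∧ Cfsg.Geo.IsNondegenerateOn (QuadraticMap.polar Q) W ∧ H = Cfsg.Geo.subspaceStabilizer W ⊓ Cfsg.Geo.omegaGL Q) ∨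
    (∃ W : Submodule F (Fin 12 → F), Module.finrank F W = 6 ∧ Cfsg.Geo.IsNondegenerateOn (QuadraticMap.polar Q) W ∧ H = Cfsg.Geo.subspaceStabilizer W ⊓ Cfsg.Geo.omegaGL Q) ∨
    (¬ Odd (Fintype.card F) ∧ ∃ v : (Fin 12 → F), Q v ≠ 0 ∧ H = Cfsg.Geo.subspaceStabilizer (Submodule.span F {v}) ⊓ Cfsg.Geo.omegaGL Q) ∨
    (∃ D : Fin 3 → Submodule F (Fin 12 → F), Cfsg.Geo.IsOrthogonalMDecomposition Q 4 D ∧ (∀ i, ¬ Cfsg.Geo.IsPlusTypeOn Q (D i)) ∧ H = Cfsg.Geo.decompositionStabilizer D ⊓ Cfsg.Geo.omegaGL Q) ∨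
    (∃ K : Subalgebra F (Matrix (Fin 12) (Fin 12) F), Cfsg.Geo.IsFieldSubalgebra 2 K ∧ H = Cfsg.Geo.subalgebraNormalizer K ⊓ Cfsg.Geo.omegaGL Q) ∨
    (∃ K : Subalgebra F (Matrix (Fin 12) (Fin 12) F), Cfsg.Geo.IsFieldSubalgebra 3 K ∧ H = Cfsg.Geo.subalgebraNormalizer K ⊓ Cfsg.Geo.omegaGL Q) ∨
    (Odd (Fintype.card F) ∧ 5 ≤ Fintype.card F ∧ ∃ (e : Fin 12 ≃ Fin 3 × Fin 4) (P : Matrix.GeneralLinearGroup (Fin 12) F) (f₁ : (Fin 3 → F) → (Fin 3 → F) → F) (f₂ : (Fin 4 → F) → (Fin 4 → F) → F), Cfsg.Geo.IsSymmetricForm f₁ ∧ Cfsg.Geo.IsSymmetricForm f₂ ∧ ¬ Cfsg.Geo.IsPlusTypeOn (fun v : Fin 4 → F => f₂ v v) ⊤ ∧ Cfsg.Geo.IsTensorFormStructure id (QuadraticMap.polar Q) f₁ f₂ e P ∧ H = Cfsg.Geo.tensorProductSubgroup 3 4 e P ⊓ Cfsg.Geo.omegaGL Q) ∨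
    (∃ (F₀ : Subfield F) (r : ℕ) (P : Matrix.GeneralLinearGroup (Fin 12) F) (ζ : F), r.Prime ∧ Odd r ∧ Fintype.card F = Nat.card F₀ ^ r ∧ ζ ≠ 0 ∧ Cfsg.Geo.IsQuadFormRationalStructure (fun v : Fin 12 → F => ζ * Q v) F₀ P ∧ H = Cfsg.Geo.subfieldSubgroup F₀ P ⊓ Cfsg.Geo.omegaGL Q) ∨
    Cfsg.Geo.InOrthogonalResidualClass H := by
  classical
  obtain ⟨R, rfl, hR⟩ : ∃ R : QuadraticForm F (Fin 12 → F), ⇑R = Q ∧ (QuadraticMap.polarBilin R).Nondegenerate :=
    ⟨Forms.bundleQuad Q hQ, Forms.coe_bundleQuad Q hQ, Forms.nondegenerate_bundleQuad Q hQ⟩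
  have hn : Fintype.card (Fin 12) = 12 := Fintype.card_fin 12
  rcases class_or_residual hR (Or.inr (Or.inr hn)) (le_isometryGroup hH) with h | h | ⟨r, K, hr, hdvd, hK, hle, -⟩ |
    ⟨d, m, e, B, G₁, G₂, hd, hm, hle, hgram, -, hor⟩ | h | h | h
  · rcases subspaceCase_max hR (by omega) (by rw [hn]; decide) hH h with ⟨W, h0, hts, he⟩ |
      ⟨ho, W, h0, h1, hd, hnd, he⟩ | h | h | ⟨W, hnd, hev, h4, hle, he⟩ | h
    · exact Or.inl (⟨W, h0, hts, he⟩)
    · exact Or.inr (Or.inl (⟨ho, W, h0, h1, hd, by obtain ⟨j, hj⟩ := hd; omega, hnd, he⟩))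
    · exact Or.inr (Or.inr (Or.inl (h)))
    · exact Or.inr (Or.inr (Or.inr (Or.inl (h))))
    · by_cases h6 : Module.finrank F W = 6
      · exact Or.inr (Or.inr (Or.inr (Or.inr (Or.inr (Or.inl (⟨W, h6, hnd, he⟩))))))
      · exact Or.inr (Or.inr (Or.inr (Or.inr (Or.inl (⟨W, by obtain ⟨j, hj⟩ := hev; omega, hnd, he⟩)))))
    · exact Or.inr (Or.inr (Or.inr (Or.inr (Or.inr (Or.inr (Or.inl (h)))))))
  · rcases h with ⟨t, k, D, hD, hle⟩ | ⟨k, D, hk, hD, hts, -⟩
    · have hcard := isMDecomposition_card hD.decomp.decomp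
      rw [hn] at hcard
      have h2 := hD.decomp.decomp.two_le
      have hk0 := hD.decomp.decomp.pos
      have ht : t ≤ 12 := by nlinarith
      by_cases hte : Even t
      · exact absurd (plus_of_decomposition hR hD hte ⟨3, hn⟩) hminus
      obtain ⟨rfl, rfl⟩ : t = 3 ∧ k = 4 := by
        interval_cases t <;> first | omega | (exfalso; apply hte; decide)
      exact Or.inr (Or.inr (Or.inr (Or.inr (Or.inr (Or.inr (Or.inr (Or.inl (⟨D, hD, fun i hp => hminus ((plus_iff_member (a := 2) hD (by decide) i).mp hp), eq_inf_of_maximal_le hH hle (OrthEven.not_le_decompositionStabilizer hR (by omega) (by omega) (by omega) hD.decomp.decomp)⟩))))))))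
    · exact absurd (plus_of_totallySingular (hts 0) (by rw [hD.finrank_eq 0, hk])) hminus
  · have heq := eq_inf_of_maximal_le hH hle (OrthEven.not_le_subalgebraNormalizer hR (by omega) hr.two_le hK)
    obtain rfl | rfl : r = 2 ∨ r = 3 := by
      have h1 := Nat.le_of_dvd (by omega) hdvd
      rw [hn] at hdvd h1
      interval_cases r <;> first | omega | (exfalso; revert hr hdvd; decide)
    · exact Or.inr (Or.inr (Or.inr (Or.inr (Or.inr (Or.inr (Or.inr (Or.inr (Or.inl (⟨K, hK, heq⟩)))))))))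
    · exact Or.inr (Or.inr (Or.inr (Or.inr (Or.inr (Or.inr (Or.inr (Or.inr (Or.inr (Or.inl (⟨K, hK, heq⟩))))))))))
  · have hcard := Fintype.card_congr e
    rw [hn, Fintype.card_prod, Fintype.card_fin, Fintype.card_fin] at hcard
    obtain ⟨G, hF, hG⟩ := exists_polarGram hR
    by_cases hdm : Even d ∧ Even m
    · refine absurd (plus_of_tensorCase_two hR (by omega) (by omega) ?_ hdm hgram ?_) hminus
      · obtain ⟨⟨a, rfl⟩, ⟨b, rfl⟩⟩ := hdm
        have ha : a ≤ 3 := by nlinarith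
        interval_cases a <;> omega
      · rcases hor with ⟨-, -, h⟩ | ⟨ho, h, -⟩
        · exact Or.inl h
        · exact Or.inr ⟨two_ne_zero_of_odd ho, h⟩
    rcases hor with ⟨h₁, h₂, -⟩ | ⟨ho, hs₁, hs₂⟩
    · exact absurd ⟨even_of_symplectic h₁, even_of_symplectic h₂⟩ hdm
    have h2 := two_ne_zero_of_odd ho
    obtain ⟨e', A₁, A₂, hs₁', hs₂', hA, hle'⟩ : ∃ (e' : Fin 12 ≃ Fin 3 × Fin 4) (A₁ : GL (Fin 3) F)
        (A₂ : GL (Fin 4) F), IsSymmetricForm (formM (RingEquiv.refl F) (A₁ : Matrix (Fin 3) (Fin 3) F)) ∧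
        IsSymmetricForm (formM (RingEquiv.refl F) (A₂ : Matrix (Fin 4) (Fin 4) F)) ∧
        gramIn (RingEquiv.refl F) G e' B = (A₁ : Matrix (Fin 3) (Fin 3) F) ⊗ₖ (A₂ : Matrix (Fin 4) (Fin 4) F) ∧
        H ≤ tensorProductSubgroup 3 4 e' B := by
      have hdm' : ¬ (d % 2 = 0 ∧ m % 2 = 0) := by simpa [Nat.even_iff] using hdm
      obtain ⟨rfl, rfl⟩ | ⟨rfl, rfl⟩ : (d = 3 ∧ m = 4) ∨ (d = 4 ∧ m = 3) := by
        have : d ≤ 6 := by nlinarith
        interval_cases d <;> omega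
      · exact ⟨e, G₁, G₂, hs₁, hs₂, hgram G hG, hle⟩
      · obtain ⟨e', hle', hA'⟩ := tensor_swap (hgram G hG)
        exact ⟨e', G₂, G₁, hs₂, hs₁, hA', hle.trans hle'⟩
    have hstr : IsTensorFormStructure id (polar ⇑R) (formM (RingEquiv.refl F) (A₁ : Matrix (Fin 3) (Fin 3) F))
        (formM (RingEquiv.refl F) (A₂ : Matrix (Fin 4) (Fin 4) F)) e' B := by
      rw [show polar ⇑R = formM (RingEquiv.refl F) (G : Matrix (Fin 12) (Fin 12) F) from
        funext fun u => funext (hG u), show (id : F → F) = ⇑(RingEquiv.refl F) from rfl]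
      exact tensorFormStructure_of_gram one_ne_zero (by rw [one_smul]; exact hA)
    have hm4 := plus_iff_of_tensor_sym (a := 2) h2 hG (by omega) (by omega) rfl hA hs₁'
    have hf₂ : ¬ IsPlusTypeOn (fun v : Fin 4 → F => formM (RingEquiv.refl F) (A₂ : Matrix (Fin 4) (Fin 4) F) v v) ⊤ :=
      fun h => hminus (hm4.mpr (Or.inl h))
    by_cases h5 : 5 ≤ Fintype.card F
    · exact Or.inr (Or.inr (Or.inr (Or.inr (Or.inr (Or.inr (Or.inr (Or.inr (Or.inr (Or.inr (Or.inl (⟨ho, h5, e', B, _, _, hs₁', hs₂', hf₂, hstr, eq_inf_of_maximal_le hH hle' (OrthEven.not_le_tensorProductSubgroup hR (by omega) (by omega) (by omega) (by omega) e' B)⟩)))))))))))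
    · have h3 : Fintype.card F = 3 := by
        have := Fintype.one_lt_card (α := F)
        obtain ⟨j, hj⟩ := ho
        omega
      exact (false_of_between hH hle' (NonMax.exists_between_orth_tensor hQ h3 (by omega) e' B _ _ hs₁' hs₂' hstr)).elim
  · exact absurd h.2 hminus
  · obtain ⟨F₀, r, P, ζ, hr, hcard, hζ, hrat, he⟩ := subfieldCase_max hR (by omega) hH h
    rcases hr.eq_two_or_odd' with rfl | hro
    · exact absurd (plus_of_subfield_two hR (m := 6) (by omega) hn hcard hζ hrat) hminus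
    · exact Or.inr (Or.inr (Or.inr (Or.inr (Or.inr (Or.inr (Or.inr (Or.inr (Or.inr (Or.inr (Or.inr (Or.inl (⟨F₀, r, P, ζ, hr, hro, hcard, hζ, hrat, he⟩))))))))))))
  · exact Or.inr (Or.inr (Or.inr (Or.inr (Or.inr (Or.inr (Or.inr (Or.inr (Or.inr (Or.inr (Or.inr (Or.inr ((h)))))))))))))


end Cfsg.Agent.S5874
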