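import Cfsg.Statements.S5876
import Cfsg.Agent.Lib.Aschbacher.Split

set_option autoImplicit false
open Cfsg

namespace Cfsg.Agent.S5876

open Cfsg.Geo Matrix Cfsg.Agent.Lib.Aschbacher

variable {F : Type*} [Field F] {n : ℕ}

/-- The subspace fixed by an invertible matrix. -/
def fixSp (g : GL (Fin n) F) : Submodule F (Fin n → F) :=
  Module.End.eigenspace (Matrix.toLin' (g : Matrix (Fin n) (Fin n) F)) 1

lemma mem_fixSp {g : GL (Fin n) F} {v : Fin n → F} :
    v ∈ fixSp g ↔ (g : Matrix (Fin n) (Fin n) F) *ᵥ v = v := by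
  rw [fixSp, Module.End.mem_eigenspace_iff, one_smul, toLin'_mulVec]

lemma mem_fixSp_mul {g h : GL (Fin n) F} {v : Fin n → F} (hg : v ∈ fixSp g) (hh : v ∈ fixSp h) :
    v ∈ fixSp (g * h) := by
  rw [mem_fixSp] at hg hh ⊢
  rw [Units.val_mul, ← Matrix.mulVec_mulVec, hh, hg]

lemma mem_fixSp_inv {g : GL (Fin n) F} {v : Fin n → F} (hg : v ∈ fixSp g) :
    v ∈ fixSp g⁻¹ := by
  rw [mem_fixSp] at hg ⊢
  conv_lhs => rw [← hg]
  rw [Matrix.mulVec_mulVec, Units.inv_mul, Matrix.one_mulVec]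

lemma finrank_fixSp_conj (e x : GL (Fin n) F) :
    Module.finrank F (fixSp (e * x * e⁻¹)) = Module.finrank F (fixSp x) := by
  have hinj : Function.Injective (Matrix.toLin' (e : Matrix (Fin n) (Fin n) F)) := by
    intro v w hvw
    have := congrArg (fun u => ((e⁻¹ : GL (Fin n) F) : Matrix (Fin n) (Fin n) F) *ᵥ u) hvw
    simpa [toLin'_mulVec, Matrix.mulVec_mulVec] using this
  have hmap : fixSp (e * x * e⁻¹) = (fixSp x).map (Matrix.toLin' (e : Matrix (Fin n) (Fin n) F)) := by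
    ext v
    constructor
    · intro hv
      refine ⟨((e⁻¹ : GL (Fin n) F) : Matrix (Fin n) (Fin n) F) *ᵥ v, ?_, ?_⟩
      · show _ ∈ fixSp x
        rw [mem_fixSp] at hv ⊢
        have := congrArg (fun u => ((e⁻¹ : GL (Fin n) F) : Matrix (Fin n) (Fin n) F) *ᵥ u) hv
        simpa [Matrix.mulVec_mulVec, Units.val_mul, ← mul_assoc] using this
      · rw [toLin'_mulVec, Matrix.mulVec_mulVec, Units.mul_inv, Matrix.one_mulVec]
    · rintro ⟨w, hw, rfl⟩
      have hw' := mem_fixSp.mp hw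
      rw [mem_fixSp, toLin'_mulVec, Units.val_mul, Units.val_mul, Matrix.mulVec_mulVec, mul_assoc,
        Units.inv_mul, mul_one, ← Matrix.mulVec_mulVec, hw']
  rw [hmap]
  exact (Submodule.equivMapOfInjective _ hinj (fixSp x)).symm.finrank_eq

/-- The commutator trick: twice the fixed space of `x` exceeds the fixed space of a commutator with `x` by at
most the whole space. -/
lemma two_fix_le (e x : GL (Fin n) F) :
    2 * Module.finrank F (fixSp x) ≤ n + Module.finrank F (fixSp (e * x * e⁻¹ * x⁻¹)) := by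
  have h1 : fixSp (e * x * e⁻¹) ⊓ fixSp x ≤ fixSp (e * x * e⁻¹ * x⁻¹) :=
    fun v hv => mem_fixSp_mul hv.1 (mem_fixSp_inv hv.2)
  have h2 := Submodule.finrank_sup_add_finrank_inf_eq (fixSp (e * x * e⁻¹)) (fixSp x)
  have h3 := Submodule.finrank_mono h1
  have h4 := Submodule.finrank_le (fixSp (e * x * e⁻¹) ⊔ fixSp x)
  rw [finrank_fixSp_conj] at h2
  rw [Module.finrank_fin_fun] at h4
  omega

/-- In a primitive irreducible group, the non-identity elements of a normalised abelian subgroup fix no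
non-zero vector. -/
lemma fix_eq_bot [Finite F] [NeZero n] {G A : Subgroup (GL (Fin n) F)}
    (hirr : ActsIrreducibly (matrixSet G))
    (hprim : ∀ (m t : ℕ) (D : Fin t → Submodule F (Fin n → F)), 2 ≤ t → IsMDecomposition m D →
      ¬ G ≤ decompositionStabilizer D)
    (hn : Normalises G A) (hab : ∀ x ∈ A, ∀ y ∈ A, x * y = y * x)
    {a : GL (Fin n) F} (ha : a ∈ A) (ha1 : a ≠ 1) :
    fixSp a = ⊥ := by
  set z : Matrix (Fin n) (Fin n) F := (a : Matrix (Fin n) (Fin n) F) - 1 with hz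
  have hzA : z ∈ spanAlg A := sub_mem (coe_mem_spanAlg ha) (one_mem _)
  have hz0 : z ≠ 0 := fun h => ha1 (Units.ext (sub_eq_zero.mp h))
  have key : ∃ y : Matrix (Fin n) (Fin n) F, y * z = 1 := by
    rcases spanAlg_trichotomy hirr hn with ⟨t, e, ht, he⟩ | ⟨r, _, hK⟩ | ⟨d, φ, hd, hφ, hr⟩
    · obtain ⟨m, hD, hle, -⟩ :=
        he.decomposition hirr (fun g hg b => conjM_mem_spanAlg_iff hn hg) ht
      exact absurd hle (hprim m t _ ht hD)
    · have hzc : z ∈ centreAlg (spanAlg A) :=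
        mem_centreAlg.mpr ⟨hzA, fun b hb => spanAlg_commute_spanAlg hab hzA hb⟩
      obtain ⟨y, hy, hyz⟩ := hK.2 z hzc hz0
      exact ⟨y, by rw [hK.1 y hy z hzc]; exact hyz⟩
    · -- a commutative full matrix algebra consists of scalars
      have hd1 : d = 1 := by
        by_contra hne
        have h2 : 2 ≤ d := by omega
        let i : Fin d := ⟨0, by omega⟩
        let j : Fin d := ⟨1, by omega⟩
        have hmem : ∀ u, φ u ∈ spanAlg A := fun u => hr ▸ ⟨u, rfl⟩
        have h := spanAlg_commute_spanAlg hab (hmem (Matrix.single i j 1)) (hmem (Matrix.single j i 1))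
        rw [← map_mul, ← map_mul] at h
        have h' := congrFun (congrFun (hφ h) i) i
        rw [Matrix.single_mul_single_same, Matrix.single_mul_single_same] at h'
        simp [Matrix.single_apply, i, j] at h'
      subst hd1
      obtain ⟨w, hw⟩ : z ∈ φ.range := hr ▸ hzA
      have hw' : φ w = z := hw
      have hwe : w = algebraMap F (Matrix (Fin 1) (Fin 1) F) (w 0 0) := by
        ext i j
        rw [Fin.fin_one_eq_zero i, Fin.fin_one_eq_zero j, Matrix.algebraMap_eq_diagonal]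
        simp
      generalize w 0 0 = c at hwe
      subst hwe
      rw [AlgHom.commutes] at hw'
      have hc : c ≠ 0 := by
        intro h
        rw [h, map_zero] at hw'
        exact hz0 hw'.symm
      exact ⟨algebraMap F _ c⁻¹, by rw [← hw', ← map_mul, inv_mul_cancel₀ hc, map_one]⟩
  obtain ⟨y, hy⟩ := key
  rw [Submodule.eq_bot_iff]
  intro v hv
  rw [mem_fixSp] at hv
  have : z *ᵥ v = 0 := by rw [hz, Matrix.sub_mulVec, hv, Matrix.one_mulVec, sub_self]
  have h := congrArg (fun u => y *ᵥ u) this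
  simpa [Matrix.mulVec_mulVec, hy] using h

/-- The derived series of a subgroup inside the ambient group. -/
def ds {X : Type*} [Group X] (D : Subgroup X) : ℕ → Subgroup X
  | 0 => D
  | k + 1 => ⁅ds D k, ds D k⁆

lemma ds_le {X : Type*} [Group X] {D G : Subgroup X} (h : D ≤ G) :
    ∀ k, ds D k ≤ (derivedSeries ↥G k).map G.subtype
  | 0 => by
      rw [derivedSeries_zero, ← MonoidHom.range_eq_map, Subgroup.range_subtype]
      exact h
  | k + 1 => by
      rw [derivedSeries_succ, Subgroup.map_commutator]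
      exact Subgroup.commutator_mono (ds_le h k) (ds_le h k)

lemma ds_le_self {X : Type*} [Group X] (D : Subgroup X) : ∀ k, ds D k ≤ D
  | 0 => le_rfl
  | k + 1 => le_trans (Subgroup.commutator_le.mpr fun x hx y hy => by
      rw [commutatorElement_def]
      exact mul_mem (mul_mem (mul_mem hx hy) (inv_mem hx)) (inv_mem hy)) (ds_le_self D k)

lemma normalises_ds {G D : Subgroup (GL (Fin n) F)} (h : Normalises G D) :
    ∀ k, Normalises G (ds D k)
  | 0 => h
  | k + 1 => by
      intro g hg x hx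
      have hle : ⁅ds D k, ds D k⁆.map (MulAut.conj g).toMonoidHom ≤ ⁅ds D k, ds D k⁆ := by
        rw [Subgroup.map_commutator]
        refine Subgroup.commutator_mono ?_ ?_ <;>
        · rintro _ ⟨y, hy, rfl⟩
          exact normalises_ds h k g hg y hy
      exact hle ⟨x, hx, rfl⟩

lemma conj_centralizes {X : Type*} [Group X] {B : Subgroup X} {g x : X}
    (hB : ∀ y ∈ B, g⁻¹ * y * g ∈ B) (hx : ∀ y ∈ B, x * y = y * x) :
    ∀ y ∈ B, g * x * g⁻¹ * y = y * (g * x * g⁻¹) := by
  intro y hy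
  have h := hx _ (hB y hy)
  calc g * x * g⁻¹ * y = g * (x * (g⁻¹ * y * g)) * g⁻¹ := by group
    _ = g * (g⁻¹ * y * g * x) * g⁻¹ := by rw [h]
    _ = y * (g * x * g⁻¹) := by group

lemma normalises_centralizing {G C B : Subgroup (GL (Fin n) F)} (hC : Normalises G C)
    (hB : Normalises G B) : Normalises G (C ⊓ Subgroup.centralizer (B : Set (GL (Fin n) F))) := by
  intro g hg x hx
  refine Subgroup.mem_inf.mpr ⟨hC g hg x hx.1, ?_⟩
  rw [Subgroup.mem_centralizer_iff]
  intro y hy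
  refine (conj_centralizes (fun y hy => ?_) (fun y hy => ?_) y hy).symm
  · simpa using hB g⁻¹ (inv_mem hg) y hy
  · exact (Subgroup.mem_centralizer_iff.mp hx.2 y hy).symm

/-- The product of two commuting subgroups. -/
def prodSub {X : Type*} [Group X] (B D : Subgroup X) (h : ∀ b ∈ B, ∀ d ∈ D, b * d = d * b) :
    Subgroup X where
  carrier := {x | ∃ b ∈ B, ∃ d ∈ D, x = b * d}
  one_mem' := ⟨1, one_mem _, 1, one_mem _, (one_mul 1).symm⟩
  mul_mem' := by
    rintro _ _ ⟨b, hb, d, hd, rfl⟩ ⟨b', hb', d', hd', rfl⟩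
    refine ⟨b * b', mul_mem hb hb', d * d', mul_mem hd hd', ?_⟩
    rw [mul_assoc b d, ← mul_assoc d b', ← h b' hb' d hd]
    simp only [mul_assoc]
  inv_mem' := by
    rintro _ ⟨b, hb, d, hd, rfl⟩
    refine ⟨b⁻¹, inv_mem hb, d⁻¹, inv_mem hd, ?_⟩
    rw [h b hb d hd, _root_.mul_inv_rev]

lemma core [Finite F] {G : Subgroup (GL (Fin n) F)} (hsol : IsSolvable G)
    (hirr : ActsIrreducibly (matrixSet G))
    (hprim : ∀ (m t : ℕ) (D : Fin t → Submodule F (Fin n → F)), 2 ≤ t → IsMDecomposition m D →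
      ¬ G ≤ decompositionStabilizer D)
    {g : GL (Fin n) F} (hg : g ∈ G) (hg1 : g ≠ 1) :
    4 * Module.finrank F (fixSp g) ≤ 3 * n := by
  classical
  rcases Nat.eq_zero_or_pos n with rfl | hpos
  · have := Submodule.finrank_le (fixSp g)
    rw [Module.finrank_fin_fun] at this
    omega
  haveI : NeZero n := ⟨by omega⟩
  haveI : Finite (GL (Fin n) F) := inferInstance
  -- a maximal normalised abelian subgroup
  obtain ⟨A, ⟨hAG, hAn, hAab⟩, hAmax⟩ := (Set.toFinite
      {A : Subgroup (GL (Fin n) F) | A ≤ G ∧ Normalises G A ∧ ∀ x ∈ A, ∀ y ∈ A, x * y = y * x}).exists_maximal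
    ⟨⊥, bot_le, fun h _ x hx => by simp_all, fun x hx y hy => by simp_all⟩
  have fix0 : ∀ a ∈ A, a ≠ 1 → Module.finrank F (fixSp a) = 0 := fun a ha ha1 => by
    rw [fix_eq_bot hirr hprim hAn hAab ha ha1, finrank_bot]
  by_cases hgC : ∀ a ∈ A, a * g = g * a
  swap
  · push Not at hgC
    obtain ⟨a, ha, hne⟩ := hgC
    have hc : a * g * a⁻¹ * g⁻¹ ∈ A := by
      have : a * g * a⁻¹ * g⁻¹ = a * (g * a⁻¹ * g⁻¹) := by group
      rw [this]
      exact mul_mem ha (hAn g hg _ (inv_mem ha))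
    have hc1 : a * g * a⁻¹ * g⁻¹ ≠ 1 := by
      intro h
      rw [mul_inv_eq_one, mul_inv_eq_iff_eq_mul] at h
      exact hne h
    have := two_fix_le a g
    rw [fix0 _ hc hc1] at this
    omega
  set C : Subgroup (GL (Fin n) F) := G ⊓ Subgroup.centralizer (A : Set (GL (Fin n) F)) with hC
  have hgC' : g ∈ C := ⟨hg, Subgroup.mem_centralizer_iff.mpr hgC⟩
  have hCn : Normalises G C := normalises_centralizing (Normalises.self G) hAn
  have hAC : A ≤ C := fun a ha => ⟨hAG ha, Subgroup.mem_centralizer_iff.mpr fun b hb => hAab b hb a ha⟩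
  -- a maximal normalised subgroup of class two over A
  obtain ⟨B, ⟨hAB, hBC, hBn, hBcomm⟩, hBmax⟩ := (Set.toFinite
      {B : Subgroup (GL (Fin n) F) | A ≤ B ∧ B ≤ C ∧ Normalises G B ∧
        ∀ x ∈ B, ∀ y ∈ B, x * y * x⁻¹ * y⁻¹ ∈ A}).exists_maximal
    ⟨A, le_rfl, hAC, hAn, fun x hx y hy => mul_mem (mul_mem (mul_mem hx hy) (inv_mem hx)) (inv_mem hy)⟩
  have hBG : B ≤ G := fun x hx => (Subgroup.mem_inf.mp (hBC hx)).1
  have hcentral : ∀ b ∈ B, (∀ y ∈ B, b * y = y * b) → b ∈ A := by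
    intro b hb hbc
    have hmem : B ⊓ Subgroup.centralizer (B : Set (GL (Fin n) F)) ∈
        {A : Subgroup (GL (Fin n) F) | A ≤ G ∧ Normalises G A ∧ ∀ x ∈ A, ∀ y ∈ A, x * y = y * x} :=
      ⟨fun x hx => hBG hx.1, normalises_centralizing hBn hBn,
        fun x hx y hy => Subgroup.mem_centralizer_iff.mp hy.2 x hx.1⟩
    have hle : A ≤ B ⊓ Subgroup.centralizer (B : Set (GL (Fin n) F)) := fun a ha =>
      ⟨hAB ha, Subgroup.mem_centralizer_iff.mpr fun y hy =>
        (Subgroup.mem_centralizer_iff.mp (hBC hy).2 a ha).symm⟩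
    exact hAmax hmem hle ⟨hb, Subgroup.mem_centralizer_iff.mpr fun y hy => (hbc y hy).symm⟩
  set D : Subgroup (GL (Fin n) F) := C ⊓ Subgroup.centralizer (B : Set (GL (Fin n) F)) with hD
  have hDn : Normalises G D := normalises_centralizing hCn hBn
  have hDA : D ≤ A := by
    by_contra hDA
    obtain ⟨N, hN⟩ := hsol
    have hfin : ds D N ≤ A := by
      refine le_trans (ds_le (le_trans inf_le_left inf_le_left) N) ?_
      rw [hN, Subgroup.map_bot]
      exact bot_le
    obtain ⟨k, hk, hk1⟩ : ∃ k, ¬ ds D k ≤ A ∧ ds D (k + 1) ≤ A := by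
      by_contra hcon
      push Not at hcon
      exact (Nat.rec (motive := fun k => ¬ ds D k ≤ A) hDA hcon N) hfin
    have hcomm : ∀ b ∈ B, ∀ d ∈ ds D k, b * d = d * b := fun b hb d hd =>
      Subgroup.mem_centralizer_iff.mp (ds_le_self D k hd).2 b hb
    have hmem : prodSub B (ds D k) hcomm ∈ {B : Subgroup (GL (Fin n) F) | A ≤ B ∧ B ≤ C ∧
        Normalises G B ∧ ∀ x ∈ B, ∀ y ∈ B, x * y * x⁻¹ * y⁻¹ ∈ A} := by
      refine ⟨fun a ha => ⟨a, hAB ha, 1, one_mem _, (mul_one a).symm⟩, ?_, ?_, ?_⟩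
      · rintro _ ⟨b, hb, d, hd, rfl⟩
        exact mul_mem (hBC hb) (ds_le_self D k hd).1
      · rintro h hh _ ⟨b, hb, d, hd, rfl⟩
        exact ⟨h * b * h⁻¹, hBn h hh b hb, h * d * h⁻¹, normalises_ds hDn k h hh d hd, by group⟩
      · rintro _ ⟨b, hb, d, hd, rfl⟩ _ ⟨b', hb', d', hd', rfl⟩
        have e1 : d * b' = b' * d := (hcomm b' hb' d hd).symm
        have e2 : d' * b⁻¹ = b⁻¹ * d' := (hcomm b⁻¹ (inv_mem hb) d' hd').symm
        have e3 : d * b⁻¹ = b⁻¹ * d := (hcomm b⁻¹ (inv_mem hb) d hd).symm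
        have e4 : (d * d' * d⁻¹ * d'⁻¹) * b'⁻¹ = b'⁻¹ * (d * d' * d⁻¹ * d'⁻¹) :=
          (hcomm b'⁻¹ (inv_mem hb') _ (mul_mem (mul_mem (mul_mem hd hd') (inv_mem hd)) (inv_mem hd'))).symm
        have hid : b * d * (b' * d') * (b * d)⁻¹ * (b' * d')⁻¹ =
            (b * b' * b⁻¹ * b'⁻¹) * (d * d' * d⁻¹ * d'⁻¹) := by
          calc b * d * (b' * d') * (b * d)⁻¹ * (b' * d')⁻¹
              = b * (d * b') * d' * d⁻¹ * b⁻¹ * d'⁻¹ * b'⁻¹ := by group
            _ = b * b' * ((d * d' * d⁻¹) * b⁻¹) * d'⁻¹ * b'⁻¹ := by rw [e1]; group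
            _ = b * b' * (b⁻¹ * (d * d' * d⁻¹)) * d'⁻¹ * b'⁻¹ := by
                rw [(hcomm b⁻¹ (inv_mem hb) _ (mul_mem (mul_mem hd hd') (inv_mem hd))).symm]
            _ = b * b' * b⁻¹ * ((d * d' * d⁻¹ * d'⁻¹) * b'⁻¹) := by group
            _ = _ := by rw [e4]; group
        rw [hid]
        refine mul_mem (hBcomm b hb b' hb') (hk1 ?_)
        rw [← commutatorElement_def]
        exact Subgroup.commutator_mem_commutator hd hd'
    have hle : B ≤ prodSub B (ds D k) hcomm := fun b hb => ⟨b, hb, 1, one_mem _, (mul_one b).symm⟩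
    apply hk
    intro d hd
    have hdB : d ∈ B := hBmax hmem hle ⟨1, one_mem _, d, hd, (one_mul d).symm⟩
    exact hcentral d hdB fun y hy => (hcomm y hy d hd).symm
  by_cases hgB : ∀ b ∈ B, b * g = g * b
  · have hgA : g ∈ A := hDA ⟨hgC', Subgroup.mem_centralizer_iff.mpr hgB⟩
    rw [fix0 g hgA hg1]
    omega
  push Not at hgB
  obtain ⟨b, hb, hne⟩ := hgB
  set c := b * g * b⁻¹ * g⁻¹ with hcdef
  have hcB : c ∈ B := by
    have : c = b * (g * b⁻¹ * g⁻¹) := by rw [hcdef]; group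
    rw [this]
    exact mul_mem hb (hBn g hg _ (inv_mem hb))
  have hc1 : c ≠ 1 := by
    intro h
    rw [hcdef, mul_inv_eq_one, mul_inv_eq_iff_eq_mul] at h
    exact hne h
  have hfirst := two_fix_le b g
  rw [← hcdef] at hfirst
  have hsecond : 2 * Module.finrank F (fixSp c) ≤ n := by
    by_cases hcA : c ∈ A
    · rw [fix0 c hcA hc1]; omega
    obtain ⟨y, hy, hyne⟩ : ∃ y ∈ B, c * y ≠ y * c := by
      by_contra hcon
      push Not at hcon
      exact hcA (hcentral c hcB hcon)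
    have h1 : y * c * y⁻¹ * c⁻¹ ≠ 1 := by
      intro h
      rw [mul_inv_eq_one, mul_inv_eq_iff_eq_mul] at h
      exact hyne h.symm
    have := two_fix_le y c
    rw [fix0 _ (hBcomm y hy c hcB) h1] at this
    omega
  omega

/-- Fixed-point spaces in primitive soluble linear groups. Let F be a finite field and G a soluble subgroup of GL_n(F) that acts irreducibly on F^n and primitively (G preserves no decomposition of F^n into two or more independent subspaces of equal dimension). Then every non-identity element g of G has fixed-point space {v : g v = v} of dimension at most 3n/4. -/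
theorem result {F : Type*} [Field F] [Fintype F] {n : ℕ} (G : Subgroup (Matrix.GeneralLinearGroup (Fin n) F)) (hsol : IsSolvable G) (hirr : Cfsg.Geo.ActsIrreducibly (Cfsg.Geo.matrixSet G)) (hprim : ∀ (m t : ℕ) (D : Fin t → Submodule F (Fin n → F)), 2 ≤ t → Cfsg.Geo.IsMDecomposition m D → ¬ G ≤ Cfsg.Geo.decompositionStabilizer D) (g : Matrix.GeneralLinearGroup (Fin n) F) (hg : g ∈ G) (hg1 : g ≠ 1) :
    4 * Module.finrank F (Module.End.eigenspace (Matrix.toLin' (g : Matrix (Fin n) (Fin n) F)) 1) ≤ 3 * n :=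
  core hsol hirr hprim hg hg1

end Cfsg.Agent.S5876
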