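import Mathlib
import Cfsg.Agent.Lib.LocalChar.EigenBound
import Cfsg.Agent.Lib.LocalChar.EigenGroup
import Cfsg.Statements.S5877
-- import your own Cfsg.Agent.* helpers here

set_option autoImplicit false
open Cfsg
open scoped commutatorElement Pointwise

namespace Cfsg.Agent.S5877

/-- Eigenspaces of elements normalising an absolutely irreducible extraspecial group. Let F be a finite field, r a prime, and R ≤ GL_n(F) an absolutely irreducible extraspecial r-group (an r-group whose centre equals its derived subgroup and has order r) of exponent r or 4. Let g ∈ GL_n(F) normalise the product of R with the scalar matrices, have prime order ϖ and not be scalar, and let W be the eigenspace of g for any c ∈ F (W may be the zero subspace). Then dim W ≤ 3n/4 if ϖ = 2, dim W ≤ 2n/3 if ϖ = 3, and dim W ≤ n/2 if ϖ > 3; moreover if ϖ = 3 and 3 does not divide n then dim W ≤ n/2. -/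
theorem result {F : Type*} [Field F] [Fintype F] {n r ϖ : ℕ} (R : Subgroup (Matrix.GeneralLinearGroup (Fin n) F)) (hr : r.Prime) (hR : IsPGroup r R) (hZ : Nat.card (Subgroup.center R) = r) (hext : commutator R = Subgroup.center R) (hexp : Monoid.exponent R = r ∨ Monoid.exponent R = 4) (hirr : Cfsg.Geo.ActsAbsolutelyIrreducibly (Cfsg.Geo.matrixSet R)) (g : Matrix.GeneralLinearGroup (Fin n) F) (hg : g ∈ Cfsg.Geo.subgroupNormalizer (R ⊔ Cfsg.Geo.scalars (Fin n) F)) (hϖ : ϖ.Prime) (hord : orderOf g = ϖ) (hns : g ∉ Cfsg.Geo.scalars (Fin n) F) (c : F) :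
    (ϖ = 2 → 4 * Module.finrank F (Module.End.eigenspace (Matrix.toLin' (g : Matrix (Fin n) (Fin n) F)) c) ≤ 3 * n) ∧
    (ϖ = 3 → 3 * Module.finrank F (Module.End.eigenspace (Matrix.toLin' (g : Matrix (Fin n) (Fin n) F)) c) ≤ 2 * n) ∧
    (3 < ϖ → 2 * Module.finrank F (Module.End.eigenspace (Matrix.toLin' (g : Matrix (Fin n) (Fin n) F)) c) ≤ n) ∧
    (ϖ = 3 → ¬ 3 ∣ n → 2 * Module.finrank F (Module.End.eigenspace (Matrix.toLin' (g : Matrix (Fin n) (Fin n) F)) c) ≤ n) := by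
  classical
  show (ϖ = 2 → 4 * Module.finrank F (Lib.LocalChar.EigenBound.eig g c) ≤ 3 * n) ∧
    (ϖ = 3 → 3 * Module.finrank F (Lib.LocalChar.EigenBound.eig g c) ≤ 2 * n) ∧
    (3 < ϖ → 2 * Module.finrank F (Lib.LocalChar.EigenBound.eig g c) ≤ n) ∧
    (ϖ = 3 → ¬ 3 ∣ n → 2 * Module.finrank F (Lib.LocalChar.EigenBound.eig g c) ≤ n)
  open Lib.LocalChar.EigenBound in
  by_cases hc : c = 0
  · have h0 : Module.finrank F (eig g c) = 0 := by
      rw [Submodule.finrank_eq_zero, eq_bot_iff]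
      intro v hv
      rw [Module.End.mem_eigenspace_iff, hc, zero_smul] at hv
      exact act_injective g (by rw [hv, map_zero])
    rw [h0]; omega
  obtain rfl | hn := Nat.eq_zero_or_pos n
  · exact absurd (Subsingleton.elim g 1 ▸ (Cfsg.Geo.scalars (Fin 0) F).one_mem) hns
  haveI : Nonempty (Fin n) := ⟨⟨0, hn⟩⟩
  have schur : ∀ u : Matrix.GeneralLinearGroup (Fin n) F, (∀ x ∈ R, u * x = x * u) →
      u ∈ Cfsg.Geo.scalars (Fin n) F := by
    intro u hu
    obtain ⟨a, ha⟩ := hirr.2 (u : Matrix (Fin n) (Fin n) F) (by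
      rintro _ ⟨x, hx, rfl⟩
      rw [← Units.val_mul, hu x hx, Units.val_mul])
    have ha0 : a ≠ 0 := by
      rintro rfl
      rw [zero_smul] at ha
      exact u.ne_zero ha
    exact (Cfsg.Geo.mem_scalars_iff u).2 ⟨Units.mk0 a ha0, ha⟩
  have hgϖ : g ^ ϖ = 1 := hord ▸ pow_orderOf_eq_one g
  obtain ⟨v₀, hv₀⟩ : ∃ v : Fin n → F, v ≠ 0 := exists_ne 0
  open Lib.LocalChar.EigenBound in
  rcases group_cases R (Cfsg.Geo.scalars (Fin n) F) scalars_le_center hr hϖ hR hZ hext hexp schur hg hord hns with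
    ⟨e, -, he, he1⟩ | ⟨⟨e, y, hy, hy1⟩, hcop, heq⟩
  · obtain ⟨γ, hγ⟩ := exists_isScal he
    have := two_mul_le_of_comm_scalar hγ (fun h => he1 (hγ.eq_one h)) hc
    omega
  · obtain ⟨τ, hτ⟩ := exists_isScal hy
    have h4 := four_mul_le hτ (fun h => hy1 (hτ.eq_one h)) hc
    rcases eq_or_ne ϖ 2 with rfl | hϖ2
    · omega
    by_cases hrϖ : r = ϖ
    · obtain ⟨e, h, y, hh, hgh, hhr, ⟨hyS, hyr, hy1⟩, hωS, hωr⟩ := heq hϖ2 hrϖ
      subst hrϖ
      obtain ⟨τ, hτ⟩ := exists_isScal hyS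
      haveI := Fact.mk hr
      have hτp : IsPrimitiveRoot τ r := IsPrimitiveRoot.iff_orderOf.2
        (orderOf_eq_prime (scalar_pow_eq_one hτ hyr hv₀) fun h1 => hy1 (hτ.eq_one h1))
      obtain ⟨ω, hω⟩ := exists_isScal hωS
      obtain ⟨hb, hdvd⟩ := mul_le_of_commute (c := c) hr hϖ2 hh hgh hhr hτ hτp hω (scalar_pow_eq_one hω hωr hv₀)
      refine ⟨fun h => absurd h hϖ2, fun h => by subst h; exact hb, fun h3 => ?_, fun h hn3 => absurd (h ▸ hdvd) hn3⟩
      by_contra hlt
      push Not at hlt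
      have h5 : 4 ≤ r := h3
      have : r * (n + 1) ≤ r * (2 * Module.finrank F (eig g c)) := Nat.mul_le_mul_left r hlt
      have : 4 * n ≤ r * n := Nat.mul_le_mul_right n h5
      nlinarith
    · obtain ⟨e, hS, hr', hne⟩ := hcop hϖ2 hrϖ
      obtain ⟨lam, hlam⟩ := exists_isScal hS
      have := two_mul_le_of_conj_noncomm ((Nat.coprime_primes hr hϖ).2 hrϖ) hlam (scalar_pow_eq_one hlam hr' hv₀)
        (fun h => hne (hlam.eq_one h)) hgϖ hc
      omega

end Cfsg.Agent.S5877
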