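import Cfsg.Statements.S5883
import Cfsg.Agent.S1697
import Cfsg.Agent.Lib.FiTwentyThreeMax.Top

set_option autoImplicit false
open Cfsg

namespace Cfsg.Agent.S5883

open Cfsg.Agent.Lib.CosetTable
open Cfsg.Agent.Lib.FiTwentyThreeMax
open scoped commutatorElement

local notation "gn" => Cfsg.Agent.S1697.gn

/-- images of the derived subgroups of the stabilizer -/
noncomputable def imgD (n : ℕ) : Subgroup (Equiv.Perm (Fin 324)) := (derivedSeries memStab n).map psi

theorem imgD_zero {i : ℕ} {w : List ℕ} (hi : i < permTab.length)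
    (h : liftOK w (pTab i) = true) : pPerm i ∈ imgD 0 :=
  ⟨⟨eval gn w, lift_mem h⟩, by simp [derivedSeries_zero], psi_lift hi h⟩

theorem imgD_comm {k a b c : ℕ} (ha : pPerm a ∈ imgD k) (hb : pPerm b ∈ imgD k)
    (la : a < permTab.length) (lb : b < permTab.length) (lc : c < permTab.length)
    (h : commOK (pTab c) (pTab a) (pTab b) = true) : pPerm c ∈ imgD (k + 1) := by
  have e : pPerm c * pPerm b * pPerm a = pPerm a * pPerm b := Equiv.ext fun x => Fin.ext (by
    simp only [Equiv.Perm.mul_apply, pPerm_apply la, pPerm_apply lb, pPerm_apply lc]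
    exact beq_iff.mp (rangeAll_spec h x (Nat.zero_le _) (by omega)))
  have e' : pPerm c = ⁅pPerm a, pPerm b⁆ := by
    rw [commutatorElement_def, ← e]; group
  rw [e', imgD, derivedSeries_succ, Subgroup.map_commutator]
  exact Subgroup.commutator_mem_commutator ha hb

theorem imgD_conj {k a b c : ℕ} (ha : pPerm a ∈ imgD 0) (hb : pPerm b ∈ imgD k)
    (la : a < permTab.length) (lb : b < permTab.length) (lc : c < permTab.length)
    (h : conjOK (pTab c) (pTab a) (pTab b) = true) : pPerm c ∈ imgD k := by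
  have e : pPerm c * pPerm a = pPerm a * pPerm b := Equiv.ext fun x => Fin.ext (by
    simp only [Equiv.Perm.mul_apply, pPerm_apply la, pPerm_apply lb, pPerm_apply lc]
    exact beq_iff.mp (rangeAll_spec h x (Nat.zero_le _) (by omega)))
  obtain ⟨g, -, hg⟩ := ha
  obtain ⟨t, ht, htb⟩ := hb
  refine ⟨g * t * g⁻¹, (derivedSeries_normal (G := memStab) k).conj_mem t ht g, ?_⟩
  rw [map_mul, map_mul, map_inv, hg, htb, ← e]
  group

theorem img_eight : pPerm 36 ∈ imgD 8 ∧ pPerm 37 ∈ imgD 8 := by
  have e_0 : pPerm 0 ∈ imgD 0 :=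
    imgD_zero (by decide +kernel) lift_ok_0
  have e_1 : pPerm 1 ∈ imgD 0 :=
    imgD_zero (by decide +kernel) lift_ok_1
  have e_12 : pPerm 12 ∈ imgD 0 :=
    imgD_zero (by decide +kernel) lift_ok_2
  have e_13 : pPerm 13 ∈ imgD 0 :=
    imgD_zero (by decide +kernel) lift_ok_3
  have e_14 : pPerm 14 ∈ imgD 0 :=
    imgD_zero (by decide +kernel) lift_ok_4
  have e_15 : pPerm 15 ∈ imgD 0 :=
    imgD_zero (by decide +kernel) lift_ok_5
  have e_16 : pPerm 16 ∈ imgD 1 :=
    imgD_comm (a := 13) (b := 15) e_13 e_15 (by decide +kernel) (by decide +kernel) (by decide +kernel) der_ok_1_0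
  have e_17 : pPerm 17 ∈ imgD 1 :=
    imgD_comm (a := 14) (b := 15) e_14 e_15 (by decide +kernel) (by decide +kernel) (by decide +kernel) der_ok_1_1
  have e_18 : pPerm 18 ∈ imgD 2 :=
    imgD_comm (a := 16) (b := 17) e_16 e_17 (by decide +kernel) (by decide +kernel) (by decide +kernel) der_ok_2_0
  have e_19 : pPerm 19 ∈ imgD 2 :=
    imgD_conj (a := 0) (b := 18) e_0 e_18 (by decide +kernel) (by decide +kernel) (by decide +kernel) der_ok_2_1
  have e_20 : pPerm 20 ∈ imgD 2 :=
    imgD_conj (a := 12) (b := 18) e_12 e_18 (by decide +kernel) (by decide +kernel) (by decide +kernel) der_ok_2_2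
  have e_21 : pPerm 21 ∈ imgD 3 :=
    imgD_comm (a := 18) (b := 19) e_18 e_19 (by decide +kernel) (by decide +kernel) (by decide +kernel) der_ok_3_0
  have e_22 : pPerm 22 ∈ imgD 3 :=
    imgD_comm (a := 18) (b := 20) e_18 e_20 (by decide +kernel) (by decide +kernel) (by decide +kernel) der_ok_3_1
  have e_23 : pPerm 23 ∈ imgD 3 :=
    imgD_comm (a := 19) (b := 20) e_19 e_20 (by decide +kernel) (by decide +kernel) (by decide +kernel) der_ok_3_2
  have e_24 : pPerm 24 ∈ imgD 4 :=
    imgD_comm (a := 22) (b := 23) e_22 e_23 (by decide +kernel) (by decide +kernel) (by decide +kernel) der_ok_4_0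
  have e_25 : pPerm 25 ∈ imgD 4 :=
    imgD_comm (a := 21) (b := 23) e_21 e_23 (by decide +kernel) (by decide +kernel) (by decide +kernel) der_ok_4_1
  have e_26 : pPerm 26 ∈ imgD 5 :=
    imgD_comm (a := 24) (b := 25) e_24 e_25 (by decide +kernel) (by decide +kernel) (by decide +kernel) der_ok_5_0
  have e_27 : pPerm 27 ∈ imgD 5 :=
    imgD_conj (a := 0) (b := 26) e_0 e_26 (by decide +kernel) (by decide +kernel) (by decide +kernel) der_ok_5_1
  have e_28 : pPerm 28 ∈ imgD 5 :=
    imgD_conj (a := 1) (b := 26) e_1 e_26 (by decide +kernel) (by decide +kernel) (by decide +kernel) der_ok_5_2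
  have e_29 : pPerm 29 ∈ imgD 5 :=
    imgD_conj (a := 12) (b := 26) e_12 e_26 (by decide +kernel) (by decide +kernel) (by decide +kernel) der_ok_5_3
  have e_30 : pPerm 30 ∈ imgD 6 :=
    imgD_comm (a := 26) (b := 29) e_26 e_29 (by decide +kernel) (by decide +kernel) (by decide +kernel) der_ok_6_1
  have e_31 : pPerm 31 ∈ imgD 6 :=
    imgD_comm (a := 26) (b := 27) e_26 e_27 (by decide +kernel) (by decide +kernel) (by decide +kernel) der_ok_6_2
  have e_32 : pPerm 32 ∈ imgD 6 :=
    imgD_comm (a := 28) (b := 29) e_28 e_29 (by decide +kernel) (by decide +kernel) (by decide +kernel) der_ok_6_4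
  have e_33 : pPerm 33 ∈ imgD 7 :=
    imgD_comm (a := 30) (b := 31) e_30 e_31 (by decide +kernel) (by decide +kernel) (by decide +kernel) der_ok_7_4
  have e_34 : pPerm 34 ∈ imgD 7 :=
    imgD_comm (a := 30) (b := 32) e_30 e_32 (by decide +kernel) (by decide +kernel) (by decide +kernel) der_ok_7_5
  have e_35 : pPerm 35 ∈ imgD 7 :=
    imgD_comm (a := 31) (b := 32) e_31 e_32 (by decide +kernel) (by decide +kernel) (by decide +kernel) der_ok_7_7
  have e_36 : pPerm 36 ∈ imgD 8 :=
    imgD_comm (a := 34) (b := 35) e_34 e_35 (by decide +kernel) (by decide +kernel) (by decide +kernel) der_ok_8_4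
  have e_37 : pPerm 37 ∈ imgD 8 :=
    imgD_comm (a := 33) (b := 35) e_33 e_35 (by decide +kernel) (by decide +kernel) (by decide +kernel) der_ok_8_7
  exact ⟨e_36, e_37⟩

/-- a member of a derived subgroup over a word -/
theorem lift_eight {w : List ℕ} {i : ℕ} (hi : i < permTab.length)
    (h : liftOK w (pTab i) = true) (hD : pPerm i ∈ imgD 8) :
    ∃ t ∈ derivedSeries memStab 8, ∃ k : ℤ, (t : Spor.Fi23) = eval gn w * zel ^ k := by
  obtain ⟨t, ht, e⟩ := hD
  let s : memStab := ⟨eval gn w, lift_mem h⟩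
  have hk : (s⁻¹ * t : memStab).1 ∈ Subgroup.zpowers zel := fix_members fun a => by
    rw [psi_spec, map_mul, map_inv, e, psi_lift hi h, inv_mul_cancel, Equiv.Perm.one_apply]
  obtain ⟨k, hk⟩ := Subgroup.mem_zpowers_iff.mp hk
  refine ⟨t, ht, k, ?_⟩
  rw [hk]
  show (t : Spor.Fi23) = eval gn w * ((eval gn w)⁻¹ * t)
  group

theorem derived_nine_ne_bot : derivedSeries memStab 9 ≠ ⊥ := by
  obtain ⟨hu, hv⟩ := img_eight
  obtain ⟨t, ht, k, et⟩ := lift_eight (by decide +kernel) uw_ok hu
  obtain ⟨t', ht', k', et'⟩ := lift_eight (by decide +kernel) vw_ok hv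
  intro hbot
  have h1 : ⁅t, t'⁆ = 1 := by
    rw [← Subgroup.mem_bot, ← hbot, derivedSeries_succ]
    exact Subgroup.commutator_mem_commutator ht ht'
  have h2 : (t : Spor.Fi23) * t' = t' * t :=
    congrArg Subtype.val (commutatorElement_eq_one_iff_mul_comm.mp h1)
  have hz := zu_comm
  simp only [Bool.and_eq_true] at hz
  have zu : Commute zel (eval gn uw) := by
    have e := eq_of_eqB hz.1
    rw [eval_append, eval_append] at e
    exact e.symm
  have zv : Commute zel (eval gn vw) := by
    have e := eq_of_eqB hz.2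
    rw [eval_append, eval_append] at e
    exact e.symm
  have key : eval gn uw * eval gn vw = eval gn vw * eval gn uw := by
    rw [et, et'] at h2
    have a : eval gn uw * zel ^ k * (eval gn vw * zel ^ k') =
        eval gn uw * eval gn vw * zel ^ (k + k') := by
      rw [← mul_assoc, mul_assoc (eval gn uw), (zv.zpow_left k).eq, ← mul_assoc, mul_assoc,
        ← zpow_add]
    have b : eval gn vw * zel ^ k' * (eval gn uw * zel ^ k) =
        eval gn vw * eval gn uw * zel ^ (k + k') := by
      rw [← mul_assoc, mul_assoc (eval gn vw), (zu.zpow_left k').eq, ← mul_assoc, mul_assoc,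
        ← zpow_add, add_comm k']
    rw [a, b] at h2
    exact mul_right_cancel h2
  have hl : lw uw = true ∧ lw vw = true := ⟨(liftOK_spec uw_ok).1, (liftOK_spec vw_ok).1⟩
  rw [← eval_append, ← eval_append] at key
  have e := congrArg (fun g => app g 0) key
  simp only [app_word (lw_append hl.1 hl.2) (by norm_num : (0 : ℕ) < 31671),
    app_word (lw_append hl.2 hl.1) (by norm_num : (0 : ℕ) < 31671)] at e
  have hne := uv_ne
  rw [Bool.eq_false_iff] at hne
  exact hne (beq_iff.mpr e.symm)

theorem derived_ten_ne : derivedSeries memStab 10 ≠ derivedSeries memStab 9 := by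
  intro h
  have hst : ∀ n, derivedSeries memStab (9 + n) = derivedSeries memStab 9 := by
    intro n
    induction n with
    | zero => rfl
    | succ n ih => rw [← Nat.add_assoc, derivedSeries_succ, ih, ← derivedSeries_succ]; exact h
  obtain ⟨n, hn⟩ := isSolvable_memStab.solvable
  exact derived_nine_ne_bot (le_bot_iff.mp (hn ▸ (hst n) ▸ derivedSeries_antitone _ (Nat.le_add_left n 9)))

/-- The constant 10 in the statement that H⁽¹⁰⁾ is perfect for every maximal subgroup H of a finite almost simple group cannot be lowered to 9: there exist a finite almost simple group G (with a non-abelian simple normal subgroup of trivial centralizer) and a maximal subgroup H of G whose ninth derived subgroup H⁽⁹⁾ is not perfect, i.e. H⁽¹⁰⁾ ≠ H⁽⁹⁾. (A solvable maximal subgroup of derived length 10 in the Fischer group Fi₂₃ is such an example.) -/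
theorem result :
    ∃ (G : Type) (_ : Group G) (_ : Finite G) (S H : Subgroup G), S.Normal ∧ IsSimpleGroup S ∧ ¬ IsMulCommutative S ∧
      Subgroup.centralizer (S : Set G) = ⊥ ∧ IsCoatom H ∧ derivedSeries H 10 ≠ derivedSeries H 9 := by
  haveI : Finite Spor.Fi23 := S1697.order_le.1
  haveI : IsSimpleGroup Spor.Fi23 := S1697.result.1
  haveI : IsSimpleGroup (⊤ : Subgroup Spor.Fi23) := Subgroup.topEquiv.isSimpleGroup
  refine ⟨Spor.Fi23, inferInstance, inferInstance, ⊤, memStab, inferInstance, inferInstance, ?_, ?_,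
    isCoatom_memStab, derived_ten_ne⟩
  · intro hc
    letI : CommGroup (⊤ : Subgroup Spor.Fi23) :=
      { (inferInstance : Group (⊤ : Subgroup Spor.Fi23)) with mul_comm := hc.is_comm.comm }
    have hp := (IsSimpleGroup.prime_card (α := (⊤ : Subgroup Spor.Fi23)))
    rw [Subgroup.card_top, S1697.result.2] at hp
    exact absurd hp (by norm_num)
  · rw [Subgroup.coe_top, Subgroup.centralizer_univ]
    exact eq_one_of_fix.center_eq_bot

end Cfsg.Agent.S5883
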