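import Cfsg.Statements.S5885
import Mathlib

set_option autoImplicit false
set_option linter.style.haveILetI false
open Cfsg

namespace Cfsg.Agent.S5885


open scoped Pointwise

/-- Let n be an odd positive integer such that every primitive permutation group of degree n contains the alternating group (so the symmetric and alternating groups are the only primitive groups of degree n). Let G be a finite group, M a maximal subgroup of G of index n, and H a maximal subgroup of M. Then H is a second maximal subgroup of G: H is maximal in every maximal subgroup K of G containing H. -/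
theorem result {G : Type*} [Group G]
    [Finite G] (n : ℕ) (hodd : Odd n)
    (hA : ∀ P : Subgroup (Equiv.Perm (Fin n)), MulAction.IsPreprimitive P (Fin n) → alternatingGroup (Fin n) ≤ P)
    (M : Subgroup G) (hM : IsCoatom M) (hn : M.index = n) (H : Subgroup G) (hHM : H ≤ M)
    (hmax : IsCoatom (H.subgroupOf M)) (K : Subgroup G) (hK : IsCoatom K) (hHK : H ≤ K) :
    IsCoatom (H.subgroupOf K) := by
  classical
  set X := G ⧸ M with hX
  haveI : Finite X := inferInstance
  haveI : Fintype X := Fintype.ofFinite X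
  have hcard : Fintype.card X = n := by rw [← Nat.card_eq_fintype_card]; exact hn
  set α : X := ((1 : G) : X) with hα
  have hstab : MulAction.stabilizer G α = M := MulAction.stabilizer_quotient M
  haveI htr : MulAction.IsPretransitive G X := inferInstance
  have hMne : M ≠ ⊤ := hM.1
  haveI : Nontrivial X := by
    rw [← Finite.one_lt_card_iff_nontrivial]
    exact lt_of_le_of_ne Nat.card_pos fun h => hMne (Subgroup.index_eq_one.mp h.symm)
  have hprim : MulAction.IsPreprimitive G X :=
    (MulAction.isCoatom_stabilizer_iff_preprimitive G α).mp (hstab.symm ▸ hM)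
  -- every 3-cycle of `X` is induced by `G`
  let e : X ≃ Fin n := Fintype.equivFinOfCardEq hcard
  let φ : G →* Equiv.Perm (Fin n) := e.permCongrHom.toMonoidHom.comp (MulAction.toPermHom G X)
  haveI : MulAction.IsPreprimitive φ.range (Fin n) := by
    let ρ : G → φ.range := φ.rangeRestrict
    have hsm : ∀ (g : G) (x : X), e (g • x) = ρ g • e x := fun g x => by
      show e (g • x) = e ((MulAction.toPermHom G X g) (e.symm (e x)))
      rw [Equiv.symm_apply_apply]; rfl
    let f : X →ₑ[ρ] Fin n := { toFun := e, map_smul' := hsm }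
    exact MulAction.IsPreprimitive.of_surjective (f := f) e.surjective
  have hAn := hA φ.range inferInstance
  have h3 : ∀ x y z : X, x ≠ y → x ≠ z → y ≠ z →
      ∃ g : G, g • x = y ∧ g • z = x ∧ ∀ w, w ≠ x → w ≠ y → w ≠ z → g • w = w := by
    intro x y z hxy hxz hyz
    obtain ⟨g, hg⟩ := hAn (x := Equiv.swap (e x) (e z) * Equiv.swap (e x) (e y)) (by
      rw [Equiv.Perm.mem_alternatingGroup, map_mul, Equiv.Perm.sign_swap (e.injective.ne hxz),
        Equiv.Perm.sign_swap (e.injective.ne hxy)]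
      rfl)
    have hg' : ∀ w, e (g • w) = (Equiv.swap (e x) (e z) * Equiv.swap (e x) (e y)) (e w) := by
      intro w
      rw [← hg]
      show e (g • w) = e ((MulAction.toPermHom G X g) (e.symm (e w)))
      rw [Equiv.symm_apply_apply]; rfl
    refine ⟨g, ?_, ?_, fun w h1 h2 h4 => ?_⟩
    · apply e.injective
      rw [hg', Equiv.Perm.mul_apply, Equiv.swap_apply_left,
        Equiv.swap_apply_of_ne_of_ne (e.injective.ne hxy.symm) (e.injective.ne hyz)]
    · apply e.injective
      rw [hg', Equiv.Perm.mul_apply, Equiv.swap_apply_of_ne_of_ne (e.injective.ne hxz.symm) (e.injective.ne hyz.symm),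
        Equiv.swap_apply_right]
    · apply e.injective
      rw [hg', Equiv.Perm.mul_apply, Equiv.swap_apply_of_ne_of_ne (e.injective.ne h1) (e.injective.ne h2),
        Equiv.swap_apply_of_ne_of_ne (e.injective.ne h1) (e.injective.ne h4)]
  -- the trivial case
  by_cases hKM : K = M
  · subst hKM; exact hmax
  have hMle : ∀ U : Subgroup G, H ≤ U → U ≤ M → U = H ∨ U = M := by
    intro U hHU hUM
    rcases eq_or_lt_of_le (Subgroup.comap_mono hHU : H.subgroupOf M ≤ U.subgroupOf M) with h | h
    · left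
      refine le_antisymm (fun u hu => ?_) hHU
      have hu' : (⟨u, hUM hu⟩ : M) ∈ U.subgroupOf M := hu
      have h' : H.subgroupOf M = U.subgroupOf M := h
      rw [← h'] at hu'
      exact hu'
    · right
      exact le_antisymm hUM (Subgroup.subgroupOf_eq_top.mp (hmax.2 _ h))
  have hKMH : K ⊓ M = H := by
    rcases hMle (K ⊓ M) (le_inf hHK hHM) inf_le_right with h | h
    · exact h
    · exfalso
      have hMK : M ≤ K := by rw [← h]; exact inf_le_left
      exact hKM ((hMK.eq_or_lt).resolve_right fun hlt => hK.1 (hM.2 K hlt)).symm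
  refine ⟨fun h => ?_, fun L' hL' => ?_⟩
  · have hKH : K ≤ H := Subgroup.subgroupOf_eq_top.mp h
    exact hKM (hM.2 K |> fun hh => ((hKH.trans hHM).eq_or_lt).resolve_right fun hlt => hMne (hK.2 M hlt))
  -- `L` strictly between `H` and `K`
  by_contra hLtop
  set L := L'.map K.subtype with hL
  have hHL : H ≤ L := by
    intro h hh
    exact ⟨⟨h, hHK hh⟩, hL'.le hh, rfl⟩
  obtain ⟨l₀, hl₀, hl₀H⟩ := SetLike.exists_of_lt hL'
  obtain ⟨k, hk⟩ : ∃ k : K, k ∉ L' := by
    by_contra h
    push Not at h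
    exact hLtop (top_unique fun x _ => h x)
  set B : Set X := MulAction.orbit L α with hB
  have hαB : α ∈ B := MulAction.mem_orbit_self α
  -- the translate of `α` by `k` is outside `B`
  have hkB : (k : G) • α ∉ B := by
    rintro ⟨⟨l, hl⟩, hlk⟩
    have h1 : l⁻¹ * (k : G) ∈ K ⊓ M := by
      refine ⟨K.mul_mem (K.inv_mem (Subgroup.map_subtype_le _ hl)) k.2, ?_⟩
      refine hstab.le ?_
      rw [MulAction.mem_stabilizer_iff, mul_smul, ← show l • α = (k : G) • α from hlk, inv_smul_smul]
    rw [hKMH] at h1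
    have h2 : (k : G) ∈ L := by
      have := L.mul_mem hl (hHL h1)
      rwa [← mul_assoc, mul_inv_cancel, one_mul] at this
    obtain ⟨k', hk', hkk⟩ := h2
    exact hk (by rwa [← K.subtype_injective hkk])
  have hl₀B : ((l₀ : K) : G) • α ∈ B := ⟨⟨_, ⟨l₀, hl₀, rfl⟩⟩, rfl⟩
  have hl₀α : ((l₀ : K) : G) • α ≠ α := fun h => hl₀H (by
    have : ((l₀ : K) : G) ∈ K ⊓ M := ⟨(l₀ : K).2, hstab ▸ MulAction.mem_stabilizer_iff.mpr h⟩
    rw [hKMH] at this
    exact this)
  -- the translate of `B` through `k • α`, and a point outside both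
  have hBtrans : ∀ k₁ ∈ K, α ∈ k₁ • B → k₁ • B = B := by
    intro k₁ hk₁ hmem
    obtain ⟨_, ⟨⟨l, hl⟩, rfl⟩, hlα⟩ := hmem
    have h1 : k₁ * l ∈ K ⊓ M := by
      refine ⟨K.mul_mem hk₁ (Subgroup.map_subtype_le _ hl), ?_⟩
      refine hstab.le ?_
      rw [MulAction.mem_stabilizer_iff, mul_smul]
      exact hlα
    rw [hKMH] at h1
    have h2 : k₁ ∈ L := by
      have := L.mul_mem (hHL h1) (L.inv_mem hl)
      rwa [mul_inv_cancel_right] at this
    exact MulAction.smul_orbit (⟨k₁, h2⟩ : L) α
  set B₂ : Set X := (k : G) • B with hB₂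
  have hdisj : ∀ w, w ∈ B₂ → w ∉ B := by
    intro w hw hwB
    obtain ⟨⟨l, hl⟩, rfl⟩ := hwB
    have hmem : α ∈ (l⁻¹ * (k : G)) • B := by
      rw [mul_smul, Set.mem_inv_smul_set_iff]
      exact hw
    have h1 := hBtrans _ (K.mul_mem (K.inv_mem (Subgroup.map_subtype_le _ hl)) k.2) hmem
    apply hkB
    have h2 : (l⁻¹ * (k : G)) • α ∈ B := h1 ▸ Set.smul_mem_smul_set hαB
    have h3' : l • ((l⁻¹ * (k : G)) • α) ∈ B := by
      have := Set.smul_mem_smul_set (a := l) h2
      rwa [show l • B = B from MulAction.smul_orbit (⟨l, hl⟩ : L) α] at this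
    rwa [← mul_smul, mul_inv_cancel_left] at h3'
  -- `H` is the stabiliser of `B` in `M`
  have hHB : M ⊓ MulAction.stabilizer G B = H := by
    have hHstab : H ≤ MulAction.stabilizer G B := by
      intro h hh
      rw [MulAction.mem_stabilizer_iff]
      exact MulAction.smul_orbit (⟨h, hHL hh⟩ : L) α
    rcases hMle (M ⊓ MulAction.stabilizer G B) (le_inf hHM hHstab) inf_le_left with h | h
    · exact h
    · exfalso
      have hkB₂ : (k : G) • ((l₀ : K) : G) • α ∈ B₂ := Set.smul_mem_smul_set hl₀B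
      have hkα : (k : G) • α ∈ B₂ := Set.smul_mem_smul_set hαB
      obtain ⟨g, hgx, -, hgo⟩ := h3 (((l₀ : K) : G) • α) ((k : G) • α) ((k : G) • ((l₀ : K) : G) • α)
        (fun hh => hkB (hh ▸ hl₀B)) (fun hh => hdisj _ hkB₂ (hh ▸ hl₀B))
        (fun hh => hl₀α (MulAction.injective _ hh).symm)
      have hgM : g ∈ M := by
        rw [← hstab, MulAction.mem_stabilizer_iff]
        exact hgo α hl₀α.symm (fun hh => hdisj _ hkα (hh ▸ hαB)) (fun hh => hdisj _ hkB₂ (hh ▸ hαB))
      rw [← h] at hgM
      have hgB : g • B = B := hgM.2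
      exact hkB (hgB ▸ hgx ▸ Set.smul_mem_smul_set hl₀B)
  obtain ⟨y, hy⟩ : ∃ y, y ∉ B ∪ B₂ := by
    by_contra hc
    push Not at hc
    have h1 : (B ∪ B₂).ncard = n := by
      rw [show B ∪ B₂ = Set.univ from Set.eq_univ_of_forall hc, Set.ncard_univ, Nat.card_eq_fintype_card, hcard]
    rw [Set.ncard_union_eq (Set.disjoint_left.mpr fun w h1 h2 => hdisj w h2 h1)] at h1
    have h2 : B₂.ncard = B.ncard := Set.ncard_smul_set _ _
    rw [Nat.odd_iff] at hodd
    omega
  set x := (k : G) • α with hx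
  set z := (k : G) • ((l₀ : K) : G) • α with hz
  have hxB₂ : x ∈ B₂ := Set.smul_mem_smul_set hαB
  have hzB₂ : z ∈ B₂ := Set.smul_mem_smul_set hl₀B
  have hxy : x ≠ y := fun hh => hy (Or.inr (hh ▸ hxB₂))
  have hzy : z ≠ y := fun hh => hy (Or.inr (hh ▸ hzB₂))
  have hxz : x ≠ z := fun hh => hl₀α (MulAction.injective _ hh).symm
  obtain ⟨g, hgx, hgz, hgo⟩ := h3 x y z hxy hxz hzy.symm
  have hgfix : ∀ w ∈ B, g • w = w := fun w hw => hgo w (fun hh => hdisj x hxB₂ (hh ▸ hw))
    (fun hh => hy (Or.inl (hh ▸ hw))) (fun hh => hdisj z hzB₂ (hh ▸ hw))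
  have hgH : g ∈ H := by
    rw [← hHB]
    refine ⟨hstab ▸ MulAction.mem_stabilizer_iff.mpr (hgfix α hαB), MulAction.mem_stabilizer_iff.mpr ?_⟩
    ext w
    constructor
    · rintro ⟨v, hv, rfl⟩
      show g • v ∈ B
      rw [hgfix v hv]
      exact hv
    · intro hw; exact ⟨w, hw, hgfix w hw⟩
  have hmem : α ∈ ((k : G)⁻¹ * g * (k : G)) • B := by
    rw [mul_assoc, mul_smul, Set.mem_inv_smul_set_iff, mul_smul]
    exact ⟨z, hzB₂, hgz⟩
  have h5 := hBtrans _ (K.mul_mem (K.mul_mem (K.inv_mem k.2) (hHK hgH)) k.2) hmem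
  have h6 : g • B₂ = B₂ := by
    have := congrArg ((k : G) • ·) h5
    simp only [smul_smul, ← mul_assoc, mul_inv_cancel, one_mul] at this
    rwa [hB₂, smul_smul]
  exact hy (Or.inr (h6 ▸ hgx ▸ Set.smul_mem_smul_set hxB₂))

end Cfsg.Agent.S5885
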