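import Cfsg.Statements.S5887
import Mathlib

set_option autoImplicit false
set_option linter.style.haveILetI false
open Cfsg

namespace Cfsg.Agent.S5887


open scoped Matrix
open Cfsg.Geo

variable {F : Type*} [Field F] {n : ℕ}

/-- Two field subalgebras `A < B` of small degree: an element of `SL_n` centralising `A` and not
normalising `B`. -/
theorem exists_centralizing_not_normalizing [Fintype F] {r s : ℕ} (A B : Subalgebra F (Matrix (Fin n) (Fin n) F))
    (hA : IsFieldSubalgebra s A) (hB : IsFieldSubalgebra r B) (hrn : r < n) (hAB : A ≤ B) (hne : A ≠ B) :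
    ∃ g ∈ specialLinear (Fin n) F, g ∉ subalgebraNormalizer B ∧
      ∀ a ∈ A, (g : Matrix (Fin n) (Fin n) F) * a * ((g⁻¹ : GL (Fin n) F) : Matrix (Fin n) (Fin n) F) = a := by
  classical
  obtain ⟨k, hkB, hkA⟩ := SetLike.exists_of_lt (lt_of_le_of_ne hAB hne)
  haveI : Nontrivial A := ⟨⟨1, 0, fun h => by
    have := congrArg (fun a : A => (a : Matrix (Fin n) (Fin n) F) (⟨0, by omega⟩) (⟨0, by omega⟩)) h
    simp at this⟩⟩
  letI fA : Field A :=
    IsField.toField
      { exists_pair_ne := exists_pair_ne A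
        mul_comm := fun x y => Subtype.ext (hA.comm x x.2 y y.2)
        mul_inv_cancel := fun {x} hx => by
          obtain ⟨y, hy, hxy⟩ := hA.inv x x.2 (fun h => hx (Subtype.ext h))
          exact ⟨⟨y, hy⟩, Subtype.ext hxy⟩ }
  letI mA : Module A (Fin n → F) :=
    { smul := fun a v => (a : Matrix (Fin n) (Fin n) F) *ᵥ v
      one_smul := fun v => Matrix.one_mulVec v
      mul_smul := fun a b v => (Matrix.mulVec_mulVec v _ _).symm
      smul_zero := fun a => Matrix.mulVec_zero _
      zero_smul := fun v => Matrix.zero_mulVec v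
      smul_add := fun a v w => Matrix.mulVec_add _ v w
      add_smul := fun a b v => Matrix.add_mulVec _ _ v }
  have hsmul : ∀ (a : A) (v : Fin n → F), a • v = (a : Matrix (Fin n) (Fin n) F) *ᵥ v := fun a v => rfl
  haveI hT : IsScalarTower F A (Fin n → F) := ⟨fun c a v => Matrix.smul_mulVec c _ v⟩
  -- two vectors independent over `B`
  let e₁ : Fin n → F := Pi.single ⟨0, by omega⟩ 1
  let ev : B →ₗ[F] (Fin n → F) :=
    { toFun := fun b => (b : Matrix (Fin n) (Fin n) F) *ᵥ e₁
      map_add' := fun b c => Matrix.add_mulVec _ _ _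
      map_smul' := fun c b => Matrix.smul_mulVec c _ _ }
  have hev : ev.range ≠ ⊤ := by
    intro h
    have h1 := LinearMap.finrank_range_le ev
    rw [h, finrank_top, Module.finrank_fin_fun, hB.finrank_eq] at h1
    omega
  obtain ⟨e₂, -, he₂⟩ := SetLike.exists_of_lt (lt_top_iff_ne_top.mpr hev)
  have hindep : ∀ b ∈ B, ∀ c ∈ B, b *ᵥ e₁ = c *ᵥ e₂ → b = 0 := by
    intro b hb c hc h
    by_cases hc0 : c = 0
    · by_contra hb0
      obtain ⟨y, -, hy⟩ := hB.inv b hb hb0
      have hy' : y * b = 1 := (mul_eq_one_comm).mp hy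
      have h1 : y *ᵥ (b *ᵥ e₁) = 0 := by rw [h, hc0, Matrix.zero_mulVec, Matrix.mulVec_zero]
      rw [Matrix.mulVec_mulVec, hy', Matrix.one_mulVec] at h1
      have h2 := congrFun h1 (⟨0, by omega⟩ : Fin n)
      simp [e₁] at h2
    · exfalso
      obtain ⟨y, hy, hcy⟩ := hB.inv c hc hc0
      refine he₂ ⟨⟨y * b, B.mul_mem hy hb⟩, ?_⟩
      show (y * b) *ᵥ e₁ = e₂
      rw [← Matrix.mulVec_mulVec, h, Matrix.mulVec_mulVec, (mul_eq_one_comm).mp hcy, Matrix.one_mulVec]
  -- a functional over `A`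
  set S : Submodule A (Fin n → F) := Submodule.span A {e₁, e₂, k *ᵥ e₂}
  have hnot : k *ᵥ e₁ ∉ S := by
    intro h
    obtain ⟨a, z, hz, heq⟩ := Submodule.mem_span_insert.mp h
    obtain ⟨b, c, rfl⟩ := Submodule.mem_span_pair.mp hz
    rw [hsmul, hsmul, hsmul, Matrix.mulVec_mulVec, ← Matrix.add_mulVec] at heq
    have h1 : (k - (a : Matrix (Fin n) (Fin n) F)) *ᵥ e₁ = ((b : Matrix (Fin n) (Fin n) F) + (c : Matrix (Fin n) (Fin n) F) * k) *ᵥ e₂ := by
      rw [Matrix.sub_mulVec, heq, add_sub_cancel_left]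
    have h2 := hindep _ (B.sub_mem hkB (hAB a.2)) _ (B.add_mem (hAB b.2) (B.mul_mem (hAB c.2) hkB)) h1
    exact hkA ((sub_eq_zero.mp h2) ▸ a.2)
  obtain ⟨φ, hφ, hφS⟩ := Submodule.exists_dual_map_eq_bot_of_notMem hnot inferInstance
  have hφ0 : ∀ v ∈ S, φ v = 0 := fun v hv => by
    have : φ v ∈ S.map φ := ⟨v, hv, rfl⟩
    rw [hφS] at this
    exact (Submodule.mem_bot A).mp this
  have hφe1 : φ e₁ = 0 := hφ0 _ (Submodule.subset_span (by simp))
  let Nl : (Fin n → F) →ₗ[F] (Fin n → F) :=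
    { toFun := fun v => (φ v) • e₁
      map_add' := fun v w => by rw [map_add, add_smul]
      map_smul' := fun c v => by
        rw [RingHom.id_apply, LinearMap.map_smul_of_tower, smul_assoc] }
  let N : Matrix (Fin n) (Fin n) F := LinearMap.toMatrix' Nl
  have hN : ∀ v, N *ᵥ v = φ v • e₁ := fun v => LinearMap.toMatrix'_mulVec Nl v
  have hNN : N * N = 0 := by
    refine Matrix.ext_of_mulVec_single fun i => ?_
    rw [← Matrix.mulVec_mulVec, hN, hN, map_smul, hφe1, smul_zero, zero_smul, Matrix.zero_mulVec]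
  let g : GL (Fin n) F := ⟨1 + N, 1 - N, by rw [mul_sub, add_mul, add_mul, hNN]; simp,
    by rw [mul_add, sub_mul, sub_mul, hNN]; simp⟩
  have hcomm : ∀ a ∈ A, N * a = a * N := by
    intro a ha
    refine Matrix.ext_of_mulVec_single fun i => ?_
    rw [← Matrix.mulVec_mulVec, ← Matrix.mulVec_mulVec, hN, hN]
    rw [show a *ᵥ Pi.single i 1 = (⟨a, ha⟩ : A) • (Pi.single i 1 : Fin n → F) from rfl, map_smul,
      smul_eq_mul, mul_smul]
    rfl
  refine ⟨g, ?_, ?_, fun a ha => ?_⟩
  · -- determinant one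
    obtain ⟨p, hp⟩ := CharP.exists F
    haveI := Fact.mk (CharP.char_is_prime F p)
    haveI : CharP (Matrix (Fin n) (Fin n) F) p :=
      haveI : Nonempty (Fin n) := ⟨⟨0, by omega⟩⟩
      inferInstance
    have h1 : (1 + N) ^ p = 1 := by
      rw [add_pow_char_of_commute p (Commute.one_left N), one_pow]
      obtain ⟨j, hj⟩ : ∃ j, p = j + 2 := ⟨p - 2, by have := (Fact.out : p.Prime).two_le; omega⟩
      rw [hj, pow_add, sq, hNN, mul_zero, add_zero]
    have h2 : (1 + N).det ^ p = 1 := by rw [← Matrix.det_pow, h1, Matrix.det_one]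
    have h3 : ((1 + N).det - 1) ^ p = 0 := by rw [sub_pow_char, h2, one_pow, sub_self]
    show Matrix.GeneralLinearGroup.det g = 1
    apply Units.ext
    rw [Matrix.GeneralLinearGroup.val_det_apply]
    exact sub_eq_zero.mp (eq_zero_of_pow_eq_zero h3)
  · intro hg
    have hmem := (hg k).mp hkB
    set k' := (g : Matrix (Fin n) (Fin n) F) * k * ((g⁻¹ : GL (Fin n) F) : Matrix (Fin n) (Fin n) F) with hk'
    have hval : k' = (1 + N) * k * (1 - N) := rfl
    have h2 : k' *ᵥ e₂ = k *ᵥ e₂ := by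
      rw [hval, ← Matrix.mulVec_mulVec, ← Matrix.mulVec_mulVec, Matrix.sub_mulVec, Matrix.one_mulVec, hN,
        hφ0 e₂ (Submodule.subset_span (by simp)), zero_smul, sub_zero, Matrix.add_mulVec, Matrix.one_mulVec, hN,
        hφ0 (k *ᵥ e₂) (Submodule.subset_span (by simp)), zero_smul, add_zero]
    have h1 : k' *ᵥ e₁ = k *ᵥ e₁ + φ (k *ᵥ e₁) • e₁ := by
      rw [hval, ← Matrix.mulVec_mulVec, ← Matrix.mulVec_mulVec, Matrix.sub_mulVec, Matrix.one_mulVec, hN,
        hφe1, zero_smul, sub_zero, Matrix.add_mulVec, Matrix.one_mulVec, hN]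
    have hkk : k' = k := by
      by_contra hkk
      obtain ⟨y, -, hy⟩ := hB.inv _ (B.sub_mem hmem hkB) (sub_ne_zero.mpr hkk)
      have h4 : (y * (k' - k)) *ᵥ e₂ = 0 := by
        rw [← Matrix.mulVec_mulVec, Matrix.sub_mulVec, h2, sub_self, Matrix.mulVec_zero]
      rw [(mul_eq_one_comm).mp hy, Matrix.one_mulVec] at h4
      exact he₂ (h4 ▸ Submodule.zero_mem _)
    rw [hkk, left_eq_add] at h1
    have he₁ : e₁ ≠ 0 := fun h => by
      have h5 := congrFun h (⟨0, by omega⟩ : Fin n)
      simp [e₁] at h5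
    rcases smul_eq_zero.mp h1 with h5 | h5
    · exact hφ h5
    · exact he₁ h5
  · show (1 + N) * a * (1 - N) = a
    rw [add_mul, one_mul, hcomm a ha, add_mul, mul_sub, mul_sub, mul_one, mul_one, mul_assoc, hNN, mul_zero]
    abel

theorem mem_normalizer_of_conj_mem [Fintype F] (A : Subalgebra F (Matrix (Fin n) (Fin n) F)) (g : GL (Fin n) F)
    (h : ∀ a ∈ A, (g : Matrix (Fin n) (Fin n) F) * a * ((g⁻¹ : GL (Fin n) F) : Matrix (Fin n) (Fin n) F) ∈ A) :
    g ∈ subalgebraNormalizer A := by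
  intro a
  refine ⟨h a, fun ha => ?_⟩
  let f : A → A := fun x => ⟨_, h x x.2⟩
  have hf : Function.Injective f := by
    intro x y hxy
    have h1 : (g : Matrix (Fin n) (Fin n) F) * x * ((g⁻¹ : GL (Fin n) F) : Matrix (Fin n) (Fin n) F) =
        g * y * ((g⁻¹ : GL (Fin n) F) : Matrix (Fin n) (Fin n) F) := congrArg Subtype.val hxy
    exact Subtype.ext ((Units.mul_right_inj g).mp ((Units.mul_left_inj g⁻¹).mp h1))
  obtain ⟨x, hx⟩ := Finite.surjective_of_injective hf ⟨_, ha⟩
  have h1 := congrArg Subtype.val hx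
  have h2 : (x : Matrix (Fin n) (Fin n) F) = a :=
    (Units.mul_right_inj g).mp ((Units.mul_left_inj g⁻¹).mp h1)
  exact h2 ▸ x.2

theorem not_maximal [Fintype F] {r : ℕ} (hr1 : 1 < r) (hrp : ¬ r.Prime) (hlt : r < n)
    (K : Subalgebra F (Matrix (Fin n) (Fin n) F)) (hK : IsFieldSubalgebra r K) :
    ∃ L : Subalgebra F (Matrix (Fin n) (Fin n) F), subalgebraNormalizer K ≤ subalgebraNormalizer L ∧
      (∃ g ∈ specialLinear (Fin n) F, g ∈ subalgebraNormalizer L ∧ g ∉ subalgebraNormalizer K) ∧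
      ∃ g ∈ specialLinear (Fin n) F, g ∉ subalgebraNormalizer L := by
  classical
  haveI : Nonempty (Fin n) := ⟨⟨0, by omega⟩⟩
  set q := Fintype.card F with hq
  have hq2 : 1 < q := Fintype.one_lt_card
  set s := r.minFac with hs
  have hsp : s.Prime := Nat.minFac_prime (by omega)
  have hsr : s ∣ r := Nat.minFac_dvd r
  have hsr' : s < r := lt_of_le_of_ne (Nat.le_of_dvd (by omega) hsr) fun h => hrp (h ▸ hsp)
  obtain ⟨p, hp⟩ := CharP.exists F
  haveI := Fact.mk (CharP.char_is_prime F p)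
  obtain ⟨f, -, hf⟩ := FiniteField.card F p
  letI cK : CommRing K := { (inferInstance : Ring K) with mul_comm := fun x y => Subtype.ext (hK.comm x x.2 y y.2) }
  haveI : CharP K p := (Subalgebra.toSubsemiring K).subtype |>.charP Subtype.val_injective p
  have hpow : q ^ s = p ^ ((f : ℕ) * s) := by rw [hq, hf, ← pow_mul]
  -- the intermediate field
  let L : Subalgebra F (Matrix (Fin n) (Fin n) F) :=
    { carrier := {x | x ∈ K ∧ x ^ (q ^ s) = x}
      mul_mem' := fun {a b} ha hb => ⟨K.mul_mem ha.1 hb.1, by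
        rw [(show Commute a b from hK.comm a ha.1 b hb.1).mul_pow, ha.2, hb.2]⟩
      add_mem' := fun {a b} ha hb => ⟨K.add_mem ha.1 hb.1, by
        have h := add_pow_char_pow_of_commute (p := p) (n := (f : ℕ) * s)
          (show Commute a b from hK.comm a ha.1 b hb.1)
        rw [← hpow] at h
        rw [h, ha.2, hb.2]⟩
      algebraMap_mem' := fun c => ⟨K.algebraMap_mem c, by
        rw [← map_pow, hq, FiniteField.pow_card_pow]⟩ }
  have hLK : L ≤ K := fun x hx => hx.1
  have hLfield : IsFieldSubalgebra (Module.finrank F L) L := by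
    refine ⟨fun x hx y hy => hK.comm x hx.1 y hy.1, fun x hx hx0 => ?_, rfl⟩
    obtain ⟨y, hy, hxy⟩ := hK.inv x hx.1 hx0
    refine ⟨y, ⟨hy, ?_⟩, hxy⟩
    have hc : Commute x y := hK.comm x hx.1 y hy
    have h1 : x * y ^ (q ^ s) = x * y := by
      conv_lhs => rw [← hx.2, ← hc.mul_pow, hxy, one_pow]
      exact hxy.symm
    have h2 : y * x = 1 := (mul_eq_one_comm).mp hxy
    have h3 := congrArg (y * ·) h1
    simpa [← mul_assoc, h2] using h3
  -- the field `K`
  haveI : Nontrivial K := ⟨⟨1, 0, fun h => by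
    have := congrArg (fun a : K => (a : Matrix (Fin n) (Fin n) F) (Classical.arbitrary _) (Classical.arbitrary _)) h
    simp at this⟩⟩
  haveI : IsDomain K := IsField.isDomain
      { exists_pair_ne := exists_pair_ne K
        mul_comm := mul_comm
        mul_inv_cancel := fun {x} hx => by
          obtain ⟨y, hy, hxy⟩ := hK.inv x x.2 (fun h => hx (Subtype.ext h))
          exact ⟨⟨y, hy⟩, Subtype.ext hxy⟩ }
  haveI : Finite K := inferInstance
  have hcardK : Nat.card K = q ^ r := by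
    rw [Module.natCard_eq_pow_finrank (K := F) (V := K), hK.finrank_eq, Nat.card_eq_fintype_card]
  have hfield : IsField K := Finite.isField_of_domain K
  letI := hfield.toField
  obtain ⟨ζ, hζ⟩ := IsCyclic.exists_generator (α := Kˣ)
  have hordζ : orderOf ζ = q ^ r - 1 := by
    rw [orderOf_eq_card_of_forall_mem_zpowers hζ, Nat.card_units, hcardK]
  have h0s : 1 ≤ q ^ s := Nat.one_le_pow _ _ (by omega)
  -- `L` is not `K`
  have hLne : L ≠ K := by
    intro h
    have h1 : ((ζ : K) : Matrix (Fin n) (Fin n) F) ∈ L := (SetLike.ext_iff.mp h _).mpr (ζ : K).2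
    have h2 : (ζ : K) ^ (q ^ s) = (ζ : K) := Subtype.ext h1.2
    have h3 : ζ ^ (q ^ s - 1) = 1 := by
      have h4 : ζ ^ (q ^ s - 1) * ζ = 1 * ζ := by
        rw [one_mul, ← pow_succ, Nat.sub_add_cancel h0s]
        exact Units.ext (by rw [Units.val_pow_eq_pow_val, h2])
      exact mul_right_cancel h4
    have h5 := orderOf_dvd_of_pow_eq_one h3
    rw [hordζ] at h5
    have h6 : q ^ s < q ^ r := Nat.pow_lt_pow_right hq2 hsr'
    have h7 : 2 ≤ q ^ s := le_trans hq2 (Nat.le_self_pow hsp.ne_zero q)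
    have := Nat.le_of_dvd (by omega) h5
    omega
  -- `L` is not the scalars
  have hLbot : (⊥ : Subalgebra F (Matrix (Fin n) (Fin n) F)) ≠ L := by
    intro h
    obtain ⟨e, he⟩ := hsr
    have hdvd : q ^ s - 1 ∣ q ^ r - 1 := by
      rw [he, pow_mul]
      simpa using Nat.sub_dvd_pow_sub_pow (q ^ s) 1 e
    set w := ζ ^ ((q ^ r - 1) / (q ^ s - 1)) with hw
    have hmem : ((w : K) : Matrix (Fin n) (Fin n) F) ∈ L := by
      refine ⟨(w : K).2, ?_⟩
      have h1 : w ^ (q ^ s) = w := by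
        calc w ^ (q ^ s) = w ^ (q ^ s - 1) * w := by rw [← pow_succ, Nat.sub_add_cancel h0s]
          _ = w := by rw [hw, ← pow_mul, Nat.div_mul_cancel hdvd, ← hordζ, pow_orderOf_eq_one, one_mul]
      have h2 := congrArg (fun u : Kˣ => ((u : K) : Matrix (Fin n) (Fin n) F)) h1
      simpa using h2
    rw [← h, Algebra.mem_bot] at hmem
    obtain ⟨c, hc⟩ := hmem
    have hc0 : c ≠ 0 := by
      rintro rfl
      rw [map_zero] at hc
      exact w.ne_zero (Subtype.ext hc.symm)
    have hwq : w ^ (q - 1) = 1 := by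
      apply Units.ext
      apply Subtype.ext
      rw [Units.val_pow_eq_pow_val, SubmonoidClass.coe_pow, ← hc, ← map_pow, hq,
        FiniteField.pow_card_sub_one_eq_one c hc0, map_one]
      rfl
    have h5 := orderOf_dvd_of_pow_eq_one hwq
    have hposr : 0 < q ^ r - 1 := by
      have : q ^ 1 < q ^ r := Nat.pow_lt_pow_right hq2 hr1
      rw [pow_one] at this
      omega
    rw [hw, orderOf_pow, hordζ, Nat.gcd_eq_right (Nat.div_dvd_of_dvd hdvd), Nat.div_div_self hdvd hposr.ne'] at h5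
    have h6 : q ^ 1 < q ^ s := Nat.pow_lt_pow_right hq2 hsp.one_lt
    rw [pow_one] at h6
    have := Nat.le_of_dvd (by omega) h5
    omega
  have hNle : subalgebraNormalizer K ≤ subalgebraNormalizer L := by
    intro g hg
    refine mem_normalizer_of_conj_mem L g fun a ha => ⟨(hg a).mp ha.1, ?_⟩
    have h1 := (Units.conj_pow g (show Matrix (Fin n) (Fin n) F from a) (q ^ s))
    rw [h1, ha.2]
  have hLlt : Module.finrank F L < n :=
    lt_of_le_of_lt ((Submodule.finrank_mono (R := F) (show Subalgebra.toSubmodule L ≤ Subalgebra.toSubmodule K from hLK)).trans hK.finrank_eq.le) hlt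
  refine ⟨L, hNle, ?_, ?_⟩
  · obtain ⟨g, hg, hgK, hgL⟩ := exists_centralizing_not_normalizing L K hLfield hK hlt hLK hLne
    exact ⟨g, hg, mem_normalizer_of_conj_mem L g fun a ha => by rw [hgL a ha]; exact ha, hgK⟩
  · have hbot : IsFieldSubalgebra (Module.finrank F (⊥ : Subalgebra F (Matrix (Fin n) (Fin n) F))) (⊥ : Subalgebra F (Matrix (Fin n) (Fin n) F)) := by
      have hle0 : (⊥ : Subalgebra F (Matrix (Fin n) (Fin n) F)) ≤ K := bot_le
      refine { comm := fun x hx y hy => hK.comm x (hle0 hx) y (hle0 hy), inv := fun x hx hx0 => ?_, finrank_eq := rfl }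
      obtain ⟨c, rfl⟩ := Algebra.mem_bot.mp hx
      refine ⟨algebraMap F _ c⁻¹, Algebra.mem_bot.mpr ⟨_, rfl⟩, ?_⟩
      rw [← map_mul, mul_inv_cancel₀ (fun h => hx0 (by rw [h, map_zero])), map_one]
    obtain ⟨g, hg, hgL, -⟩ := exists_centralizing_not_normalizing ⊥ L hbot hLfield hLlt bot_le hLbot
    exact ⟨g, hg, hgL⟩

/-- Let F be a finite field, n a positive integer and r a composite number (r > 1, not prime) that divides n with r < n. Let K be a subalgebra of the algebra of n × n matrices over F which is a field of degree r over F (commutative, every non-zero element invertible, of dimension r over F). Then the normaliser N of K in GL_n(F) (a group of type ΓL_{n/r}(F_{q^r})) is not a maximal subgroup of GL_n(F), and N ∩ SL_n(F) is not a maximal subgroup of SL_n(F): both lie properly inside the normaliser of an intermediate subfield of prime degree over F. -/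
theorem result {F : Type*} [Field F]
    [Fintype F] (n r : ℕ) (hr1 : 1 < r) (hrp : ¬ r.Prime) (hrn : r ∣ n) (hlt : r < n)
    (K : Subalgebra F (Matrix (Fin n) (Fin n) F)) (hK : Cfsg.Geo.IsFieldSubalgebra r K) :
    ¬ IsCoatom (Cfsg.Geo.subalgebraNormalizer K) ∧
      ¬ Cfsg.Geo.IsMaximalIn (Cfsg.Geo.specialLinear (Fin n) F)
        (Cfsg.Geo.subalgebraNormalizer K ⊓ Cfsg.Geo.specialLinear (Fin n) F) := by
  obtain ⟨L, hle, ⟨g, hgS, hgL, hgK⟩, ⟨g', hg'S, hg'L⟩⟩ := not_maximal hr1 hrp hlt K hK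
  refine ⟨fun h => ?_, fun h => ?_⟩
  · have hlt' : Cfsg.Geo.subalgebraNormalizer K < Cfsg.Geo.subalgebraNormalizer L :=
      lt_of_le_of_ne hle fun he => hgK (he ▸ hgL)
    exact hg'L (h.2 _ hlt' ▸ Subgroup.mem_top g')
  · rcases h.2 (Cfsg.Geo.subalgebraNormalizer L ⊓ Cfsg.Geo.specialLinear (Fin n) F)
      (inf_le_inf_right _ hle) inf_le_right with he | he
    · have : g ∈ Cfsg.Geo.subalgebraNormalizer L ⊓ Cfsg.Geo.specialLinear (Fin n) F := ⟨hgL, hgS⟩
      rw [he] at this
      exact hgK this.1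
    · have : g' ∈ Cfsg.Geo.subalgebraNormalizer L ⊓ Cfsg.Geo.specialLinear (Fin n) F := he.symm ▸ hg'S
      exact hg'L this.1

end Cfsg.Agent.S5887
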