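import Cfsg.Statements.S5890
import Mathlib
import Cfsg.Agent.Lib.SL2.PGLExtra
-- import your own Cfsg.Agent.* helpers here

set_option autoImplicit false
open Cfsg

namespace Cfsg.Agent.S5890

open Cfsg.Agent.Lib.SL2

/-- Let F be a finite field with q ≥ 4 elements, let L ≤ PGL₂(F) be the image of SL₂(F) (a copy of PSL₂(F), of index gcd(2, q − 1)), and let M be a maximal subgroup of PGL₂(F) that does not contain L. Suppose q ∉ {7, 9, 11} and that q is not a prime congruent to ±11 or ±19 modulo 40. Then M ∩ L is a maximal subgroup of L. (For the excluded q there are maximal subgroups of PGL₂(q) — dihedral groups of order 12 and 16 at q = 7, of order 20 and 16 at q = 9, of order 20 at q = 11, and S₄ at the excluded primes — whose intersection with L is not maximal in L.) -/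
theorem result {F : Type*} [Field F]
    [Fintype F] (h4 : 4 ≤ Fintype.card F) (h7 : Fintype.card F ≠ 7) (h9 : Fintype.card F ≠ 9) (h11 : Fintype.card F ≠ 11)
    (h40 : (Fintype.card F).Prime → Fintype.card F % 40 ∉ ({11, 19, 21, 29} : Finset ℕ))
    (M : Subgroup (Matrix.ProjGenLinGroup (Fin 2) F)) (hM : IsCoatom M)
    (hML : ¬ (Matrix.ProjGenLinGroup.mk.comp Matrix.SpecialLinearGroup.toGL).range ≤ M) :
    IsCoatom ((M ⊓ (Matrix.ProjGenLinGroup.mk.comp Matrix.SpecialLinearGroup.toGL).range).subgroupOf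
      (Matrix.ProjGenLinGroup.mk.comp Matrix.SpecialLinearGroup.toGL).range) := by
  classical
  rw [range_mk_toGL] at hML ⊢
  have hinj := toP_injective (F := F)
  have : Finite (PGLtwo F) := Finite.of_surjective _ Matrix.ProjGenLinGroup.mk_surjective
  -- it is enough that `M ∩ PSL₂` is maximal in `PSL₂`
  suffices hH : IsCoatom (M.comap toP) by
    let e : PSLtwo F ≃* (toP (F := F)).range := MonoidHom.ofInjective hinj
    have he : (M ⊓ (toP (F := F)).range).subgroupOf (toP (F := F)).range = e.mapSubgroup (M.comap toP) := by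
      ext y
      rw [MulEquiv.coe_mapSubgroup, Subgroup.mem_map_equiv, Subgroup.mem_comap, Subgroup.mem_subgroupOf,
        Subgroup.mem_inf]
      rw [show toP (e.symm y) = (y : PGLtwo F) from MonoidHom.apply_ofInjective_symm hinj y]
      exact ⟨fun h => h.1, fun h => ⟨h, y.2⟩⟩
    rw [he]
    exact (OrderIso.isCoatom_iff e.mapSubgroup _).2 hH
  obtain ⟨p, hp, hpc⟩ : ∃ p, p.Prime ∧ CharP F p :=
    ⟨ringChar F, CharP.char_is_prime F _, ringChar.charP F⟩
  have : Fact p.Prime := ⟨hp⟩
  rcases Nat.even_or_odd (Fintype.card F) with heven | hodd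
  · -- `PSL₂ = PGL₂`
    have hsurj : (toP (F := F)).range = ⊤ := by
      refine Subgroup.eq_top_of_card_eq _ ?_
      rw [Nat.card_congr (MonoidHom.ofInjective hinj).toEquiv.symm, card_PGLtwo, card_PSL]
      have : Nat.gcd 2 (Fintype.card F - 1) = 1 := by
        have := Nat.even_iff.1 heven
        rw [Nat.gcd_rec, show (Fintype.card F - 1) % 2 = 1 by omega]; simp
      rw [this, Nat.div_one]
    have hbij : Function.Bijective (toP (F := F)) := ⟨hinj, MonoidHom.range_eq_top.1 hsurj⟩
    let E := MulEquiv.ofBijective toP hbij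
    have : M.comap toP = E.symm.mapSubgroup M := by
      ext y
      rw [MulEquiv.coe_mapSubgroup, Subgroup.mem_map_equiv]
      rfl
    rw [this]
    exact (OrderIso.isCoatom_iff E.symm.mapSubgroup _).2 hM
  have hq := Nat.odd_iff.1 hodd
  have hG := card_PSLtwo_odd (F := F) hodd
  rcases pgl_max_cases hodd (by omega) hM hML with ⟨x, hx, hx1, hH⟩ | ⟨x, τ, hx, hτ, h3τ, hH, -⟩ | ⟨hpr, h8, ⟨e⟩, -⟩ | ⟨K, r, hr, hro, hK, hk3, -, δ, hδ⟩
  · exact hH ▸ isCoatom_normalizer_unip h4 hodd h7 h9 h11 p hx hx1
  · rw [hH]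
    have hc := card_torus_semi hx
    have hg2 : Nat.gcd 2 (Fintype.card F - 1) = 2 := Nat.gcd_eq_left (by omega)
    rw [hτ, hg2] at hc
    have hb : 5 * 24 ≤ Fintype.card F * (Fintype.card F ^ 2 - 1) := by
      have : 5 ^ 2 ≤ Fintype.card F ^ 2 := Nat.pow_le_pow_left (by omega) 2
      exact Nat.mul_le_mul (by omega) (by omega)
    refine isCoatom_normalizer_torus hx hτ h3τ (by rw [hg2]; omega) ?_ ?_ ?_
    · intro P m hP hm he
      rcases Nat.lt_or_ge P 4 with hlt | hge
      · obtain rfl : P = 3 := by omega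
        rcases Nat.lt_or_ge m 3 with hm3 | hm3
        · obtain rfl : m = 2 := by omega
          omega
        · have : 3 ^ 3 ≤ Fintype.card F := he ▸ Nat.pow_le_pow_right (by norm_num) hm3
          omega
      · have h1 : P ^ 2 ≤ Fintype.card F := he ▸ Nat.pow_le_pow_right (by omega) hm
        have h2 : 4 * P ≤ P ^ 2 := by rw [sq]; exact Nat.mul_le_mul_right _ hge
        omega
    · rcases (show Fintype.card F = 5 ∨ 13 ≤ Fintype.card F by omega) with z | z
      · right
        rw [z] at hG
        norm_num [-Nat.card_eq_fintype_card] at hG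
        omega
      · left; omega
    · have h2' : 2 * τ ≤ Fintype.card F + 1 := by omega
      have : Fintype.card F * 24 ≤ Fintype.card F * (Fintype.card F ^ 2 - 1) := by
        have : 5 ^ 2 ≤ Fintype.card F ^ 2 := Nat.pow_le_pow_left (by omega) 2
        exact Nat.mul_le_mul_left _ (by omega)
      omega
  · have h40' := h40 hpr
    simp only [Finset.mem_insert, Finset.mem_singleton] at h40'
    exact isCoatom_A4 hpr (by omega) h8 (by omega) e
  · have hHK : ((M.comap toP).map (pglAct δ⁻¹).toMonoidHom).map toP = (slMap K).range := by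
      rw [Subgroup.map_map]
      have : toP.comp (pglAct δ⁻¹).toMonoidHom = (MulAut.conj δ⁻¹).toMonoidHom.comp toP := by
        ext y
        show toP (pglAct δ⁻¹ y) = δ⁻¹ * toP y * δ⁻¹⁻¹
        exact toP_pglAct _ _
      rw [this, ← Subgroup.map_map, hδ, Subgroup.map_map]
      convert Subgroup.map_id _
      ext y
      show δ⁻¹ * (δ * y * δ⁻¹) * δ⁻¹⁻¹ = y
      group
    exact (OrderIso.isCoatom_iff (pglAct δ⁻¹).mapSubgroup _).1
      (isCoatom_slMap hHK rfl hk3 hr (fun _ => hro) hK)

end Cfsg.Agent.S5890
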