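import Cfsg.Statements.S5892
import Mathlib
import Cfsg.Agent.Lib.SL2.MaxShapes
-- import your own Cfsg.Agent.* helpers here

set_option autoImplicit false
open Cfsg

namespace Cfsg.Agent.S5892

open Cfsg.Agent.Lib.SL2

/-- Let F be a finite field of odd order q ≥ 5 and characteristic p, and let M be a maximal subgroup of PSL₂(F). Then one of the following holds: |M| = q(q − 1)/2 (the stabiliser of a point of the projective line); q ≥ 13 and M is dihedral of order q − 1; q ∉ {7, 9} and M is dihedral of order q + 1; q = q₀² and M ≅ PGL₂(F₀) with |F₀| = q₀; q = q₀^r for an odd prime r and M ≅ PSL₂(F₀) with |F₀| = q₀; q ≡ ±1 (mod 10) with q = p or q = p², p ≡ ±3 (mod 10), and M ≅ A₅; q = p ≡ ±3 (mod 8), q ≢ ±1 (mod 10), and M ≅ A₄; or q = p ≡ ±1 (mod 8) and M ≅ S₄. -/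
theorem result {F : Type*} [Field F] [Fintype F] (p : ℕ)
    [Fact p.Prime] [CharP F p] (hodd : Odd (Fintype.card F)) (h5 : 5 ≤ Fintype.card F)
    (M : Subgroup (Matrix.ProjectiveSpecialLinearGroup (Fin 2) F)) (hM : IsCoatom M) :
    2 * Nat.card M = Fintype.card F * (Fintype.card F - 1) ∨
    (13 ≤ Fintype.card F ∧ (∃ k : ℕ, 2 * k = Fintype.card F - 1 ∧ Nonempty (M ≃* DihedralGroup k))) ∨
    (Fintype.card F ≠ 7 ∧ Fintype.card F ≠ 9 ∧ (∃ k : ℕ, 2 * k = Fintype.card F + 1 ∧ Nonempty (M ≃* DihedralGroup k))) ∨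
    (∃ (F₀ : Type) (_ : Field F₀) (_ : Fintype F₀), Fintype.card F = Fintype.card F₀ ^ 2 ∧
        Nonempty (M ≃* Matrix.ProjGenLinGroup (Fin 2) F₀)) ∨
    (∃ (F₀ : Type) (_ : Field F₀) (_ : Fintype F₀) (r : ℕ), r.Prime ∧ Odd r ∧ Fintype.card F = Fintype.card F₀ ^ r ∧
        Nonempty (M ≃* Matrix.ProjectiveSpecialLinearGroup (Fin 2) F₀)) ∨
    ((Fintype.card F % 10 = 1 ∨ Fintype.card F % 10 = 9) ∧
        (Fintype.card F = p ∨ (Fintype.card F = p ^ 2 ∧ (p % 10 = 3 ∨ p % 10 = 7))) ∧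
        Nonempty (M ≃* alternatingGroup (Fin 5))) ∨
    (Fintype.card F = p ∧ (p % 8 = 3 ∨ p % 8 = 5) ∧ ¬ (p % 10 = 1 ∨ p % 10 = 9) ∧
        Nonempty (M ≃* alternatingGroup (Fin 4))) ∨
    (Fintype.card F = p ∧ (p % 8 = 1 ∨ p % 8 = 7) ∧ Nonempty (M ≃* Equiv.Perm (Fin 4))) := by
  classical
  have hpp : p.Prime := Fact.out
  obtain ⟨n, -, hn⟩ := FiniteField.card F p
  have hp : p ≠ 2 := by
    rintro rfl
    rw [hn] at hodd
    exact Nat.not_odd_iff_even.2 ((Nat.even_pow).2 ⟨even_two, n.ne_zero⟩) hodd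
  have hp2 : p % 2 = 1 := hpp.eq_two_or_odd.resolve_left hp
  have hq2 : Fintype.card F % 2 = 1 := Nat.odd_iff.1 hodd
  have hd : Nat.gcd 2 (Fintype.card F - 1) = 2 := Nat.gcd_eq_left (by omega)
  have hsl : ∀ (K : Subfield F) (r : ℕ), IsSlType M K r →
      ∃ (F₀ : Type) (_ : Field F₀) (_ : Fintype F₀) (r : ℕ), r.Prime ∧ Odd r ∧
        Fintype.card F = Fintype.card F₀ ^ r ∧
          Nonempty (M ≃* Matrix.ProjectiveSpecialLinearGroup (Fin 2) F₀) := by
    intro K r h
    obtain ⟨L, iL, iL', hL, ⟨e⟩⟩ := exists_field_type_zero K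
    obtain ⟨i⟩ := h.iso
    obtain ⟨hr, hro⟩ := h.degree hM
    have hKo : Odd (Nat.card K) :=
      (Nat.odd_pow_iff hr.ne_zero).1 (h.1.symm ▸ hodd)
    exact ⟨L, iL, iL', r, hr, hro hKo, by rw [hL, ← Nat.card_eq_fintype_card (α := K), h.1],
      ⟨i.trans (pslCongr e)⟩⟩
  have hgl : ∀ (K : Subfield F) (r : ℕ), IsGlType M K r →
      ∃ (F₀ : Type) (_ : Field F₀) (_ : Fintype F₀), Fintype.card F = Fintype.card F₀ ^ 2 ∧
        Nonempty (M ≃* Matrix.ProjGenLinGroup (Fin 2) F₀) := by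
    intro K r h
    obtain ⟨L, iL, iL', hL, ⟨e⟩⟩ := exists_field_type_zero K
    obtain ⟨i⟩ := h.iso
    have hKo : Odd (Nat.card K) :=
      (Nat.odd_pow_iff (by have := h.2.1; omega)).1 (h.1.symm ▸ hodd)
    obtain rfl := h.degree hM hKo
    exact ⟨L, iL, iL', by rw [hL, ← Nat.card_eq_fintype_card (α := K), h.1],
      ⟨i.trans (pglCongr e)⟩⟩
  rcases coatom_cases p hM (by omega) with ⟨x, hx, e⟩ | ⟨x, hx, hx1, e⟩ | h | ⟨K, r, -, h⟩
  · -- dihedral
    subst e
    obtain ⟨hD⟩ := normalizer_torus_dihedral hx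
    have hk := card_torus_semi hx
    rw [hd] at hk
    have hG : Nat.card (PSLtwo F) = Fintype.card F * (Fintype.card F ^ 2 - 1) / 2 := by
      rw [card_PSL, hd]
    have hall : ∀ y : PSLtwo F, IsSemi y → Nat.card (torus y) = (Fintype.card F - 1) / 2 ∨
        Nat.card (torus y) = (Fintype.card F + 1) / 2 := fun y hy => by
      have h := card_torus_semi hy
      rwa [hd] at h
    have hcop : ∀ k, Fintype.card F ∈ ({5, 7, 9, 11} : Finset ℕ) →
        (k = (Fintype.card F - 1) / 2 ∨ k = (Fintype.card F + 1) / 2) → Nat.Coprime k p := by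
      intro k hq hk
      refine (Nat.Prime.coprime_iff_not_dvd hpp).2 ?_ |>.symm
      intro hdk
      have hpq : p ∣ Fintype.card F := hn ▸ dvd_pow_self p n.ne_zero
      have hple : p ≤ 11 := le_trans (Nat.le_of_dvd Fintype.card_pos hpq) (by
        simp at hq; omega)
      have := hpp.two_le
      simp at hq
      rcases hq with e | e | e | e <;> rw [e] at hk hpq <;> norm_num at hk <;>
        rcases hk with rfl | rfl <;> interval_cases p <;> omega
    by_cases hsplit : Nat.card (torus x) = (Fintype.card F - 1) / 2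
    · refine Or.inr (Or.inl ⟨?_, _, by omega, ⟨hD⟩⟩)
      by_contra h13
      rcases (show Fintype.card F = 5 ∨ Fintype.card F = 7 ∨ Fintype.card F = 9 ∨ Fintype.card F = 11
        by omega) with e | e | e | e
      · obtain ⟨H, ⟨i⟩⟩ := exists_A4_odd hq2 (F := F)
        obtain ⟨a, s, ha, hs, hsa⟩ : ∃ a s : alternatingGroup (Fin 4), orderOf a = 2 ∧
            s ∉ Subgroup.zpowers a ∧ s * a * s⁻¹ ∈ Subgroup.zpowers a := small_inverter_A4
        exact not_isCoatom_normalizer hx (k := 2) (by omega) (by rw [hsplit, e])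
          (fun y hy hdy => by rcases hall y hy with z | z <;> rw [z, e] at hdy ⊢ <;> omega)
          p (hcop 2 (by simp [e]) (by omega)) i
          (by rw [(Nat.card_congr i.toEquiv).trans natCard_A4]; norm_num)
          (by rw [(Nat.card_congr i.toEquiv).trans natCard_A4, hG, e]; norm_num) ha hs hsa hM
      · obtain ⟨H, ⟨i⟩⟩ := exists_S4 (F := F) (by omega)
        obtain ⟨a, s, ha, hs, hsa⟩ := small_inverter_S4.1
        exact not_isCoatom_normalizer hx (k := 3) (by omega) (by rw [hsplit, e])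
          (fun y hy hdy => by rcases hall y hy with z | z <;> rw [z, e] at hdy ⊢ <;> omega)
          p (hcop 3 (by simp [e]) (by omega)) i
          (by rw [(Nat.card_congr i.toEquiv).trans natCard_S4]; norm_num)
          (by rw [(Nat.card_congr i.toEquiv).trans natCard_S4, hG, e]; norm_num) ha hs hsa hM
      · obtain ⟨H, ⟨i⟩⟩ := exists_S4 (F := F) (by omega)
        obtain ⟨a, s, ha, hs, hsa⟩ := small_inverter_S4.2
        exact not_isCoatom_normalizer hx (k := 4) (by omega) (by rw [hsplit, e])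
          (fun y hy hdy => by rcases hall y hy with z | z <;> rw [z, e] at hdy ⊢ <;> omega)
          p (hcop 4 (by simp [e]) (by omega)) i
          (by rw [(Nat.card_congr i.toEquiv).trans natCard_S4]; norm_num)
          (by rw [(Nat.card_congr i.toEquiv).trans natCard_S4, hG, e]; norm_num) ha hs hsa hM
      · obtain ⟨H, ⟨i⟩⟩ := exists_A5_odd (F := F) hq2 (isSquare_five hq2 (by omega))
        obtain ⟨a, s, ha, hs, hsa⟩ := small_inverter_A5
        exact not_isCoatom_normalizer hx (k := 5) (by omega) (by rw [hsplit, e])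
          (fun y hy hdy => by rcases hall y hy with z | z <;> rw [z, e] at hdy ⊢ <;> omega)
          p (hcop 5 (by simp [e]) (by omega)) i
          (by rw [(Nat.card_congr i.toEquiv).trans natCard_A5]; norm_num)
          (by rw [(Nat.card_congr i.toEquiv).trans natCard_A5, hG, e]; norm_num) ha hs hsa hM
    · have hns := hk.resolve_left hsplit
      refine Or.inr (Or.inr (Or.inl ⟨?_, ?_, _, by omega, ⟨hD⟩⟩))
      · intro e
        obtain ⟨H, ⟨i⟩⟩ := exists_S4 (F := F) (by omega)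
        obtain ⟨a, s, ha, hs, hsa⟩ := small_inverter_S4.2
        exact not_isCoatom_normalizer hx (k := 4) (by omega) (by rw [hns, e])
          (fun y hy hdy => by rcases hall y hy with z | z <;> rw [z, e] at hdy ⊢ <;> omega)
          p (hcop 4 (by simp [e]) (by omega)) i
          (by rw [(Nat.card_congr i.toEquiv).trans natCard_S4]; norm_num)
          (by rw [(Nat.card_congr i.toEquiv).trans natCard_S4, hG, e]; norm_num) ha hs hsa hM
      · intro e
        obtain ⟨H, ⟨i⟩⟩ := exists_A5_odd (F := F) hq2 (isSquare_five hq2 (by omega))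
        obtain ⟨a, s, ha, hs, hsa⟩ := small_inverter_A5
        exact not_isCoatom_normalizer hx (k := 5) (by omega) (by rw [hns, e])
          (fun y hy hdy => by rcases hall y hy with z | z <;> rw [z, e] at hdy ⊢ <;> omega)
          p (hcop 5 (by simp [e]) (by omega)) i
          (by rw [(Nat.card_congr i.toEquiv).trans natCard_A5]; norm_num)
          (by rw [(Nat.card_congr i.toEquiv).trans natCard_A5, hG, e]; norm_num) ha hs hsa hM
  · left
    have h : Nat.card M = _ := e ▸ card_normalizer_torus_unip hx hx1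
    rw [h, card_borelPSL, hd, mul_comm (Fintype.card F)]
    refine Nat.mul_div_cancel' (Dvd.dvd.mul_right ?_ _)
    omega
  · rcases h with ⟨⟨i⟩⟩ | ⟨⟨i⟩⟩ | ⟨⟨i⟩⟩
    · rcases maximal_A4 p hM i hp h5 with ⟨h1, h2, h3⟩ | ⟨K, r, h⟩
      · exact Or.inr (Or.inr (Or.inr (Or.inr (Or.inr (Or.inr (Or.inl ⟨h1, h2, h3, ⟨i⟩⟩))))))
      · exact Or.inr (Or.inr (Or.inr (Or.inr (Or.inl (hsl K r h)))))
    · rcases maximal_S4 p hM i hp with ⟨h1, h2⟩ | ⟨K, r, h | h⟩
      · exact Or.inr (Or.inr (Or.inr (Or.inr (Or.inr (Or.inr (Or.inr ⟨h1, h2, ⟨i⟩⟩))))))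
      · exact Or.inr (Or.inr (Or.inr (Or.inr (Or.inl (hsl K r h)))))
      · exact Or.inr (Or.inr (Or.inr (Or.inl (hgl K r h))))
    · rcases maximal_A5 p hM i hp with ⟨h1, h2⟩ | ⟨K, r, h⟩
      · exact Or.inr (Or.inr (Or.inr (Or.inr (Or.inr (Or.inl ⟨h1, h2, ⟨i⟩⟩)))))
      · exact Or.inr (Or.inr (Or.inr (Or.inr (Or.inl (hsl K r h)))))
  · rcases h with h | h
    · exact Or.inr (Or.inr (Or.inr (Or.inr (Or.inl (hsl K r h)))))
    · exact Or.inr (Or.inr (Or.inr (Or.inl (hgl K r h))))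

end Cfsg.Agent.S5892
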