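import Cfsg.Statements.S5893
import Mathlib
import Cfsg.Agent.Lib.SL2.MaxShapes
-- import your own Cfsg.Agent.* helpers here

set_option autoImplicit false
open Cfsg

namespace Cfsg.Agent.S5893

open Cfsg.Agent.Lib.SL2

/-- Let F be a finite field of even order q ≥ 4 and let M be a maximal subgroup of PSL₂(F) (= SL₂(F) = PGL₂(F)). Then one of the following holds: |M| = q(q − 1) (the stabiliser of a point of the projective line, elementary abelian of order q extended by a cyclic group of order q − 1); M is dihedral of order 2(q − 1); M is dihedral of order 2(q + 1); or q = q₀^r for a prime r with q₀ ≠ 2 and M ≅ PSL₂(F₀) with |F₀| = q₀. -/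
theorem result {F : Type*} [Field F] [Fintype F]
    (heven : Even (Fintype.card F)) (h4 : 4 ≤ Fintype.card F) (M : Subgroup (Matrix.ProjectiveSpecialLinearGroup (Fin 2) F)) (hM : IsCoatom M) :
    Nat.card M = Fintype.card F * (Fintype.card F - 1) ∨
    Nonempty (M ≃* DihedralGroup (Fintype.card F - 1)) ∨
    Nonempty (M ≃* DihedralGroup (Fintype.card F + 1)) ∨
    (∃ (F₀ : Type) (_ : Field F₀) (_ : Fintype F₀) (r : ℕ), r.Prime ∧ Fintype.card F₀ ≠ 2 ∧
        Fintype.card F = Fintype.card F₀ ^ r ∧ Nonempty (M ≃* Matrix.ProjectiveSpecialLinearGroup (Fin 2) F₀)) := by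
  classical
  have hch : CharP F 2 := by
    obtain ⟨p, hpc⟩ := CharP.exists F
    obtain ⟨n, hp, hn⟩ := FiniteField.card F p
    have : 2 ∣ p := Nat.prime_two.dvd_of_dvd_pow (hn ▸ even_iff_two_dvd.1 heven)
    rwa [(Nat.prime_dvd_prime_iff_eq Nat.prime_two hp).1 this]
  have h2 : Fact (Nat.Prime 2) := ⟨Nat.prime_two⟩
  have hd1 : Nat.gcd 2 (Fintype.card F - 1) = 1 := by
    have := Nat.even_iff.1 heven
    rw [Nat.gcd_rec, show (Fintype.card F - 1) % 2 = 1 by omega]; simp
  have hb : Nat.card (borelPSL (F := F)) = Fintype.card F * (Fintype.card F - 1) := by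
    rw [card_borelPSL, hd1, Nat.div_one, mul_comm]
  have hlt : Nat.card (borelPSL (F := F)) < Nat.card (PSLtwo F) := by
    rw [hb, card_PSL, hd1, Nat.div_one]
    refine Nat.mul_lt_mul_of_pos_left ?_ (by omega)
    have : Fintype.card F * 2 ≤ Fintype.card F ^ 2 := by rw [sq]; exact Nat.mul_le_mul_left _ (by omega)
    omega
  have hunip : ∀ x, IsUnip x → x ≠ 1 →
      M = Subgroup.normalizer ((torus x : Subgroup (PSLtwo F)) : Set (PSLtwo F)) →
      Nat.card M = Fintype.card F * (Fintype.card F - 1) := fun x hx hx1 e => by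
    rw [e]; exact (card_normalizer_torus_unip hx hx1).trans hb
  have hsl : ∀ (K : Subfield F) (r : ℕ), 3 ≤ Nat.card K → IsSlType M K r →
      ∃ (F₀ : Type) (_ : Field F₀) (_ : Fintype F₀) (r : ℕ), r.Prime ∧ Fintype.card F₀ ≠ 2 ∧
        Fintype.card F = Fintype.card F₀ ^ r ∧
          Nonempty (M ≃* Matrix.ProjectiveSpecialLinearGroup (Fin 2) F₀) := by
    intro K r hK h
    obtain ⟨L, iL, iL', hL, ⟨e⟩⟩ := exists_field_type_zero K
    obtain ⟨i⟩ := h.iso
    refine ⟨L, iL, iL', r, (h.degree hM).1, ?_, ?_, ⟨i.trans (pslCongr e)⟩⟩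
    · rw [hL, ← Nat.card_eq_fintype_card]; omega
    · rw [hL, ← Nat.card_eq_fintype_card (α := K), h.1]
  rcases coatom_cases 2 hM (by omega) with ⟨x, hx, e⟩ | ⟨x, hx, hx1, e⟩ | h | ⟨K, r, hK, h⟩
  · rcases card_torus_semi hx with hk | hk <;> rw [hd1, Nat.div_one] at hk
    · refine Or.inr (Or.inl ?_)
      rw [← hk, e]; exact normalizer_torus_dihedral hx
    · refine Or.inr (Or.inr (Or.inl ?_))
      rw [← hk, e]; exact normalizer_torus_dihedral hx
  · exact Or.inl (hunip x hx hx1 e)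
  · rcases h with ⟨⟨i⟩⟩ | ⟨⟨i⟩⟩ | ⟨⟨i⟩⟩
    · obtain ⟨x, hx, hx1, hle⟩ := A4_char_two i
      refine Or.inl (hunip x hx hx1 ?_)
      rcases hle.lt_or_eq with z | z
      · have hc := card_normalizer_torus_unip hx hx1
        rw [hM.2 _ z, Subgroup.card_top] at hc
        omega
      · exact z
    · exact ((not_S4_char_two M).false i).elim
    · refine Or.inr (Or.inr (Or.inr ?_))
      obtain ⟨K, δ, hK, hKM⟩ := A5_char_two i
      rw [glMap_eq_slMap_char_two] at hKM
      obtain ⟨m, hm, hmF⟩ : ∃ m, 1 ≤ m ∧ Nat.card K ^ m = Fintype.card F :=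
        ⟨Module.finrank K F, Module.finrank_pos, by
          rw [Nat.card_eq_fintype_card]; exact Module.card_eq_pow_finrank.symm⟩
      have hm2 : 2 ≤ m := by
        by_contra hlt'
        rw [show m = 1 by omega, pow_one, hK] at hmF
        refine hM.1 (Subgroup.eq_top_of_card_eq _ ?_)
        rw [(Nat.card_congr i.toEquiv).trans natCard_A5, card_PSL, ← hmF]
        rfl
      exact hsl K m (by omega) ⟨hmF, hm2, δ, hKM⟩
  · refine Or.inr (Or.inr (Or.inr ?_))
    rcases h with h | ⟨hq, hr, δ, hδ⟩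
    · exact hsl K r hK h
    · exact hsl K r hK ⟨hq, hr, δ, by rw [← glMap_eq_slMap_char_two]; exact hδ⟩

end Cfsg.Agent.S5893
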