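import Cfsg.Statements.S5894
import Mathlib

set_option autoImplicit false
set_option linter.style.haveILetI false
open Cfsg

namespace Cfsg.Agent.S5894


open scoped Pointwise

theorem not_coatom_of_between {G : Type*} [Group G] {H L K : Subgroup G} (hHL : H < L) (hLK : L < K) :
    ¬ IsCoatom (H.subgroupOf K) := by
  intro h
  have hlt : H.subgroupOf K < L.subgroupOf K := by
    refine lt_of_le_of_ne (Subgroup.comap_mono hHL.le) fun he => hHL.not_ge fun x hx => ?_
    have : (⟨x, hLK.le hx⟩ : K) ∈ L.subgroupOf K := hx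
    rw [← he] at this
    exact this
  exact hLK.not_ge (Subgroup.subgroupOf_eq_top.mp (h.2 _ hlt))

theorem coatom_map_range {A G : Type*} [Group A] [Group G] (φ : A →* G) (hφ : Function.Injective φ)
    {U : Subgroup A} (hU : IsCoatom U) {M : Subgroup G} (hM : φ.range = M) :
    IsCoatom ((U.map φ).subgroupOf M) := by
  subst hM
  let e : A ≃* φ.range := MonoidHom.ofInjective hφ
  have h : (U.map φ).subgroupOf φ.range = e.mapSubgroup U := by
    ext ⟨x, hx⟩
    constructor
    · rintro ⟨a, ha, hax⟩
      exact ⟨a, ha, Subtype.ext hax⟩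
    · rintro ⟨a, ha, hax⟩
      exact ⟨a, ha, congrArg Subtype.val hax⟩
  rw [h]
  exact (OrderIso.isCoatom_iff e.mapSubgroup U).mpr hU

/-- For every m ≥ 2 the symmetric group on 2m letters has a maximal subgroup M of index 2m together with a maximal subgroup H of M that is not second maximal: some maximal subgroup K of the symmetric group contains H without H being maximal in K. (One may take M the stabiliser of a letter, H ≅ S_m × S_{m−1} inside it, and K ≅ S_m ≀ S₂ the stabiliser of a partition into two m-sets, with H < S_m × S_m < K.) So the prime-index hypothesis in the second-maximality criterion cannot be relaxed to any even index ≥ 4. -/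
theorem result (m : ℕ) (hm : 2 ≤ m) :
    ∃ M H K : Subgroup (Equiv.Perm (Fin (2 * m))), IsCoatom M ∧ M.index = 2 * m ∧ H ≤ M ∧ IsCoatom (H.subgroupOf M) ∧
      IsCoatom K ∧ H ≤ K ∧ ¬ IsCoatom (H.subgroupOf K) := by
  classical
  set X := Fin (2 * m)
  let o : X := ⟨0, by omega⟩
  let one : X := ⟨1, by omega⟩
  let A : Set X := {k | m ≤ (k : ℕ)}
  have hA : A.ncard = m := by
    have : A = Set.range (fun i : Fin m => (⟨(i : ℕ) + m, by omega⟩ : X)) := by
      ext k
      constructor
      · intro (hk : m ≤ (k : ℕ))
        exact ⟨⟨(k : ℕ) - m, by omega⟩, Fin.ext (by simp; omega)⟩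
      · rintro ⟨i, rfl⟩
        show m ≤ (i : ℕ) + m
        omega
    rw [this, Set.ncard_range_of_injective fun i j hij => Fin.ext (by
      have := congrArg Fin.val hij
      simp at this
      omega), Nat.card_eq_fintype_card, Fintype.card_fin]
  have hoA : o ∉ A := fun h => by
    have : m ≤ 0 := h
    omega
  haveI : Nontrivial X := ⟨⟨o, one, fun h => by simpa [o, one] using congrArg Fin.val h⟩⟩
  have hprim : MulAction.IsPreprimitive (Equiv.Perm X) X :=
    MulAction.isPreprimitive_of_is_two_pretransitive (Equiv.Perm.isMultiplyPretransitive X 2)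
  set M := MulAction.stabilizer (Equiv.Perm X) o
  let φ : Equiv.Perm {x : X // x ≠ o} →* Equiv.Perm X := Equiv.Perm.ofSubtype
  have hrange : φ.range = M := by
    ext g
    constructor
    · rintro ⟨h, rfl⟩
      exact Equiv.Perm.ofSubtype_apply_of_not_mem h (by simp)
    · intro hg
      have hg' : g o = o := hg
      refine ⟨g.subtypePerm (fun x => ?_), Equiv.Perm.ofSubtype_subtypePerm _ fun x hx => ?_⟩
      · constructor
        · exact fun hx h => hx (by rw [h]; exact hg')
        · exact fun hx h => hx (g.injective (h.trans hg'.symm))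
      · intro h
        exact hx (by rw [h]; exact hg')
  let A' : Set {x : X // x ≠ o} := {x | (x : X) ∈ A}
  have hA' : A'.ncard = m := by
    rw [← hA, ← Set.ncard_image_of_injective A' Subtype.val_injective]
    congr 1
    ext k
    exact ⟨by rintro ⟨x, hx, rfl⟩; exact hx, fun hk => ⟨⟨k, fun h => hoA (h ▸ hk)⟩, hk, rfl⟩⟩
  have hcoat : IsCoatom (MulAction.stabilizer (Equiv.Perm {x : X // x ≠ o}) A') := by
    refine Equiv.Perm.isCoatom_stabilizer ?_ ?_ ?_
    · exact Set.nonempty_of_ncard_ne_zero (by omega)
    · refine Set.nonempty_of_ncard_ne_zero fun h => ?_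
      have h1 := Set.ncard_add_ncard_compl A'
      rw [h, hA', Nat.card_eq_fintype_card, Fintype.card_subtype_compl, Fintype.card_subtype_eq,
        Fintype.card_fin] at h1
      omega
    · rw [hA', Nat.card_eq_fintype_card, Fintype.card_subtype_compl, Fintype.card_subtype_eq, Fintype.card_fin]
      omega
  set H := (MulAction.stabilizer (Equiv.Perm {x : X // x ≠ o}) A').map φ
  set L := MulAction.stabilizer (Equiv.Perm X) A
  have hcompl : ∀ g : Equiv.Perm X, g • Aᶜ = (g • A)ᶜ := fun g => Set.smul_set_compl
  let K₀ : Subgroup (Equiv.Perm X) :=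
    { carrier := {g | g • A = A ∨ g • A = Aᶜ}
      one_mem' := Or.inl (one_smul _ _)
      mul_mem' := by
        rintro a b (ha | ha) (hb | hb)
        · exact Or.inl (by rw [mul_smul, hb, ha])
        · exact Or.inr (by rw [mul_smul, hb, hcompl, ha])
        · exact Or.inr (by rw [mul_smul, hb, ha])
        · exact Or.inl (by rw [mul_smul, hb, hcompl, ha, compl_compl])
      inv_mem' := by
        rintro a (ha | ha)
        · exact Or.inl (inv_smul_eq_iff.mpr ha.symm)
        · exact Or.inr (inv_smul_eq_iff.mpr (by rw [hcompl, ha, compl_compl])) }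
  have hK₀ : K₀ ≠ ⊤ := by
    intro h
    let em : X := ⟨m, by omega⟩
    let em1 : X := ⟨m + 1, by omega⟩
    have hmem : Equiv.swap o em ∈ K₀ := by rw [h]; trivial
    have h1 : o ∈ Equiv.swap o em • A := ⟨em, le_refl m, Equiv.swap_apply_right o em⟩
    have h2 : em1 ∈ Equiv.swap o em • A := ⟨em1, Nat.le_succ m,
      Equiv.swap_apply_of_ne_of_ne (fun hh => by simpa [em1, o] using congrArg Fin.val hh)
        (fun hh => by simpa [em1, em] using congrArg Fin.val hh)⟩
    rcases hmem with hh | hh
    · rw [hh] at h1; exact hoA h1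
    · rw [hh] at h2; exact h2 (Nat.le_succ m)
  obtain ⟨K, hK, hK₀K⟩ := (eq_top_or_exists_le_coatom K₀).resolve_left hK₀
  have hHL : H < L := by
    refine lt_of_le_of_ne ?_ fun he => ?_
    · rintro _ ⟨h, hh, rfl⟩
      rw [MulAction.mem_stabilizer_iff]
      have hh' : ∀ x, h x ∈ A' ↔ x ∈ A' := fun x => by
        have := MulAction.mem_stabilizer_iff.mp hh
        conv_lhs => rw [← this]
        exact Set.smul_mem_smul_set_iff
      ext k
      constructor
      · rintro ⟨y, hy, rfl⟩
        show φ h y ∈ A
        rw [show φ h y = ((h ⟨y, fun e => hoA (e ▸ hy)⟩ : {x : X // x ≠ o}) : X) from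
          Equiv.Perm.ofSubtype_apply_of_mem h _]
        exact (hh' _).mpr hy
      · intro hk
        have hk' : (⟨k, fun e => hoA (e ▸ hk)⟩ : {x : X // x ≠ o}) ∈ A' := hk
        refine ⟨(h.symm ⟨k, fun e => hoA (e ▸ hk)⟩ : {x : X // x ≠ o}), ?_, ?_⟩
        · exact (hh' _).mp (by rw [Equiv.apply_symm_apply]; exact hk')
        · show φ h _ = k
          exact (Equiv.Perm.ofSubtype_apply_coe h _).trans (congrArg Subtype.val (h.apply_symm_apply _))
    · have h1 : Equiv.swap o one ∈ L := by
        rw [MulAction.mem_stabilizer_iff]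
        have hfix : ∀ y ∈ A, Equiv.swap o one y = y := fun y hy => by
          have hy' : m ≤ (y : ℕ) := hy
          refine Equiv.swap_apply_of_ne_of_ne (fun hh => ?_) (fun hh => ?_) <;> subst hh <;> simp [o, one] at hy' <;> omega
        ext k
        constructor
        · rintro ⟨y, hy, rfl⟩; show Equiv.swap o one y ∈ A; rw [hfix y hy]; exact hy
        · intro hk; exact ⟨k, hk, hfix k hk⟩
      rw [← he] at h1
      obtain ⟨h, -, hh⟩ := h1
      have h2 : φ h o = o := Equiv.Perm.ofSubtype_apply_of_not_mem h (by simp)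
      rw [hh, Equiv.swap_apply_left] at h2
      simpa [o, one] using congrArg Fin.val h2
  have hLK : L < K := by
    refine lt_of_le_of_ne (le_trans (show L ≤ K₀ from fun g hg => Or.inl (MulAction.mem_stabilizer_iff.mp hg)) hK₀K) fun he => ?_
    let f : Equiv.Perm X :=
      { toFun := fun k => if h : (k : ℕ) < m then ⟨(k : ℕ) + m, by omega⟩ else ⟨(k : ℕ) - m, lt_of_le_of_lt (Nat.sub_le _ _) k.isLt⟩
        invFun := fun k => if h : (k : ℕ) < m then ⟨(k : ℕ) + m, by omega⟩ else ⟨(k : ℕ) - m, lt_of_le_of_lt (Nat.sub_le _ _) k.isLt⟩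
        left_inv := fun k => by
          apply Fin.ext
          by_cases h : (k : ℕ) < m
          · simp [h, show ¬ ((k : ℕ) + m < m) by omega]
          · simp [h, show (k : ℕ) - m < m by omega]
            omega
        right_inv := fun k => by
          apply Fin.ext
          by_cases h : (k : ℕ) < m
          · simp [h, show ¬ ((k : ℕ) + m < m) by omega]
          · simp [h, show (k : ℕ) - m < m by omega]
            omega }
    have hfA : f • A = Aᶜ := by
      ext k
      constructor
      · rintro ⟨y, hy, rfl⟩ hc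
        have hy' : m ≤ (y : ℕ) := hy
        have hc' : m ≤ ((f y : X) : ℕ) := hc
        simp [f, show ¬ ((y : ℕ) < m) by omega] at hc'
        omega
      · intro hk
        have hk' : (k : ℕ) < m := Nat.lt_of_not_le hk
        refine ⟨⟨(k : ℕ) + m, by omega⟩, (Nat.le_add_left m k : m ≤ (k : ℕ) + m), ?_⟩
        show f _ = k
        simp [f, show ¬ ((k : ℕ) + m < m) by omega]
    have hf : f ∈ K := hK₀K (Or.inr hfA)
    rw [← he, MulAction.mem_stabilizer_iff, hfA] at hf
    exact hoA (hf ▸ hoA)
  refine ⟨M, H, K, ?_, ?_, ?_, coatom_map_range φ Equiv.Perm.ofSubtype_injective hcoat hrange, hK,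
    hHL.le.trans hLK.le, not_coatom_of_between hHL hLK⟩
  · exact (MulAction.isCoatom_stabilizer_iff_preprimitive (Equiv.Perm X) o).mpr hprim
  · rw [MulAction.index_stabilizer_of_transitive, Nat.card_eq_fintype_card, Fintype.card_fin]
  · exact hrange ▸ Subgroup.map_le_range φ _

end Cfsg.Agent.S5894
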