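import Cfsg.Statements.S5895
import Mathlib
import Cfsg.Agent.S5894

set_option autoImplicit false
set_option linter.style.haveILetI false
open Cfsg

namespace Cfsg.Agent.S5895


open scoped LinearAlgebra.Projectivization

/-- For every prime p and every d ≥ 2 there is a finite group G with a maximal subgroup M of index p^d and a maximal subgroup H of M that is not second maximal in G: some maximal subgroup K of G contains H without H being maximal in K. (One may take G the affine group V ⋊ GL(V) of V = 𝔽_p^d, M = GL(V), H the stabiliser in M of a line W of V, and K = V ⋊ H, with H < W ⋊ H < K.) So the prime-index hypothesis in the second-maximality criterion cannot be relaxed to prime-power index. -/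
theorem result (p d : ℕ) (hp : p.Prime)
    (hd : 2 ≤ d) :
    ∃ (G : Type) (_ : Group G) (_ : Finite G) (M H K : Subgroup G), IsCoatom M ∧ M.index = p ^ d ∧ H ≤ M ∧
      IsCoatom (H.subgroupOf M) ∧ IsCoatom K ∧ H ≤ K ∧ ¬ IsCoatom (H.subgroupOf K) := by
  haveI := Fact.mk hp
  classical
  let k := ZMod p
  let V := Fin d → ZMod p
  let e₀ : V := Pi.single ⟨0, by omega⟩ 1
  let e₁ : V := Pi.single ⟨1, by omega⟩ 1
  have he₀ : e₀ ≠ 0 := fun h => by
    have h1 : (Pi.single ⟨0, by omega⟩ 1 : Fin d → ZMod p) ⟨0, by omega⟩ = 0 := congrFun h _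
    rw [Pi.single_eq_same] at h1
    exact one_ne_zero h1
  have he₁ : e₁ ∉ Submodule.span (ZMod p) {e₀} := fun h => by
    obtain ⟨c, hc⟩ := Submodule.mem_span_singleton.mp h
    have h1 : c * (Pi.single ⟨0, by omega⟩ 1 : Fin d → ZMod p) ⟨1, by omega⟩ =
        (Pi.single ⟨1, by omega⟩ 1 : Fin d → ZMod p) ⟨1, by omega⟩ := congrFun hc _
    rw [Pi.single_eq_same, Pi.single_eq_of_ne (fun hh => by simpa using congrArg Fin.val hh), mul_zero] at h1
    exact zero_ne_one h1
  let p₀ : ℙ (ZMod p) V := Projectivization.mk (ZMod p) e₀ he₀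
  haveI : Nontrivial (ℙ (ZMod p) V) := by
    refine ⟨⟨p₀, Projectivization.mk (ZMod p) e₁ (fun h => he₁ (h ▸ Submodule.zero_mem _)), fun h => ?_⟩⟩
    obtain ⟨a, ha⟩ := (Projectivization.mk_eq_mk_iff' (ZMod p) _ _ _ _).mp h.symm
    exact he₁ (ha ▸ Submodule.smul_mem _ a (Submodule.mem_span_singleton_self e₀))
  have hprim : MulAction.IsPreprimitive (V ≃ₗ[ZMod p] V) (ℙ (ZMod p) V) :=
    MulAction.isPreprimitive_of_is_two_pretransitive inferInstance
  haveI := hprim
  set U := MulAction.stabilizer (V ≃ₗ[ZMod p] V) p₀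
  have hU : IsCoatom U := (MulAction.isCoatom_stabilizer_iff_preprimitive (V ≃ₗ[ZMod p] V) p₀).mpr hprim
  let G := V ≃ᵃ[ZMod p] V
  haveI : Finite G := Finite.of_injective (fun g : G => (g : V → V)) DFunLike.coe_injective
  let lin : G →* (V ≃ₗ[ZMod p] V) :=
    { toFun := fun g => g.linear, map_one' := rfl, map_mul' := fun _ _ => rfl }
  let ι : (V ≃ₗ[ZMod p] V) →* G :=
    { toFun := fun f => f.toAffineEquiv
      map_one' := AffineEquiv.ext fun v => rfl
      map_mul' := fun a b => AffineEquiv.ext fun v => rfl }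
  have hι : Function.Injective ι := fun a b h => LinearEquiv.ext fun v =>
    congrArg (fun g : G => g v) h
  set M := ι.range with hM
  have hmemM : ∀ g : G, g ∈ M ↔ g 0 = 0 := by
    intro g
    constructor
    · rintro ⟨f, rfl⟩
      exact map_zero f
    · intro hg
      refine ⟨g.linear, AffineEquiv.ext fun v => ?_⟩
      show g.linear v = g v
      have := g.map_vadd (0 : V) v
      rw [hg, vadd_eq_add, vadd_eq_add, add_zero, add_zero] at this
      exact this.symm
  let T : V → G := fun c => AffineEquiv.constVAdd (ZMod p) V c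
  have hT : ∀ c v, T c v = c + v := fun c v => rfl
  have hsplit : ∀ g : G, g = T (g 0) * ι g.linear := by
    intro g
    refine AffineEquiv.ext fun v => ?_
    show g v = g 0 + g.linear v
    have := g.map_vadd (0 : V) v
    rw [vadd_eq_add, vadd_eq_add, add_zero] at this
    rw [this, add_comm]
  have hconj : ∀ (f : V ≃ₗ[ZMod p] V) c, ι f * T c * (ι f)⁻¹ = T (f c) := by
    intro f c
    rw [mul_inv_eq_iff_eq_mul]
    exact AffineEquiv.ext fun v => map_add f c v
  have hTzero : T 0 = 1 := AffineEquiv.ext fun v => zero_add v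
  -- index
  have hindex : M.index = p ^ d := by
    have hV : Nat.card V = p ^ d := by
      rw [Nat.card_fun, Nat.card_zmod, Nat.card_eq_fintype_card, Fintype.card_fin]
    rw [← hV]
    refine Nat.card_congr (Equiv.ofBijective
      (Quotient.lift (fun g : G => g 0) fun a b h => ?_) ⟨?_, fun c => ⟨Quotient.mk'' (T c), add_zero c⟩⟩)
    · have h1 := (hmemM _).mp (QuotientGroup.leftRel_apply.mp h)
      have h2 : a ((a⁻¹ * b : G) 0) = b 0 := a.apply_symm_apply (b 0)
      rw [h1] at h2
      exact h2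
    · intro a b
      induction a using Quotient.inductionOn' with | _ a =>
      induction b using Quotient.inductionOn' with | _ b =>
      intro h
      apply Quotient.sound'
      rw [QuotientGroup.leftRel_apply, hmemM]
      show a.symm (b 0) = 0
      rw [← show a 0 = b 0 from h, AffineEquiv.symm_apply_apply]
  -- maximality
  have hMmax : IsCoatom M := by
    refine ⟨fun h => ?_, fun N hN => ?_⟩
    · have h1 : M.index = 1 := Subgroup.index_eq_one.mpr h
      rw [hindex] at h1
      exact (Nat.one_lt_pow (by omega) hp.one_lt).ne' h1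
    · obtain ⟨g, hgN, hg⟩ := SetLike.exists_of_lt hN
      have hg0 : g 0 ≠ 0 := fun h => hg ((hmemM g).mpr h)
      have hTg : T (g 0) ∈ N := by
        have h1 : g * (ι g.linear)⁻¹ ∈ N := N.mul_mem hgN (N.inv_mem (hN.le ⟨_, rfl⟩))
        have h2 : g * (ι g.linear)⁻¹ = T (g 0) := mul_inv_eq_iff_eq_mul.mpr (hsplit g)
        rwa [h2] at h1
      refine top_unique fun x _ => ?_
      rw [hsplit x]
      refine N.mul_mem ?_ (hN.le ⟨_, rfl⟩)
      by_cases hx : x 0 = 0
      · rw [hx, hTzero]; exact N.one_mem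
      · obtain ⟨f, hf⟩ : ∃ f : V ≃ₗ[ZMod p] V, f (g 0) = x 0 := by
          obtain ⟨f, hf⟩ := MulAction.exists_smul_eq (V ≃ₗ[ZMod p] V)
            (Projectivization.mk (ZMod p) (g 0) hg0) (Projectivization.mk (ZMod p) (x 0) hx)
          obtain ⟨a, ha⟩ := (Projectivization.mk_eq_mk_iff' (ZMod p) _ _ _ _).mp hf.symm
          have ha0 : a ≠ 0 := fun h => hx (by rw [← ha, h, zero_smul])
          exact ⟨f.trans (LinearEquiv.smulOfUnit (Units.mk0 a ha0)), ha⟩
        rw [← hf, ← hconj]
        exact N.mul_mem (N.mul_mem (hN.le ⟨f, rfl⟩) hTg) (N.inv_mem (hN.le ⟨f, rfl⟩))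
  set H := U.map ι
  let W := Submodule.span (ZMod p) {e₀}
  have hWst : ∀ f ∈ U, ∀ w ∈ W, f w ∈ W := by
    intro f hf w hw
    obtain ⟨a, ha⟩ := (Projectivization.mk_eq_mk_iff' (ZMod p) _ _ _ _).mp (MulAction.mem_stabilizer_iff.mp hf)
    obtain ⟨c, rfl⟩ := Submodule.mem_span_singleton.mp hw
    have ha' : a • e₀ = f e₀ := ha
    rw [map_smul, ← ha']
    exact W.smul_mem _ (W.smul_mem _ (Submodule.mem_span_singleton_self e₀))
  let L : Subgroup G :=
    { carrier := {g | g.linear ∈ U ∧ g 0 ∈ W}
      one_mem' := ⟨U.one_mem, W.zero_mem⟩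
      mul_mem' := fun {a b} ha hb => ⟨U.mul_mem ha.1 hb.1, by
        show a (b 0) ∈ W
        have := a.map_vadd (0 : V) (b 0)
        rw [vadd_eq_add, vadd_eq_add, add_zero] at this
        rw [this]
        exact W.add_mem (hWst _ ha.1 _ hb.2) ha.2⟩
      inv_mem' := fun {a} ha => ⟨U.inv_mem ha.1, by
        show a.symm 0 ∈ W
        have := a.map_vadd (0 : V) (a.symm 0)
        rw [vadd_eq_add, vadd_eq_add, add_zero, AffineEquiv.apply_symm_apply] at this
        have h2 : a.linear (a.symm 0) = -a 0 := eq_neg_of_add_eq_zero_left this.symm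
        have h3 := hWst _ (U.inv_mem ha.1) _ (W.neg_mem ha.2)
        rw [← h2] at h3
        rwa [show (a.linear⁻¹) (a.linear (a.symm 0)) = a.symm 0 from a.linear.symm_apply_apply _] at h3⟩ }
  have hlin_ne : U.comap lin ≠ ⊤ := by
    intro h
    apply hU.1
    refine top_unique fun f _ => ?_
    have : ι f ∈ U.comap lin := by rw [h]; trivial
    exact this
  obtain ⟨K, hK, hLK₀⟩ := (eq_top_or_exists_le_coatom (U.comap lin)).resolve_left hlin_ne
  have hHL : H < L := by
    refine lt_of_le_of_ne ?_ fun he => ?_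
    · rintro _ ⟨f, hf, rfl⟩
      exact ⟨hf, (map_zero f).symm ▸ W.zero_mem⟩
    · have h1 : T e₀ ∈ L := ⟨U.one_mem, by
        show e₀ + 0 ∈ W
        rw [add_zero]; exact Submodule.mem_span_singleton_self e₀⟩
      rw [← he] at h1
      have h2 := (hmemM _).mp (Subgroup.map_le_range ι U h1)
      rw [hT, add_zero] at h2
      exact he₀ h2
  have hLK : L < K := by
    refine lt_of_le_of_ne (le_trans (show L ≤ U.comap lin from fun g hg => hg.1) hLK₀) fun he => ?_
    have h1 : T e₁ ∈ K := hLK₀ U.one_mem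
    rw [← he] at h1
    have h2 : e₁ + 0 ∈ W := h1.2
    rw [add_zero] at h2
    exact he₁ h2
  exact ⟨G, inferInstance, inferInstance, M, H, K, hMmax, hindex, Subgroup.map_le_range ι U,
    Cfsg.Agent.S5894.coatom_map_range ι hι hU rfl, hK, hHL.le.trans hLK.le,
    Cfsg.Agent.S5894.not_coatom_of_between hHL hLK⟩

end Cfsg.Agent.S5895
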