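import Cfsg.Statements.S5896
import Mathlib

set_option autoImplicit false
open Cfsg
open scoped commutatorElement

namespace Cfsg.Agent.S5896

/-- Permutation of coordinates. -/
def permAut (ι S : Type) [Group S] : Equiv.Perm ι →* MulAut (ι → S) where
  toFun σ :=
    { toFun := fun f => f ∘ ⇑σ⁻¹
      invFun := fun f => f ∘ ⇑σ
      left_inv := fun f => by ext; simp
      right_inv := fun f => by ext; simp
      map_mul' := fun _ _ => rfl }
  map_one' := by ext f i; rfl
  map_mul' σ τ := by ext f i; rfl

theorem permAut_apply {ι S : Type} [Group S] (σ : Equiv.Perm ι) (f : ι → S) (i : ι) :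
    permAut ι S σ f i = f (σ⁻¹ i) := rfl

theorem derivedSeries_le_map {A B : Type*} [Group A] [Group B] (N : Subgroup A) (k : ℕ)
    (π : N →* B) (h : derivedSeries B 0 ≤ ((derivedSeries A k).comap N.subtype).map π) (m : ℕ) :
    derivedSeries B m ≤ ((derivedSeries A (k + m)).comap N.subtype).map π := by
  induction m with
  | zero => exact h
  | succ m ih =>
    rw [derivedSeries_succ]
    refine (Subgroup.commutator_mono ih ih).trans ?_
    rw [← Subgroup.map_commutator]
    refine Subgroup.map_mono ?_
    rw [← Subgroup.map_le_iff_le_comap, Subgroup.map_commutator]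
    exact Subgroup.commutator_mono (Subgroup.map_comap_le _ _) (Subgroup.map_comap_le _ _)

theorem isSolvable_pi (ι S : Type) [Group S] [h : Group.IsSolvable S] : Group.IsSolvable (ι → S) := by
  obtain ⟨n, hn⟩ := (Group.isSolvable_def S).1 h
  refine (Group.isSolvable_def _).2 ⟨n, eq_bot_iff.2 fun x hx => ?_⟩
  refine Subgroup.mem_bot.2 (funext fun i => ?_)
  have := map_derivedSeries_le_derivedSeries (Pi.evalMonoidHom (fun _ : ι => S) i) n
    (Subgroup.mem_map_of_mem _ hx)
  rw [hn] at this
  exact this

theorem exists_solvable (d : ℕ) : ∃ (S : Type) (_ : Group S) (_ : Finite S),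
    Group.IsSolvable S ∧ derivedSeries S d ≠ ⊥ := by
  induction d with
  | zero =>
    exact ⟨Multiplicative (ZMod 2), inferInstance, inferInstance, inferInstance, by simp⟩
  | succ d ih =>
    obtain ⟨S, hg, hfin, hsol, hd⟩ := ih
    let φ := permAut (Fin 2) S
    let W := SemidirectProduct (Fin 2 → S) (Equiv.Perm (Fin 2)) φ
    haveI : Finite W := Finite.of_injective (fun x : W => (x.left, x.right))
      (fun x y h => SemidirectProduct.ext (congrArg Prod.fst h) (congrArg Prod.snd h))
    haveI : Group.IsSolvable (Fin 2 → S) := isSolvable_pi _ S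
    haveI : Group.IsSolvable (Equiv.Perm (Fin 2)) :=
      isSolvable_of_comm (G := Equiv.Perm (Fin 2)) (by decide)
    haveI : Group.IsSolvable W :=
      solvable_of_ker_le_range SemidirectProduct.inl SemidirectProduct.rightHom
        SemidirectProduct.range_inl_eq_ker_rightHom.ge
    refine ⟨W, inferInstance, inferInstance, inferInstance, fun hbot => hd ?_⟩
    let N : Subgroup W := (SemidirectProduct.inl : (Fin 2 → S) →* W).range
    let π : N →* S :=
      (Pi.evalMonoidHom (fun _ : Fin 2 => S) 0).comp
        ((MonoidHom.ofInjective (f := (SemidirectProduct.inl : (Fin 2 → S) →* W))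
          SemidirectProduct.inl_injective).symm.toMonoidHom)
    have h := derivedSeries_le_map N 1 π ?_ d
    · rw [add_comm 1 d, hbot] at h
      rw [eq_bot_iff]
      refine h.trans ?_
      rintro _ ⟨x, hx, rfl⟩
      have : x = 1 := Subtype.ext (Subgroup.mem_bot.1 hx)
      simp [this]
    · intro x _
      let f : Fin 2 → S := Pi.mulSingle 0 x
      let g : W := ⁅(SemidirectProduct.inl f : W), (SemidirectProduct.inr (Equiv.swap 0 1) : W)⁆
      have hg : g = SemidirectProduct.inl (f * φ (Equiv.swap 0 1) f⁻¹) := by
        simp only [g, commutatorElement_def]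
        rw [map_mul, ← map_inv, SemidirectProduct.inl_aut]
        rw [← map_inv SemidirectProduct.inr, Equiv.swap_inv]
        simp [mul_assoc]
      refine ⟨⟨g, ⟨_, hg.symm⟩⟩, ?_, ?_⟩
      · show g ∈ derivedSeries W 1
        rw [derivedSeries_one, commutator_def]
        exact Subgroup.commutator_mem_commutator (Subgroup.mem_top (SemidirectProduct.inl f : W))
          (Subgroup.mem_top (SemidirectProduct.inr (Equiv.swap 0 1) : W))
      · have he : (MonoidHom.ofInjective (f := (SemidirectProduct.inl : (Fin 2 → S) →* W))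
            SemidirectProduct.inl_injective).symm ⟨g, ⟨_, hg.symm⟩⟩
              = f * φ (Equiv.swap 0 1) f⁻¹ := by
          rw [MulEquiv.symm_apply_eq]
          exact Subtype.ext hg
        show (MonoidHom.ofInjective (f := (SemidirectProduct.inl : (Fin 2 → S) →* W))
            SemidirectProduct.inl_injective).symm ⟨g, ⟨_, hg.symm⟩⟩ 0 = x
        rw [he]
        simp [f, φ, permAut_apply]

theorem exists_alternating_five_move :
    ∀ i j l : Fin 5, i ≠ l → j ≠ l → ∃ σ ∈ alternatingGroup (Fin 5), σ i = j ∧ σ l = l := by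
  intro i j l hil hjl
  by_cases hij : i = j
  · exact ⟨1, Subgroup.one_mem _, hij, rfl⟩
  · obtain ⟨m, hm⟩ : ∃ m, m ∉ ({i, j, l} : Finset (Fin 5)) := by
      refine Finset.exists_mem_notMem_of_card_lt_card (s := ({i, j, l} : Finset (Fin 5))) (t := Finset.univ) ?_ |>.imp fun m h => h.2
      calc ({i, j, l} : Finset (Fin 5)).card ≤ 3 := Finset.card_le_three
        _ < _ := by simp
    simp only [Finset.mem_insert, Finset.mem_singleton, not_or] at hm
    refine ⟨Equiv.swap i j * Equiv.swap j m, ?_, ?_, ?_⟩
    · rw [Equiv.Perm.mem_alternatingGroup, map_mul, Equiv.Perm.sign_swap (Ne.symm hm.2.1),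
        Equiv.Perm.sign_swap hij]
      rfl
    · rw [Equiv.Perm.mul_apply, Equiv.swap_apply_of_ne_of_ne hij (Ne.symm hm.1), Equiv.swap_apply_left]
    · rw [Equiv.Perm.mul_apply, Equiv.swap_apply_of_ne_of_ne hjl.symm (Ne.symm hm.2.2),
        Equiv.swap_apply_of_ne_of_ne hil.symm hjl.symm]

/-- Product of the coordinates in the abelianisation. -/
def sumAb (S : Type) [Group S] : (Fin 5 → S) →* Abelianization S where
  toFun f := ∏ i, Abelianization.of (f i)
  map_one' := by simp
  map_mul' f g := by simp [Finset.prod_mul_distrib]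

theorem sumAb_perm {S : Type} [Group S] (σ : Equiv.Perm (Fin 5)) (f : Fin 5 → S) :
    sumAb S (permAut (Fin 5) S σ f) = sumAb S f :=
  Fintype.prod_equiv σ⁻¹ _ (fun i => Abelianization.of (f i)) fun _ => rfl

/-- The action of the alternating group of degree five on the base group. -/
def act (S : Type) [Group S] : alternatingGroup (Fin 5) →* MulAut (sumAb S).ker where
  toFun σ :=
    { toFun := fun k => ⟨permAut (Fin 5) S σ k,
        MonoidHom.mem_ker.2 ((sumAb_perm _ _).trans k.2)⟩
      invFun := fun k => ⟨permAut (Fin 5) S (σ : Equiv.Perm (Fin 5))⁻¹ k,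
        MonoidHom.mem_ker.2 ((sumAb_perm _ _).trans k.2)⟩
      left_inv := fun k => by
        ext i
        show (k : Fin 5 → S) ((σ : Equiv.Perm (Fin 5))⁻¹ ((σ : Equiv.Perm (Fin 5))⁻¹⁻¹ i)) = _
        simp
      right_inv := fun k => by
        ext i
        show (k : Fin 5 → S) ((σ : Equiv.Perm (Fin 5))⁻¹⁻¹ ((σ : Equiv.Perm (Fin 5))⁻¹ i)) = _
        simp
      map_mul' := fun _ _ => rfl }
  map_one' := by ext k i; rfl
  map_mul' σ τ := by ext k i; rfl

/-- The element with `x` in coordinate `i` and `x⁻¹` in coordinate `j`. -/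
def diag2 {S : Type} [Group S] (i j : Fin 5) (x : S) : Fin 5 → S :=
  Pi.mulSingle i x * Pi.mulSingle j x⁻¹

theorem diag2_mem {S : Type} [Group S] (i j : Fin 5) (x : S) : diag2 i j x ∈ (sumAb S).ker := by
  have h : ∀ (k : Fin 5) (y : S), sumAb S (Pi.mulSingle k y) = Abelianization.of y := fun k y => by
    show ∏ l, Abelianization.of (Pi.mulSingle k y l) = _
    rw [Finset.prod_eq_single k]
    · simp
    · intro l _ hl; simp [hl]
    · simp
  rw [MonoidHom.mem_ker, diag2, map_mul, h, h, ← map_mul, mul_inv_cancel, map_one]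

theorem solvable_stabilizer :
    Group.IsSolvable ↥(MulAction.stabilizer (alternatingGroup (Fin 5)) (4 : Fin 5)) := by
  let M := ↥(MulAction.stabilizer (alternatingGroup (Fin 5)) (4 : Fin 5))
  have h1 : ∀ a b : M, ⁅a, b⁆ * ⁅a, b⁆ = 1 := by decide +kernel
  have h2 : ∀ a : M, a * a = 1 → ∀ b : M, b * b = 1 → a * b = b * a := by decide +kernel
  let V : Subgroup M :=
    { carrier := {a | a * a = 1}
      one_mem' := one_mul 1
      mul_mem' := fun {a b} ha hb => by
        show a * b * (a * b) = 1
        have hc := h2 a ha b hb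
        calc a * b * (a * b) = (a * a) * (b * b) := by rw [mul_assoc a b, ← mul_assoc b a, ← hc, mul_assoc a b, ← mul_assoc]
          _ = 1 := by rw [(ha : a * a = 1), (hb : b * b = 1), mul_one]
      inv_mem' := fun {a} ha => by
        show a⁻¹ * a⁻¹ = 1
        rw [← mul_inv_rev, (ha : a * a = 1), inv_one] }
  haveI : Group.IsSolvable V :=
    isSolvable_of_comm fun a b => Subtype.ext (h2 a a.2 b b.2)
  have hV : commutator M ≤ V := by
    rw [commutator_def, Subgroup.commutator_le]
    exact fun a _ b _ => h1 a b
  exact solvable_of_ker_le_range V.subtype (Abelianization.of (G := M))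
    (by rw [Abelianization.ker_of, Subgroup.range_subtype]; exact hV)

/-- Finite perfect groups have solvable maximal subgroups of unbounded derived length: for every d there is a finite perfect group G (equal to its commutator subgroup) with a solvable maximal subgroup H whose derived length exceeds d, i.e. the d-th term of the derived series of H is non-trivial. (Take the derived subgroup of a wreath product S ≀ A₅ with S solvable of large derived length, and H the preimage of a maximal subgroup of A₅.) -/
theorem result (d : ℕ) :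
    ∃ (G : Type) (_ : Group G) (_ : Finite G) (H : Subgroup G), commutator G = ⊤ ∧ IsCoatom H ∧ Group.IsSolvable H ∧
      derivedSeries H d ≠ ⊥ := by
  obtain ⟨S, hg, hfin, hsol, hd⟩ := exists_solvable d
  let A5 := alternatingGroup (Fin 5)
  let φ := act S
  let G := SemidirectProduct (sumAb S).ker A5 φ
  haveI : Finite G := Finite.of_injective (fun x : G => (x.left, x.right))
    (fun x y h => SemidirectProduct.ext (congrArg Prod.fst h) (congrArg Prod.snd h))
  let R : G →* A5 := SemidirectProduct.rightHom
  let M : Subgroup A5 := MulAction.stabilizer A5 (4 : Fin 5)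
  refine ⟨G, inferInstance, inferInstance, M.comap R, ?_, ?_, ?_, ?_⟩
  · -- perfect
    have hA : commutator A5 = ⊤ := commutator_alternatingGroup_eq_top (by simp)
    have hr : ∀ σ : A5, SemidirectProduct.inr σ ∈ commutator G := by
      intro σ
      have h := Subgroup.map_commutator ⊤ ⊤ (SemidirectProduct.inr : A5 →* G)
      rw [← commutator_def, hA] at h
      have h' : SemidirectProduct.inr σ ∈ (⊤ : Subgroup A5).map (SemidirectProduct.inr : A5 →* G) :=
        Subgroup.mem_map_of_mem _ (Subgroup.mem_top σ)
      rw [h] at h'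
      exact Subgroup.commutator_mono le_top le_top h'
    let T : Subgroup (Fin 5 → S) :=
      ((commutator G).comap (SemidirectProduct.inl : (sumAb S).ker →* G)).map (sumAb S).ker.subtype
    have hTd : ∀ i j : Fin 5, i ≠ j → ∀ x : S, diag2 i j x ∈ T := by
      intro i j hij x
      obtain ⟨l, hl⟩ : ∃ l : Fin 5, l ∉ ({i, j} : Finset (Fin 5)) :=
        (Finset.exists_mem_notMem_of_card_lt_card (s := ({i, j} : Finset (Fin 5))) (t := Finset.univ)
          (lt_of_le_of_lt Finset.card_le_two (by simp))).imp fun m h => h.2
      simp only [Finset.mem_insert, Finset.mem_singleton, not_or] at hl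
      obtain ⟨σ, hσ, hσi, hσl⟩ := exists_alternating_five_move i j l (Ne.symm hl.1) (Ne.symm hl.2)
      let k : (sumAb S).ker := ⟨diag2 i l x, diag2_mem i l x⟩
      refine ⟨k * φ ⟨σ, hσ⟩ k⁻¹, ?_, ?_⟩
      · show SemidirectProduct.inl (k * φ ⟨σ, hσ⟩ k⁻¹) ∈ commutator G
        rw [map_mul, SemidirectProduct.inl_aut, map_inv, ← mul_assoc, ← mul_assoc, commutator_def]
        rw [map_inv (SemidirectProduct.inr (φ := φ)), ← commutatorElement_def]
        exact Subgroup.commutator_mem_commutator (Subgroup.mem_top (SemidirectProduct.inl k : G))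
          (Subgroup.mem_top (SemidirectProduct.inr ⟨σ, hσ⟩ : G))
      · funext m
        show (diag2 i l x * (permAut (Fin 5) S σ (diag2 i l x)⁻¹)) m = diag2 i j x m
        have hi' : σ⁻¹ j = i := by rw [← hσi]; simp
        have hl' : σ⁻¹ l = l := by nth_rewrite 1 [← hσl]; simp
        simp only [Pi.mul_apply, permAut_apply, Pi.inv_apply, diag2]
        rcases eq_or_ne m l with rfl | hml
        · rw [hl']; simp [Ne.symm hl.1, Ne.symm hl.2, hl.1, hl.2]
        · have h1 : σ⁻¹ m ≠ l := by
            intro h
            apply hml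
            rw [← hσl, ← h]; simp
          rcases eq_or_ne m j with rfl | hmj
          · rw [hi']; simp [Ne.symm hij, hml, Ne.symm hl.1, Ne.symm hl.2]
          · have h2 : σ⁻¹ m ≠ i := by
              intro h
              apply hmj
              rw [← hσi, ← h]; simp
            rw [Pi.mulSingle_eq_of_ne h1, Pi.mulSingle_eq_of_ne h2]
            simp [hml, hmj]
    have hTc : ∀ (i : Fin 5) (c : S), c ∈ commutator S → Pi.mulSingle i c ∈ T := by
      intro i
      suffices h : commutator S ≤ T.comap (MonoidHom.mulSingle (fun _ : Fin 5 => S) i) from h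
      rw [commutator_def, Subgroup.commutator_le]
      intro x _ y _
      obtain ⟨j, hj⟩ : ∃ j : Fin 5, j ≠ i := exists_ne i
      obtain ⟨l, hl⟩ : ∃ l : Fin 5, l ∉ ({i, j} : Finset (Fin 5)) :=
        (Finset.exists_mem_notMem_of_card_lt_card (s := ({i, j} : Finset (Fin 5))) (t := Finset.univ)
          (lt_of_le_of_lt Finset.card_le_two (by simp))).imp fun m h => h.2
      simp only [Finset.mem_insert, Finset.mem_singleton, not_or] at hl
      have : Pi.mulSingle i ⁅x, y⁆ = ⁅diag2 i j x, diag2 i l y⁆ := by
        funext m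
        simp only [commutatorElement_def, Pi.mul_apply, Pi.inv_apply, diag2]
        rcases eq_or_ne m i with rfl | hmi
        · simp [Ne.symm hj, Ne.symm hl.1]
        · rcases eq_or_ne m j with rfl | hmj
          · simp [hmi, Ne.symm hl.2]
          · simp [hmi, hmj]
      show Pi.mulSingle i ⁅x, y⁆ ∈ T
      rw [this, commutatorElement_def]
      exact T.mul_mem (T.mul_mem (T.mul_mem (hTd i j (Ne.symm hj) x) (hTd i l (Ne.symm hl.1) y))
        (T.inv_mem (hTd i j (Ne.symm hj) x))) (T.inv_mem (hTd i l (Ne.symm hl.1) y))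
    have hker : ∀ f : Fin 5 → S, f ∈ (sumAb S).ker → f ∈ T := by
      intro f hf
      have he : f = diag2 4 0 (f 4) * diag2 3 0 (f 3) * diag2 2 0 (f 2) * diag2 1 0 (f 1) *
          Pi.mulSingle 0 (f 1 * f 2 * f 3 * f 4 * f 0) := by
        funext m
        fin_cases m <;> simp [diag2, mul_assoc]
      rw [he]
      refine T.mul_mem (T.mul_mem (T.mul_mem (T.mul_mem (hTd 4 0 (by decide) _) (hTd 3 0 (by decide) _))
        (hTd 2 0 (by decide) _)) (hTd 1 0 (by decide) _)) (hTc 0 _ ?_)
      rw [← Abelianization.ker_of, MonoidHom.mem_ker]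
      have h5 : ∏ i, Abelianization.of (f i) = 1 := hf
      rw [Fin.prod_univ_five] at h5
      simp only [map_mul]
      rw [← h5]
      ac_rfl
    rw [eq_top_iff]
    intro g _
    rw [← SemidirectProduct.inl_left_mul_inr_right g]
    refine (commutator G).mul_mem ?_ (hr _)
    obtain ⟨k, hk, hke⟩ := hker _ g.left.2
    exact (Subtype.ext hke : k = g.left) ▸ hk
  · -- maximal
    haveI : MulAction.IsPreprimitive A5 (Fin 5) :=
      alternatingGroup.isPreprimitive_of_three_le_card (Fin 5) (by simp)
    have hM : IsCoatom M := MulAction.IsPreprimitive.isCoatom_stabilizer_of_isPreprimitive A5 (4 : Fin 5)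
    have hR : Function.Surjective R := SemidirectProduct.rightHom_surjective
    refine ⟨fun h => hM.1 ?_, fun K hK => ?_⟩
    · rw [← Subgroup.map_comap_eq_self_of_surjective hR M, h, Subgroup.map_top_of_surjective _ hR]
    · have hker' : R.ker ≤ K := (Subgroup.ker_le_comap R M).trans hK.le
      have hlt : M < K.map R := by
        refine lt_of_le_of_ne ?_ fun h => ?_
        · rw [← Subgroup.map_comap_eq_self_of_surjective hR M]; exact Subgroup.map_mono hK.le
        · exact hK.ne (by rw [h, Subgroup.comap_map_eq_self hker'])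
      rw [← Subgroup.comap_map_eq_self hker', hM.2 _ hlt, Subgroup.comap_top]
  · haveI : Group.IsSolvable M := solvable_stabilizer
    haveI : Group.IsSolvable (Fin 5 → S) := isSolvable_pi _ S
    let r : ↥(M.comap R) →* M := (R.comp (M.comap R).subtype).codRestrict M fun x => x.2
    let e : (sumAb S).ker →* ↥(M.comap R) := (SemidirectProduct.inl : (sumAb S).ker →* G).codRestrict _
      fun k => by
        show R (SemidirectProduct.inl k) ∈ M
        rw [SemidirectProduct.rightHom_inl]
        exact M.one_mem
    refine solvable_of_ker_le_range e r fun x hx => ⟨(x : G).left, Subtype.ext ?_⟩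
    have : R (x : G) = 1 := congrArg Subtype.val (MonoidHom.mem_ker.1 hx)
    exact SemidirectProduct.ext rfl this.symm
  · intro hbot
    refine hd ?_
    let e : (sumAb S).ker →* ↥(M.comap R) := (SemidirectProduct.inl : (sumAb S).ker →* G).codRestrict _
      fun k => by
        show R (SemidirectProduct.inl k) ∈ M
        rw [SemidirectProduct.rightHom_inl]
        exact M.one_mem
    have he : Function.Injective e := fun a b h => SemidirectProduct.inl_injective (congrArg Subtype.val h)
    let π : (sumAb S).ker →* S := (Pi.evalMonoidHom (fun _ : Fin 5 => S) 0).comp (sumAb S).ker.subtype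
    have hπ : Function.Surjective π := fun x => ⟨⟨diag2 0 1 x, diag2_mem 0 1 x⟩, by simp [π, diag2]⟩
    rw [← map_derivedSeries_eq hπ d]
    have h1 : derivedSeries (sumAb S).ker d = ⊥ := by
      rw [← Subgroup.map_eq_bot_iff_of_injective _ he, eq_bot_iff, ← hbot]
      exact map_derivedSeries_le_derivedSeries e d
    rw [h1, Subgroup.map_bot]
end Cfsg.Agent.S5896
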