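import Cfsg.Statements.S5902
import Mathlib
import Cfsg.Agent.Lib.Lattice.SubgroupComplement

set_option autoImplicit false
open Cfsg

namespace Cfsg.Agent.S5902

/-- Let G be a finite group, X a subgroup whose own subgroup lattice is complemented, and suppose X lies in exactly one maximal subgroup M of G. Then every subgroup H of G not contained in the normal core of M has a complement in the subgroup lattice of G (some C with H ⊔ C = G and H ⊓ C = 1); in particular the subgroup lattice of G modulo the normal core of M is complemented. -/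
theorem result {G : Type*} [Group G] [Finite G] (X M : Subgroup G)
    (hK : ComplementedLattice (Subgroup X))
    (hM : IsCoatom M) (hXM : X ≤ M) (huniq : ∀ M' : Subgroup G, IsCoatom M' → X ≤ M' → M' = M) :
    (∀ H : Subgroup G, ¬ H ≤ M.normalCore → ∃ C : Subgroup G, H ⊔ C = ⊤ ∧ H ⊓ C = ⊥) ∧
    ComplementedLattice (Subgroup (G ⧸ M.normalCore)) := by
  have key : ∀ H : Subgroup G, ¬ H ≤ M.normalCore →
      ∃ C : Subgroup G, H ⊔ C = ⊤ ∧ H ⊓ C = ⊥ := by
    intro H hH
    obtain ⟨g, hg⟩ := not_forall.1 (fun h => hH (Lib.SubgroupComplement.le_normalCore_of_forall_smul_le H M h))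
    refine Lib.SubgroupComplement.exists_complement_of_smul g H ?_
    refine Lib.SubgroupComplement.exists_complement_of_interval ⊥ X M bot_le ?_ huniq _ hg
      (inf_bot_eq _)
    intro Y _ hY
    obtain ⟨C, hC⟩ := exists_isCompl (Y.subgroupOf X)
    have hi := congrArg (Subgroup.map X.subtype) hC.inf_eq_bot
    have hs := congrArg (Subgroup.map X.subtype) hC.sup_eq_top
    rw [Subgroup.map_inf _ _ _ X.subtype_injective, Subgroup.map_subgroupOf_eq_of_le hY,
      Subgroup.map_bot] at hi
    rw [Subgroup.map_sup, Subgroup.map_subgroupOf_eq_of_le hY, ← MonoidHom.range_eq_map,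
      X.range_subtype] at hs
    exact ⟨C.map X.subtype, bot_le, Subgroup.map_subtype_le C, hs, hi⟩
  exact ⟨key, Lib.SubgroupComplement.complementedLattice_quotient_of_forall _
    fun H hH => key H hH.not_ge⟩

end Cfsg.Agent.S5902
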