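import Cfsg.Statements.S5903
import Mathlib
import Cfsg.Agent.Lib.Lattice.SubgroupComplement

set_option autoImplicit false
open scoped Pointwise
open Cfsg

namespace Cfsg.Agent.S5903

/-- Let G be a finite simple group, X a subgroup lying in exactly one maximal subgroup M of G, and N a subgroup of prime order with N ≤ X that is central in M. If the subgroup lattice of X/N is complemented, then the subgroup lattice of G is complemented. -/
theorem result {G : Type*} [Group G] [Finite G] [IsSimpleGroup G] (X M N : Subgroup G)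
    (hM : IsCoatom M) (hXM : X ≤ M) (huniq : ∀ M' : Subgroup G, IsCoatom M' → X ≤ M' → M' = M)
    (hNX : N ≤ X) (hN : (Nat.card N).Prime) (hcen : ∀ n ∈ N, ∀ m ∈ M, m * n = n * m)
    [(N.subgroupOf X).Normal] (hK : ComplementedLattice (Subgroup (X ⧸ N.subgroupOf X))) :
    ComplementedLattice (Subgroup G) := by
  refine ⟨fun H => ?_⟩
  by_cases hbot : H = ⊥
  · exact ⟨⊤, hbot ▸ isCompl_bot_top⟩
  by_cases htop : H = ⊤
  · exact ⟨⊥, htop ▸ isCompl_top_bot⟩
  haveI : Fact (Nat.card N).Prime := ⟨hN⟩
  have hNM : N ≤ M := hNX.trans hXM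
  have hMn : ¬ M.Normal := fun h => by
    rcases h.eq_bot_or_eq_top with h1 | h1
    · exact hN.ne_one (Subgroup.card_eq_one.2 (le_bot_iff.1 (h1 ▸ hNM)))
    · exact hM.1 h1
  have hint : ∀ Y : Subgroup G, N ≤ Y → Y ≤ X →
      ∃ C : Subgroup G, N ≤ C ∧ C ≤ X ∧ Y ⊔ C = X ∧ Y ⊓ C = N := by
    intro Y hNY hYX
    set π := QuotientGroup.mk' (N.subgroupOf X) with hπ
    have hπs : Function.Surjective π := QuotientGroup.mk'_surjective _
    obtain ⟨D, hD⟩ := exists_isCompl ((Y.subgroupOf X).map π)
    have hle : N.subgroupOf X ≤ D.comap π := by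
      intro x hx
      simp [hπ, Subgroup.mem_comap, (QuotientGroup.eq_one_iff x).2 hx]
    have hY' : ((Y.subgroupOf X).map π).comap π = Y.subgroupOf X :=
      Subgroup.comap_map_eq_self (by rw [hπ, QuotientGroup.ker_mk']; exact Subgroup.comap_mono hNY)
    have hs := congrArg (fun K => Subgroup.map X.subtype (Subgroup.comap π K)) hD.sup_eq_top
    have hi := congrArg (fun K => Subgroup.map X.subtype (Subgroup.comap π K)) hD.inf_eq_bot
    rw [← Subgroup.comap_sup_eq _ _ _ hπs, hY', Subgroup.comap_top, Subgroup.map_sup,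
      Subgroup.map_subgroupOf_eq_of_le hYX, ← MonoidHom.range_eq_map, X.range_subtype] at hs
    rw [Subgroup.comap_inf, hY', MonoidHom.comap_bot, hπ, QuotientGroup.ker_mk',
      Subgroup.map_inf _ _ _ X.subtype_injective, Subgroup.map_subgroupOf_eq_of_le hYX,
      Subgroup.map_subgroupOf_eq_of_le hNX] at hi
    refine ⟨(D.comap π).map X.subtype, ?_, Subgroup.map_subtype_le _, hs, hi⟩
    exact le_trans (le_of_eq (Subgroup.map_subgroupOf_eq_of_le hNX).symm) (Subgroup.map_mono hle)
  suffices ∃ g : ConjAct G, ¬ g • H ≤ M ∧ g • H ⊓ N = ⊥ by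
    obtain ⟨g, hg1, hg2⟩ := this
    obtain ⟨C, h1, h2⟩ := Lib.SubgroupComplement.exists_complement_of_smul g H
      (Lib.SubgroupComplement.exists_complement_of_interval N X M hNX hint huniq _ hg1 hg2)
    exact ⟨C, IsCompl.of_eq h2 h1⟩
  by_contra hcon
  simp only [not_exists, not_and] at hcon
  have hconj : ∀ g : ConjAct G, g • H ≤ M ∨ N ≤ g • H := by
    intro g
    by_cases h : g • H ≤ M
    · exact Or.inl h
    · refine Or.inr ?_
      by_contra h'
      refine hcon g h ?_
      have : Nat.card (g • H ⊓ N : Subgroup G) ∣ Nat.card N := Subgroup.card_dvd_of_le inf_le_right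
      rcases hN.eq_one_or_self_of_dvd _ this with h1 | h1
      · exact Subgroup.card_eq_one.1 h1
      · exact absurd (Subgroup.eq_of_le_of_card_ge inf_le_right h1.ge) (fun e => h' (e ▸ inf_le_left))
  -- every conjugate of `N` normalises `H`
  have hsub : Subgroup.normalClosure (N : Set G) ≤ Subgroup.normalizer (H : Set G) := by
    refine (Subgroup.closure_le _).2 ?_
    intro n' hn'
    obtain ⟨n, hn, hn'⟩ := Group.mem_conjugatesOfSet_iff.1 hn'
    obtain ⟨b, rfl⟩ := isConj_iff.1 hn'
    rcases hconj (ConjAct.toConjAct b⁻¹) with h | h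
    · have hc : ∀ x ∈ H, b * n * b⁻¹ * x = x * (b * n * b⁻¹) := by
        intro x hx
        have h1 := h (Subgroup.smul_mem_pointwise_smul x _ H hx)
        rw [ConjAct.smul_def, ConjAct.ofConjAct_toConjAct] at h1
        have h2 := hcen n hn _ h1
        have : b⁻¹ * x * b⁻¹⁻¹ = b⁻¹ * x * b := by group
        rw [this] at h2
        calc b * n * b⁻¹ * x = b * (n * (b⁻¹ * x * b)) * b⁻¹ := by group
          _ = b * ((b⁻¹ * x * b) * n) * b⁻¹ := by rw [h2]
          _ = x * (b * n * b⁻¹) := by group
      refine Subgroup.mem_normalizer_iff.2 fun x => ⟨fun hx => ?_, fun hx => ?_⟩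
      · have := hc x hx
        rw [this, mul_inv_cancel_right]; exact hx
      · have h3 := hc _ hx
        have : x = b * n * b⁻¹ * x * (b * n * b⁻¹)⁻¹ := by
          rw [inv_mul_cancel_right] at h3
          exact mul_left_cancel h3.symm
        rw [this]; exact hx
    · obtain ⟨x, hx, hxn⟩ := h hn
      simp only [MulDistribMulAction.toMonoidEnd_apply, MulDistribMulAction.toMonoidHom_apply,
        ConjAct.smul_def, ConjAct.ofConjAct_toConjAct] at hxn
      have : b * n * b⁻¹ = x := by rw [← hxn]; group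
      exact Subgroup.le_normalizer (this ▸ hx)
  rcases (Subgroup.normalClosure_normal (s := (N : Set G))).eq_bot_or_eq_top with h | h
  · exact hN.ne_one (Subgroup.card_eq_one.2 (le_bot_iff.1 (h ▸ Subgroup.le_normalClosure)))
  · have hHn : H.Normal := Subgroup.normalizer_eq_top_iff.1 (top_le_iff.1 (h ▸ hsub))
    rcases hHn.eq_bot_or_eq_top with h1 | h1
    · exact hbot h1
    · exact htop h1

end Cfsg.Agent.S5903
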