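import Cfsg.Statements.S5904
import Mathlib

set_option autoImplicit false
open scoped Pointwise
open Cfsg

namespace Cfsg.Agent.S5904

/-- Let Ω be a finite set with more than two elements and O ⊆ Ω a subset with exactly as many elements as its complement. Then the setwise stabilizer of O in the symmetric group on Ω is not a maximal subgroup (it is properly contained in the stabilizer of the partition {O, Ω ∖ O}, which is proper). -/
theorem result {Ω : Type*} [Fintype Ω] [DecidableEq Ω] (hΩ : 2 < Fintype.card Ω)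
    (O : Set Ω) (hO : Nat.card O = Nat.card ↥Oᶜ) :
    ¬ IsCoatom (MulAction.stabilizer (Equiv.Perm Ω) O) := by
  classical
  intro hco
  set W : Subgroup (Equiv.Perm Ω) :=
    { carrier := {g | g • O = O ∨ g • O = Oᶜ}
      one_mem' := Or.inl (one_smul _ _)
      mul_mem' := by
        intro g h hg hh
        have hg' : g • O = O ∧ g • Oᶜ = Oᶜ ∨ g • O = Oᶜ ∧ g • Oᶜ = O := by
          rcases hg with hg | hg
          · exact Or.inl ⟨hg, by rw [Set.smul_set_compl, hg]⟩
          · exact Or.inr ⟨hg, by rw [Set.smul_set_compl, hg, compl_compl]⟩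
        rcases hh with hh | hh <;> rcases hg' with ⟨a, b⟩ | ⟨a, b⟩ <;>
          simp [mul_smul, hh, a, b]
      inv_mem' := by
        intro g hg
        rcases hg with hg | hg
        · exact Or.inl (inv_smul_eq_iff.2 hg.symm)
        · refine Or.inr (inv_smul_eq_iff.2 ?_)
          rw [Set.smul_set_compl, hg, compl_compl] } with hW
  have hle : MulAction.stabilizer (Equiv.Perm Ω) O ≤ W := fun g hg => Or.inl hg
  have hcard : 2 * Nat.card O = Fintype.card Ω := by
    have := Set.ncard_add_ncard_compl O
    rw [← Nat.card_coe_set_eq, ← Nat.card_coe_set_eq, ← hO, Nat.card_eq_fintype_card] at this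
    simp only [Nat.card_eq_fintype_card] at this ⊢
    omega
  have h2 : 1 < O.ncard := by rw [← Nat.card_coe_set_eq]; omega
  obtain ⟨x, hx, x', hx', hne⟩ := (Set.one_lt_ncard_iff_nontrivial (s := O)).1 h2
  obtain ⟨y, hy⟩ : (Oᶜ : Set Ω).Nonempty := by
    rw [Set.nonempty_iff_ne_empty]
    intro h
    rw [h] at hO
    simp only [Nat.card_coe_set_eq, Set.ncard_empty] at hO
    omega
  have hlt : MulAction.stabilizer (Equiv.Perm Ω) O < W := by
    refine lt_of_le_of_ne hle fun heq => ?_
    obtain ⟨e⟩ : Nonempty (O ≃ ↥Oᶜ) := ⟨(Finite.card_eq.1 hO).some⟩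
    have hg : e.extendSubtype ∈ W := by
      refine Or.inr ?_
      refine Set.eq_of_subset_of_ncard_le ?_ ?_
      · rintro _ ⟨z, hz, rfl⟩
        exact Equiv.extendSubtype_mem e z hz
      · rw [Set.ncard_smul_set, ← Nat.card_coe_set_eq, ← Nat.card_coe_set_eq, hO]
    rw [← heq, MulAction.mem_stabilizer_iff] at hg
    have := Equiv.extendSubtype_mem e x hx
    have h3 : e.extendSubtype • x ∈ e.extendSubtype • O := Set.smul_mem_smul_set hx
    rw [hg] at h3
    exact this h3
  have htop := hco.2 W hlt
  have hs : Equiv.swap x y ∈ W := htop ▸ Subgroup.mem_top _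
  rcases hs with h | h
  · have : Equiv.swap x y x ∈ O := h ▸ Set.smul_mem_smul_set (a := Equiv.swap x y) hx
    rw [Equiv.swap_apply_left] at this
    exact hy this
  · have : Equiv.swap x y x' ∈ Oᶜ := h ▸ Set.smul_mem_smul_set (a := Equiv.swap x y) hx'
    rw [Equiv.swap_apply_of_ne_of_ne hne.symm (fun e' : x' = y => hy (e' ▸ hx'))] at this
    exact this hx'

end Cfsg.Agent.S5904
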