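import Cfsg.Statements.S5908
import Mathlib

set_option autoImplicit false
open Cfsg

namespace Cfsg.Agent.S5908

/-- The field with four elements as pairs `a + bω`. -/
structure Four where
  re : Bool
  im : Bool
deriving DecidableEq

instance fourFintype : Fintype Four :=
  Fintype.ofEquiv (Bool × Bool)
    { toFun := fun p => ⟨p.1, p.2⟩, invFun := fun x => (x.re, x.im),
      left_inv := fun _ => rfl, right_inv := fun _ => rfl }

instance fourZero : Zero Four := ⟨⟨false, false⟩⟩
instance fourOne : One Four := ⟨⟨true, false⟩⟩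
instance fourAdd : Add Four := ⟨fun x y => ⟨xor x.re y.re, xor x.im y.im⟩⟩
instance fourNeg : Neg Four := ⟨fun x => x⟩
instance fourMul : Mul Four := ⟨fun x y =>
  ⟨xor (x.re && y.re) (x.im && y.im), xor (xor (x.re && y.im) (x.im && y.re)) (x.im && y.im)⟩⟩

instance fourCommRing : CommRing Four where
  add_assoc := by decide +kernel
  zero_add := by decide +kernel
  add_zero := by decide +kernel
  add_comm := by decide +kernel
  neg_add_cancel := by decide +kernel
  mul_assoc := by decide +kernel
  one_mul := by decide +kernel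
  mul_one := by decide +kernel
  mul_comm := by decide +kernel
  left_distrib := by decide +kernel
  right_distrib := by decide +kernel
  zero_mul := by decide +kernel
  mul_zero := by decide +kernel
  nsmul := nsmulRec
  zsmul := zsmulRec

theorem four_isField : IsField Four :=
  ⟨⟨0, 1, by decide +kernel⟩, mul_comm, fun {a} => (by decide +kernel : ∀ a : Four, a ≠ 0 → ∃ b, a * b = 1) a⟩

/-- Columns. -/
abbrev Col := Four × Four × Four

/-- Hermitian product of columns. -/
def hcol (u v : Col) : Four := u.1 * (v.1 * v.1) + u.2.1 * (v.2.1 * v.2.1) + u.2.2 * (v.2.2 * v.2.2)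

/-- Matrix times column. -/
def app (a b c v : Col) : Col :=
  (a.1 * v.1 + b.1 * v.2.1 + c.1 * v.2.2, a.2.1 * v.1 + b.2.1 * v.2.1 + c.2.1 * v.2.2,
    a.2.2 * v.1 + b.2.2 * v.2.1 + c.2.2 * v.2.2)

/-- A column with at most one nonzero entry. -/
def single1 (u : Col) : Bool :=
  (decide (u.1 = 0) && decide (u.2.1 = 0)) || (decide (u.1 = 0) && decide (u.2.2 = 0)) ||
    (decide (u.2.1 = 0) && decide (u.2.2 = 0))

theorem enum : ∀ a : Col, hcol a a = 1 → ∀ b : Col, hcol b b = 1 → hcol a b = 0 →
    ∀ c : Col, hcol c c = 1 → hcol a c = 0 → hcol b c = 0 →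
    a.1 * b.2.1 * c.2.2 - a.1 * c.2.1 * b.2.2 - b.1 * a.2.1 * c.2.2 + b.1 * c.2.1 * a.2.2 +
      c.1 * a.2.1 * b.2.2 - c.1 * b.2.1 * a.2.2 = 1 →
    (single1 a && single1 b && single1 c) = false →
      (¬ ((app a b c a).2.1 = 0 ∧ (app a b c a).2.2 = 0 ∧ (app a b c b).1 = 0 ∧ (app a b c b).2.2 = 0 ∧
          (app a b c c).1 = 0 ∧ (app a b c c).2.1 = 0)) ∧
      ∃ z : Four, app a b c (app a b c (app a b c a)) = (z, 0, 0) ∧
        app a b c (app a b c (app a b c b)) = (0, z, 0) ∧
        app a b c (app a b c (app a b c c)) = (0, 0, z) := by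
  decide +kernel

section

variable {F : Type*} [Field F]

/-- Monomial matrices: at most one nonzero entry in each column. -/
def IsMono (A : Matrix (Fin 3) (Fin 3) F) : Prop := ∀ j, ∃ i, ∀ k, k ≠ i → A k j = 0

theorem isMono_mul {A B : Matrix (Fin 3) (Fin 3) F} (hA : IsMono A) (hB : IsMono B) : IsMono (A * B) := by
  intro j
  obtain ⟨l, hl⟩ := hB j
  obtain ⟨i, hi⟩ := hA l
  refine ⟨i, fun k hk => ?_⟩
  rw [Matrix.mul_apply, Finset.sum_eq_single l (fun m _ hm => by rw [hl m hm, mul_zero])
    (fun h => absurd (Finset.mem_univ l) h), hi k hk, zero_mul]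

theorem isMono_one : IsMono (1 : Matrix (Fin 3) (Fin 3) F) :=
  fun j => ⟨j, fun _ hk => Matrix.one_apply_ne hk⟩

theorem herm_cols {A : Matrix.SpecialLinearGroup (Fin 3) F} (hA : A ∈ Cfsg.SU 3 F 2) (i j : Fin 3) :
    ∑ k, (A : Matrix (Fin 3) (Fin 3) F) k i * (A : Matrix (Fin 3) (Fin 3) F) k j ^ 2 =
      if i = j then 1 else 0 := by
  have h := hA (Pi.single i 1) (Pi.single j 1)
  have hm : (Cfsg.slToMat 3 F A) = (A : Matrix (Fin 3) (Fin 3) F) := rfl
  rw [hm, Matrix.mulVec_single_one, Matrix.mulVec_single_one] at h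
  refine h.trans ?_
  rw [Cfsg.hermForm, Finset.sum_eq_single i (fun k _ hk => by simp [hk])
    (fun h => absurd (Finset.mem_univ i) h)]
  by_cases hij : i = j
  · subst hij; simp
  · simp [hij]

theorem mem_of_herm_cols [Fintype F] (hF : Fintype.card F = 4) (A : Matrix.SpecialLinearGroup (Fin 3) F)
    (h : ∀ i j : Fin 3, ∑ k, (A : Matrix (Fin 3) (Fin 3) F) k i * (A : Matrix (Fin 3) (Fin 3) F) k j ^ 2 =
      if i = j then 1 else 0) : A ∈ Cfsg.SU 3 F 2 := by
  haveI : Fact (Nat.Prime 2) := ⟨Nat.prime_two⟩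
  haveI : CharP F 2 := charP_of_card_eq_prime_pow (f := 2) (by rw [hF]; norm_num)
  intro u v
  have hm : (Cfsg.slToMat 3 F A) = (A : Matrix (Fin 3) (Fin 3) F) := rfl
  rw [hm]
  simp only [Cfsg.hermForm, Matrix.mulVec, dotProduct, sum_pow_char, mul_pow, Finset.sum_mul, Finset.mul_sum]
  rw [Finset.sum_comm]
  refine Finset.sum_congr rfl fun i _ => ?_
  rw [Finset.sum_comm]
  rw [Finset.sum_eq_single i]
  · have h1 := h i i
    rw [if_pos rfl] at h1
    calc _ = (∑ k, (A : Matrix (Fin 3) (Fin 3) F) k i * (A : Matrix (Fin 3) (Fin 3) F) k i ^ 2) * (u i * v i ^ 2) := by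
          rw [Finset.sum_mul]
          exact Finset.sum_congr rfl fun k _ => by ring
      _ = _ := by rw [h1, one_mul]
  · intro j _ hj
    have h1 := h j i
    rw [if_neg hj] at h1
    calc _ = (∑ k, (A : Matrix (Fin 3) (Fin 3) F) k j * (A : Matrix (Fin 3) (Fin 3) F) k i ^ 2) * (u j * v i ^ 2) := by
          rw [Finset.sum_mul]
          exact Finset.sum_congr rfl fun k _ => by ring
      _ = _ := by rw [h1, zero_mul]
  · exact fun h => absurd (Finset.mem_univ i) h

end


/-- The subgroup lattice of PSU₃(2) (the solvable group of order 72, realised over the field with 4 elements) is not complemented: some subgroup H has no subgroup X with H ⊔ X = ⊤ and H ⊓ X = ⊥. -/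
theorem result {F : Type*} [Field F] [Fintype F] (hF : Fintype.card F = 4) :
    ¬ ComplementedLattice (Subgroup (Cfsg.PSU 3 F 2)) := by
  classical
  letI : Field Four := four_isField.toField
  let φ : Four ≃+* F := FiniteField.ringEquivOfCardEq (by rw [hF]; rfl)
  let M : Subgroup (Cfsg.SU 3 F 2) :=
    { carrier := {g | IsMono ((g : Matrix.SpecialLinearGroup (Fin 3) F) : Matrix (Fin 3) (Fin 3) F)}
      one_mem' := by
        show IsMono _
        simpa using isMono_one (F := F)
      mul_mem' := fun {g h} hg hh => by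
        show IsMono _
        rw [Subgroup.coe_mul, Matrix.SpecialLinearGroup.coe_mul]
        exact isMono_mul hg hh
      inv_mem' := fun {g} hg => by
        have hp : ∀ m : ℕ, IsMono (((g ^ m : Cfsg.SU 3 F 2) : Matrix.SpecialLinearGroup (Fin 3) F) :
            Matrix (Fin 3) (Fin 3) F) := by
          intro m
          induction m with
          | zero => simpa using isMono_one (F := F)
          | succ m ih =>
            rw [pow_succ, Subgroup.coe_mul, Matrix.SpecialLinearGroup.coe_mul]
            exact isMono_mul ih hg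
        have hn : g⁻¹ = g ^ (orderOf g - 1) := by
          rw [inv_eq_iff_mul_eq_one, ← pow_succ', Nat.sub_add_cancel (orderOf_pos g), pow_orderOf_eq_one]
        show IsMono _
        rw [hn]; exact hp _ }
  set w : F := φ ⟨false, true⟩ with hw
  have hw3 : w * w ^ 2 = 1 := by rw [hw, ← map_pow, ← map_mul, ← map_one φ]; congr 1
  -- a diagonal element with distinct entries
  obtain ⟨D, hD⟩ : ∃ D : Cfsg.SU 3 F 2,
      ((D : Matrix.SpecialLinearGroup (Fin 3) F) : Matrix (Fin 3) (Fin 3) F) = Matrix.diagonal ![w, w ^ 2, 1] := by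
    have hdet : (Matrix.diagonal ![w, w ^ 2, 1]).det = 1 := by
      rw [Matrix.det_diagonal, Fin.prod_univ_three]; simpa using hw3
    refine ⟨⟨⟨_, hdet⟩, mem_of_herm_cols hF _ fun i j => ?_⟩, rfl⟩
    fin_cases i <;> fin_cases j <;> simp [Fin.sum_univ_three, Matrix.diagonal] <;>
      (first | exact hw3 | (rw [← pow_mul, mul_comm, ← pow_succ]; calc w ^ (2 * 2 + 1 + 1) = (w * w ^ 2) * (w * w ^ 2) := by ring
        _ = 1 := by rw [hw3, one_mul]) | skip)
    all_goals (calc _ = (w * w ^ 2) * (w * w ^ 2) := by ring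
                    _ = 1 := by rw [hw3, one_mul])
  have hcen : ∀ g ∈ Subgroup.center (Cfsg.SU 3 F 2), ∀ i j, i ≠ j →
      ((g : Matrix.SpecialLinearGroup (Fin 3) F) : Matrix (Fin 3) (Fin 3) F) i j = 0 := by
    intro g hg i j hij
    have h := congrArg (fun x : Cfsg.SU 3 F 2 => ((x : Matrix.SpecialLinearGroup (Fin 3) F) :
      Matrix (Fin 3) (Fin 3) F) i j) (Subgroup.mem_center_iff.1 hg D)
    simp only [Subgroup.coe_mul, Matrix.SpecialLinearGroup.coe_mul, hD, Matrix.diagonal_mul,
      Matrix.mul_diagonal] at h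
    by_contra h0
    have h' : (![w, w ^ 2, 1] : Fin 3 → F) i = ![w, w ^ 2, 1] j := by
      rw [mul_comm] at h; exact mul_left_cancel₀ h0 h
    have hd : ∀ k, (![w, w ^ 2, 1] : Fin 3 → F) k = φ ((![⟨false, true⟩, ⟨true, true⟩, 1] : Fin 3 → Four) k) := by
      intro k
      fin_cases k
      · rfl
      · show w ^ 2 = φ _
        rw [hw, ← map_pow]; congr 1
      · exact (map_one φ).symm
    rw [hd, hd] at h'
    exact (by decide +kernel : ∀ i j : Fin 3, i ≠ j →
      (![⟨false, true⟩, ⟨true, true⟩, 1] : Fin 3 → Four) i ≠ ![⟨false, true⟩, ⟨true, true⟩, 1] j) i j hij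
        (φ.injective h')
  have hkey : ∀ g : Cfsg.SU 3 F 2, g ∉ M → g ^ 2 ∉ Subgroup.center (Cfsg.SU 3 F 2) ∧
      g ^ 4 ∈ Subgroup.center (Cfsg.SU 3 F 2) := by
    intro g hg
    set A := ((g : Matrix.SpecialLinearGroup (Fin 3) F) : Matrix (Fin 3) (Fin 3) F) with hA
    let col : Fin 3 → Col := fun j => (φ.symm (A 0 j), φ.symm (A 1 j), φ.symm (A 2 j))
    have hh : ∀ i j, hcol (col i) (col j) = if i = j then 1 else 0 := by
      intro i j
      apply φ.injective
      have h := herm_cols g.2 i j
      rw [← hA, Fin.sum_univ_three] at h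
      simp only [hcol, col, ← pow_two, map_add, map_mul, map_pow, RingEquiv.apply_symm_apply]
      rw [h]
      split <;> simp
    have hs : (single1 (col 0) && single1 (col 1) && single1 (col 2)) = false := by
      rw [Bool.eq_false_iff]
      intro ht
      refine hg fun j => ?_
      have hj : single1 (col j) = true := by
        simp only [Bool.and_eq_true] at ht
        fin_cases j <;> simp [ht]
      simp only [single1, col, Bool.or_eq_true, Bool.and_eq_true, decide_eq_true_eq,
        map_eq_zero_iff _ φ.symm.injective] at hj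
      show ∃ i, ∀ k, k ≠ i → A k j = 0
      rcases hj with (⟨a, b⟩ | ⟨a, b⟩) | ⟨a, b⟩
      · exact ⟨2, fun k hk => by fin_cases k <;> simp_all⟩
      · exact ⟨1, fun k hk => by fin_cases k <;> simp_all⟩
      · exact ⟨0, fun k hk => by fin_cases k <;> simp_all⟩
    have hdet : (col 0).1 * (col 1).2.1 * (col 2).2.2 - (col 0).1 * (col 2).2.1 * (col 1).2.2
        - (col 1).1 * (col 0).2.1 * (col 2).2.2 + (col 1).1 * (col 2).2.1 * (col 0).2.2
        + (col 2).1 * (col 0).2.1 * (col 1).2.2 - (col 2).1 * (col 1).2.1 * (col 0).2.2 = 1 := by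
      apply φ.injective
      have h := (g : Matrix.SpecialLinearGroup (Fin 3) F).2
      rw [← hA, Matrix.det_fin_three] at h
      simp only [col, map_add, map_sub, map_mul, map_one, RingEquiv.apply_symm_apply]
      exact h
    obtain ⟨h2, z, hz0, hz1, hz2⟩ := enum (col 0) (hh 0 0) (col 1) (hh 1 1) (hh 0 1) (col 2) (hh 2 2)
      (hh 0 2) (hh 1 2) hdet hs
    let phi3 : Col → Fin 3 → F := fun v => ![φ v.1, φ v.2.1, φ v.2.2]
    have happ : ∀ v, phi3 (app (col 0) (col 1) (col 2) v) = A.mulVec (phi3 v) := by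
      intro v
      funext i
      fin_cases i <;> simp [phi3, app, col, Matrix.mulVec, dotProduct, Fin.sum_univ_three]
    have hcol' : ∀ j, phi3 (col j) = A.mulVec (Pi.single j 1) := by
      intro j
      rw [Matrix.mulVec_single_one]
      funext i
      fin_cases i <;> simp [phi3, col, Matrix.col]
    constructor
    · intro hc
      apply h2
      have hval : ∀ i j, i ≠ j → phi3 (app (col 0) (col 1) (col 2) (col j)) i = 0 := by
        intro i j hij
        rw [happ, hcol', Matrix.mulVec_mulVec, Matrix.mulVec_single_one]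
        have := hcen _ hc i j hij
        rw [pow_two, Subgroup.coe_mul, Matrix.SpecialLinearGroup.coe_mul] at this
        exact this
      have e10 := hval 1 0 (by decide)
      have e20 := hval 2 0 (by decide)
      have e01 := hval 0 1 (by decide)
      have e21 := hval 2 1 (by decide)
      have e02 := hval 0 2 (by decide)
      have e12 := hval 1 2 (by decide)
      simp [phi3] at e10 e20 e01 e21 e02 e12
      exact ⟨e10, e20, e01, e21, e02, e12⟩
    · rw [Subgroup.mem_center_iff]
      intro h
      have hA4 : (((g ^ 4 : Cfsg.SU 3 F 2) : Matrix.SpecialLinearGroup (Fin 3) F) : Matrix (Fin 3) (Fin 3) F)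
          = φ z • (1 : Matrix (Fin 3) (Fin 3) F) := by
        simp only [pow_succ, pow_zero, one_mul, Subgroup.coe_mul, Matrix.SpecialLinearGroup.coe_mul]
        ext i j
        have := congrFun (show (A * A * A * A).mulVec (Pi.single j 1) = φ z • (Pi.single j 1 : Fin 3 → F) by
          rw [← Matrix.mulVec_mulVec, ← Matrix.mulVec_mulVec, ← Matrix.mulVec_mulVec, ← hcol', ← happ, ← happ, ← happ]
          fin_cases j
          · simp only [Fin.zero_eta, hz0]; funext k; fin_cases k <;> simp [phi3]
          · simp only [Fin.mk_one, hz1]; funext k; fin_cases k <;> simp [phi3]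
          · simp only [Fin.reduceFinMk, hz2]; funext k; fin_cases k <;> simp [phi3]) i
        rw [Matrix.mulVec_single_one] at this
        simpa [Matrix.col, Matrix.one_apply, Pi.single_apply] using this
      apply Subtype.ext
      apply Subtype.ext
      simp only [Subgroup.coe_mul, Matrix.SpecialLinearGroup.coe_mul, hA4, Matrix.mul_smul, Matrix.smul_mul,
        mul_one, one_mul]
  -- a non-monomial element
  obtain ⟨g₀, hg₀⟩ : ∃ g₀ : Cfsg.SU 3 F 2, g₀ ∉ M := by
    let R : Matrix (Fin 3) (Fin 3) F := (Matrix.of ![![(⟨true, false⟩ : Four), ⟨true, false⟩, ⟨true, false⟩],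
      ![⟨true, false⟩, ⟨false, true⟩, ⟨true, true⟩], ![⟨true, false⟩, ⟨true, true⟩, ⟨false, true⟩]]).map φ
    have hdet : R.det = 1 := by
      simp only [R, Matrix.det_fin_three, Matrix.map_apply, ← map_mul, ← map_sub, ← map_add]
      rw [← map_one φ]; congr 1
    refine ⟨⟨⟨R, hdet⟩, mem_of_herm_cols hF _ fun i j => ?_⟩, fun h => ?_⟩
    · simp only [R, Fin.sum_univ_three, Matrix.map_apply, ← map_mul, ← map_add, ← map_pow]
      rw [show (if i = j then (1 : F) else 0) = φ (if i = j then 1 else 0) by split <;> simp]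
      congr 1
      revert i j
      decide +kernel
    · obtain ⟨i, hi⟩ := h 0
      obtain ⟨k, hk⟩ : ∃ k, k ≠ i := exists_ne i
      have := hi k hk
      revert this
      simp only [R, Matrix.map_apply, map_eq_zero_iff _ φ.injective]
      clear hi h
      revert k i
      decide +kernel
  intro hcl
  set mk := QuotientGroup.mk' (Subgroup.center (Cfsg.SU 3 F 2)) with hmk
  obtain ⟨X, hX⟩ := exists_isCompl (M.map mk)
  have hZM : mk.ker ≤ M := by
    rw [hmk, QuotientGroup.ker_mk']
    exact fun g hg j => ⟨j, fun k hk => hcen g hg k j hk⟩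
  have hne : M.map mk ≠ ⊤ := fun h => hg₀ (by
    rw [← Subgroup.comap_map_eq_self hZM, h, Subgroup.comap_top]; exact Subgroup.mem_top _)
  refine hne ?_
  have hX0 : X = ⊥ := by
    by_contra hX0
    haveI : Nontrivial X := (Subgroup.nontrivial_iff_ne_bot X).2 hX0
    obtain ⟨p, hp, hpX⟩ := Nat.exists_prime_and_dvd (Finite.one_lt_card (α := X)).ne'
    haveI : Fact p.Prime := ⟨hp⟩
    obtain ⟨y, hy⟩ := exists_prime_orderOf_dvd_card' (G := X) p hpX
    obtain ⟨g, hg⟩ := QuotientGroup.mk'_surjective (Subgroup.center (Cfsg.SU 3 F 2)) (y : Cfsg.PSU 3 F 2)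
    have hord : orderOf (mk g) = p := by
      rw [hmk, hg, ← hy]
      exact orderOf_submonoid (H := X.toSubmonoid) y
    have hgM : g ∈ M := by
      by_contra hgM
      obtain ⟨h2, h4⟩ := hkey g hgM
      have hd : p ∣ 4 := by
        rw [← hord]
        refine orderOf_dvd_of_pow_eq_one ?_
        rw [← map_pow, hmk]; exact (QuotientGroup.eq_one_iff _).2 h4
      have h22 : p = 2 := by
        have : p ∣ 2 := hp.dvd_of_dvd_pow (show p ∣ 2 ^ 2 from hd)
        exact (Nat.prime_dvd_prime_iff_eq hp Nat.prime_two).1 this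
      apply h2
      refine (QuotientGroup.eq_one_iff _).1 ?_
      have := pow_orderOf_eq_one (mk g)
      rw [hord, h22, ← map_pow] at this
      exact this
    have : (y : Cfsg.PSU 3 F 2) ∈ M.map mk ⊓ X := ⟨⟨g, hgM, hg⟩, y.2⟩
    rw [hX.inf_eq_bot, Subgroup.mem_bot] at this
    rw [OneMemClass.coe_eq_one] at this
    rw [this, orderOf_one] at hy
    exact hp.ne_one hy.symm
  have := hX.sup_eq_top
  rwa [hX0, sup_bot_eq] at this

end Cfsg.Agent.S5908
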