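import Cfsg.Statements.S5910
import Mathlib
import Cfsg.Agent.Lib.Partition.Maximal

set_option autoImplicit false
open Cfsg

namespace Cfsg.Agent.S5910

/-- Addition in the eight-point affine space. -/
def add8 (x y : Fin 4 × Fin 2) : Fin 4 × Fin 2 := (x.1 ^^^ y.1, x.2 + y.2)

theorem add8_cancel : ∀ a b c o : Fin 4 × Fin 2,
    add8 (add8 (add8 (add8 a b) o) c) o = add8 (add8 a b) c := by decide +kernel

theorem blocks_affine : ∀ (σ : Equiv.Perm (Fin 4)) (ε : Fin 4 → Fin 2),
    (∏ i, Equiv.Perm.sign (Equiv.addRight (ε i))) = 1 → ∀ x y : Fin 4 × Fin 2,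
      (σ (add8 x y).1, (add8 x y).2 + ε (add8 x y).1) =
        add8 (add8 (σ x.1, x.2 + ε x.1) (σ y.1, y.2 + ε y.1)) (σ 0, 0 + ε 0) := by
  decide +kernel

/-- An affine map of the eight-point space. -/
def IsAff (g : Equiv.Perm (Fin 4 × Fin 2)) : Prop :=
  ∀ x y z, g (add8 (add8 x y) z) = add8 (add8 (g x) (g y)) (g z)

theorem isAff_of_blocks (g : Equiv.Perm (Fin 4 × Fin 2)) (hs : Equiv.Perm.sign g = 1)
    (hg : ∀ x y : Fin 4 × Fin 2, x.1 = y.1 ↔ (g x).1 = (g y).1) : IsAff g := by
  let σ : Equiv.Perm (Fin 4) := Equiv.ofBijective (fun i => (g (i, 0)).1)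
    (Finite.injective_iff_bijective.1 fun i j h => (hg (i, 0) (j, 0)).2 h)
  let ε : Fin 4 → Fin 2 := fun i => (g (i, 0)).2
  have h2 : ∀ a b : Fin 2, a ≠ b → b = 1 + a := by decide
  have hform : ∀ x : Fin 4 × Fin 2, g x = (σ x.1, x.2 + ε x.1) := by
    rintro ⟨i, e⟩
    have h1 : (g (i, e)).1 = σ i := ((hg (i, e) (i, 0)).1 rfl)
    refine Prod.ext h1 ?_
    rcases (by decide : ∀ e : Fin 2, e = 0 ∨ e = 1) e with rfl | rfl
    · exact (zero_add _).symm
    · refine h2 (ε i) _ fun he => ?_
      have h01 := congrArg Prod.snd (g.injective (a₁ := (i, 0)) (a₂ := (i, 1)) (Prod.ext h1.symm he))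
      exact absurd h01 (by decide : (0 : Fin 2) ≠ 1)
  have hdec : g = Equiv.prodCongrLeft (fun _ : Fin 2 => σ) *
      Equiv.prodCongrRight (fun i => Equiv.addRight (ε i)) := by
    refine Equiv.ext fun x => ?_
    rw [hform x]
    rfl
  have hprod : (∏ i, Equiv.Perm.sign (Equiv.addRight (ε i))) = 1 := by
    rw [hdec, map_mul, Equiv.Perm.sign_prodCongrLeft, Equiv.Perm.sign_prodCongrRight,
      Fin.prod_univ_two, Int.units_mul_self, one_mul] at hs
    exact hs
  intro x y z
  have key := blocks_affine σ ε hprod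
  have h3 : ∀ x y, g (add8 x y) = add8 (add8 (g x) (g y)) (g (0, 0)) := by
    intro x y
    rw [hform, hform x, hform y, hform (0, 0)]
    exact key x y
  rw [h3, h3, add8_cancel]


/-- Let Ω be a set with 8 elements and f : Ω → Fin 4 a labelling whose four fibres all have size 2 (a partition of the 8 points into 4 pairs). Then the group of even permutations preserving this partition, (S₂ ≀ S₄) ∩ A₈, is not a maximal subgroup of the alternating group A₈ (it lies in a subgroup isomorphic to the affine group AGL₃(2)). -/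
theorem result {Ω : Type*} [Fintype Ω] [DecidableEq Ω] (h8 : Fintype.card Ω = 8)
    (f : Ω → Fin 4) (hf : ∀ i : Fin 4, Nat.card {x : Ω // f x = i} = 2) :
    ¬ IsCoatom ((Subgroup.closure {g : Equiv.Perm Ω | ∀ x y : Ω, f x = f y ↔ f (g x) = f (g y)} ⊓ alternatingGroup Ω).subgroupOf (alternatingGroup Ω)) := by
  rw [Lib.Partition.closure_eq]
  let e : Ω ≃ Fin 4 × Fin 2 := (Equiv.sigmaFiberEquiv f).symm.trans
    ((Equiv.sigmaCongrRight fun i => Fintype.equivFinOfCardEq
      (by rw [← Nat.card_eq_fintype_card, hf i])).trans (Equiv.sigmaEquivProd _ _))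
  have he : ∀ z, (e z).1 = f z := fun z => rfl
  have hfs : ∀ y, f (e.symm y) = y.1 := fun y => by rw [← he, e.apply_symm_apply]
  let π : Equiv.Perm Ω →* Equiv.Perm (Fin 4 × Fin 2) := (Equiv.permCongrHom e).toMonoidHom
  have hπs : ∀ g, Equiv.Perm.sign (π g) = Equiv.Perm.sign g := fun g => Equiv.Perm.sign_permCongr e g
  have hπi : ∀ g x, π g x = e (g (e.symm x)) := fun g x => rfl
  let K : Subgroup (alternatingGroup Ω) :=
    { carrier := {g | IsAff (π g)}
      one_mem' := by intro x y z; simp [hπi]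
      mul_mem' := by
        intro g h hg hh x y z
        simp only [Subgroup.coe_mul, map_mul, Equiv.Perm.mul_apply]
        rw [hh, hg]
      inv_mem' := by
        intro g hg x y z
        simp only [Subgroup.coe_inv, map_inv]
        refine (π (g : Equiv.Perm Ω)).injective ?_
        rw [hg]
        simp only [Equiv.Perm.inv_def, Equiv.apply_symm_apply] }
  have hle : ((Lib.Partition.partStab f ⊓ alternatingGroup Ω).subgroupOf (alternatingGroup Ω)) ≤ K := by
    intro g hg
    refine isAff_of_blocks _ ((hπs _).trans (Equiv.Perm.mem_alternatingGroup.1 g.2)) fun x y => ?_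
    have := hg.1 (e.symm x) (e.symm y)
    rw [hfs, hfs] at this
    rw [hπi, hπi, he, he]
    exact this
  let lift : (p : Equiv.Perm (Fin 4 × Fin 2)) → Equiv.Perm.sign p = 1 → alternatingGroup Ω := fun p hp =>
    ⟨e.symm.permCongr p, Equiv.Perm.mem_alternatingGroup.2 (by rw [Equiv.Perm.sign_permCongr, hp])⟩
  have hlift : ∀ p hp, π (lift p hp : Equiv.Perm Ω) = p := fun p hp => by
    ext x <;> simp [hπi, lift, Equiv.permCongr_apply]
  intro hco
  let t : Equiv.Perm (Fin 4 × Fin 2) := Equiv.swap ((0 : Fin 4), (1 : Fin 2)) (1, 1) * Equiv.swap (2, 1) (3, 1)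
  let c : Equiv.Perm (Fin 4 × Fin 2) := Equiv.swap ((0 : Fin 4), (0 : Fin 2)) (1, 0) * Equiv.swap (0, 0) (2, 0)
  have ht : Equiv.Perm.sign t = 1 := by decide +kernel
  have hc : Equiv.Perm.sign c = 1 := by decide +kernel
  have htA : IsAff t := by unfold IsAff; decide +kernel
  have hcA : ¬ IsAff c := by unfold IsAff; decide +kernel
  have htK : lift t ht ∈ K := by show IsAff (π _); rw [hlift t ht]; exact htA
  have hcK : lift c hc ∉ K := by show ¬ IsAff (π _); rw [hlift c hc]; exact hcA
  have htW : lift t ht ∉ (Lib.Partition.partStab f ⊓ alternatingGroup Ω).subgroupOf (alternatingGroup Ω) := by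
    intro h
    have h1 : f (e.symm ((0 : Fin 4), (0 : Fin 2))) = f (e.symm (0, 1)) := by rw [hfs, hfs]
    have h2 := (h.1 _ _).1 h1
    have hval : ∀ y, f ((lift t ht : Equiv.Perm Ω) (e.symm y)) = (t y).1 := fun y => by
      simp [lift, Equiv.permCongr_apply, hfs]
    change f ((lift t ht : Equiv.Perm Ω) _) = f ((lift t ht : Equiv.Perm Ω) _) at h2
    rw [hval, hval] at h2
    revert h2; decide +kernel
  have := hco.2 K (lt_of_le_of_ne hle fun h => htW (h ▸ htK))
  exact hcK (this ▸ Subgroup.mem_top _)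

end Cfsg.Agent.S5910
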