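import Cfsg.Statements.S5911
import Mathlib
import Cfsg.Agent.Lib.SymAut.SmallIndex

set_option autoImplicit false
open Cfsg

namespace Cfsg.Agent.S5911

/-- Let Ω be a finite set whose size n is not 6. Then every subgroup of the symmetric group on Ω of index n is the stabilizer of a point. -/
theorem result {Ω : Type*} [Fintype Ω] [DecidableEq Ω] (h6 : Fintype.card Ω ≠ 6)
    (H : Subgroup (Equiv.Perm Ω)) (hH : H.index = Fintype.card Ω) :
    ∃ x : Ω, H = MulAction.stabilizer (Equiv.Perm Ω) x := by
  classical
  rw [← Nat.card_eq_fintype_card] at h6 hH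
  by_cases h5 : 5 ≤ Nat.card Ω
  · exact Lib.SymAut.eq_stabilizer_of_index_eq h5 h6 H hH
  have h0 : Nat.card Ω ≠ 0 := hH ▸ H.index_ne_zero_of_finite
  haveI : Nonempty Ω := Finite.card_pos_iff.1 (by omega)
  obtain ⟨x, hx⟩ : ∃ x : Ω, H ≤ MulAction.stabilizer (Equiv.Perm Ω) x := by
    have hmul := H.card_mul_index
    rw [hH, Nat.card_perm] at hmul
    by_cases h12 : Nat.card Ω ≤ 2
    · have : Nat.card H = 1 := by
        rcases (by omega : Nat.card Ω = 1 ∨ Nat.card Ω = 2) with h | h <;> rw [h] at hmul <;>
          simp only [Nat.factorial_succ, Nat.factorial_zero, Nat.factorial_one, Nat.factorial_two] at hmul <;>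
          omega
      exact ⟨Classical.arbitrary Ω, (Subgroup.card_eq_one.1 this) ▸ bot_le⟩
    · obtain ⟨q, hq, hqn, hqH, hqi⟩ : ∃ q : ℕ, q.Prime ∧ q + 1 = Nat.card Ω ∧ q ∣ Nat.card H ∧
          (Nat.card H = q ∨ Nat.card H = 2 * q) := by
        rcases (by omega : Nat.card Ω = 3 ∨ Nat.card Ω = 4) with h | h
        · rw [h] at hmul ⊢
          rw [show Nat.factorial 3 = 6 by decide] at hmul
          have hc : Nat.card H = 2 := by omega
          exact ⟨2, Nat.prime_two, rfl, hc ▸ dvd_rfl, Or.inl hc⟩
        · rw [h] at hmul ⊢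
          rw [show Nat.factorial 4 = 24 by decide] at hmul
          have hc : Nat.card H = 6 := by omega
          exact ⟨3, Nat.prime_three, rfl, hc ▸ (by norm_num), Or.inr hc⟩
      haveI : Fact q.Prime := ⟨hq⟩
      obtain ⟨g, hg⟩ := exists_prime_orderOf_dvd_card' (G := H) q hqH
      set σ : Equiv.Perm Ω := (g : Equiv.Perm Ω) with hσdef
      have hσ : orderOf σ = q := by rw [hσdef, orderOf_submonoid (H := H.toSubmonoid) g]; exact hg
      have hle : Fintype.card Ω ≤ 4 := by rw [← Nat.card_eq_fintype_card]; omega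
      have hsupp : σ.support.card = q := by
        obtain ⟨m, hm⟩ := Equiv.Perm.cycleType_prime_order (hσ ▸ hq)
        have h1 := σ.sum_cycleType
        rw [hm, hσ, Multiset.sum_replicate, smul_eq_mul] at h1
        have := σ.support.card_le_univ
        rw [← Nat.card_eq_fintype_card] at this
        have hq2 := hq.two_le
        rcases Nat.eq_zero_or_pos m with h | h
        · rw [← h1, h, zero_add, one_mul]
        · have : 2 * q ≤ (m + 1) * q := Nat.mul_le_mul_right q (by omega)
          omega
      obtain ⟨x, hx⟩ := Finset.card_eq_one.1 (show (σ.supportᶜ).card = 1 by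
        rw [Finset.card_compl, hsupp, ← Nat.card_eq_fintype_card]; omega)
      have hxfix : ∀ y, σ y = y ↔ y = x := fun y => by
        rw [← Equiv.Perm.notMem_support, ← Finset.mem_compl, hx, Finset.mem_singleton]
      have hnorm : (Subgroup.zpowers g).Normal := by
        have hcard : Nat.card (Subgroup.zpowers g) = q := by rw [Nat.card_zpowers, hg]
        rcases hqi with h | h
        · rw [Subgroup.eq_top_of_card_eq _ (hcard.trans h.symm)]; infer_instance
        · refine Subgroup.normal_of_index_eq_two ?_
          have := (Subgroup.zpowers g).card_mul_index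
          rw [hcard, h] at this
          nlinarith [hq.pos]
      refine ⟨x, fun k hk => ?_⟩
      have hmem := hnorm.conj_mem g (Subgroup.mem_zpowers g) (⟨k, hk⟩⁻¹)
      rw [inv_inv] at hmem
      obtain ⟨j, hj⟩ := hmem
      have hfix : (σ ^ j) x = x := Equiv.Perm.zpow_apply_eq_self_of_apply_eq_self ((hxfix x).2 rfl) j
      have he : σ ^ j = k⁻¹ * σ * k := by
        have := congrArg Subtype.val hj
        simpa using this
      rw [he] at hfix
      simp only [Equiv.Perm.mul_apply] at hfix
      exact (hxfix (k x)).1 (by simpa using congrArg k hfix)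
  refine ⟨x, Subgroup.eq_of_le_of_card_ge hx ?_⟩
  have h1 := H.card_mul_index
  have h2 := (MulAction.stabilizer (Equiv.Perm Ω) x).card_mul_index
  rw [MulAction.index_stabilizer_of_transitive] at h2
  rw [hH] at h1
  exact (Nat.eq_of_mul_eq_mul_right (Nat.pos_of_ne_zero h0) (h2.trans h1.symm)).le

end Cfsg.Agent.S5911
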