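import Cfsg.Statements.S5912
import Mathlib
import Cfsg.Agent.Lib.SymAut.SixPoints

set_option autoImplicit false
open Cfsg

namespace Cfsg.Agent.S5912

/-- The symmetric group on a 6-element set Ω has exactly two conjugacy classes of subgroups of index 6: there are two non-conjugate subgroups of index 6 (a point stabilizer and a transitive subgroup isomorphic to S₅), and every subgroup of index 6 is conjugate to one of them. -/
theorem result {Ω : Type*} [Fintype Ω] [DecidableEq Ω] (h6 : Fintype.card Ω = 6) :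
    ∃ H₁ H₂ : Subgroup (Equiv.Perm Ω), H₁.index = 6 ∧ H₂.index = 6 ∧
      (¬ ∃ g : Equiv.Perm Ω, Subgroup.map (MulAut.conj g).toMonoidHom H₁ = H₂) ∧
      ∀ H : Subgroup (Equiv.Perm Ω), H.index = 6 →
        ∃ g : Equiv.Perm Ω, Subgroup.map (MulAut.conj g).toMonoidHom H₁ = H ∨ Subgroup.map (MulAut.conj g).toMonoidHom H₂ = H := by
  classical
  rw [← Nat.card_eq_fintype_card] at h6
  obtain ⟨ψ, hno, hall⟩ := Lib.SymAut.exists_outer h6
  haveI : Nonempty Ω := Finite.card_pos_iff.1 (by omega)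
  let x0 : Ω := Classical.arbitrary Ω
  refine ⟨MulAction.stabilizer (Equiv.Perm Ω) x0, (MulAction.stabilizer (Equiv.Perm Ω) x0).map ψ.toMonoidHom,
    ?_, ?_, ?_, ?_⟩
  · rw [MulAction.index_stabilizer_of_transitive, h6]
  · rw [Lib.SymAut.index_map_stabilizer, h6]
  · rintro ⟨g, hg⟩
    refine hno x0 (g • x0) ?_
    rw [MulAction.stabilizer_smul_eq_stabilizer_map_conj, ← hg]
  · intro H hH
    obtain ⟨x, hx | hx⟩ := hall H hH
    · obtain ⟨g, hg⟩ := MulAction.exists_smul_eq (Equiv.Perm Ω) x0 x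
      exact ⟨g, Or.inl (by rw [hx, ← hg, MulAction.stabilizer_smul_eq_stabilizer_map_conj])⟩
    · obtain ⟨g, hg⟩ := MulAction.exists_smul_eq (Equiv.Perm Ω) x0 x
      refine ⟨ψ g, Or.inr ?_⟩
      rw [hx, ← hg, MulAction.stabilizer_smul_eq_stabilizer_map_conj, Subgroup.map_map, Subgroup.map_map]
      congr 1
      ext σ
      simp

end Cfsg.Agent.S5912
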