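import Cfsg.Statements.S5938
import Mathlib
import Cfsg.Agent.Lib.SL2.Overgroup
-- import your own Cfsg.Agent.* helpers here

set_option autoImplicit false
open Cfsg

namespace Cfsg.Agent.S5938

open Cfsg.Agent.Lib.SL2

/-- Let p be a prime with p ≡ ±1 (mod 8) and F a field with p elements. Then PSL_2(F) has a maximal subgroup isomorphic to the symmetric group S_4. -/
theorem result {F : Type*} [Field F] [Fintype F] (p : ℕ) [Fact p.Prime] (hF : Fintype.card F = p) (hp : p % 8 = 1 ∨ p % 8 = 7) : ∃ H : Subgroup (Matrix.ProjectiveSpecialLinearGroup (Fin 2) F), IsCoatom H ∧ Nonempty (H ≃* Equiv.Perm (Fin 4)) := by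
  classical
  subst hF
  have hch : CharP F (Fintype.card F) := charP_of_prime_card
  obtain ⟨H, ⟨e⟩⟩ := exists_S4 (F := F) hp
  have hp0 : (Fintype.card F).Prime := Fact.out
  obtain ⟨a, b, hab⟩ := S4_pairs.1
  obtain ⟨c, d, hcd⟩ := S4_pairs.2
  obtain ⟨hdih, hbor⟩ := pairs_of_iso e hab Nat.prime_two (by omega) hp0 hcd
  have hc : Nat.card H = 24 := (Nat.card_congr e.toEquiv).trans natCard_S4
  refine ⟨H, isCoatom_of_card ?_ ?_, ⟨e⟩⟩
  · have hG : Nat.card (PSLtwo F) * Nat.gcd 2 (Fintype.card F - 1) = _ := card_PSL_mul (F := F)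
    rw [Nat.gcd_eq_left (by omega)] at hG
    have h7 : 7 ≤ Fintype.card F := by
      have := hp0.two_le
      rcases hp with h | h <;> omega
    have h2 : 48 ≤ Fintype.card F ^ 2 - 1 := by
      have : 7 ^ 2 ≤ Fintype.card F ^ 2 := Nat.pow_le_pow_left h7 2
      omega
    have h3 := Nat.mul_le_mul h7 h2
    omega
  intro M hle hM
  have hd := Subgroup.card_dvd_of_le hle
  rw [hc] at hd ⊢
  have hpos := Nat.le_of_dvd Nat.card_pos hd
  rcases smallOrSubfield_of_comm (Fintype.card F) hle hM hdih hbor with h | ⟨K1, m, -, hm, hm', -⟩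
  · rcases card_small h with e | e | e <;> omega
  · exact absurd (hm' ▸ hp0) (Nat.Prime.not_prime_pow hm)

end Cfsg.Agent.S5938
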