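import Cfsg.Statements.S5939
import Mathlib
import Cfsg.Agent.Lib.SL2.Overgroup
import Cfsg.Agent.S0804
-- import your own Cfsg.Agent.* helpers here

set_option autoImplicit false
open Cfsg

namespace Cfsg.Agent.S5939

open Cfsg.Agent.Lib.SL2

/-- Let p be a prime and F a finite field of characteristic p such that either F has p elements and p ≡ ±1 (mod 10), or F has p² elements and p ≡ ±3 (mod 10). Then PSL_2(F) has a maximal subgroup isomorphic to the alternating group A_5. -/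
theorem result {F : Type*} [Field F] [Fintype F] (p : ℕ) [Fact p.Prime] [CharP F p] (h : (Fintype.card F = p ∧ (p % 10 = 1 ∨ p % 10 = 9)) ∨ (Fintype.card F = p ^ 2 ∧ (p % 10 = 3 ∨ p % 10 = 7))) : ∃ H : Subgroup (Matrix.ProjectiveSpecialLinearGroup (Fin 2) F), IsCoatom H ∧ Nonempty (H ≃* alternatingGroup (Fin 5)) := by
  classical
  have hp0 : p.Prime := Fact.out
  have hp7 : p ≠ 2 ∧ p ≠ 5 := by omega
  have h5q : 5 ∣ Fintype.card F * (Fintype.card F ^ 2 - 1) := by
    refine Dvd.dvd.mul_left ?_ _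
    obtain ⟨t, r, hr, ht⟩ : ∃ t r, (r = 1 ∨ r = 9) ∧ Fintype.card F = 10 * t + r := by
      refine ⟨Fintype.card F / 10, Fintype.card F % 10, ?_, (Nat.div_add_mod _ _).symm⟩
      rcases h with ⟨e, h⟩ | ⟨e, h | h⟩ <;> rw [e] <;>
        first
          | exact h
          | (rw [sq, Nat.mul_mod, h]; omega)
    rw [ht]
    rcases hr with rfl | rfl
    · exact ⟨20 * t * t + 4 * t, Nat.sub_eq_of_eq_add (by ring)⟩
    · exact ⟨20 * t * t + 36 * t + 16, Nat.sub_eq_of_eq_add (by ring)⟩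
  obtain ⟨H, ⟨e⟩⟩ := (Cfsg.Agent.S0804.result rfl).2 h5q
  obtain ⟨a, b, hab⟩ := A5_pairs.1
  obtain ⟨c, d, hcd⟩ := A5_pairs.2
  obtain ⟨hdih, hbor⟩ := pairs_of_iso e hab Nat.prime_two hp7.1.symm hp0 hcd
  have hc : Nat.card H = 60 := (Nat.card_congr e.toEquiv).trans natCard_A5
  have hq9 : 9 ≤ Fintype.card F := by
    rcases h with ⟨e, h⟩ | ⟨e, h⟩
    · have := hp0.two_le; omega
    · have h3 : 3 ≤ p := by omega
      have : 3 ^ 2 ≤ p ^ 2 := Nat.pow_le_pow_left h3 2
      omega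
  have hG : Nat.card (PSLtwo F) * Nat.gcd 2 (Fintype.card F - 1) = _ := card_PSL_mul (F := F)
  refine ⟨H, isCoatom_of_card ?_ ?_, ⟨e⟩⟩
  · have hd2 : Nat.gcd 2 (Fintype.card F - 1) ≤ 2 := Nat.gcd_le_left _ two_pos
    have h2 : 80 ≤ Fintype.card F ^ 2 - 1 := by
      have : 9 ^ 2 ≤ Fintype.card F ^ 2 := Nat.pow_le_pow_left hq9 2
      omega
    have h3 := Nat.mul_le_mul hq9 h2
    have h4 := Nat.mul_le_mul_left (Nat.card (PSLtwo F)) hd2
    show Nat.card H < Nat.card (PSLtwo F)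
    rw [hc]
    omega
  intro M hle hM
  have hd := Subgroup.card_dvd_of_le hle
  rw [hc] at hd ⊢
  rcases smallOrSubfield_of_comm p hle hM hdih hbor with hs | ⟨K1, m, hK1, hm, hm', hcase⟩
  · rcases card_small hs with e | e | e <;> omega
  · exfalso
    rcases h with ⟨e, h⟩ | ⟨e, h⟩
    · exact absurd ((e ▸ hm').symm ▸ hp0) (Nat.Prime.not_prime_pow hm)
    · obtain ⟨b, -, hkb⟩ := (Nat.dvd_prime_pow hp0).1 (show Nat.card K1 ∣ p ^ 2 from
        e ▸ hm' ▸ dvd_pow_self _ (by omega))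
      have hb : b = 1 := by
        rw [hkb, e, ← pow_mul] at hm'
        have := Nat.pow_right_injective hp0.two_le hm'
        rcases b with _ | _ | b
        · simp at this
        · rfl
        · nlinarith
      rw [hkb, hb, pow_one] at hcase
      have h5 : 5 ∣ p * (p ^ 2 - 1) := by
        refine ((Dvd.intro 12 rfl : 5 ∣ 60).trans hd).trans ?_
        rcases hcase with e' | e' <;> rw [e']
        refine Nat.div_dvd_of_dvd ((Nat.gcd_dvd_right _ _).trans (Dvd.dvd.mul_left ?_ _))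
        simpa using Nat.sub_one_dvd_pow_sub_one p 2
      rcases Nat.prime_five.dvd_mul.1 h5 with h' | h'
      · exact hp7.2 ((Nat.prime_dvd_prime_iff_eq Nat.prime_five hp0).1 h').symm
      · obtain ⟨t, r, hr, ht⟩ : ∃ t r, (r = 3 ∨ r = 7) ∧ p = 10 * t + r :=
          ⟨p / 10, p % 10, h, (Nat.div_add_mod _ _).symm⟩
        obtain ⟨u, hu⟩ := h'
        have h1 : 1 ≤ p ^ 2 := Nat.one_le_pow _ _ hp0.pos
        rw [ht, show (10 * t + r) ^ 2 = 5 * (20 * t * t + 4 * t * r) + r ^ 2 by ring] at hu h1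
        rcases hr with rfl | rfl <;> omega

end Cfsg.Agent.S5939
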