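import Cfsg.Statements.S5940
import Mathlib
import Cfsg.Agent.Lib.SL2.Overgroup
-- import your own Cfsg.Agent.* helpers here

set_option autoImplicit false
open Cfsg

namespace Cfsg.Agent.S5940

open Cfsg.Agent.Lib.SL2

/-- Let p ≥ 5 be a prime with p ≡ ±3 (mod 8) and p ≢ ±1 (mod 10), and F a field with p elements. Then PSL_2(F) has a maximal subgroup isomorphic to the alternating group A_4. -/
theorem result {F : Type*} [Field F] [Fintype F] (p : ℕ) [Fact p.Prime] (hF : Fintype.card F = p) (h5 : 5 ≤ p) (h8 : p % 8 = 3 ∨ p % 8 = 5) (h10 : p % 10 ≠ 1 ∧ p % 10 ≠ 9) : ∃ H : Subgroup (Matrix.ProjectiveSpecialLinearGroup (Fin 2) F), IsCoatom H ∧ Nonempty (H ≃* alternatingGroup (Fin 4)) := by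
  classical
  subst hF
  have hch : CharP F (Fintype.card F) := charP_of_prime_card
  obtain ⟨H, ⟨e⟩⟩ := exists_A4_odd (F := F) (by omega)
  have hp0 : (Fintype.card F).Prime := Fact.out
  obtain ⟨a, b, hab⟩ := A4_pairs.1
  obtain ⟨c, d, hcd⟩ := A4_pairs.2
  obtain ⟨hdih, hbor⟩ := pairs_of_iso e hab Nat.prime_two (by omega) hp0 hcd
  have hc : Nat.card H = 12 := (Nat.card_congr e.toEquiv).trans natCard_A4
  have hG : Nat.card (PSLtwo F) * Nat.gcd 2 (Fintype.card F - 1) = _ := card_PSL_mul (F := F)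
  rw [Nat.gcd_eq_left (by omega)] at hG
  refine ⟨H, isCoatom_of_card ?_ ?_, ⟨e⟩⟩
  · have h2 : 24 ≤ Fintype.card F ^ 2 - 1 := by
      have : 5 ^ 2 ≤ Fintype.card F ^ 2 := Nat.pow_le_pow_left h5 2
      omega
    have h3 := Nat.mul_le_mul h5 h2
    omega
  intro M hle hM
  rw [hc]
  rcases smallOrSubfield_of_comm (Fintype.card F) hle hM hdih hbor with h | ⟨K1, m, -, hm, hm', -⟩
  · have hd := Subgroup.card_subgroup_dvd_card M
    rcases card_small h with e | e | e <;> rw [e] at hd ⊢ <;> exfalso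
    · obtain ⟨c, hc'⟩ := hd
      obtain ⟨t, r, hr, ht⟩ : ∃ t r, (r = 3 ∨ r = 5) ∧ Fintype.card F = 8 * t + r :=
        ⟨Fintype.card F / 8, Fintype.card F % 8, h8, (Nat.div_add_mod _ _).symm⟩
      rw [hc', ht] at hG
      rcases hr with rfl | rfl
      · rw [show (8 * t + 3) ^ 2 - 1 = 8 * (8 * t * t + 6 * t + 1) from
          Nat.sub_eq_of_eq_add (by ring)] at hG
        ring_nf at hG
        omega
      · rw [show (8 * t + 5) ^ 2 - 1 = 8 * (8 * t * t + 10 * t + 3) from
          Nat.sub_eq_of_eq_add (by ring)] at hG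
        ring_nf at hG
        omega
    · rcases Nat.lt_or_ge (Fintype.card F) 6 with hlt | hge
      · refine hM (Subgroup.eq_top_of_card_eq _ ?_)
        have : Fintype.card F = 5 := by omega
        rw [this] at hG
        show Nat.card M = Nat.card (PSLtwo F)
        rw [e]
        norm_num [-Nat.card_eq_fintype_card] at hG
        omega
      · have h5' : 5 ∣ Fintype.card F * (Fintype.card F ^ 2 - 1) :=
          hG ▸ ((Dvd.intro 12 rfl : 5 ∣ 60).trans hd).mul_right _
        rcases Nat.prime_five.dvd_mul.1 h5' with h' | h'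
        · have := (Nat.prime_dvd_prime_iff_eq Nat.prime_five hp0).1 h'
          omega
        · obtain ⟨t, r, hr, ht⟩ : ∃ t r, (r = 0 ∨ r = 2 ∨ r = 3) ∧ Fintype.card F = 5 * t + r := by
            refine ⟨Fintype.card F / 5, Fintype.card F % 5, ?_, (Nat.div_add_mod _ _).symm⟩
            omega
          obtain ⟨u, hu⟩ := h'
          have h1 : 1 ≤ Fintype.card F ^ 2 := Nat.one_le_pow _ _ Fintype.card_pos
          rw [ht, show (5 * t + r) ^ 2 = 5 * (5 * t * t + 2 * t * r) + r ^ 2 by ring] at hu h1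
          rcases hr with rfl | rfl | rfl <;> omega
  · exact absurd (hm' ▸ hp0) (Nat.Prime.not_prime_pow hm)

end Cfsg.Agent.S5940
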