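import Cfsg.Statements.S5941
import Mathlib
import Cfsg.Agent.Lib.SL2.SubfieldMax
-- import your own Cfsg.Agent.* helpers here

set_option autoImplicit false
open Cfsg

namespace Cfsg.Agent.S5941

open Cfsg.Agent.Lib.SL2

/-- Let K and F be finite fields of odd characteristic with #F = (#K)². Then PSL_2(F) has a maximal subgroup isomorphic to PGL_2(K). -/
theorem result {F K : Type*} [Field F] [Fintype F] [Field K] [Fintype K] (q : ℕ) (hK : Fintype.card K = q) (hF : Fintype.card F = q ^ 2) (hq : Odd q) : ∃ H : Subgroup (Matrix.ProjectiveSpecialLinearGroup (Fin 2) F), IsCoatom H ∧ Nonempty (H ≃* Matrix.ProjGenLinGroup (Fin 2) K) := by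
  classical
  obtain ⟨K', ⟨e⟩⟩ := exists_subfield_of_card_pow K F two_ne_zero (by rw [hK, hF])
  have hK' : Nat.card K' = q := by
    rw [← Nat.card_congr e.toEquiv, Nat.card_eq_fintype_card, hK]
  have hq3 : 3 ≤ q := by
    have := Fintype.one_lt_card (α := K)
    rw [hK] at this
    obtain ⟨t, ht⟩ := hq; omega
  have hsq : ∀ a : K', IsSquare (a : F) := isSquare_of_even_degree K' (j := 1) (by
    rw [← Nat.card_eq_fintype_card (α := K'), hK', mul_one, hF])
  obtain ⟨H, hH, ⟨i⟩⟩ := exists_comap_iso (glMap_range_le K' hsq)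
  exact ⟨H, isCoatom_glMap hH hK' hq hF.symm, ⟨i.trans ((rangeGlMapEquiv K').trans (pglCongr e.symm))⟩⟩

end Cfsg.Agent.S5941
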