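import Cfsg.Statements.S5942
import Mathlib
import Cfsg.Agent.Lib.SL2.SubfieldMax
-- import your own Cfsg.Agent.* helpers here

set_option autoImplicit false
open Cfsg

namespace Cfsg.Agent.S5942

open Cfsg.Agent.Lib.SL2

/-- Let K and F be finite fields of odd characteristic with #F = (#K)^r for an odd prime r. Then PSL_2(F) has a maximal subgroup isomorphic to PSL_2(K). -/
theorem result {F K : Type*} [Field F] [Fintype F] [Field K] [Fintype K] (q r : ℕ) (hK : Fintype.card K = q) (hF : Fintype.card F = q ^ r) (hq : Odd q) (hr : r.Prime) (hr2 : r ≠ 2) : ∃ H : Subgroup (Matrix.ProjectiveSpecialLinearGroup (Fin 2) F), IsCoatom H ∧ Nonempty (H ≃* Matrix.ProjectiveSpecialLinearGroup (Fin 2) K) := by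
  classical
  obtain ⟨K', ⟨e⟩⟩ := exists_subfield_of_card_pow K F hr.ne_zero (by rw [hK, hF])
  have hK' : Nat.card K' = q := by
    rw [← Nat.card_congr e.toEquiv, Nat.card_eq_fintype_card, hK]
  have hq3 : 3 ≤ q := by
    have := Fintype.one_lt_card (α := K)
    rw [hK] at this
    obtain ⟨t, ht⟩ := hq; omega
  obtain ⟨H, hH, ⟨i⟩⟩ := exists_comap_iso (slMap_range_le K')
  exact ⟨H, isCoatom_slMap hH hK' hq3 hr (fun _ => hr.odd_of_ne_two hr2) hF.symm,
    ⟨i.trans ((rangeSlMapEquiv K').trans (pslCongr e.symm))⟩⟩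

end Cfsg.Agent.S5942
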