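import Cfsg.Statements.S5945
import Mathlib
import Cfsg.Agent.Lib.SymAut.SixPoints

set_option autoImplicit false
open Cfsg

namespace Cfsg.Agent.S5945

/-- The symmetric group S_6 has exactly 12 subgroups of index 6; each of them is isomorphic to S_5, and at least one of them is not the stabilizer of any point. -/
theorem result : Nat.card {H : Subgroup (Equiv.Perm (Fin 6)) // H.index = 6} = 12 ∧ (∀ H : Subgroup (Equiv.Perm (Fin 6)), H.index = 6 → Nonempty (H ≃* Equiv.Perm (Fin 5))) ∧ ∃ H : Subgroup (Equiv.Perm (Fin 6)), H.index = 6 ∧ ∀ a : Fin 6, H ≠ MulAction.stabilizer (Equiv.Perm (Fin 6)) a := by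
  have h6 : Nat.card (Fin 6) = 6 := Nat.card_fin 6
  obtain ⟨ψ, hno, hall⟩ := Lib.SymAut.exists_outer h6
  refine ⟨?_, fun H hH => ?_, ?_⟩
  · let f : Fin 6 ⊕ Fin 6 → {H : Subgroup (Equiv.Perm (Fin 6)) // H.index = 6} := fun y =>
      y.elim (fun x => ⟨MulAction.stabilizer _ x, by rw [MulAction.index_stabilizer_of_transitive, h6]⟩)
        (fun x => ⟨(MulAction.stabilizer _ x).map ψ.toMonoidHom,
          by rw [Lib.SymAut.index_map_stabilizer, h6]⟩)
    have hf : Function.Bijective f := by
      have hinj := Lib.SymAut.stabilizer_injective (α := Fin 6) (by omega)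
      refine ⟨?_, fun H => ?_⟩
      · rintro (x | x) (y | y) h <;> have h' := congrArg Subtype.val h
        · exact congrArg Sum.inl (hinj h')
        · exact absurd h'.symm (hno y x)
        · exact absurd h' (hno x y)
        · exact congrArg Sum.inr (hinj (Subgroup.map_injective (f := ψ.toMonoidHom) ψ.injective h'))
      · obtain ⟨x, hx | hx⟩ := hall H.1 H.2
        · exact ⟨Sum.inl x, Subtype.ext hx.symm⟩
        · exact ⟨Sum.inr x, Subtype.ext hx.symm⟩
    rw [← Nat.card_congr (Equiv.ofBijective f hf), Nat.card_sum, Nat.card_fin]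
  · obtain ⟨x, hx | hx⟩ := hall H hH
    · subst hx
      exact Lib.SymAut.nonempty_mulEquiv_stabilizer h6 x
    · subst hx
      obtain ⟨e⟩ := Lib.SymAut.nonempty_mulEquiv_stabilizer h6 x
      exact ⟨(Subgroup.equivMapOfInjective _ ψ.toMonoidHom ψ.injective).symm.trans e⟩
  · obtain ⟨H, hi, -, hn⟩ := Lib.SymAut.exists_transitive_index_six (α := Fin 6) h6
    exact ⟨H, hi, hn⟩

end Cfsg.Agent.S5945
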