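import Cfsg.Statements.S5946
import Mathlib

set_option autoImplicit false
open Cfsg

namespace Cfsg.Agent.S5946

/-- Let F ⊆ K be finite fields with [K : F] = n ≥ 2 and regard K as an n-dimensional F-vector space. The Singer group M ≤ GL_F(K) of multiplications by the non-zero elements of K is self-centralizing: every F-linear automorphism of K commuting with all of M lies in M. -/
theorem result {F K : Type*} [Field F] [Fintype F] [Field K] [Fintype K] [Algebra F K] (n : ℕ) (hn : 2 ≤ n) (hdim : Module.finrank F K = n) :
    Subgroup.centralizer (((Units.map ((Algebra.lmul F K : K →ₐ[F] Module.End F K) : K →* Module.End F K)).range : Subgroup (Module.End F K)ˣ) : Set (Module.End F K)ˣ) = (Units.map ((Algebra.lmul F K : K →ₐ[F] Module.End F K) : K →* Module.End F K)).range := by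
  ext g
  constructor
  · intro hg
    have hne : (g : Module.End F K) 1 ≠ 0 := fun h => one_ne_zero (α := K)
      (((Module.End.isUnit_iff _).1 g.isUnit).1 (h.trans (map_zero _).symm))
    refine ⟨Units.mk0 _ hne, Units.ext (LinearMap.ext fun x => ?_)⟩
    show (g : Module.End F K) 1 * x = (g : Module.End F K) x
    by_cases hx : x = 0
    · simp [hx]
    · have := hg _ ⟨Units.mk0 x hx, rfl⟩
      have h1 := congrArg (fun f : (Module.End F K)ˣ => (f : Module.End F K) 1) this
      simp only [Units.val_mul, Module.End.mul_apply] at h1
      change x * (g : Module.End F K) 1 = (g : Module.End F K) (x * 1) at h1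
      rw [mul_one] at h1
      rw [mul_comm, h1]
  · rintro ⟨a, rfl⟩ h ⟨b, rfl⟩
    rw [← map_mul, ← map_mul, mul_comm]

end Cfsg.Agent.S5946
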