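import Cfsg.Statements.S5947
import Mathlib

set_option autoImplicit false
open Cfsg

namespace Cfsg.Agent.S5947

/-- Let F ⊆ K be finite fields with |F| = q and [K : F] = n ≥ 2, regard K as an n-dimensional F-vector space, and let M ≤ GL_F(K) be the Singer group of multiplications by non-zero elements of K (cyclic of order q^n − 1). Assume (n, q) ≠ (6, 2), and that it is not the case that n = 2 with q a prime such that q + 1 is a power of 2. Then every abelian subgroup of GL_F(K) of order q^n − 1 is conjugate to M. -/
theorem result {F K : Type*} [Field F] [Fintype F] [Field K] [Fintype K] [Algebra F K] (n : ℕ) (hn : 2 ≤ n) (hdim : Module.finrank F K = n)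
    (hex1 : ¬ (n = 6 ∧ Fintype.card F = 2))
    (hex2 : ¬ (n = 2 ∧ (Fintype.card F).Prime ∧ ∃ a : ℕ, Fintype.card F + 1 = 2 ^ a))
    (U : Subgroup (Module.End F K)ˣ) (hU : IsMulCommutative U) (hcard : Nat.card U = Fintype.card K - 1) :
    ∃ g : (Module.End F K)ˣ, U.map (MulAut.conj g).toMonoidHom = (Units.map ((Algebra.lmul F K : K →ₐ[F] Module.End F K) : K →* Module.End F K)).range := by
  classical
  obtain ⟨p, hp⟩ := CharP.exists F
  haveI : Fact p.Prime := ⟨CharP.char_is_prime F p⟩
  haveI : ExpChar F p := ExpChar.prime (Fact.out : p.Prime)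
  obtain ⟨k, -, hk⟩ := FiniteField.card F p
  have hKq : Fintype.card K = Fintype.card F ^ n := by
    rw [Module.card_eq_pow_finrank (K := F) (V := K), hdim]
  have hNp : Fintype.card K = p ^ ((k : ℕ) * n) := by rw [hKq, hk, ← pow_mul]
  haveI : CharP (Module.End F K) p :=
    charP_of_injective_algebraMap (algebraMap F (Module.End F K)).injective p
  let A : Subalgebra F (Module.End F K) :=
    Algebra.adjoin F ((fun u : (Module.End F K)ˣ => (u : Module.End F K)) '' (U : Set _))
  have hcomm : ∀ x ∈ A, ∀ y ∈ A, x * y = y * x := by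
    intro x hx y hy
    have h1 : ∀ z ∈ A, ∀ u ∈ U, z * (u : Module.End F K) = (u : Module.End F K) * z := by
      intro z hz u hu
      induction hz using Algebra.adjoin_induction with
      | mem w hw =>
        obtain ⟨v, hv, rfl⟩ := hw
        have := congrArg Subtype.val (hU.is_comm.comm ⟨v, hv⟩ ⟨u, hu⟩)
        exact congrArg Units.val this
      | algebraMap r => exact Algebra.commutes r _
      | add a b _ _ ha hb => rw [add_mul, mul_add, ha, hb]
      | mul a b _ _ ha hb => rw [mul_assoc, hb, ← mul_assoc, ha, mul_assoc]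
    induction hy using Algebra.adjoin_induction with
    | mem w hw =>
      obtain ⟨v, hv, rfl⟩ := hw
      exact h1 x hx v hv
    | algebraMap r => exact (Algebra.commutes r _).symm
    | add a b _ _ ha hb => rw [add_mul, mul_add, ha, hb]
    | mul a b _ _ ha hb => rw [← mul_assoc, ha, mul_assoc, hb, ← mul_assoc]
  have hpos : 1 < Fintype.card K := Fintype.one_lt_card
  have hfix : ∀ x ∈ A, x ^ Fintype.card K = x := by
    intro x hx
    induction hx using Algebra.adjoin_induction with
    | mem w hw =>
      obtain ⟨v, hv, rfl⟩ := hw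
      have h1 : v ^ (Fintype.card K - 1) = 1 := by
        have := congrArg Subtype.val (pow_card_eq_one' (x := (⟨v, hv⟩ : U)))
        rw [hcard] at this
        simpa using this
      show (v : Module.End F K) ^ Fintype.card K = v
      conv_lhs => rw [show Fintype.card K = Fintype.card K - 1 + 1 by omega]
      rw [pow_succ, ← Units.val_pow_eq_pow_val, h1, Units.val_one, one_mul]
    | algebraMap r => rw [← map_pow, hKq, FiniteField.pow_card_pow]
    | add a b ha' hb' ha hb =>
      rw [hNp] at ha hb ⊢
      rw [add_pow_expChar_pow_of_commute (R := Module.End F K) p _ (hcomm a ha' b hb'), ha, hb]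
    | mul a b ha' hb' ha hb =>
      rw [Commute.mul_pow (hcomm a ha' b hb'), ha, hb]
  letI : CommRing A :=
    { (inferInstance : Ring A) with mul_comm := fun a b => Subtype.ext (hcomm a a.2 b b.2) }
  haveI : Finite (Module.End F K) := Finite.of_injective _ (DFunLike.coe_injective (F := Module.End F K))
  haveI : Fintype A := Fintype.ofFinite _
  -- a separating vector
  let ann : K → Finset A := fun v => Finset.univ.filter fun a => (a : Module.End F K) v = 0
  obtain ⟨v, -, hv⟩ := Finset.exists_min_image Finset.univ (fun w => (ann w).card) Finset.univ_nonempty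
  have hinj : ∀ a : A, (a : Module.End F K) v = 0 → a = 0 := by
    intro a hav
    by_contra ha0
    obtain ⟨w, hw⟩ : ∃ w, (a : Module.End F K) w ≠ 0 := by
      by_contra hall
      simp only [not_exists, not_not] at hall
      exact ha0 (Subtype.ext (LinearMap.ext hall))
    set e : A := a ^ (Fintype.card K - 1) with he
    have hea : e * a = a := by
      rw [he, ← pow_succ, Nat.sub_add_cancel hpos.le]
      exact Subtype.ext (by rw [SubmonoidClass.coe_pow]; exact hfix _ a.2)
    obtain ⟨e', he'⟩ : ∃ e' : A, e = e' * a :=
      ⟨a ^ (Fintype.card K - 2), by rw [he, ← pow_succ]; congr 1; omega⟩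
    have hev : (e : Module.End F K) v = 0 := by
      rw [he', MulMemClass.coe_mul, Module.End.mul_apply, hav, map_zero]
    have hee : e * e = e := by
      nth_rewrite 2 [he']
      rw [← mul_assoc, mul_comm e e', mul_assoc, hea, ← he']
    set v' := v + (e : Module.End F K) w with hv'
    have hsub : ann v' ⊂ ann v := by
      rw [Finset.ssubset_iff_of_subset ?_]
      · refine ⟨a, by simp [ann, hav], ?_⟩
        simp only [ann, Finset.mem_filter, Finset.mem_univ, true_and, hv', map_add, hav, zero_add]
        rw [← Module.End.mul_apply, ← MulMemClass.coe_mul, mul_comm a e, hea]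
        exact hw
      · intro b hb
        simp only [ann, Finset.mem_filter, Finset.mem_univ, true_and, hv', map_add] at hb ⊢
        have h2 := congrArg (fun z => (e : Module.End F K) z) hb
        simp only [map_add, map_zero] at h2
        rw [← Module.End.mul_apply, ← MulMemClass.coe_mul, mul_comm e b, MulMemClass.coe_mul,
          Module.End.mul_apply, hev, map_zero, zero_add] at h2
        have h3 : (b : Module.End F K) ((e : Module.End F K) w) = 0 := by
          have hbe : b * e = e * (b * e) := by
            rw [mul_left_comm, hee]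
          rw [← h2]
          exact LinearMap.congr_fun (congrArg Subtype.val hbe) w
        rw [h3, add_zero] at hb
        exact hb
    exact absurd (hv v' (Finset.mem_univ _)) (not_le.2 (Finset.card_lt_card hsub))
  -- evaluation at `v` is bijective and every nonzero element of `A` lies in `U`
  let ι : U → A := fun u => ⟨((u : (Module.End F K)ˣ) : Module.End F K), Algebra.subset_adjoin ⟨_, u.2, rfl⟩⟩
  have hι : Function.Injective ι := fun x y h => Subtype.ext (Units.ext (congrArg Subtype.val h))
  have hι0 : ∀ u, ι u ≠ 0 := fun u h => ((u : (Module.End F K)ˣ).ne_zero) (congrArg Subtype.val h)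
  haveI : Fintype U := Fintype.ofFinite _
  let ev : A →ₗ[F] K := (LinearMap.applyₗ v).comp A.val.toLinearMap
  have hev : Function.Injective ev := (injective_iff_map_eq_zero ev).2 fun a h => hinj a h
  have hle : Fintype.card A ≤ Fintype.card K := Fintype.card_le_of_injective ev hev
  have himg : Finset.univ.image ι = (Finset.univ : Finset A).erase 0 := by
    refine Finset.eq_of_subset_of_card_le (fun x hx => ?_) ?_
    · obtain ⟨u, -, rfl⟩ := Finset.mem_image.1 hx
      exact Finset.mem_erase.2 ⟨hι0 u, Finset.mem_univ _⟩
    · rw [Finset.card_image_of_injective _ hι, Finset.card_univ, ← Nat.card_eq_fintype_card, hcard,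
        Finset.card_erase_of_mem (Finset.mem_univ _), Finset.card_univ]
      omega
  have hnz : ∀ x : A, x ≠ 0 → ∃ u, ι u = x := fun x hx => by
    obtain ⟨u, -, hu⟩ := Finset.mem_image.1 (himg ▸ Finset.mem_erase.2 ⟨hx, Finset.mem_univ x⟩)
    exact ⟨u, hu⟩
  have hAK : Fintype.card A = Fintype.card K := by
    have h1 := congrArg Finset.card himg
    rw [Finset.card_image_of_injective _ hι, Finset.card_univ, ← Nat.card_eq_fintype_card, hcard,
      Finset.card_erase_of_mem (Finset.mem_univ _), Finset.card_univ] at h1
    have : 0 < Fintype.card A := Fintype.card_pos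
    omega
  have hAfield : IsField A := by
    refine ⟨⟨0, 1, ?_⟩, mul_comm, fun {x} hx => ?_⟩
    · intro h
      exact hι0 1 (by rw [show ι 1 = 1 from rfl]; exact h.symm)
    · obtain ⟨u, rfl⟩ := hnz x hx
      exact ⟨ι u⁻¹, Subtype.ext (Units.mul_inv (u : (Module.End F K)ˣ))⟩
  letI : Field A := hAfield.toField
  haveI hAs := FiniteField.isSplittingField_sub (↥A) F
  haveI hKs := FiniteField.isSplittingField_sub K F
  rw [hAK] at hAs
  let φ : A ≃ₐ[F] K :=
    (Polynomial.IsSplittingField.algEquiv (L := ↥A) (Polynomial.X ^ Fintype.card K - Polynomial.X)).trans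
      (Polynomial.IsSplittingField.algEquiv (L := K) (Polynomial.X ^ Fintype.card K - Polynomial.X)).symm
  have hevb : Function.Bijective ev :=
    (Fintype.bijective_iff_injective_and_card ev).2 ⟨hev, hAK⟩
  let ge : K ≃ₗ[F] K := φ.symm.toLinearEquiv.trans (LinearEquiv.ofBijective ev hevb)
  let g : (Module.End F K)ˣ := LinearMap.GeneralLinearGroup.ofLinearEquiv ge
  have key : ∀ (a : A) (k' : K), (a : Module.End F K) (ge k') = ge (φ a * k') := by
    intro a k'
    show (a : Module.End F K) (((φ.symm k' : A) : Module.End F K) v)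
      = ((φ.symm (φ a * k') : A) : Module.End F K) v
    rw [map_mul, AlgEquiv.symm_apply_apply, MulMemClass.coe_mul, Module.End.mul_apply]
  refine ⟨g⁻¹, ?_⟩
  have keyU : ∀ u : U, ∀ w : Kˣ, φ (ι u) = (w : K) →
      MulAut.conj g⁻¹ (u : (Module.End F K)ˣ) = Units.map ((Algebra.lmul F K : K →ₐ[F] Module.End F K) : K →* Module.End F K) w := by
    intro u w hw
    rw [MulAut.conj_apply, inv_inv, mul_assoc, inv_mul_eq_iff_eq_mul]
    refine Units.ext (LinearMap.ext fun x => ?_)
    show ((ι u : A) : Module.End F K) (ge x) = ge ((w : K) * x)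
    rw [key, hw]
  ext x
  constructor
  · rintro ⟨u, hu, rfl⟩
    refine ⟨Units.mk0 (φ (ι ⟨u, hu⟩)) ?_, (keyU ⟨u, hu⟩ _ rfl).symm⟩
    exact (map_ne_zero φ).2 (hι0 _)
  · rintro ⟨w, rfl⟩
    obtain ⟨u, hu⟩ := hnz (φ.symm w) ((map_ne_zero φ.symm).2 w.ne_zero)
    exact ⟨u, u.2, keyU u w (by rw [hu, AlgEquiv.apply_symm_apply])⟩

end Cfsg.Agent.S5947
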