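import Cfsg.Statements.S5949
import Mathlib
import Cfsg.Agent.Lib.Elusive.LinearActions

set_option autoImplicit false
open scoped MatrixGroups
open Cfsg

namespace Cfsg.Agent.S5949

/-- Elements of prime order of PSL_n(q) with no fixed `m`-space. Here `T = PSL_n(F)` for a field `F` with `q = p^f` elements (`n ≥ 2`, `(n, q) ≠ (2, 2), (2, 3)`); an element of `T` of prime order `r` is represented by a matrix `x` of determinant 1 with `x^r` scalar and `x` not scalar; `i` denotes the multiplicative order of `q` modulo `r` (when `r ≠ p`), and `(a)_r` the `r`-part of `a`. Let `1 ≤ m ≤ n/2` and let `r` be a prime dividing the number of `m`-dimensional subspaces of `F^n`. Then every element of `T` of order `r` fixes some `m`-dimensional subspace (the action on `m`-spaces is `r`-elusive) if and only if `r ≠ p` and either (i) `i = 1` and (`r ∣ m`, or `(q−1)_r ≥ (n)_r` where in addition `q ≡ 1 (mod 4)` is required when `r = 2` and `n` is even), or (ii) `2 ≤ i ≤ m`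 and `n mod i ≥ m mod i`. -/
theorem result {F : Type*} [Field F] [Fintype F] {p : ℕ} [Fact p.Prime] [CharP F p] {q : ℕ} (hq : Fintype.card F = q)
    (n m : ℕ) (hn : 2 ≤ n) (hT : (n, q) ≠ (2, 2) ∧ (n, q) ≠ (2, 3)) (hm : 1 ≤ m) (hmn : 2 * m ≤ n)
    (r : ℕ) [Fact r.Prime] (hrΩ : r ∣ Nat.card {W : Submodule F (Fin n → F) // Module.finrank F ↥W = m}) :
    (∀ x : Matrix.SpecialLinearGroup (Fin n) F,
      (∃ c : F, ((x ^ r : Matrix.SpecialLinearGroup (Fin n) F) : Matrix (Fin n) (Fin n) F) = c • (1 : Matrix (Fin n) (Fin n) F)) →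
      (∀ c : F, (x : Matrix (Fin n) (Fin n) F) ≠ c • (1 : Matrix (Fin n) (Fin n) F)) →
      ∃ W : Submodule F (Fin n → F), Module.finrank F ↥W = m ∧ W.map (Matrix.toLin' (x : Matrix (Fin n) (Fin n) F)) ≤ W) ↔
    (r ≠ p ∧
      ((orderOf (q : ZMod r) = 1 ∧ (r ∣ m ∨ (padicValNat r n ≤ padicValNat r (q - 1) ∧ (r = 2 → Even n → q % 4 = 1)))) ∨
       (2 ≤ orderOf (q : ZMod r) ∧ orderOf (q : ZMod r) ≤ m ∧ m % orderOf (q : ZMod r) ≤ n % orderOf (q : ZMod r)))) := by
  subst hq
  have hr : r.Prime := Fact.out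
  have hfr : Module.finrank F (Fin n → F) = n := Module.finrank_fin_fun F
  have hrp : r ≠ p := by
    rintro rfl
    exact Cfsg.Agent.Lib.Elusive.not_dvd_numSub_char F (Fin n → F) (p := r) (m := m) (by omega) hrΩ
  have hrF : (r : F) ≠ 0 := by
    rw [Ne, CharP.cast_eq_zero_iff F p]
    exact fun h => hrp (((Nat.prime_dvd_prime_iff_eq Fact.out hr).1 h).symm)
  refine (Cfsg.Agent.Lib.Elusive.forall_specialLinearGroup_iff n r
    (fun f => ∃ W : Submodule F (Fin n → F), Module.finrank F ↥W = m ∧ W.map f ≤ W)).trans ?_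
  rw [and_iff_right hrp]
  simp only [← Cfsg.Agent.Lib.Elusive.inv_iff_map_le]
  have hP : ∀ (d : F) (f : Module.End F (Fin n → F)), d ≠ 0 →
      ((∃ W : Submodule F (Fin n → F), Module.finrank F ↥W = m ∧ Cfsg.Agent.Lib.Elusive.Inv (d • f) W) ↔
        ∃ W : Submodule F (Fin n → F), Module.finrank F ↥W = m ∧ Cfsg.Agent.Lib.Elusive.Inv f W) :=
    fun d f hd => by simp only [Cfsg.Agent.Lib.Elusive.inv_smul_iff hd]
  by_cases hrq : r ∣ Fintype.card F - 1
  · have hi : orderOf (Fintype.card F : ZMod r) = 1 := Cfsg.Agent.Lib.Elusive.orderOf_eq_one_iff_dvd.2 hrq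
    have key := Cfsg.Agent.Lib.Elusive.forall_iff_of_dvd (V := Fin n → F) hr (by omega) hrq m
      (fun f => ∃ W : Submodule F (Fin n → F), Module.finrank F ↥W = m ∧ Cfsg.Agent.Lib.Elusive.Inv f W) hP
      (fun y hy => ?_) (fun f hf => ?_)
    · rw [hfr] at key
      rw [key, hi]
      simp
    · obtain ⟨U, -, hU, -, -, hUd, -⟩ :=
        Cfsg.Agent.Lib.Elusive.exists_inv_one hr hrF hi hy (m := m) (m' := m) le_rfl (by omega)
      exact ⟨U, hUd, hU⟩
    · constructor
      · rintro ⟨W, hWd, hW⟩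
        exact hWd ▸ hf.dvd_finrank hr hW
      · rintro ⟨k, rfl⟩
        obtain ⟨-, -, h⟩ := hf.structure' hr
        obtain ⟨U, -, -, hU, -, -, -, -, hUd, -⟩ := h k k le_rfl (by omega)
        exact ⟨U, hUd, hU⟩
  · have hi2 : 2 ≤ orderOf (Fintype.card F : ZMod r) := by
      have h0 := Cfsg.Agent.Lib.Elusive.orderOf_pos (F := F) hr hrF
      have h1 : orderOf (Fintype.card F : ZMod r) ≠ 1 := fun h =>
        hrq (Cfsg.Agent.Lib.Elusive.orderOf_eq_one_iff_dvd.1 h)
      omega
    rw [Cfsg.Agent.Lib.Elusive.forall_iff_of_not_dvd (V := Fin n → F) hr (by omega) hrq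
        (fun f => ∃ W : Submodule F (Fin n → F), Module.finrank F ↥W = m ∧ Cfsg.Agent.Lib.Elusive.Inv f W) hP,
      Cfsg.Agent.Lib.Elusive.forall_exists_inv_iff hr hrF hi2 (m := m) (by omega) hrΩ, hfr]
    constructor
    · exact fun h => Or.inr ⟨hi2, h⟩
    · rintro (⟨h, -⟩ | ⟨-, h⟩)
      · omega
      · exact h

end Cfsg.Agent.S5949
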