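import Cfsg.Statements.S5950
import Mathlib
import Cfsg.Agent.Lib.Elusive.LinearActions
import Cfsg.Agent.Lib.Elusive.Unipotent

set_option autoImplicit false
open scoped MatrixGroups
open Cfsg

namespace Cfsg.Agent.S5950

/-- Elements of prime order of PSL_n(q) fixing no decomposition `F^n = U ⊕ W` with `dim U = m`. Here `T = PSL_n(F)` for a field `F` with `q = p^f` elements (`n ≥ 2`, `(n, q) ≠ (2, 2), (2, 3)`); an element of `T` of prime order `r` is represented by a matrix `x` of determinant 1 with `x^r` scalar and `x` not scalar; `i` denotes the multiplicative order of `q` modulo `r` (when `r ≠ p`), and `(a)_r` the `r`-part of `a`. Let `n ≥ 3`, `1 ≤ m < n/2`, and let `r` be a prime dividing the number of such decompositions (unordered pairs `{U, W}` of complementary subspaces with `dim U = m`; since `m ≠ n − m` these are the ordered pairs with `dim U = m`). Then every element of `T` of order `r` fixes such a pair (fixes both `U` and `W` for some complementary `U, W`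 with `dim U = m`) if and only if one of: (i) `r = p > 2` and every partition of `n` into parts of size at most `p` contains, as a sub-multiset, a partition of `m`; (ii) `r = p = 2` and `n` is odd or `m` is even; (iii) `r ≠ p`, `i = 1`, and `r ∣ m` or `(q−1)_r ≥ (n)_r` (with `q ≡ 1 (mod 4)` required when `r = 2` and `n` is even); (iv) `r ≠ p`, `2 ≤ i ≤ m` and `n mod i ≥ m mod i`. -/
theorem result {F : Type*} [Field F] [Fintype F] {p : ℕ} [Fact p.Prime] [CharP F p] {q : ℕ} (hq : Fintype.card F = q)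
    (n m : ℕ) (hn : 3 ≤ n) (hm : 1 ≤ m) (hmn : 2 * m < n)
    (r : ℕ) [Fact r.Prime]
    (hrΩ : r ∣ Nat.card {P : Submodule F (Fin n → F) × Submodule F (Fin n → F) // IsCompl P.1 P.2 ∧ Module.finrank F ↥P.1 = m}) :
    (∀ x : Matrix.SpecialLinearGroup (Fin n) F,
      (∃ c : F, ((x ^ r : Matrix.SpecialLinearGroup (Fin n) F) : Matrix (Fin n) (Fin n) F) = c • (1 : Matrix (Fin n) (Fin n) F)) →
      (∀ c : F, (x : Matrix (Fin n) (Fin n) F) ≠ c • (1 : Matrix (Fin n) (Fin n) F)) →
      ∃ U W : Submodule F (Fin n → F), IsCompl U W ∧ Module.finrank F ↥U = m ∧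
        U.map (Matrix.toLin' (x : Matrix (Fin n) (Fin n) F)) ≤ U ∧ W.map (Matrix.toLin' (x : Matrix (Fin n) (Fin n) F)) ≤ W) ↔
    ((r = p ∧ 2 < p ∧ (∀ μ : Multiset ℕ, (∀ a ∈ μ, 0 < a ∧ a ≤ p) → μ.sum = n → ∃ ν : Multiset ℕ, ν ≤ μ ∧ ν.sum = m)) ∨
     (r = p ∧ p = 2 ∧ (Odd n ∨ Even m)) ∨
     (r ≠ p ∧
      ((orderOf (q : ZMod r) = 1 ∧ (r ∣ m ∨ (padicValNat r n ≤ padicValNat r (q - 1) ∧ (r = 2 → Even n → q % 4 = 1)))) ∨
       (2 ≤ orderOf (q : ZMod r) ∧ orderOf (q : ZMod r) ≤ m ∧ m % orderOf (q : ZMod r) ≤ n % orderOf (q : ZMod r))))) := by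
  subst hq
  have hr : r.Prime := Fact.out
  have hp : p.Prime := Fact.out
  have hfr : Module.finrank F (Fin n → F) = n := Module.finrank_fin_fun F
  let P : Module.End F (Fin n → F) → Prop := fun f => ∃ U W : Submodule F (Fin n → F), IsCompl U W ∧
    Module.finrank F ↥U = m ∧ Cfsg.Agent.Lib.Elusive.Inv f U ∧ Cfsg.Agent.Lib.Elusive.Inv f W
  refine (Cfsg.Agent.Lib.Elusive.forall_specialLinearGroup_iff n r
    (fun f => ∃ U W : Submodule F (Fin n → F), IsCompl U W ∧ Module.finrank F ↥U = m ∧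
      U.map f ≤ U ∧ W.map f ≤ W)).trans ?_
  simp only [← Cfsg.Agent.Lib.Elusive.inv_iff_map_le]
  have hP : ∀ (d : F) (f : Module.End F (Fin n → F)), d ≠ 0 → (P (d • f) ↔ P f) :=
    fun d f hd => by simp only [P, Cfsg.Agent.Lib.Elusive.inv_smul_iff hd]
  by_cases hrp : r = p
  · subst hrp
    have hrq : ¬ r ∣ Fintype.card F - 1 := by
      obtain ⟨k, -, hk⟩ := FiniteField.card F r
      intro h
      have h1 : r ∣ Fintype.card F := hk ▸ dvd_pow_self r k.pos.ne'
      have h2 := Fintype.card_pos (α := F)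
      have h3 := Nat.dvd_sub h1 h
      rw [show Fintype.card F - (Fintype.card F - 1) = 1 by omega, Nat.dvd_one] at h3
      exact hr.ne_one h3
    refine (Cfsg.Agent.Lib.Elusive.forall_iff_of_not_dvd (V := Fin n → F) hr (by omega) hrq P hP).trans ?_
    refine (Cfsg.Agent.Lib.Elusive.forall_unipotent_iff (F := F) (V := Fin n → F) (p := r) (m := m)
      (by omega) (by omega)).trans ?_
    rw [hfr]
    rcases hr.eq_two_or_odd' with rfl | hodd
    · rw [Cfsg.Agent.Lib.Elusive.partitions_le_two_iff (by omega)]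
      constructor
      · exact fun h => Or.inr (Or.inl ⟨rfl, rfl, h⟩)
      · rintro (⟨-, h, -⟩ | ⟨-, -, h⟩ | ⟨h, -⟩)
        · omega
        · exact h
        · exact absurd rfl h
    · have h2 : r ≠ 2 := fun h => by rw [h] at hodd; exact absurd hodd (by decide)
      have h3 : 2 < r := by have := hr.two_le; omega
      simp [h2, h3]
  · have hrF : (r : F) ≠ 0 := by
      rw [Ne, CharP.cast_eq_zero_iff F p]
      exact fun h => hrp (((Nat.prime_dvd_prime_iff_eq hp hr).1 h).symm)
    have hd : r ∣ Cfsg.Agent.Lib.Elusive.numSub F (Fin n → F) m := by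
      have h : r ∣ Cfsg.Agent.Lib.Elusive.numCompl F (Fin n → F) m := hrΩ
      rw [Cfsg.Agent.Lib.Elusive.numCompl_eq, hr.dvd_mul] at h
      refine h.resolve_right fun h' => ?_
      obtain ⟨k, -, hk⟩ := FiniteField.card F p
      rw [hk, ← pow_mul] at h'
      exact hrp ((Nat.prime_dvd_prime_iff_eq hr hp).1 (hr.dvd_of_dvd_pow h'))
    simp only [hrp, false_and, false_or, ne_eq, not_false_eq_true, true_and]
    have hcompl : ∀ y : Module.End F (Fin n → F), y ^ r = 1 →
        ((∃ W : Submodule F (Fin n → F), Module.finrank F ↥W = m ∧ Cfsg.Agent.Lib.Elusive.Inv y W) ↔ P y) := by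
      intro y hy
      refine ⟨fun ⟨U, hUd, hU⟩ => ?_, fun ⟨U, W, _, hUd, hU, _⟩ => ⟨U, hUd, hU⟩⟩
      obtain ⟨W, hW, hc⟩ := Cfsg.Agent.Lib.Elusive.exists_inv_compl hrF hy hU
      exact ⟨U, W, hc, hUd, hU, hW⟩
    by_cases hrq : r ∣ Fintype.card F - 1
    · have hi : orderOf (Fintype.card F : ZMod r) = 1 := Cfsg.Agent.Lib.Elusive.orderOf_eq_one_iff_dvd.2 hrq
      have key := Cfsg.Agent.Lib.Elusive.forall_iff_of_dvd (V := Fin n → F) hr (by omega) hrq m
        P hP (fun y hy => ?_) (fun f hf => ?_)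
      · rw [hfr] at key
        refine key.trans ?_
        rw [hi]
        simp
      · obtain ⟨U, -, hU, -, -, hUd, -⟩ :=
          Cfsg.Agent.Lib.Elusive.exists_inv_one hr hrF hi hy (m := m) (m' := m) le_rfl (by omega)
        exact (hcompl y hy).1 ⟨U, hUd, hU⟩
      · constructor
        · rintro ⟨U, W, -, hUd, hU, -⟩
          exact hUd ▸ hf.dvd_finrank hr hU
        · rintro ⟨k, rfl⟩
          obtain ⟨-, -, h⟩ := hf.structure' hr
          obtain ⟨U, -, U', hU, -, hU', -, hc, hUd, -⟩ := h k k le_rfl (by omega)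
          exact ⟨U, U', hc, hUd, hU, hU'⟩
    · have hi2 : 2 ≤ orderOf (Fintype.card F : ZMod r) := by
        have h0 := Cfsg.Agent.Lib.Elusive.orderOf_pos (F := F) hr hrF
        have h1 : orderOf (Fintype.card F : ZMod r) ≠ 1 := fun h =>
          hrq (Cfsg.Agent.Lib.Elusive.orderOf_eq_one_iff_dvd.1 h)
        omega
      refine (Cfsg.Agent.Lib.Elusive.forall_iff_of_not_dvd (V := Fin n → F) hr (by omega) hrq P hP).trans ?_
      have key := Cfsg.Agent.Lib.Elusive.forall_exists_inv_iff (V := Fin n → F) hr hrF hi2 (m := m) (by omega) hd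
      rw [hfr] at key
      constructor
      · exact fun h => Or.inr ⟨hi2, key.1 fun y hy hy1 => (hcompl y hy).2 (h y hy hy1)⟩
      · rintro (⟨h, -⟩ | ⟨-, h⟩)
        · omega
        · exact fun y hy hy1 => (hcompl y hy).1 (key.2 h y hy hy1)

end Cfsg.Agent.S5950
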