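import Cfsg.Statements.S5951
import Mathlib
import Cfsg.Agent.Lib.Elusive.LinearActions

set_option autoImplicit false
open scoped MatrixGroups
open Cfsg

namespace Cfsg.Agent.S5951

/-- Elements of prime order of PSL_n(q) fixing no pair of subspaces `U < W` with `dim U = m`, `dim W = n − m`. Here `T = PSL_n(F)` for a field `F` with `q = p^f` elements (`n ≥ 2`, `(n, q) ≠ (2, 2), (2, 3)`); an element of `T` of prime order `r` is represented by a matrix `x` of determinant 1 with `x^r` scalar and `x` not scalar; `i` denotes the multiplicative order of `q` modulo `r` (when `r ≠ p`), and `(a)_r` the `r`-part of `a`. Let `1 ≤ m < n/2` and let `r` be a prime dividing the number of such pairs. Then every element of `T` of order `r` fixes such a pair (both `U` and `W`) if and only if `r ≠ p` and either (i) `i = 1` and (`r ∣ m`, or `(q−1)_r ≥ (n)_r` with `q ≡ 1 (mod 4)` required when `r = 2` and `n` is even), or (ii) `2 ≤ i ≤ m` and `n mod i ≥ 2 (m mod i)`.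 -/
theorem result {F : Type*} [Field F] [Fintype F] {p : ℕ} [Fact p.Prime] [CharP F p] {q : ℕ} (hq : Fintype.card F = q)
    (n m : ℕ) (hn : 2 ≤ n) (hT : (n, q) ≠ (2, 2) ∧ (n, q) ≠ (2, 3)) (hm : 1 ≤ m) (hmn : 2 * m < n)
    (r : ℕ) [Fact r.Prime]
    (hrΩ : r ∣ Nat.card {P : Submodule F (Fin n → F) × Submodule F (Fin n → F) //
        P.1 ≤ P.2 ∧ Module.finrank F ↥P.1 = m ∧ Module.finrank F ↥P.2 = n - m}) :
    (∀ x : Matrix.SpecialLinearGroup (Fin n) F,
      (∃ c : F, ((x ^ r : Matrix.SpecialLinearGroup (Fin n) F) : Matrix (Fin n) (Fin n) F) = c • (1 : Matrix (Fin n) (Fin n) F)) →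
      (∀ c : F, (x : Matrix (Fin n) (Fin n) F) ≠ c • (1 : Matrix (Fin n) (Fin n) F)) →
      ∃ U W : Submodule F (Fin n → F), U ≤ W ∧ Module.finrank F ↥U = m ∧ Module.finrank F ↥W = n - m ∧
        U.map (Matrix.toLin' (x : Matrix (Fin n) (Fin n) F)) ≤ U ∧ W.map (Matrix.toLin' (x : Matrix (Fin n) (Fin n) F)) ≤ W) ↔
    (r ≠ p ∧
      ((orderOf (q : ZMod r) = 1 ∧ (r ∣ m ∨ (padicValNat r n ≤ padicValNat r (q - 1) ∧ (r = 2 → Even n → q % 4 = 1)))) ∨
       (2 ≤ orderOf (q : ZMod r) ∧ orderOf (q : ZMod r) ≤ m ∧ 2 * (m % orderOf (q : ZMod r)) ≤ n % orderOf (q : ZMod r)))) := by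
  subst hq
  have hr : r.Prime := Fact.out
  have hfr : Module.finrank F (Fin n → F) = n := Module.finrank_fin_fun F
  have hrp : r ≠ p := by
    rintro rfl
    obtain ⟨W, hW, he⟩ := Cfsg.Agent.Lib.Elusive.exists_numFlag_eq F (Fin n → F) m (n - m) (by omega)
    have h : r ∣ Cfsg.Agent.Lib.Elusive.numFlag F (Fin n → F) m (n - m) := hrΩ
    rw [he, hr.dvd_mul] at h
    rcases h with h | h
    · exact Cfsg.Agent.Lib.Elusive.not_dvd_numSub_char F (Fin n → F) (p := r) (m := n - m) (by omega) h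
    · exact Cfsg.Agent.Lib.Elusive.not_dvd_numSub_char F ↥W (p := r) (m := m) (by omega) h
  have hrF : (r : F) ≠ 0 := by
    rw [Ne, CharP.cast_eq_zero_iff F p]
    exact fun h => hrp (((Nat.prime_dvd_prime_iff_eq Fact.out hr).1 h).symm)
  refine (Cfsg.Agent.Lib.Elusive.forall_specialLinearGroup_iff n r
    (fun f => ∃ U W : Submodule F (Fin n → F), U ≤ W ∧ Module.finrank F ↥U = m ∧
      Module.finrank F ↥W = n - m ∧ U.map f ≤ U ∧ W.map f ≤ W)).trans ?_
  rw [and_iff_right hrp]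
  simp only [← Cfsg.Agent.Lib.Elusive.inv_iff_map_le]
  let P : Module.End F (Fin n → F) → Prop := fun f => ∃ U W : Submodule F (Fin n → F), U ≤ W ∧
    Module.finrank F ↥U = m ∧ Module.finrank F ↥W = n - m ∧
    Cfsg.Agent.Lib.Elusive.Inv f U ∧ Cfsg.Agent.Lib.Elusive.Inv f W
  have hP : ∀ (d : F) (f : Module.End F (Fin n → F)), d ≠ 0 → (P (d • f) ↔ P f) :=
    fun d f hd => by simp only [P, Cfsg.Agent.Lib.Elusive.inv_smul_iff hd]
  by_cases hrq : r ∣ Fintype.card F - 1
  · have hi : orderOf (Fintype.card F : ZMod r) = 1 := Cfsg.Agent.Lib.Elusive.orderOf_eq_one_iff_dvd.2 hrq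
    have key := Cfsg.Agent.Lib.Elusive.forall_iff_of_dvd (V := Fin n → F) hr (by omega) hrq m
      P hP (fun y hy => ?_) (fun f hf => ?_)
    · rw [hfr] at key
      refine key.trans ?_
      rw [hi]
      simp
    · obtain ⟨U, W, hU, hW, hUW, hUd, hWd⟩ :=
        Cfsg.Agent.Lib.Elusive.exists_inv_one hr hrF hi hy (m := m) (m' := n - m) (by omega) (by omega)
      exact ⟨U, W, hUW, hUd, hWd, hU, hW⟩
    · constructor
      · rintro ⟨U, W, -, hUd, -, hU, -⟩
        exact hUd ▸ hf.dvd_finrank hr hU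
      · rintro ⟨k, rfl⟩
        obtain ⟨⟨j, hj⟩, -, h⟩ := hf.structure' hr
        rw [hfr] at hj
        have hkj : k ≤ j - k := by
          have : r * (2 * k) < r * j := by rw [← hj]; linarith
          have := Nat.lt_of_mul_lt_mul_left this
          omega
        obtain ⟨U, W, -, hU, hW, -, hUW, -, hUd, hWd⟩ := h k (j - k) hkj (by rw [hfr, Nat.mul_sub]; omega)
        exact ⟨U, W, hUW, hUd, by rw [hWd, Nat.mul_sub, hj], hU, hW⟩
  · have hi2 : 2 ≤ orderOf (Fintype.card F : ZMod r) := by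
      have h0 := Cfsg.Agent.Lib.Elusive.orderOf_pos (F := F) hr hrF
      have h1 : orderOf (Fintype.card F : ZMod r) ≠ 1 := fun h =>
        hrq (Cfsg.Agent.Lib.Elusive.orderOf_eq_one_iff_dvd.1 h)
      omega
    refine (Cfsg.Agent.Lib.Elusive.forall_iff_of_not_dvd (V := Fin n → F) hr (by omega) hrq P hP).trans ?_
    have key := Cfsg.Agent.Lib.Elusive.forall_exists_flag_iff (V := Fin n → F) hr hrF hi2 (m := m)
      (by omega) (by rw [hfr]; exact hrΩ)
    rw [hfr] at key
    constructor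
    · intro h
      refine Or.inr ⟨hi2, key.1 fun y hy hy1 => ?_⟩
      obtain ⟨U, W, hUW, hUd, hWd, hU, hW⟩ := h y hy hy1
      exact ⟨U, W, hU, hW, hUW, hUd, hWd⟩
    · rintro (⟨h, -⟩ | ⟨-, h⟩)
      · omega
      · intro y hy hy1
        obtain ⟨U, W, hU, hW, hUW, hUd, hWd⟩ := key.2 h y hy hy1
        exact ⟨U, W, hUW, hUd, hWd, hU, hW⟩

end Cfsg.Agent.S5951
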