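import Cfsg.Statements.S5952
import Mathlib

set_option autoImplicit false
open Cfsg

namespace Cfsg.Agent.S5952

/-- Which dimensions of invariant subspaces a semisimple linear map has. Let `V` be a finite-dimensional vector space over a field `F` and `f` an invertible semisimple linear map of `V`. Suppose `V` is the internal direct sum of the fixed space `C_V(f)` (the eigenspace for 1) and subspaces `U_1, …, U_s`, each `f`-invariant of dimension `a ≥ 1` on which `f` acts irreducibly (no `f`-invariant subspaces other than 0 and `U_j`). Let `0 < m < dim V` and `ℓ = m mod a`. Then `f` leaves some `m`-dimensional subspace invariant if and only if `dim C_V(f) ≥ m`, or `a ≤ m` and `dim C_V(f) ≥ ℓ`. -/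
theorem result {F V : Type*} [Field F] [AddCommGroup V] [Module F V]
    [FiniteDimensional F V] (f : V →ₗ[F] V) (hf : Function.Bijective f) (hss : Module.End.IsSemisimple f)
    {s a : ℕ} (ha : 1 ≤ a) (U : Fin s → Submodule F V)
    (hUinv : ∀ j, (U j).map f ≤ U j) (hUdim : ∀ j, Module.finrank F ↥(U j) = a)
    (hUirr : ∀ j, ∀ W : Submodule F V, W ≤ U j → W.map f ≤ W → W = ⊥ ∨ W = U j)
    (hdec : DirectSum.IsInternal (fun o : Option (Fin s) => o.elim (Module.End.eigenspace f 1) U))
    (m : ℕ) (hm : 0 < m) (hmV : m < Module.finrank F V) :
    (∃ W : Submodule F V, Module.finrank F ↥W = m ∧ W.map f ≤ W) ↔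
    (m ≤ Module.finrank F ↥(Module.End.eigenspace f 1) ∨
      (a ≤ m ∧ m % a ≤ Module.finrank F ↥(Module.End.eigenspace f 1))) := by
  classical
  set C := Module.End.eigenspace f 1 with hC
  set N : Option (Fin s) → Submodule F V := fun o => o.elim C U with hN
  have hind : iSupIndep N := hdec.submodule_iSupIndep
  have htop : iSup N = ⊤ := hdec.submodule_iSup_eq_top
  let X : Finset (Fin s) → Submodule F V := fun S => C ⊔ S.sup U
  have hCinv : ∀ x ∈ C, f x = x := fun x hx => by
    simpa using Module.End.mem_eigenspace_iff.1 hx
  have hXinv : ∀ S, (X S).map f ≤ X S := by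
    intro S
    induction S using Finset.induction_on with
    | empty =>
      simp only [X, Finset.sup_empty, sup_bot_eq]
      rintro _ ⟨x, hx, rfl⟩
      rw [hCinv x hx]; exact hx
    | insert j S _ ih =>
      simp only [X, Finset.sup_insert] at ih ⊢
      rw [Submodule.map_sup, Submodule.map_sup]
      rw [Submodule.map_sup] at ih
      have h1 : C ⊔ S.sup U ≤ C ⊔ (U j ⊔ S.sup U) := sup_le_sup_left le_sup_right _
      exact sup_le ((le_sup_left.trans ih).trans h1)
        (sup_le ((hUinv j).trans (le_sup_left.trans le_sup_right)) ((le_sup_right.trans ih).trans h1))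
  have hdisj : ∀ j (S : Finset (Fin s)), j ∉ S → X S ⊓ U j = ⊥ := by
    intro j S hj
    have := hind (some j)
    rw [disjoint_comm, disjoint_iff] at this
    refine le_bot_iff.1 (le_trans (inf_le_inf_right _ ?_) this.le)
    refine sup_le ?_ (Finset.sup_le fun k hk => ?_)
    · exact le_iSup_of_le none (le_iSup_of_le (by simp) le_rfl)
    · exact le_iSup_of_le (some k) (le_iSup_of_le (by simp; rintro rfl; exact hj hk) le_rfl)
  have hXdim : ∀ S, Module.finrank F (X S) = Module.finrank F C + S.card * a := by
    intro S
    induction S using Finset.induction_on with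
    | empty => rw [show X ∅ = C from by simp [X]]; simp
    | insert j S hj ih =>
      have h1 : X (insert j S) = X S ⊔ U j := by
        simp only [X, Finset.sup_insert]
        rw [sup_comm (U j), sup_assoc]
      have h2 := Submodule.finrank_sup_add_finrank_inf_eq (X S) (U j)
      rw [hdisj j S hj, finrank_bot, add_zero] at h2
      rw [h1, h2, ih, hUdim, Finset.card_insert_of_notMem hj]
      ring
  have hXtop : X Finset.univ = ⊤ := by
    rw [eq_top_iff, ← htop]
    refine iSup_le fun o => ?_
    cases o with
    | none => exact le_sup_left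
    | some j => exact le_sup_of_le_right (Finset.le_sup (f := U) (Finset.mem_univ j))
  have hV : Module.finrank F V = Module.finrank F C + s * a := by
    have := hXdim Finset.univ
    rwa [hXtop, finrank_top, Finset.card_univ, Fintype.card_fin] at this
  constructor
  · rintro ⟨W, hWm, hW⟩
    have hkey : ∀ S, ∃ k, Module.finrank F (W ⊓ X S : Submodule F V) =
        Module.finrank F (W ⊓ C : Submodule F V) + k * a := by
      intro S
      induction S using Finset.induction_on with
      | empty => exact ⟨0, by rw [show X ∅ = C from by simp [X]]; simp⟩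
      | insert j S hj ih =>
        obtain ⟨k, hk⟩ := ih
        have h1 : X (insert j S) = X S ⊔ U j := by
          simp only [X, Finset.sup_insert]
          rw [sup_comm (U j), sup_assoc]
        set W' := W ⊓ X (insert j S) with hW'
        have hY : ((X S ⊔ W') ⊓ U j).map f ≤ (X S ⊔ W') ⊓ U j := by
          refine le_inf ?_ ((Submodule.map_mono inf_le_right).trans (hUinv j))
          refine (Submodule.map_mono inf_le_left).trans ?_
          rw [Submodule.map_sup]
          refine sup_le_sup (hXinv S) ?_
          exact le_inf ((Submodule.map_mono inf_le_left).trans hW)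
            ((Submodule.map_mono inf_le_right).trans (hXinv _))
        have hle : X S ⊔ W' ≤ X S ⊔ U j := sup_le le_sup_left (inf_le_right.trans h1.le)
        have hmod : X S ⊔ W' = X S ⊔ ((X S ⊔ W') ⊓ U j) := by
          rw [inf_comm (X S ⊔ W'), ← sup_inf_assoc_of_le _ le_sup_left, inf_eq_right.2 hle]
        have hinf : X S ⊓ W' = W ⊓ X S := by
          rw [hW', h1, inf_left_comm, inf_sup_self]
        have h2 := Submodule.finrank_sup_add_finrank_inf_eq (X S) W'
        rw [hinf, hk] at h2
        rcases hUirr j _ inf_le_right hY with h | h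
        · rw [h, sup_bot_eq] at hmod
          rw [hmod] at h2
          exact ⟨k, by omega⟩
        · rw [h] at hmod
          rw [hmod] at h2
          have h3 := Submodule.finrank_sup_add_finrank_inf_eq (X S) (U j)
          rw [hdisj j S hj, finrank_bot, add_zero, hUdim] at h3
          exact ⟨k + 1, by rw [Nat.succ_mul]; omega⟩
    obtain ⟨k, hk⟩ := hkey Finset.univ
    rw [hXtop, inf_top_eq, hWm] at hk
    have hle : Module.finrank F (W ⊓ C : Submodule F V) ≤ Module.finrank F C :=
      Submodule.finrank_mono inf_le_right
    rcases Nat.eq_zero_or_pos k with h0 | h0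
    · left; subst h0; omega
    · right
      refine ⟨le_trans (by simpa using Nat.mul_le_mul_right a h0) (hk.ge.trans' le_add_self), ?_⟩
      rw [hk, Nat.add_mul_mod_self_right]
      exact (Nat.mod_le _ _).trans hle
  · intro h
    obtain ⟨k, hks, hka, hkc⟩ : ∃ k, k ≤ s ∧ k * a ≤ m ∧ m - k * a ≤ Module.finrank F C := by
      rcases h with h | ⟨h, h'⟩
      · exact ⟨0, Nat.zero_le _, by simp, by omega⟩
      · by_cases hms : m / a ≤ s
        · refine ⟨m / a, hms, Nat.div_mul_le_self _ _, ?_⟩
          have := Nat.mod_add_div m a
          rw [mul_comm] at this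
          omega
        · refine ⟨s, le_rfl, le_trans ?_ (Nat.div_mul_le_self m a), by omega⟩
          exact Nat.mul_le_mul_right a (Nat.le_of_not_le hms)
    obtain ⟨S, -, hScard⟩ := Finset.exists_subset_card_eq (s := (Finset.univ : Finset (Fin s)))
      (by simpa using hks)
    obtain ⟨D, hDC, hDdim⟩ : ∃ D ≤ C, Module.finrank F D = m - k * a := by
      set b := Module.finBasis F C
      set D' := Submodule.span F (Set.range (b ∘ Fin.castLE hkc)) with hD'
      refine ⟨D'.map C.subtype, Submodule.map_subtype_le _ _, ?_⟩
      rw [Submodule.finrank_map_subtype_eq, hD',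
        finrank_span_eq_card (b.linearIndependent.comp _ (Fin.castLE_injective hkc)), Fintype.card_fin]
    refine ⟨D ⊔ S.sup U, ?_, ?_⟩
    · have h2 := Submodule.finrank_sup_add_finrank_inf_eq C (S.sup U)
      have h3 := Submodule.finrank_sup_add_finrank_inf_eq D (S.sup U)
      have hz : C ⊓ S.sup U = ⊥ := by
        have := hind none
        rw [disjoint_iff] at this
        refine le_bot_iff.1 (le_trans (inf_le_inf_left _ (Finset.sup_le fun k hk => ?_)) this.le)
        exact le_iSup_of_le (some k) (le_iSup_of_le (by simp) le_rfl)
      have hz' : D ⊓ S.sup U = ⊥ := le_bot_iff.1 (hz ▸ inf_le_inf_right _ hDC)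
      have hX := hXdim S
      rw [hz, finrank_bot, add_zero] at h2
      rw [hz', finrank_bot, add_zero] at h3
      simp only [X] at hX
      rw [hScard] at hX
      omega
    · rw [Submodule.map_sup]
      refine sup_le_sup ?_ ?_
      · rintro _ ⟨x, hx, rfl⟩
        rw [hCinv x (hDC hx)]; exact hx
      · clear hScard
        induction S using Finset.induction_on with
        | empty => simp
        | insert j S _ ih =>
          rw [Finset.sup_insert, Submodule.map_sup]
          exact sup_le_sup (hUinv j) ih

end Cfsg.Agent.S5952
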