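import Cfsg.Statements.S5953
import Mathlib
import Cfsg.Agent.Lib.Elusive.HermTI

set_option autoImplicit false
open scoped MatrixGroups
open Cfsg

namespace Cfsg.Agent.S5953

/-- Elements of prime order of PSU_n(q) with no fixed totally isotropic `m`-space. Here `T = PSU_n(q)` (`n ≥ 3`, `(n, q) ≠ (3, 2)`), realised through the matrices of determinant 1 over the field `F` with `q²` elements preserving the Hermitian form `h(u, v) = Σ u_i v_i^q`; an element of `T` of prime order `r` is such a matrix `x` with `x^r` scalar and `x` not scalar. For `r ≠ p` let `i` be the multiplicative order of `q` modulo `r`, `b = i/2` for `i` even and `b = i` for `i` odd, `c = i, i/2, 2i` according as `i ≡ 0, 2 (mod 4)` or `i` odd, and write `k = n mod c`, `ℓ = m mod b`, `ℓ' = m mod c`, `n' = ⌊n/b⌋`, `m' = ⌊m/b⌋`, `s = (r−1)/b`; `(a)_r` is the `r`-part of `a`. Let `1 ≤ m ≤ n/2` and let `r` be a prime dividing the number of totally isotropic `m`-spaces. Then every element of `T` of order `r` fixes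 a totally isotropic `m`-space if and only if either (i) `r = 2`, `p ≠ 2`, and (`m < n/2` or `(q+1)_2 ≤ (n)_2`); or (ii) `r ≠ p`, `r > 2`, `b ≤ m`, `k ≥ 2ℓ`, and either `i ≢ 2 (mod 4)`, or `i ≡ 2 (mod 4)`, `n' − 2m' ≥ s` and (`i > 2`, or `i = 2` and (`r ∣ m` or `(q+1)_r ≥ (n)_r`)). -/
theorem result {F : Type*} [Field F] [Fintype F] {p : ℕ} [Fact p.Prime] [CharP F p] {q : ℕ} (hq : Fintype.card F = q ^ 2)
    (n m : ℕ) (hn : 3 ≤ n) (hT : (n, q) ≠ (3, 2)) (hm : 1 ≤ m) (hmn : 2 * m ≤ n)
    (r : ℕ) [Fact r.Prime]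
    (hrΩ : r ∣ Nat.card {W : Submodule F (Fin n → F) // Module.finrank F ↥W = m ∧ (∀ u ∈ W, ∀ v ∈ W, Cfsg.hermForm n F q u v = 0)})
    (i b c : ℕ) (hi : i = orderOf (q : ZMod r)) (hb : b = if Even i then i / 2 else i)
    (hc : c = if i % 4 = 0 then i else if i % 4 = 2 then i / 2 else 2 * i) :
    (∀ x : Matrix.SpecialLinearGroup (Fin n) F, x ∈ Cfsg.SU n F q →
      (∃ z : F, ((x ^ r : Matrix.SpecialLinearGroup (Fin n) F) : Matrix (Fin n) (Fin n) F) = z • (1 : Matrix (Fin n) (Fin n) F)) →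
      (∀ z : F, (x : Matrix (Fin n) (Fin n) F) ≠ z • (1 : Matrix (Fin n) (Fin n) F)) →
      ∃ W : Submodule F (Fin n → F), Module.finrank F ↥W = m ∧ (∀ u ∈ W, ∀ v ∈ W, Cfsg.hermForm n F q u v = 0) ∧
        W.map (Matrix.toLin' (x : Matrix (Fin n) (Fin n) F)) ≤ W) ↔
    ((r = 2 ∧ p ≠ 2 ∧ (2 * m < n ∨ padicValNat 2 (q + 1) ≤ padicValNat 2 n)) ∨
     (r ≠ p ∧ 2 < r ∧ b ≤ m ∧ 2 * (m % b) ≤ n % c ∧
       (i % 4 ≠ 2 ∨ (i % 4 = 2 ∧ (r - 1) / b + 2 * (m / b) ≤ n / b ∧
         (2 < i ∨ (i = 2 ∧ (r ∣ m ∨ padicValNat r n ≤ padicValNat r (q + 1)))))))) := by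
  classical
  open Cfsg.Agent.Lib.Forms Cfsg.Agent.Lib.Elusive in
  have hr : r.Prime := Fact.out
  set B := Cfsg.Agent.Lib.Forms.hermSesq hq n with hB
  have hgood : Cfsg.Agent.Lib.Forms.IsGoodForm B 1 := Cfsg.Agent.Lib.Forms.hermSesq_goodForm hq
  have hσ := Cfsg.Agent.Lib.Forms.qPowHom_ne_id hq
  have hq2 : 2 ≤ q := Cfsg.Agent.Lib.Forms.two_le_of_card_sq hq
  have hBs : ∀ u v, B u v = Cfsg.hermForm n F q v u := Cfsg.Agent.Lib.Forms.hermSesq_apply hq
  have hdim : Module.finrank F (Fin n → F) = n := Module.finrank_fin_fun F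
  have hn0 : 0 < n := by omega
  haveI : Nonempty (Fin n) := ⟨⟨0, hn0⟩⟩
  haveI : Nontrivial (Fin n → F) := Module.nontrivial_of_finrank_pos (R := F) (by omega)
  by_cases hrp : r = p
  · subst hrp
    exact absurd hrΩ (Cfsg.Agent.Lib.Elusive.not_dvd_natCard_herm_iso_char hq hmn)
  let P : Module.End F (Fin n → F) → Prop := fun f => ∃ W : Submodule F (Fin n → F),
    Module.finrank F ↥W = m ∧ Cfsg.Agent.Lib.Elusive.Iso B W ∧ Cfsg.Agent.Lib.Elusive.Inv f W
  have hisoiff : ∀ W : Submodule F (Fin n → F), (∀ u ∈ W, ∀ v ∈ W, Cfsg.hermForm n F q u v = 0) ↔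
      Cfsg.Agent.Lib.Elusive.Iso B W := fun W =>
    ⟨fun h u hu v hv => (hBs u v).trans (h v hv u hu), fun h u hu v hv => (hBs v u).symm.trans (h v hv u hu)⟩
  have hP : ∀ f : Module.End F (Fin n → F), (∃ W : Submodule F (Fin n → F), Module.finrank F ↥W = m ∧
      (∀ u ∈ W, ∀ v ∈ W, Cfsg.hermForm n F q u v = 0) ∧ W.map f ≤ W) ↔ P f := fun f =>
    exists_congr fun W => by rw [hisoiff, Cfsg.Agent.Lib.Elusive.inv_iff_map_le]
  have hPs : ∀ (d : F) f, d ≠ 0 → (P (d • f) ↔ P f) := fun d f hd =>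
    exists_congr fun W => by rw [Cfsg.Agent.Lib.Elusive.inv_smul_iff hd]
  simp only [hP]
  refine (Cfsg.Agent.Lib.Elusive.forall_SU_iff hq P).trans ?_
  obtain ⟨e₀, he₀, hqe⟩ := Cfsg.Agent.Lib.Elusive.exists_prime_pow_q (p := p) hq
  have hrF : (r : F) ≠ 0 := by
    rw [Ne, CharP.cast_eq_zero_iff F p]
    exact fun h => hrp (((Nat.prime_dvd_prime_iff_eq Fact.out hr).1 h).symm)
  have hparts : ∀ y : Module.End F (Fin n → F), y ^ r = 1 → (∀ u v, B (y u) (y v) = B u v) →
      Cfsg.Agent.Lib.Elusive.Nd B (Cfsg.Agent.Lib.Elusive.fix1 y) ∧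
        Cfsg.Agent.Lib.Elusive.Nd B (LinearMap.ker (Cfsg.Agent.Lib.Elusive.avg y r)) := by
    intro y hy hyp
    obtain ⟨h1, h2⟩ := Cfsg.Agent.Lib.Elusive.nd_parts hgood hy hyp hrF (T := ⊤)
      (Cfsg.Agent.Lib.Elusive.nd_top hgood) (fun v _ => Submodule.mem_top)
    rw [top_inf_eq] at h1 h2
    exact ⟨h1, h2⟩
  -- a subspace assembled from the fixed space and the moved part
  have hbuild : ∀ y : Module.End F (Fin n → F), y ^ r = 1 → (∀ u v, B (y u) (y v) = B u v) →
      ∀ a, 2 * a ≤ Module.finrank F ↥(Cfsg.Agent.Lib.Elusive.fix1 y) →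
        (∃ U, U ≤ LinearMap.ker (Cfsg.Agent.Lib.Elusive.avg y r) ∧ Cfsg.Agent.Lib.Elusive.Inv y U ∧
          Cfsg.Agent.Lib.Elusive.Iso B U ∧ Module.finrank F ↥U + a = m) → P y := by
    rintro y hy hyp a ha ⟨U, hUR, hUi, hUn, hUd⟩
    obtain ⟨A, hAf, hAn, hAd⟩ := Cfsg.Agent.Lib.Elusive.exists_herm_iso_sub hgood hσ (hparts y hy hyp).1 ha
    refine ⟨A ⊔ U, ?_, Cfsg.Agent.Lib.Elusive.iso_sup hgood hAn hUn (fun a ha u hu =>
      Cfsg.Agent.Lib.Elusive.fix1_perp_ker hgood hyp hrF (hAf ha) (hUR hu)),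
      Cfsg.Agent.Lib.Elusive.inv_sup (Cfsg.Agent.Lib.Elusive.inv_of_le_fix1 hAf) hUi⟩
    have h0 : A ⊓ U = ⊥ := le_bot_iff.1 ((inf_le_inf hAf hUR).trans
      (Cfsg.Agent.Lib.Elusive.fix1_inf_ker_avg (y := y) hrF).le)
    have h1 := Submodule.finrank_sup_add_finrank_inf_eq A U
    rw [h0, finrank_bot, add_zero, hAd] at h1
    omega
  by_cases hr2 : r = 2
  · subst hr2
    have hp2 : p ≠ 2 := fun e => hrp e.symm
    have h2 : (2 : F) ≠ 0 := by exact_mod_cast hrF
    simp only [ne_eq, hp2, false_and, false_or, true_and, not_false_eq_true, lt_irrefl, and_false, or_false]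
    have hneg : ∀ (y : Module.End F (Fin n → F)), ∀ v ∈ LinearMap.ker (Cfsg.Agent.Lib.Elusive.avg y 2), y v = -v := by
      intro y v hv
      have h3 := LinearMap.mem_ker.1 hv
      rw [Cfsg.Agent.Lib.Elusive.avg_apply, smul_eq_zero] at h3
      have h4 := h3.resolve_left (inv_ne_zero hrF)
      rw [Finset.sum_range_succ, Finset.sum_range_succ, Finset.sum_range_zero, zero_add, pow_zero, pow_one] at h4
      exact eq_neg_of_add_eq_zero_right h4
    constructor
    · intro hall
      by_contra hcon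
      push Not at hcon
      obtain ⟨hge, hlt⟩ := hcon
      obtain ⟨d, hd1, hdn⟩ := (Cfsg.Agent.Lib.Elusive.exists_pow_eq_neg_one_iff hq h2 (n := n) (by omega)).2 hlt
      let a₀ : Fin n := ⟨0, hn0⟩
      let w : Fin n → F := fun a => if a = a₀ then -d else d
      have hw : ∀ a, w a ^ (q + 1) = 1 := fun a => by
        simp only [w]
        split_ifs
        · rw [neg_pow, hd1, Cfsg.Agent.Lib.Elusive.neg_one_norm hq, one_mul]
        · exact hd1
      have hfp := Cfsg.Agent.Lib.Elusive.diagEnd_pres hq w hw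
      have hd0 : d ≠ 0 := fun h0 => by rw [h0, zero_pow (by omega)] at hd1; exact zero_ne_one hd1
      have hdet : LinearMap.det (Cfsg.Agent.Lib.Elusive.diagEnd w) = 1 := by
        rw [Cfsg.Agent.Lib.Elusive.det_diagEnd, ← Finset.mul_prod_erase _ _ (Finset.mem_univ a₀),
          Finset.prod_congr rfl (fun a ha => (if_neg (Finset.ne_of_mem_erase ha) : w a = d)), Finset.prod_const,
          Finset.card_erase_of_mem (Finset.mem_univ a₀), Finset.card_univ, Fintype.card_fin]
        simp only [w, if_pos]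
        rw [neg_mul, ← pow_succ', Nat.sub_add_cancel (by omega), hdn, neg_neg]
      obtain ⟨W, hWd, hWi, hW⟩ := hall _ hdet ⟨d ^ 2, by
          rw [Cfsg.Agent.Lib.Elusive.diagEnd_pow]
          refine LinearMap.ext fun v => funext fun a => ?_
          show w a ^ 2 * v a = d ^ 2 * v a
          simp only [w]
          split_ifs <;> ring⟩
        (fun c hc => by
          have h5 : ∀ a, w a = c := fun a => by
            have h1 := congrFun (LinearMap.congr_fun hc (Pi.single a 1)) a
            simpa [Cfsg.Agent.Lib.Elusive.diagEnd] using h1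
          have h6 := (h5 a₀).trans (h5 ⟨1, by omega⟩).symm
          simp only [w, if_pos, a₀, Fin.mk.injEq, one_ne_zero, if_false] at h6
          exact (mul_ne_zero h2 hd0) (by linear_combination -h6))
        hfp
      let e : Fin n → F := Pi.single a₀ 1
      have hzq : (0 : F) ^ q = 0 := zero_pow (by omega)
      have he : ∀ v, B e v = v a₀ := fun v => by
        simp [hBs, Cfsg.hermForm, e, Pi.single_apply, ite_pow, hzq]
      have hee : B e e = 1 := by rw [he]; simp [e]
      have hLn : Cfsg.Agent.Lib.Elusive.Nd B (F ∙ e) := by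
        intro u hu hz
        obtain ⟨l, rfl⟩ := Submodule.mem_span_singleton.1 hu
        have h1 := hz e (Submodule.mem_span_singleton_self e)
        rw [map_smulₛₗ, LinearMap.smul_apply, hee, smul_eq_mul, mul_one] at h1
        rw [(map_eq_zero _).1 h1, zero_smul]
      have hle : W ≤ Cfsg.Agent.Lib.Forms.perp B (F ∙ e) := by
        intro v hv x hx
        obtain ⟨l, rfl⟩ := Submodule.mem_span_singleton.1 hx
        have hu : Cfsg.Agent.Lib.Elusive.diagEnd w v - d • v ∈ W := W.sub_mem (hW v hv) (W.smul_mem d hv)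
        have heq : Cfsg.Agent.Lib.Elusive.diagEnd w v - d • v = (-(2 * d) * v a₀) • e := by
          funext a
          show w a * v a - d * v a = -(2 * d) * v a₀ * e a
          by_cases ha : a = a₀
          · subst ha; simp [w, e]; ring
          · simp [w, e, ha]
        rw [heq] at hu
        have h1 := hWi _ hu _ hu
        simp only [map_smulₛₗ, LinearMap.smul_apply, RingHom.id_apply, smul_eq_mul, hee, mul_one] at h1
        have h3 : -(2 * d) * v a₀ = 0 := by
          rcases mul_eq_zero.1 h1 with h4 | h4 <;> first | exact (map_eq_zero _).1 h4 | exact h4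
        rw [map_smulₛₗ, LinearMap.smul_apply, he,
          (mul_eq_zero.1 h3).resolve_left (neg_ne_zero.2 (mul_ne_zero h2 hd0)), smul_zero]
      have h3 := Cfsg.Agent.Lib.Elusive.iso_finrank_le hgood (Cfsg.Agent.Lib.Elusive.nd_perp hgood hLn) hle hWi
      have h4 := hgood.finrank_add_finrank_perp (F ∙ e)
      rw [finrank_span_singleton (fun h0 : e = 0 => by rw [h0, map_zero] at hee; exact zero_ne_one hee), hdim] at h4
      omega
    · intro hcond f hdet ⟨c, hc⟩ _ hfp
      have hc1 := Cfsg.Agent.Lib.Elusive.norm_scalar hq hn0 hfp hc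
      have hc0 : c ≠ 0 := fun h0 => by rw [h0, zero_pow (by omega)] at hc1; exact zero_ne_one hc1
      obtain ⟨D, hD⟩ : ∃ D : F, D ^ 2 = c := by
        obtain ⟨G, hG⟩ := IsCyclic.exists_monoid_generator (α := Fˣ)
        obtain ⟨a, ha⟩ := Submonoid.mem_powers_iff _ _ |>.1 (hG (Units.mk0 c hc0))
        have hev : Even a := by
          have h5 : G ^ (a * (q + 1)) = 1 := Units.ext (by
            rw [pow_mul, ha, Units.val_pow_eq_pow_val, Units.val_mk0, hc1, Units.val_one])
          have h6 := orderOf_dvd_of_pow_eq_one h5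
          rw [orderOf_eq_card_of_forall_mem_zpowers fun x => mem_powers_iff_mem_zpowers.1 (hG x), Nat.card_units,
            Nat.card_eq_fintype_card, hq, show q ^ 2 - 1 = (q - 1) * (q + 1) by
              rw [mul_comm]; simpa using Nat.sq_sub_sq q 1] at h6
          have h7 := Nat.dvd_of_mul_dvd_mul_right (by omega) h6
          have hqodd : 2 ∣ q - 1 := by
            rw [hqe]
            have : (p ^ e₀) % 2 = 1 :=
              Nat.odd_iff.1 (((Fact.out : p.Prime).odd_of_ne_two hp2).pow)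
            omega
          exact even_iff_two_dvd.2 (hqodd.trans h7)
        obtain ⟨t, rfl⟩ := hev
        exact ⟨((G ^ t : Fˣ) : F), by rw [← Units.val_pow_eq_pow_val, ← pow_mul, mul_two, ha]; rfl⟩
      have hD0 : D ≠ 0 := fun h0 => hc0 (by rw [← hD, h0, zero_pow two_ne_zero])
      have hf : f = D • (D⁻¹ • f) := by rw [smul_smul, mul_inv_cancel₀ hD0, one_smul]
      rw [hf, hPs D _ hD0]
      set y := D⁻¹ • f with hy'
      have hy : y ^ 2 = 1 := by
        rw [hy', _root_.smul_pow, hc, smul_smul, _root_.inv_pow, hD, inv_mul_cancel₀ hc0, one_smul]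
      have hsum := Cfsg.Agent.Lib.Elusive.finrank_fix1_add (r := 2) hy hrF
      rw [hdim] at hsum
      have hDN : (D ^ (q + 1)) ^ 2 = 1 := by rw [← pow_mul, mul_comm, pow_mul, hD, hc1]
      rcases sq_eq_one_iff.1 hDN with hN | hN
      · -- an isometric involution
        have hyp : ∀ u v, B (y u) (y v) = B u v :=
          Cfsg.Agent.Lib.Elusive.smul_pres hq (by rw [_root_.inv_pow, hN, inv_one]) hfp
        set a := Module.finrank F ↥(Cfsg.Agent.Lib.Elusive.fix1 y)
        set b' := Module.finrank F ↥(LinearMap.ker (Cfsg.Agent.Lib.Elusive.avg y 2))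
        have hroom : m ≤ a / 2 + b' / 2 := by
          rcases lt_or_eq_of_le hmn with hlt | heq
          · omega
          · have hbev : Even b' := by
              by_contra hbo
              have hcompl : IsCompl (Cfsg.Agent.Lib.Elusive.fix1 y)
                  (LinearMap.ker (Cfsg.Agent.Lib.Elusive.avg y 2)) := by
                have h5 := Cfsg.Agent.Lib.Elusive.fix1_inf_ker_avg (y := y) hrF
                refine IsCompl.of_eq h5 (Submodule.eq_top_of_finrank_eq ?_)
                have h6 := Submodule.finrank_sup_add_finrank_inf_eq (Cfsg.Agent.Lib.Elusive.fix1 y)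
                  (LinearMap.ker (Cfsg.Agent.Lib.Elusive.avg y 2))
                rw [h5, finrank_bot, add_zero] at h6
                exact h6.trans (hsum.trans hdim.symm)
              have hdety : LinearMap.det y = -1 := by
                have he : (Submodule.prodEquivOfIsCompl _ _ hcompl).conj
                    ((1 : Module.End F ↥(Cfsg.Agent.Lib.Elusive.fix1 y)).prodMap
                      ((-1 : F) • (1 : Module.End F ↥(LinearMap.ker (Cfsg.Agent.Lib.Elusive.avg y 2))))) = y := by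
                  refine LinearMap.ext fun v => ?_
                  obtain ⟨⟨u, w⟩, rfl⟩ := (Submodule.prodEquivOfIsCompl _ _ hcompl).surjective v
                  rw [LinearEquiv.conj_apply_apply, LinearEquiv.symm_apply_apply, Submodule.coe_prodEquivOfIsCompl',
                    Submodule.coe_prodEquivOfIsCompl', map_add, Cfsg.Agent.Lib.Elusive.mem_fix1.1 u.2, hneg y _ w.2]
                  simp
                rw [← he, LinearEquiv.conj_apply, LinearMap.comp_assoc, LinearMap.det_conj, LinearMap.det_prodMap,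
                  map_one, one_mul, Cfsg.Agent.Lib.Elusive.det_smul_one]
                exact (Nat.not_even_iff_odd.1 hbo).neg_one_pow
              rw [hy', LinearMap.det_smul, hdet, mul_one, hdim] at hdety
              have hDn : D ^ n = -1 := by
                rw [← inv_inv (D ^ n), ← _root_.inv_pow, hdety, inv_neg_one]
              have h7 := (Cfsg.Agent.Lib.Elusive.exists_pow_eq_neg_one_iff hq h2 (n := n) (by omega)).1 ⟨D, hN, hDn⟩
              rcases hcond with h8 | h8 <;> omega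
            rw [Nat.even_iff] at hbev
            omega
        obtain ⟨U, hUR, hUi, hUd⟩ := Cfsg.Agent.Lib.Elusive.exists_herm_iso_sub hgood hσ (hparts y hy hyp).2
          (a := m - min m (a / 2)) (by omega)
        refine hbuild y hy hyp (min m (a / 2)) (by omega) ⟨U, hUR, fun v hv => ?_, hUi, by omega⟩
        rw [hneg y v (hUR hv)]
        exact U.neg_mem hv
      · -- an anti-isometric involution: its eigenspaces are totally isotropic
        have hyn : ∀ u v, B (y u) (y v) = -B u v := fun u v => by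
          simp only [hy', LinearMap.smul_apply, map_smulₛₗ, RingHom.id_apply, smul_eq_mul,
            Cfsg.Agent.Lib.Forms.qPowHom_apply]
          rw [← mul_assoc, ← pow_succ', _root_.inv_pow, hN, inv_neg_one, neg_one_mul,
            show B (f u) (f v) = B u v from hfp u v]
        have hI1 : Cfsg.Agent.Lib.Elusive.Iso B (Cfsg.Agent.Lib.Elusive.fix1 y) := fun u hu v hv => by
          have h5 := hyn u v
          rw [Cfsg.Agent.Lib.Elusive.mem_fix1.1 hu, Cfsg.Agent.Lib.Elusive.mem_fix1.1 hv] at h5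
          have h7 : (2 : F) * B u v = 0 := by linear_combination h5
          exact (mul_eq_zero.1 h7).resolve_left h2
        have hI2 : Cfsg.Agent.Lib.Elusive.Iso B (LinearMap.ker (Cfsg.Agent.Lib.Elusive.avg y 2)) := fun u hu v hv => by
          have h5 := hyn u v
          rw [hneg y u hu, hneg y v hv, map_neg, map_neg, LinearMap.neg_apply, neg_neg] at h5
          have h7 : (2 : F) * B u v = 0 := by linear_combination h5
          exact (mul_eq_zero.1 h7).resolve_left h2
        have hle := Cfsg.Agent.Lib.Elusive.iso_finrank_le hgood (T := ⊤) (Cfsg.Agent.Lib.Elusive.nd_top hgood)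
          le_top hI2
        rw [finrank_top, hdim] at hle
        obtain ⟨g, hg⟩ := exists_linearIndependent_of_le_finrank (R := F)
          (show m ≤ Module.finrank F ↥(Cfsg.Agent.Lib.Elusive.fix1 y) by omega)
        refine ⟨Submodule.span F (Set.range fun l => (g l : Fin n → F)),
          (finrank_span_eq_card (hg.map' (Submodule.subtype _) (Submodule.ker_subtype _))).trans (Fintype.card_fin m),
          hI1.mono (Submodule.span_le.2 (by rintro _ ⟨l, rfl⟩; exact (g l).2)),
          Cfsg.Agent.Lib.Elusive.inv_of_le_fix1 (Submodule.span_le.2 (by rintro _ ⟨l, rfl⟩; exact (g l).2))⟩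
  have hr3 : 2 < r := lt_of_le_of_ne hr.two_le (Ne.symm hr2)
  simp only [ne_eq, hrp, hr2, false_and, false_or, not_false_eq_true, true_and, hr3]
  obtain ⟨hbQ, hipos, hbs, hdvdGU, hSD, hNSD, hi2⟩ :=
    Cfsg.Agent.Lib.Elusive.unitary_blockSize hq (p := p) hr hr2 hrp hi hb hc
  have hbpos : 0 < b := hbQ ▸ Cfsg.Agent.Lib.Elusive.ordq_pos hr hrF
  have hcpos : 0 < c := by rw [hc]; split_ifs <;> omega
  have hci2 : c ≤ 2 * b := by
    by_cases h4 : i % 4 = 2
    · rw [(hSD h4).1]; omega
    · rw [(hNSD h4).1]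
  set M := n / c with hM
  set k := n % c with hk
  have hMk : M * c + k = n := by rw [hM, hk]; exact Nat.div_add_mod' _ _
  have hkc : k < c := Nat.mod_lt _ hcpos
  have hsuff : 2 * (m % b) ≤ k → (i % 4 ≠ 2 ∨ (r - 1) / b + 2 * (m / b) ≤ n / b) →
      ∀ y : Module.End F (Fin n → F), y ^ r = 1 → (∀ u v, B (y u) (y v) = B u v) → P y := by
    intro hk2 hcond y hy hyp
    obtain ⟨N, hNR, hNsum, -⟩ := Cfsg.Agent.Lib.Elusive.exists_blocks hgood hr hrF hbs hy hyp
    rw [hdim] at hNsum
    have hRn := (hparts y hy hyp).2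
    have hNM : N ≤ M := by
      rw [hM, Nat.le_div_iff_mul_le hcpos]; omega
    obtain ⟨D, hD⟩ : ∃ D, M = N + D := ⟨M - N, by omega⟩
    rw [hD, add_mul] at hMk
    have h4 := Nat.div_add_mod' m b
    obtain ⟨e, he, U, hU1, hU2, hU3, hU4⟩ : ∃ e, (e * b ≤ m ∧ 2 * (m - e * b) ≤
        Module.finrank F ↥(Cfsg.Agent.Lib.Elusive.fix1 y)) ∧
        ∃ U, U ≤ LinearMap.ker (Cfsg.Agent.Lib.Elusive.avg y r) ∧ Cfsg.Agent.Lib.Elusive.Inv y U ∧
          Cfsg.Agent.Lib.Elusive.Iso B U ∧ Module.finrank F ↥U = e * b := by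
      by_cases h42 : i % 4 = 2
      · obtain ⟨hcb, hE⟩ := hSD h42
        have hcond' : (r - 1) / b + 2 * (m / b) ≤ M := by
          rw [hM, hcb]; exact hcond.resolve_left (fun h => h h42)
        rw [hcb] at hNR hNsum hMk
        set t := (r - 1) / b with ht
        refine ⟨min (m / b) ((N + 1 - t) / 2), ⟨?_, ?_⟩, ?_⟩
        · exact (Nat.mul_le_mul_right b (min_le_left _ _)).trans (Nat.div_mul_le_self m b)
        · rcases min_cases (m / b) ((N + 1 - t) / 2) with ⟨e1, -⟩ | ⟨e1, e2⟩
          · rw [e1]; omega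
          · rw [e1]
            obtain ⟨u, hu⟩ : ∃ u, m / b = (N + 1 - t) / 2 + u := ⟨m / b - (N + 1 - t) / 2, by omega⟩
            have h9 : 2 * u ≤ D := by omega
            have h10 := Nat.mul_le_mul_right b h9
            rw [mul_assoc] at h10
            rw [hu, add_mul] at h4
            omega
        · by_cases hbig : t ≤ N + 1
          · obtain ⟨U, h1, h2', h3, h5⟩ := Cfsg.Agent.Lib.Elusive.selfDual_iso_sub hgood hr hrF hy hyp hE hr2
              (min (m / b) ((N + 1 - t) / 2)) _ N hRn Cfsg.Agent.Lib.Elusive.inv_ker_avg le_rfl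
              (by rw [hNR, hbQ]) (by rw [← hbQ]; omega)
            exact ⟨U, h1, h2', h3, by rw [h5, hbQ]⟩
          · have h0 : (N + 1 - t) / 2 = 0 := by omega
            exact ⟨⊥, bot_le, Cfsg.Agent.Lib.Elusive.inv_bot y, Cfsg.Agent.Lib.Elusive.iso_bot, by
              rw [h0, Nat.min_zero, zero_mul, finrank_bot]⟩
      · obtain ⟨hcb, hn'⟩ := hNSD h42
        rw [hcb] at hNR hNsum hMk
        obtain ⟨N', hN', hall⟩ := Cfsg.Agent.Lib.Elusive.notSelfDual_blocks hgood hr hrF hy hyp hn' _ hRn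
          Cfsg.Agent.Lib.Elusive.inv_ker_avg le_rfl
        have hNN : N' = N := by
          rw [← hbQ] at hN'
          refine Nat.eq_of_mul_eq_mul_left (show 0 < 2 * b by omega) ?_
          rw [mul_comm (2 * b) N, ← hNR, hN']; ring
        subst hNN
        rw [show N' * (2 * b) = 2 * (N' * b) by ring] at hNsum hMk
        rw [show D * (2 * b) = 2 * (D * b) by ring] at hMk
        refine ⟨min (m / b) N', ⟨?_, ?_⟩, ?_⟩
        · exact (Nat.mul_le_mul_right b (min_le_left _ _)).trans (Nat.div_mul_le_self m b)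
        · rcases min_cases (m / b) N' with ⟨e1, -⟩ | ⟨e1, e2⟩ <;> rw [e1] <;> omega
        · obtain ⟨U, h1, h2', h3, h5⟩ := (hall _ (min_le_right (m / b) N')).1
          exact ⟨U, h1, h2', h3, by rw [h5, hbQ]⟩
    exact hbuild y hy hyp (m - e * b) he.2 ⟨U, hU1, hU2, hU3, by omega⟩
  by_cases hi2' : i = 2
  · have hb1 : b = 1 := by rw [hb, hi2']; rfl
    have hc1 : c = 1 := by rw [hc, hi2']; rfl
    have hrq : r ∣ q + 1 := hi2.1 hi2'
    simp only [hb1, hi2', Nat.div_one, Nat.mod_one, mul_zero, zero_le, true_and, lt_irrefl, false_or,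
      show (2 : ℕ) % 4 = 2 from rfl, ne_eq, not_true_eq_false, false_and]
    haveI : Fact r.Prime := ⟨hr⟩
    constructor
    · intro hall
      refine ⟨hm, ?_, ?_⟩
      · by_contra hcon
        obtain ⟨f, hdet, hfr, hns, hfp, hbound⟩ := Cfsg.Agent.Lib.Elusive.exists_diag_witness hq (n := n) (m := m)
          hr hr2 hrq (by omega) hm (by omega)
        obtain ⟨W, hWd, hWi, hW⟩ := hall f hdet ⟨1, by rw [hfr, one_smul]⟩ hns hfp
        have := hbound W hW hWi
        omega
      · by_contra hcon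
        push Not at hcon
        obtain ⟨hrm, hlt⟩ := hcon
        obtain ⟨k', hk'⟩ : r ∣ n := by
          by_contra hnd
          rw [padicValNat.eq_zero_of_not_dvd hnd] at hlt
          omega
        have hk'0 : k' ≠ 0 := fun h0 => by rw [h0, mul_zero] at hk'; omega
        rw [hk', padicValNat.mul hr.ne_zero hk'0, padicValNat.self hr.one_lt] at hlt
        obtain ⟨z, hz1, hzk, hzd⟩ :=
          (Cfsg.Agent.Lib.Elusive.exists_norm_nonpower_iff hq hr hr2 hrq hk'0).2 (by omega)
        obtain ⟨f, hf, hfp⟩ := Cfsg.Agent.Lib.Elusive.exists_monomial hq (n := n) hr.pos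
          (k := k') (hk'.trans (mul_comm _ _)) hz1
        have hns : Cfsg.Agent.Lib.Elusive.NonSplit r f := ⟨z, hf, hzd⟩
        obtain ⟨-, ⟨z', hz', -, hdet⟩, -⟩ := Cfsg.Agent.Lib.Elusive.NonSplit.structure' hr hns
        obtain rfl : z' = z :=
          smul_left_injective F (one_ne_zero (α := Module.End F (Fin n → F))) (hz'.symm.trans hf)
        rw [hdim, show n / r = k' by rw [hk', Nat.mul_div_cancel_left _ hr.pos],
          ((hr.odd_of_ne_two hr2).add_one).neg_one_pow, one_mul, hzk] at hdet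
        obtain ⟨W, hWd, -, hW⟩ := hall f hdet ⟨z', hf⟩ (fun a ha => hzd a (by
          rw [ha, _root_.smul_pow, one_pow] at hf
          exact smul_left_injective F (one_ne_zero (α := Module.End F (Fin n → F))) hf)) hfp
        exact hrm (hWd ▸ hns.dvd_finrank hr hW)
    · rintro ⟨-, hcond1, hcond⟩ f hdet ⟨z, hz⟩ _ hfp
      have hz1 := Cfsg.Agent.Lib.Elusive.norm_scalar hq hn0 hfp hz
      have hz0 : z ≠ 0 := fun h0 => by rw [h0, zero_pow (by omega)] at hz1; exact zero_ne_one hz1
      by_cases hsp : ∃ d : F, d ^ r = z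
      · obtain ⟨d, hd⟩ := hsp
        have hd0 : d ≠ 0 := fun h0 => hz0 (by rw [← hd, h0, zero_pow hr.ne_zero])
        have hd1 : d ^ (q + 1) = 1 := by
          have h5 : (d ^ (q + 1)) ^ r = 1 := by rw [← pow_mul, mul_comm, pow_mul, hd, hz1]
          have h6 : (d ^ (q + 1)) ^ (q - 1) = 1 := by
            rw [← pow_mul, show (q + 1) * (q - 1) = Fintype.card F - 1 by
              rw [hq]; simpa using (Nat.sq_sub_sq q 1).symm]
            exact FiniteField.pow_card_sub_one_eq_one d hd0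
          have h7 := pow_gcd_eq_one.2 ⟨h5, h6⟩
          have hnd : ¬ r ∣ q - 1 := fun h1 => by
            have h9 : r ∣ 2 := by
              have := Nat.dvd_sub hrq h1
              rwa [show q + 1 - (q - 1) = 2 by omega] at this
            exact hr2 ((Nat.prime_dvd_prime_iff_eq hr Nat.prime_two).1 h9)
          rwa [((Nat.Prime.coprime_iff_not_dvd hr).2 hnd).gcd_eq_one, pow_one] at h7
        have hf : f = d • (d⁻¹ • f) := by rw [smul_smul, mul_inv_cancel₀ hd0, one_smul]
        rw [hf, hPs d _ hd0]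
        exact hsuff (by rw [hb1, Nat.mod_one, mul_zero]; exact Nat.zero_le _)
          (Or.inr (by rw [hb1, Nat.div_one, Nat.div_one, Nat.div_one]; exact hcond1)) _
          (by rw [_root_.smul_pow, hz, smul_smul, _root_.inv_pow, hd, inv_mul_cancel₀ hz0, one_smul])
          (Cfsg.Agent.Lib.Elusive.smul_pres hq (by rw [_root_.inv_pow, hd1, inv_one]) hfp)
      · push Not at hsp
        have hns : Cfsg.Agent.Lib.Elusive.NonSplit r f := ⟨z, hz, hsp⟩
        have hrm : r ∣ m := hcond.resolve_right fun harith => by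
          obtain ⟨⟨k', hk'⟩, ⟨z', hz', -, hdet'⟩, -⟩ := Cfsg.Agent.Lib.Elusive.NonSplit.structure' hr hns
          obtain rfl : z' = z :=
            smul_left_injective F (one_ne_zero (α := Module.End F (Fin n → F))) (hz'.symm.trans hz)
          rw [hdim] at hk'
          have hk'0 : k' ≠ 0 := fun h0 => by rw [h0, mul_zero] at hk'; omega
          rw [hdet, hdim, show n / r = k' by rw [hk', Nat.mul_div_cancel_left _ hr.pos],
            ((hr.odd_of_ne_two hr2).add_one).neg_one_pow, one_mul] at hdet'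
          have h5 := (Cfsg.Agent.Lib.Elusive.exists_norm_nonpower_iff hq hr hr2 hrq hk'0).1
            ⟨z', hz1, hdet'.symm, hsp⟩
          rw [hk', padicValNat.mul hr.ne_zero hk'0, padicValNat.self hr.one_lt] at harith
          omega
        obtain ⟨l, hl⟩ := hrm
        -- the exponent of the adjoint
        obtain ⟨u, hu⟩ : r * (q + 1) ∣ q ^ r + 1 := by
          rw [← Int.natCast_dvd_natCast]
          push_cast
          have h5 := geom_sum_mul (-(q : ℤ)) r
          rw [(hr.odd_of_ne_two hr2).neg_pow] at h5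
          have h6 : ((q : ℤ) + 1) * (∑ s ∈ Finset.range r, (-(q : ℤ)) ^ s) = (q : ℤ) ^ r + 1 := by
            linear_combination -h5
          rw [← h6, mul_comm]
          refine mul_dvd_mul_left _ ?_
          rw [← ZMod.intCast_zmod_eq_zero_iff_dvd]
          push_cast
          have h8 : (q : ZMod r) = -1 := by
            have h9 : ((q + 1 : ℕ) : ZMod r) = 0 := (ZMod.natCast_eq_zero_iff _ _).2 hrq
            push_cast at h9
            linear_combination h9
          rw [h8, neg_neg]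
          simp
        have hfE : f ^ (q ^ r + 1) = 1 := by
          rw [hu, mul_assoc, pow_mul, hz, _root_.smul_pow, one_pow, pow_mul, hz1, one_pow, one_smul]
        obtain ⟨o, ho⟩ := hr.odd_of_ne_two hr2
        have hmap : ∀ a : F, Cfsg.Agent.Lib.Forms.qPowHom hq a = a ^ p ^ (e₀ * r) := fun a => by
          rw [pow_mul p, ← hqe, Cfsg.Agent.Lib.Forms.qPowHom_apply, ho, pow_succ q (2 * o), pow_mul q,
            ← hq, pow_mul a, FiniteField.pow_card_pow]
        obtain ⟨U, hUT, h3, h4, h5⟩ := Cfsg.Agent.Lib.Elusive.exists_iso_nonSplit hgood hσ hr hns hfp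
          (E := q ^ r) (fun g u v => by
            rw [Cfsg.Agent.Lib.Elusive.aeval_adjoint hfE (Nat.succ_pos _) hfp, Nat.add_sub_cancel,
              show q ^ r = p ^ (e₀ * r) by rw [hqe, ← pow_mul],
              Cfsg.Agent.Lib.Elusive.aeval_pow_frobenius (e₀ * r) hmap])
          ⟨p, e₀ * r, Fact.out, inferInstance, by rw [hqe, ← pow_mul]⟩
          (by rw [hq, ← pow_add, ← pow_mul]; congr 1; omega) l ⊤ (fun v _ => Submodule.mem_top)
          (Cfsg.Agent.Lib.Elusive.nd_top hgood) (by rw [finrank_top, hdim, mul_comm l r, ← hl]; omega)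
        exact ⟨U, h5.trans ((mul_comm _ _).trans hl.symm), h4, h3⟩
  have hrq : ¬ r ∣ q + 1 := fun h => hi2' (hi2.2 h)
  refine (Cfsg.Agent.Lib.Elusive.forall_isometry_iff hq hr hrq hn0 P hPs).trans ?_
  constructor
  · intro hall
    obtain ⟨y₀, hy₀, hy₀ne, hy₀p⟩ := Cfsg.Agent.Lib.Elusive.exists_unitary_block hq hr hdvdGU
    have hPc : Module.finrank F (Fin c → F) = c := Module.finrank_fin_fun F
    obtain ⟨E⟩ := Cfsg.Agent.Lib.Elusive.exists_blockEmb_unit hq (n := n) (N := M) (c := c) (by omega)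
    obtain ⟨y, hy, hyp, hyR⟩ := Cfsg.Agent.Lib.Elusive.exists_isometry_blocks hgood
      (Cfsg.Agent.Lib.Forms.hermSesq_goodForm hq) hr hrF hbs hPc E hy₀ hy₀ne hy₀p
    have hsum := Cfsg.Agent.Lib.Elusive.finrank_fix1_add (r := r) hy hrF
    rw [hyR, hdim] at hsum
    have hfixk : Module.finrank F ↥(Cfsg.Agent.Lib.Elusive.fix1 y) = k := by omega
    have hsplit : ∀ W, Cfsg.Agent.Lib.Elusive.Inv y W → Module.finrank F ↥W = m →
        Cfsg.Agent.Lib.Elusive.Iso B W →
        ∃ e, 2 * (m - e * b) ≤ k ∧ e * b ≤ m ∧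
          e * b = Module.finrank F ↥(W ⊓ LinearMap.ker (Cfsg.Agent.Lib.Elusive.avg y r)) := by
      intro W hW hWd hWi
      obtain ⟨e, he⟩ := Cfsg.Agent.Lib.Elusive.dvd_finrank_of_le_ker hr hrF hy
        (Cfsg.Agent.Lib.Elusive.inv_inf hW Cfsg.Agent.Lib.Elusive.inv_ker_avg) inf_le_right
      rw [← hbQ, mul_comm] at he
      have h1 := Cfsg.Agent.Lib.Elusive.finrank_of_inv (r := r) hy hrF hW
      have h3 := Cfsg.Agent.Lib.Elusive.iso_finrank_le hgood (hparts y hy hyp).1 (inf_le_right : W ⊓ _ ≤ _)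
        (hWi.mono inf_le_left)
      rw [hWd, he] at h1
      exact ⟨e, by omega, by omega, he.symm⟩
    have hl : ∀ e, e * b ≤ m → 2 * (m - e * b) ≤ k → e = m / b ∧ m - e * b = m % b := fun e h1 h2' => by
      have h3 : e = m / b := (Nat.div_eq_of_lt_le h1 (by rw [add_one_mul]; omega)).symm
      have h4 := Nat.div_add_mod' m b
      rw [← h3] at h4
      exact ⟨h3, by omega⟩
    have c2 : 2 * (m % b) ≤ k := by
      by_cases hy1 : y = 1
      · have h2 : Cfsg.Agent.Lib.Elusive.fix1 y = ⊤ :=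
          eq_top_iff.2 fun v _ => Cfsg.Agent.Lib.Elusive.mem_fix1.2 (by rw [hy1]; rfl)
        rw [h2, finrank_top, hdim] at hfixk
        have := Nat.mod_le m b
        omega
      · obtain ⟨W, hWd, hWi, hW⟩ := hall y hy hy1 hyp
        obtain ⟨e, he1, he2, -⟩ := hsplit W hW hWd hWi
        obtain ⟨-, h5⟩ := hl e he2 he1
        omega
    have c1 : b ≤ m := by
      by_contra hcon
      push Not at hcon
      rw [Nat.mod_eq_of_lt hcon] at c2
      refine Cfsg.Agent.Lib.Elusive.not_dvd_natCard_obj hgood hr hrF hbs (κ := Unit)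
        (fun D => Module.finrank F ↥(D ()) = m ∧ Cfsg.Agent.Lib.Elusive.Iso B (D ()))
        hy hyp (hfixk.trans_lt hkc) ?_ ?_ ?_ ?_ ?_
      · rintro e he D ⟨h1, h2'⟩
        refine ⟨(LinearEquiv.finrank_map_eq e (D ())).trans h1, ?_⟩
        rintro _ ⟨u, hu, rfl⟩ _ ⟨v, hv, rfl⟩
        rw [LinearEquiv.coe_coe, he]
        exact h2' u hu v hv
      · rintro D ⟨h1, h2'⟩ hD ⟨⟩
        obtain ⟨e, -, he, he'⟩ := hsplit (D ()) (hD ()) h1 h2'
        have he0 : e = 0 := by
          by_contra hne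
          have := Nat.le_mul_of_pos_left b (Nat.pos_of_ne_zero hne)
          omega
        have hbot : D () ⊓ LinearMap.ker (Cfsg.Agent.Lib.Elusive.avg y r) = ⊥ :=
          Submodule.finrank_eq_zero.1 (by rw [← he', he0, zero_mul])
        have hh := Cfsg.Agent.Lib.Elusive.inf_sup_inf_of_inv (r := r) hy hrF (hD ())
        rw [hbot, sup_bot_eq] at hh
        exact hh ▸ inf_le_right
      · obtain ⟨A, hA1, hA2, hA3⟩ := Cfsg.Agent.Lib.Elusive.exists_herm_iso_sub hgood hσ (hparts y hy hyp).1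
          (a := m) (by omega)
        exact ⟨fun _ => A, ⟨hA3, hA2⟩, fun _ => hA1⟩
      · rintro D D' ⟨h1, h2'⟩ ⟨h1', h2''⟩ hD hD'
        obtain ⟨f, hf, hfm, hfs⟩ := Cfsg.Agent.Lib.Elusive.exists_frame (D ()) h1
        obtain ⟨f', hf', hfm', hfs'⟩ := Cfsg.Agent.Lib.Elusive.exists_frame (D' ()) h1'
        obtain ⟨e, he, heR, hef⟩ := Cfsg.Agent.Lib.Elusive.exists_isometry_move hgood hrF hy hyp f f' hf hf'
          (fun l => hD () (hfm l)) (fun l => hD' () (hfm' l))
          (fun l l' => (h2' _ (hfm l) _ (hfm l')).trans (h2'' _ (hfm' l) _ (hfm' l')).symm)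
        exact ⟨e, he, heR, fun _ => Cfsg.Agent.Lib.Elusive.map_eq_of_frames e hef hfs hfs'⟩
      · refine hrΩ.trans (dvd_of_eq (Nat.card_congr ?_))
        exact ⟨fun W => ⟨fun _ => W.1, W.2.1, (hisoiff _).1 W.2.2⟩,
          fun D => ⟨D.1 (), D.2.1, (hisoiff _).2 D.2.2⟩, fun _ => rfl, fun _ => Subtype.ext (funext fun _ => rfl)⟩
    refine ⟨c1, c2, ?_⟩
    by_cases h42 : i % 4 = 2
    swap
    · exact Or.inl h42
    refine Or.inr ⟨h42, ?_, Or.inl (by omega)⟩
    obtain ⟨hcb, hE⟩ := hSD h42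
    by_contra hlt
    push Not at hlt
    rw [← hcb] at hlt
    rw [← hM] at hlt
    have hm1 : 1 ≤ m / b := (Nat.one_le_div_iff hbpos).2 c1
    rw [hcb] at hlt
    set t := (r - 1) / b with ht
    have ht1 : 1 ≤ t := by
      refine (Nat.one_le_div_iff hbpos).2 ?_
      haveI : Fact r.Prime := ⟨hr⟩
      rw [hbQ]
      refine Nat.le_of_dvd (by have := hr.two_le; omega) (orderOf_dvd_of_pow_eq_one (ZMod.pow_card_sub_one_eq_one ?_))
      intro h0
      rw [hbQ, h0, orderOf_eq_zero_iff'.2 (fun l hl => by rw [zero_pow hl.ne']; exact zero_ne_one)] at hbpos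
      omega
    obtain ⟨N, hNM, hN, hN2⟩ : ∃ N, N ≤ M ∧ (N ≤ t ∨ Even (N - t)) ∧
        ((N = M) ∨ (N + 1 = M ∧ t < M ∧ Odd (M - t))) := by
      by_cases hcase : M ≤ t ∨ Even (M - t)
      · exact ⟨M, le_rfl, hcase, Or.inl rfl⟩
      · push Not at hcase
        obtain ⟨o, ho⟩ := Nat.not_even_iff_odd.1 hcase.2
        exact ⟨M - 1, by omega, Or.inr ⟨o, by omega⟩, Or.inr ⟨by omega, hcase.1, ⟨o, ho⟩⟩⟩
    have hN1 : 1 ≤ N := by
      have hM1 : 1 ≤ M := by
        rw [hM]; exact (Nat.one_le_div_iff hcpos).2 (by omega)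
      rcases hN2 with e | ⟨e, h1, -⟩ <;> omega
    obtain ⟨E'⟩ := Cfsg.Agent.Lib.Elusive.exists_blockEmb_unit hq (n := n) (N := N) (c := c)
      ((Nat.mul_le_mul_right c hNM).trans (by omega))
    obtain ⟨y', hy', hyp', hyR', hbound⟩ := Cfsg.Agent.Lib.Elusive.exists_isometry_min hgood
      (Cfsg.Agent.Lib.Forms.hermSesq_goodForm hq) hr hrF hbs hPc E' hy₀ hy₀ne hy₀p (hcb.trans hbQ)
      (by rwa [← hbQ])
    rw [← hbQ, ← ht] at hbound
    have hsum' := Cfsg.Agent.Lib.Elusive.finrank_fix1_add (r := r) hy' hrF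
    rw [hyR', hdim] at hsum'
    obtain ⟨W, hWd, hWi, hW⟩ := hall y' hy' (fun h1 => by
      have h2 : Cfsg.Agent.Lib.Elusive.fix1 y' = ⊤ :=
        eq_top_iff.2 fun v _ => Cfsg.Agent.Lib.Elusive.mem_fix1.2 (by rw [h1]; rfl)
      rw [h2, finrank_top, hdim] at hsum'
      have := Nat.le_mul_of_pos_left c hN1
      omega) hyp'
    obtain ⟨e, he'⟩ := Cfsg.Agent.Lib.Elusive.dvd_finrank_of_le_ker hr hrF hy'
      (Cfsg.Agent.Lib.Elusive.inv_inf hW Cfsg.Agent.Lib.Elusive.inv_ker_avg) inf_le_right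
    rw [← hbQ, mul_comm] at he'
    have h2e := hbound W hW hWi e (by rw [he', hcb])
    have h1 := Cfsg.Agent.Lib.Elusive.finrank_of_inv (r := r) hy' hrF hW
    have h3 := Cfsg.Agent.Lib.Elusive.iso_finrank_le hgood (hparts y' hy' hyp').1 (inf_le_right : W ⊓ _ ≤ _)
      (hWi.mono inf_le_left)
    rw [hWd, he'] at h1
    rw [hcb] at hsum' hMk hkc
    have h4 := Nat.div_add_mod' m b
    rcases hN2 with rfl | ⟨hN', htM, ⟨o, ho⟩⟩
    · obtain ⟨h5, -⟩ := hl e (by omega) (by omega)
      omega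
    · have h6 : N * b + b = M * b := by rw [← hN', add_one_mul]
      have h7 : e + 1 ≤ m / b := by omega
      have h8 := Nat.mul_le_mul_right b h7
      rw [add_one_mul] at h8
      omega
  · rintro ⟨-, hk2, hcond⟩ y hy _ hyp
    exact hsuff hk2 (hcond.imp_right fun h => h.2.1) y hy hyp

end Cfsg.Agent.S5953
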