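import Cfsg.Statements.S5954
import Mathlib
import Cfsg.Agent.Lib.Elusive.HermWitness
import Cfsg.Agent.Lib.Elusive.ScalarBlocks
import Cfsg.Agent.Lib.Elusive.UnipotentPieces
import Cfsg.Agent.Lib.Elusive.Unipotent
import Cfsg.Agent.Lib.FormConj.Unipotent
import Cfsg.Agent.Lib.Elusive.SympCounts

set_option autoImplicit false
open scoped MatrixGroups
open Cfsg

namespace Cfsg.Agent.S5954

/-- Elements of prime order of PSU_n(q) with no fixed nondegenerate `m`-space. Here `T = PSU_n(q)` (`n ≥ 3`, `(n, q) ≠ (3, 2)`), realised through the matrices of determinant 1 over the field `F` with `q²` elements preserving the Hermitian form `h(u, v) = Σ u_i v_i^q`; an element of `T` of prime order `r` is such a matrix `x` with `x^r` scalar and `x` not scalar. For `r ≠ p` let `i` be the multiplicative order of `q` modulo `r`, `b = i/2` for `i` even and `b = i` for `i` odd, `c = i, i/2, 2i` according as `i ≡ 0, 2 (mod 4)` or `i` odd, and write `k = n mod c`, `ℓ = m mod b`, `ℓ' = m mod c`, `n' = ⌊n/b⌋`,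 `m' = ⌊m/b⌋`, `s = (r−1)/b`; `(a)_r` is the `r`-part of `a`. Let `1 ≤ m < n/2` and let `r` be a prime dividing the number of nondegenerate `m`-spaces. Then every element of `T` of order `r` fixes a nondegenerate `m`-space if and only if one of: (i) `r = p > 2` and every partition of `n` into parts of size at most `p` contains (as a sub-multiset) a partition of `m`; (ii) `r = p = 2` and (`n` is odd or `m` is even); (iii) `r = 2 ≠ p` and (`n` is odd, or `m` is even, or `(q+1)_2 ≥ (n)_2` and `q ≡ 3 (mod 4)`); (iv) `r ≠ p`, `r > 2`, and either `i ≠ 2`, `c ≤ m` and `k ≥ ℓ'`, or `i = 2` and (`r ∣ m` or `(q+1)_r ≥ (n)_r`). -/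
theorem result {F : Type*} [Field F] [Fintype F] {p : ℕ} [Fact p.Prime] [CharP F p] {q : ℕ} (hq : Fintype.card F = q ^ 2)
    (n m : ℕ) (hn : 3 ≤ n) (hT : (n, q) ≠ (3, 2)) (hm : 1 ≤ m) (hmn : 2 * m < n)
    (r : ℕ) [Fact r.Prime]
    (hrΩ : r ∣ Nat.card {W : Submodule F (Fin n → F) // Module.finrank F ↥W = m ∧ (∀ u ∈ W, u ≠ 0 → ∃ v ∈ W, Cfsg.hermForm n F q u v ≠ 0)})
    (i b c : ℕ) (hi : i = orderOf (q : ZMod r)) (hb : b = if Even i then i / 2 else i)
    (hc : c = if i % 4 = 0 then i else if i % 4 = 2 then i / 2 else 2 * i) :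
    (∀ x : Matrix.SpecialLinearGroup (Fin n) F, x ∈ Cfsg.SU n F q →
      (∃ z : F, ((x ^ r : Matrix.SpecialLinearGroup (Fin n) F) : Matrix (Fin n) (Fin n) F) = z • (1 : Matrix (Fin n) (Fin n) F)) →
      (∀ z : F, (x : Matrix (Fin n) (Fin n) F) ≠ z • (1 : Matrix (Fin n) (Fin n) F)) →
      ∃ W : Submodule F (Fin n → F), Module.finrank F ↥W = m ∧ (∀ u ∈ W, u ≠ 0 → ∃ v ∈ W, Cfsg.hermForm n F q u v ≠ 0) ∧
        W.map (Matrix.toLin' (x : Matrix (Fin n) (Fin n) F)) ≤ W) ↔
    ((r = p ∧ 2 < p ∧ (∀ μ : Multiset ℕ, (∀ a ∈ μ, 0 < a ∧ a ≤ p) → μ.sum = n → ∃ ν : Multiset ℕ, ν ≤ μ ∧ ν.sum = m)) ∨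
     (r = p ∧ p = 2 ∧ (Odd n ∨ Even m)) ∨
     (r = 2 ∧ p ≠ 2 ∧ (Odd n ∨ Even m ∨ (padicValNat 2 n ≤ padicValNat 2 (q + 1) ∧ q % 4 = 3))) ∨
     (r ≠ p ∧ 2 < r ∧ ((i ≠ 2 ∧ c ≤ m ∧ m % c ≤ n % c) ∨ (i = 2 ∧ (r ∣ m ∨ padicValNat r n ≤ padicValNat r (q + 1)))))) := by
  classical
  open Cfsg.Agent.Lib.Forms Cfsg.Agent.Lib.Elusive in
  have hr : r.Prime := Fact.out
  set B := Cfsg.Agent.Lib.Forms.hermSesq hq n with hB
  have hgood : Cfsg.Agent.Lib.Forms.IsGoodForm B 1 := Cfsg.Agent.Lib.Forms.hermSesq_goodForm hq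
  have hσ := Cfsg.Agent.Lib.Forms.qPowHom_ne_id hq
  have hq2 : 2 ≤ q := Cfsg.Agent.Lib.Forms.two_le_of_card_sq hq
  have hBs : ∀ u v, B u v = Cfsg.hermForm n F q v u := Cfsg.Agent.Lib.Forms.hermSesq_apply hq
  have hdim : Module.finrank F (Fin n → F) = n := Module.finrank_fin_fun F
  have hn0 : 0 < n := by omega
  haveI : Nonempty (Fin n) := ⟨⟨0, hn0⟩⟩
  have hndiff : ∀ W : Submodule F (Fin n → F), (∀ u ∈ W, u ≠ 0 → ∃ v ∈ W, Cfsg.hermForm n F q u v ≠ 0) ↔
      Cfsg.Agent.Lib.Elusive.Nd B W := fun W => by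
    rw [Cfsg.Agent.Lib.Elusive.nd_iff]
    refine forall₂_congr fun u _ => imp_congr_right fun _ => exists_congr fun v => and_congr_right fun _ => ?_
    rw [← hBs]
    exact not_congr hgood.eq_zero_iff
  let P : Module.End F (Fin n → F) → Prop := fun f => ∃ W : Submodule F (Fin n → F),
    Module.finrank F ↥W = m ∧ Cfsg.Agent.Lib.Elusive.Nd B W ∧ Cfsg.Agent.Lib.Elusive.Inv f W
  have hP : ∀ f : Module.End F (Fin n → F), (∃ W : Submodule F (Fin n → F), Module.finrank F ↥W = m ∧
      (∀ u ∈ W, u ≠ 0 → ∃ v ∈ W, Cfsg.hermForm n F q u v ≠ 0) ∧ W.map f ≤ W) ↔ P f := fun f =>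
    exists_congr fun W => by rw [hndiff, Cfsg.Agent.Lib.Elusive.inv_iff_map_le]
  have hPs : ∀ (d : F) f, d ≠ 0 → (P (d • f) ↔ P f) := fun d f hd =>
    exists_congr fun W => by rw [Cfsg.Agent.Lib.Elusive.inv_smul_iff hd]
  simp only [hP]
  refine (Cfsg.Agent.Lib.Elusive.forall_SU_iff hq P).trans ?_
  obtain ⟨e₀, he₀, hqe⟩ := Cfsg.Agent.Lib.Elusive.exists_prime_pow_q (p := p) hq
  by_cases hrp : r = p
  · -- unipotent elements
    subst hrp
    have hrq : ¬ r ∣ q + 1 := fun h => by
      have h1 : r ∣ q := hqe ▸ dvd_pow_self r (by omega)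
      have := Nat.dvd_sub h h1
      rw [Nat.add_sub_cancel_left] at this
      exact hr.ne_one (Nat.dvd_one.1 this)
    haveI : Nontrivial (Fin n → F) := Module.nontrivial_of_finrank_pos (R := F) (by omega)
    haveI : CharP (Module.End F (Fin n → F)) r :=
      charP_of_injective_algebraMap (algebraMap F (Module.End F (Fin n → F))).injective r
    refine (Cfsg.Agent.Lib.Elusive.forall_isometry_iff hq hr hrq hn0 P hPs).trans ?_
    have key : (∀ y : Module.End F (Fin n → F), y ^ r = 1 → y ≠ 1 → (∀ u v, B (y u) (y v) = B u v) → P y) ↔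
        ∀ μ : Multiset ℕ, (∀ a ∈ μ, 0 < a ∧ a ≤ r) → μ.sum = n → ∃ ν : Multiset ℕ, ν ≤ μ ∧ ν.sum = m := by
      constructor
      · intro hall μ hμ hsum
        by_cases h1 : ∀ a ∈ μ, a = 1
        · have hrep : μ = Multiset.replicate (Multiset.card μ) 1 := Multiset.eq_replicate.2 ⟨rfl, h1⟩
          rw [hrep, Multiset.sum_replicate, smul_eq_mul, mul_one] at hsum
          exact ⟨Multiset.replicate m 1, by
            rw [hrep]; exact (Multiset.replicate_le_replicate 1).2 (by omega), by simp⟩
        · obtain ⟨f, hf, hfμ⟩ := Cfsg.Agent.Lib.Elusive.exists_end_of_parts (F := F) (V := Fin n → F) μ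
            (fun a ha => (hμ a ha).1) (hsum.trans hdim.symm)
          set T := (Matrix.toLinAlgEquiv' (R := F) (n := Fin n)) with hT'
          have hTn : IsNilpotent (T.symm f) := hf.map T.symm
          obtain ⟨A, hA⟩ := hTn.isUnit_one_add
          obtain ⟨g, hg⟩ := Cfsg.Agent.Lib.FormConj.exists_GU_isConj_unipotent hq A
            (by rw [hA, add_sub_cancel_left]; exact hTn)
          obtain ⟨c₁, hc₁⟩ := isConj_iff.1 hg
          set y : Module.End F (Fin n → F) := T ((g : GL (Fin n) F) : Matrix (Fin n) (Fin n) F) with hy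
          let e : (Fin n → F) ≃ₗ[F] (Fin n → F) :=
            LinearMap.GeneralLinearGroup.toLinearEquiv (Units.map T.toMonoidHom c₁)
          have hye : y - 1 = e.conj f := by
            refine LinearMap.ext fun v => ?_
            rw [LinearEquiv.conj_apply_apply]
            show _ = T (c₁ : Matrix (Fin n) (Fin n) F) (f (T ((c₁⁻¹ : GL (Fin n) F) : Matrix (Fin n) (Fin n) F) v))
            have h2 : ((g : GL (Fin n) F) : Matrix (Fin n) (Fin n) F) - 1 =
                (c₁ : Matrix (Fin n) (Fin n) F) * T.symm f * ((c₁⁻¹ : GL (Fin n) F) : Matrix (Fin n) (Fin n) F) := by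
              rw [← hc₁, Units.val_mul, Units.val_mul, hA, mul_add, add_mul, mul_one, Units.mul_inv,
                add_sub_cancel_left]
            rw [hy, ← map_one T, ← map_sub, h2, map_mul, map_mul, AlgEquiv.apply_symm_apply]
            rfl
          have hparts : Cfsg.Agent.Lib.Elusive.HasParts (y - 1) μ := by rw [hye]; exact hfμ.conj e
          have hkill : (y - 1) ^ r = 0 := (hparts.le_iff_pow_eq_zero r).2 fun a ha => (hμ a ha).2
          have hyr : y ^ r = 1 := by
            rw [sub_pow_char_of_commute (R := Module.End F (Fin n → F)) r (Commute.one_right y), one_pow,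
              sub_eq_zero] at hkill
            exact hkill
          have hyp : ∀ u v, B (y u) (y v) = B u v :=
            (Cfsg.Agent.Lib.Elusive.herm_pres_iff hq y).1 fun u v => g.2 u v
          obtain ⟨W, hWd, hWn, hW⟩ := hall y hyr (fun he => h1 fun a ha => by
            have h0 : (y - 1) ^ 1 = 0 := by rw [pow_one, he, sub_self]
            have := (hparts.le_iff_pow_eq_zero 1).1 h0 a ha
            have := (hμ a ha).1
            omega) hyp
          have hsub : ∀ U : Submodule F (Fin n → F), Cfsg.Agent.Lib.Elusive.Inv y U →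
              Cfsg.Agent.Lib.Elusive.Inv (y - 1) U := fun U hU v hv => by
            rw [LinearMap.sub_apply, Module.End.one_apply]; exact U.sub_mem (hU v hv) hv
          exact (Cfsg.Agent.Lib.Elusive.exists_inv_compl_iff_subPartition ⟨r, hkill⟩ hparts m).1
            ⟨W, _, Cfsg.Agent.Lib.Elusive.isCompl_perp hgood hWn, hWd, hsub W hW,
              hsub _ (Cfsg.Agent.Lib.Elusive.perp_inv hgood hyp hW)⟩
      · intro hcond y hy _ hyp
        have hkill : (y - 1) ^ r = 0 := by
          rw [sub_pow_char_of_commute (R := Module.End F (Fin n → F)) r (Commute.one_right y), hy, one_pow,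
            sub_self]
        obtain ⟨N, E, e, k, hE, hEp, hsum⟩ := Cfsg.Agent.Lib.Elusive.exists_pieces hgood hyp (p := r) ⊤
          (fun v _ => Submodule.mem_top) (Cfsg.Agent.Lib.Elusive.nd_top hgood) (fun v _ => by rw [hkill]; rfl)
        rw [finrank_top, hdim] at hsum
        -- all pieces are cyclic
        have hk1 : ∀ j, k j = 1 := by
          intro j
          obtain ⟨-, ⟨he1, hEn, hEi, -, hEk, hcase⟩, -⟩ := hEp j
          rcases hcase with ⟨hk, -⟩ | ⟨-, v, -, w, -, hb, hl⟩
          · exact hk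
          · exfalso
            obtain ⟨t, ht⟩ := Cfsg.Agent.Lib.Forms.exists_add_conj_eq_one hσ hgood.invol
            obtain ⟨l, hl'⟩ : ∃ l : F, Cfsg.Agent.Lib.Forms.qPowHom hq l ≠ l := by
              by_contra hcon
              push Not at hcon
              exact hσ (RingHom.ext hcon)
            have e0 := hl 0
            simp only [zero_smul, add_zero] at e0
            have hev : ∀ a : F, a * B v (((y - 1) ^ (e j - 1)) w) +
                Cfsg.Agent.Lib.Forms.qPowHom hq a * B w (((y - 1) ^ (e j - 1)) v) +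
                Cfsg.Agent.Lib.Forms.qPowHom hq a * a * B w (((y - 1) ^ (e j - 1)) w) = 0 := fun a => by
              have h1 := hl a
              simp only [map_add, map_smulₛₗ, LinearMap.add_apply, LinearMap.smul_apply, e0, RingHom.id_apply,
                smul_eq_mul] at h1
              linear_combination h1
            have f1 := hev 1
            have ft := hev t
            have f1t := hev (1 + t)
            simp only [map_add, map_one] at f1 f1t
            have hZ : B w (((y - 1) ^ (e j - 1)) w) = 0 := by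
              linear_combination f1t - f1 - ft - (B w (((y - 1) ^ (e j - 1)) w)) * ht
            have fl := hev l
            rw [hZ, mul_zero, add_zero] at fl f1
            have h3 : (l - Cfsg.Agent.Lib.Forms.qPowHom hq l) * B v (((y - 1) ^ (e j - 1)) w) = 0 := by
              linear_combination fl - (Cfsg.Agent.Lib.Forms.qPowHom hq l) * f1
            exact hb ((mul_eq_zero.1 h3).resolve_left fun h => hl' (sub_eq_zero.1 h).symm)
        obtain ⟨ν, hν, hνs⟩ := hcond (Cfsg.Agent.Lib.Elusive.pieceParts e k Finset.univ)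
          (fun a ha => by
            obtain ⟨j, -, rfl⟩ := Cfsg.Agent.Lib.Elusive.mem_pieceParts ha
            exact ⟨(hEp j).2.1.1, (hEp j).2.2⟩)
          (by rw [Cfsg.Agent.Lib.Elusive.sum_pieceParts]; exact hsum)
        obtain ⟨t, -, ht⟩ := Cfsg.Agent.Lib.Elusive.exists_subset_pieces e k Finset.univ ν
          (fun j _ => Or.inl (hk1 j)) (fun a _ b _ _ => by rw [hk1, hk1]) hν
        obtain ⟨h1, h3, h4⟩ := Cfsg.Agent.Lib.Elusive.pieces_sup hgood hE (fun j => (hEp j).2.1) t
        exact ⟨t.sup E, h4.trans (ht.trans hνs), h1, h3⟩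
    refine key.trans ?_
    by_cases hr2 : r = 2
    · subst hr2
      refine (Cfsg.Agent.Lib.Elusive.partitions_le_two_iff (by omega)).trans ?_
      simp
    · have : 2 < r := lt_of_le_of_ne hr.two_le (Ne.symm hr2)
      simp [hr2, this]
  have hrF : (r : F) ≠ 0 := by
    rw [Ne, CharP.cast_eq_zero_iff F p]
    exact fun h => hrp (((Nat.prime_dvd_prime_iff_eq Fact.out hr).1 h).symm)
  have hparts : ∀ y : Module.End F (Fin n → F), y ^ r = 1 → (∀ u v, B (y u) (y v) = B u v) →
      Cfsg.Agent.Lib.Elusive.Nd B (Cfsg.Agent.Lib.Elusive.fix1 y) ∧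
        Cfsg.Agent.Lib.Elusive.Nd B (LinearMap.ker (Cfsg.Agent.Lib.Elusive.avg y r)) := by
    intro y hy hyp
    obtain ⟨h1, h2⟩ := Cfsg.Agent.Lib.Elusive.nd_parts hgood hy hyp hrF (T := ⊤)
      (Cfsg.Agent.Lib.Elusive.nd_top hgood) (fun v _ => Submodule.mem_top)
    rw [top_inf_eq] at h1 h2
    exact ⟨h1, h2⟩
  -- a subspace assembled from the fixed space and the moved part
  have hbuild : ∀ y : Module.End F (Fin n → F), y ^ r = 1 → (∀ u v, B (y u) (y v) = B u v) →
      ∀ a, a ≤ Module.finrank F ↥(Cfsg.Agent.Lib.Elusive.fix1 y) →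
        (∃ U, U ≤ LinearMap.ker (Cfsg.Agent.Lib.Elusive.avg y r) ∧ Cfsg.Agent.Lib.Elusive.Inv y U ∧
          Cfsg.Agent.Lib.Elusive.Nd B U ∧ Module.finrank F ↥U + a = m) → P y := by
    rintro y hy hyp a ha ⟨U, hUR, hUi, hUn, hUd⟩
    obtain ⟨A, hAf, hAn, hAd⟩ := Cfsg.Agent.Lib.Elusive.exists_herm_nd_sub hgood hσ (hparts y hy hyp).1 ha
    refine ⟨A ⊔ U, ?_, Cfsg.Agent.Lib.Elusive.nd_sup hgood hAn hUn (fun a ha u hu =>
      Cfsg.Agent.Lib.Elusive.fix1_perp_ker hgood hyp hrF (hAf ha) (hUR hu)),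
      Cfsg.Agent.Lib.Elusive.inv_sup (Cfsg.Agent.Lib.Elusive.inv_of_le_fix1 hAf) hUi⟩
    have h0 : A ⊓ U = ⊥ := le_bot_iff.1 ((inf_le_inf hAf hUR).trans
      (Cfsg.Agent.Lib.Elusive.fix1_inf_ker_avg (y := y) hrF).le)
    have h1 := Submodule.finrank_sup_add_finrank_inf_eq A U
    rw [h0, finrank_bot, add_zero, hAd] at h1
    omega
  by_cases hr2 : r = 2
  · subst hr2
    have hp2 : p ≠ 2 := fun e => hrp e.symm
    have h2 : (2 : F) ≠ 0 := by exact_mod_cast hrF
    simp only [ne_eq, hrp, false_and, false_or, true_and, hp2, not_false_eq_true, lt_irrefl, and_false, or_false]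
    constructor
    · intro hall
      by_contra hcon
      push Not at hcon
      obtain ⟨hne, hmo, harith⟩ := hcon
      obtain ⟨k, rfl⟩ := Nat.not_odd_iff_even.1 hne
      obtain ⟨z, hz1, hzd, hzk⟩ := (Cfsg.Agent.Lib.Elusive.exists_nonsquare_iff hq h2 (k := k) (by omega)).2
        (by rw [two_mul]; exact fun h => harith h.1 h.2)
      obtain ⟨f, hf, hfdet, hfp⟩ := Cfsg.Agent.Lib.Elusive.exists_monomial_two hq (n := k + k) rfl hz1
      obtain ⟨W, hWd, hWn, hW⟩ := hall f (hfdet.trans hzk) ⟨z, hf⟩ (fun a ha => by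
        refine hzd a (Cfsg.Agent.Lib.Elusive.norm_scalar hq hn0 hfp (r := 1) (by rw [pow_one]; exact ha)) ?_
        rw [ha, _root_.smul_pow, one_pow] at hf
        exact smul_left_injective F (one_ne_zero (α := Module.End F (Fin (k + k) → F))) hf) hfp
      have hN := Cfsg.Agent.Lib.Elusive.det_restrict_norm hgood hσ hfp hW hWn
      set g : Module.End F ↥W := f.restrict hW
      have hgg : g ^ 2 = z • 1 := LinearMap.ext fun v => Subtype.ext (by
        rw [pow_two]
        show f (f v.1) = z • v.1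
        rw [← Module.End.mul_apply, ← pow_two, hf]; rfl)
      have hD := congrArg LinearMap.det hgg
      rw [map_pow, Cfsg.Agent.Lib.Elusive.det_smul_one, hWd] at hD
      obtain ⟨o, ho⟩ : ∃ o, m = 2 * o + 1 := Nat.not_even_iff_odd.1 hmo
      have hz0 : z ≠ 0 := fun h0 => by rw [h0, zero_pow (by omega)] at hz1; exact zero_ne_one hz1
      rw [Cfsg.Agent.Lib.Forms.qPowHom_apply, ← pow_succ] at hN
      refine hzd (LinearMap.det g / z ^ o) ?_ ?_
      · rw [div_pow, hN, ← pow_mul, mul_comm, pow_mul, hz1, one_pow, div_one]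
      · rw [div_pow, hD, ho, ← pow_mul, pow_succ, mul_comm o 2, mul_div_cancel_left₀ _ (pow_ne_zero _ hz0)]
    · intro hcond f hdet ⟨c, hc⟩ _ hfp
      have hc1 := Cfsg.Agent.Lib.Elusive.norm_scalar hq hn0 hfp hc
      have hc0 : c ≠ 0 := fun h0 => by rw [h0, zero_pow (by omega)] at hc1; exact zero_ne_one hc1
      by_cases hsq : ∃ d : F, d ^ (q + 1) = 1 ∧ d ^ 2 = c
      · obtain ⟨d, hd1, hd⟩ := hsq
        have hd0 : d ≠ 0 := fun h0 => hc0 (by rw [← hd, h0, zero_pow two_ne_zero])
        have hf : f = d • (d⁻¹ • f) := by rw [smul_smul, mul_inv_cancel₀ hd0, one_smul]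
        rw [hf, hPs d _ hd0]
        have hy : (d⁻¹ • f) ^ 2 = 1 := by
          rw [_root_.smul_pow, hc, smul_smul, _root_.inv_pow, hd, inv_mul_cancel₀ hc0, one_smul]
        have hyp : ∀ u v, B ((d⁻¹ • f) u) ((d⁻¹ • f) v) = B u v :=
          Cfsg.Agent.Lib.Elusive.smul_pres hq (by rw [_root_.inv_pow, hd1, inv_one]) hfp
        have hsum := Cfsg.Agent.Lib.Elusive.finrank_fix1_add (r := 2) hy hrF
        rw [hdim] at hsum
        obtain ⟨U, hUR, hUn, hUd⟩ := Cfsg.Agent.Lib.Elusive.exists_herm_nd_sub hgood hσ (hparts _ hy hyp).2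
          (a := m - min m (Module.finrank F ↥(Cfsg.Agent.Lib.Elusive.fix1 (d⁻¹ • f)))) (by omega)
        refine hbuild _ hy hyp (min m (Module.finrank F ↥(Cfsg.Agent.Lib.Elusive.fix1 (d⁻¹ • f)))) (min_le_right _ _)
          ⟨U, hUR, fun v hv => ?_, hUn, by omega⟩
        have h3 := LinearMap.mem_ker.1 (hUR hv)
        rw [Cfsg.Agent.Lib.Elusive.avg_apply, smul_eq_zero] at h3
        have h4 := h3.resolve_left (inv_ne_zero hrF)
        rw [Finset.sum_range_succ, Finset.sum_range_succ, Finset.sum_range_zero, zero_add, pow_zero, pow_one] at h4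
        rw [eq_neg_of_add_eq_zero_right h4]
        exact U.neg_mem hv
      · push Not at hsq
        have hcn : c ^ n = 1 := by
          have h1 := congrArg LinearMap.det hc
          rw [map_pow, hdet, one_pow, Cfsg.Agent.Lib.Elusive.det_smul_one, hdim] at h1
          exact h1.symm
        have hne : Even n := Nat.not_odd_iff_even.1 fun ⟨o, ho⟩ => hsq (c ^ (o + 1)) (by
          rw [← pow_mul, mul_comm, pow_mul, hc1, one_pow])
          (by rw [← pow_mul, show (o + 1) * 2 = n + 1 by omega, pow_succ, hcn, one_mul])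
        obtain ⟨k, rfl⟩ := hne
        -- the eigenspaces of a root are totally isotropic
        have hfix : ∀ T : Submodule F (Fin (k + k) → F), Cfsg.Agent.Lib.Elusive.Inv f T →
            Cfsg.Agent.Lib.Elusive.Nd B T → T ≠ ⊥ → ∃ U, U ≤ T ∧ Cfsg.Agent.Lib.Elusive.Inv f U ∧
              Cfsg.Agent.Lib.Elusive.Nd B U ∧ Module.finrank F ↥U = 2 := by
          intro T hTi hT hne
          obtain ⟨v, hv, hb⟩ := Cfsg.Agent.Lib.Elusive.exists_unit_vector hgood hσ hT hne
          have hff : f (f v) = c • v := by rw [← Module.End.mul_apply, ← pow_two, hc]; rfl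
          set s := B v (f v) with hs
          have h1 : B (f v) v = Cfsg.Agent.Lib.Forms.qPowHom hq s := by rw [hgood.herm v (f v), one_mul]
          have h3 : B (f v) (f v) = 1 := by rw [hfp, hb]
          have h4 : Cfsg.Agent.Lib.Forms.qPowHom hq s = Cfsg.Agent.Lib.Forms.qPowHom hq c * s := by
            rw [← h1, ← hfp, hff, map_smulₛₗ, LinearMap.smul_apply, smul_eq_mul]
          have hs1 : s * Cfsg.Agent.Lib.Forms.qPowHom hq s ≠ 1 := by
            intro hN
            refine hsq s (by rw [pow_succ', ← Cfsg.Agent.Lib.Forms.qPowHom_apply hq]; exact hN) ?_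
            have hcc : c * Cfsg.Agent.Lib.Forms.qPowHom hq c = 1 := by
              rw [Cfsg.Agent.Lib.Forms.qPowHom_apply, ← pow_succ']; exact hc1
            linear_combination c * hN - c * s * h4 - s ^ 2 * hcc
          have hz : ∀ a b : F, B (a • v + b • f v) v = 0 → B (a • v + b • f v) (f v) = 0 → a = 0 ∧ b = 0 := by
            intro a b e1 e2
            simp only [map_add, map_smulₛₗ, LinearMap.add_apply, LinearMap.smul_apply, hb, h1, h3, ← hs,
              smul_eq_mul] at e1 e2
            have h5 : Cfsg.Agent.Lib.Forms.qPowHom hq b * (1 - s * Cfsg.Agent.Lib.Forms.qPowHom hq s) = 0 := by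
              linear_combination e2 - s * e1
            have hb0 := (mul_eq_zero.1 h5).resolve_right (sub_ne_zero.2 (Ne.symm hs1))
            rw [hb0, zero_mul, add_zero, mul_one] at e1
            exact ⟨(map_eq_zero _).1 e1, (map_eq_zero _).1 hb0⟩
          have hli : LinearIndependent F ![v, f v] := by
            rw [LinearIndependent.pair_iff]
            intro a b hab
            exact hz a b (by rw [hab, map_zero, LinearMap.zero_apply]) (by rw [hab, map_zero, LinearMap.zero_apply])
          refine ⟨Submodule.span F ({v, f v} : Set _), ?_, ?_, ?_, ?_⟩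
          · exact Submodule.span_le.2 (Set.insert_subset hv (Set.singleton_subset_iff.2 (hTi v hv)))
          · intro u hu
            obtain ⟨a, b, rfl⟩ := Submodule.mem_span_pair.1 hu
            rw [map_add, map_smul, map_smul, hff, smul_smul]
            exact Submodule.add_mem _ (Submodule.smul_mem _ _ (Submodule.subset_span (by simp)))
              (Submodule.smul_mem _ _ (Submodule.subset_span (by simp)))
          · intro u hu hu'
            obtain ⟨a, b, rfl⟩ := Submodule.mem_span_pair.1 hu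
            obtain ⟨rfl, rfl⟩ := hz a b (hu' v (Submodule.subset_span (by simp)))
              (hu' (f v) (Submodule.subset_span (by simp)))
            simp
          · have h6 := finrank_span_eq_card hli
            rw [Matrix.range_cons_cons_empty, Fintype.card_fin] at h6
            exact h6
        have hall2 : ∀ l, l * 2 ≤ k + k → ∃ U : Submodule F (Fin (k + k) → F), Cfsg.Agent.Lib.Elusive.Inv f U ∧
            Cfsg.Agent.Lib.Elusive.Nd B U ∧ Module.finrank F ↥U = l * 2 := fun l hl => by
          obtain ⟨U, -, h3, h4, h5⟩ := Cfsg.Agent.Lib.Elusive.exists_nd_multiple hgood hfp hfix l ⊤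
            (fun v _ => Submodule.mem_top) (Cfsg.Agent.Lib.Elusive.nd_top hgood) (by rw [finrank_top, hdim]; exact hl)
          exact ⟨U, h3, h4, h5⟩
        rcases hcond with ho | hev | harith
        · exact absurd ⟨k, rfl⟩ (Nat.not_even_iff_odd.2 ho)
        · obtain ⟨l, hl⟩ := hev
          obtain ⟨U, h3, h4, h5⟩ := hall2 l (by omega)
          exact ⟨U, by omega, h4, h3⟩
        · -- such an element does not exist
          exfalso
          refine ((Cfsg.Agent.Lib.Elusive.exists_nonsquare_iff hq h2 (k := k) (by omega)).1 ⟨c, hc1, hsq, ?_⟩)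
            (by rw [two_mul]; exact harith)
          -- det f = (-c) ^ k
          obtain ⟨D, hD⟩ : ∃ D : F, D ^ 2 = c := by
            obtain ⟨g, -, -, hgen⟩ := Cfsg.Agent.Lib.Elusive.exists_norm_generator hq
            obtain ⟨G, hG⟩ := IsCyclic.exists_monoid_generator (α := Fˣ)
            obtain ⟨a, ha⟩ := Submonoid.mem_powers_iff _ _ |>.1 (hG (Units.mk0 c hc0))
            have hev : Even a := by
              have h5 : G ^ (a * (q + 1)) = 1 := Units.ext (by
                rw [pow_mul, ha, Units.val_pow_eq_pow_val, Units.val_mk0, hc1, Units.val_one])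
              have h6 := orderOf_dvd_of_pow_eq_one h5
              rw [orderOf_eq_card_of_forall_mem_zpowers fun x => mem_powers_iff_mem_zpowers.1 (hG x), Nat.card_units,
                Nat.card_eq_fintype_card, hq, show q ^ 2 - 1 = (q - 1) * (q + 1) by
                  rw [mul_comm]; simpa using Nat.sq_sub_sq q 1] at h6
              have h7 := Nat.dvd_of_mul_dvd_mul_right (by omega) h6
              have hqodd : 2 ∣ q - 1 := by
                rw [hqe]
                have : (p ^ e₀) % 2 = 1 :=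
                  Nat.odd_iff.1 (((Fact.out : p.Prime).odd_of_ne_two hp2).pow)
                omega
              exact even_iff_two_dvd.2 (hqodd.trans h7)
            obtain ⟨t, rfl⟩ := hev
            exact ⟨((G ^ t : Fˣ) : F), by rw [← Units.val_pow_eq_pow_val, ← pow_mul, mul_two, ha]; rfl⟩
          have hD0 : D ≠ 0 := fun h0 => hc0 (by rw [← hD, h0, zero_pow two_ne_zero])
          have hDN : D ^ (q + 1) = -1 := by
            have h5 : (D ^ (q + 1)) ^ 2 = 1 := by rw [← pow_mul, mul_comm, pow_mul, hD, hc1]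
            exact (sq_eq_one_iff.1 h5).resolve_left fun h6 => hsq D h6 hD
          set y := D⁻¹ • f with hy'
          have hy : y ^ 2 = 1 := by
            rw [hy', _root_.smul_pow, hc, smul_smul, _root_.inv_pow, hD, inv_mul_cancel₀ hc0, one_smul]
          have hyn : ∀ u v, B (y u) (y v) = -B u v := fun u v => by
            simp only [hy', LinearMap.smul_apply, map_smulₛₗ, RingHom.id_apply, smul_eq_mul,
              Cfsg.Agent.Lib.Forms.qPowHom_apply, hfp]
            rw [← mul_assoc, ← pow_succ', _root_.inv_pow, hDN, inv_neg_one, neg_one_mul,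
              show B (f u) (f v) = B u v from hfp u v]
          have hiso : ∀ (T : Submodule F (Fin (k + k) → F)) (e : F), (∀ v ∈ T, y v = e • v) → e * e = 1 →
              (e = 1 ∨ e = -1) → Module.finrank F ↥T ≤ k := by
            intro T e he hee hpm
            have hI : Cfsg.Agent.Lib.Elusive.Iso B T := fun u hu v hv => by
              have h5 := hyn u v
              simp only [he u hu, he v hv, map_smulₛₗ, LinearMap.smul_apply, RingHom.id_apply, smul_eq_mul] at h5
              have hse : Cfsg.Agent.Lib.Forms.qPowHom hq e = e := by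
                rcases hpm with rfl | rfl <;> simp only [map_one, map_neg]
              rw [hse, ← mul_assoc, hee, one_mul] at h5
              have h7 : (2 : F) * B u v = 0 := by linear_combination h5
              exact (mul_eq_zero.1 h7).resolve_left h2
            have h5 := Cfsg.Agent.Lib.Elusive.iso_finrank_le hgood (T := ⊤) (Cfsg.Agent.Lib.Elusive.nd_top hgood)
              le_top hI
            rw [finrank_top, hdim] at h5
            omega
          have hE1 := hiso (Cfsg.Agent.Lib.Elusive.fix1 y) 1 (fun v hv => by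
            rw [Cfsg.Agent.Lib.Elusive.mem_fix1.1 hv, one_smul]) (one_mul 1) (Or.inl rfl)
          have hneg : ∀ v ∈ LinearMap.ker (Cfsg.Agent.Lib.Elusive.avg y 2), y v = -v := fun v hv => by
            have h3 := LinearMap.mem_ker.1 hv
            rw [Cfsg.Agent.Lib.Elusive.avg_apply, smul_eq_zero] at h3
            have h4 := h3.resolve_left (inv_ne_zero hrF)
            rw [Finset.sum_range_succ, Finset.sum_range_succ, Finset.sum_range_zero, zero_add, pow_zero,
              pow_one] at h4
            exact eq_neg_of_add_eq_zero_right h4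
          have hE2 := hiso (LinearMap.ker (Cfsg.Agent.Lib.Elusive.avg y 2)) (-1)
            (fun v hv => (hneg v hv).trans (neg_one_smul F v).symm) (neg_mul_neg _ _ |>.trans (one_mul 1)) (Or.inr rfl)
          have hsum := Cfsg.Agent.Lib.Elusive.finrank_fix1_add (r := 2) hy hrF
          rw [hdim] at hsum
          -- the determinant of `y`
          have hcompl : IsCompl (Cfsg.Agent.Lib.Elusive.fix1 y) (LinearMap.ker (Cfsg.Agent.Lib.Elusive.avg y 2)) := by
            have h5 := Cfsg.Agent.Lib.Elusive.fix1_inf_ker_avg (y := y) hrF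
            refine IsCompl.of_eq h5 (Submodule.eq_top_of_finrank_eq ?_)
            have h6 := Submodule.finrank_sup_add_finrank_inf_eq (Cfsg.Agent.Lib.Elusive.fix1 y)
              (LinearMap.ker (Cfsg.Agent.Lib.Elusive.avg y 2))
            rw [h5, finrank_bot, add_zero] at h6
            rw [h6, hdim, hsum]
          have hdety : LinearMap.det y = (-1) ^ k := by
            have he : (Submodule.prodEquivOfIsCompl _ _ hcompl).conj
                ((1 : Module.End F ↥(Cfsg.Agent.Lib.Elusive.fix1 y)).prodMap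
                  ((-1 : F) • (1 : Module.End F ↥(LinearMap.ker (Cfsg.Agent.Lib.Elusive.avg y 2))))) = y := by
              refine LinearMap.ext fun v => ?_
              obtain ⟨⟨u, w⟩, rfl⟩ := (Submodule.prodEquivOfIsCompl _ _ hcompl).surjective v
              rw [LinearEquiv.conj_apply_apply, LinearEquiv.symm_apply_apply, Submodule.coe_prodEquivOfIsCompl',
                Submodule.coe_prodEquivOfIsCompl', map_add, Cfsg.Agent.Lib.Elusive.mem_fix1.1 u.2, hneg _ w.2]
              simp
            rw [← he, LinearEquiv.conj_apply, LinearMap.comp_assoc, LinearMap.det_conj, LinearMap.det_prodMap,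
              map_one, one_mul, Cfsg.Agent.Lib.Elusive.det_smul_one,
              show Module.finrank F ↥(LinearMap.ker (Cfsg.Agent.Lib.Elusive.avg y 2)) = k by omega]
          rw [hy', LinearMap.det_smul, hdet, mul_one, hdim, ← two_mul, pow_mul, _root_.inv_pow, hD] at hdety
          have h8 : (-c) ^ k = ((-1) ^ k) ^ 2 := by
            rw [neg_pow, ← inv_inv c, _root_.inv_pow, hdety, ← _root_.inv_pow, inv_neg_one]; ring
          rw [h8, ← pow_mul, mul_comm, pow_mul, neg_one_sq, one_pow]
  have hr3 : 2 < r := lt_of_le_of_ne hr.two_le (Ne.symm hr2)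
  simp only [ne_eq, hrp, false_and, false_or, hr2, not_false_eq_true, true_and, hr3]
  obtain ⟨hbQ, hipos, hbs, hdvdGU, hSD, hNSD, hi2⟩ :=
    Cfsg.Agent.Lib.Elusive.unitary_blockSize hq (p := p) hr hr2 hrp hi hb hc
  have hcpos : 0 < c := by rw [hc]; split_ifs <;> omega
  set M := n / c with hM
  set k := n % c with hk
  have hMk : M * c + k = n := by rw [hM, hk]; exact Nat.div_add_mod' _ _
  have hkc : k < c := Nat.mod_lt _ hcpos
  have hsuff : c ≤ m → m % c ≤ k → ∀ y : Module.End F (Fin n → F), y ^ r = 1 →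
      (∀ u v, B (y u) (y v) = B u v) → P y := by
    intro hcm hk2 y hy hyp
    obtain ⟨N, hN, hU⟩ := Cfsg.Agent.Lib.Elusive.nd_blocks hgood hr hrF hbs hy hyp (hparts y hy hyp).2
      Cfsg.Agent.Lib.Elusive.inv_ker_avg le_rfl
    have hsum := Cfsg.Agent.Lib.Elusive.finrank_fix1_add (r := r) hy hrF
    rw [hN, hdim] at hsum
    have hNM : N ≤ M := by
      rw [hM, Nat.le_div_iff_mul_le hcpos]; omega
    have h4 := Nat.div_add_mod' m c
    obtain ⟨U, hUR, hUi, hUn, hUd⟩ := hU (min (m / c) N) (min_le_right _ _)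
    have hle : min (m / c) N * c ≤ m :=
      (Nat.mul_le_mul_right c (min_le_left _ _)).trans (Nat.div_mul_le_self _ c)
    refine hbuild y hy hyp (m - min (m / c) N * c) ?_ ⟨U, hUR, hUi, hUn, by omega⟩
    have := Nat.mul_le_mul_right c hNM
    rcases min_cases (m / c) N with ⟨e1, -⟩ | ⟨e1, -⟩ <;> rw [e1] <;> omega
  by_cases hi2' : i = 2
  · have hc1 : c = 1 := by rw [hc, hi2']; rfl
    have hrq : r ∣ q + 1 := hi2.1 hi2'
    simp only [hi2', not_true_eq_false, false_and, false_or, true_and]
    constructor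
    · intro hall
      by_contra hcon
      push Not at hcon
      obtain ⟨hrm, hlt⟩ := hcon
      haveI : Fact r.Prime := ⟨hr⟩
      obtain ⟨k', hk'⟩ : r ∣ n := by
        by_contra hnd
        rw [padicValNat.eq_zero_of_not_dvd hnd] at hlt
        omega
      have hk'0 : k' ≠ 0 := fun h0 => by rw [h0, mul_zero] at hk'; omega
      rw [hk', padicValNat.mul hr.ne_zero hk'0, padicValNat.self hr.one_lt] at hlt
      obtain ⟨z, hz1, hzk, hzd⟩ :=
        (Cfsg.Agent.Lib.Elusive.exists_norm_nonpower_iff hq hr hr2 hrq hk'0).2 (by omega)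
      obtain ⟨f, hf, hfp⟩ := Cfsg.Agent.Lib.Elusive.exists_monomial hq (n := n) hr.pos
        (k := k') (hk'.trans (mul_comm _ _)) hz1
      have hns : Cfsg.Agent.Lib.Elusive.NonSplit r f := ⟨z, hf, hzd⟩
      obtain ⟨-, ⟨z', hz', -, hdet⟩, -⟩ := Cfsg.Agent.Lib.Elusive.NonSplit.structure' hr hns
      obtain rfl : z' = z := smul_left_injective F (one_ne_zero (α := Module.End F (Fin n → F))) (hz'.symm.trans hf)
      rw [hdim, show n / r = k' by rw [hk', Nat.mul_div_cancel_left _ hr.pos],
        ((hr.odd_of_ne_two hr2).add_one).neg_one_pow, one_mul, hzk] at hdet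
      obtain ⟨W, hWd, -, hW⟩ := hall f hdet ⟨z', hf⟩ (fun a ha => hzd a (by
        rw [ha, _root_.smul_pow, one_pow] at hf
        exact smul_left_injective F (one_ne_zero (α := Module.End F (Fin n → F))) hf)) hfp
      exact hrm (hWd ▸ hns.dvd_finrank hr hW)
    · intro hcond f hdet ⟨z, hz⟩ _ hfp
      have hz1 := Cfsg.Agent.Lib.Elusive.norm_scalar hq hn0 hfp hz
      have hz0 : z ≠ 0 := fun h0 => by rw [h0, zero_pow (by omega)] at hz1; exact zero_ne_one hz1
      by_cases hsp : ∃ d : F, d ^ r = z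
      · obtain ⟨d, hd⟩ := hsp
        have hd0 : d ≠ 0 := fun h0 => hz0 (by rw [← hd, h0, zero_pow hr.ne_zero])
        have hd1 : d ^ (q + 1) = 1 := by
          have h5 : (d ^ (q + 1)) ^ r = 1 := by rw [← pow_mul, mul_comm, pow_mul, hd, hz1]
          have h6 : (d ^ (q + 1)) ^ (q - 1) = 1 := by
            rw [← pow_mul, show (q + 1) * (q - 1) = Fintype.card F - 1 by
              rw [hq]; simpa using (Nat.sq_sub_sq q 1).symm]
            exact FiniteField.pow_card_sub_one_eq_one d hd0
          have h7 := pow_gcd_eq_one.2 ⟨h5, h6⟩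
          have hnd : ¬ r ∣ q - 1 := fun h1 => by
            have h9 : r ∣ 2 := by
              have := Nat.dvd_sub hrq h1
              rwa [show q + 1 - (q - 1) = 2 by omega] at this
            exact hr2 ((Nat.prime_dvd_prime_iff_eq hr Nat.prime_two).1 h9)
          rwa [((Nat.Prime.coprime_iff_not_dvd hr).2 hnd).gcd_eq_one, pow_one] at h7
        have hf : f = d • (d⁻¹ • f) := by rw [smul_smul, mul_inv_cancel₀ hd0, one_smul]
        rw [hf, hPs d _ hd0]
        exact hsuff (by omega) (by rw [hc1, Nat.mod_one]; exact Nat.zero_le _) _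
          (by rw [_root_.smul_pow, hz, smul_smul, _root_.inv_pow, hd, inv_mul_cancel₀ hz0, one_smul])
          (Cfsg.Agent.Lib.Elusive.smul_pres hq (by rw [_root_.inv_pow, hd1, inv_one]) hfp)
      · push Not at hsp
        have hns : Cfsg.Agent.Lib.Elusive.NonSplit r f := ⟨z, hz, hsp⟩
        have hrm : r ∣ m := hcond.resolve_right fun harith => by
          haveI : Fact r.Prime := ⟨hr⟩
          obtain ⟨⟨k', hk'⟩, ⟨z', hz', -, hdet'⟩, -⟩ := Cfsg.Agent.Lib.Elusive.NonSplit.structure' hr hns
          obtain rfl : z' = z := smul_left_injective F (one_ne_zero (α := Module.End F (Fin n → F))) (hz'.symm.trans hz)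
          rw [hdim] at hk'
          have hk'0 : k' ≠ 0 := fun h0 => by rw [h0, mul_zero] at hk'; omega
          rw [hdet, hdim, show n / r = k' by rw [hk', Nat.mul_div_cancel_left _ hr.pos],
            ((hr.odd_of_ne_two hr2).add_one).neg_one_pow, one_mul] at hdet'
          have h5 := (Cfsg.Agent.Lib.Elusive.exists_norm_nonpower_iff hq hr hr2 hrq hk'0).1
            ⟨z', hz1, hdet'.symm, hsp⟩
          rw [hk', padicValNat.mul hr.ne_zero hk'0, padicValNat.self hr.one_lt] at harith
          omega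
        obtain ⟨l, hl⟩ := hrm
        obtain ⟨U, h3, h4, h5⟩ := Cfsg.Agent.Lib.Elusive.exists_nd_nonSplit hgood hσ hr hns hfp (k := l)
          (by rw [mul_comm, ← hl, hdim]; omega)
        exact ⟨U, h5.trans ((mul_comm _ _).trans hl.symm), h4, h3⟩
  have hrq : ¬ r ∣ q + 1 := fun h => hi2' (hi2.2 h)
  refine (Cfsg.Agent.Lib.Elusive.forall_isometry_iff hq hr hrq hn0 P hPs).trans ?_
  simp only [hi2', not_false_eq_true, true_and, false_and, or_false]
  refine ⟨fun hall => ?_, fun h y hy _ hyp => hsuff h.1 h.2 y hy hyp⟩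
  obtain ⟨y₀, hy₀, hy₀ne, hy₀p⟩ := Cfsg.Agent.Lib.Elusive.exists_unitary_block hq hr hdvdGU
  have hPc : Module.finrank F (Fin c → F) = c := Module.finrank_fin_fun F
  obtain ⟨E⟩ := Cfsg.Agent.Lib.Elusive.exists_blockEmb_unit hq (n := n) (N := M) (c := c) (by omega)
  obtain ⟨y, hy, hyp, hyR⟩ := Cfsg.Agent.Lib.Elusive.exists_isometry_blocks hgood
    (Cfsg.Agent.Lib.Forms.hermSesq_goodForm hq) hr hrF hbs hPc E hy₀ hy₀ne hy₀p
  have hsum := Cfsg.Agent.Lib.Elusive.finrank_fix1_add (r := r) hy hrF
  rw [hyR, hdim] at hsum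
  have hfixk : Module.finrank F ↥(Cfsg.Agent.Lib.Elusive.fix1 y) = k := by omega
  have hsplit : ∀ W, Cfsg.Agent.Lib.Elusive.Inv y W → Cfsg.Agent.Lib.Elusive.Nd B W →
      Module.finrank F ↥W = m → m % c ≤ k ∧ (m < c → W ≤ Cfsg.Agent.Lib.Elusive.fix1 y) := by
    intro W hW hWn hWd
    obtain ⟨-, h2⟩ := Cfsg.Agent.Lib.Elusive.nd_parts hgood hy hyp hrF hWn hW
    obtain ⟨e, he, -⟩ := Cfsg.Agent.Lib.Elusive.nd_blocks hgood hr hrF hbs hy hyp h2
      (Cfsg.Agent.Lib.Elusive.inv_inf hW Cfsg.Agent.Lib.Elusive.inv_ker_avg) inf_le_right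
    have h1 := Cfsg.Agent.Lib.Elusive.finrank_of_inv (r := r) hy hrF hW
    have h3 := Submodule.finrank_mono (inf_le_right : W ⊓ Cfsg.Agent.Lib.Elusive.fix1 y ≤ _)
    rw [hWd, he] at h1
    rw [hfixk] at h3
    refine ⟨?_, fun hlt => ?_⟩
    · have h4 : e = m / c := (Nat.div_eq_of_lt_le (by omega) (by rw [add_one_mul]; omega)).symm
      have h5 := Nat.div_add_mod' m c
      rw [← h4] at h5
      omega
    · have he0 : e = 0 := by
        by_contra hne
        have := Nat.le_mul_of_pos_left c (Nat.pos_of_ne_zero hne)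
        omega
      have hbot : W ⊓ LinearMap.ker (Cfsg.Agent.Lib.Elusive.avg y r) = ⊥ :=
        Submodule.finrank_eq_zero.1 (by rw [he, he0, zero_mul])
      have hh := Cfsg.Agent.Lib.Elusive.inf_sup_inf_of_inv (r := r) hy hrF hW
      rw [hbot, sup_bot_eq] at hh
      exact hh ▸ inf_le_right
  have c2 : m % c ≤ k := by
    by_cases hy1 : y = 1
    · have h2 : Cfsg.Agent.Lib.Elusive.fix1 y = ⊤ :=
        eq_top_iff.2 fun v _ => Cfsg.Agent.Lib.Elusive.mem_fix1.2 (by rw [hy1]; rfl)
      rw [h2, finrank_top, hdim] at hfixk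
      have := Nat.mod_le m c
      omega
    · obtain ⟨W, hWd, hWn, hW⟩ := hall y hy hy1 hyp
      exact (hsplit W hW hWn hWd).1
  refine ⟨?_, c2⟩
  by_contra hcon
  push Not at hcon
  rw [Nat.mod_eq_of_lt hcon] at c2
  refine Cfsg.Agent.Lib.Elusive.not_dvd_natCard_obj hgood hr hrF hbs (κ := Unit)
    (fun D => Module.finrank F ↥(D ()) = m ∧ Cfsg.Agent.Lib.Elusive.Nd B (D ()))
    hy hyp (hfixk.trans_lt hkc) ?_ ?_ ?_ ?_ ?_
  · rintro e he D ⟨h1, h2⟩
    refine ⟨(LinearEquiv.finrank_map_eq e (D ())).trans h1, ?_⟩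
    rintro _ ⟨u, hu, rfl⟩ hu'
    have : u = 0 := h2 u hu fun v hv => by
      have := hu' (e v) ⟨v, hv, rfl⟩
      rwa [LinearEquiv.coe_coe, he] at this
    rw [this, map_zero]
  · rintro D ⟨h1, h2⟩ hD ⟨⟩
    exact (hsplit (D ()) (hD ()) h2 h1).2 hcon
  · obtain ⟨A, hA1, hA2, hA3⟩ := Cfsg.Agent.Lib.Elusive.exists_herm_nd_sub hgood hσ (hparts y hy hyp).1
      (a := m) (by omega)
    exact ⟨fun _ => A, ⟨hA3, hA2⟩, fun _ => hA1⟩
  · rintro D D' ⟨h1, h2⟩ ⟨h1', h2'⟩ hD hD'
    obtain ⟨f, hfm, hfg, hf, hfs⟩ := Cfsg.Agent.Lib.Elusive.exists_herm_frame hgood hσ h2 h1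
    obtain ⟨f', hfm', hfg', hf', hfs'⟩ := Cfsg.Agent.Lib.Elusive.exists_herm_frame hgood hσ h2' h1'
    obtain ⟨e, he, heR, hef⟩ := Cfsg.Agent.Lib.Elusive.exists_isometry_move hgood hrF hy hyp f f' hf hf'
      (fun a => hD () (hfm a)) (fun a => hD' () (hfm' a)) (fun a b => (hfg a b).trans (hfg' a b).symm)
    exact ⟨e, he, heR, fun _ => Cfsg.Agent.Lib.Elusive.map_eq_of_frames e hef hfs hfs'⟩
  · refine hrΩ.trans (dvd_of_eq (Nat.card_congr ?_))
    exact ⟨fun W => ⟨fun _ => W.1, W.2.1, (hndiff _).1 W.2.2⟩, fun D => ⟨D.1 (), D.2.1, (hndiff _).2 D.2.2⟩,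
      fun _ => rfl, fun _ => Subtype.ext (funext fun _ => rfl)⟩

end Cfsg.Agent.S5954
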