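import Cfsg.Statements.S5955
import Mathlib
import Cfsg.Agent.Lib.Elusive.SympCounts
import Cfsg.Agent.Lib.Elusive.SympTI

set_option autoImplicit false
open scoped MatrixGroups
open Cfsg

namespace Cfsg.Agent.S5955

/-- Elements of prime order of PSp_n(q) with no fixed totally isotropic `m`-space. Here `T = PSp_n(q)` with `n = 2d ≥ 4`, `(n, q) ≠ (4, 2)`, realised through the symplectic matrices over the field `F` with `q` elements (preserving the standard alternating form); an element of `T` of prime order `r` is such a matrix `x` with `x^r` scalar and `x` not scalar. For `r ≠ p` let `i` be the multiplicative order of `q` modulo `r`, `c = i` for `i` even and `c = 2i` for `i` odd, and write `k = n mod c`, `ℓ = m mod i`, `ℓ' = m mod c`, `n' = ⌊n/i⌋`, `m' = ⌊m/i⌋`, `t = (r−1)/i`. Let `1 ≤ m ≤ n/2` and let `r` be a prime dividing the number of totally isotropic `m`-spaces. Then every element of `T` of order `r` fixes a totally isotropic `m`-space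 if and only if either (i) `r = 2 ≠ p` and (`m` is even or `q ≡ 1 (mod 4)`); or (ii) `r ≠ p`, `r > 2`, `i ≤ m`, `k ≥ 2ℓ`, and (`i` is odd or `n' − 2m' ≥ t`). -/
theorem result {F : Type*} [Field F] [Fintype F] {p : ℕ} [Fact p.Prime] [CharP F p] {q : ℕ} (hq : Fintype.card F = q)
    (d m : ℕ) (hd : 2 ≤ d) (hT : (d, q) ≠ (2, 2)) (hm : 1 ≤ m) (hmd : m ≤ d)
    (r : ℕ) [Fact r.Prime]
    (hrΩ : r ∣ Nat.card {W : Submodule F (Fin d ⊕ Fin d → F) // Module.finrank F ↥W = m ∧ (∀ u ∈ W, ∀ v ∈ W, Cfsg.sympForm d F u v = 0)})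
    (i c : ℕ) (hi : i = orderOf (q : ZMod r)) (hc : c = if Even i then i else 2 * i) :
    (∀ x : ↥(Matrix.symplecticGroup (Fin d) F),
      (∃ z : F, ((x ^ r : ↥(Matrix.symplecticGroup (Fin d) F)) : Matrix (Fin d ⊕ Fin d) (Fin d ⊕ Fin d) F) = z • (1 : Matrix (Fin d ⊕ Fin d) (Fin d ⊕ Fin d) F)) →
      (∀ z : F, (x : Matrix (Fin d ⊕ Fin d) (Fin d ⊕ Fin d) F) ≠ z • (1 : Matrix (Fin d ⊕ Fin d) (Fin d ⊕ Fin d) F)) →
      ∃ W : Submodule F (Fin d ⊕ Fin d → F), Module.finrank F ↥W = m ∧ (∀ u ∈ W, ∀ v ∈ W, Cfsg.sympForm d F u v = 0) ∧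
        W.map (Matrix.toLin' (x : Matrix (Fin d ⊕ Fin d) (Fin d ⊕ Fin d) F)) ≤ W) ↔
    ((r = 2 ∧ p ≠ 2 ∧ (Even m ∨ q % 4 = 1)) ∨
     (r ≠ p ∧ 2 < r ∧ i ≤ m ∧ 2 * (m % i) ≤ (2 * d) % c ∧ (Odd i ∨ (r - 1) / i + 2 * (m / i) ≤ (2 * d) / i))) := by
  classical
  open Cfsg.Agent.Lib.Forms Cfsg.Agent.Lib.Elusive in
  subst hq
  have hr : r.Prime := Fact.out
  set B : LinearMap.BilinForm F (Fin d ⊕ Fin d → F) := Cfsg.Agent.Lib.Forms.sympBilin d F with hB
  have hA : B.IsAlt := Cfsg.Agent.Lib.Forms.sympBilin_isAlt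
  have hgood : Cfsg.Agent.Lib.Forms.IsGoodForm (σ := RingHom.id F) B (-1) := Cfsg.Agent.Lib.Forms.sympBilin_goodForm
  have hBs : ∀ u v, B u v = Cfsg.sympForm d F u v := Cfsg.Agent.Lib.Forms.sympBilin_apply
  have hdim : Module.finrank F (Fin d ⊕ Fin d → F) = 2 * d := Cfsg.Agent.Lib.Elusive.finrank_std
  by_cases hrp : r = p
  · subst hrp
    exact absurd hrΩ (Cfsg.Agent.Lib.Elusive.not_dvd_natCard_iso_char d m hmd)
  by_cases hr2 : r = 2
  · subst hr2
    have hp2 : p ≠ 2 := fun e => hrp e.symm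
    have h2 : (2 : F) ≠ 0 := by
      intro h0
      have h1 : ((2 : ℕ) : F) = 0 := by exact_mod_cast h0
      exact hp2 ((Nat.prime_dvd_prime_iff_eq Fact.out Nat.prime_two).1 ((CharP.cast_eq_zero_iff F p 2).1 h1))
    have hodd : Fintype.card F % 2 = 1 := by
      refine FiniteField.odd_card_of_char_ne_two fun hc => h2 ?_
      haveI : CharP F 2 := hc ▸ ringChar.charP F
      exact CharTwo.two_eq_zero
    constructor
    · intro hall
      refine Or.inl ⟨rfl, hp2, ?_⟩
      by_contra hcon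
      push Not at hcon
      have hq3 : Fintype.card F % 4 = 3 := by have := hcon.2; omega
      have hns : ¬ IsSquare (-1 : F) := fun h => (FiniteField.isSquare_neg_one_iff.1 h) hq3
      obtain ⟨W, hWd, hWi, hWm⟩ := hall ⟨Matrix.J (Fin d) F, SymplecticGroup.J_mem (Fin d) F⟩ ⟨-1, by
          rw [SubmonoidClass.coe_pow, pow_two, Matrix.J_squared, neg_smul, one_smul]⟩
        (fun z hz => by
          have h1 := congrFun (congrFun hz (.inr ⟨0, by omega⟩)) (.inl ⟨0, by omega⟩)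
          simp [Matrix.J] at h1)
      have hJ : Cfsg.Agent.Lib.Elusive.Inv (Matrix.toLin' (Matrix.J (Fin d) F)) W :=
        (Cfsg.Agent.Lib.Elusive.inv_iff_map_le _ _).2 hWm
      let g : Module.End F ↥W := (Matrix.toLin' (Matrix.J (Fin d) F)).restrict hJ
      have hgg : g * g = (-1 : F) • 1 := LinearMap.ext fun v => Subtype.ext (by
        show Matrix.toLin' (Matrix.J (Fin d) F) (Matrix.toLin' (Matrix.J (Fin d) F) v.1) = (-1 : F) • v.1
        rw [Matrix.toLin'_apply, Matrix.toLin'_apply, Matrix.mulVec_mulVec, Matrix.J_squared, Matrix.neg_mulVec,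
          Matrix.one_mulVec, neg_smul, one_smul])
      have hdet := congrArg LinearMap.det hgg
      rw [map_mul, LinearMap.det_smul, map_one, mul_one, hWd, (Nat.not_even_iff_odd.1 hcon.1).neg_one_pow] at hdet
      exact hns ⟨_, hdet.symm⟩
    · intro hcond x ⟨z, hz⟩ hns
      set X : Module.End F (Fin d ⊕ Fin d → F) :=
        Matrix.toLin' (x : Matrix (Fin d ⊕ Fin d) (Fin d ⊕ Fin d) F) with hX
      have hpres : ∀ u v, B (X u) (X v) = B u v := fun u v => by
        simp only [hBs, hX, Matrix.toLin'_apply]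
        exact Cfsg.Agent.Lib.Forms.mem_symplecticGroup_iff_preserves.1 x.2 u v
      have hxx : ∀ v, X (X v) = z • v := fun v => by
        rw [SubmonoidClass.coe_pow, pow_two] at hz
        rw [hX, Matrix.toLin'_apply, Matrix.toLin'_apply, Matrix.mulVec_mulVec, hz, Matrix.smul_mulVec,
          Matrix.one_mulVec]
      let v₀ : Fin d ⊕ Fin d → F := Pi.single (.inl ⟨0, by omega⟩) 1
      let w₀ : Fin d ⊕ Fin d → F := Pi.single (.inr ⟨0, by omega⟩) 1
      have hb₀ : B v₀ w₀ ≠ 0 := by simp [hBs, Cfsg.Agent.Lib.Forms.sympForm_apply, v₀, w₀, Pi.single_apply]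
      have hzz : z * z = 1 := by
        have h1 := (hpres (X v₀) (X w₀)).trans (hpres v₀ w₀)
        rw [hxx, hxx, map_smul, map_smul, LinearMap.smul_apply, smul_eq_mul, smul_eq_mul, ← mul_assoc] at h1
        exact (mul_eq_right₀ hb₀).1 h1
      suffices hs : ∃ W : Submodule F (Fin d ⊕ Fin d → F), Module.finrank F ↥W = m ∧
          Cfsg.Agent.Lib.Elusive.Iso (σ := RingHom.id F) B W ∧ Cfsg.Agent.Lib.Elusive.Inv X W by
        obtain ⟨W, h1, h3, h4⟩ := hs
        exact ⟨W, h1, fun u hu v hv => (hBs u v).symm.trans (h3 u hu v hv),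
          (Cfsg.Agent.Lib.Elusive.inv_iff_map_le _ _).1 h4⟩
      rcases mul_self_eq_one_iff.1 hzz with rfl | rfl
      · exact Cfsg.Agent.Lib.Elusive.exists_fixed_iso_involution hA hgood h2
          (LinearMap.ext fun v => by rw [pow_two, Module.End.mul_apply, hxx, one_smul]; rfl) hpres (by omega)
      · by_cases hsq : ∃ l : F, l * l = -1
        · obtain ⟨l, hl⟩ := hsq
          exact Cfsg.Agent.Lib.Elusive.exists_fixed_iso_split hA hgood h2 hl hpres hxx (by omega)
        · push Not at hsq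
          have hev : Even m := by
            rcases hcond with ⟨-, -, h | h⟩ | ⟨-, h, -⟩
            · exact h
            · obtain ⟨l, hl⟩ := FiniteField.isSquare_neg_one_iff.2 (show Fintype.card F % 4 ≠ 3 by omega)
              exact absurd hl.symm (hsq l)
            · omega
          obtain ⟨e, rfl⟩ := hev
          obtain ⟨W, -, h1, h3, h4⟩ := Cfsg.Agent.Lib.Elusive.exists_fixed_iso_even hA hgood h2 hpres hxx hsq e ⊤
            (Cfsg.Agent.Lib.Elusive.nd_top hgood) (fun v _ => Submodule.mem_top) (by rw [finrank_top, hdim]; omega)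
          exact ⟨W, h1.trans (two_mul e), h3, h4⟩
  have hrF : (r : F) ≠ 0 := by
    rw [Ne, CharP.cast_eq_zero_iff F p]
    exact fun h => hrp (((Nat.prime_dvd_prime_iff_eq Fact.out hr).1 h).symm)
  have hipos : 0 < i := hi ▸ Cfsg.Agent.Lib.Elusive.ordq_pos hr hrF
  have hbs : Cfsg.Agent.Lib.Elusive.BlockSize (RingHom.id F) r c := by
    rcases Nat.even_or_odd i with he | ho
    · exact Or.inl ⟨hr2, ⟨_, Cfsg.Agent.Lib.Elusive.selfDualExp_id (p := p) hr (hi ▸ he) (hi ▸ hipos)⟩,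
        by rw [hc, if_pos he, hi]⟩
    · exact Or.inr ⟨Cfsg.Agent.Lib.Elusive.notSelfDual_id (p := p) hr hr2 (hi ▸ ho),
        by rw [hc, if_neg (Nat.not_even_iff_odd.2 ho), hi]⟩
  obtain ⟨h, hch⟩ : ∃ h, c = 2 * h := by
    rcases Nat.even_or_odd i with he | ho
    · obtain ⟨h, hh⟩ := he; exact ⟨h, by rw [hc, if_pos ⟨h, hh⟩]; omega⟩
    · exact ⟨i, by rw [hc, if_neg (Nat.not_even_iff_odd.2 ho)]⟩
  have hic : i ∣ 2 * h := by
    rw [← hch, hc]; split_ifs
    · exact dvd_rfl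
    · exact dvd_mul_left i 2
  have hcpos : 0 < c := by rw [hc]; split_ifs <;> omega
  have hci2 : c ≤ 2 * i := by rw [hc]; split_ifs <;> omega
  set M := 2 * d / c with hM
  set k := 2 * d % c with hk
  have hMk : M * c + k = 2 * d := by rw [hM, hk]; exact Nat.div_add_mod' _ _
  have hkc : k < c := Nat.mod_lt _ hcpos
  refine (Cfsg.Agent.Lib.Elusive.forall_symp_iff hr hr2 (by omega)
    (fun f => ∃ W : Submodule F (Fin d ⊕ Fin d → F), Module.finrank F ↥W = m ∧
      (∀ u ∈ W, ∀ v ∈ W, Cfsg.sympForm d F u v = 0) ∧ W.map f ≤ W) fun f hf => ?_).trans ?_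
  · obtain ⟨W, h1, h2', h3⟩ := hf
    exact ⟨W, h1, h2', by rwa [Submodule.map_neg]⟩
  have hP : ∀ (y : Module.End F (Fin d ⊕ Fin d → F)) (W : Submodule F (Fin d ⊕ Fin d → F)),
      (Module.finrank F ↥W = m ∧ (∀ u ∈ W, ∀ v ∈ W, Cfsg.sympForm d F u v = 0) ∧ W.map y ≤ W) ↔
      (Module.finrank F ↥W = m ∧ Cfsg.Agent.Lib.Elusive.Iso (σ := RingHom.id F) B W ∧
        Cfsg.Agent.Lib.Elusive.Inv y W) := fun y W => by
    rw [Cfsg.Agent.Lib.Elusive.inv_iff_map_le]
    simp only [Cfsg.Agent.Lib.Elusive.Iso, hBs]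
  simp only [hP, hr2, false_and, false_or]
  constructor
  · intro hall
    obtain ⟨y₀, hy₀, hy₀ne, hy₀p⟩ := Cfsg.Agent.Lib.Elusive.exists_symp_block (F := F) (h := h) hr
      (hi ▸ hic) (by omega)
    have hemb : ∀ N, N * c ≤ 2 * d → Nonempty (Cfsg.Agent.Lib.Elusive.BlockEmb (σ := RingHom.id F) B
        (Cfsg.Agent.Lib.Forms.sympBilin h F : (Fin h ⊕ Fin h → F) →ₗ[F] _) N) := fun N hN =>
      Cfsg.Agent.Lib.Elusive.exists_blockEmb_symp (by rw [hch, mul_left_comm] at hN; omega)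
    have hPc : Module.finrank F (Fin h ⊕ Fin h → F) = c := hch ▸ Cfsg.Agent.Lib.Elusive.finrank_std
    -- the isometry with as many blocks as possible
    obtain ⟨E⟩ := hemb M (by omega)
    obtain ⟨y, hy, hyp, hyR⟩ := Cfsg.Agent.Lib.Elusive.exists_isometry_blocks hgood
      Cfsg.Agent.Lib.Forms.sympBilin_goodForm hr hrF hbs hPc E hy₀ hy₀ne hy₀p
    have hsum := Cfsg.Agent.Lib.Elusive.finrank_fix1_add (r := r) hy hrF
    rw [hyR, hdim] at hsum
    have hfixk : Module.finrank F ↥(Cfsg.Agent.Lib.Elusive.fix1 y) = k := by omega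
    have hsplit : ∀ W, Cfsg.Agent.Lib.Elusive.Inv y W → Module.finrank F ↥W = m →
        Cfsg.Agent.Lib.Elusive.Iso (σ := RingHom.id F) B W →
        ∃ e, 2 * (m - e * i) ≤ k ∧ e * i ≤ m ∧ e * i = Module.finrank F ↥(W ⊓ LinearMap.ker (Cfsg.Agent.Lib.Elusive.avg y r)) := by
      intro W hW hWd hWi
      obtain ⟨e, he⟩ := Cfsg.Agent.Lib.Elusive.dvd_finrank_of_le_ker hr hrF hy
        (Cfsg.Agent.Lib.Elusive.inv_inf hW Cfsg.Agent.Lib.Elusive.inv_ker_avg) inf_le_right
      rw [← hi, mul_comm] at he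
      have h1 := Cfsg.Agent.Lib.Elusive.finrank_of_inv (r := r) hy hrF hW
      obtain ⟨hfn, -⟩ := Cfsg.Agent.Lib.Elusive.nd_parts hgood hy hyp hrF (T := ⊤)
        (Cfsg.Agent.Lib.Elusive.nd_top hgood) (fun v _ => Submodule.mem_top)
      rw [top_inf_eq] at hfn
      have h3 := Cfsg.Agent.Lib.Elusive.iso_finrank_le hgood hfn (inf_le_right : W ⊓ _ ≤ _) (hWi.mono inf_le_left)
      rw [hWd, he] at h1
      exact ⟨e, by omega, by omega, he.symm⟩
    have hl : ∀ e, e * i ≤ m → 2 * (m - e * i) ≤ k → e = m / i ∧ m - e * i = m % i := fun e h1 h2' => by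
      have h3 : e = m / i := (Nat.div_eq_of_lt_le h1 (by rw [Nat.succ_mul]; omega)).symm
      have h4 := Nat.div_add_mod' m i
      rw [← h3] at h4
      exact ⟨h3, by omega⟩
    -- conditions
    have c2 : 2 * (m % i) ≤ k := by
      by_contra hcon
      have hM1 : 1 ≤ M := by
        rcases Nat.eq_zero_or_pos M with h0 | h0
        · rw [h0, zero_mul, zero_add] at hMk
          have := Nat.mod_le m i
          omega
        · exact h0
      obtain ⟨W, hWd, hWi, hW⟩ := hall y hy (fun h1 => by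
        rw [h1, show Cfsg.Agent.Lib.Elusive.fix1 (1 : Module.End F (Fin d ⊕ Fin d → F)) = ⊤ from
          eq_top_iff.2 fun v _ => Cfsg.Agent.Lib.Elusive.mem_fix1.2 rfl, finrank_top, hdim] at hfixk
        have := Nat.le_mul_of_pos_left c hM1
        omega) hyp
      obtain ⟨e, he1, he2, -⟩ := hsplit W hW hWd hWi
      obtain ⟨-, h5⟩ := hl e he2 he1
      omega
    have c1 : i ≤ m := by
      by_contra hcon
      push Not at hcon
      rw [Nat.mod_eq_of_lt hcon] at c2
      refine Cfsg.Agent.Lib.Elusive.not_dvd_natCard_obj hgood hr hrF hbs (κ := Unit)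
        (fun D => Module.finrank F ↥(D ()) = m ∧ ∀ u ∈ D (), ∀ v ∈ D (), Cfsg.sympForm d F u v = 0)
        hy hyp (hfixk.trans_lt hkc) ?_ ?_ ?_ ?_ ?_
      · rintro e he D ⟨h1, h2'⟩
        refine ⟨(LinearEquiv.finrank_map_eq e (D ())).trans h1, ?_⟩
        rintro _ ⟨u, hu, rfl⟩ _ ⟨v, hv, rfl⟩
        rw [← hBs, LinearEquiv.coe_coe, he, hBs]
        exact h2' u hu v hv
      · rintro D ⟨h1, h2'⟩ hD ⟨⟩
        obtain ⟨e, -, he, he'⟩ := hsplit (D ()) (hD ()) h1 fun u hu v hv => (hBs u v).trans (h2' u hu v hv)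
        have he0 : e = 0 := by
          by_contra hne
          have := Nat.le_mul_of_pos_left i (Nat.pos_of_ne_zero hne)
          omega
        have hbot : D () ⊓ LinearMap.ker (Cfsg.Agent.Lib.Elusive.avg y r) = ⊥ :=
          Submodule.finrank_eq_zero.1 (by rw [← he', he0, zero_mul])
        have hh := Cfsg.Agent.Lib.Elusive.inf_sup_inf_of_inv (r := r) hy hrF (hD ())
        rw [hbot, sup_bot_eq] at hh
        exact hh ▸ inf_le_right
      · obtain ⟨hfn, -⟩ := Cfsg.Agent.Lib.Elusive.nd_parts hgood hy hyp hrF (T := ⊤)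
          (Cfsg.Agent.Lib.Elusive.nd_top hgood) (fun v _ => Submodule.mem_top)
        rw [top_inf_eq] at hfn
        obtain ⟨A, hA1, hA2, hA3⟩ := Cfsg.Agent.Lib.Elusive.exists_iso_sub hA hgood hfn (a := m) (by omega)
        exact ⟨fun _ => A, ⟨hA3, fun u hu v hv => (hBs u v).symm.trans (hA2 u hu v hv)⟩, fun _ => hA1⟩
      · rintro D D' ⟨h1, h2'⟩ ⟨h1', h2''⟩ hD hD'
        obtain ⟨f, hf, hfm, hfs⟩ := Cfsg.Agent.Lib.Elusive.exists_frame (D ()) h1
        obtain ⟨f', hf', hfm', hfs'⟩ := Cfsg.Agent.Lib.Elusive.exists_frame (D' ()) h1'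
        obtain ⟨e, he, heR, hef⟩ := Cfsg.Agent.Lib.Elusive.exists_isometry_move hgood hrF hy hyp f f' hf hf'
          (fun j => hD () (hfm j)) (fun j => hD' () (hfm' j))
          (fun j j' => by simp only [hBs, h2' _ (hfm j) _ (hfm j'), h2'' _ (hfm' j) _ (hfm' j')])
        exact ⟨e, he, heR, fun _ => Cfsg.Agent.Lib.Elusive.map_eq_of_frames e hef hfs hfs'⟩
      · refine hrΩ.trans (dvd_of_eq (Nat.card_congr ?_))
        exact ⟨fun W => ⟨fun _ => W.1, W.2⟩, fun D => ⟨D.1 (), D.2⟩, fun _ => rfl, fun _ => Subtype.ext (funext fun _ => rfl)⟩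
    refine ⟨hrp, lt_of_le_of_ne hr.two_le (Ne.symm hr2), c1, c2, ?_⟩
    by_contra hcon
    push Not at hcon
    obtain ⟨hodd, hlt⟩ := hcon
    have he : Even i := Nat.not_odd_iff_even.1 hodd
    have hci : c = i := by rw [hc, if_pos he]
    rw [← hci] at hlt
    rw [← hM] at hlt
    have hm1 : 1 ≤ m / i := (Nat.one_le_div_iff hipos).2 c1
    set t := (r - 1) / i with ht
    rw [hci] at hlt
    have ht1 : 1 ≤ t := by
      refine (Nat.one_le_div_iff hipos).2 ?_
      rw [hi]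
      refine Nat.le_of_dvd (by have := hr.two_le; omega) (orderOf_dvd_of_pow_eq_one (ZMod.pow_card_sub_one_eq_one ?_))
      intro h0
      rw [hi, h0, orderOf_eq_zero_iff'.2 (fun n hn => by rw [zero_pow hn.ne']; exact zero_ne_one)] at hipos
      omega
    obtain ⟨N, hNM, hN, hN2⟩ : ∃ N, N ≤ M ∧ (N ≤ t ∨ Even (N - t)) ∧
        ((N = M) ∨ (N + 1 = M ∧ t < M ∧ Odd (M - t))) := by
      by_cases hcase : M ≤ t ∨ Even (M - t)
      · exact ⟨M, le_rfl, hcase, Or.inl rfl⟩
      · push Not at hcase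
        obtain ⟨o, ho⟩ := Nat.not_even_iff_odd.1 hcase.2
        exact ⟨M - 1, by omega, Or.inr ⟨o, by omega⟩, Or.inr ⟨by omega, hcase.1, ⟨o, ho⟩⟩⟩
    have hN1 : 1 ≤ N := by
      have hM1 : 1 ≤ M := by
        rw [hM]; exact (Nat.one_le_div_iff hcpos).2 (by omega)
      rcases hN2 with e | ⟨e, h1, -⟩ <;> omega
    obtain ⟨E'⟩ := hemb N ((Nat.mul_le_mul_right c hNM).trans (by omega))
    obtain ⟨y', hy', hyp', hyR', hbound⟩ := Cfsg.Agent.Lib.Elusive.exists_isometry_min hgood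
      Cfsg.Agent.Lib.Forms.sympBilin_goodForm hr hrF hbs hPc E' hy₀ hy₀ne hy₀p (hci.trans hi)
      (by rwa [← hi])
    rw [← hi, ← ht] at hbound
    have hsum' := Cfsg.Agent.Lib.Elusive.finrank_fix1_add (r := r) hy' hrF
    rw [hyR', hdim] at hsum'
    obtain ⟨W, hWd, hWi, hW⟩ := hall y' hy' (fun h1 => by
      have h2 : Cfsg.Agent.Lib.Elusive.fix1 y' = ⊤ :=
        eq_top_iff.2 fun v _ => Cfsg.Agent.Lib.Elusive.mem_fix1.2 (by rw [h1]; rfl)
      rw [h2, finrank_top, hdim] at hsum'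
      have := Nat.le_mul_of_pos_left c hN1
      omega) hyp'
    obtain ⟨e, he'⟩ := Cfsg.Agent.Lib.Elusive.dvd_finrank_of_le_ker hr hrF hy'
      (Cfsg.Agent.Lib.Elusive.inv_inf hW Cfsg.Agent.Lib.Elusive.inv_ker_avg) inf_le_right
    rw [← hi, mul_comm] at he'
    have h2e := hbound W hW hWi e (by rw [he', hci])
    have h1 := Cfsg.Agent.Lib.Elusive.finrank_of_inv (r := r) hy' hrF hW
    obtain ⟨hfn, -⟩ := Cfsg.Agent.Lib.Elusive.nd_parts hgood hy' hyp' hrF (T := ⊤)
      (Cfsg.Agent.Lib.Elusive.nd_top hgood) (fun v _ => Submodule.mem_top)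
    rw [top_inf_eq] at hfn
    have h3 := Cfsg.Agent.Lib.Elusive.iso_finrank_le hgood hfn (inf_le_right : W ⊓ _ ≤ _) (hWi.mono inf_le_left)
    rw [hWd, he'] at h1
    rw [hci] at hsum' hMk hkc
    have h4 := Nat.div_add_mod' m i
    rcases hN2 with rfl | ⟨hN', htM, ⟨o, ho⟩⟩
    · obtain ⟨h5, -⟩ := hl e (by omega) (by omega)
      omega
    · have h6 : N * i + i = M * i := by rw [← hN', Nat.succ_mul]
      have h7 : e + 1 ≤ m / i := by omega
      have h8 := Nat.mul_le_mul_right i h7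
      rw [Nat.succ_mul] at h8
      omega
  · rintro ⟨-, -, hci1, hk2, hcond⟩ y hy hne hyp
    obtain ⟨N, hNR, hNsum, -⟩ := Cfsg.Agent.Lib.Elusive.exists_blocks hgood hr hrF hbs hy hyp
    rw [hdim] at hNsum
    obtain ⟨-, hRn⟩ := Cfsg.Agent.Lib.Elusive.nd_parts hgood hy hyp hrF (T := ⊤)
      (Cfsg.Agent.Lib.Elusive.nd_top hgood) (fun v _ => Submodule.mem_top)
    rw [top_inf_eq] at hRn
    have hNM : N ≤ M := by
      rw [hM, Nat.le_div_iff_mul_le hcpos]; omega
    obtain ⟨D, hD⟩ : ∃ D, M = N + D := ⟨M - N, by omega⟩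
    rw [hD, add_mul] at hMk
    have h4 := Nat.div_add_mod' m i
    obtain ⟨e, he, hU⟩ : ∃ e, (e * i ≤ m ∧ 2 * (m - e * i) ≤ Module.finrank F ↥(Cfsg.Agent.Lib.Elusive.fix1 y)) ∧
        ∃ U, U ≤ LinearMap.ker (Cfsg.Agent.Lib.Elusive.avg y r) ∧ Cfsg.Agent.Lib.Elusive.Inv y U ∧
          Cfsg.Agent.Lib.Elusive.Iso (σ := RingHom.id F) B U ∧ Module.finrank F ↥U = e * i := by
      rcases Nat.even_or_odd i with he | ho
      · have hci : c = i := by rw [hc, if_pos he]
        have hcond' : (r - 1) / i + 2 * (m / i) ≤ M := by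
          rw [hM, hci]; exact hcond.resolve_left (Nat.not_odd_iff_even.2 he)
        rw [hci] at hNR hNsum hMk
        set t := (r - 1) / i with ht
        refine ⟨min (m / i) ((N + 1 - t) / 2), ⟨?_, ?_⟩, ?_⟩
        · exact (Nat.mul_le_mul_right i (min_le_left _ _)).trans (Nat.div_mul_le_self m i)
        · rcases min_cases (m / i) ((N + 1 - t) / 2) with ⟨e1, -⟩ | ⟨e1, e2⟩
          · rw [e1]; omega
          · rw [e1]
            obtain ⟨u, hu⟩ : ∃ u, m / i = (N + 1 - t) / 2 + u := ⟨m / i - (N + 1 - t) / 2, by omega⟩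
            have h9 : 2 * u ≤ D := by omega
            have h10 := Nat.mul_le_mul_right i h9
            rw [mul_assoc] at h10
            rw [hu, add_mul] at h4
            omega
        · by_cases hbig : t ≤ N + 1
          · obtain ⟨U, h1, h2', h3, h5⟩ := Cfsg.Agent.Lib.Elusive.selfDual_iso_sub hgood hr hrF hy hyp
              (Cfsg.Agent.Lib.Elusive.selfDualExp_id (p := p) hr (hi ▸ he) (hi ▸ hipos)) hr2
              (min (m / i) ((N + 1 - t) / 2)) _ N hRn Cfsg.Agent.Lib.Elusive.inv_ker_avg le_rfl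
              (by rw [hNR, hi]) (by rw [← hi]; omega)
            exact ⟨U, h1, h2', h3, by rw [h5, hi]⟩
          · have h0 : (N + 1 - t) / 2 = 0 := by omega
            exact ⟨⊥, bot_le, Cfsg.Agent.Lib.Elusive.inv_bot y, Cfsg.Agent.Lib.Elusive.iso_bot, by
              rw [h0, Nat.min_zero, zero_mul, finrank_bot]⟩
      · have hci : c = 2 * i := by rw [hc, if_neg (Nat.not_even_iff_odd.2 ho)]
        rw [hci] at hNR hNsum hMk
        obtain ⟨N', hN', hall⟩ := Cfsg.Agent.Lib.Elusive.notSelfDual_blocks hgood hr hrF hy hyp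
          (Cfsg.Agent.Lib.Elusive.notSelfDual_id (p := p) hr hr2 (hi ▸ ho)) _ hRn
          Cfsg.Agent.Lib.Elusive.inv_ker_avg le_rfl
        have hNN : N' = N := by
          rw [← hi] at hN'
          refine Nat.eq_of_mul_eq_mul_left (show 0 < 2 * i by omega) ?_
          rw [mul_comm (2 * i) N, ← hNR, hN']; ring
        subst hNN
        rw [show N' * (2 * i) = 2 * (N' * i) by ring] at hNsum hMk
        rw [show D * (2 * i) = 2 * (D * i) by ring] at hMk
        refine ⟨min (m / i) N', ⟨?_, ?_⟩, ?_⟩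
        · exact (Nat.mul_le_mul_right i (min_le_left _ _)).trans (Nat.div_mul_le_self m i)
        · rcases min_cases (m / i) N' with ⟨e1, -⟩ | ⟨e1, e2⟩ <;> rw [e1] <;> omega
        · obtain ⟨U, h1, h2', h3, h5⟩ := (hall _ (min_le_right (m / i) N')).1
          exact ⟨U, h1, h2', h3, by rw [h5, hi]⟩
    exact Cfsg.Agent.Lib.Elusive.exists_fixed_iso_of_parts hA hgood hy hyp hrF he.2 hU (Nat.sub_add_cancel he.1)

end Cfsg.Agent.S5955
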