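import Cfsg.Statements.S5956
import Mathlib
import Cfsg.Agent.Lib.Elusive.SympNdSub
import Cfsg.Agent.Lib.Elusive.SympCounts

set_option autoImplicit false
open scoped MatrixGroups
open Cfsg

namespace Cfsg.Agent.S5956

/-- Elements of prime order of PSp_n(q) with no fixed nondegenerate `m`-space. Here `T = PSp_n(q)` with `n = 2d ≥ 4`, `(n, q) ≠ (4, 2)`, realised through the symplectic matrices over the field `F` with `q` elements (preserving the standard alternating form); an element of `T` of prime order `r` is such a matrix `x` with `x^r` scalar and `x` not scalar. For `r ≠ p` let `i` be the multiplicative order of `q` modulo `r`, `c = i` for `i` even and `c = 2i` for `i` odd, and write `k = n mod c`, `ℓ = m mod i`, `ℓ' = m mod c`, `n' = ⌊n/i⌋`, `m' = ⌊m/i⌋`, `t = (r−1)/i`. Let `m` be even with `2 ≤ m < n/2` and let `r` be a prime dividing the number of nondegenerate `m`-spaces. Then every element of `T` of order `r` fixes a nondegenerate `m`-space if and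 only if one of: (i) `r = p > 2` and every partition of `n` into parts of size at most `p` in which every odd part has even multiplicity contains (as a sub-multiset) a partition of `m` in which every odd part has even multiplicity; (ii) `r = p = 2` and (`n ≡ 2 (mod 4)` or `m ≡ 0 (mod 4)`); (iii) `r = 2 ≠ p`; (iv) `r ≠ p`, `r > 2`, `c ≤ m` and `k ≥ ℓ'`. -/
theorem result {F : Type*} [Field F] [Fintype F] {p : ℕ} [Fact p.Prime] [CharP F p] {q : ℕ} (hq : Fintype.card F = q)
    (d m : ℕ) (hd : 2 ≤ d) (hT : (d, q) ≠ (2, 2)) (hm : 2 ≤ m) (hme : Even m) (hmd : m < d)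
    (r : ℕ) [Fact r.Prime]
    (hrΩ : r ∣ Nat.card {W : Submodule F (Fin d ⊕ Fin d → F) // Module.finrank F ↥W = m ∧ (∀ u ∈ W, u ≠ 0 → ∃ v ∈ W, Cfsg.sympForm d F u v ≠ 0)})
    (i c : ℕ) (hi : i = orderOf (q : ZMod r)) (hc : c = if Even i then i else 2 * i) :
    (∀ x : ↥(Matrix.symplecticGroup (Fin d) F),
      (∃ z : F, ((x ^ r : ↥(Matrix.symplecticGroup (Fin d) F)) : Matrix (Fin d ⊕ Fin d) (Fin d ⊕ Fin d) F) = z • (1 : Matrix (Fin d ⊕ Fin d) (Fin d ⊕ Fin d) F)) →
      (∀ z : F, (x : Matrix (Fin d ⊕ Fin d) (Fin d ⊕ Fin d) F) ≠ z • (1 : Matrix (Fin d ⊕ Fin d) (Fin d ⊕ Fin d) F)) →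
      ∃ W : Submodule F (Fin d ⊕ Fin d → F), Module.finrank F ↥W = m ∧ (∀ u ∈ W, u ≠ 0 → ∃ v ∈ W, Cfsg.sympForm d F u v ≠ 0) ∧
        W.map (Matrix.toLin' (x : Matrix (Fin d ⊕ Fin d) (Fin d ⊕ Fin d) F)) ≤ W) ↔
    ((r = p ∧ 2 < p ∧ (∀ μ : Multiset ℕ, (∀ a ∈ μ, 0 < a ∧ a ≤ p) → (∀ a : ℕ, Odd a → Even (μ.count a)) → μ.sum = 2 * d →
        ∃ ν : Multiset ℕ, ν ≤ μ ∧ ν.sum = m ∧ ∀ a : ℕ, Odd a → Even (ν.count a))) ∨
     (r = p ∧ p = 2 ∧ ((2 * d) % 4 = 2 ∨ m % 4 = 0)) ∨
     (r = 2 ∧ p ≠ 2) ∨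
     (r ≠ p ∧ 2 < r ∧ c ≤ m ∧ m % c ≤ (2 * d) % c)) := by
  classical
  open Cfsg.Agent.Lib.Forms Cfsg.Agent.Lib.Elusive in
  subst hq
  have hr : r.Prime := Fact.out
  set B : LinearMap.BilinForm F (Fin d ⊕ Fin d → F) := Cfsg.Agent.Lib.Forms.sympBilin d F with hB
  have hA : B.IsAlt := Cfsg.Agent.Lib.Forms.sympBilin_isAlt
  have hgood : Cfsg.Agent.Lib.Forms.IsGoodForm (σ := RingHom.id F) B (-1) := Cfsg.Agent.Lib.Forms.sympBilin_goodForm
  have hBs : ∀ u v, B u v = Cfsg.sympForm d F u v := Cfsg.Agent.Lib.Forms.sympBilin_apply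
  have hdim : Module.finrank F (Fin d ⊕ Fin d → F) = 2 * d := Cfsg.Agent.Lib.Elusive.finrank_std
  obtain ⟨j, rfl⟩ := hme
  rw [← two_mul] at hm hmd hrΩ ⊢
  -- the fixed object
  have hP : ∀ (f : Module.End F (Fin d ⊕ Fin d → F)) (W : Submodule F (Fin d ⊕ Fin d → F)),
      (Module.finrank F ↥W = 2 * j ∧ (∀ u ∈ W, u ≠ 0 → ∃ v ∈ W, Cfsg.sympForm d F u v ≠ 0) ∧ W.map f ≤ W) ↔
      (Module.finrank F ↥W = 2 * j ∧ Cfsg.Agent.Lib.Elusive.Nd (σ := RingHom.id F) B W ∧
        Cfsg.Agent.Lib.Elusive.Inv f W) := fun f W => by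
    rw [Cfsg.Agent.Lib.Elusive.inv_iff_map_le, Cfsg.Agent.Lib.Elusive.nd_iff]
    simp only [hBs]
  have hneg : ∀ f : Module.End F (Fin d ⊕ Fin d → F), (∃ W : Submodule F (Fin d ⊕ Fin d → F), Module.finrank F ↥W = 2 * j ∧
      (∀ u ∈ W, u ≠ 0 → ∃ v ∈ W, Cfsg.sympForm d F u v ≠ 0) ∧ W.map f ≤ W) →
      ∃ W : Submodule F (Fin d ⊕ Fin d → F), Module.finrank F ↥W = 2 * j ∧
      (∀ u ∈ W, u ≠ 0 → ∃ v ∈ W, Cfsg.sympForm d F u v ≠ 0) ∧ W.map (-f) ≤ W := by
    intro f hf
    obtain ⟨W, h1, h2, h3⟩ := hf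
    exact ⟨W, h1, h2, by rwa [Submodule.map_neg]⟩
  by_cases hr2 : r = 2
  · subst hr2
    have hinvol : ∀ x : ↥(Matrix.symplecticGroup (Fin d) F),
        (∃ z : F, ((x ^ 2 : ↥(Matrix.symplecticGroup (Fin d) F)) : Matrix (Fin d ⊕ Fin d) (Fin d ⊕ Fin d) F) =
          z • (1 : Matrix (Fin d ⊕ Fin d) (Fin d ⊕ Fin d) F)) →
        ∃ z : F, (z = 1 ∨ z = -1) ∧
          (∀ u v, B (Matrix.toLin' (x : Matrix (Fin d ⊕ Fin d) (Fin d ⊕ Fin d) F) u)
            (Matrix.toLin' (x : Matrix (Fin d ⊕ Fin d) (Fin d ⊕ Fin d) F) v) = B u v) ∧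
          ∀ v, Matrix.toLin' (x : Matrix (Fin d ⊕ Fin d) (Fin d ⊕ Fin d) F)
            (Matrix.toLin' (x : Matrix (Fin d ⊕ Fin d) (Fin d ⊕ Fin d) F) v) = z • v := by
      rintro x ⟨z, hz⟩
      set X : Module.End F (Fin d ⊕ Fin d → F) :=
        Matrix.toLin' (x : Matrix (Fin d ⊕ Fin d) (Fin d ⊕ Fin d) F) with hX
      have hpres : ∀ u v, B (X u) (X v) = B u v := fun u v => by
        simp only [hBs, hX, Matrix.toLin'_apply]
        exact Cfsg.Agent.Lib.Forms.mem_symplecticGroup_iff_preserves.1 x.2 u v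
      have hxx : ∀ v, X (X v) = z • v := fun v => by
        rw [SubmonoidClass.coe_pow, pow_two] at hz
        rw [hX, Matrix.toLin'_apply, Matrix.toLin'_apply, Matrix.mulVec_mulVec, hz, Matrix.smul_mulVec,
          Matrix.one_mulVec]
      let v₀ : Fin d ⊕ Fin d → F := Pi.single (.inl ⟨0, by omega⟩) 1
      let w₀ : Fin d ⊕ Fin d → F := Pi.single (.inr ⟨0, by omega⟩) 1
      have hb₀ : B v₀ w₀ ≠ 0 := by simp [hBs, Cfsg.Agent.Lib.Forms.sympForm_apply, v₀, w₀, Pi.single_apply]
      have hzz : z * z = 1 := by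
        have h1 := (hpres (X v₀) (X w₀)).trans (hpres v₀ w₀)
        rw [hxx, hxx, map_smul, map_smul, LinearMap.smul_apply, smul_eq_mul, smul_eq_mul, ← mul_assoc] at h1
        exact (mul_eq_right₀ hb₀).1 h1
      exact ⟨z, mul_self_eq_one_iff.1 hzz, hpres, hxx⟩
    by_cases hp2 : p = 2
    · subst hp2
      have h20 : (2 : F) = 0 := by
        have := CharP.cast_eq_zero F 2
        exact_mod_cast this
      refine ⟨fun hall => Or.inr (Or.inl ⟨rfl, rfl, ?_⟩), fun hcond x hx _ => ?_⟩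
      · by_contra hcon
        push Not at hcon
        obtain ⟨h, rfl⟩ : ∃ h, d = 2 * h := ⟨d / 2, by omega⟩
        obtain ⟨π, hπ, hπne⟩ : ∃ π : Equiv.Perm (Fin (2 * h)), (∀ a, π (π a) = a) ∧ ∀ a, π a ≠ a := by
          let e : Fin (2 * h) ≃ Fin h × Fin 2 := (finCongr (mul_comm 2 h)).trans finProdFinEquiv.symm
          refine ⟨(e.trans ((Equiv.refl _).prodCongr (Equiv.addRight (1 : Fin 2)))).trans e.symm, fun a => ?_,
            fun a ha => ?_⟩
          · have h11 : ∀ s : Fin 2, s + 1 + 1 = s := by decide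
            simp [Prod.map, h11]
          · have h1 := congrArg (fun b => (e b).2) ha
            simp at h1
        let X : (Fin (2 * h) ⊕ Fin (2 * h) → F) ≃ₗ[F] (Fin (2 * h) ⊕ Fin (2 * h) → F) :=
          LinearEquiv.funCongrLeft F F (π.sumCongr π)
        have hXl : ∀ v a, X v (Sum.inl a) = v (Sum.inl (π a)) := fun v a => rfl
        have hXr : ∀ v a, X v (Sum.inr a) = v (Sum.inr (π a)) := fun v a => rfl
        have hXX : ∀ v, X (X v) = v := fun v => funext fun a => by
          rcases a with a | a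
          · rw [hXl, hXl, hπ]
          · rw [hXr, hXr, hπ]
        have hXp : ∀ u v, Cfsg.sympForm (2 * h) F (X u) (X v) = Cfsg.sympForm (2 * h) F u v := fun u v => by
          simp only [Cfsg.Agent.Lib.Forms.sympForm_apply, hXl, hXr]
          exact Equiv.sum_comp π fun i => u (.inr i) * v (.inl i) - u (.inl i) * v (.inr i)
        -- hyperbolic
        have hhyp : ∀ v, B v (X v) = 0 := fun v => by
          rw [hBs, Cfsg.Agent.Lib.Forms.sympForm_apply, Finset.sum_sub_distrib, sub_eq_zero]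
          simp only [hXl, hXr]
          rw [← Equiv.sum_comp π fun i => v (.inr i) * v (.inl (π i))]
          simp only [hπ]
          exact Finset.sum_congr rfl fun i _ => mul_comm _ _
        have hfix : ∀ u v, X u = u → X v = v → B u v = 0 := fun u v hu hv => by
          have hul : ∀ a, u (.inl (π a)) = u (.inl a) := fun a => (hXl u a).symm.trans (congrFun hu _)
          have hur : ∀ a, u (.inr (π a)) = u (.inr a) := fun a => (hXr u a).symm.trans (congrFun hu _)
          have hvl : ∀ a, v (.inl (π a)) = v (.inl a) := fun a => (hXl v a).symm.trans (congrFun hv _)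
          have hvr : ∀ a, v (.inr (π a)) = v (.inr a) := fun a => (hXr v a).symm.trans (congrFun hv _)
          rw [hBs, Cfsg.Agent.Lib.Forms.sympForm_apply]
          refine Finset.sum_involution (fun a _ => π a) (fun a _ => ?_) (fun a _ _ => hπne a)
            (fun a _ => Finset.mem_univ _) (fun a _ => hπ a)
          rw [hul, hur, hvl, hvr, ← two_mul, h20, zero_mul]
        have hlin : Matrix.toLin' ((Cfsg.Agent.Lib.Forms.spMk X hXp :
            ↥(Matrix.symplecticGroup (Fin (2 * h)) F)) :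
            Matrix (Fin (2 * h) ⊕ Fin (2 * h)) (Fin (2 * h) ⊕ Fin (2 * h)) F) = X :=
          LinearMap.ext fun v => by rw [Matrix.toLin'_apply, Cfsg.Agent.Lib.Forms.spMk_mulVec]; rfl
        obtain ⟨W, hWd, hWn, hWm⟩ := hall (Cfsg.Agent.Lib.Forms.spMk X hXp) ⟨1, by
            apply Matrix.toLin'.injective
            rw [SubmonoidClass.coe_pow, Matrix.toLin'_pow, hlin, one_smul, Matrix.toLin'_one]
            refine LinearMap.ext fun v => ?_
            rw [pow_two, Module.End.mul_apply]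
            exact hXX v⟩
          (fun z hz => by
            let a₀ : Fin (2 * h) := ⟨0, by omega⟩
            have h1 := LinearMap.congr_fun (congrArg Matrix.toLin' hz) (Pi.single (Sum.inl a₀) 1)
            rw [hlin, map_smul, Matrix.toLin'_one] at h1
            have h2 := congrFun h1 (Sum.inl (π a₀))
            rw [LinearEquiv.coe_coe, hXl, hπ] at h2
            simp [Pi.single_apply, hπne a₀] at h2)
        rw [hlin] at hWm
        obtain ⟨-, hWn', hWi⟩ := (hP _ W).1 ⟨hWd, hWn, hWm⟩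
        set Xl : Module.End F (Fin (2 * h) ⊕ Fin (2 * h) → F) := X.toLinearMap with hXldef
        have hXlp : ∀ u v, B (Xl u) (Xl v) = B u v := fun u v => by simp only [hBs]; exact hXp u v
        have hXlx : ∀ v, Xl (Xl v) = (1 : F) • v := fun v => (hXX v).trans (one_smul F v).symm
        obtain ⟨k, l, E, hE, hEd, hEW, -, hEr, hk⟩ := Cfsg.Agent.Lib.Elusive.exists_planeDecomp hA hgood
          hXlp hXlx (Or.inl rfl) W hWi hWn'
        rcases Nat.eq_zero_or_pos l with rfl | hl
        · omega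
        -- an invariant plane is pointwise fixed
        set P := E (Sum.inr ⟨0, hl⟩) with hPdef
        have hPn : Cfsg.Agent.Lib.Elusive.Nd (σ := RingHom.id F) B P := hE.nd _
        have hPd : Module.finrank F ↥P = 2 := hEd _
        have hPi : Cfsg.Agent.Lib.Elusive.Inv (X : Module.End F _) P :=
          (Cfsg.Agent.Lib.Elusive.inv_iff_map_le _ _).2 (hEr _)
        obtain ⟨v, hv, hv0⟩ := Submodule.exists_mem_ne_zero_of_ne_bot (p := P) (fun hb => by
          rw [hb, finrank_bot] at hPd; omega)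
        obtain ⟨w, hw, hb⟩ := (Cfsg.Agent.Lib.Elusive.nd_iff _).1 hPn v hv hv0
        have hspan : Submodule.span F ({v, w} : Set _) = P :=
          Submodule.eq_of_le_of_finrank_eq (Submodule.span_le.2 (Set.insert_subset hv (Set.singleton_subset_iff.2 hw)))
            ((Cfsg.Agent.Lib.Elusive.finrank_span_pair hA hb).trans hPd.symm)
        have hone : ∀ a b : _, a ∈ P → b ∈ P → B a b ≠ 0 →
            Submodule.span F ({a, b} : Set _) = P → X a = a := fun a b ha hb' hab hsp => by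
          obtain ⟨c₁, c₂, hc⟩ := Submodule.mem_span_pair.1 (hsp.ge (hPi a ha))
          have h1 := hhyp a
          rw [LinearEquiv.coe_coe] at hc
          rw [← hc, map_add, map_smul, map_smul, hA.self_eq_zero, smul_zero, zero_add, smul_eq_mul, mul_eq_zero] at h1
          rw [h1.resolve_right hab, zero_smul, add_zero] at hc
          have h2 : (c₁ * c₁) • a = a := by rw [mul_smul, hc, ← map_smul, hc, hXX]
          have ha0 : a ≠ 0 := fun e => hab (by rw [e, map_zero, LinearMap.zero_apply])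
          have h3 : (c₁ * c₁ - 1) • a = 0 := by rw [sub_smul, one_smul, h2, sub_self]
          have h4 : c₁ = 1 := by
            have h5 := (smul_eq_zero.1 h3).resolve_right ha0
            have h6 : (c₁ - 1) * (c₁ - 1) = 0 := by linear_combination h5 + (1 - c₁) * h20
            exact sub_eq_zero.1 (mul_self_eq_zero.1 h6)
          rw [← hc, h4, one_smul]
        have hXv : X v = v := hone v w hv hw hb hspan
        have hXw : X w = w := hone w v hw hv (fun e => hb (hgood.eq_zero_symm e)) (by rw [Set.pair_comm]; exact hspan)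
        exact absurd (hfix v w hXv hXw) hb
      · obtain ⟨z, hz, hpres, hxx⟩ := hinvol x hx
        obtain ⟨W, hW, hWn, hWd⟩ := Cfsg.Agent.Lib.Elusive.exists_inv_nd_pairs hA hgood hpres hxx hz hdim
          (show j < d by omega) (by
            rcases hcond with ⟨-, h1, -⟩ | ⟨-, -, h1⟩ | ⟨-, h1⟩ | ⟨h1, -⟩
            · omega
            · rw [Nat.odd_iff, Nat.even_iff]; omega
            · exact absurd rfl h1
            · exact absurd rfl h1)
        exact ⟨W, (hP _ W).2 ⟨hWd, hWn, hW⟩⟩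
    · have h2 : (2 : F) ≠ 0 := by
        intro h0
        have h1 : ((2 : ℕ) : F) = 0 := by exact_mod_cast h0
        exact hp2 ((Nat.prime_dvd_prime_iff_eq Fact.out Nat.prime_two).1 ((CharP.cast_eq_zero_iff F p 2).1 h1))
      refine ⟨fun _ => Or.inr (Or.inr (Or.inl ⟨rfl, hp2⟩)), fun _ x hx _ => ?_⟩
      obtain ⟨z, hz, hpres, hxx⟩ := hinvol x hx
      obtain ⟨W, -, hW, hWn, hWd⟩ := Cfsg.Agent.Lib.Elusive.exists_inv_nd_involution hA hgood h2 hpres hxx hz j ⊤
        (fun v _ => Submodule.mem_top) (Cfsg.Agent.Lib.Elusive.nd_top hgood) (by rw [finrank_top, hdim]; omega)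
      exact ⟨W, (hP _ W).2 ⟨hWd, hWn, hW⟩⟩
  refine (Cfsg.Agent.Lib.Elusive.forall_symp_iff hr hr2 (by omega)
    (fun f => ∃ W : Submodule F (Fin d ⊕ Fin d → F), Module.finrank F ↥W = 2 * j ∧
      (∀ u ∈ W, u ≠ 0 → ∃ v ∈ W, Cfsg.sympForm d F u v ≠ 0) ∧ W.map f ≤ W) hneg).trans ?_
  simp only [hP, hr2, false_and, false_or]
  have hr3 : 2 < r := lt_of_le_of_ne hr.two_le (Ne.symm hr2)
  by_cases hrp : r = p
  · subst hrp
    simp only [ne_eq, not_true_eq_false, false_and, or_false, true_and, hr3, hr2, false_or]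
    haveI : CharP (Module.End F (Fin d ⊕ Fin d → F)) r := by
      haveI : Nontrivial (Fin d ⊕ Fin d → F) := Module.nontrivial_of_finrank_pos (R := F) (by omega)
      exact charP_of_injective_algebraMap (algebraMap F (Module.End F (Fin d ⊕ Fin d → F))).injective r
    constructor
    · intro hall μ hμ hμo hsum
      by_cases h1 : ∀ a ∈ μ, a = 1
      · have hrep : μ = Multiset.replicate (Multiset.card μ) 1 := Multiset.eq_replicate.2 ⟨rfl, h1⟩
        rw [hrep, Multiset.sum_replicate, smul_eq_mul, mul_one] at hsum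
        refine ⟨Multiset.replicate (2 * j) 1, ?_, by simp, fun a _ => ?_⟩
        · rw [hrep, Multiset.le_iff_count]
          intro a
          rw [Multiset.count_replicate, Multiset.count_replicate]
          split_ifs <;> omega
        · rw [Multiset.count_replicate]
          split_ifs
          · exact even_two_mul j
          · exact Even.zero
      · obtain ⟨m', hm', A, hA', hnil, hrk⟩ :=
          Cfsg.Agent.Lib.Similarity.isSympType_of_even F μ (fun a ha => (hμ a ha).1) hμo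
        obtain rfl : m' = d := by omega
        set y : Module.End F (Fin m' ⊕ Fin m' → F) := Matrix.toLin' A with hy
        have hsub : ∀ k : ℕ, (y - 1) ^ k = Matrix.toLin' ((A - 1) ^ k) := fun k => by
          rw [Matrix.toLin'_pow, map_sub, Matrix.toLin'_one]; rfl
        have htail : ∀ s : Multiset ℕ, ∀ k, Cfsg.Agent.Lib.OrthUnipotent.tailRank s k +
            Cfsg.Agent.Lib.KnownSimple.minSum s k = s.sum := fun s k => by
          rw [Cfsg.Agent.Lib.OrthUnipotent.tailRank, Cfsg.Agent.Lib.KnownSimple.minSum, ← Multiset.sum_map_add,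
            Multiset.map_congr rfl (g := fun e => e) (fun e _ => by omega), Multiset.map_id']
        have hparts : Cfsg.Agent.Lib.Elusive.HasParts (y - 1) μ := by
          refine ⟨fun a ha => (hμ a ha).1, hsum.trans hdim.symm, fun k => ?_⟩
          have e1 := LinearMap.finrank_range_add_finrank_ker (Matrix.toLin' ((A - 1) ^ k))
          have e2 : ((A - 1) ^ k).rank = Module.finrank F ↥(LinearMap.range (Matrix.toLin' ((A - 1) ^ k))) := rfl
          rw [hsub]
          rw [hdim, ← e2, hrk] at e1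
          have e3 := htail μ k
          omega
        have hkill : (y - 1) ^ r = 0 := (hparts.le_iff_pow_eq_zero r).2 fun a ha => (hμ a ha).2
        have hyr : y ^ r = 1 := by
          rw [sub_pow_char_of_commute (R := Module.End F (Fin m' ⊕ Fin m' → F)) r (Commute.one_right y), one_pow,
            sub_eq_zero] at hkill
          exact hkill
        have hyp : ∀ u v, B (y u) (y v) = B u v := fun u v => by
          simp only [hBs, hy, Matrix.toLin'_apply]
          exact Cfsg.Agent.Lib.Forms.mem_symplecticGroup_iff_preserves.1 hA' u v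
        obtain ⟨W, hWd, hWn, hW⟩ := hall y hyr (fun e => h1 fun a ha => by
          have h0 : (y - 1) ^ 1 = 0 := by rw [pow_one, e, sub_self]
          have := (hparts.le_iff_pow_eq_zero 1).1 h0 a ha
          have := (hμ a ha).1
          omega) hyp
        obtain ⟨ν, h2, h3, h4⟩ :=
          Cfsg.Agent.Lib.Elusive.exists_even_subparts hA hgood hyp hkill hW hWn hparts
        exact ⟨ν, h2, h3.trans hWd, h4⟩
    · intro hcond y hy _ hyp
      have hkill : (y - 1) ^ r = 0 := by
        rw [sub_pow_char_of_commute (R := Module.End F (Fin d ⊕ Fin d → F)) r (Commute.one_right y), hy, one_pow,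
          sub_self]
      obtain ⟨n, E, e, k, hE, hEp, hsum⟩ := Cfsg.Agent.Lib.Elusive.exists_pieces hgood hyp (p := r) ⊤
        (fun v _ => Submodule.mem_top) (Cfsg.Agent.Lib.Elusive.nd_top hgood) (fun v _ => by rw [hkill]; rfl)
      rw [finrank_top, hdim] at hsum
      have h2 : (2 : F) ≠ 0 := by
        intro h0
        have h1 : ((2 : ℕ) : F) = 0 := by exact_mod_cast h0
        exact hr2 ((Nat.prime_dvd_prime_iff_eq hr Nat.prime_two).1 ((CharP.cast_eq_zero_iff F r 2).1 h1))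
      -- parities of the pieces
      have hpar : ∀ i, (k i = 1 ∧ Even (e i)) ∨ (k i = 2 ∧ Odd (e i)) := by
        intro i
        obtain ⟨-, ⟨he1, hEn, hEi, -, hEk, hcase⟩, -⟩ := hEp i
        have hswap : ∀ a ∈ E i, ∀ b ∈ E i, B b (((y - 1) ^ (e i - 1)) a) =
            -((-1 : F) ^ (e i - 1) * B a (((y - 1) ^ (e i - 1)) b)) := fun a ha b hb => by
          have h1 := (Cfsg.Agent.Lib.Elusive.form_chain hgood hyp hEi hEk (e i - 1) 0 a b ha hb).2 (by omega)
          rw [pow_zero, Module.End.one_apply] at h1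
          rw [← LinearMap.IsAlt.neg hA, h1]
        rcases hcase with ⟨hk1, v, hv, hb⟩ | ⟨hk2, v, hv, w, hw, hb, hl⟩
        · refine Or.inl ⟨hk1, Nat.not_odd_iff_even.1 fun ho => hb ?_⟩
          have h1 := hswap v hv v hv
          rw [(Nat.Odd.sub_odd ho odd_one).neg_one_pow, one_mul, eq_neg_iff_add_eq_zero, ← two_mul] at h1
          exact (mul_eq_zero.1 h1).resolve_left h2
        · refine Or.inr ⟨hk2, Nat.not_even_iff_odd.1 fun he => hb ?_⟩
          have h1 := hswap v hv w hw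
          rw [(Nat.Even.sub_odd he1 he odd_one).neg_one_pow, neg_one_mul, neg_neg] at h1
          have e0 := hl 0
          have e1 := hl 1
          have e2 := hl (-1)
          simp only [zero_smul, add_zero, one_smul, neg_smul, map_add, map_neg, LinearMap.add_apply,
            LinearMap.neg_apply, e0, h1] at e1 e2
          have h3 : (2 : F) * ((2 : F) * B v (((y - 1) ^ (e i - 1)) w)) = 0 := by
            linear_combination e1 - e2
          exact (mul_eq_zero.1 ((mul_eq_zero.1 h3).resolve_left h2)).resolve_left h2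
      have hcount : ∀ a : ℕ, Odd a → Even ((Cfsg.Agent.Lib.Elusive.pieceParts e k Finset.univ).count a) := by
        intro a ha
        rw [Cfsg.Agent.Lib.Elusive.pieceParts, Multiset.count_sum']
        refine even_iff_two_dvd.2 (Finset.dvd_sum fun i _ => ?_)
        rw [Multiset.count_replicate]
        split_ifs with hia
        · rcases hpar i with ⟨-, he⟩ | ⟨hk, -⟩
          · exact absurd (hia ▸ he) (Nat.not_even_iff_odd.2 ha)
          · rw [hk]
        · exact dvd_zero 2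
      obtain ⟨ν, hν, hνs, hνo⟩ := hcond (Cfsg.Agent.Lib.Elusive.pieceParts e k Finset.univ)
        (fun a ha => by
          obtain ⟨i, -, rfl⟩ := Cfsg.Agent.Lib.Elusive.mem_pieceParts ha
          exact ⟨(hEp i).2.1.1, (hEp i).2.2⟩)
        hcount (by rw [Cfsg.Agent.Lib.Elusive.sum_pieceParts]; exact hsum)
      obtain ⟨t, -, ht⟩ := Cfsg.Agent.Lib.Elusive.exists_subset_pieces e k Finset.univ ν
        (fun i _ => (hpar i).imp (·.1) fun h1 => ⟨h1.1, hνo _ h1.2⟩)
        (fun a _ b _ hab => by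
          rcases hpar a with ⟨h1, h3⟩ | ⟨h1, h3⟩ <;> rcases hpar b with ⟨h4, h6⟩ | ⟨h4, h6⟩
          · rw [h1, h4]
          · exact absurd (hab ▸ h3) (Nat.not_even_iff_odd.2 h6)
          · exact absurd (hab.symm ▸ h6) (Nat.not_even_iff_odd.2 h3)
          · rw [h1, h4]) hν
      obtain ⟨h1, h3, h4⟩ := Cfsg.Agent.Lib.Elusive.pieces_sup hgood hE (fun i => (hEp i).2.1) t
      exact ⟨t.sup E, h4.trans (ht.trans hνs), h1, h3⟩
  -- `r` odd, different from `p`
  simp only [hrp, false_and, false_or, ne_eq, not_false_eq_true, true_and, hr3]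
  have hrF : (r : F) ≠ 0 := by
    rw [Ne, CharP.cast_eq_zero_iff F p]
    exact fun h => hrp (((Nat.prime_dvd_prime_iff_eq Fact.out hr).1 h).symm)
  have hipos : 0 < i := hi ▸ Cfsg.Agent.Lib.Elusive.ordq_pos hr hrF
  have hbs : Cfsg.Agent.Lib.Elusive.BlockSize (RingHom.id F) r c := by
    rcases Nat.even_or_odd i with he | ho
    · exact Or.inl ⟨hr2, ⟨_, Cfsg.Agent.Lib.Elusive.selfDualExp_id (p := p) hr (hi ▸ he) (hi ▸ hipos)⟩,
        by rw [hc, if_pos he, hi]⟩
    · exact Or.inr ⟨Cfsg.Agent.Lib.Elusive.notSelfDual_id (p := p) hr hr2 (hi ▸ ho),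
        by rw [hc, if_neg (Nat.not_even_iff_odd.2 ho), hi]⟩
  obtain ⟨h, hch⟩ : ∃ h, c = 2 * h := by
    rcases Nat.even_or_odd i with he | ho
    · obtain ⟨h, hh⟩ := he; exact ⟨h, by rw [hc, if_pos ⟨h, hh⟩]; omega⟩
    · exact ⟨i, by rw [hc, if_neg (Nat.not_even_iff_odd.2 ho)]⟩
  have hic : i ∣ 2 * h := by
    rw [← hch, hc]; split_ifs
    · exact dvd_rfl
    · exact dvd_mul_left i 2
  have hcpos : 0 < c := by rw [hc]; split_ifs <;> omega
  set M := 2 * d / c with hM
  set k := 2 * d % c with hk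
  have hMk : M * c + k = 2 * d := by rw [hM, hk]; exact Nat.div_add_mod' _ _
  have hkc : k < c := Nat.mod_lt _ hcpos
  have hparts : ∀ (y : Module.End F (Fin d ⊕ Fin d → F)), y ^ r = 1 → (∀ u v, B (y u) (y v) = B u v) →
      Cfsg.Agent.Lib.Elusive.Nd (σ := RingHom.id F) B (Cfsg.Agent.Lib.Elusive.fix1 y) ∧
        Cfsg.Agent.Lib.Elusive.Nd (σ := RingHom.id F) B (LinearMap.ker (Cfsg.Agent.Lib.Elusive.avg y r)) := by
    intro y hy hyp
    obtain ⟨h1, h2⟩ := Cfsg.Agent.Lib.Elusive.nd_parts hgood hy hyp hrF (T := ⊤)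
      (Cfsg.Agent.Lib.Elusive.nd_top hgood) (fun v _ => Submodule.mem_top)
    rw [top_inf_eq] at h1 h2
    exact ⟨h1, h2⟩
  constructor
  · intro hall
    obtain ⟨y₀, hy₀, hy₀ne, hy₀p⟩ := Cfsg.Agent.Lib.Elusive.exists_symp_block (F := F) (h := h) hr
      (hi ▸ hic) (by omega)
    have hPc : Module.finrank F (Fin h ⊕ Fin h → F) = c := hch ▸ Cfsg.Agent.Lib.Elusive.finrank_std
    obtain ⟨E⟩ := Cfsg.Agent.Lib.Elusive.exists_blockEmb_symp (F := F) (d := d) (N := M) (h := h)
      (by rw [hch, mul_left_comm] at hMk; omega)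
    obtain ⟨y, hy, hyp, hyR⟩ := Cfsg.Agent.Lib.Elusive.exists_isometry_blocks hgood
      Cfsg.Agent.Lib.Forms.sympBilin_goodForm hr hrF hbs hPc E hy₀ hy₀ne hy₀p
    have hsum := Cfsg.Agent.Lib.Elusive.finrank_fix1_add (r := r) hy hrF
    rw [hyR, hdim] at hsum
    have hfixk : Module.finrank F ↥(Cfsg.Agent.Lib.Elusive.fix1 y) = k := by omega
    have hsplit : ∀ W, Cfsg.Agent.Lib.Elusive.Inv y W → Cfsg.Agent.Lib.Elusive.Nd (σ := RingHom.id F) B W →
        Module.finrank F ↥W = 2 * j → 2 * j % c ≤ k ∧ (2 * j < c → W ≤ Cfsg.Agent.Lib.Elusive.fix1 y) := by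
      intro W hW hWn hWd
      obtain ⟨-, h2⟩ := Cfsg.Agent.Lib.Elusive.nd_parts hgood hy hyp hrF hWn hW
      obtain ⟨e, he, -⟩ := Cfsg.Agent.Lib.Elusive.nd_blocks hgood hr hrF hbs hy hyp h2
        (Cfsg.Agent.Lib.Elusive.inv_inf hW Cfsg.Agent.Lib.Elusive.inv_ker_avg) inf_le_right
      have h1 := Cfsg.Agent.Lib.Elusive.finrank_of_inv (r := r) hy hrF hW
      have h3 := Submodule.finrank_mono (inf_le_right : W ⊓ Cfsg.Agent.Lib.Elusive.fix1 y ≤ _)
      rw [hWd, he] at h1
      rw [hfixk] at h3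
      refine ⟨?_, fun hlt => ?_⟩
      · have h4 : e = 2 * j / c := (Nat.div_eq_of_lt_le (by omega) (by rw [add_one_mul]; omega)).symm
        have h5 := Nat.div_add_mod' (2 * j) c
        rw [← h4] at h5
        omega
      · have he0 : e = 0 := by
          by_contra hne
          have := Nat.le_mul_of_pos_left c (Nat.pos_of_ne_zero hne)
          omega
        have hbot : W ⊓ LinearMap.ker (Cfsg.Agent.Lib.Elusive.avg y r) = ⊥ :=
          Submodule.finrank_eq_zero.1 (by rw [he, he0, zero_mul])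
        have hh := Cfsg.Agent.Lib.Elusive.inf_sup_inf_of_inv (r := r) hy hrF hW
        rw [hbot, sup_bot_eq] at hh
        exact hh ▸ inf_le_right
    have c2 : 2 * j % c ≤ k := by
      by_cases hy1 : y = 1
      · have h2 : Cfsg.Agent.Lib.Elusive.fix1 y = ⊤ :=
          eq_top_iff.2 fun v _ => Cfsg.Agent.Lib.Elusive.mem_fix1.2 (by rw [hy1]; rfl)
        rw [h2, finrank_top, hdim] at hfixk
        have := Nat.mod_le (2 * j) c
        omega
      · obtain ⟨W, hWd, hWn, hW⟩ := hall y hy hy1 hyp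
        exact (hsplit W hW hWn hWd).1
    refine ⟨?_, c2⟩
    by_contra hcon
    push Not at hcon
    rw [Nat.mod_eq_of_lt hcon] at c2
    refine Cfsg.Agent.Lib.Elusive.not_dvd_natCard_obj hgood hr hrF hbs (κ := Unit)
      (fun D => Module.finrank F ↥(D ()) = 2 * j ∧ ∀ u ∈ D (), u ≠ 0 → ∃ v ∈ D (), Cfsg.sympForm d F u v ≠ 0)
      hy hyp (hfixk.trans_lt hkc) ?_ ?_ ?_ ?_ ?_
    · rintro e he D ⟨h1, h2⟩
      refine ⟨(LinearEquiv.finrank_map_eq e (D ())).trans h1, ?_⟩
      rintro _ ⟨u, hu, rfl⟩ hu0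
      obtain ⟨v, hv, hb⟩ := h2 u hu (fun e0 => hu0 (by rw [e0]; exact map_zero _))
      exact ⟨e v, ⟨v, hv, rfl⟩, by rw [← hBs, LinearEquiv.coe_coe, he, hBs]; exact hb⟩
    · rintro D ⟨h1, h2⟩ hD ⟨⟩
      refine (hsplit (D ()) (hD ()) ?_ h1).2 hcon
      rw [Cfsg.Agent.Lib.Elusive.nd_iff]
      simpa only [hBs] using h2
    · obtain ⟨A, hA1, hA2, hA3⟩ := Cfsg.Agent.Lib.Elusive.exists_nd_sub hA hgood (hparts y hy hyp).1
        (even_two_mul j) (by omega)
      rw [Cfsg.Agent.Lib.Elusive.nd_iff] at hA2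
      exact ⟨fun _ => A, ⟨hA3, by simpa only [hBs] using hA2⟩, fun _ => hA1⟩
    · rintro D D' ⟨h1, h2⟩ ⟨h1', h2'⟩ hD hD'
      have hn : ∀ (W : Submodule F (Fin d ⊕ Fin d → F)),
          (∀ u ∈ W, u ≠ 0 → ∃ v ∈ W, Cfsg.sympForm d F u v ≠ 0) →
            Cfsg.Agent.Lib.Elusive.Nd (σ := RingHom.id F) B W := fun W hW => by
        rw [Cfsg.Agent.Lib.Elusive.nd_iff]; simpa only [hBs] using hW
      obtain ⟨f, hf, hfm, hfs, hfg⟩ := Cfsg.Agent.Lib.Elusive.exists_nd_frame hA hgood j (hn _ h2) h1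
      obtain ⟨f', hf', hfm', hfs', hfg'⟩ := Cfsg.Agent.Lib.Elusive.exists_nd_frame hA hgood j (hn _ h2') h1'
      let ε : Fin (j * 2) ≃ Fin j × Fin 2 := finProdFinEquiv.symm
      obtain ⟨e, he, heR, hef⟩ := Cfsg.Agent.Lib.Elusive.exists_isometry_move hgood hrF hy hyp (f ∘ ε) (f' ∘ ε)
        (hf.comp _ ε.injective) (hf'.comp _ ε.injective) (fun a => hD () (hfm _)) (fun a => hD' () (hfm' _))
        (fun a b => (hfg _ _).trans (hfg' _ _).symm)
      exact ⟨e, he, heR, fun _ => Cfsg.Agent.Lib.Elusive.map_eq_of_frames e hef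
        (by rw [Set.range_comp, ε.surjective.range_eq, Set.image_univ, hfs])
        (by rw [Set.range_comp, ε.surjective.range_eq, Set.image_univ, hfs'])⟩
    · refine hrΩ.trans (dvd_of_eq (Nat.card_congr ?_))
      exact ⟨fun W => ⟨fun _ => W.1, W.2⟩, fun D => ⟨D.1 (), D.2⟩, fun _ => rfl,
        fun _ => Subtype.ext (funext fun _ => rfl)⟩
  · rintro ⟨hcm, hk2⟩ y hy hne hyp
    obtain ⟨-, hRn⟩ := hparts y hy hyp
    obtain ⟨hfn, -⟩ := hparts y hy hyp
    obtain ⟨N, hN, hU⟩ := Cfsg.Agent.Lib.Elusive.nd_blocks hgood hr hrF hbs hy hyp hRn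
      Cfsg.Agent.Lib.Elusive.inv_ker_avg le_rfl
    have hsum := Cfsg.Agent.Lib.Elusive.finrank_fix1_add (r := r) hy hrF
    rw [hN, hdim] at hsum
    have hNM : N ≤ M := by
      rw [hM, Nat.le_div_iff_mul_le hcpos]; omega
    have h4 := Nat.div_add_mod' (2 * j) c
    obtain ⟨U, hUR, hUi, hUn, hUd⟩ := hU (min (2 * j / c) N) (min_le_right _ _)
    have hle : min (2 * j / c) N * c ≤ 2 * j :=
      (Nat.mul_le_mul_right c (min_le_left _ _)).trans (Nat.div_mul_le_self _ c)
    obtain ⟨A, hAf, hAn, hAd⟩ := Cfsg.Agent.Lib.Elusive.exists_nd_sub hA hgood hfn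
      (a := 2 * j - min (2 * j / c) N * c) (by
        rw [hch, mul_left_comm, Nat.even_iff]; omega) (by
        have := Nat.mul_le_mul_right c hNM
        rcases min_cases (2 * j / c) N with ⟨e1, -⟩ | ⟨e1, -⟩ <;> rw [e1] <;> omega)
    refine ⟨A ⊔ U, ?_, Cfsg.Agent.Lib.Elusive.nd_sup hgood hAn hUn (fun a ha u hu =>
      Cfsg.Agent.Lib.Elusive.fix1_perp_ker hgood hyp hrF (hAf ha) (hUR hu)), ?_⟩
    · have h0 : A ⊓ U = ⊥ := le_bot_iff.1 ((inf_le_inf hAf hUR).trans
        (Cfsg.Agent.Lib.Elusive.fix1_inf_ker_avg (y := y) hrF).le)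
      have h1 := Submodule.finrank_sup_add_finrank_inf_eq A U
      rw [h0, finrank_bot, add_zero, hAd, hUd] at h1
      omega
    · refine Cfsg.Agent.Lib.Elusive.inv_sup (fun v hv => ?_) hUi
      rwa [Cfsg.Agent.Lib.Elusive.mem_fix1.1 (hAf hv)]

end Cfsg.Agent.S5956
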