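import Cfsg.Statements.S5958
import Mathlib
import Cfsg.Agent.Lib.Elusive.LinearImprimitive

set_option autoImplicit false
open scoped MatrixGroups
open Cfsg

namespace Cfsg.Agent.S5958

/-- Elements of odd prime order of PSL_n(q) and imprimitive subgroups. Here `T = PSL_n(F)` for a field `F` with `q = p^f` elements (`n ≥ 2`, `(n, q) ≠ (2, 2), (2, 3)`), `n = a·t` with `t ≥ 2`, and Ω is the set of direct-sum decompositions of `F^n` into `t` subspaces of dimension `a` (unordered; their number is the number of ordered ones divided by `t!`), whose stabilizers are the imprimitive subgroups of type GL_a(q) ≀ S_t (maximal except in some small cases; maximality is not assumed); an element of `T` of prime order `r` (a matrix `x` of determinant 1 with `x^r` scalar, `x` not scalar) fixes a point of Ω when it permutes the summands of some such decomposition. Let `r ≠ p` be an odd prime dividing the number of such decompositions, let `c` be the multiplicative order of `q` modulo `r`, and write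 `k = n mod c`, `ℓ = a mod c`. Then every element of `T` of order `r` stabilizes such a decomposition if and only if either `a = 1`, `c = r − 1 > 1` and `n ≤ k·r`, or `c ≤ a` and `k = t·ℓ`. -/
theorem result {F : Type*} [Field F] [Fintype F] {p : ℕ} [Fact p.Prime] [CharP F p] {q : ℕ} (hq : Fintype.card F = q)
    (n a t : ℕ) (hn : 2 ≤ n) (hT : (n, q) ≠ (2, 2) ∧ (n, q) ≠ (2, 3)) (hat : n = a * t) (ha : 1 ≤ a) (ht : 2 ≤ t)
    (r : ℕ) [Fact r.Prime] (hr2 : r ≠ 2) (hrp : r ≠ p) (hΩ : r ∣ Nat.card {D : Fin t → Submodule F (Fin n → F) // Cfsg.Geo.IsMDecomposition a D} / Nat.factorial t)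
    (c : ℕ) (hc : c = orderOf (q : ZMod r)) :
    (∀ x : Matrix.SpecialLinearGroup (Fin n) F,
      (∃ z : F, ((x ^ r : Matrix.SpecialLinearGroup (Fin n) F) : Matrix (Fin n) (Fin n) F) = z • (1 : Matrix (Fin n) (Fin n) F)) →
      (∀ z : F, (x : Matrix (Fin n) (Fin n) F) ≠ z • (1 : Matrix (Fin n) (Fin n) F)) →
      ∃ D : Fin t → Submodule F (Fin n → F), Cfsg.Geo.IsMDecomposition a D ∧
        ∃ σ : Equiv.Perm (Fin t), ∀ j, (D j).map (Matrix.toLin' (x : Matrix (Fin n) (Fin n) F)) = D (σ j)) ↔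
    ((a = 1 ∧ 1 < c ∧ c = r - 1 ∧ n ≤ (n % c) * r) ∨ (c ≤ a ∧ n % c = t * (a % c))) := by
  subst hq hc
  have hr : r.Prime := Fact.out
  have hrF : (r : F) ≠ 0 := by
    rw [Ne, CharP.cast_eq_zero_iff F p]
    exact fun h => hrp (((Nat.prime_dvd_prime_iff_eq Fact.out hr).1 h).symm)
  have hfr : Module.finrank F (Fin n → F) = n := Module.finrank_fin_fun F
  refine (Cfsg.Agent.Lib.Elusive.forall_specialLinearGroup_iff n r
    (fun f => ∃ D : Fin t → Submodule F (Fin n → F), Cfsg.Geo.IsMDecomposition a D ∧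
      ∃ σ : Equiv.Perm (Fin t), ∀ j, (D j).map f = D (σ j))).trans ?_
  simp only [Cfsg.Agent.Lib.Elusive.exists_isMDecomposition_iff ha ht hat]
  have hP : ∀ (d : F) (f : Module.End F (Fin n → F)), d ≠ 0 →
      (Cfsg.Agent.Lib.Elusive.Permutes (d • f) a t ↔ Cfsg.Agent.Lib.Elusive.Permutes f a t) :=
    fun d f hd => Cfsg.Agent.Lib.Elusive.permutes_smul_iff hd f a t
  by_cases hrq : r ∣ Fintype.card F - 1
  · have hi : orderOf (Fintype.card F : ZMod r) = 1 := Cfsg.Agent.Lib.Elusive.orderOf_eq_one_iff_dvd.2 hrq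
    refine iff_of_true ?_ (Or.inr ⟨by omega, by rw [hi, Nat.mod_one, Nat.mod_one, mul_zero]⟩)
    refine (Cfsg.Agent.Lib.Elusive.forall_iff_of_dvd (V := Fin n → F) hr (by omega) hrq r
      (fun f => Cfsg.Agent.Lib.Elusive.Permutes f a t) hP (fun y hy => ?_) (fun f hf => ?_)).2 (Or.inl dvd_rfl)
    · obtain ⟨R, hR, hsum, -⟩ := Cfsg.Agent.Lib.Elusive.fix1_data hr hrF hy
      rw [hi] at hsum
      refine Cfsg.Agent.Lib.Elusive.permutes_fixed_blocks hr hrF ha t (Fin n → F) y R hy (hfr.trans hat)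
        (by rw [hi]; exact hsum) ?_
      rw [hi, Nat.div_one, mul_comm]
      omega
    · refine iff_of_true (Cfsg.Agent.Lib.Elusive.permutes_nonSplit hr hrF ha t (Fin n → F) f hf (hfr.trans hat) ?_) dvd_rfl
      have h := (hf.structure' hr).1
      rw [hfr, hat] at h
      exact hr.dvd_mul.1 h
  · have hi2 : 2 ≤ orderOf (Fintype.card F : ZMod r) := by
      have h0 := Cfsg.Agent.Lib.Elusive.orderOf_pos (F := F) hr hrF
      have h1 : orderOf (Fintype.card F : ZMod r) ≠ 1 := fun h =>
        hrq (Cfsg.Agent.Lib.Elusive.orderOf_eq_one_iff_dvd.1 h)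
      omega
    rw [Cfsg.Agent.Lib.Elusive.forall_iff_of_not_dvd (V := Fin n → F) hr (by omega) hrq
      (fun f => Cfsg.Agent.Lib.Elusive.Permutes f a t) hP]
    have hin : orderOf (Fintype.card F : ZMod r) ≤ n :=
      Cfsg.Agent.Lib.Elusive.orderOf_le_of_dvd_count hr hrF hat ha ht (hΩ.trans (Nat.div_dvd_of_dvd ?_))
    · have key := Cfsg.Agent.Lib.Elusive.forall_permutes_iff (V := Fin n → F) hr hrF ha (hfr.trans hat) hi2
        (by rw [hfr]; exact hin)
      rw [hfr] at key
      exact key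
    · exact Cfsg.Agent.Lib.Elusive.factorial_dvd_count

end Cfsg.Agent.S5958
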