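import Cfsg.Statements.S5960
import Mathlib
import Cfsg.Agent.Lib.Forms.Bridge
import Cfsg.Agent.Lib.Elusive.Decomposition
import Cfsg.Agent.Lib.Elusive.SympPlanes

set_option autoImplicit false
open scoped MatrixGroups
open Cfsg

namespace Cfsg.Agent.S5960

/-- Involutions of PSp_n(q) and imprimitive subgroups. Here `T = PSp_n(q)`, `n = 2d ≥ 4`, `(n, q) ≠ (4, 2)`, realised through the symplectic matrices over the field `F` with `q` elements and the standard alternating form; `n = a·t` with `a` even and `t ≥ 2`, and Ω is the (nonempty) set of orthogonal decompositions of `F^n` into `t` nondegenerate subspaces of dimension `a` (unordered; counted as ordered ones divided by `t!`), whose stabilizers are the imprimitive subgroups of type Sp_a(q) ≀ S_t (maximality is not assumed); an element of `T` of prime order `r` (a symplectic matrix `x` with `x^r` scalar, `x` not scalar) fixes a point of Ω when it permutes the summands of some such decomposition. If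 the number of such decompositions is even, then every involution of `T` stabilizes one of them (the action is 2-elusive). -/
theorem result {F : Type*} [Field F] [Fintype F] {p : ℕ} [Fact p.Prime] [CharP F p] {q : ℕ} (hq : Fintype.card F = q)
    (d : ℕ) (hd : 2 ≤ d) (hT : (d, q) ≠ (2, 2))
    (a t : ℕ) (hat : 2 * d = a * t) (ha : 2 ≤ a) (hae : Even a) (ht : 2 ≤ t) (hΩ : 2 ∣ Nat.card {D : Fin t → Submodule F (Fin d ⊕ Fin d → F) // (Cfsg.Geo.IsMDecomposition a D ∧ (∀ j, ∀ u ∈ D j, u ≠ 0 → ∃ v ∈ D j, Cfsg.sympForm d F u v ≠ 0) ∧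
          (∀ j j', j ≠ j' → ∀ u ∈ D j, ∀ v ∈ D j', Cfsg.sympForm d F u v = 0))} / Nat.factorial t)
    (x : ↥(Matrix.symplecticGroup (Fin d) F))
    (hx1 : ∃ z : F, ((x ^ 2 : ↥(Matrix.symplecticGroup (Fin d) F)) : Matrix (Fin d ⊕ Fin d) (Fin d ⊕ Fin d) F) = z • (1 : Matrix (Fin d ⊕ Fin d) (Fin d ⊕ Fin d) F))
    (hx2 : ∀ z : F, (x : Matrix (Fin d ⊕ Fin d) (Fin d ⊕ Fin d) F) ≠ z • (1 : Matrix (Fin d ⊕ Fin d) (Fin d ⊕ Fin d) F)) :
    ∃ D : Fin t → Submodule F (Fin d ⊕ Fin d → F), (Cfsg.Geo.IsMDecomposition a D ∧ (∀ j, ∀ u ∈ D j, u ≠ 0 → ∃ v ∈ D j, Cfsg.sympForm d F u v ≠ 0) ∧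
          (∀ j j', j ≠ j' → ∀ u ∈ D j, ∀ v ∈ D j', Cfsg.sympForm d F u v = 0)) ∧
        ∃ σ : Equiv.Perm (Fin t), ∀ j, (D j).map (Matrix.toLin' (x : Matrix (Fin d ⊕ Fin d) (Fin d ⊕ Fin d) F)) = D (σ j) := by
  classical
  open Cfsg.Agent.Lib.Forms Cfsg.Agent.Lib.Elusive in
  obtain ⟨z, hz⟩ := hx1
  set X : Module.End F (Fin d ⊕ Fin d → F) :=
    Matrix.toLin' (x : Matrix (Fin d ⊕ Fin d) (Fin d ⊕ Fin d) F) with hX
  set B := Cfsg.Agent.Lib.Forms.sympBilin d F with hB
  have hA : B.IsAlt := Cfsg.Agent.Lib.Forms.sympBilin_isAlt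
  have h : Cfsg.Agent.Lib.Forms.IsGoodForm (σ := RingHom.id F) B (-1) := Cfsg.Agent.Lib.Forms.sympBilin_goodForm
  have hpres : ∀ u v, B (X u) (X v) = B u v := fun u v => by
    simp only [hB, Cfsg.Agent.Lib.Forms.sympBilin_apply, hX, Matrix.toLin'_apply]
    exact Cfsg.Agent.Lib.Forms.mem_symplecticGroup_iff_preserves.1 x.2 u v
  have hxx : ∀ v, X (X v) = z • v := by
    intro v
    rw [pow_two, Submonoid.coe_mul] at hz
    rw [hX, Matrix.toLin'_apply, Matrix.toLin'_apply, Matrix.mulVec_mulVec, hz, Matrix.smul_mulVec,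
      Matrix.one_mulVec]
  let v₀ : Fin d ⊕ Fin d → F := Pi.single (.inl ⟨0, by omega⟩) 1
  let w₀ : Fin d ⊕ Fin d → F := Pi.single (.inr ⟨0, by omega⟩) 1
  have hb₀ : B v₀ w₀ ≠ 0 := by
    simp [hB, Cfsg.Agent.Lib.Forms.sympForm_apply, v₀, w₀, Pi.single_apply]
  have hzz : z * z = 1 := by
    have h1 := (hpres (X v₀) (X w₀)).trans (hpres v₀ w₀)
    rw [hxx, hxx, map_smul, map_smul, LinearMap.smul_apply, smul_eq_mul, smul_eq_mul, ← mul_assoc] at h1
    exact (mul_eq_right₀ hb₀).1 h1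
  obtain ⟨k, l, E, hE, hEd, -, hEl, hEr, hkl⟩ := Cfsg.Agent.Lib.Elusive.exists_planeDecomp hA h hpres hxx
    (mul_self_eq_one_iff.1 hzz) ⊤ (fun v _ => Submodule.mem_top) (Cfsg.Agent.Lib.Elusive.nd_top h)
  have hdim : Module.finrank F (Fin d ⊕ Fin d → F) = a * t := by
    rw [Module.finrank_fintype_fun_eq_card, Fintype.card_sum, Fintype.card_fin, ← hat, two_mul]
  rw [finrank_top, hdim] at hkl
  obtain ⟨b, rfl⟩ := hae
  have hn : 2 * k + l = b * t := by
    rw [← two_mul, mul_assoc] at hkl; omega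
  obtain ⟨e, σ, -, hσp, hσf⟩ := Cfsg.Agent.Lib.Elusive.exists_block_placement (t := t) (show 1 ≤ b by omega) hn
  obtain ⟨hD, hDd, hind, hsup⟩ := hE.regroup h (by
    rw [Finset.sum_congr rfl (fun i _ => hEd i), Finset.sum_const, Finset.card_univ, hdim, ← two_mul, mul_assoc, ← hn]
    simp only [Fintype.card_sum, Fintype.card_prod, Fintype.card_fin, smul_eq_mul]; ring) (fun i => (e i).1)
  have hcard : ∀ j : Fin t, (Finset.univ.filter fun i => (e i).1 = j).card = b := by
    intro j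
    rw [show (Finset.univ.filter fun i => (e i).1 = j) = (Finset.univ : Finset (Fin b)).map
      ⟨fun c => e.symm (j, c), fun c c' hc => (Prod.ext_iff.1 (e.symm.injective hc)).2⟩ by
        ext i
        simp only [Finset.mem_filter, Finset.mem_univ, true_and, Finset.mem_map, Function.Embedding.coeFn_mk]
        exact ⟨fun hij => ⟨(e i).2, by show e.symm (j, (e i).2) = i; rw [← hij, Prod.mk.eta, e.symm_apply_apply]⟩,
          fun ⟨c, hc⟩ => by rw [← hc]; show (e (e.symm (j, c))).1 = j; rw [e.apply_symm_apply]⟩,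
      Finset.card_map, Finset.card_univ, Fintype.card_fin]
  let D : Fin t → Submodule F (Fin d ⊕ Fin d → F) := fun j => (Finset.univ.filter fun i => (e i).1 = j).sup E
  have hfr : ∀ j, Module.finrank F ↥(D j) = b + b := fun j => by
    rw [hDd, Finset.sum_congr rfl (fun i _ => hEd i), Finset.sum_const, hcard, smul_eq_mul, mul_two]
  refine ⟨D, ⟨⟨ht, by omega, hfr, hind, hsup⟩, fun j => ?_, fun j j' hj u hu v hv => ?_⟩, σ, fun j => ?_⟩
  · intro u hu hu0
    obtain ⟨v, hv, hb⟩ := (Cfsg.Agent.Lib.Elusive.nd_iff _).1 (hD.nd j) u hu hu0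
    exact ⟨v, hv, by rwa [hB, Cfsg.Agent.Lib.Forms.sympBilin_apply] at hb⟩
  · rw [← Cfsg.Agent.Lib.Forms.sympBilin_apply]
    exact hD.orth j j' hj u hu v hv
  · have hle : (D j).map X ≤ D (σ j) := by
      rw [Submodule.map_le_iff_le_comap]
      refine Finset.sup_le fun i hi => Submodule.map_le_iff_le_comap.1 ?_
      have hij := (Finset.mem_filter.1 hi).2
      rcases i with ⟨i, s⟩ | i
      · refine (hEl i s).trans (Finset.le_sup (f := E) (Finset.mem_filter.2 ⟨Finset.mem_univ _, ?_⟩))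
        rw [hσp, hij]
      · refine (hEr i).trans (Finset.le_sup (f := E) (Finset.mem_filter.2 ⟨Finset.mem_univ _, ?_⟩))
        rw [← hij, hσf]
    refine Submodule.eq_of_le_of_finrank_eq hle ?_
    rw [← (Submodule.equivMapOfInjective X (h.injective_of_preserves hpres) (D j)).finrank_eq, hfr, hfr]

end Cfsg.Agent.S5960
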