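import Cfsg.Statements.S5961
import Mathlib
import Cfsg.Agent.Lib.Elusive.SympImprimitive

set_option autoImplicit false
open scoped MatrixGroups
open Cfsg

namespace Cfsg.Agent.S5961

/-- Elements of odd prime order of PSp_n(q) and imprimitive subgroups. Here `T = PSp_n(q)`, `n = 2d ≥ 4`, `(n, q) ≠ (4, 2)`, realised through the symplectic matrices over the field `F` with `q` elements and the standard alternating form; `n = a·t` with `a` even and `t ≥ 2`, and Ω is the (nonempty) set of orthogonal decompositions of `F^n` into `t` nondegenerate subspaces of dimension `a` (unordered; counted as ordered ones divided by `t!`), whose stabilizers are the imprimitive subgroups of type Sp_a(q) ≀ S_t (maximality is not assumed); an element of `T` of prime order `r` (a symplectic matrix `x` with `x^r` scalar, `x` not scalar) fixes a point of Ω when it permutes the summands of some such decomposition. Let `r ≠ p` be an odd prime dividing the number of such decompositions,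 let `i` be the multiplicative order of `q` modulo `r`, `c = i` if `i` is even and `c = 2i` if `i` is odd, and write `k = n mod c`, `ℓ = a mod c`. Then every element of `T` of order `r` stabilizes such a decomposition if and only if `c ≤ a` and `k = t·ℓ`. -/
theorem result {F : Type*} [Field F] [Fintype F] {p : ℕ} [Fact p.Prime] [CharP F p] {q : ℕ} (hq : Fintype.card F = q)
    (d : ℕ) (hd : 2 ≤ d) (hT : (d, q) ≠ (2, 2))
    (a t : ℕ) (hat : 2 * d = a * t) (ha : 2 ≤ a) (hae : Even a) (ht : 2 ≤ t)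
    (r : ℕ) [Fact r.Prime] (hr2 : r ≠ 2) (hrp : r ≠ p) (hΩ : r ∣ Nat.card {D : Fin t → Submodule F (Fin d ⊕ Fin d → F) // (Cfsg.Geo.IsMDecomposition a D ∧ (∀ j, ∀ u ∈ D j, u ≠ 0 → ∃ v ∈ D j, Cfsg.sympForm d F u v ≠ 0) ∧
          (∀ j j', j ≠ j' → ∀ u ∈ D j, ∀ v ∈ D j', Cfsg.sympForm d F u v = 0))} / Nat.factorial t)
    (i c : ℕ) (hi : i = orderOf (q : ZMod r)) (hc : c = if Even i then i else 2 * i) :
    (∀ x : ↥(Matrix.symplecticGroup (Fin d) F),
      (∃ z : F, ((x ^ r : ↥(Matrix.symplecticGroup (Fin d) F)) : Matrix (Fin d ⊕ Fin d) (Fin d ⊕ Fin d) F) = z • (1 : Matrix (Fin d ⊕ Fin d) (Fin d ⊕ Fin d) F)) →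
      (∀ z : F, (x : Matrix (Fin d ⊕ Fin d) (Fin d ⊕ Fin d) F) ≠ z • (1 : Matrix (Fin d ⊕ Fin d) (Fin d ⊕ Fin d) F)) →
      ∃ D : Fin t → Submodule F (Fin d ⊕ Fin d → F), (Cfsg.Geo.IsMDecomposition a D ∧ (∀ j, ∀ u ∈ D j, u ≠ 0 → ∃ v ∈ D j, Cfsg.sympForm d F u v ≠ 0) ∧
          (∀ j j', j ≠ j' → ∀ u ∈ D j, ∀ v ∈ D j', Cfsg.sympForm d F u v = 0)) ∧
        ∃ σ : Equiv.Perm (Fin t), ∀ j, (D j).map (Matrix.toLin' (x : Matrix (Fin d ⊕ Fin d) (Fin d ⊕ Fin d) F)) = D (σ j)) ↔
    (c ≤ a ∧ (2 * d) % c = t * (a % c)) := by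
  classical
  subst hq
  have hr : r.Prime := Fact.out
  have hrF : (r : F) ≠ 0 := by
    rw [Ne, CharP.cast_eq_zero_iff F p]
    exact fun h => hrp (((Nat.prime_dvd_prime_iff_eq Fact.out hr).1 h).symm)
  set B : LinearMap.BilinForm F (Fin d ⊕ Fin d → F) := Cfsg.Agent.Lib.Forms.sympBilin d F with hB
  have hA : B.IsAlt := Cfsg.Agent.Lib.Forms.sympBilin_isAlt
  have hgood : Cfsg.Agent.Lib.Forms.IsGoodForm (σ := RingHom.id F) B (-1) := Cfsg.Agent.Lib.Forms.sympBilin_goodForm
  have hBs : ∀ u v, B u v = Cfsg.sympForm d F u v := Cfsg.Agent.Lib.Forms.sympBilin_apply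
  have hdim : Module.finrank F (Fin d ⊕ Fin d → F) = 2 * d := Cfsg.Agent.Lib.Elusive.finrank_std
  have hipos : 0 < i := hi ▸ Cfsg.Agent.Lib.Elusive.ordq_pos hr hrF
  have hir : i ∣ r - 1 := by
    rw [hi]
    refine orderOf_dvd_of_pow_eq_one (ZMod.pow_card_sub_one_eq_one fun h0 => ?_)
    rw [hi, h0, orderOf_eq_zero_iff'.2 (fun n hn => by rw [zero_pow hn.ne']; exact zero_ne_one)] at hipos
    omega
  have hbs : Cfsg.Agent.Lib.Elusive.BlockSize (RingHom.id F) r c := by
    rcases Nat.even_or_odd i with he | ho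
    · exact Or.inl ⟨hr2, ⟨_, Cfsg.Agent.Lib.Elusive.selfDualExp_id (p := p) hr (hi ▸ he) (hi ▸ hipos)⟩,
        by rw [hc, if_pos he, hi]⟩
    · exact Or.inr ⟨Cfsg.Agent.Lib.Elusive.notSelfDual_id (p := p) hr hr2 (hi ▸ ho),
        by rw [hc, if_neg (Nat.not_even_iff_odd.2 ho), hi]⟩
  have hr1 : 1 < r - 1 := by
    have := lt_of_le_of_ne hr.two_le (Ne.symm hr2)
    omega
  obtain ⟨h, hch⟩ : ∃ h, c = 2 * h := by
    rcases Nat.even_or_odd i with he | ho
    · obtain ⟨h, hh⟩ := he; exact ⟨h, by rw [hc, if_pos ⟨h, hh⟩]; omega⟩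
    · exact ⟨i, by rw [hc, if_neg (Nat.not_even_iff_odd.2 ho)]⟩
  have hic : i ∣ 2 * h := by
    rw [← hch, hc]; split_ifs
    · exact dvd_rfl
    · exact dvd_mul_left i 2
  have hcpos : 0 < c := Cfsg.Agent.Lib.Elusive.blockSize_pos hgood hr hrF hbs
  have hce : Even c := ⟨h, by omega⟩
  have hcr : c ∣ r - 1 := by
    rcases Nat.even_or_odd i with he | ho
    · rwa [hc, if_pos he]
    · rw [hc, if_neg (Nat.not_even_iff_odd.2 ho)]
      exact (Nat.coprime_two_left.2 ho).mul_dvd_of_dvd_of_dvd (even_iff_two_dvd.1 (hr.even_sub_one hr2)) hir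
  set Obj : (Fin t → Submodule F (Fin d ⊕ Fin d → F)) → Prop := fun D => Cfsg.Geo.IsMDecomposition a D ∧
    (∀ j, ∀ u ∈ D j, u ≠ 0 → ∃ v ∈ D j, Cfsg.sympForm d F u v ≠ 0) ∧
    (∀ j j', j ≠ j' → ∀ u ∈ D j, ∀ v ∈ D j', Cfsg.sympForm d F u v = 0) with hObj
  have hfam : ∀ D, Obj D → Cfsg.Agent.Lib.Elusive.OrthFam (σ := RingHom.id F) B D := fun D hD =>
    ⟨fun j => (Cfsg.Agent.Lib.Elusive.nd_iff _).2 (by simpa only [hBs] using hD.2.1 j),
      fun j j' hj u hu v hv => (hBs u v).trans (hD.2.2 j j' hj u hu v hv)⟩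
  have hmk : ∀ D : Fin t → Submodule F (Fin d ⊕ Fin d → F), Cfsg.Agent.Lib.Elusive.OrthFam (σ := RingHom.id F) B D →
      (∀ j, Module.finrank F ↥(D j) = a) → Obj D := by
    intro D hD hDd
    refine ⟨⟨ht, by omega, hDd, fun j => ?_, ?_⟩,
      fun j => by simpa only [hBs] using (Cfsg.Agent.Lib.Elusive.nd_iff _).1 (hD.nd j),
      fun j j' hj u hu v hv => (hBs u v).symm.trans (hD.orth j j' hj u hu v hv)⟩
    · refine (Cfsg.Agent.Lib.Elusive.isCompl_perp hgood (hD.nd j)).disjoint.mono_right (iSup₂_le fun j' hj' => ?_)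
      intro v hv u hu
      exact hD.orth j j' (Ne.symm hj') u hu v hv
    · rw [eq_top_iff, ← hD.sup_univ_eq_top hgood (by
        rw [Finset.sum_congr rfl fun j _ => hDd j, Finset.sum_const, Finset.card_univ, Fintype.card_fin,
          smul_eq_mul, hdim, hat, mul_comm])]
      exact Finset.sup_le fun j _ => le_iSup D j
  set M := 2 * d / c with hM
  set k := 2 * d % c with hk
  have hMk : M * c + k = 2 * d := by rw [hM, hk]; exact Nat.div_add_mod' _ _
  have hkc : k < c := Nat.mod_lt _ hcpos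
  refine (Cfsg.Agent.Lib.Elusive.forall_symp_iff hr hr2 (by omega)
    (fun f => ∃ D, Obj D ∧ ∃ σ : Equiv.Perm (Fin t), ∀ j, (D j).map f = D (σ j)) fun f hf => ?_).trans ?_
  · obtain ⟨D, h1, σ, h2⟩ := hf
    exact ⟨D, h1, σ, fun j => by rw [Submodule.map_neg, h2 j]⟩
  -- at least one block fits
  have hc2d : c ≤ 2 * d := by
    by_contra hlt
    push Not at hlt
    have hfix1 : Cfsg.Agent.Lib.Elusive.fix1 (1 : Module.End F (Fin d ⊕ Fin d → F)) = ⊤ :=
      eq_top_iff.2 fun v _ => Cfsg.Agent.Lib.Elusive.mem_fix1.2 rfl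
    refine Cfsg.Agent.Lib.Elusive.not_dvd_natCard_obj hgood hr hrF hbs Obj (y := 1) (one_pow r)
      (fun u v => rfl) (by rw [hfix1, finrank_top, hdim]; exact hlt) ?_ ?_ ?_ ?_
      (hΩ.trans (Nat.div_dvd_of_dvd ?_))
    · intro e he D hD
      refine hmk _ ⟨fun j => ?_, fun j j' hj => ?_⟩ fun j => (LinearEquiv.finrank_map_eq e _).trans (hD.1.finrank_eq j)
      · rintro _ ⟨u, hu, rfl⟩ hz
        rw [(hfam D hD).nd j u hu fun v hv => by rw [← he]; exact hz _ ⟨v, hv, rfl⟩, map_zero]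
      · rintro _ ⟨u, hu, rfl⟩ _ ⟨v, hv, rfl⟩
        rw [LinearEquiv.coe_coe, he]
        exact (hfam D hD).orth j j' hj u hu v hv
    · intro D _ _ j
      rw [hfix1]; exact le_top
    · obtain ⟨D, hD, hDd⟩ := Cfsg.Agent.Lib.Elusive.exists_invariant_summands hA hgood hr hrF hbs hce hae
        (y := (1 : Module.End F (Fin d ⊕ Fin d → F))) (one_pow r) (fun u v => rfl) t ⊥ ⊤ 0
        Cfsg.Agent.Lib.Elusive.nd_bot (Cfsg.Agent.Lib.Elusive.inv_bot _) bot_le
        (Cfsg.Agent.Lib.Elusive.nd_top hgood) hfix1.ge (by simp) (by simp)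
        (by rw [finrank_bot, finrank_top, hdim, hat, mul_comm, zero_add])
      exact ⟨D, hmk D hD fun j => (hDd j).2.2, fun j => hfix1 ▸ le_top⟩
    · intro D D' hD hD' _ _
      -- symplectic frames of a decomposition
      obtain ⟨b, rfl⟩ := hae
      have hframe : ∀ D, Obj D → ∃ f : Fin (2 * d) → (Fin d ⊕ Fin d → F), ∃ e : Fin (2 * d) ≃ (Fin t × Fin b) × Fin 2,
          LinearIndependent F f ∧ (∀ l, f l ∈ D (e l).1.1) ∧ ∀ l l', B (f l) (f l') =
            if (e l).1 = (e l').1 then ((if (e l).2 = 0 ∧ (e l').2 = 1 then 1 else 0) -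
              (if (e l).2 = 1 ∧ (e l').2 = 0 then 1 else 0)) else 0 := by
        intro D hD
        choose n E hE hED hvw hEd hn using fun j =>
          Cfsg.Agent.Lib.Elusive.exists_planes hA hgood ((hfam D hD).nd j)
        choose v hv w hw hb using hvw
        have hnb : ∀ j, b = n j := fun j => by have := hn j; rw [hD.1.finrank_eq j] at this; omega
        let e : Fin (2 * d) ≃ (Fin t × Fin b) × Fin 2 := (Fintype.equivFinOfCardEq (by
          simp only [Fintype.card_prod, Fintype.card_fin]; rw [hat]; ring)).symm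
        let g : (Fin t × Fin b) × Fin 2 → (Fin d ⊕ Fin d → F) := fun l =>
          if l.2 = 0 then v l.1.1 (Fin.cast (hnb _) l.1.2) else w l.1.1 (Fin.cast (hnb _) l.1.2)
        have hgmem : ∀ l, g l ∈ E l.1.1 (Fin.cast (hnb _) l.1.2) := fun l => by
          simp only [g]; split_ifs
          · exact hv _ _
          · exact hw _ _
        have hgram : ∀ l l', B (g l) (g l') = if l.1 = l'.1 then ((if l.2 = 0 ∧ l'.2 = 1 then 1 else 0) -
            (if l.2 = 1 ∧ l'.2 = 0 then 1 else 0)) else 0 := by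
          intro l l'
          obtain ⟨⟨j, m⟩, s⟩ := l
          obtain ⟨⟨j', m'⟩, s'⟩ := l'
          by_cases hj : j = j'
          · subst hj
            by_cases hm : m = m'
            · subst hm
              rw [if_pos rfl]
              have h2 : ∀ x y, B x y = 1 → B y x = -1 := fun x y hxy => by
                rw [← LinearMap.IsAlt.neg hA, hxy]
              fin_cases s <;> fin_cases s' <;> simp [g, hA.self_eq_zero, hb, h2 _ _ (hb _ _)]
            · rw [if_neg (fun e => hm (Prod.ext_iff.1 e).2)]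
              exact (hE j).orth _ _ (fun e => hm (Fin.cast_injective _ e)) _ (hgmem ((j, m), s)) _ (hgmem ((j, m'), s'))
          · rw [if_neg (fun e => hj (Prod.ext_iff.1 e).1)]
            exact (hfam D hD).orth j j' hj _ (hED j _ (hgmem ((j, m), s))) _ (hED j' _ (hgmem ((j', m'), s')))
        refine ⟨g ∘ e, e, ?_, fun l => hED _ _ (hgmem (e l)), fun l l' => hgram (e l) (e l')⟩
        refine LinearIndependent.comp ?_ _ e.injective
        rw [Fintype.linearIndependent_iff]
        intro φ hφ l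
        have h1 := congrArg (fun x => B x (g (l.1, l.2 + 1))) hφ
        simp only [map_sum, map_smul, LinearMap.sum_apply, LinearMap.smul_apply, map_zero, LinearMap.zero_apply,
          smul_eq_mul, hgram] at h1
        rw [Finset.sum_eq_single l (fun l' _ hl' => ?_) (fun hh => absurd (Finset.mem_univ l) hh)] at h1
        · obtain ⟨l1, s⟩ := l
          fin_cases s <;> simpa using h1
        · obtain ⟨l1, s⟩ := l
          obtain ⟨l1', s'⟩ := l'
          by_cases hll : l1' = l1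
          · subst hll
            fin_cases s <;> fin_cases s' <;> simp at hl' ⊢
          · simp [hll]
      obtain ⟨f, e, hf, hfm, hfg⟩ := hframe D hD
      obtain ⟨f', e', hf', hfm', hfg'⟩ := hframe D' hD'
      obtain ⟨g, hg, hgR, hgf⟩ := Cfsg.Agent.Lib.Elusive.exists_isometry_move hgood hrF
        (y := (1 : Module.End F (Fin d ⊕ Fin d → F))) (one_pow r) (fun u v => rfl) f (f' ∘ e'.symm ∘ e) hf
        (hf'.comp _ (e'.symm.injective.comp e.injective)) (fun _ => hfix1.ge Submodule.mem_top)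
        (fun _ => hfix1.ge Submodule.mem_top) (fun l l' => by
          simp only [Function.comp_apply, hfg, hfg', Equiv.apply_symm_apply])
      refine ⟨g, hg, hgR, fun j => ?_⟩
      have hspan : D j = Submodule.span F (Set.range (f ∘ (Subtype.val : {l // (e l).1.1 = j} → Fin (2 * d)))) := by
        refine (Submodule.eq_of_le_of_finrank_eq (Submodule.span_le.2 ?_) ?_).symm
        · rintro _ ⟨⟨l, rfl⟩, rfl⟩; exact hfm l
        · rw [finrank_span_eq_card (hf.comp _ Subtype.val_injective), hD.1.finrank_eq]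
          rw [Fintype.card_congr (Equiv.subtypeEquiv e (q := fun z => z.1.1 = j) fun l => Iff.rfl),
            Fintype.card_congr (show {z : (Fin t × Fin b) × Fin 2 // z.1.1 = j} ≃ Fin b × Fin 2 from
              ⟨fun z => (z.1.1.2, z.1.2), fun z => ⟨((j, z.1), z.2), rfl⟩,
                fun ⟨⟨⟨z1, z2⟩, z3⟩, hz⟩ => by subst hz; rfl, fun z => rfl⟩)]
          simp only [Fintype.card_prod, Fintype.card_fin]; ring
      refine Submodule.eq_of_le_of_finrank_eq ?_ ((LinearEquiv.finrank_map_eq g (D j)).trans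
        ((hD.1.finrank_eq j).trans (hD'.1.finrank_eq j).symm))
      rw [hspan, Submodule.map_span, Submodule.span_le]
      rintro _ ⟨_, ⟨⟨l, hl⟩, rfl⟩, rfl⟩
      rw [LinearEquiv.coe_coe, Function.comp_apply, hgf]
      have := hfm' (e'.symm (e l))
      rw [Equiv.apply_symm_apply, hl] at this
      exact this
    · -- relabelling acts freely
      letI : MulAction (Equiv.Perm (Fin t)) {D // Obj D} :=
        { smul := fun σ D => ⟨D.1 ∘ ⇑σ⁻¹, hmk _ ⟨fun j => (hfam _ D.2).nd _,
            fun j j' hj => (hfam _ D.2).orth _ _ (σ⁻¹.injective.ne hj)⟩ fun j => D.2.1.finrank_eq _⟩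
          one_smul := fun D => Subtype.ext rfl
          mul_smul := fun σ τ D => Subtype.ext (by
            show D.1 ∘ ⇑(σ * τ)⁻¹ = (D.1 ∘ ⇑τ⁻¹) ∘ ⇑σ⁻¹
            rw [mul_inv_rev]; rfl) }
      have hstab : ∀ D : {D // Obj D}, MulAction.stabilizer (Equiv.Perm (Fin t)) D = ⊥ := by
        intro D
        rw [Subgroup.eq_bot_iff_forall]
        intro σ hσ
        refine inv_eq_one.1 (Equiv.ext fun j => D.2.1.indep.injective (fun j h => ?_) ?_)
        · have := D.2.1.finrank_eq j
          rw [h, finrank_bot] at this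
          omega
        · exact congrFun (congrArg Subtype.val (MulAction.mem_stabilizer_iff.1 hσ)) j
      haveI : Finite (Submodule F (Fin d ⊕ Fin d → F)) :=
        Finite.of_injective (fun W => (W : Set (Fin d ⊕ Fin d → F))) SetLike.coe_injective
      haveI : Fintype {D // Obj D} := Fintype.ofFinite _
      show Nat.factorial t ∣ Nat.card {D // Obj D}
      rw [Nat.card_congr (MulAction.selfEquivSigmaOrbitsQuotientStabilizer (Equiv.Perm (Fin t)) _), Nat.card_sigma]
      refine Finset.dvd_sum fun O _ => ?_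
      rw [hstab, ← Subgroup.index, Subgroup.index_bot, Nat.card_perm, Nat.card_fin]
  constructor
  · intro hall
    obtain ⟨y₀, hy₀, hy₀ne, hy₀p⟩ := Cfsg.Agent.Lib.Elusive.exists_symp_block (F := F) (h := h) hr
      (hi ▸ hic) (by omega)
    have hPc : Module.finrank F (Fin h ⊕ Fin h → F) = c := hch ▸ Cfsg.Agent.Lib.Elusive.finrank_std
    have hwit : ∀ N, 1 ≤ N → N * c ≤ 2 * d → ∃ y : Module.End F (Fin d ⊕ Fin d → F),
        (∀ u v, B (y u) (y v) = B u v) ∧ y ^ r = 1 ∧
        Module.finrank F ↥(Cfsg.Agent.Lib.Elusive.fix1 y) + N * c = 2 * d ∧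
        ∃ D, Obj D ∧ ∃ σ : Equiv.Perm (Fin t), ∀ j, (D j).map y = D (σ j) := by
      intro N hN1 hN
      obtain ⟨E⟩ := Cfsg.Agent.Lib.Elusive.exists_blockEmb_symp (F := F) (d := d) (N := N) (h := h)
        (by rw [hch, mul_left_comm] at hN; omega)
      obtain ⟨y, hy, hyp, hyR⟩ := Cfsg.Agent.Lib.Elusive.exists_isometry_blocks hgood
        Cfsg.Agent.Lib.Forms.sympBilin_goodForm hr hrF hbs hPc E hy₀ hy₀ne hy₀p
      have hsum := Cfsg.Agent.Lib.Elusive.finrank_fix1_add (r := r) hy hrF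
      rw [hyR, hdim] at hsum
      refine ⟨y, hyp, hy, hsum, hall y hy (fun h1 => ?_) hyp⟩
      have h2 : Cfsg.Agent.Lib.Elusive.fix1 y = ⊤ :=
        eq_top_iff.2 fun v _ => Cfsg.Agent.Lib.Elusive.mem_fix1.2 (by rw [h1]; rfl)
      rw [h2, finrank_top, hdim] at hsum
      have := Nat.le_mul_of_pos_left c hN1
      omega
    have hca : c ≤ a := by
      by_contra hlt
      push Not at hlt
      obtain ⟨y, hyp, hy, hsum, D, hD, σ, hσ⟩ := hwit 1 le_rfl (by omega)
      have hcle : c ≤ r - 1 := Nat.le_of_dvd (by omega) hcr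
      by_cases hmv : ∃ j, σ j ≠ j
      · obtain ⟨j, hj⟩ := hmv
        obtain ⟨h1, -⟩ := (Cfsg.Agent.Lib.Elusive.summand_cases hA hgood hr hrF hr2 (by omega) hy hyp D
          (hfam D hD) hD.1.finrank_eq σ hσ j).resolve_left hj
        rw [hdim] at h1
        have := Nat.mul_le_mul hcle ha
        omega
      · push Not at hmv
        have hle : ∀ j, D j ≤ Cfsg.Agent.Lib.Elusive.fix1 y := by
          intro j
          have hinv : Cfsg.Agent.Lib.Elusive.Inv y (D j) := (Cfsg.Agent.Lib.Elusive.inv_iff_map_le _ _).2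
            (by rw [hσ j, hmv j])
          obtain ⟨-, hRn⟩ := Cfsg.Agent.Lib.Elusive.nd_parts hgood hy hyp hrF ((hfam D hD).nd j) hinv
          obtain ⟨N, hN, -⟩ := Cfsg.Agent.Lib.Elusive.nd_blocks hgood hr hrF hbs hy hyp hRn
            (Cfsg.Agent.Lib.Elusive.inv_inf hinv Cfsg.Agent.Lib.Elusive.inv_ker_avg) inf_le_right
          have h2 := Submodule.finrank_mono (inf_le_left : D j ⊓ LinearMap.ker (Cfsg.Agent.Lib.Elusive.avg y r) ≤ D j)
          rw [hN, hD.1.finrank_eq j] at h2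
          have hN0 : N = 0 := by
            by_contra hne
            have := Nat.le_mul_of_pos_left c (Nat.pos_of_ne_zero hne)
            omega
          have hbot : D j ⊓ LinearMap.ker (Cfsg.Agent.Lib.Elusive.avg y r) = ⊥ :=
            Submodule.finrank_eq_zero.1 (by rw [hN, hN0, zero_mul])
          have hh := Cfsg.Agent.Lib.Elusive.inf_sup_inf_of_inv (r := r) hy hrF hinv
          rw [hbot, sup_bot_eq] at hh
          exact hh ▸ inf_le_right
        have htop : Cfsg.Agent.Lib.Elusive.fix1 y = ⊤ := eq_top_iff.2 (hD.1.iSup_eq_top ▸ iSup_le hle)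
        rw [htop, finrank_top, hdim] at hsum
        omega
    refine ⟨hca, ?_⟩
    obtain ⟨y, hyp, hy, hsum, D, hD, σ, hσ⟩ := hwit M ((Nat.one_le_div_iff hcpos).2 hc2d) (by omega)
    have hfk : Module.finrank F ↥(Cfsg.Agent.Lib.Elusive.fix1 y) = k := by omega
    have hfixed : ∀ j, σ j = j := fun j => by
      rcases Cfsg.Agent.Lib.Elusive.summand_cases hA hgood hr hrF hr2 (by omega) hy hyp D
        (hfam D hD) hD.1.finrank_eq σ hσ j with h1 | ⟨-, h1⟩
      · exact h1
      · omega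
    have hinv : ∀ j, Cfsg.Agent.Lib.Elusive.Inv y (D j) := fun j =>
      (Cfsg.Agent.Lib.Elusive.inv_iff_map_le _ _).2 (by rw [hσ j, hfixed j])
    have hparts : ∀ j, a % c ≤ Module.finrank F ↥(D j ⊓ Cfsg.Agent.Lib.Elusive.fix1 y) := by
      intro j
      obtain ⟨-, hRn⟩ := Cfsg.Agent.Lib.Elusive.nd_parts hgood hy hyp hrF ((hfam D hD).nd j) (hinv j)
      obtain ⟨N, hN, -⟩ := Cfsg.Agent.Lib.Elusive.nd_blocks hgood hr hrF hbs hy hyp hRn
        (Cfsg.Agent.Lib.Elusive.inv_inf (hinv j) Cfsg.Agent.Lib.Elusive.inv_ker_avg) inf_le_right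
      have h1 := Cfsg.Agent.Lib.Elusive.finrank_of_inv (r := r) hy hrF (hinv j)
      rw [hN, hD.1.finrank_eq j] at h1
      have h2 : a % c = Module.finrank F ↥(D j ⊓ Cfsg.Agent.Lib.Elusive.fix1 y) % c := by
        conv_lhs => rw [h1, Nat.add_mul_mod_self_right]
      rw [h2]
      exact Nat.mod_le _ _
    have hE : Cfsg.Agent.Lib.Elusive.OrthFam (σ := RingHom.id F) B
        (fun j => D j ⊓ Cfsg.Agent.Lib.Elusive.fix1 y) :=
      ⟨fun j => (Cfsg.Agent.Lib.Elusive.nd_parts hgood hy hyp hrF ((hfam D hD).nd j) (hinv j)).1,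
        fun j j' hj u hu v hv => (hfam D hD).orth j j' hj u hu.1 v hv.1⟩
    have h3 := Submodule.finrank_mono (Finset.sup_le (fun j _ => inf_le_right) :
      Finset.univ.sup (fun j => D j ⊓ Cfsg.Agent.Lib.Elusive.fix1 y) ≤ Cfsg.Agent.Lib.Elusive.fix1 y)
    rw [(hE.sup_data hgood _).2, hfk] at h3
    have h4 := Finset.sum_le_sum fun j (_ : j ∈ Finset.univ) => hparts j
    rw [Finset.sum_const, Finset.card_univ, Fintype.card_fin, smul_eq_mul] at h4
    have h5 : t * (a % c) < c := by omega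
    rw [hk, hat, mul_comm a t, Nat.mul_mod, Nat.mod_mul_mod, Nat.mod_eq_of_lt h5]
  · rintro ⟨hca, hkl⟩ y hy hne hyp
    obtain ⟨N, hNR, hNsum, -⟩ := Cfsg.Agent.Lib.Elusive.exists_blocks hgood hr hrF hbs hy hyp
    rw [hdim] at hNsum
    obtain ⟨hFn, hRn⟩ := Cfsg.Agent.Lib.Elusive.nd_parts hgood hy hyp hrF (T := ⊤)
      (Cfsg.Agent.Lib.Elusive.nd_top hgood) (fun v _ => Submodule.mem_top)
    rw [top_inf_eq] at hRn hFn
    have hNt : N ≤ t * (a / c) := by
      have h1 : M * c = t * (a / c) * c := by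
        have h2 : t * a = t * (a / c) * c + t * (a % c) := by
          rw [mul_assoc, ← mul_add, Nat.div_add_mod']
        rw [mul_comm a t] at hat
        omega
      have h3 : N * c ≤ M * c := Nat.mul_le_mul_right c (by rw [hM, Nat.le_div_iff_mul_le hcpos]; omega)
      rw [h1] at h3
      exact Nat.le_of_mul_le_mul_right h3 hcpos
    obtain ⟨D, hD, hDp⟩ := Cfsg.Agent.Lib.Elusive.exists_invariant_summands hA hgood hr hrF hbs hce hae hy hyp t
      _ _ N hRn Cfsg.Agent.Lib.Elusive.inv_ker_avg le_rfl hFn le_rfl hNR hNt (by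
        rw [hNR, mul_comm t a, ← hat]; omega)
    refine ⟨D, hmk D hD fun j => (hDp j).2.2, 1, fun j => ?_⟩
    refine Submodule.eq_of_le_of_finrank_eq ((Cfsg.Agent.Lib.Elusive.inv_iff_map_le _ _).1 (hDp j).1) ?_
    exact (Submodule.equivMapOfInjective y (hgood.injective_of_preserves hyp) (D j)).finrank_eq.symm

end Cfsg.Agent.S5961
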