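import Cfsg.Statements.S5962
import Mathlib
import Cfsg.Agent.Lib.Elusive.SympInvolution

set_option autoImplicit false
open scoped MatrixGroups
open Cfsg

namespace Cfsg.Agent.S5962

/-- Involutions of PSp_n(q), q odd, and the subgroups GL_{n/2}(q).2. Here `T = PSp_n(q)`, `n = 2d ≥ 4`, `q` odd, realised through the symplectic matrices over the field `F` with `q` elements; Ω is the set of unordered pairs `{U, W}` of complementary totally isotropic `d`-spaces (`F^n = U ⊕ W`), whose stabilizers are the subgroups of type GL_d(q).2 (maximal except in some small cases; maximality is not assumed); an element of `T` of prime order `r` (a symplectic matrix `x` with `x^r` scalar, `x` not scalar) fixes such a pair when it fixes or interchanges `U` and `W`. If the number of such pairs is even, every involution of `T` fixes one of them (the action is 2-elusive). -/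
theorem result {F : Type*} [Field F] [Fintype F] {p : ℕ} [Fact p.Prime] [CharP F p] {q : ℕ} (hq : Fintype.card F = q)
    (d : ℕ) (hd : 2 ≤ d) (hT : (d, q) ≠ (2, 2)) (hodd : Odd q)
    (hΩ : 2 ∣ Nat.card {P : Submodule F (Fin d ⊕ Fin d → F) × Submodule F (Fin d ⊕ Fin d → F) // IsCompl P.1 P.2 ∧ (∀ u ∈ P.1, ∀ v ∈ P.1, Cfsg.sympForm d F u v = 0) ∧ (∀ u ∈ P.2, ∀ v ∈ P.2, Cfsg.sympForm d F u v = 0)} / 2)
    (x : ↥(Matrix.symplecticGroup (Fin d) F))
    (hx1 : ∃ z : F, ((x ^ 2 : ↥(Matrix.symplecticGroup (Fin d) F)) : Matrix (Fin d ⊕ Fin d) (Fin d ⊕ Fin d) F) = z • (1 : Matrix (Fin d ⊕ Fin d) (Fin d ⊕ Fin d) F))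
    (hx2 : ∀ z : F, (x : Matrix (Fin d ⊕ Fin d) (Fin d ⊕ Fin d) F) ≠ z • (1 : Matrix (Fin d ⊕ Fin d) (Fin d ⊕ Fin d) F)) :
    ∃ U W : Submodule F (Fin d ⊕ Fin d → F), IsCompl U W ∧ (∀ u ∈ U, ∀ v ∈ U, Cfsg.sympForm d F u v = 0) ∧ (∀ u ∈ W, ∀ v ∈ W, Cfsg.sympForm d F u v = 0) ∧
        ((U.map (Matrix.toLin' (x : Matrix (Fin d ⊕ Fin d) (Fin d ⊕ Fin d) F)) = U ∧ W.map (Matrix.toLin' (x : Matrix (Fin d ⊕ Fin d) (Fin d ⊕ Fin d) F)) = W) ∨
         (U.map (Matrix.toLin' (x : Matrix (Fin d ⊕ Fin d) (Fin d ⊕ Fin d) F)) = W ∧ W.map (Matrix.toLin' (x : Matrix (Fin d ⊕ Fin d) (Fin d ⊕ Fin d) F)) = U)) := by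
  subst hq
  have h2 : (2 : F) ≠ 0 := by
    refine Ring.two_ne_zero fun h => ?_
    exact Nat.not_even_iff_odd.2 hodd (Nat.even_iff.2 ((FiniteField.even_card_iff_char_two (F := F)).1 h))
  have hpres : ∀ u v, Cfsg.Agent.Lib.Forms.sympBilin d F (Matrix.toLin' (x : Matrix (Fin d ⊕ Fin d) (Fin d ⊕ Fin d) F) u)
      (Matrix.toLin' (x : Matrix (Fin d ⊕ Fin d) (Fin d ⊕ Fin d) F) v) = Cfsg.Agent.Lib.Forms.sympBilin d F u v := fun u v => by
    simp only [Cfsg.Agent.Lib.Forms.sympBilin_apply, Matrix.toLin'_apply]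
    exact Cfsg.Agent.Lib.Forms.mem_symplecticGroup_iff_preserves.1 x.2 u v
  obtain ⟨z, hz⟩ := hx1
  have hxx : ∀ v, Matrix.toLin' (x : Matrix (Fin d ⊕ Fin d) (Fin d ⊕ Fin d) F) (Matrix.toLin' (x : Matrix (Fin d ⊕ Fin d) (Fin d ⊕ Fin d) F) v) = z • v := fun v => by
    rw [sq, Submonoid.coe_mul] at hz
    rw [Matrix.toLin'_apply, Matrix.toLin'_apply, Matrix.mulVec_mulVec, hz, Matrix.smul_mulVec, Matrix.one_mulVec]
  have hz1 : z = 1 ∨ z = -1 := by
    refine mul_self_eq_one_iff.1 ?_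
    let i : Fin d := ⟨0, by omega⟩
    have h1 : Cfsg.Agent.Lib.Forms.sympBilin d F (Pi.single (.inr i) 1) (Pi.single (.inl i) 1) = 1 := by
      simp [Cfsg.Agent.Lib.Forms.sympForm_apply, Pi.single_apply]
    have h3 := hpres (Pi.single (.inr i) 1) (Pi.single (.inl i) 1)
    rw [← hpres, hxx, hxx, map_smul, map_smul, LinearMap.smul_apply, h1, smul_eq_mul, smul_eq_mul, mul_one] at h3
    exact h3
  obtain ⟨U, W, h⟩ := Cfsg.Agent.Lib.Elusive.exists_fixed_lagrangian_pair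
    (B := Cfsg.Agent.Lib.Forms.sympBilin d F) Cfsg.Agent.Lib.Forms.sympBilin_isAlt
    (fun u hu => Cfsg.Agent.Lib.Forms.sympBilin_goodForm.nondeg u hu) h2 hpres hxx hz1
  simp only [Cfsg.Agent.Lib.Forms.sympBilin_apply] at h
  exact ⟨U, W, h⟩

end Cfsg.Agent.S5962
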