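import Cfsg.Statements.S5963
import Mathlib
import Cfsg.Agent.Lib.Elusive.SympTI

set_option autoImplicit false
open scoped MatrixGroups
open Cfsg

namespace Cfsg.Agent.S5963

/-- Derangements of odd prime order of PSp_n(q), q odd, on pairs of complementary totally isotropic subspaces. Here `T = PSp_n(q)`, `n = 2d ≥ 4`, `q` odd, realised through the symplectic matrices over the field `F` with `q` elements; Ω is the set of unordered pairs `{U, W}` of complementary totally isotropic `d`-spaces (`F^n = U ⊕ W`), whose stabilizers are the subgroups of type GL_d(q).2 (maximal except in some small cases; maximality is not assumed); an element of `T` of prime order `r` (a symplectic matrix `x` with `x^r` scalar, `x` not scalar) fixes such a pair when it fixes or interchanges `U` and `W`. For every odd prime `r ≠ p` dividing the number of such pairs, some element of `T` of order `r` fixes no such pair (the action is never `r`-elusive for odd `r ≠ p`).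 -/
theorem result {F : Type*} [Field F] [Fintype F] {p : ℕ} [Fact p.Prime] [CharP F p] {q : ℕ} (hq : Fintype.card F = q)
    (d : ℕ) (hd : 2 ≤ d) (hT : (d, q) ≠ (2, 2)) (hodd : Odd q)
    (r : ℕ) [Fact r.Prime] (hr2 : r ≠ 2) (hrp : r ≠ p) (hΩ : r ∣ Nat.card {P : Submodule F (Fin d ⊕ Fin d → F) × Submodule F (Fin d ⊕ Fin d → F) // IsCompl P.1 P.2 ∧ (∀ u ∈ P.1, ∀ v ∈ P.1, Cfsg.sympForm d F u v = 0) ∧ (∀ u ∈ P.2, ∀ v ∈ P.2, Cfsg.sympForm d F u v = 0)} / 2) :
    ∃ x : ↥(Matrix.symplecticGroup (Fin d) F),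
      (∃ z : F, ((x ^ r : ↥(Matrix.symplecticGroup (Fin d) F)) : Matrix (Fin d ⊕ Fin d) (Fin d ⊕ Fin d) F) = z • (1 : Matrix (Fin d ⊕ Fin d) (Fin d ⊕ Fin d) F)) ∧
      (∀ z : F, (x : Matrix (Fin d ⊕ Fin d) (Fin d ⊕ Fin d) F) ≠ z • (1 : Matrix (Fin d ⊕ Fin d) (Fin d ⊕ Fin d) F)) ∧
      ¬ (∃ U W : Submodule F (Fin d ⊕ Fin d → F), IsCompl U W ∧ (∀ u ∈ U, ∀ v ∈ U, Cfsg.sympForm d F u v = 0) ∧ (∀ u ∈ W, ∀ v ∈ W, Cfsg.sympForm d F u v = 0) ∧
        ((U.map (Matrix.toLin' (x : Matrix (Fin d ⊕ Fin d) (Fin d ⊕ Fin d) F)) = U ∧ W.map (Matrix.toLin' (x : Matrix (Fin d ⊕ Fin d) (Fin d ⊕ Fin d) F)) = W) ∨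
         (U.map (Matrix.toLin' (x : Matrix (Fin d ⊕ Fin d) (Fin d ⊕ Fin d) F)) = W ∧ W.map (Matrix.toLin' (x : Matrix (Fin d ⊕ Fin d) (Fin d ⊕ Fin d) F)) = U))) := by
  classical
  subst hq
  have hr : r.Prime := Fact.out
  set B : LinearMap.BilinForm F (Fin d ⊕ Fin d → F) := Cfsg.Agent.Lib.Forms.sympBilin d F with hB
  have hgood : Cfsg.Agent.Lib.Forms.IsGoodForm (σ := RingHom.id F) B (-1) := Cfsg.Agent.Lib.Forms.sympBilin_goodForm
  have hBs : ∀ u v, B u v = Cfsg.sympForm d F u v := Cfsg.Agent.Lib.Forms.sympBilin_apply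
  have hdim : Module.finrank F (Fin d ⊕ Fin d → F) = 2 * d := Cfsg.Agent.Lib.Elusive.finrank_std
  set X := {P : Submodule F (Fin d ⊕ Fin d → F) × Submodule F (Fin d ⊕ Fin d → F) // IsCompl P.1 P.2 ∧
    (∀ u ∈ P.1, ∀ v ∈ P.1, Cfsg.sympForm d F u v = 0) ∧ (∀ u ∈ P.2, ∀ v ∈ P.2, Cfsg.sympForm d F u v = 0)}
  set G := ↥(Matrix.symplecticGroup (Fin d) F)
  haveI : Finite (Submodule F (Fin d ⊕ Fin d → F)) :=
    Finite.of_injective (fun W => (W : Set (Fin d ⊕ Fin d → F))) SetLike.coe_injective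
  haveI : Finite G :=
    Finite.of_injective (fun g => (g.1 : Matrix (Fin d ⊕ Fin d) (Fin d ⊕ Fin d) F)) Subtype.val_injective
  -- the number of ordered pairs is even
  let sw : Equiv.Perm X := Function.Involutive.toPerm
    (fun P => ⟨(P.1.2, P.1.1), P.2.1.symm, P.2.2.2, P.2.2.1⟩) (fun P => Subtype.ext rfl)
  have h2N : 2 ∣ Nat.card X := by
    haveI : Fact (Nat.Prime 2) := ⟨Nat.prime_two⟩
    have hsw : sw ^ 2 = 1 := Equiv.ext fun P => by rw [pow_two]; exact Subtype.ext rfl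
    have hY : IsPGroup 2 (Subgroup.zpowers sw) := IsPGroup.of_card_dvd_pow (n := 1) (by
      rw [Nat.card_zpowers, pow_one]; exact orderOf_dvd_of_pow_eq_one hsw)
    have hmod := hY.card_modEq_card_fixedPoints X
    have hfp : IsEmpty (MulAction.fixedPoints (Subgroup.zpowers sw) X) := ⟨fun P => by
      have h1 : sw P.1 = P.1 := P.2 ⟨sw, Subgroup.mem_zpowers sw⟩
      have h2 : P.1.1.2 = P.1.1.1 := congrArg (fun Q : X => Q.1.1) h1
      have h3 := P.1.2.1.inf_eq_bot
      have h4 := P.1.2.1.sup_eq_top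
      rw [h2, inf_idem] at h3
      rw [h2, sup_idem, h3] at h4
      have h5 := congrArg (fun W : Submodule F (Fin d ⊕ Fin d → F) => Module.finrank F ↥W) h4
      simp only [finrank_bot, finrank_top, hdim] at h5
      omega⟩
    rw [Nat.card_eq_zero.2 (Or.inl hfp)] at hmod
    exact Nat.modEq_zero_iff_dvd.1 hmod
  have hrN : r ∣ Nat.card X := hΩ.trans (Nat.div_dvd_of_dvd h2N)
  -- the symplectic group is transitive, with stabilisers containing a general linear group
  let L : G → Module.End F (Fin d ⊕ Fin d → F) := fun g => Matrix.toLin' g.1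
  have hpres : ∀ (g : G) u v, Cfsg.sympForm d F (L g u) (L g v) = Cfsg.sympForm d F u v := fun g u v => by
    simp only [L, Matrix.toLin'_apply]
    exact Cfsg.Agent.Lib.Forms.mem_symplecticGroup_iff_preserves.1 g.2 u v
  have hLe : ∀ g : G, ∃ e : (Fin d ⊕ Fin d → F) ≃ₗ[F] (Fin d ⊕ Fin d → F), (e : _ →ₗ[F] _) = L g := fun g => by
    obtain ⟨e, he, -⟩ := hgood.exists_equiv_of_preserves (L g) fun u v => by simp only [hBs, hpres]
    exact ⟨e, LinearMap.ext he⟩
  letI : MulAction G X :=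
    { smul := fun g P => ⟨(P.1.1.map (L g), P.1.2.map (L g)), by
        obtain ⟨e, he⟩ := hLe g
        rw [← he]
        exact IsCompl.of_eq (by rw [← Submodule.map_inf _ e.injective, P.2.1.inf_eq_bot, Submodule.map_bot])
          (by rw [← Submodule.map_sup, P.2.1.sup_eq_top, Submodule.map_top, LinearEquiv.range]), by
        rintro _ ⟨u, hu, rfl⟩ _ ⟨v, hv, rfl⟩
        rw [hpres]; exact P.2.2.1 u hu v hv, by
        rintro _ ⟨u, hu, rfl⟩ _ ⟨v, hv, rfl⟩
        rw [hpres]; exact P.2.2.2 u hu v hv⟩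
      one_smul := fun P => Subtype.ext (by
        show (P.1.1.map (Matrix.toLin' (1 : Matrix (Fin d ⊕ Fin d) (Fin d ⊕ Fin d) F)),
          P.1.2.map (Matrix.toLin' (1 : Matrix (Fin d ⊕ Fin d) (Fin d ⊕ Fin d) F))) = P.1
        rw [Matrix.toLin'_one, Submodule.map_id, Submodule.map_id])
      mul_smul := fun g g' P => Subtype.ext (by
        show (P.1.1.map (Matrix.toLin' (g.1 * g'.1)), P.1.2.map (Matrix.toLin' (g.1 * g'.1))) =
          ((P.1.1.map (L g')).map (L g), (P.1.2.map (L g')).map (L g))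
        rw [Matrix.toLin'_mul]
        exact Prod.ext (Submodule.map_comp _ _ _) (Submodule.map_comp _ _ _)) }
  let U₀ : Submodule F (Fin d ⊕ Fin d → F) :=
    LinearMap.ker (LinearMap.funLeft F F (Sum.inl : Fin d → Fin d ⊕ Fin d))
  let W₀ : Submodule F (Fin d ⊕ Fin d → F) :=
    LinearMap.ker (LinearMap.funLeft F F (Sum.inr : Fin d → Fin d ⊕ Fin d))
  have hU₀ : ∀ v, v ∈ U₀ ↔ ∀ j, v (.inl j) = 0 := fun v => LinearMap.mem_ker.trans funext_iff
  have hW₀ : ∀ v, v ∈ W₀ ↔ ∀ j, v (.inr j) = 0 := fun v => LinearMap.mem_ker.trans funext_iff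
  have hP₀ : IsCompl U₀ W₀ ∧ (∀ u ∈ U₀, ∀ v ∈ U₀, Cfsg.sympForm d F u v = 0) ∧
      (∀ u ∈ W₀, ∀ v ∈ W₀, Cfsg.sympForm d F u v = 0) := by
    refine ⟨⟨disjoint_iff.2 ?_, codisjoint_iff.2 ?_⟩, fun u hu v hv => ?_, fun u hu v hv => ?_⟩
    · rw [eq_bot_iff]
      rintro v ⟨h1, h2⟩
      exact (Submodule.mem_bot F).2 (funext fun s => by
        rcases s with j | j
        · exact (hU₀ v).1 h1 j
        · exact (hW₀ v).1 h2 j)
    · rw [eq_top_iff]
      intro v _
      rw [show v = Sum.elim (0 : Fin d → F) (v ∘ Sum.inr) + Sum.elim (v ∘ Sum.inl) (0 : Fin d → F) from funext fun s => by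
        rcases s with j | j <;> simp]
      exact Submodule.add_mem_sup ((hU₀ _).2 fun j => rfl) ((hW₀ _).2 fun j => rfl)
    · rw [Cfsg.Agent.Lib.Forms.sympForm_apply]
      exact Finset.sum_eq_zero fun j _ => by rw [(hU₀ u).1 hu j, (hU₀ v).1 hv j]; ring
    · rw [Cfsg.Agent.Lib.Forms.sympForm_apply]
      exact Finset.sum_eq_zero fun j _ => by rw [(hW₀ u).1 hu j, (hW₀ v).1 hv j]; ring
  let P₀ : X := ⟨(U₀, W₀), hP₀⟩
  have hmove : ∀ P : X, ∃ g : G, g • P₀ = P := fun P => by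
    obtain ⟨⟨U, W⟩, hc, hU, hW⟩ := P
    replace hc : IsCompl U W := hc
    replace hU : ∀ u ∈ U, ∀ v ∈ U, Cfsg.sympForm d F u v = 0 := hU
    replace hW : ∀ u ∈ W, ∀ v ∈ W, Cfsg.sympForm d F u v = 0 := hW
    have hUd : Module.finrank F ↥U = d := by
      have h1 := Cfsg.Agent.Lib.Elusive.iso_finrank_le hgood (Cfsg.Agent.Lib.Elusive.nd_top hgood)
        (le_top : U ≤ ⊤) fun u hu v hv => (hBs u v).trans (hU u hu v hv)
      have h2 := Cfsg.Agent.Lib.Elusive.iso_finrank_le hgood (Cfsg.Agent.Lib.Elusive.nd_top hgood)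
        (le_top : W ≤ ⊤) fun u hu v hv => (hBs u v).trans (hW u hu v hv)
      have h3 := Submodule.finrank_add_eq_of_isCompl hc
      rw [finrank_top, hdim] at h1 h2
      rw [hdim] at h3
      omega
    let b := Module.finBasisOfFinrankEq F ↥U hUd
    -- dual vectors
    have hdual : ∀ l : Fin d, ∃ w ∈ W, ∀ j, B (b j : Fin d ⊕ Fin d → F) w = if j = l then 1 else 0 := by
      intro l
      obtain ⟨a, ha⟩ := hgood.exists_vec ((b.coord l).comp (U.projectionOnto W hc))
      obtain ⟨a₁, ha₁, a₂, ha₂, rfl⟩ := Submodule.mem_sup.1 (hc.sup_eq_top.ge (Submodule.mem_top : a ∈ ⊤))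
      refine ⟨-a₂, W.neg_mem ha₂, fun j => ?_⟩
      have h1 := ha (b j)
      rw [LinearMap.comp_apply, Submodule.projectionOnto_apply_left, b.coord_apply, b.repr_self,
        Finsupp.single_apply, map_add, LinearMap.add_apply, hBs a₁, hU a₁ ha₁ _ (b j).2, zero_add,
        hgood.herm] at h1
      rw [map_neg, ← h1]
      simp
    choose w hw hbw using hdual
    let T : Module.End F (Fin d ⊕ Fin d → F) :=
      (∑ j, (LinearMap.proj (Sum.inr j : Fin d ⊕ Fin d)).smulRight (b j : Fin d ⊕ Fin d → F)) +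
        ∑ j, (LinearMap.proj (Sum.inl j : Fin d ⊕ Fin d)).smulRight (w j)
    have hT : ∀ v, T v = (∑ j, v (.inr j) • (b j : Fin d ⊕ Fin d → F)) + ∑ j, v (.inl j) • w j := fun v => by
      simp [T]
    have hwb : ∀ j l, B (w l) (b j : Fin d ⊕ Fin d → F) = -(if j = l then 1 else 0) := fun j l => by
      rw [hgood.herm (b j : Fin d ⊕ Fin d → F), hbw]; split_ifs <;> simp
    have hTp : ∀ u v, B (T u) (T v) = B u v := by
      intro u v
      rw [hT, hT, hBs u v, Cfsg.Agent.Lib.Forms.sympForm_apply]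
      simp only [map_add, map_sum, map_smul, LinearMap.add_apply, LinearMap.sum_apply, LinearMap.smul_apply,
        smul_eq_mul, hbw, hwb]
      have hbb : ∀ j l, B (b j : Fin d ⊕ Fin d → F) (b l) = 0 := fun j l => (hBs _ _).trans (hU _ (b j).2 _ (b l).2)
      have hww : ∀ j l, B (w j) (w l) = 0 := fun j l => (hBs _ _).trans (hW _ (hw j) _ (hw l))
      simp [hbb, hww, Finset.sum_ite_eq, Finset.sum_ite_eq', Finset.sum_sub_distrib, mul_comm]
      ring
    obtain ⟨e, he, hep⟩ := hgood.exists_equiv_of_preserves T hTp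
    refine ⟨Cfsg.Agent.Lib.Forms.spMk e (fun u v => by simpa only [hBs] using hep u v), Subtype.ext ?_⟩
    show (U₀.map (L _), W₀.map (L _)) = (U, W)
    rw [show L (Cfsg.Agent.Lib.Forms.spMk e (fun u v => by simpa only [hBs] using hep u v)) =
      (e : _ →ₗ[F] _) from LinearMap.ext fun v => by
        simp only [L, Matrix.toLin'_apply, Cfsg.Agent.Lib.Forms.spMk_mulVec]; rfl]
    have h1 : U₀.map (e : _ →ₗ[F] _) ≤ U := by
      rintro _ ⟨v, hv, rfl⟩
      rw [LinearEquiv.coe_coe, he, hT]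
      simp only [(hU₀ v).1 hv, zero_smul, Finset.sum_const_zero, add_zero]
      exact U.sum_mem fun j _ => U.smul_mem _ (b j).2
    have h2 : W₀.map (e : _ →ₗ[F] _) ≤ W := by
      rintro _ ⟨v, hv, rfl⟩
      rw [LinearEquiv.coe_coe, he, hT]
      simp only [(hW₀ v).1 hv, zero_smul, Finset.sum_const_zero, zero_add]
      exact W.sum_mem fun j _ => W.smul_mem _ (hw j)
    have h3 := Submodule.finrank_add_eq_of_isCompl hc
    have h4 := Submodule.finrank_add_eq_of_isCompl hP₀.1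
    have h5 := Submodule.finrank_mono h1
    have h6 := Submodule.finrank_mono h2
    rw [LinearEquiv.finrank_map_eq] at h5 h6
    refine Prod.ext ?_ ?_
    · show U₀.map (e : _ →ₗ[F] _) = U
      exact Submodule.eq_of_le_of_finrank_eq h1 (by rw [LinearEquiv.finrank_map_eq]; omega)
    · show W₀.map (e : _ →ₗ[F] _) = W
      exact Submodule.eq_of_le_of_finrank_eq h2 (by rw [LinearEquiv.finrank_map_eq]; omega)
  haveI : MulAction.IsPretransitive G X := ⟨fun P Q => by
    obtain ⟨g, hg⟩ := hmove P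
    obtain ⟨g', hg'⟩ := hmove Q
    exact ⟨g' * g⁻¹, by rw [mul_smul, ← hg, inv_smul_smul, hg']⟩⟩
  let φ : GL (Fin d) F → G := fun A =>
    ⟨Matrix.fromBlocks (A : Matrix (Fin d) (Fin d) F) 0 0 (((A⁻¹ : GL (Fin d) F) : Matrix (Fin d) (Fin d) F)).transpose, by
      rw [SymplecticGroup.mem_iff, Matrix.J, Matrix.fromBlocks_transpose, Matrix.fromBlocks_multiply,
        Matrix.fromBlocks_multiply]
      simp [← Matrix.transpose_mul]⟩
  let φh : GL (Fin d) F →* G := MonoidHom.mk' φ fun A A' => Subtype.ext (by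
    show Matrix.fromBlocks _ 0 0 _ = Matrix.fromBlocks _ 0 0 _ * Matrix.fromBlocks _ 0 0 _
    rw [Matrix.fromBlocks_multiply]
    simp [mul_inv_rev, Matrix.transpose_mul])
  have hφinj : Function.Injective φh := fun A A' e => Units.ext
    (Matrix.fromBlocks_inj.1 (congrArg Subtype.val e)).1
  have hle : φh.range ≤ MulAction.stabilizer G P₀ := by
    rintro _ ⟨A, rfl⟩
    have hmv : ∀ v : Fin d ⊕ Fin d → F, L (φh A) v =
        Sum.elim ((A : Matrix (Fin d) (Fin d) F).mulVec (v ∘ Sum.inl))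
          ((((A⁻¹ : GL (Fin d) F) : Matrix (Fin d) (Fin d) F)).transpose.mulVec (v ∘ Sum.inr)) := fun v => by
      show Matrix.toLin' (φ A).1 v = _
      rw [Matrix.toLin'_apply]
      show (Matrix.fromBlocks _ 0 0 _).mulVec v = _
      rw [Matrix.fromBlocks_mulVec]
      simp
    obtain ⟨e, he⟩ := hLe (φh A)
    refine MulAction.mem_stabilizer_iff.2 (Subtype.ext (Prod.ext ?_ ?_))
    · show U₀.map (L (φh A)) = U₀
      rw [← he]
      refine Submodule.eq_of_le_of_finrank_eq ?_ (LinearEquiv.finrank_map_eq e U₀)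
      rintro _ ⟨v, hv, rfl⟩
      refine (hU₀ _).2 fun j => ?_
      rw [he, hmv, Sum.elim_inl, show v ∘ Sum.inl = 0 from funext ((hU₀ v).1 hv), Matrix.mulVec_zero]
      rfl
    · show W₀.map (L (φh A)) = W₀
      rw [← he]
      refine Submodule.eq_of_le_of_finrank_eq ?_ (LinearEquiv.finrank_map_eq e W₀)
      rintro _ ⟨v, hv, rfl⟩
      refine (hW₀ _).2 fun j => ?_
      rw [he, hmv, Sum.elim_inr, show v ∘ Sum.inr = 0 from funext ((hW₀ v).1 hv), Matrix.mulVec_zero]
      rfl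
  have hcount : Nat.card X * Nat.card (GL (Fin d) F) ∣ Nat.card G := by
    rw [← Subgroup.card_mul_index (MulAction.stabilizer G P₀), MulAction.index_stabilizer_of_transitive, mul_comm]
    refine Nat.mul_dvd_mul_right ?_ _
    rw [← Nat.card_range_of_injective hφinj]
    exact Subgroup.card_dvd_of_le hle
  set q := Fintype.card F with hq
  have hq1 : 1 < q := Fintype.one_lt_card
  have hrq : ¬ r ∣ q := by
    obtain ⟨k, -, hk⟩ := FiniteField.card F p
    rw [hq, hk]
    exact fun h => hrp ((Nat.prime_dvd_prime_iff_eq hr Fact.out).1 (hr.dvd_of_dvd_pow h))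
  rw [Matrix.card_GL_field, Fin.prod_univ_eq_prod_range (fun k => Fintype.card F ^ d - Fintype.card F ^ k),
    Cfsg.Agent.Lib.Classical.natCard_symplecticGroup, Nat.card_eq_fintype_card (α := F), ← hq] at hcount
  have hGL : ∏ k ∈ Finset.range d, (q ^ d - q ^ k) =
      q ^ (∑ k ∈ Finset.range d, k) * ∏ k ∈ Finset.range d, (q ^ (k + 1) - 1) := by
    rw [← Finset.prod_pow_eq_pow_sum, ← Finset.prod_range_reflect (fun k => q ^ (k + 1) - 1),
      ← Finset.prod_mul_distrib]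
    refine Finset.prod_congr rfl fun k hk => ?_
    have := Finset.mem_range.1 hk
    rw [Nat.mul_sub, mul_one, ← pow_add, show k + (d - 1 - k + 1) = d by omega]
  have hsp : ∏ k ∈ Finset.range d, (q ^ (2 * (k + 1)) - 1) =
      (∏ k ∈ Finset.range d, (q ^ (k + 1) - 1)) * ∏ k ∈ Finset.range d, (q ^ (k + 1) + 1) := by
    rw [← Finset.prod_mul_distrib]
    refine Finset.prod_congr rfl fun k _ => ?_
    rw [mul_comm 2, pow_mul, mul_comm (q ^ (k + 1) - 1), ← Nat.sq_sub_sq, one_pow]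
  rw [hGL, hsp] at hcount
  set A := ∏ k ∈ Finset.range d, (q ^ (k + 1) - 1) with hA
  have hApos : 0 < A := Finset.prod_pos fun k _ => Nat.sub_pos_of_lt (Nat.one_lt_pow (by omega) hq1)
  have hdvd : r ∣ q ^ (d ^ 2) * ∏ k ∈ Finset.range d, (q ^ (k + 1) + 1) := by
    refine (hrN.trans (Dvd.intro (q ^ ∑ k ∈ Finset.range d, k) rfl)).trans (Nat.dvd_of_mul_dvd_mul_right hApos ?_)
    rw [mul_assoc]
    exact hcount.trans (dvd_of_eq (by ring))
  obtain ⟨k, hk, hrk⟩ := (hr.prime.dvd_finsetProd_iff _).1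
    ((hr.dvd_mul.1 hdvd).resolve_left fun h => hrq (hr.dvd_of_dvd_pow h))
  have hkd := Finset.mem_range.1 hk
  set i := orderOf ((q : ℕ) : ZMod r) with hi
  haveI : Fact (2 < r) := ⟨lt_of_le_of_ne hr.two_le (Ne.symm hr2)⟩
  have hqk : (q : ZMod r) ^ (k + 1) = -1 := by
    rw [← ZMod.natCast_eq_zero_iff, Nat.cast_add, Nat.cast_one, Nat.cast_pow] at hrk
    exact eq_neg_of_add_eq_zero_left hrk
  have hi2 : i ∣ 2 * (k + 1) := orderOf_dvd_of_pow_eq_one (by rw [mul_comm, pow_mul, hqk, neg_one_sq])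
  have hieven : Even i := by
    by_contra hodd
    rw [Nat.not_even_iff_odd] at hodd
    have h1 : i ∣ k + 1 := (Nat.Coprime.dvd_of_dvd_mul_left (Nat.coprime_two_right.2 hodd) hi2)
    rw [orderOf_dvd_iff_pow_eq_one, hqk] at h1
    exact ZMod.neg_one_ne_one h1
  have hrF : (r : F) ≠ 0 := by
    rw [Ne, CharP.cast_eq_zero_iff F p]
    exact fun h => hrp (((Nat.prime_dvd_prime_iff_eq Fact.out hr).1 h).symm)
  have hipos : 0 < i := Cfsg.Agent.Lib.Elusive.ordq_pos hr hrF
  have hile : i ≤ 2 * d := (Nat.le_of_dvd (by omega) hi2).trans (by omega)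
  obtain ⟨h, hh⟩ := hieven
  have hbs : Cfsg.Agent.Lib.Elusive.BlockSize (RingHom.id F) r i :=
    Or.inl ⟨hr2, ⟨_, Cfsg.Agent.Lib.Elusive.selfDualExp_id (p := p) hr ⟨h, hh⟩ hipos⟩, rfl⟩
  obtain ⟨y₀, hy₀, hy₀ne, hy₀p⟩ := Cfsg.Agent.Lib.Elusive.exists_symp_block (F := F) (h := h) hr
    (by rw [← hq, ← hi, hh, two_mul]) (by omega)
  have hPc : Module.finrank F (Fin h ⊕ Fin h → F) = i := by
    rw [Cfsg.Agent.Lib.Elusive.finrank_std]; omega
  obtain ⟨E⟩ := Cfsg.Agent.Lib.Elusive.exists_blockEmb_symp (F := F) (d := d) (N := 1) (h := h) (by omega)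
  obtain ⟨y, hy, hyp, hyR, hbound⟩ := Cfsg.Agent.Lib.Elusive.exists_isometry_min hgood
    Cfsg.Agent.Lib.Forms.sympBilin_goodForm hr hrF hbs hPc E hy₀ hy₀ne hy₀p rfl (Or.inl ((Nat.one_le_div_iff hipos).2
      (Nat.le_of_dvd (by have := hr.two_le; omega) (orderOf_dvd_of_pow_eq_one (ZMod.pow_card_sub_one_eq_one (fun h0 => by
        rw [h0, zero_pow (by omega)] at hqk
        exact neg_ne_zero.2 one_ne_zero hqk.symm))))))
  have hsum := Cfsg.Agent.Lib.Elusive.finrank_fix1_add (r := r) hy hrF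
  rw [hyR, one_mul, hdim] at hsum
  obtain ⟨e, he, hep⟩ := hgood.exists_equiv_of_preserves y hyp
  set x := Cfsg.Agent.Lib.Forms.spMk e (fun u v => by simpa only [hBs] using hep u v) with hx
  have hxy : Matrix.toLin' (x : Matrix (Fin d ⊕ Fin d) (Fin d ⊕ Fin d) F) = y :=
    LinearMap.ext fun v => by rw [Matrix.toLin'_apply, hx, Cfsg.Agent.Lib.Forms.spMk_mulVec, he]
  have hfix : ∀ W : Submodule F (Fin d ⊕ Fin d → F), (∀ u ∈ W, ∀ v ∈ W, Cfsg.sympForm d F u v = 0) →
      W.map y = W → W ≤ Cfsg.Agent.Lib.Elusive.fix1 y := by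
    intro W hW hm
    have hinv : Cfsg.Agent.Lib.Elusive.Inv y W := (Cfsg.Agent.Lib.Elusive.inv_iff_map_le _ _).2 hm.le
    obtain ⟨e', he'⟩ := Cfsg.Agent.Lib.Elusive.dvd_finrank_of_le_ker hr hrF hy
      (Cfsg.Agent.Lib.Elusive.inv_inf hinv Cfsg.Agent.Lib.Elusive.inv_ker_avg) inf_le_right
    have h1 := hbound W hinv (fun u hu v hv => (hBs u v).trans (hW u hu v hv)) e' (he'.trans (mul_comm _ _))
    have h0 : e' = 0 := by
      have h4 : 2 * e' ≤ 1 := h1.trans (Nat.sub_le _ _)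
      omega
    have hbot : W ⊓ LinearMap.ker (Cfsg.Agent.Lib.Elusive.avg y r) = ⊥ :=
      Submodule.finrank_eq_zero.1 (by rw [he', h0, mul_zero])
    have h2 := Cfsg.Agent.Lib.Elusive.inf_sup_inf_of_inv (r := r) hy hrF hinv
    rw [hbot, sup_bot_eq] at h2
    exact h2 ▸ inf_le_right
  refine ⟨x, ⟨1, ?_⟩, fun z hz => ?_, ?_⟩
  · apply Matrix.toLin'.injective
    rw [SubmonoidClass.coe_pow, Matrix.toLin'_pow, hxy, hy, one_smul, Matrix.toLin'_one]
    rfl
  · -- a scalar would fix every line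
    have hyz : ∀ v, y v = z • v := fun v => by
      rw [← hxy, hz, Matrix.toLin'_apply, Matrix.smul_mulVec, Matrix.one_mulVec]
    have hR : LinearMap.ker (Cfsg.Agent.Lib.Elusive.avg y r) ≠ ⊥ := fun h0 => by
      rw [h0, finrank_bot] at hyR; omega
    obtain ⟨v, hv, hv0⟩ := Submodule.exists_mem_ne_zero_of_ne_bot hR
    have hinv : Cfsg.Agent.Lib.Elusive.Inv y (Submodule.span F {v}) := fun u hu => by
      rw [hyz]; exact Submodule.smul_mem _ _ hu
    obtain ⟨e', he'⟩ := Cfsg.Agent.Lib.Elusive.dvd_finrank_of_le_ker hr hrF hy hinv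
      ((Submodule.span_singleton_le_iff_mem _ _).2 hv)
    rw [finrank_span_singleton hv0, ← hq, ← hi] at he'
    have := Nat.eq_one_of_mul_eq_one_right he'.symm
    omega
  · rintro ⟨U, W, hc, hU, hW, ⟨hUm, hWm⟩ | ⟨hUm, hWm⟩⟩
    · rw [hxy] at hUm hWm
      have h1 := hfix U hU hUm
      have h2 := hfix W hW hWm
      have h3 : Cfsg.Agent.Lib.Elusive.fix1 y = ⊤ := eq_top_iff.2 (hc.sup_eq_top ▸ sup_le h1 h2)
      rw [h3, finrank_top, hdim] at hsum
      omega
    · rw [hxy] at hUm hWm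
      have hiter : ∀ j, U.map (y ^ (2 * j)) = U := fun j => by
        induction j with
        | zero => exact Submodule.map_id U
        | succ j ih =>
          rw [Nat.mul_succ, pow_add, Module.End.mul_eq_comp, Submodule.map_comp, pow_two, Module.End.mul_eq_comp,
            Submodule.map_comp, hUm, hWm, ih]
      obtain ⟨j, hj⟩ := hr.odd_of_ne_two hr2
      have h1 : U.map (y ^ r) = W := by
        rw [hj, pow_succ', Module.End.mul_eq_comp, Submodule.map_comp, hiter, hUm]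
      rw [hy, Module.End.one_eq_id, Submodule.map_id] at h1
      have h3 := hc.inf_eq_bot
      have h4 := hc.sup_eq_top
      rw [h1, inf_idem] at h3
      rw [h1, sup_idem, h3] at h4
      have h5 := congrArg (fun W : Submodule F (Fin d ⊕ Fin d → F) => Module.finrank F ↥W) h4
      simp only [finrank_bot, finrank_top, hdim] at h5
      omega

end Cfsg.Agent.S5963
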