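import Cfsg.Statements.S5964
import Mathlib
import Cfsg.Agent.Lib.LinClasses.SquareRoot
import Cfsg.Agent.Lib.LinClasses.TwoPart
import Cfsg.Agent.Lib.LinGroup.Order
set_option autoImplicit false
open scoped MatrixGroups
open Cfsg

namespace Cfsg.Agent.S5964

open scoped Matrix
open Cfsg.Agent.Lib.LinClasses

variable {F : Type*} [Field F]

lemma mem_subfield_iff {n : ℕ} (F₀ : Subfield F) (g : GL (Fin n) F) :
    g ∈ Cfsg.Geo.subfieldSubgroup F₀ (1 : GL (Fin n) F) ↔
      ∃ (g₀ : GL (Fin n) F₀) (c : Fˣ), (g : Matrix (Fin n) (Fin n) F) =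
        (c : F) • (g₀ : Matrix (Fin n) (Fin n) F₀).map F₀.subtype := by
  unfold Cfsg.Geo.subfieldSubgroup
  rw [map_one, show (1 : MulAut (GL (Fin n) F)).toMonoidHom = MonoidHom.id _ from rfl, Subgroup.map_id,
    Subgroup.mem_sup_of_normal_right]
  constructor
  · rintro ⟨_, ⟨g₀, rfl⟩, s, hs, rfl⟩
    obtain ⟨c, hc⟩ := (Cfsg.Geo.mem_scalars_iff s).mp hs
    refine ⟨g₀, c, ?_⟩
    rw [Units.val_mul, hc, mul_smul_comm, mul_one]
    rfl
  · rintro ⟨g₀, c, hc⟩
    refine ⟨_, ⟨g₀, rfl⟩, _, ⟨c, rfl⟩, Units.ext ?_⟩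
    rw [Units.val_mul, hc]
    simp [← Matrix.smul_eq_mul_diagonal, ← Matrix.smul_one_eq_diagonal]

/-- scalar multiples of matrices over the subfield lie in the subfield group -/
lemma mem_of_eq {n : ℕ} (F₀ : Subfield F) (g : GL (Fin n) F) (c : F) (hc : c ≠ 0) (B : Matrix (Fin n) (Fin n) F)
    (hB : ∀ i j, B i j ∈ F₀) (hg : (g : Matrix (Fin n) (Fin n) F) = c • B) :
    g ∈ Cfsg.Geo.subfieldSubgroup F₀ (1 : GL (Fin n) F) := by
  let B₀ : Matrix (Fin n) (Fin n) F₀ := Matrix.of fun i j => ⟨B i j, hB i j⟩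
  have hBB : B₀.map F₀.subtype = B := rfl
  have hdet : B₀.det ≠ 0 := by
    intro h
    have h1 : B.det = 0 := by
      rw [← hBB]
      change (F₀.subtype.mapMatrix B₀).det = 0
      rw [← RingHom.map_det, h, map_zero]
    have h2 := g.isUnit
    rw [Matrix.isUnit_iff_isUnit_det, hg, Matrix.det_smul, h1, mul_zero] at h2
    exact not_isUnit_zero h2
  exact (mem_subfield_iff F₀ g).mpr ⟨B₀.nonsingInvUnit (Ne.isUnit hdet), Units.mk0 c hc, hg⟩

lemma geom_factor (a k : ℕ) (hk : Odd k) (ha : Odd a) :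
    ∃ o, Odd o ∧ a ^ k - 1 = (a - 1) * o := by
  refine ⟨∑ i ∈ Finset.range k, a ^ i, ?_, ?_⟩
  · rw [Finset.odd_sum_iff_odd_card_odd, Finset.filter_true_of_mem fun i _ => ha.pow, Finset.card_range]
    exact hk
  · have h := geom_sum_mul_add (a - 1) k
    rw [Nat.sub_add_cancel (by rcases ha with ⟨j, rfl⟩; omega)] at h
    rw [← h, Nat.add_sub_cancel, mul_comm]

/-- Involutions of PSL_n(q) and subfield subgroups. Here `T = PSL_n(F)` for a field `F` with `q = p^f` elements (`n ≥ 2`, `(n, q) ≠ (2, 2), (2, 3)`), `F₀` is the subfield with `q₀` elements where `q = q₀^k` for a prime `k`, and `H` is the subgroup of matrices of determinant 1 lying in the subfield group of `F₀` (invertible matrices over `F₀` times scalars) — a maximal subgroup of type GL_n(q₀) (the case `n = 2`, `q₀ = 2` is excluded); Ω is the set of `T`-conjugates of `H` (cosets of `H`), so an element of `T` of prime order `r` (a matrix `x` of determinant 1 with `x^r` scalar, `x` not scalar) fixes a point of Ω when some conjugate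 of `x` by a matrix of determinant 1 lies in `H`. Suppose the index of `H` is even. Then every involution of `T` is conjugate in `T` into `H` if and only if either `q` is even, or `k = 2` and `(n)_2 ≤ (q − 1)_2`. (For `q` odd and `k` odd the index of `H` is odd, so that case does not arise.) -/
theorem result {F : Type*} [Field F] [Fintype F] {p : ℕ} [Fact p.Prime] [CharP F p] {q : ℕ} (hq : Fintype.card F = q)
    (n : ℕ) (hn : 2 ≤ n) (hT : (n, q) ≠ (2, 2) ∧ (n, q) ≠ (2, 3))
    (F₀ : Subfield F) (k q₀ : ℕ) (hk : k.Prime) (hF₀ : Nat.card ↥F₀ = q₀) (hqk : q = q₀ ^ k) (hC5 : ¬ (n = 2 ∧ q₀ = 2)) (hΩ : 2 ∣ ((Cfsg.Geo.subfieldSubgroup F₀ 1).comap (Matrix.SpecialLinearGroup.toGL : Matrix.SpecialLinearGroup (Fin n) F →* GL (Fin n) F)).index) :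
    (∀ x : Matrix.SpecialLinearGroup (Fin n) F,
      (∃ z : F, ((x ^ 2 : Matrix.SpecialLinearGroup (Fin n) F) : Matrix (Fin n) (Fin n) F) = z • (1 : Matrix (Fin n) (Fin n) F)) →
      (∀ z : F, (x : Matrix (Fin n) (Fin n) F) ≠ z • (1 : Matrix (Fin n) (Fin n) F)) →
      ∃ P : Matrix.SpecialLinearGroup (Fin n) F, P⁻¹ * x * P ∈ ((Cfsg.Geo.subfieldSubgroup F₀ 1).comap (Matrix.SpecialLinearGroup.toGL : Matrix.SpecialLinearGroup (Fin n) F →* GL (Fin n) F))) ↔
    (Odd q → (k = 2 ∧ padicValNat 2 n ≤ padicValNat 2 (q - 1))) := by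
  classical
  haveI : Fintype F₀ := Fintype.ofFinite _
  have hsq : ∀ x : Matrix.SpecialLinearGroup (Fin n) F,
      ((x ^ 2 : Matrix.SpecialLinearGroup (Fin n) F) : Matrix (Fin n) (Fin n) F) =
        (x : Matrix (Fin n) (Fin n) F) * (x : Matrix (Fin n) (Fin n) F) := fun x => by
    rw [Matrix.SpecialLinearGroup.coe_pow, pow_two]
  have hqodd : (2 : F) ≠ 0 ↔ Odd q := by
    rw [← hq]
    constructor
    · intro h
      rw [Nat.odd_iff]
      exact FiniteField.odd_card_of_char_ne_two fun hc => h (by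
        have := ringChar.Nat.cast_ringChar (R := F)
        rw [hc] at this; exact_mod_cast this)
    · intro h h2
      haveI : CharP F 2 := (CharP.charP_iff_prime_eq_zero Nat.prime_two).mpr (by exact_mod_cast h2)
      obtain ⟨k, -, hk⟩ := FiniteField.card F 2
      rw [hk] at h
      exact absurd h (Nat.not_odd_iff_even.mpr (even_iff_two_dvd.mpr (dvd_pow_self _ k.ne_zero)))
  -- odd degree extensions of odd order give odd index
  have hk2 : Odd q → k = 2 := by
    intro hqo
    by_contra hk2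
    have hko : Odd k := hk.odd_of_ne_two hk2
    have hq0o : Odd q₀ := (Nat.odd_pow_iff hk.ne_zero).mp (hqk ▸ hqo)
    have hq02 : 2 ≤ q₀ := by rw [← hF₀, Nat.card_eq_fintype_card]; exact Fintype.one_lt_card
    let ψ : Matrix.SpecialLinearGroup (Fin n) F₀ →* Matrix.SpecialLinearGroup (Fin n) F :=
      Matrix.SpecialLinearGroup.map F₀.subtype
    have hψ : Function.Injective ψ := fun a b h => Subtype.ext (Matrix.map_injective F₀.subtype_injective
      (congrArg Subtype.val h))
    have hle : ψ.range ≤ (Cfsg.Geo.subfieldSubgroup F₀ 1).comap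
        (Matrix.SpecialLinearGroup.toGL : Matrix.SpecialLinearGroup (Fin n) F →* GL (Fin n) F) := by
      rintro _ ⟨g, rfl⟩
      refine mem_of_eq F₀ _ 1 one_ne_zero ((g : Matrix (Fin n) (Fin n) F₀).map F₀.subtype)
        (fun i j => (g.1 i j).2) ?_
      rw [one_smul]
      rfl
    have hdvd : 2 ∣ ψ.range.index := hΩ.trans (Subgroup.index_dvd_of_le hle)
    have hI : ψ.range.index * Nat.card (Matrix.SpecialLinearGroup (Fin n) F₀) =
        Nat.card (Matrix.SpecialLinearGroup (Fin n) F) := by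
      rw [← Subgroup.card_mul_index ψ.range, mul_comm, Nat.card_congr (MonoidHom.ofInjective hψ).toEquiv]
    have h1 := Cfsg.Agent.Lib.LinGroup.card_SL_mul (F := F) n (by omega)
    have h0 := Cfsg.Agent.Lib.LinGroup.card_SL_mul (F := F₀) n (by omega)
    rw [hq, hqk] at h1
    rw [← Nat.card_eq_fintype_card (α := F₀), hF₀] at h0
    have hfac : ∀ i : Fin n, ∃ o, Odd o ∧ (q₀ ^ k) ^ n - (q₀ ^ k) ^ (i : ℕ) = (q₀ ^ n - q₀ ^ (i : ℕ)) * o := by
      intro i
      have hi := i.2
      obtain ⟨o, ho, hfac⟩ := geom_factor (q₀ ^ (n - (i : ℕ))) k hko hq0o.pow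
      obtain ⟨k', hk'⟩ : ∃ k', k = k' + 1 := ⟨k - 1, by have := hk.pos; omega⟩
      refine ⟨(q₀ ^ (i : ℕ)) ^ k' * o, (hq0o.pow.pow).mul ho, ?_⟩
      have e1 : q₀ ^ n = q₀ ^ (i : ℕ) * q₀ ^ (n - (i : ℕ)) := by rw [← pow_add]; congr 1; omega
      have e2 : (q₀ ^ k) ^ n = (q₀ ^ (i : ℕ)) ^ k * (q₀ ^ (n - (i : ℕ))) ^ k := by
        rw [← mul_pow, ← e1, pow_right_comm]
      rw [e2, pow_right_comm q₀ k, e1]
      calc (q₀ ^ (i : ℕ)) ^ k * (q₀ ^ (n - (i : ℕ))) ^ k - (q₀ ^ (i : ℕ)) ^ k
          = (q₀ ^ (i : ℕ)) ^ k * ((q₀ ^ (n - (i : ℕ))) ^ k - 1) := by rw [Nat.mul_sub, mul_one]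
        _ = (q₀ ^ (i : ℕ) * (q₀ ^ (n - (i : ℕ)) - 1)) * ((q₀ ^ (i : ℕ)) ^ k' * o) := by
          rw [hfac, hk', pow_succ]; ring
        _ = _ := by rw [Nat.mul_sub, mul_one]
    choose o ho hof using hfac
    rw [Finset.prod_congr rfl (fun i _ => hof i), Finset.prod_mul_distrib, ← h0, ← hI] at h1
    obtain ⟨o₁, ho₁, hfac₁⟩ := geom_factor q₀ k hko hq0o
    rw [hfac₁] at h1
    have hpos : 0 < (q₀ - 1) * Nat.card (Matrix.SpecialLinearGroup (Fin n) F₀) :=
      Nat.mul_pos (by omega) Nat.card_pos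
    have h3 : o₁ * ψ.range.index = ∏ i, o i := Nat.eq_of_mul_eq_mul_left hpos (by
      calc (q₀ - 1) * Nat.card (Matrix.SpecialLinearGroup (Fin n) F₀) * (o₁ * ψ.range.index)
          = (q₀ - 1) * o₁ * (ψ.range.index * Nat.card (Matrix.SpecialLinearGroup (Fin n) F₀)) := by ring
        _ = _ := h1)
    have h4 : Odd (∏ i, o i) := Finset.prod_induction o Odd (fun a b => Odd.mul) odd_one (fun i _ => ho i)
    rw [← h3] at h4
    exact absurd (Nat.Odd.of_mul_right h4) (Nat.not_odd_iff_even.mpr (even_iff_two_dvd.mpr hdvd))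
  have hqsq : k = 2 → ∀ a : F, a ∈ F₀ → a ≠ 0 → Odd q → IsSquare a := by
    intro hk2 a ha ha0 hqo
    have h1 : a ^ (q₀ - 1) = 1 := by
      have h := FiniteField.pow_card_sub_one_eq_one (K := F₀) ⟨a, ha⟩ (fun h => ha0 (congrArg Subtype.val h))
      rw [← Nat.card_eq_fintype_card, hF₀] at h
      exact congrArg Subtype.val h
    have hq0o : Odd q₀ := (Nat.odd_pow_iff hk.ne_zero).mp (hqk ▸ hqo)
    have h2 : ringChar F ≠ 2 := fun h => by
      have := hqodd.mpr hqo
      apply this
      have h' := ringChar.Nat.cast_ringChar (R := F)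
      rw [h] at h'; exact_mod_cast h'
    rw [FiniteField.isSquare_iff h2 ha0, hq]
    obtain ⟨j, hj⟩ := hq0o
    have : q / 2 = (q₀ - 1) * (j + 1) := by
      rw [hqk, hk2, hj, show (2 * j + 1) ^ 2 = 2 * (2 * j * (j + 1)) + 1 by ring,
        show 2 * j + 1 - 1 = 2 * j by omega]
      omega
    rw [this, pow_mul, h1, one_pow]
  constructor
  · intro hall hqo
    have hk2' := hk2 hqo
    refine ⟨hk2', ?_⟩
    by_contra hlt
    push Not at hlt
    have h2 : (2 : F) ≠ 0 := hqodd.mpr hqo
    have hq1 : q - 1 ≠ 0 := by have := Fintype.one_lt_card (α := F); omega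
    have hn2 : 2 ^ (padicValNat 2 (q - 1) + 1) ∣ n := (padicValNat_dvd_iff_le (by omega)).mpr hlt
    obtain ⟨m, hm⟩ : 2 ^ padicValNat 2 (q - 1) ∣ q - 1 := pow_padicValNat_dvd
    have hmodd : Odd m := by
      rcases Nat.even_or_odd m with ⟨j, hj⟩ | h
      · exfalso
        apply pow_succ_padicValNat_not_dvd (p := 2) hq1
        exact ⟨j, by rw [pow_succ]; nth_rewrite 1 [hm]; rw [hj]; ring⟩
      · exact h
    obtain ⟨g, hg⟩ := IsCyclic.exists_ofOrder_eq_natCard (α := Fˣ)
    rw [Nat.card_eq_fintype_card, Fintype.card_units, hq] at hg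
    obtain ⟨b, hb⟩ : 2 ∣ n := (dvd_pow_self 2 (Nat.succ_ne_zero _)).trans hn2
    set y : Fˣ := g ^ m with hy
    have hyb : (y : F) ^ b = 1 := by
      obtain ⟨e, he⟩ := hn2
      have hbe : b = 2 ^ padicValNat 2 (q - 1) * e := by
        rw [pow_succ] at he
        nlinarith
      rw [hy, ← Units.val_pow_eq_pow_val, ← pow_mul, hbe, ← mul_assoc, mul_comm m, ← hm, pow_mul, ← hg,
        pow_orderOf_eq_one, one_pow, Units.val_one]
    have hysq : ¬ IsSquare (y : F) := by
      rintro ⟨e, he⟩
      have he0 : e ≠ 0 := fun h => y.ne_zero (by rw [he, h, zero_mul])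
      have h' : g ^ m = Units.mk0 e he0 ^ 2 := Units.ext (by rw [← hy, he]; simp [pow_two])
      have hev : 2 ∣ q - 1 := by
        have := Nat.odd_iff.mp hqo; omega
      obtain ⟨c, hc⟩ := hev
      have h'' : g ^ (m * c) = 1 := by
        rw [pow_mul, h', ← pow_mul, ← hc, ← hq, ← Fintype.card_units, pow_card_eq_one]
      have h3 := orderOf_dvd_of_pow_eq_one h''
      rw [hg, hc] at h3
      have hc0 : 0 < c := by omega
      exact absurd ((Nat.mul_dvd_mul_iff_right hc0).mp h3) (by obtain ⟨j, hj⟩ := hmodd; omega)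
    set z : F := -(y : F) with hz
    have hneg1 : IsSquare (-1 : F) := hqsq hk2' (-1) (F₀.neg_mem F₀.one_mem) (neg_ne_zero.mpr one_ne_zero) hqo
    have hzsq : ¬ IsSquare z := by
      intro h
      apply hysq
      have := hneg1.mul h
      rwa [hz, neg_mul_neg, one_mul] at this
    let e : Fin 2 × Fin b ≃ Fin n := finProdFinEquiv.trans (finCongr (by omega))
    let X := Matrix.reindex e e (rotBlock z b)
    have hXm : IsModel X (rotBlock z b) := isModel_reindex _ e
    have hdet : X.det = 1 := by rw [hXm.det_eq, det_rotBlock, hz, neg_neg, hyb]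
    have hXX : X * X = z • 1 := by
      simp only [X, Matrix.reindex_apply, Matrix.submatrix_mul_equiv, rotBlock_mul_self, Matrix.submatrix_smul,
        Pi.smul_apply, Matrix.submatrix_one_equiv]
    let x : Matrix.SpecialLinearGroup (Fin n) F := ⟨X, hdet⟩
    obtain ⟨P, hP⟩ := hall x ⟨z, (hsq x).trans hXX⟩ (fun c hc => hzsq ⟨c, by
      have h' : X * X = z • 1 := hXX
      change X = c • 1 at hc
      rw [hc, smul_mul_smul_comm, one_mul] at h'
      have := congrFun (congrFun h' ⟨0, by omega⟩) ⟨0, by omega⟩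
      simpa using this.symm⟩)
    obtain ⟨g₀, c, hc⟩ := (mem_subfield_iff F₀ _).mp hP
    have hsq' : ((P⁻¹ * x * P : Matrix.SpecialLinearGroup (Fin n) F) : Matrix (Fin n) (Fin n) F) *
        ((P⁻¹ * x * P : Matrix.SpecialLinearGroup (Fin n) F) : Matrix (Fin n) (Fin n) F) = z • 1 := by
      rw [← Matrix.SpecialLinearGroup.coe_mul, show P⁻¹ * x * P * (P⁻¹ * x * P) = P⁻¹ * (x * x) * P by group,
        Matrix.SpecialLinearGroup.coe_mul, Matrix.SpecialLinearGroup.coe_mul, Matrix.SpecialLinearGroup.coe_mul x x]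
      change _ * (X * X) * _ = _
      rw [hXX, mul_smul_comm, mul_one, smul_mul_assoc, ← Matrix.SpecialLinearGroup.coe_mul, inv_mul_cancel,
        Matrix.SpecialLinearGroup.coe_one]
    rw [show ((P⁻¹ * x * P : Matrix.SpecialLinearGroup (Fin n) F) : Matrix (Fin n) (Fin n) F) =
      (c : F) • (g₀ : Matrix (Fin n) (Fin n) F₀).map F₀.subtype from hc, smul_mul_smul_comm, ← Matrix.map_mul] at hsq'
    let i₀ : Fin n := ⟨0, by omega⟩
    have h00 := congrFun (congrFun hsq' i₀) i₀
    simp only [Matrix.smul_apply, Matrix.map_apply, smul_eq_mul, Matrix.one_apply_eq, mul_one] at h00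
    set e00 := ((g₀ : Matrix (Fin n) (Fin n) F₀) * g₀) i₀ i₀
    have he0 : (e00 : F) ≠ 0 := by
      intro h
      apply hzsq
      have : z = 0 := by rw [← h00]; simp [h]
      rw [this]
      exact IsSquare.zero
    obtain ⟨r, hr⟩ := hqsq hk2' (e00 : F) e00.2 he0 hqo
    exact hzsq ⟨(c : F) * r, by rw [← h00, Subfield.subtype_apply, hr]; ring⟩
  · intro hrhs x hzx hns
    obtain ⟨z, hz⟩ := hzx
    rw [hsq] at hz
    set X := (x : Matrix (Fin n) (Fin n) F) with hX
    have hz0 : z ≠ 0 := by
      rintro rfl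
      have := congrArg Matrix.det hz
      rw [Matrix.det_mul, hX, x.2, zero_smul, @Matrix.det_zero (Fin n) _ _ F _ ⟨⟨0, by omega⟩⟩, mul_one] at this
      exact one_ne_zero this
    have into : ∀ {κ : Type} [Fintype κ] [DecidableEq κ] (M : Matrix κ κ F), IsModel X M → HasDetCentralizer M →
        ∀ (B : Matrix (Fin n) (Fin n) F) (s : F), s ≠ 0 → IsModel (s • B) M → (∀ i j, B i j ∈ F₀) →
        ∃ P : Matrix.SpecialLinearGroup (Fin n) F, P⁻¹ * x * P ∈ ((Cfsg.Geo.subfieldSubgroup F₀ 1).comap
          (Matrix.SpecialLinearGroup.toGL : Matrix.SpecialLinearGroup (Fin n) F →* GL (Fin n) F)) := by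
      intro κ _ _ M hxM hM B s hs hBM hB
      let ys : Matrix.SpecialLinearGroup (Fin n) F := ⟨s • B, by rw [hBM.det_eq, ← hxM.det_eq]; exact x.2⟩
      obtain ⟨P, hP⟩ := exists_SL_conj (y := ys) hxM hBM hM
      refine ⟨P, ?_⟩
      rw [hP]
      exact mem_of_eq F₀ _ s hs B hB rfl
    by_cases h2 : (2 : F) = 0
    · haveI : CharP F 2 := (CharP.charP_iff_prime_eq_zero Nat.prime_two).mpr (by exact_mod_cast h2)
      obtain ⟨s, hs⟩ := FiniteField.isSquare_of_char_two (ringChar.eq F 2) z
      rw [hs] at hz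
      have hs0 : s ≠ 0 := fun h => hz0 (by rw [hs, h, zero_mul])
      obtain ⟨r, l, hrl, hmod⟩ := exists_isModel_charTwo hz
      rw [Fintype.card_fin] at hrl
      have hr0 : r ≠ 0 := by
        rintro rfl
        obtain ⟨Ψ, hΨ⟩ := hmod
        apply hns s
        refine Matrix.toLin'.injective (LinearMap.ext fun v => ?_)
        obtain ⟨w, rfl⟩ := Ψ.surjective v
        rw [Matrix.toLin'_apply, Matrix.toLin'_apply, hΨ, Matrix.smul_mulVec, Matrix.one_mulVec,
          Matrix.add_mulVec, Matrix.smul_mulVec, Matrix.one_mulVec]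
        have h0 : (Cfsg.Agent.Lib.SquareZero.model F 0 l) = 0 := by
          ext i j
          rcases i with i | i | i <;> first | exact i.elim0 | (rcases j with j | j | j <;> first | exact j.elim0 | rfl)
        rw [h0, Matrix.zero_mulVec, zero_add, map_smul]
      let e : Cfsg.Agent.Lib.SquareZero.SqIdx r l ≃ Fin n :=
        Fintype.equivFinOfCardEq (by simp only [Fintype.card_sum, Fintype.card_fin]; exact hrl)
      let B := Matrix.reindex e e (Cfsg.Agent.Lib.SquareZero.model F r l + 1)
      have hsB : IsModel (s • B) (s • (Cfsg.Agent.Lib.SquareZero.model F r l + 1)) := (isModel_reindex _ e).smul s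
      have hrel : IsModel (s • (Cfsg.Agent.Lib.SquareZero.model F r l + 1))
          (Cfsg.Agent.Lib.SquareZero.model F r l + s • 1) := by
        let d : Cfsg.Agent.Lib.SquareZero.SqIdx r l → F := fun t => match t with
          | .inl _ => s⁻¹
          | _ => 1
        have hd : ∀ t, d t ≠ 0 := fun t => by rcases t with t | t | t <;> simp [d, hs0]
        let Φ : (Cfsg.Agent.Lib.SquareZero.SqIdx r l → F) ≃ₗ[F] (Cfsg.Agent.Lib.SquareZero.SqIdx r l → F) :=
          { toFun := fun v t => d t * v t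
            map_add' := fun u v => funext fun t => by simp [mul_add]
            map_smul' := fun c v => funext fun t => by simp [mul_left_comm]
            invFun := fun v t => (d t)⁻¹ * v t
            left_inv := fun v => funext fun t => by simp [← mul_assoc, hd t]
            right_inv := fun v => funext fun t => by simp [← mul_assoc, hd t] }
        refine ⟨Φ, fun v => ?_⟩
        funext t
        simp only [Matrix.smul_mulVec, Matrix.add_mulVec, Matrix.one_mulVec, Φ, LinearEquiv.coe_mk, LinearMap.coe_mk,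
          AddHom.coe_mk, Pi.add_apply, Pi.smul_apply, smul_eq_mul]
        rcases t with i | i | i
        · simp [d, Matrix.mulVec, dotProduct, Cfsg.Agent.Lib.SquareZero.model]
          field_simp
        · simp [d, Matrix.mulVec, dotProduct, Cfsg.Agent.Lib.SquareZero.model]
        · simp [d, Matrix.mulVec, dotProduct, Cfsg.Agent.Lib.SquareZero.model, Fintype.sum_sum_type]
          field_simp
      refine into _ hmod (hasDetCentralizer_charTwo hr0 s) B s hs0 (hsB.trans hrel) fun i j => ?_
      simp only [B, Matrix.reindex_apply, Matrix.submatrix_apply, Matrix.add_apply, Matrix.one_apply]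
      refine F₀.add_mem ?_ ?_
      · rcases e.symm i with a | a | a <;> rcases e.symm j with b | b | b <;>
          simp [Cfsg.Agent.Lib.SquareZero.model, F₀.zero_mem]
        split_ifs <;> simp [F₀.zero_mem, F₀.one_mem]
      · split_ifs <;> simp [F₀.zero_mem, F₀.one_mem]
    · obtain ⟨hk2', hle⟩ := hrhs (hqodd.mp h2)
      by_cases hsqz : IsSquare z
      · obtain ⟨s, hs⟩ := hsqz
        rw [hs] at hz
        have hs0 : s ≠ 0 := fun h => hz0 (by rw [hs, h, zero_mul])
        have hss : s + s ≠ 0 := by rw [← two_mul]; exact mul_ne_zero h2 hs0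
        obtain ⟨a, c, hac, hmod⟩ := exists_isModel_split hss hz
        rw [Fintype.card_fin] at hac
        haveI : Nonempty (Fin a ⊕ Fin c) := Fintype.card_pos_iff.mp (by simp; omega)
        let e : Fin a ⊕ Fin c ≃ Fin n := finSumFinEquiv.trans (finCongr hac)
        refine into _ hmod (hasDetCentralizer_diagonal _)
          (Matrix.reindex e e (Matrix.diagonal (Sum.elim (fun _ => 1) (fun _ => -1)))) s hs0 ?_ fun i j => ?_
        · have h := (isModel_reindex (Matrix.diagonal (Sum.elim (fun _ : Fin a => (1 : F)) (fun _ : Fin c => -1))) e).smul s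
          rw [← Matrix.diagonal_smul] at h
          exact h.diagonal_congr (Equiv.refl _) (fun i => by cases i <;> simp)
        · simp only [Matrix.reindex_apply, Matrix.submatrix_apply, Matrix.diagonal_apply]
          split_ifs
          · rcases e.symm i with _ | _ <;> simp [F₀.one_mem]
          · exact F₀.zero_mem
      · exfalso
        obtain ⟨b, hb, hmod⟩ := exists_isModel_rot hsqz hz
        rw [Fintype.card_fin] at hb
        have hdet := hmod.det_eq
        rw [hX, x.2, det_rotBlock] at hdet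
        have hz' : -z ≠ 0 := neg_ne_zero.mpr hz0
        have hchar : ringChar F ≠ 2 := fun h => h2 (by
          have h' := ringChar.Nat.cast_ringChar (R := F)
          rw [h] at h'; exact_mod_cast h')
        have hnsq : ¬ IsSquare (-z) := fun h => hsqz (by
          have := (hqsq hk2' (-1) (F₀.neg_mem F₀.one_mem) (neg_ne_zero.mpr one_ne_zero) (hqodd.mp h2)).mul h
          rwa [neg_mul_neg, one_mul] at this)
        rw [FiniteField.isSquare_iff hchar hz', hq] at hnsq
        set u : Fˣ := Units.mk0 (-z) hz'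
        have h1 : u ^ b = 1 := Units.ext (by simp [u, ← hdet])
        have h1' : orderOf u ∣ b := orderOf_dvd_of_pow_eq_one h1
        have h3 : orderOf u ∣ q - 1 := by
          rw [← hq, ← Fintype.card_units]; exact orderOf_dvd_card
        have h4 : ¬ orderOf u ∣ q / 2 := fun h => hnsq (by
          have := orderOf_dvd_iff_pow_eq_one.mp h
          simpa [u] using congrArg Units.val this)
        have hu0 : orderOf u ≠ 0 := (orderOf_pos u).ne'
        have hq1 : q - 1 ≠ 0 := by have := Fintype.one_lt_card (α := F); omega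
        have hv : padicValNat 2 (q - 1) ≤ padicValNat 2 (orderOf u) := by
          by_contra hlt
          push Not at hlt
          apply h4
          obtain ⟨e, he⟩ := h3
          have he2 : 2 ∣ e := by
            have he0 : e ≠ 0 := fun h => hq1 (by rw [he, h, mul_zero])
            rw [he, padicValNat.mul hu0 he0] at hlt
            exact dvd_of_one_le_padicValNat (by omega)
          obtain ⟨e', rfl⟩ := he2
          refine ⟨e', ?_⟩
          rw [mul_left_comm] at he
          have := Nat.odd_iff.mp (hqodd.mp h2)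
          omega
        have hb0 : b ≠ 0 := by omega
        have hb2 : padicValNat 2 n = padicValNat 2 b + 1 := by
          rw [← hb, ← two_mul, padicValNat.mul two_ne_zero hb0, padicValNat.self one_lt_two, add_comm]
        have hub : padicValNat 2 (orderOf u) ≤ padicValNat 2 b :=
          (padicValNat_dvd_iff_le hb0).mp (pow_padicValNat_dvd.trans h1')
        omega

end Cfsg.Agent.S5964
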