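import Cfsg.Statements.S5965
import Mathlib
import Mathlib
import Cfsg.Agent.Lib.SubfieldElem.Basic
import Cfsg.Agent.Lib.LinGroup.Order

set_option autoImplicit false
open scoped MatrixGroups
open Cfsg

namespace Cfsg.Agent.S5965

open Cfsg.Agent.Lib.SubfieldElem Matrix Polynomial
open scoped Matrix

section
variable {F : Type*} [Field F]

local notation "ι" => algebraMap F (AlgebraicClosure F)
local notation "K" => AlgebraicClosure F

lemma mem_subfield_iff {n : ℕ} (F₀ : Subfield F) (g : GL (Fin n) F) :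
    g ∈ Cfsg.Geo.subfieldSubgroup F₀ (1 : GL (Fin n) F) ↔
      ∃ (g₀ : GL (Fin n) F₀) (c : Fˣ), (g : Matrix (Fin n) (Fin n) F) =
        (c : F) • (g₀ : Matrix (Fin n) (Fin n) F₀).map F₀.subtype := by
  unfold Cfsg.Geo.subfieldSubgroup
  rw [map_one, show (1 : MulAut (GL (Fin n) F)).toMonoidHom = MonoidHom.id _ from rfl, Subgroup.map_id,
    Subgroup.mem_sup_of_normal_right]
  constructor
  · rintro ⟨_, ⟨g₀, rfl⟩, s, hs, rfl⟩
    obtain ⟨c, hc⟩ := (Cfsg.Geo.mem_scalars_iff s).mp hs
    refine ⟨g₀, c, ?_⟩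
    rw [Units.val_mul, hc, mul_smul_comm, mul_one]
    rfl
  · rintro ⟨g₀, c, hc⟩
    refine ⟨_, ⟨g₀, rfl⟩, _, ⟨c, rfl⟩, Units.ext ?_⟩
    rw [Units.val_mul, hc]
    simp [← Matrix.smul_eq_mul_diagonal, ← Matrix.smul_one_eq_diagonal]

/-- scalar multiples of matrices over the subfield lie in the subfield group -/
lemma mem_of_eq {n : ℕ} (F₀ : Subfield F) (g : GL (Fin n) F) (c : F) (hc : c ≠ 0) (B : Matrix (Fin n) (Fin n) F)
    (hB : ∀ i j, B i j ∈ F₀) (hg : (g : Matrix (Fin n) (Fin n) F) = c • B) :
    g ∈ Cfsg.Geo.subfieldSubgroup F₀ (1 : GL (Fin n) F) := by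
  let B₀ : Matrix (Fin n) (Fin n) F₀ := Matrix.of fun i j => ⟨B i j, hB i j⟩
  have hBB : B₀.map F₀.subtype = B := rfl
  have hdet : B₀.det ≠ 0 := by
    intro h
    have h1 : B.det = 0 := by
      rw [← hBB]
      change (F₀.subtype.mapMatrix B₀).det = 0
      rw [← RingHom.map_det, h, map_zero]
    have h2 := g.isUnit
    rw [Matrix.isUnit_iff_isUnit_det, hg, Matrix.det_smul, h1, mul_zero] at h2
    exact not_isUnit_zero h2
  exact (mem_subfield_iff F₀ g).mpr ⟨B₀.nonsingInvUnit (Ne.isUnit hdet), Units.mk0 c hc, hg⟩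

lemma card_GL_eq {L : Type*} [Field L] [Fintype L] (m : ℕ) :
    Nat.card (GL (Fin (m + 1)) L) = (∏ j ∈ Finset.range (m + 1), Fintype.card L ^ j) *
      ((∏ j ∈ Finset.range m, (Fintype.card L ^ (j + 2) - 1)) * (Fintype.card L - 1)) := by
  rw [Matrix.card_GL_field, Fin.prod_univ_eq_prod_range (fun j => Fintype.card L ^ (m + 1) - Fintype.card L ^ j)]
  rw [show (∏ j ∈ Finset.range m, (Fintype.card L ^ (j + 2) - 1)) * (Fintype.card L - 1) =
      ∏ j ∈ Finset.range (m + 1), (Fintype.card L ^ (j + 1) - 1) by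
    rw [Finset.prod_range_succ', zero_add, pow_one],
    ← Finset.prod_range_reflect (fun j => Fintype.card L ^ (j + 1) - 1) (m + 1), ← Finset.prod_mul_distrib]
  refine Finset.prod_congr rfl fun j hj => ?_
  rw [Finset.mem_range] at hj
  rw [Nat.mul_sub, mul_one, ← pow_add, show j + (m + 1 - 1 - j + 1) = m + 1 by omega]

/-- Where `r` enters the index of the subfield group. -/
lemma exists_exponent [Fintype F] {n : ℕ} (hn : 2 ≤ n) (F₀ : Subfield F) (k q₀ r : ℕ) (hk : k.Prime)
    (hr : r.Prime) (hrk : r ≠ k) (hrq : ¬ r ∣ q₀) (hF₀ : Nat.card ↥F₀ = q₀) (hq : Fintype.card F = q₀ ^ k)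
    (hΩ : r ∣ ((Cfsg.Geo.subfieldSubgroup F₀ 1).comap
      (Matrix.SpecialLinearGroup.toGL : Matrix.SpecialLinearGroup (Fin n) F →* GL (Fin n) F)).index) :
    ∃ i, 2 ≤ i ∧ i ≤ n ∧ ((q₀ : ZMod r) ^ k) ^ i = 1 ∧ (q₀ : ZMod r) ^ i ≠ 1 := by
  classical
  haveI := Fact.mk hr
  haveI : Fintype F₀ := Fintype.ofFinite _
  obtain ⟨m, rfl⟩ : ∃ m, n = m + 1 := ⟨n - 1, by omega⟩
  by_contra hno
  push Not at hno
  have hq₀2 : 2 ≤ q₀ := by
    rw [← hF₀, Nat.card_eq_fintype_card]; exact Fintype.one_lt_card
  set H := (Cfsg.Geo.subfieldSubgroup F₀ 1).comap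
    (Matrix.SpecialLinearGroup.toGL : Matrix.SpecialLinearGroup (Fin (m + 1)) F →* GL (Fin (m + 1)) F) with hH
  let φ : Matrix.SpecialLinearGroup (Fin (m + 1)) F₀ →* Matrix.SpecialLinearGroup (Fin (m + 1)) F :=
    Matrix.SpecialLinearGroup.map F₀.subtype
  have hφ : φ.range ≤ H := by
    rintro _ ⟨g, rfl⟩
    rw [hH, Subgroup.mem_comap, mem_subfield_iff]
    exact ⟨Matrix.SpecialLinearGroup.toGL g, 1, by rw [Units.val_one, one_smul]; rfl⟩
  have hφi : Function.Injective φ := fun a b h => Matrix.SpecialLinearGroup.ext a b fun i j => Subtype.ext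
    (congrArg (fun M : Matrix.SpecialLinearGroup (Fin (m + 1)) F => (M : Matrix (Fin (m + 1)) (Fin (m + 1)) F) i j) h)
  obtain ⟨h', hh'⟩ : Nat.card (Matrix.SpecialLinearGroup (Fin (m + 1)) F₀) ∣ Nat.card H := by
    rw [Nat.card_congr (MonoidHom.ofInjective hφi).toEquiv]
    exact Subgroup.card_dvd_of_le hφ
  have eF := @Cfsg.Agent.Lib.LinGroup.units_card_mul_card_SL (Fin (m + 1)) _ _ F _ _
  have e0 := @Cfsg.Agent.Lib.LinGroup.units_card_mul_card_SL (Fin (m + 1)) _ _ F₀ _ _
  rw [card_GL_eq, Nat.card_units, Nat.card_eq_fintype_card (α := F)] at eF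
  rw [card_GL_eq, Nat.card_units, Nat.card_eq_fintype_card (α := F₀)] at e0
  have hc0 : Fintype.card F₀ = q₀ := by rw [← Nat.card_eq_fintype_card, hF₀]
  rw [hc0] at e0
  rw [hq] at eF
  have hq1 : 0 < q₀ ^ k - 1 := by
    have : 2 ≤ q₀ ^ k := hq₀2.trans (Nat.le_self_pow hk.ne_zero _)
    omega
  have eF' : Nat.card (Matrix.SpecialLinearGroup (Fin (m + 1)) F) =
      (∏ j ∈ Finset.range (m + 1), (q₀ ^ k) ^ j) * ∏ j ∈ Finset.range m, ((q₀ ^ k) ^ (j + 2) - 1) :=
    Nat.eq_of_mul_eq_mul_left hq1 (by rw [eF]; ring)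
  have e0' : Nat.card (Matrix.SpecialLinearGroup (Fin (m + 1)) F₀) =
      (∏ j ∈ Finset.range (m + 1), q₀ ^ j) * ∏ j ∈ Finset.range m, (q₀ ^ (j + 2) - 1) :=
    Nat.eq_of_mul_eq_mul_left (show 0 < q₀ - 1 by omega) (by rw [e0]; ring)
  set S : ℕ → ℕ := fun j => ∑ l ∈ Finset.range k, (q₀ ^ (j + 2)) ^ l with hS
  have hfac : ∀ j, (q₀ ^ k) ^ (j + 2) - 1 = (q₀ ^ (j + 2) - 1) * S j := by
    intro j
    rw [← pow_mul, mul_comm k, pow_mul]
    have h := geom_sum_mul_add (q₀ ^ (j + 2) - 1) k
    rw [Nat.sub_add_cancel (Nat.one_le_pow _ _ (by omega))] at h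
    rw [← h, Nat.add_sub_cancel, mul_comm]
  have hidx : H.index * Nat.card H = Nat.card (Matrix.SpecialLinearGroup (Fin (m + 1)) F) :=
    H.index_mul_card
  have hqq : ∏ j ∈ Finset.range (m + 1), (q₀ ^ k) ^ j =
      (∏ j ∈ Finset.range (m + 1), q₀ ^ j) * ∏ j ∈ Finset.range (m + 1), q₀ ^ ((k - 1) * j) := by
    rw [← Finset.prod_mul_distrib]
    refine Finset.prod_congr rfl fun j _ => ?_
    rw [← pow_add, ← pow_mul]
    congr 1
    obtain ⟨k', rfl⟩ := Nat.exists_eq_add_of_le hk.one_lt.le
    rw [Nat.add_sub_cancel_left]; ring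
  rw [hh', eF', hqq, Finset.prod_congr rfl fun j _ => hfac j, Finset.prod_mul_distrib, e0'] at hidx
  have hpos : 0 < Nat.card (Matrix.SpecialLinearGroup (Fin (m + 1)) F₀) := Nat.card_pos
  rw [e0'] at hpos
  have key : H.index * h' =
      (∏ j ∈ Finset.range (m + 1), q₀ ^ ((k - 1) * j)) * ∏ j ∈ Finset.range m, S j :=
    Nat.eq_of_mul_eq_mul_left hpos (by linear_combination hidx)
  have hdvd := dvd_mul_of_dvd_left hΩ h'
  rw [key] at hdvd
  rcases hr.dvd_mul.mp hdvd with h | h
  · obtain ⟨j, -, hj⟩ := (hr.prime.dvd_finsetProd_iff _).mp h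
    exact hrq (hr.dvd_of_dvd_pow hj)
  · obtain ⟨j, hj, hjS⟩ := (hr.prime.dvd_finsetProd_iff _).mp h
    rw [Finset.mem_range] at hj
    have hS0 : ((S j : ℕ) : ZMod r) = 0 := (ZMod.natCast_eq_zero_iff _ _).mpr hjS
    rw [hS, Nat.cast_sum] at hS0
    simp only [Nat.cast_pow] at hS0
    by_cases hx : (q₀ : ZMod r) ^ (j + 2) = 1
    · simp only [hx, one_pow, Finset.sum_const, Finset.card_range, nsmul_eq_mul, mul_one] at hS0
      rw [ZMod.natCast_eq_zero_iff] at hS0
      exact hrk ((Nat.prime_dvd_prime_iff_eq hr hk).mp hS0)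
    · refine hx (hno (j + 2) (by omega) (by omega) ?_)
      have h := geom_sum_mul ((q₀ : ZMod r) ^ (j + 2)) k
      rw [hS0, zero_mul, eq_comm, sub_eq_zero] at h
      rw [← pow_mul, mul_comm, pow_mul, h]

set_option synthInstance.maxSize 4000 in
set_option maxRecDepth 10000 in
lemma small_five : ∀ a < 6, ∀ b < 6 - a, ∀ c < 6 - a - b, ∀ d < 6 - a - b - c,
    (b + 2 * c + 3 * d + 4 * (5 - a - b - c - d)) % 5 = 0 →
    ∃ f < 5, ∀ i < 5, [a, b, c, d, 5 - a - b - c - d].getD ((2 * f + (5 - i)) % 5) 0 =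
      [a, b, c, d, 5 - a - b - c - d].getD i 0 := by decide

lemma small_three : ∀ a < 4, ∀ b < 4 - a, (b + 2 * (3 - a - b)) % 3 = 0 →
    ∃ f < 3, ∀ i < 3, [a, b, 3 - a - b].getD ((2 * f + (3 - i)) % 3) 0 = [a, b, 3 - a - b].getD i 0 := by decide

lemma small_exp (r : ℕ) (hr : r = 3 ∨ r = 5) (m : ℕ → ℕ) (hsum : ∑ i ∈ Finset.range r, m i = r)
    (hw : (∑ i ∈ Finset.range r, i * m i) % r = 0) :
    ∃ f < r, ∀ i < r, m ((2 * f + (r - i)) % r) = m i := by
  rcases hr with rfl | rfl
  · simp only [Finset.sum_range_succ, Finset.sum_range_zero] at hsum hw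
    obtain ⟨f, hf, h⟩ := small_three (m 0) (by omega) (m 1) (by omega) (by omega)
    have e : ∀ i < 3, [m 0, m 1, 3 - m 0 - m 1].getD i 0 = m i := by
      intro i hi
      interval_cases i <;> simp <;> omega
    refine ⟨f, hf, fun i hi => ?_⟩
    have := h i hi
    rwa [e _ (Nat.mod_lt _ (by omega)), e i hi] at this
  · simp only [Finset.sum_range_succ, Finset.sum_range_zero] at hsum hw
    obtain ⟨f, hf, h⟩ := small_five (m 0) (by omega) (m 1) (by omega) (m 2) (by omega) (m 3) (by omega)
      (by omega)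
    have e : ∀ i < 5, [m 0, m 1, m 2, m 3, 5 - m 0 - m 1 - m 2 - m 3].getD i 0 = m i := by
      intro i hi
      interval_cases i <;> simp <;> omega
    refine ⟨f, hf, fun i hi => ?_⟩
    have := h i hi
    rwa [e _ (Nat.mod_lt _ (by omega)), e i hi] at this

lemma rth_root [Fintype F] (r : ℕ) [Fact r.Prime] (z : F) (hz0 : z ≠ 0) (h : r ∣ Fintype.card F - 1)
    (hz : z ^ ((Fintype.card F - 1) / r) = 1) : ∃ a : F, a ^ r = z := by
  obtain ⟨g, hg⟩ := IsCyclic.exists_ofOrder_eq_natCard (α := Fˣ)
  rw [Nat.card_units, Nat.card_eq_fintype_card] at hg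
  obtain ⟨j, hj⟩ := (Subgroup.mem_zpowers_iff (g := g) (h := Units.mk0 z hz0)).mp (by
    have : Subgroup.zpowers g = ⊤ := Subgroup.eq_top_of_card_eq _ (by
      rw [Nat.card_zpowers, hg, Nat.card_units, Nat.card_eq_fintype_card])
    rw [this]; trivial)
  obtain ⟨t, ht⟩ := h
  have h1 : (g ^ j) ^ t = 1 := by
    rw [hj]
    apply Units.ext
    rw [Units.val_pow_eq_pow_val, Units.val_mk0, Units.val_one]
    rwa [ht, Nat.mul_div_cancel_left _ (Fact.out : r.Prime).pos] at hz
  rw [← zpow_natCast, ← _root_.zpow_mul, ← orderOf_dvd_iff_zpow_eq_one, hg, ht, Nat.cast_mul] at h1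
  have ht0 : (t : ℤ) ≠ 0 := by
    intro h0
    have : Fintype.card F - 1 = 0 := by rw [ht]; simp [Int.natCast_eq_zero.mp h0]
    have := Fintype.one_lt_card (α := F)
    omega
  obtain ⟨s, rfl⟩ := Int.dvd_of_mul_dvd_mul_right ht0 h1
  refine ⟨((g ^ s : Fˣ) : F), ?_⟩
  rw [← Units.val_pow_eq_pow_val, ← zpow_natCast (g ^ s), ← _root_.zpow_mul, mul_comm s, hj, Units.val_mk0]

lemma eq_one_of_coprime [Fintype F] {r : ℕ} (hr : r.Prime) (h : ¬ r ∣ Fintype.card F - 1) {u : K}
    (hu : u ^ Fintype.card F = u) (hur : u ^ r = 1) : u = 1 := by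
  have hu0 : u ≠ 0 := by rintro rfl; simp [hr.ne_zero] at hur
  have h1 : u ^ (Fintype.card F - 1) = 1 := by
    refine mul_right_cancel₀ hu0 ?_
    rw [← pow_succ, Nat.sub_add_cancel Fintype.card_pos, hu, one_mul]
  have h2 : r.gcd (Fintype.card F - 1) = 1 := (hr.coprime_iff_not_dvd.mpr h)
  have := pow_gcd_eq_one.2 ⟨hur, h1⟩
  rwa [h2, pow_one] at this

lemma pow_inj_mod {u : K} {r a b : ℕ} [Fact r.Prime] (hu : IsPrimitiveRoot u r) :
    u ^ a = u ^ b ↔ (a : ZMod r) = b := by
  rw [ZMod.natCast_eq_natCast_iff', (isOfFinOrder_iff_pow_eq_one.2 ⟨r, (Fact.out : r.Prime).pos, hu.pow_eq_one⟩).pow_eq_pow_iff_modEq,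
    ← hu.eq_orderOf]
  rfl

set_option maxHeartbeats 1000000 in
lemma z_is_pow [Fintype F] {p : ℕ} [Fact p.Prime] [CharP F p] {n r : ℕ} [Fact r.Prime] (hr2 : r ≠ 2) (hn : 2 ≤ n)
    (hv : r ∣ Fintype.card F - 1 → padicValNat r n ≤ padicValNat r (Fintype.card F - 1))
    (x : Matrix.SpecialLinearGroup (Fin n) F) (z : F)
    (hx : (x : Matrix (Fin n) (Fin n) F) ^ r = z • 1) : ∃ a : F, a ^ r = z := by
  classical
  have hrp : r.Prime := Fact.out
  haveI : Nonempty (Fin n) := ⟨⟨0, by omega⟩⟩
  have hz0 : z ≠ 0 := by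
    rintro rfl
    have h := congrArg Matrix.det hx
    rw [Matrix.det_pow, x.2, one_pow, zero_smul, Matrix.det_zero] at h
    exact one_ne_zero h
  have hq1 := Fintype.one_lt_card (α := F)
  by_cases hd : r ∣ Fintype.card F - 1
  swap
  · obtain ⟨y, hy⟩ := exists_pow_eq_self_of_coprime (x := Units.mk0 z hz0) (n := r) (by
      refine Nat.Coprime.coprime_dvd_right (orderOf_dvd_natCard _) ?_
      rw [Nat.card_units, Nat.card_eq_fintype_card]
      exact hrp.coprime_iff_not_dvd.mpr hd)
    refine ⟨z ^ y, ?_⟩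
    have := congrArg Units.val hy
    rw [Units.val_pow_eq_pow_val, Units.val_pow_eq_pow_val, Units.val_mk0] at this
    rw [← pow_mul, mul_comm, pow_mul]
    exact this
  by_contra hno
  push Not at hno
  have hirr : Irreducible (X ^ r - C z : F[X]) := X_pow_sub_C_irreducible_of_prime hrp hno
  let T : Matrix (Fin n) (Fin n) F ≃ₐ[F] Module.End F (Fin n → F) := Matrix.toLinAlgEquiv'
  obtain ⟨m, hm⟩ := Cfsg.Agent.Lib.Semisimple.charpoly_eq_pow (T (x : Matrix (Fin n) (Fin n) F)) _ hirr (monic_X_pow_sub_C z hrp.ne_zero) (by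
    show aeval (T.toAlgHom (x : Matrix (Fin n) (Fin n) F)) _ = 0
    rw [aeval_algHom_apply]
    simp [hx, Algebra.algebraMap_eq_smul_one])
  have hch : (T (x : Matrix (Fin n) (Fin n) F)).charpoly = (x : Matrix (Fin n) (Fin n) F).charpoly := by
    rw [← LinearMap.charpoly_toMatrix (T (x : Matrix (Fin n) (Fin n) F)) (Pi.basisFun F (Fin n)), LinearMap.toMatrix_eq_toMatrix']
    congr 1
    exact LinearMap.toMatrix'_toLin' (x : Matrix (Fin n) (Fin n) F)
  rw [hch] at hm
  have hdeg := congrArg natDegree hm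
  rw [Matrix.charpoly_natDegree_eq_dim, Fintype.card_fin, natDegree_pow, natDegree_X_pow_sub_C] at hdeg
  have hdet := Matrix.det_eq_sign_charpoly_coeff (x : Matrix (Fin n) (Fin n) F)
  rw [x.2, hm, coeff_zero_eq_eval_zero, eval_pow, eval_sub, eval_pow, eval_X, eval_C, zero_pow hrp.ne_zero,
    zero_sub, Fintype.card_fin, hdeg, neg_pow z, ← mul_assoc, ← pow_add] at hdet
  obtain ⟨r', hr'⟩ := hrp.odd_of_ne_two hr2
  rw [Even.neg_one_pow ⟨m * (r' + 1), by rw [hr']; ring⟩, one_mul] at hdet
  have hm0 : m ≠ 0 := by rintro rfl; omega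
  have hg1 : z ^ (m.gcd (Fintype.card F - 1)) = 1 :=
    pow_gcd_eq_one.2 ⟨hdet.symm, FiniteField.pow_card_sub_one_eq_one z hz0⟩
  obtain ⟨s, hs⟩ := Nat.gcd_dvd_right m (Fintype.card F - 1)
  set g := m.gcd (Fintype.card F - 1) with hg
  have hg0 : g ≠ 0 := fun h => by rw [h, zero_mul] at hs; omega
  have hs0 : s ≠ 0 := fun h => by rw [h, mul_zero] at hs; omega
  by_cases hrs : r ∣ s
  · obtain ⟨t, rfl⟩ := hrs
    obtain ⟨a, ha⟩ := rth_root r z hz0 hd (by
      rw [hs, show g * (r * t) = r * (g * t) by ring, Nat.mul_div_cancel_left _ hrp.pos, pow_mul, hg1, one_pow])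
    exact hno a ha
  · have h1 := hv hd
    rw [hs, padicValNat.mul hg0 hs0, padicValNat.eq_zero_of_not_dvd hrs, add_zero, hdeg,
      padicValNat.mul hm0 hrp.ne_zero, padicValNat_self] at h1
    have h2 : padicValNat r g ≤ padicValNat r m :=
      (padicValNat_dvd_iff_le hm0).mp (pow_padicValNat_dvd.trans (Nat.gcd_dvd_left m _))
    omega

end


set_option maxHeartbeats 2000000 in
/-- Elements of odd prime order r ≠ p of PSL_n(q) and subfield subgroups. Here `T = PSL_n(F)` for a field `F` with `q = p^f` elements (`n ≥ 2`, `(n, q) ≠ (2, 2), (2, 3)`), `F₀` is the subfield with `q₀` elements where `q = q₀^k` for a prime `k`, and `H` is the subgroup of matrices of determinant 1 lying in the subfield group of `F₀` (invertible matrices over `F₀` times scalars) — a maximal subgroup of type GL_n(q₀) (the case `n = 2`, `q₀ = 2` is excluded); Ω is the set of `T`-conjugates of `H` (cosets of `H`), so an element of `T` of prime order `r` (a matrix `x` of determinant 1 with `x^r` scalar, `x` not scalar) fixes a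 point of Ω when some conjugate of `x` by a matrix of determinant 1 lies in `H`. Let `r ≠ p` be an odd prime dividing the index of `H`, with `(n, r) ≠ (6, 3)` and, when `r = k` divides `q₀ − 1`, with `(n)_r ≤ (q − 1)_r`. Then every element of `T` of order `r` is conjugate in `T` into `H` if and only if `r = k`, or `k = 2`, `r = n ∈ {3, 5}` and `(q₀ + 1)_r = r`. The two excluded cases, `(n, r) = (6, 3)` and `r = k ∣ q₀ − 1` with `(n)_r > (q − 1)_r`, are ones where this criterion can fail, so they are left out. -/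
theorem result {F : Type*} [Field F] [Fintype F] {p : ℕ} [Fact p.Prime] [CharP F p] {q : ℕ} (hq : Fintype.card F = q)
    (n : ℕ) (hn : 2 ≤ n) (hT : (n, q) ≠ (2, 2) ∧ (n, q) ≠ (2, 3))
    (F₀ : Subfield F) (k q₀ : ℕ) (hk : k.Prime) (hF₀ : Nat.card ↥F₀ = q₀) (hqk : q = q₀ ^ k) (hC5 : ¬ (n = 2 ∧ q₀ = 2)) (r : ℕ) [Fact r.Prime] (hr2 : r ≠ 2) (hrp : r ≠ p) (hgap : ¬ (n = 6 ∧ r = 3)) (hgapk : r = k → r ∣ q₀ - 1 → padicValNat r n ≤ padicValNat r (q - 1)) (hΩ : r ∣ ((Cfsg.Geo.subfieldSubgroup F₀ 1).comap (Matrix.SpecialLinearGroup.toGL : Matrix.SpecialLinearGroup (Fin n) F →* GL (Fin n) F)).index) :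
    (∀ x : Matrix.SpecialLinearGroup (Fin n) F,
      (∃ z : F, ((x ^ r : Matrix.SpecialLinearGroup (Fin n) F) : Matrix (Fin n) (Fin n) F) = z • (1 : Matrix (Fin n) (Fin n) F)) →
      (∀ z : F, (x : Matrix (Fin n) (Fin n) F) ≠ z • (1 : Matrix (Fin n) (Fin n) F)) →
      ∃ P : Matrix.SpecialLinearGroup (Fin n) F, P⁻¹ * x * P ∈ ((Cfsg.Geo.subfieldSubgroup F₀ 1).comap (Matrix.SpecialLinearGroup.toGL : Matrix.SpecialLinearGroup (Fin n) F →* GL (Fin n) F))) ↔
    (r = k ∨ (k = 2 ∧ r = n ∧ (n = 3 ∨ n = 5) ∧ padicValNat r (q₀ + 1) = 1)) := by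
  classical
  have hrp' : r.Prime := Fact.out
  haveI : Fintype F₀ := Fintype.ofFinite _
  set ι := algebraMap F (AlgebraicClosure F) with hι
  set K := AlgebraicClosure F
  have hιq : ∀ a : F, ι a ^ q = ι a := fun a => hq ▸ pow_card_iota a
  have hpF : (p : ℕ) ∣ q₀ := by
    haveI : CharP F₀ p := (RingHom.charP_iff F₀.subtype F₀.subtype_injective p).2 inferInstance
    obtain ⟨e, -, he⟩ := FiniteField.card F₀ p
    rw [← hF₀, Nat.card_eq_fintype_card, he]
    exact dvd_pow_self p e.ne_zero
  have hrq : ¬ r ∣ q₀ := by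
    haveI : CharP F₀ p := (RingHom.charP_iff F₀.subtype F₀.subtype_injective p).2 inferInstance
    obtain ⟨e, hp, he⟩ := FiniteField.card F₀ p
    rw [← hF₀, Nat.card_eq_fintype_card, he]
    exact fun h => hrp ((Nat.prime_dvd_prime_iff_eq hrp' hp).mp (hrp'.dvd_of_dvd_pow h))
  have hq₀1 : 1 ≤ q₀ := Nat.one_le_iff_ne_zero.mpr fun h => hrq (h ▸ dvd_zero r)
  have hq1 : 1 ≤ q := hq ▸ Fintype.card_pos
  have hrK : NeZero (r : K) := ⟨fun h => by
    haveI : CharP K p := (RingHom.charP_iff ι ι.injective p).1 inferInstance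
    rw [CharP.cast_eq_zero_iff K p, Nat.prime_dvd_prime_iff_eq Fact.out hrp'] at h
    exact hrp h.symm⟩
  obtain ⟨ω, hω⟩ := HasEnoughRootsOfUnity.exists_primitiveRoot K r
  have hω0 : ω ≠ 0 := hω.ne_zero hrp'.ne_zero
  have hdvd : ∀ a : ℕ, 1 ≤ a → (r ∣ a - 1 ↔ (a : ZMod r) = 1) := fun a ha => by
    rw [← ZMod.natCast_eq_zero_iff, Nat.cast_sub ha, Nat.cast_one, sub_eq_zero]
  have hqZ : (q : ZMod r) = (q₀ : ZMod r) ^ k := by rw [hqk, Nat.cast_pow]
  -- necessity, in terms of eigenvalues
  have hnec : ∀ M : Multiset K, Multiset.card M = n → ∀ z : F, (∀ w ∈ M, w ^ r = ι z) →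
      M.map (fun w => w ^ q) = M → M.prod = 1 → (∀ u, M ≠ Multiset.replicate n u) →
      (∀ x : Matrix.SpecialLinearGroup (Fin n) F,
        (∃ z : F, ((x ^ r : Matrix.SpecialLinearGroup (Fin n) F) : Matrix (Fin n) (Fin n) F) = z • (1 : Matrix (Fin n) (Fin n) F)) →
        (∀ z : F, (x : Matrix (Fin n) (Fin n) F) ≠ z • (1 : Matrix (Fin n) (Fin n) F)) →
        ∃ P : Matrix.SpecialLinearGroup (Fin n) F, P⁻¹ * x * P ∈ ((Cfsg.Geo.subfieldSubgroup F₀ 1).comap (Matrix.SpecialLinearGroup.toGL : Matrix.SpecialLinearGroup (Fin n) F →* GL (Fin n) F))) →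
      ∃ c : F, c ≠ 0 ∧ M.map (fun w => w ^ q₀) = M.map fun w => ι c * w := by
    intro M hcard z hz hMq hM1 hns hall
    obtain ⟨x, hx, hxr⟩ := exists_sl p z M hcard hz (hq.symm ▸ hMq) hM1
    obtain ⟨P, hP⟩ := hall x ⟨z, by rw [Matrix.SpecialLinearGroup.coe_pow]; exact hxr⟩ (fun a ha => by
      refine hns (ι a) ?_
      rw [← hx, ha]
      exact eigs_scalar a)
    obtain ⟨g₀, c, hc⟩ := (mem_subfield_iff F₀ _).mp hP
    rw [← hx]
    refine conj_imp p F₀ q₀ hF₀ _ ⟨Matrix.SpecialLinearGroup.toGL P⁻¹, g₀, c, ?_⟩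
    rw [← hc, map_mul, map_mul, Units.val_mul, Units.val_mul, ← map_inv, inv_inv]
    rfl
  -- sufficiency, in terms of eigenvalues
  have hsuf : ∀ (x : Matrix.SpecialLinearGroup (Fin n) F) (z : F), (x : Matrix (Fin n) (Fin n) F) ^ r = z • 1 →
      ∀ c : F, c ≠ 0 → ((eigs (x : Matrix (Fin n) (Fin n) F)).map (fun w => ((ι c)⁻¹ * w) ^ q₀) =
        (eigs (x : Matrix (Fin n) (Fin n) F)).map fun w => (ι c)⁻¹ * w) →
      ∃ P : Matrix.SpecialLinearGroup (Fin n) F, P⁻¹ * x * P ∈ ((Cfsg.Geo.subfieldSubgroup F₀ 1).comap (Matrix.SpecialLinearGroup.toGL : Matrix.SpecialLinearGroup (Fin n) F →* GL (Fin n) F)) := by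
    intro x z hx c hc hinv
    haveI : Nonempty (Fin n) := ⟨⟨0, by omega⟩⟩
    have hz0 : z ≠ 0 := by
      rintro rfl
      have h := congrArg Matrix.det hx
      rw [Matrix.det_pow, x.2, one_pow, zero_smul, Matrix.det_zero] at h
      exact one_ne_zero h
    obtain ⟨P, B, hB, hPB⟩ := conj_of p (by omega) F₀ q₀ hF₀ x
      ((Nat.coprime_primes hrp' Fact.out).mpr hrp) hz0 hx hc hinv
    exact ⟨P, mem_of_eq F₀ _ c hc B hB hPB⟩
  have heigr : ∀ (x : Matrix.SpecialLinearGroup (Fin n) F) (z : F), (x : Matrix (Fin n) (Fin n) F) ^ r = z • 1 →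
      ∀ w ∈ eigs (x : Matrix (Fin n) (Fin n) F), w ^ r = ι z := by
    intro x z hx w hw
    have hmem : w ∈ spectrum K ((x : Matrix (Fin n) (Fin n) F).map ι) :=
      Matrix.mem_spectrum_iff_isRoot_charpoly.2 (Polynomial.mem_roots (Matrix.charpoly_monic _).ne_zero |>.1 hw)
    have h1 := spectrum.subset_polynomial_aeval ((x : Matrix (Fin n) (Fin n) F).map ι) (X ^ r - C (ι z))
      ⟨w, hmem, rfl⟩
    have h2 : aeval ((x : Matrix (Fin n) (Fin n) F).map ι) (X ^ r - C (ι z)) = 0 := by
      rw [map_sub, map_pow, aeval_X, aeval_C, sub_eq_zero,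
        show ((x : Matrix (Fin n) (Fin n) F).map ι) ^ r = ι.mapMatrix ((x : Matrix (Fin n) (Fin n) F) ^ r) from
          (map_pow ι.mapMatrix _ r).symm, hx, Algebra.algebraMap_eq_smul_one]
      ext i j
      by_cases h : i = j <;> simp [h]
    rw [h2] at h1
    haveI : Nonempty (Fin n) := ⟨⟨0, by omega⟩⟩
    rw [spectrum.zero_eq, Set.mem_singleton_iff] at h1
    simpa [sub_eq_zero] using h1
  have hr3' : 3 ≤ r := by have := hrp'.two_le; omega
  constructor
  · -- necessity
    intro hall
    by_contra hR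
    push Not at hR
    obtain ⟨hrk, hexc⟩ := hR
    obtain ⟨i, hi2, hin, hiq, hiq₀⟩ :=
      exists_exponent (by omega) F₀ k q₀ r hk hrp' hrk hrq hF₀ (hq.trans hqk) hΩ
    have hq₀ne : (q₀ : ZMod r) ≠ 1 := fun h => hiq₀ (by rw [h, one_pow])
    by_cases he : r ∣ q - 1
    · -- all roots of unity are in the field
      have hqk1 : (q₀ : ZMod r) ^ k = 1 := by rw [← hqZ, ← hdvd q hq1]; exact he
      haveI := Fact.mk hk
      have hord : orderOf (q₀ : ZMod r) = k := orderOf_eq_prime hqk1 hq₀ne
      have hkr : k ∣ r - 1 := by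
        rw [← hord]
        refine ZMod.orderOf_dvd_card_sub_one fun h => hrq ((ZMod.natCast_eq_zero_iff _ _).1 h)
      have hωq : ω ^ q = ω := by
        conv_rhs => rw [← pow_one ω]
        rw [pow_inj_mod hω, hqZ, hqk1, Nat.cast_one]
      have hωn : ∀ j : ℕ, ¬ r ∣ j → ∀ e : ℕ, (e : ZMod r) ≠ 1 → (ω ^ j) ^ e ≠ ω ^ j := by
        intro j hj e he1 h
        rw [← pow_mul, pow_inj_mod hω, Nat.cast_mul, mul_right_eq_self₀] at h
        exact h.elim he1 fun h0 => hj ((ZMod.natCast_eq_zero_iff _ _).1 h0)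
      have hω1 : ω ≠ 1 := hω.ne_one hrp'.one_lt
      -- analysis of a failing multiset
      have hfix : ∀ M : Multiset K, (∀ w ∈ M, w ≠ 0) → ∀ c : F, c ≠ 0 →
          M.map (fun w => w ^ q₀) = M.map (fun w => ι c * w) →
          ∀ w ∈ M, (∀ u, u ≠ w → M.count u ≠ M.count w) → w ^ q₀ = ι c * w := by
        intro M hM0 c hc h w hw huniq
        have hc' : ι c ≠ 0 := by simpa using hc
        have hwm : w ^ q₀ ∈ M.map fun w => ι c * w := by
          rw [← h]; exact Multiset.mem_map_of_mem _ hw
        obtain ⟨v, -, hvw⟩ := Multiset.mem_map.mp hwm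
        by_cases hvw' : v = w
        · rw [← hvw, hvw']
        exfalso
        refine huniq v hvw' ?_
        haveI : CharP K p := (RingHom.charP_iff ι ι.injective p).1 inferInstance
        obtain ⟨e, -, he⟩ := FiniteField.card F₀ p
        have hq₀e : q₀ = p ^ (e : ℕ) := by rw [← hF₀, Nat.card_eq_fintype_card, he]
        have hinj : Function.Injective fun w : K => w ^ q₀ := fun a b hab => by
          have hab' : iterateFrobenius K p (e : ℕ) a = iterateFrobenius K p (e : ℕ) b := by
            simpa [iterateFrobenius_def, ← hq₀e] using hab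
          exact (iterateFrobenius K p (e : ℕ)).injective hab'
        have hl := congrArg (Multiset.count (w ^ q₀)) h
        rw [Multiset.count_map_eq_count' _ _ hinj] at hl
        conv_rhs at hl => rw [← hvw]
        rw [Multiset.count_map_eq_count' _ _ (mul_right_injective₀ hc')] at hl
        exact hl.symm
      have hprodc : ∀ M : Multiset K, M.prod = 1 → Multiset.card M = n → ∀ c : F,
          M.map (fun w => w ^ q₀) = M.map (fun w => ι c * w) → ι c ^ n = 1 := by
        intro M hM hcard c h
        have h1 := congrArg Multiset.prod h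
        rw [Multiset.prod_map_pow, Multiset.prod_map_mul, Multiset.map_const', Multiset.prod_replicate,
          Multiset.map_id', hM, one_pow, mul_one, hcard] at h1
        exact h1.symm
      by_cases hn2 : n = 2
      · subst hn2
        have hi : i = 2 := by omega
        subst hi
        obtain ⟨c, hc, hM⟩ := hnec {ω, ω ^ (r - 1)} rfl 1 (by
            intro w hw
            simp only [Multiset.insert_eq_cons, Multiset.mem_cons, Multiset.mem_singleton] at hw
            rw [map_one]
            rcases hw with rfl | rfl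
            · exact hω.pow_eq_one
            · rw [← pow_mul, mul_comm, pow_mul, hω.pow_eq_one, one_pow])
          (by simp [← pow_mul, mul_comm (r - 1) q, pow_mul ω q, hωq])
          (by simp [← pow_succ', Nat.sub_add_cancel hrp'.one_le, hω.pow_eq_one])
          (fun u h => by
            have h1 : ω = u := Multiset.eq_of_mem_replicate (n := 2) (h ▸ by simp)
            have h2 : ω ^ (r - 1) = u := Multiset.eq_of_mem_replicate (n := 2) (h ▸ by simp)
            have h3 : ω ^ (r - 1) = ω ^ 1 := by rw [h2, pow_one, h1]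
            have := hrp'.two_le
            exact absurd (hω.pow_inj (by omega) (by omega) h3) (by omega)) hall
        have hc2 := hprodc _ (by simp [← pow_succ', Nat.sub_add_cancel hrp'.one_le, hω.pow_eq_one]) rfl c hM
        have hmem : ω ^ q₀ ∈ ({ω, ω ^ (r - 1)} : Multiset K).map fun w => ι c * w := by
          rw [← hM]; simp
        have hcr : ι c ^ r = 1 := by
          simp only [Multiset.insert_eq_cons, Multiset.map_cons, Multiset.map_singleton, Multiset.mem_cons,
            Multiset.mem_singleton] at hmem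
          rcases hmem with h | h <;>
          · have h1 := congrArg (· ^ r) h
            simp only [mul_pow, ← pow_mul, mul_comm _ r, pow_mul ω r, hω.pow_eq_one, one_pow, mul_one] at h1
            exact h1.symm
        have hc1 : ι c = 1 := by
          have := pow_gcd_eq_one.2 ⟨hc2, hcr⟩
          rwa [Nat.coprime_primes Nat.prime_two hrp' |>.mpr (Ne.symm hr2), pow_one] at this
        simp only [Multiset.insert_eq_cons, Multiset.map_cons, Multiset.map_singleton, Multiset.mem_cons,
            Multiset.mem_singleton, hc1, one_mul] at hmem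
        rcases hmem with h | h
        · refine hωn 1 hrp'.not_dvd_one q₀ hq₀ne ?_
          rw [pow_one, h]
        · rw [pow_inj_mod hω, Nat.cast_sub hrp'.one_le, ZMod.natCast_self, Nat.cast_one, zero_sub] at h
          exact hiq₀ (by rw [h, neg_one_sq])
      by_cases hexn : n = r ∧ (r = 3 ∨ r = 5)
      · obtain ⟨hnr, hr35⟩ := hexn
        have hk2 : k = 2 := by
          have h1 : k ∣ 2 ^ 2 := by
            rcases hr35 with rfl | rfl <;> exact hkr.trans (by decide)
          exact (Nat.prime_dvd_prime_iff_eq hk Nat.prime_two).mp (hk.dvd_of_dvd_pow h1)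
        have hv1 : padicValNat r (q₀ + 1) ≠ 1 :=
          hexc hk2 hnr.symm (by rcases hr35 with rfl | rfl <;> simp [hnr])
        have hd1 : r ∣ q₀ + 1 := by
          rw [hk2, sq_eq_one_iff] at hqk1
          rw [← ZMod.natCast_eq_zero_iff, Nat.cast_add, hqk1.resolve_left hq₀ne, Nat.cast_one, neg_add_cancel]
        have hr2q : r ^ 2 ∣ q - 1 := by
          have h1 : r ^ 2 ∣ q₀ + 1 := by
            refine (padicValNat_dvd_iff_le (by omega)).mpr ?_
            have := one_le_padicValNat_of_dvd (p := r) (by omega) hd1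
            omega
          refine h1.trans ⟨q₀ - 1, ?_⟩
          rw [hqk, hk2, mul_comm (q₀ + 1), Nat.sub_one_mul, sq]
          rw [Nat.mul_add, mul_one]; omega
        obtain ⟨g, hg⟩ := IsCyclic.exists_ofOrder_eq_natCard (α := Fˣ)
        rw [Nat.card_units, Nat.card_eq_fintype_card, hq] at hg
        obtain ⟨t, ht⟩ := hr2q
        set a : F := ((g ^ t : Fˣ) : F) with ha
        have hg0 : orderOf g ≠ 0 := (orderOf_pos g).ne'
        have ht0 : t ≠ 0 := fun h => hg0 (by rw [hg, ht, h, mul_zero])
        have hao : orderOf (g ^ t) = r ^ 2 := by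
          rw [orderOf_pow_of_dvd ht0 (hg.symm ▸ Dvd.intro_left _ ht.symm), hg, ht, Nat.mul_div_cancel _ (by omega)]
        set a' := ι a with ha'
        have ha0 : a' ≠ 0 := by simp [ha', ha]
        have ha'o : IsPrimitiveRoot a' (r ^ 2) := by
          have h := (IsPrimitiveRoot.orderOf (g ^ t)).map_of_injective (f := Units.coeHom F) Units.val_injective
          rw [hao] at h
          exact h.map_of_injective ι.injective
        set v := a'⁻¹ ^ r with hv
        have hvr : v ^ r = 1 := by rw [hv, ← pow_mul, ← sq, inv_pow, ha'o.pow_eq_one, inv_one]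
        have hv1' : v ≠ 1 := by
          intro h
          rw [hv, inv_pow, inv_eq_one] at h
          refine ha'o.pow_ne_one_of_pos_of_lt hrp'.ne_zero ?_ h
          nlinarith [hrp'.two_le]
        obtain ⟨r', hr'⟩ : ∃ r', r = r' + 1 := ⟨r - 1, by omega⟩
        have haq : a' ^ q = a' := hιq a
        have hvq : v ^ q = v := by rw [hv, ← pow_mul, mul_comm, pow_mul, inv_pow, haq]
        set M := Multiset.replicate r' a' + {a' * v} with hM
        have hMp : M.prod = 1 := by
          rw [hM, Multiset.prod_add, Multiset.prod_replicate, Multiset.prod_singleton, ← mul_assoc, ← pow_succ,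
            ← hr', hv, inv_pow, mul_inv_cancel₀ (pow_ne_zero _ ha0)]
        have hMc : Multiset.card M = n := by simp [hM, ← hr', hnr]
        have hr'2 : 2 ≤ r' := by have := hrp'.two_le; omega
        obtain ⟨c, hc, hMc'⟩ := hnec M hMc (a ^ r) (by
            intro w hw
            rw [hM, Multiset.mem_add, Multiset.mem_singleton] at hw
            rw [map_pow]
            rcases hw with hw | rfl
            · rw [Multiset.eq_of_mem_replicate hw, ha']
            · rw [mul_pow, hvr, mul_one, ha'])
          (by simp [hM, Multiset.map_replicate, mul_pow, haq, hvq]) hMp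
          (fun u h => by
            have h1 : a' = u := Multiset.eq_of_mem_replicate (n := n) (h ▸ by simp [hM, Multiset.mem_replicate, show r' ≠ 0 by omega])
            have h2 : a' * v = u := Multiset.eq_of_mem_replicate (n := n) (h ▸ by simp [hM])
            exact hv1' (mul_left_cancel₀ ha0 (by rw [h2, mul_one, h1]))) hall
        have hav : a' ≠ a' * v := fun h => hv1' (mul_left_cancel₀ ha0 (by rw [← h, mul_one]))
        have hcount : ∀ u, M.count u = (if u = a' then r' else 0) + (if u = a' * v then 1 else 0) := by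
          intro u
          rw [hM, Multiset.count_add, Multiset.count_replicate, Multiset.count_singleton]
          simp only [eq_comm (a := a') (b := u)]
        have hM0 : ∀ w ∈ M, w ≠ 0 := by
          intro w hw h
          rw [hM, Multiset.mem_add, Multiset.mem_singleton] at hw
          rcases hw with hw | hw
          · exact ha0 ((Multiset.eq_of_mem_replicate hw).symm.trans h)
          · exact mul_ne_zero ha0 (fun h0 => by rw [h0, zero_pow hrp'.ne_zero] at hvr; exact zero_ne_one hvr) (hw.symm.trans h)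
        have h1 := hfix M hM0 c hc hMc' a' (by simp [hM, Multiset.mem_replicate, show r' ≠ 0 by omega]) (fun u hu => by
          rw [hcount, hcount, if_neg hu, if_pos rfl, if_neg hav]; split_ifs <;> omega)
        have h2 := hfix M hM0 c hc hMc' (a' * v) (by simp [hM]) (fun u hu => by
          rw [hcount, hcount, if_neg hu, if_neg hav.symm, if_pos rfl]; split_ifs <;> omega)
        rw [mul_pow, h1, mul_assoc] at h2
        have h3 : v ^ q₀ = v := mul_left_cancel₀ ha0 (mul_left_cancel₀ (by simpa using hc) h2)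
        obtain ⟨j, -, hj⟩ := hω.eq_pow_of_pow_eq_one hvr
        refine hωn j (fun hd => hv1' ?_) q₀ hq₀ne (hj ▸ h3)
        obtain ⟨s, rfl⟩ := hd
        rw [← hj, pow_mul, hω.pow_eq_one, one_pow]
      · -- the generic multiset
        have hn3 : 3 ≤ n := by omega
        set v := ω ^ (r - 2) with hv
        set M := Multiset.replicate (n - 3) (1 : K) + (Multiset.replicate 2 ω + {v}) with hM
        have hv1' : v ≠ 1 := hω.pow_ne_one_of_pos_of_lt (by have := hrp'.two_le; omega) (by omega)
        have hMp : M.prod = 1 := by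
          rw [hM, Multiset.prod_add, Multiset.prod_add, Multiset.prod_replicate, Multiset.prod_replicate,
            Multiset.prod_singleton, one_pow, one_mul, hv, ← pow_add,
            show 2 + (r - 2) = r by have := hrp'.two_le; omega, hω.pow_eq_one]
        have hMc : Multiset.card M = n := by simp [hM]; omega
        have hmem : ∀ w ∈ M, w = 1 ∨ w = ω ∨ w = v := by
          intro w hw
          rw [hM, Multiset.mem_add, Multiset.mem_add, Multiset.mem_singleton] at hw
          rcases hw with hw | hw | hw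
          · exact Or.inl (Multiset.eq_of_mem_replicate hw)
          · exact Or.inr (Or.inl (Multiset.eq_of_mem_replicate hw))
          · exact Or.inr (Or.inr hw)
        have hMr : ∀ w ∈ M, w ^ r = 1 := by
          intro w hw
          rcases hmem w hw with rfl | rfl | rfl
          · exact one_pow r
          · exact hω.pow_eq_one
          · rw [hv, ← pow_mul, mul_comm, pow_mul, hω.pow_eq_one, one_pow]
        obtain ⟨c, hc, hMc'⟩ := hnec M hMc 1 (fun w hw => by rw [map_one]; exact hMr w hw)
          (by simp [hM, Multiset.map_replicate, hv, ← pow_mul, mul_comm (r - 2) q, pow_mul ω q, hωq]) hMp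
          (fun u h => by
            have h1 : ω = u := Multiset.eq_of_mem_replicate (n := n) (h ▸ by simp [hM])
            have h2 : v = u := Multiset.eq_of_mem_replicate (n := n) (h ▸ by simp [hM])
            rcases Nat.lt_or_ge 3 n with h4 | h4
            · have h3 : (1 : K) = u := Multiset.eq_of_mem_replicate (n := n)
                (h ▸ by simp [hM, Multiset.mem_replicate, show n - 3 ≠ 0 by omega])
              exact hω1 (h1.trans h3.symm)
            · have h5 : ω ^ (r - 2) = ω ^ 1 := by rw [← hv, h2, pow_one, h1]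
              have := hrp'.two_le
              have h6 := hω.pow_inj (by omega) (by omega) h5
              exact hexn ⟨by omega, Or.inl (by omega)⟩) hall
        have hM0 : ∀ w ∈ M, w ≠ 0 := fun w hw h => by
          have := hMr w hw; rw [h, zero_pow hrp'.ne_zero] at this; exact zero_ne_one this
        have hcr : ι c ^ r = 1 := by
          have hωm : ω ^ q₀ ∈ M.map fun w => ι c * w := by
            rw [← hMc']; exact Multiset.mem_map_of_mem _ (by simp [hM])
          obtain ⟨u, hu, hue⟩ := Multiset.mem_map.mp hωm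
          have h1 := congrArg (· ^ r) hue
          simp only [mul_pow, hMr u hu, mul_one, ← pow_mul, mul_comm q₀ r] at h1
          rwa [pow_mul, hω.pow_eq_one, one_pow] at h1
        have hcount : ∀ u, M.count u =
            (if u = 1 then n - 3 else 0) + ((if u = ω then 2 else 0) + (if u = v then 1 else 0)) := by
          intro u
          rw [hM, Multiset.count_add, Multiset.count_add, Multiset.count_replicate, Multiset.count_replicate,
            Multiset.count_singleton]
          simp only [eq_comm (b := u)]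
        by_cases hr3 : r = 3
        · subst hr3
          have hvω : v = ω := by rw [hv, show 3 - 2 = 1 from rfl, pow_one]
          have hc1 : ι c = 1 := by
            by_cases h3n : 3 ∣ n
            · have h1 := hfix M hM0 c hc hMc' 1 (by
                have : n ≠ 3 := fun h => hexn ⟨h, Or.inl rfl⟩
                simp [hM, Multiset.mem_replicate]; omega) (fun u hu => by
                  have : n ≠ 3 := fun h => hexn ⟨h, Or.inl rfl⟩
                  have : n ≠ 6 := fun h => hgap ⟨h, rfl⟩
                  rw [hcount, hcount, if_neg hu, if_pos rfl, if_neg hω1.symm, if_neg hv1'.symm, hvω]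
                  split_ifs <;> omega)
              rw [one_pow, mul_one] at h1
              exact h1.symm
            · have := pow_gcd_eq_one.2 ⟨hprodc M hMp hMc c hMc', hcr⟩
              rwa [((Nat.coprime_comm.mp (hrp'.coprime_iff_not_dvd.mpr h3n)) : n.gcd 3 = 1), pow_one] at this
          have h1 := hfix M hM0 c hc hMc' ω (by simp [hM]) (fun u hu => by
            have : n ≠ 6 := fun h => hgap ⟨h, rfl⟩
            rw [hcount, hcount, hvω, if_neg hu, if_pos rfl, if_neg hω1]
            split_ifs with h1 h2 <;> first | omega | exact absurd rfl h2)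
          rw [hc1, one_mul] at h1
          exact hωn 1 hrp'.not_dvd_one q₀ hq₀ne (by rwa [pow_one])
        · have hωv : ω ≠ v := by
            intro h
            have h5 : ω ^ 1 = ω ^ (r - 2) := by rw [pow_one]; exact h
            have := hrp'.two_le
            have h6 := hω.pow_inj (by omega) (by omega) h5
            omega
          have hr5 : 5 ≤ r := by
            have := hrp'.two_le
            rcases Nat.lt_or_ge r 5 with h | h
            · interval_cases r <;> simp_all (config := {decide := true})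
            · exact h
          have hc1 : ι c = 1 := by
            by_cases hrn : r ∣ n
            · have hn6 : 6 ≤ n := by
                have h1 := Nat.le_of_dvd (by omega) hrn
                by_contra h
                exact hexn ⟨by omega, Or.inr (by omega)⟩
              have h1 := hfix M hM0 c hc hMc' 1 (by simp [hM, Multiset.mem_replicate]; omega) (fun u hu => by
                rw [hcount, hcount, if_neg hu, if_pos rfl, if_neg hω1.symm, if_neg hv1'.symm]
                split_ifs with h1 h2 <;> first | omega | exact absurd (h1.symm.trans h2) hωv)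
              rw [one_pow, mul_one] at h1
              exact h1.symm
            · have := pow_gcd_eq_one.2 ⟨hprodc M hMp hMc c hMc', hcr⟩
              rwa [((Nat.coprime_comm.mp (hrp'.coprime_iff_not_dvd.mpr hrn)) : n.gcd r = 1), pow_one] at this
          by_cases hn4 : n = 4
          · have h1 := hfix M hM0 c hc hMc' ω (by simp [hM]) (fun u hu => by
              rw [hcount, hcount, if_neg hu, if_pos rfl, if_neg hω1, if_neg hωv, hn4]
              split_ifs with h1 h2 <;> first | omega | exact absurd (h1.symm.trans h2) hv1'.symm)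
            rw [hc1, one_mul] at h1
            exact hωn 1 hrp'.not_dvd_one q₀ hq₀ne (by rwa [pow_one])
          · have h1 := hfix M hM0 c hc hMc' v (by simp [hM]) (fun u hu => by
              rw [hcount, hcount, if_neg hu, if_neg hv1', if_neg hωv.symm, if_pos rfl]
              split_ifs <;> omega)
            rw [hc1, one_mul] at h1
            exact hωn (r - 2) (Nat.not_dvd_of_pos_of_lt (by omega) (by omega)) q₀ hq₀ne h1
    · -- the roots of unity lie outside the field
      have hωi : ω ^ q ^ i = ω := by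
        conv_rhs => rw [← pow_one ω]
        rw [pow_inj_mod hω, Nat.cast_pow, hqZ, hiq, Nat.cast_one]
      set S : Finset K := (Finset.range i).image fun j => ω ^ q ^ j with hS
      have hSq : S.image (fun w => w ^ q) ⊆ S := by
        intro w hw
        simp only [hS, Finset.mem_image, Finset.mem_range] at hw ⊢
        obtain ⟨_, ⟨j, hj, rfl⟩, rfl⟩ := hw
        by_cases hji : j + 1 < i
        · exact ⟨j + 1, hji, by rw [← pow_mul, ← pow_succ]⟩
        · refine ⟨0, by omega, ?_⟩
          rw [← pow_mul, ← pow_succ, pow_zero, pow_one, show j + 1 = i by omega, hωi]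
      have hinjq : Function.Injective fun w : K => w ^ q := by
        haveI : CharP K p := (RingHom.charP_iff ι ι.injective p).1 inferInstance
        obtain ⟨e, -, he⟩ := FiniteField.card F p
        intro a b hab
        have hab' : iterateFrobenius K p (e : ℕ) a = iterateFrobenius K p (e : ℕ) b := by
          simpa [iterateFrobenius_def, ← he, hq] using hab
        exact (iterateFrobenius K p (e : ℕ)).injective hab'
      have hSeq : S.val.map (fun w => w ^ q) = S.val := by
        have h := Finset.eq_of_subset_of_card_le hSq (by rw [Finset.card_image_of_injective _ hinjq])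
        conv_rhs => rw [← h]
        rw [Finset.image_val_of_injOn hinjq.injOn]
      have hSr : ∀ w ∈ S, w ^ r = 1 := by
        intro w hw
        simp only [hS, Finset.mem_image] at hw
        obtain ⟨j, -, rfl⟩ := hw
        rw [← pow_mul, mul_comm, pow_mul, hω.pow_eq_one, one_pow]
      have hSp : S.val.prod = 1 := by
        refine eq_one_of_coprime hrp' (hq ▸ he) ?_ ?_
        · conv_rhs => rw [← hSeq]
          rw [Multiset.prod_map_pow, Multiset.map_id', hq]
        · rw [← Multiset.map_id' S.val, ← Multiset.prod_map_pow]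
          exact Multiset.prod_eq_one fun x hx => by
            obtain ⟨w, hw, rfl⟩ := Multiset.mem_map.mp hx
            exact hSr w hw
      have hSc : S.card ≤ n := (Finset.card_image_le.trans (by simp)).trans hin
      set M := S.val + Multiset.replicate (n - S.card) (1 : K) with hM
      have hω1 : ω ≠ 1 := hω.ne_one hrp'.one_lt
      have hωS : ω ∈ S := Finset.mem_image.mpr ⟨0, Finset.mem_range.mpr (by omega), by simp⟩
      have hMr : ∀ w ∈ M, w ^ r = 1 := by
        intro w hw
        rw [hM, Multiset.mem_add] at hw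
        rcases hw with hw | hw
        · exact hSr w hw
        · rw [Multiset.eq_of_mem_replicate hw, one_pow]
      obtain ⟨c, hc, hMc⟩ := hnec M (by simp [hM]; omega) 1 (fun w hw => by rw [map_one]; exact hMr w hw)
        (by simp [hM, Multiset.map_add, hSeq, Multiset.map_replicate]) (by simp [hM, hSp])
        (fun u h => by
          have h1 : ω = u := Multiset.eq_of_mem_replicate (n := n) (h ▸ by simp [hM, hωS])
          by_cases h2 : ω ^ q = ω
          · exact hω1 (eq_one_of_coprime hrp' (hq ▸ he) (hq ▸ h2) hω.pow_eq_one)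
          · refine h2 ?_
            have h3 : ω ^ q ∈ M := by
              rw [hM, Multiset.mem_add]
              exact Or.inl (hSq (Finset.mem_image_of_mem _ hωS))
            rw [h] at h3
            rw [Multiset.eq_of_mem_replicate h3, h1]) hall
      have hωm : ω ^ q₀ ∈ M.map fun w => ι c * w := by
        rw [← hMc]; exact Multiset.mem_map_of_mem _ (by simp [hM, hωS])
      obtain ⟨u, hu, hue⟩ := Multiset.mem_map.mp hωm
      have hc1 : ι c = 1 := by
        refine eq_one_of_coprime hrp' (hq ▸ he) (hq ▸ hιq c) ?_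
        have h1 := congrArg (· ^ r) hue
        simp only [mul_pow, hMr u hu, mul_one, ← pow_mul, mul_comm q₀ r] at h1
        rwa [pow_mul, hω.pow_eq_one, one_pow] at h1
      rw [hc1, one_mul] at hue
      rw [hM, Multiset.mem_add] at hu
      rcases hu with hu | hu
      · simp only [hS, Finset.mem_val, Finset.mem_image] at hu
        obtain ⟨j, -, rfl⟩ := hu
        rw [pow_inj_mod hω, Nat.cast_pow, hqZ] at hue
        refine hiq₀ ?_
        rw [← hue, ← pow_mul, mul_comm, pow_mul, hiq, one_pow]
      · rw [Multiset.eq_of_mem_replicate hu, ← pow_zero ω, pow_inj_mod hω, Nat.cast_zero] at hue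
        exact hrq ((ZMod.natCast_eq_zero_iff _ _).1 hue.symm)
  · -- sufficiency
    intro hR x hx _
    haveI : Nonempty (Fin n) := ⟨⟨0, by omega⟩⟩
    obtain ⟨z, hz⟩ := hx
    rw [Matrix.SpecialLinearGroup.coe_pow] at hz
    rcases hR with hrk | ⟨hk2, hrn, hn35, hv1⟩
    · obtain ⟨a, ha⟩ := z_is_pow (p := p) hr2 hn (fun hd => by
        rw [hq] at hd ⊢
        refine hgapk hrk ?_
        rw [hdvd q₀ hq₀1]
        rw [hdvd q hq1, hqZ, ← hrk, ZMod.pow_card] at hd
        exact hd) x z hz
      have ha0 : a ≠ 0 := by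
        rintro rfl
        rw [zero_pow hrp'.ne_zero] at ha
        have h := congrArg Matrix.det hz
        rw [Matrix.det_pow, x.2, one_pow, ← ha, zero_smul, Matrix.det_zero] at h
        exact one_ne_zero h
      refine hsuf x z hz a ha0 ?_
      have hwr : ∀ w ∈ eigs (x : Matrix (Fin n) (Fin n) F), ((ι a)⁻¹ * w) ^ q₀ = ((ι a)⁻¹ * w) ^ q := by
        intro w hw
        obtain ⟨j, -, hj⟩ := hω.eq_pow_of_pow_eq_one (ξ := (ι a)⁻¹ * w) (by
          rw [mul_pow, heigr x z hz w hw, inv_pow, ← map_pow, ha, inv_mul_cancel₀]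
          have hz0 : z ≠ 0 := ha ▸ pow_ne_zero r ha0
          simpa using hz0)
        rw [← hj, ← pow_mul, ← pow_mul, pow_inj_mod hω, Nat.cast_mul, Nat.cast_mul, hqZ, ← hrk, ZMod.pow_card]
      rw [Multiset.map_congr rfl hwr]
      have h := eigs_pow_card p (x : Matrix (Fin n) (Fin n) F)
      rw [hq] at h
      conv_rhs => rw [← h]
      rw [Multiset.map_map]
      refine Multiset.map_congr rfl fun w _ => ?_
      simp only [Function.comp_apply, mul_pow, inv_pow, hιq]
    · -- the exceptional case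
      subst hk2
      have hd1 : r ∣ q₀ + 1 := dvd_of_one_le_padicValNat (by rw [hv1])
      have hr35 : r = 3 ∨ r = 5 := by omega
      have hneg : (q₀ : ZMod r) = -1 := by
        rw [← ZMod.natCast_eq_zero_iff, Nat.cast_add, Nat.cast_one] at hd1
        exact eq_neg_of_add_eq_zero_left hd1
      have hdq : r ∣ q - 1 := by rw [hdvd q hq1, hqZ, hneg, neg_one_sq]
      have hq0m : ¬ r ∣ q₀ - 1 := by
        rw [hdvd q₀ hq₀1, hneg]
        intro h
        have : (2 : ℕ) = r ∨ r = 1 := by
          have h2 : ((2 : ℕ) : ZMod r) = 0 := by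
            push_cast
            linear_combination -h
          rw [ZMod.natCast_eq_zero_iff] at h2
          exact (Nat.dvd_prime Nat.prime_two).mp h2 |>.elim Or.inr (fun h => Or.inl h.symm)
        rcases this with h | h
        · exact hr2 h.symm
        · exact hrp'.one_lt.ne' h
      have hV : padicValNat r (q - 1) = 1 := by
        have hpos : q₀ - 1 ≠ 0 := fun h => hq0m (h ▸ dvd_zero r)
        rw [hqk, show q₀ ^ 2 - 1 = (q₀ + 1) * (q₀ - 1) by
          rw [Nat.mul_sub, mul_one, sq, Nat.add_mul, one_mul]; omega,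
          padicValNat.mul (by omega) hpos, hv1, padicValNat.eq_zero_of_not_dvd hq0m]
      obtain ⟨a, ha⟩ := z_is_pow (p := p) hr2 hn (fun _ => by
        rw [hq, hV, ← hrn, padicValNat_self]) x z hz
      have hz1 : z = 1 := by
        have h := congrArg Matrix.det hz
        rw [Matrix.det_pow, x.2, one_pow, Matrix.det_smul, Fintype.card_fin, Matrix.det_one, mul_one, ← hrn] at h
        have ha2 : a ^ r ^ 2 = 1 := by rw [sq, pow_mul, ha, h]
        have ha0 : a ≠ 0 := by rintro rfl; simp [hrp'.ne_zero] at ha2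
        have h2 := pow_gcd_eq_one.2 ⟨ha2, FiniteField.pow_card_sub_one_eq_one a ha0⟩
        have hg : (r ^ 2).gcd (Fintype.card F - 1) = r := by
          rw [hq]
          obtain ⟨s, hs⟩ := hdq
          have hs1 : ¬ r ∣ s := by
            intro h
            obtain ⟨t, rfl⟩ := h
            have h3 : q - 1 ≠ 0 := by
              have := Fintype.one_lt_card (α := F)
              omega
            have h4 : r ^ 2 ∣ q - 1 := ⟨t, by rw [hs]; ring⟩
            rw [padicValNat_dvd_iff_le h3] at h4
            omega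
          rw [hs, sq, Nat.gcd_mul_left, (hrp'.coprime_iff_not_dvd.mpr hs1).gcd_eq_one, mul_one]
        rw [hg, ha] at h2
        exact h2
      have hωq : ω ^ q = ω := by
        conv_rhs => rw [← pow_one ω]
        rw [pow_inj_mod hω, (hdvd q hq1).mp hdq, Nat.cast_one]
      obtain ⟨o, ho⟩ := mem_range_of_pow (F := F) (a := ω) (hq.symm ▸ hωq)
      set M := eigs (x : Matrix (Fin n) (Fin n) F) with hM
      have hMr : ∀ w ∈ M, ∃ j < r, ω ^ j = w := fun w hw =>
        hω.eq_pow_of_pow_eq_one (by rw [heigr x z hz w hw, hz1, map_one])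
      have hinj : Set.InjOn (fun j => ω ^ j) ↑(Finset.range r) := fun a ha b hb h =>
        hω.pow_inj (Finset.mem_range.mp ha) (Finset.mem_range.mp hb) h
      have hsub : M.toFinset ⊆ (Finset.range r).image (fun j => ω ^ j) := by
        intro w hw
        obtain ⟨j, hj, rfl⟩ := hMr w (Multiset.mem_toFinset.mp hw)
        exact Finset.mem_image_of_mem _ (Finset.mem_range.mpr hj)
      have hsum : ∑ j ∈ Finset.range r, M.count (ω ^ j) = r := by
        rw [← Finset.sum_image (g := fun j => ω ^ j) (f := fun w => M.count w) hinj,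
          ← Finset.sum_subset hsub (fun w _ hw => by
            rwa [Multiset.count_eq_zero, ← Multiset.mem_toFinset]),
          Multiset.toFinset_sum_count_eq, hM, eigs_card, hrn]
      have hw : (∑ j ∈ Finset.range r, j * M.count (ω ^ j)) % r = 0 := by
        refine Nat.mod_eq_zero_of_dvd ?_ |> id
        rw [← hω.pow_eq_one_iff_dvd, ← Finset.prod_pow_eq_pow_sum]
        have h2 := eigs_prod (x : Matrix (Fin n) (Fin n) F)
        rw [x.2, map_one, ← hM, Finset.prod_multiset_count_of_subset M _ hsub, Finset.prod_image hinj] at h2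
        simpa [pow_mul] using h2
      obtain ⟨f, hf, hsym⟩ := small_exp r hr35 (fun j => M.count (ω ^ j)) hsum hw
      have hoz : o ≠ 0 := by rintro rfl; rw [map_zero] at ho; exact hω0 ho.symm
      refine hsuf x z hz (o ^ f) (pow_ne_zero _ hoz) ?_
      rw [map_pow, ho, ← hM]
      have key : M.map (fun w => (ω ^ f) ^ 2 / w) = M := by
        refine Multiset.ext.mpr fun u => ?_
        have hc2 : ((ω ^ f) ^ 2 : K) ≠ 0 := pow_ne_zero _ (pow_ne_zero _ hω0)
        have hinv : Function.Involutive fun w : K => (ω ^ f) ^ 2 / w := fun w => by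
          show (ω ^ f) ^ 2 / ((ω ^ f) ^ 2 / w) = w
          rw [div_div_cancel₀ hc2]
        conv_lhs => rw [← hinv u]
        rw [Multiset.count_map_eq_count' _ _ hinv.injective]
        by_cases hu : ∃ j < r, ω ^ j = u
        · obtain ⟨j, hj, rfl⟩ := hu
          have hjj : (ω ^ f) ^ 2 / ω ^ j = ω ^ ((2 * f + (r - j)) % r) := by
            rw [div_eq_iff (pow_ne_zero _ hω0), ← pow_mul, ← pow_add, pow_inj_mod hω]
            simp [Nat.cast_sub hj.le]
            ring
          show Multiset.count ((ω ^ f) ^ 2 / ω ^ j) M = _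
          rw [hjj]
          exact hsym j hj
        · rw [Multiset.count_eq_zero.mpr (fun h => hu (hMr u h)), Multiset.count_eq_zero]
          intro h
          obtain ⟨j, hj, hje⟩ := hMr _ h
          refine hu (hω.eq_pow_of_pow_eq_one ?_)
          have h1 := congrArg (· ^ r) hje
          simp only [div_pow, ← pow_mul, mul_comm _ r, pow_mul ω r, hω.pow_eq_one, one_pow] at h1
          simpa using h1.symm
      conv_rhs => rw [← key]
      rw [Multiset.map_map]
      refine Multiset.map_congr rfl fun w hw => ?_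
      obtain ⟨j, hj, rfl⟩ := hMr w hw
      simp only [Function.comp_apply]
      rw [mul_pow, inv_pow, eq_inv_mul_iff_mul_eq₀ (pow_ne_zero _ hω0)]
      field_simp
      rw [← pow_mul, ← pow_mul, ← pow_mul, ← mul_div_assoc, div_eq_div_iff (pow_ne_zero _ hω0) (pow_ne_zero _ hω0), ← pow_add, ← pow_add, ← pow_add,
        pow_inj_mod hω]
      simp [hneg]
      ring

end Cfsg.Agent.S5965
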