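import Cfsg.Statements.S5966
import Mathlib
import Cfsg.Agent.Lib.LinClasses.NilBlock
import Cfsg.Agent.Lib.KnownSimple.UnipotentClasses

set_option autoImplicit false
open scoped MatrixGroups
open Cfsg
open Cfsg.Agent
open Matrix

namespace Cfsg.Agent.S5966

open scoped Matrix

variable {F : Type*} [Field F]

lemma mem_subfield_iff {n : ℕ} (F₀ : Subfield F) (g : GL (Fin n) F) :
    g ∈ Cfsg.Geo.subfieldSubgroup F₀ (1 : GL (Fin n) F) ↔
      ∃ (g₀ : GL (Fin n) F₀) (c : Fˣ), (g : Matrix (Fin n) (Fin n) F) =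
        (c : F) • (g₀ : Matrix (Fin n) (Fin n) F₀).map F₀.subtype := by
  unfold Cfsg.Geo.subfieldSubgroup
  rw [map_one, show (1 : MulAut (GL (Fin n) F)).toMonoidHom = MonoidHom.id _ from rfl, Subgroup.map_id,
    Subgroup.mem_sup_of_normal_right]
  constructor
  · rintro ⟨_, ⟨g₀, rfl⟩, s, hs, rfl⟩
    obtain ⟨c, hc⟩ := (Cfsg.Geo.mem_scalars_iff s).mp hs
    refine ⟨g₀, c, ?_⟩
    rw [Units.val_mul, hc, mul_smul_comm, mul_one]
    rfl
  · rintro ⟨g₀, c, hc⟩
    refine ⟨_, ⟨g₀, rfl⟩, _, ⟨c, rfl⟩, Units.ext ?_⟩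
    rw [Units.val_mul, hc]
    simp [← Matrix.smul_eq_mul_diagonal, ← Matrix.smul_one_eq_diagonal]

/-- scalar multiples of matrices over the subfield lie in the subfield group -/
lemma mem_of_eq {n : ℕ} (F₀ : Subfield F) (g : GL (Fin n) F) (c : F) (hc : c ≠ 0) (B : Matrix (Fin n) (Fin n) F)
    (hB : ∀ i j, B i j ∈ F₀) (hg : (g : Matrix (Fin n) (Fin n) F) = c • B) :
    g ∈ Cfsg.Geo.subfieldSubgroup F₀ (1 : GL (Fin n) F) := by
  let B₀ : Matrix (Fin n) (Fin n) F₀ := Matrix.of fun i j => ⟨B i j, hB i j⟩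
  have hBB : B₀.map F₀.subtype = B := rfl
  have hdet : B₀.det ≠ 0 := by
    intro h
    have h1 : B.det = 0 := by
      rw [← hBB]
      change (F₀.subtype.mapMatrix B₀).det = 0
      rw [← RingHom.map_det, h, map_zero]
    have h2 := g.isUnit
    rw [Matrix.isUnit_iff_isUnit_det, hg, Matrix.det_smul, h1, mul_zero] at h2
    exact not_isUnit_zero h2
  exact (mem_subfield_iff F₀ g).mpr ⟨B₀.nonsingInvUnit (Ne.isUnit hdet), Units.mk0 c hc, hg⟩

lemma geom_factor (a k : ℕ) (hk : Odd k) (ha : Odd a) :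
    ∃ o, Odd o ∧ a ^ k - 1 = (a - 1) * o := by
  refine ⟨∑ i ∈ Finset.range k, a ^ i, ?_, ?_⟩
  · rw [Finset.odd_sum_iff_odd_card_odd, Finset.filter_true_of_mem fun i _ => ha.pow, Finset.card_range]
    exact hk
  · have h := geom_sum_mul_add (a - 1) k
    rw [Nat.sub_add_cancel (by rcases ha with ⟨j, rfl⟩; omega)] at h
    rw [← h, Nat.add_sub_cancel, mul_comm]


/-- a square-zero matrix with all blocks of size two: centralizing determinants are squares -/
lemma det_isSquare_of_commute {m : ℕ} (C : Matrix (Fin m ⊕ Fin m) (Fin m ⊕ Fin m) F)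
    (h : C * Matrix.fromBlocks 0 1 0 0 = Matrix.fromBlocks 0 1 0 0 * C) : IsSquare C.det := by
  rw [← Matrix.fromBlocks_toBlocks C, Matrix.fromBlocks_multiply, Matrix.fromBlocks_multiply] at h
  simp only [mul_zero, mul_one, zero_mul, one_mul, add_zero, zero_add, Matrix.fromBlocks_inj] at h
  obtain ⟨h1, h2, -, -⟩ := h
  refine ⟨C.toBlocks₁₁.det, ?_⟩
  conv_lhs => rw [← Matrix.fromBlocks_toBlocks C, ← h1, Matrix.det_fromBlocks_zero₂₁, ← h2]

lemma conj_similar {K : Type*} [Field K] {n : ℕ} {A B : Matrix (Fin n) (Fin n) K} (h : IsConj A B) :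
    ∃ u : GL (Fin n) K, (u : Matrix (Fin n) (Fin n) K) * A = B * (u : Matrix (Fin n) (Fin n) K) := by
  obtain ⟨u, hu⟩ := h
  exact ⟨u, hu.eq⟩


/-- Elements of order 3 of PSL_n(q) in characteristic 3 and subfield subgroups. Here `T = PSL_n(F)` for a field `F` with `q` elements, `q` a power of 3 (`n ≥ 2`, `(n, q) ≠ (2, 2), (2, 3)`), `F₀` is the subfield with `q₀` elements where `q = q₀^k` for a prime `k`, and `H` is the subgroup of matrices of determinant 1 lying in the subfield group of `F₀` (invertible matrices over `F₀` times scalars) — a maximal subgroup of type GL_n(q₀) (the case `n = 2`, `q₀ = 2` is excluded); Ω is the set of `T`-conjugates of `H` (cosets of `H`), so an element of `T` of prime order `r` (a matrix `x` of determinant 1 with `x^r` scalar, `x` not scalar) fixes a point of Ω when some conjugate of `x` by a matrix of determinant 1 lies in `H`. Suppose 3 divides the index of `H`. Then every element of `T` of order 3 is conjugate in `T` into `H` if and only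 if `n` is odd, or `n` is even and `k > 2`. -/
theorem result {F : Type*} [Field F] [Fintype F] [CharP F 3] {q : ℕ} (hq : Fintype.card F = q)
    (n : ℕ) (hn : 2 ≤ n) (hT : (n, q) ≠ (2, 3))
    (F₀ : Subfield F) (k q₀ : ℕ) (hk : k.Prime) (hF₀ : Nat.card ↥F₀ = q₀) (hqk : q = q₀ ^ k) (hC5 : ¬ (n = 2 ∧ q₀ = 2)) (hΩ : 3 ∣ ((Cfsg.Geo.subfieldSubgroup F₀ 1).comap (Matrix.SpecialLinearGroup.toGL : Matrix.SpecialLinearGroup (Fin n) F →* GL (Fin n) F)).index) :
    (∀ x : Matrix.SpecialLinearGroup (Fin n) F,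
      (∃ z : F, ((x ^ 3 : Matrix.SpecialLinearGroup (Fin n) F) : Matrix (Fin n) (Fin n) F) = z • (1 : Matrix (Fin n) (Fin n) F)) →
      (∀ z : F, (x : Matrix (Fin n) (Fin n) F) ≠ z • (1 : Matrix (Fin n) (Fin n) F)) →
      ∃ P : Matrix.SpecialLinearGroup (Fin n) F, P⁻¹ * x * P ∈ ((Cfsg.Geo.subfieldSubgroup F₀ 1).comap (Matrix.SpecialLinearGroup.toGL : Matrix.SpecialLinearGroup (Fin n) F →* GL (Fin n) F))) ↔
    (Odd n ∨ (Even n ∧ 2 < k)) := by
  classical
  haveI : Fintype F₀ := Fintype.ofFinite _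
  haveI : CharP F₀ 3 := (RingHom.charP_iff F₀.subtype F₀.subtype_injective 3).2 inferInstance
  haveI : Nonempty (Fin n) := ⟨⟨0, by omega⟩⟩
  haveI : CharP (Matrix (Fin n) (Fin n) F) 3 := Matrix.charP 3
  have hcube : ∀ t : F, ∃ s, s ^ 3 = t := fun t => by
    obtain ⟨s, hs⟩ := surjective_frobenius F 3 t
    exact ⟨s, by rwa [frobenius_def] at hs⟩
  have hqo : Odd q := by
    obtain ⟨a, -, ha⟩ := FiniteField.card F 3
    rw [← hq, ha]
    exact (show Odd 3 by decide).pow
  have hq0o : Odd q₀ := (Nat.odd_pow_iff hk.ne_zero).mp (hqk ▸ hqo)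
  have hF3 : ringChar F ≠ 2 := by rw [ringChar.eq F 3]; decide
  have hF03 : ringChar F₀ ≠ 2 := by rw [ringChar.eq F₀ 3]; decide
  have hF₀' : Fintype.card F₀ = q₀ := by rw [← Nat.card_eq_fintype_card, hF₀]
  have hsub : ∀ a : F, a ∈ F₀ → a ≠ 0 → a ^ (q₀ - 1) = 1 := fun a ha ha0 => by
    have h := FiniteField.pow_card_sub_one_eq_one (K := F₀) ⟨a, ha⟩ (fun h => ha0 (congrArg Subtype.val h))
    rw [hF₀'] at h
    exact congrArg Subtype.val h
  -- membership
  have hmem : ∀ y : Matrix.SpecialLinearGroup (Fin n) F,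
      y ∈ (Cfsg.Geo.subfieldSubgroup F₀ 1).comap (Matrix.SpecialLinearGroup.toGL : Matrix.SpecialLinearGroup (Fin n) F →* GL (Fin n) F) ↔
      ∃ (g₀ : GL (Fin n) F₀) (c : Fˣ), (y : Matrix (Fin n) (Fin n) F) = (c : F) • (g₀ : Matrix (Fin n) (Fin n) F₀).map F₀.subtype :=
    fun y => mem_subfield_iff F₀ _
  constructor
  · intro hall
    rcases Nat.even_or_odd n with hne | hno
    swap
    · exact Or.inl hno
    refine Or.inr ⟨hne, ?_⟩
    by_contra hk'
    have hk2 : k = 2 := by have := hk.two_le; omega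
    subst hk2
    have hsq0 : ∀ a : F, a ∈ F₀ → a ≠ 0 → IsSquare a := by
      intro a ha ha0
      rw [FiniteField.isSquare_iff hF3 ha0, hq]
      obtain ⟨j, hj⟩ := hq0o
      have : q / 2 = (q₀ - 1) * (j + 1) := by
        rw [hqk, hj, show (2 * j + 1) ^ 2 = 2 * (2 * j * (j + 1)) + 1 by ring,
          show 2 * j + 1 - 1 = 2 * j by omega]
        omega
      rw [this, pow_mul, hsub a ha ha0, one_pow]
    obtain ⟨b, rfl⟩ := hne
    obtain ⟨ν, hν⟩ := FiniteField.exists_nonsquare hF3
    have hν0 : ν ≠ 0 := fun h => hν (h ▸ IsSquare.zero)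
    let e : Fin b ⊕ Fin b ≃ Fin (b + b) := finSumFinEquiv
    let A₀ : Matrix (Fin (b + b)) (Fin (b + b)) F₀ := Matrix.reindexAlgEquiv F₀ F₀ e (Matrix.fromBlocks 0 1 0 0)
    let A : Matrix (Fin (b + b)) (Fin (b + b)) F := Matrix.reindexAlgEquiv F F e (Matrix.fromBlocks 0 1 0 0)
    have hA₀ : A₀.map F₀.subtype = A := by
      ext i j
      obtain ⟨i, rfl⟩ := e.surjective i
      obtain ⟨j, rfl⟩ := e.surjective j
      rcases i with i | i <;> rcases j with j | j <;> simp [A₀, A, Matrix.one_apply] <;> split_ifs <;> simp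
    have hAA : A * A = 0 := by
      simp only [A, ← map_mul, Matrix.fromBlocks_multiply]
      simp
    have hA₀A₀ : A₀ * A₀ = 0 := by
      simp only [A₀, ← map_mul, Matrix.fromBlocks_multiply]
      simp
    let i₀ : Fin (b + b) := e (Sum.inl ⟨0, by omega⟩)
    let D : GL (Fin (b + b)) F := (Matrix.diagonal (Function.update (1 : Fin (b + b) → F) i₀ ν)).nonsingInvUnit
      (by rw [Matrix.det_diagonal, Finset.prod_update_of_mem (Finset.mem_univ _)]; simp [hν0])
    have hD : (D : Matrix (Fin (b + b)) (Fin (b + b)) F).det = ν := by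
      show (Matrix.diagonal _).det = ν
      rw [Matrix.det_diagonal, Finset.prod_update_of_mem (Finset.mem_univ _)]; simp
    have hAnil : IsNilpotent A := ⟨2, by rw [pow_two, hAA]⟩
    obtain ⟨u, hu⟩ := hAnil.isUnit_one_add
    let X : Matrix (Fin (b + b)) (Fin (b + b)) F :=
      (D : Matrix (Fin (b + b)) (Fin (b + b)) F) * (1 + A) * ((D⁻¹ : GL (Fin (b + b)) F) : Matrix (Fin (b + b)) (Fin (b + b)) F)
    have hdA : (1 + A).det = 1 := by
      have h1 : (1 + A) = Matrix.reindexAlgEquiv F F e (Matrix.fromBlocks 1 1 0 1) := by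
        rw [show A = Matrix.reindexAlgEquiv F F e (Matrix.fromBlocks 0 1 0 0) from rfl,
          ← map_one (Matrix.reindexAlgEquiv F F e), ← map_add, ← Matrix.fromBlocks_one, Matrix.fromBlocks_add]
        simp
      rw [h1, Matrix.det_reindexAlgEquiv, Matrix.det_fromBlocks_zero₂₁, Matrix.det_one, mul_one]
    have hXdet : X.det = 1 := by
      simp only [X]
      rw [Matrix.det_mul, Matrix.det_mul, hdA, mul_one, ← Matrix.det_mul, ← Units.val_mul, mul_inv_cancel, Units.val_one, Matrix.det_one]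
    have hX3 : X ^ 3 = 1 := by
      have h : (1 + A) ^ 3 = 1 := by
        rw [add_pow_char_of_commute 3 (Commute.one_left A), one_pow, pow_succ A 2, pow_two, hAA, zero_mul, add_zero]
      simp only [X, Units.conj_pow, h, mul_one, ← Units.val_mul, mul_inv_cancel, Units.val_one]
    have hA0 : A ≠ 0 := fun h => by
      have := congrFun (congrFun h i₀) (e (Sum.inr ⟨0, by omega⟩))
      simp [A, i₀] at this
    let x₀ : Matrix.SpecialLinearGroup (Fin (b + b)) F := ⟨X, hXdet⟩
    obtain ⟨g, hg⟩ := hall x₀ ⟨1, by rw [Matrix.SpecialLinearGroup.coe_pow, one_smul]; exact hX3⟩ fun z hz => by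
      have hz' : ((D⁻¹ : GL (Fin (b + b)) F) : Matrix (Fin (b + b)) (Fin (b + b)) F) * X * (D : Matrix (Fin (b + b)) (Fin (b + b)) F) = z • 1 := by
        rw [show X = z • 1 from hz, mul_smul_comm, mul_one, smul_mul_assoc, ← Units.val_mul, inv_mul_cancel, Units.val_one]
      have hz'' : (1 + A) = z • 1 := by
        rw [← hz']
        simp only [X, mul_assoc, ← Units.val_mul, inv_mul_cancel, Units.val_one, mul_one]
        rw [← mul_assoc, ← Units.val_mul, inv_mul_cancel, Units.val_one, one_mul]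
      refine hA0 ?_
      have hA' : A = (z - 1) • 1 := by rw [sub_smul, one_smul, ← hz'', add_sub_cancel_left]
      have hz1 := congrArg (fun M => M * M) hA'
      simp only [hAA, smul_mul_smul_comm, one_mul] at hz1
      have hz2 := congrFun (congrFun hz1 i₀) i₀
      simp [sub_eq_zero] at hz2
      rw [hA', hz2, sub_self, zero_smul]
    obtain ⟨g₀, c, hc⟩ := (hmem _).1 hg
    -- the scalar lies in the subfield
    set Y := (g₀ : Matrix (Fin (b + b)) (Fin (b + b)) F₀)
    let W : GL (Fin (b + b)) F := Matrix.SpecialLinearGroup.toGL g⁻¹ * D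
    have hW : (W : Matrix (Fin (b + b)) (Fin (b + b)) F) * (1 + A) * ((W⁻¹ : GL (Fin (b + b)) F) : Matrix (Fin (b + b)) (Fin (b + b)) F) = (c : F) • Y.map F₀.subtype := by
      rw [← hc, show W⁻¹ = D⁻¹ * Matrix.SpecialLinearGroup.toGL g by simp [W, map_inv]]
      rw [Matrix.SpecialLinearGroup.coe_mul, Matrix.SpecialLinearGroup.coe_mul]
      show _ = (g⁻¹).1 * X * g.1
      simp only [W, Units.val_mul, X, mul_assoc]
      rfl
    have hc3 : ((c : F) • Y.map F₀.subtype) ^ 3 = 1 := by
      rw [← hW, Units.conj_pow]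
      have h : (1 + A) ^ 3 = 1 := by
        rw [add_pow_char_of_commute 3 (Commute.one_left A), one_pow, pow_succ A 2, pow_two, hAA, zero_mul, add_zero]
      rw [h, mul_one, ← Units.val_mul, mul_inv_cancel, Units.val_one]
    have hcF : (c : F) ∈ F₀ := by
      rw [smul_pow, show (Y.map F₀.subtype) ^ 3 = (Y ^ 3).map F₀.subtype from (map_pow F₀.subtype.mapMatrix Y 3).symm] at hc3
      have h00 := congrFun (congrFun hc3 i₀) i₀
      simp only [Matrix.smul_apply, Matrix.map_apply, smul_eq_mul, Matrix.one_apply_eq] at h00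
      obtain ⟨d, hd⟩ := surjective_frobenius F₀ 3 ((Y ^ 3) i₀ i₀)⁻¹
      rw [frobenius_def] at hd
      have h' : (c : F) ^ 3 = (d : F) ^ 3 := by
        rw [eq_inv_of_mul_eq_one_left h00]
        exact (congrArg Subtype.val hd).symm
      have : (c : F) = d := frobenius_inj F 3 (by rw [frobenius_def, frobenius_def]; exact h')
      rw [this]; exact d.2
    let N₀ : Matrix (Fin (b + b)) (Fin (b + b)) F₀ := (⟨(c : F), hcF⟩ : F₀) • Y - 1
    have hN₀ : N₀.map F₀.subtype = (W : Matrix (Fin (b + b)) (Fin (b + b)) F) * A * ((W⁻¹ : GL (Fin (b + b)) F) : Matrix (Fin (b + b)) (Fin (b + b)) F) := by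
      have h : N₀.map F₀.subtype = (c : F) • Y.map F₀.subtype - 1 := by
        show F₀.subtype.mapMatrix ((⟨(c : F), hcF⟩ : F₀) • Y - 1) = _
        rw [map_sub, map_one]
        congr 1
      rw [h, ← hW, mul_add, mul_one, add_mul, ← Units.val_mul, mul_inv_cancel, Units.val_one, add_sub_cancel_left]
    have hN₀2 : N₀ * N₀ = 0 := by
      refine Matrix.map_injective F₀.subtype_injective ?_
      show (N₀ * N₀).map F₀.subtype = (0 : Matrix (Fin (b + b)) (Fin (b + b)) F₀).map F₀.subtype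
      rw [Matrix.map_mul, hN₀, ← pow_two, Units.conj_pow, pow_two, hAA, mul_zero, zero_mul, Matrix.map_zero _ (map_zero _)]
    have hrank : N₀.rank = A₀.rank := by
      rw [← Lib.LinClasses.rank_map_field F₀.subtype N₀, ← Lib.LinClasses.rank_map_field F₀.subtype A₀, hN₀, hA₀,
        Matrix.rank_mul_eq_left_of_isUnit_det _ _ ((Matrix.isUnit_iff_isUnit_det _).1 (W⁻¹).isUnit),
        Matrix.rank_mul_eq_right_of_isUnit_det _ _ ((Matrix.isUnit_iff_isUnit_det _).1 W.isUnit)]
    obtain ⟨u₀, hu₀⟩ := conj_similar (Lib.KnownSimple.isConj_of_rank_pow (A := N₀) (B := A₀) ⟨2, by rw [pow_two, hN₀2]⟩ ⟨2, by rw [pow_two, hA₀A₀]⟩ fun i => by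
      match i with
      | 0 => rw [pow_zero, pow_zero]
      | 1 => rw [pow_one, pow_one, hrank]
      | i + 2 => rw [pow_add, pow_add, pow_two, pow_two, hN₀2, hA₀A₀, mul_zero, mul_zero])
    let C : Matrix (Fin (b + b)) (Fin (b + b)) F := (u₀ : Matrix (Fin (b + b)) (Fin (b + b)) F₀).map F₀.subtype * (W : Matrix (Fin (b + b)) (Fin (b + b)) F)
    have hC : C * A = A * C := by
      have h := congrArg (fun M => M.map F₀.subtype) hu₀
      simp only [Matrix.map_mul, hA₀, hN₀] at h
      show _ * _ * A = A * (_ * _)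
      rw [← mul_assoc A, ← h]
      simp only [mul_assoc, ← Units.val_mul, inv_mul_cancel, Units.val_one, mul_one]
    have hCsq : IsSquare C.det := by
      have h := congrArg (Matrix.reindexAlgEquiv F F e).symm hC
      simp only [map_mul, A, AlgEquiv.symm_apply_apply] at h
      have := det_isSquare_of_commute _ h
      rwa [Matrix.reindexAlgEquiv_symm, Matrix.det_reindexAlgEquiv] at this
    have hu₀d : ((u₀ : Matrix (Fin (b + b)) (Fin (b + b)) F₀).map F₀.subtype).det =
        ((u₀ : Matrix (Fin (b + b)) (Fin (b + b)) F₀).det : F) := (F₀.subtype.map_det _).symm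
    have hu₀0 : ((u₀ : Matrix (Fin (b + b)) (Fin (b + b)) F₀).det : F) ≠ 0 := fun h =>
      ((Matrix.isUnit_iff_isUnit_det _).1 u₀.isUnit).ne_zero (Subtype.ext h)
    have hWd : (W : Matrix (Fin (b + b)) (Fin (b + b)) F).det = ν := by
      show ((g⁻¹).1 * (D : Matrix (Fin (b + b)) (Fin (b + b)) F)).det = ν
      rw [Matrix.det_mul, hD]
      rw [(g⁻¹).2, one_mul]
    rw [Matrix.det_mul, hu₀d, hWd] at hCsq
    obtain ⟨a, ha⟩ := hsq0 _ (SetLike.coe_mem _) hu₀0
    have ha0 : a ≠ 0 := fun h => hu₀0 (by rw [ha, h, mul_zero])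
    obtain ⟨z, hz⟩ := hCsq
    refine hν ⟨z / a, ?_⟩
    field_simp
    linear_combination hz - ν * ha
  · intro hrhs x hxz _
    obtain ⟨z, hz⟩ := hxz
    rw [Matrix.SpecialLinearGroup.coe_pow] at hz
    set X := (x : Matrix (Fin n) (Fin n) F) with hX
    obtain ⟨c, hc⟩ := hcube z
    have hc0 : c ≠ 0 := by
      intro h
      have := congrArg Matrix.det hz
      rw [Matrix.det_pow, hX, x.2, ← hc, h, zero_pow (by decide), zero_smul, one_pow] at this
      simp at this
    let N := c⁻¹ • X - 1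
    have hN : N ^ 3 = 0 := by
      show (c⁻¹ • X - 1) ^ 3 = 0
      rw [sub_pow_char_of_commute 3 (Commute.one_right _), one_pow, smul_pow, hz, ← hc, smul_smul, inv_pow,
        inv_mul_cancel₀ (pow_ne_zero _ hc0), one_smul, sub_self]
    obtain ⟨μ, hμ⟩ := Lib.KnownSimple.exists_parts N ⟨3, hN⟩
    obtain ⟨A₀, ⟨l, hl⟩, hA₀⟩ := Lib.KnownSimple.exists_nilpotent_of_partition (F := F₀) μ
    have hAnil : IsNilpotent (A₀.map F₀.subtype) := ⟨l, by
      rw [show (A₀.map F₀.subtype) = F₀.subtype.mapMatrix A₀ from rfl, ← map_pow, hl, map_zero]⟩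
    obtain ⟨u, hu⟩ := conj_similar (Lib.KnownSimple.isConj_of_rank_pow ⟨3, hN⟩ hAnil fun i => by
      have h1 := hμ i
      have h2 := hA₀ i
      rw [show (A₀.map F₀.subtype) ^ i = (A₀ ^ i).map F₀.subtype from (map_pow F₀.subtype.mapMatrix A₀ i).symm,
        Lib.LinClasses.rank_map_field]
      omega)
    set t := (u : Matrix (Fin n) (Fin n) F).det with ht_def
    have ht : t ≠ 0 := ((Matrix.isUnit_iff_isUnit_det _).1 u.isUnit).ne_zero
    -- adjust the determinant
    obtain ⟨g, Dd, hgN, hd⟩ : ∃ (g : GL (Fin n) F) (Dd : GL (Fin n) F₀), Commute (g : Matrix (Fin n) (Fin n) F) N ∧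
        (g : Matrix (Fin n) (Fin n) F).det * ((Dd : Matrix (Fin n) (Fin n) F₀).det : F) = t := by
      by_cases hsp : N ^ 2 = 0 ∧ 2 * N.rank = n
      · obtain ⟨h2, hr⟩ := hsp
        have hne : Even n := ⟨N.rank, by omega⟩
        have hko : Odd k := hk.odd_of_ne_two (by
          rcases hrhs with h | ⟨-, h⟩
          · exact absurd hne (Nat.not_even_iff_odd.2 h)
          · omega)
        have hN0 : N ≠ 0 := fun h => by rw [h, Matrix.rank_zero] at hr; omega
        obtain ⟨d, hdF, s, hs, hsd⟩ : ∃ d : F₀, d ≠ 0 ∧ ∃ s : F, s ≠ 0 ∧ s ^ 2 * (d : F) = t := by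
          by_cases htsq : IsSquare t
          · obtain ⟨s, hs⟩ := htsq
            exact ⟨1, one_ne_zero, s, fun h => ht (by rw [hs, h, mul_zero]), by simp [hs, pow_two]⟩
          · obtain ⟨d, hd⟩ := FiniteField.exists_nonsquare hF03
            have hd0 : d ≠ 0 := fun h => hd (h ▸ IsSquare.zero)
            have hd0' : (d : F) ≠ 0 := fun h => hd0 (Subtype.ext h)
            have hdn : (d : F) ^ (Fintype.card F / 2) = -1 := by
              obtain ⟨o, ho, hfac⟩ := geom_factor q₀ k hko hq0o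
              have h1 : (d : F) ^ (q₀ / 2) = -1 := by
                rcases FiniteField.pow_dichotomy hF03 hd0 with h | h
                · exact absurd ((FiniteField.isSquare_iff hF03 hd0).2 h) hd
                · rw [hF₀'] at h
                  simpa using congrArg Subtype.val h
              have h2 : q / 2 = (q₀ / 2) * o := by
                obtain ⟨i, hi⟩ := hq0o
                have h3 : q - 1 = 2 * (i * o) := by
                  rw [hqk, hfac, hi, show 2 * i + 1 - 1 = 2 * i by omega]; ring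
                obtain ⟨j, hj⟩ := hqo
                rw [show q₀ / 2 = i by omega]
                omega
              rw [hq, h2, pow_mul, h1, ho.neg_one_pow]
            have htd : IsSquare (t * (d : F)) := by
              rw [FiniteField.isSquare_iff hF3 (mul_ne_zero ht hd0'), mul_pow, hdn]
              rcases FiniteField.pow_dichotomy hF3 ht with h | h
              · exact absurd ((FiniteField.isSquare_iff hF3 ht).2 h) htsq
              · rw [h]; ring
            obtain ⟨s, hs⟩ := htd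
            refine ⟨d, hd0, s / d, div_ne_zero (fun h => mul_ne_zero ht hd0' (by rw [hs, h, mul_zero])) hd0', ?_⟩
            field_simp
            linear_combination -hs
        obtain ⟨g, hg, hgd⟩ := Lib.LinClasses.exists_commute_det_sq N h2 hN0 hs
        have hdd : (Matrix.diagonal (Function.update (1 : Fin n → F₀) ⟨0, by omega⟩ d)).det = d := by
          rw [Matrix.det_diagonal, Finset.prod_update_of_mem (Finset.mem_univ _)]; simp
        exact ⟨g, Matrix.nonsingInvUnit _ (by rw [hdd]; exact isUnit_iff_ne_zero.2 hdF), hg, by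
          rw [hgd]
          show s ^ 2 * ((Matrix.diagonal _).det : F₀) = t
          rw [hdd, hsd]⟩
      · obtain ⟨g, hg, hgd⟩ := Lib.LinClasses.exists_commute_det N hN hcube hsp ht
        exact ⟨g, 1, hg, by simp [hgd]⟩
    let D : GL (Fin n) F := Matrix.GeneralLinearGroup.map F₀.subtype Dd
    let P : GL (Fin n) F := g * u⁻¹ * D
    have hDd : (D : Matrix (Fin n) (Fin n) F).det = ((Dd : Matrix (Fin n) (Fin n) F₀).det : F) := (F₀.subtype.map_det _).symm
    have hPd : (P : Matrix (Fin n) (Fin n) F).det = 1 := by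
      simp only [P, Units.val_mul, Matrix.det_mul, hDd]
      rw [mul_right_comm, hd, ht_def, ← Matrix.det_mul, ← Units.val_mul, mul_inv_cancel, Units.val_one, Matrix.det_one]
    let PS : Matrix.SpecialLinearGroup (Fin n) F := ⟨(P : Matrix (Fin n) (Fin n) F), hPd⟩
    have hPG : Matrix.SpecialLinearGroup.toGL PS = P := Units.ext rfl
    refine ⟨PS, ?_⟩
    have hX' : X = c • (1 + N) := by
      show X = c • (1 + (c⁻¹ • X - 1))
      rw [add_sub_cancel, smul_smul, mul_inv_cancel₀ hc0, one_smul]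
    have hconjN : ((P⁻¹ : GL (Fin n) F) : Matrix (Fin n) (Fin n) F) * N * (P : Matrix (Fin n) (Fin n) F) =
        ((D⁻¹ : GL (Fin n) F) : Matrix (Fin n) (Fin n) F) * A₀.map F₀.subtype * (D : Matrix (Fin n) (Fin n) F) := by
      have h1 : N * (g : Matrix (Fin n) (Fin n) F) = (g : Matrix (Fin n) (Fin n) F) * N := hgN.eq.symm
      have h2 : (u : Matrix (Fin n) (Fin n) F) * N * ((u⁻¹ : GL (Fin n) F) : Matrix (Fin n) (Fin n) F) = A₀.map F₀.subtype := by
        rw [hu, mul_assoc, ← Units.val_mul, mul_inv_cancel, Units.val_one, mul_one]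
      have h4 : ((g⁻¹ : GL (Fin n) F) : Matrix (Fin n) (Fin n) F) * N * (g : Matrix (Fin n) (Fin n) F) = N := by
        rw [mul_assoc, h1, ← mul_assoc, ← Units.val_mul, inv_mul_cancel, Units.val_one, one_mul]
      rw [← h2, show P⁻¹ = D⁻¹ * u * g⁻¹ by simp [P, _root_.mul_inv_rev, mul_assoc]]
      conv_rhs => rw [← h4]
      simp only [P, Units.val_mul, mul_assoc]
    rw [Subgroup.mem_comap]
    let B₀ : Matrix (Fin n) (Fin n) F₀ := 1 + ((Dd⁻¹ : GL (Fin n) F₀) : Matrix (Fin n) (Fin n) F₀) * A₀ * (Dd : Matrix (Fin n) (Fin n) F₀)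
    refine mem_of_eq F₀ _ c hc0 (B₀.map F₀.subtype) (fun i j => (B₀ i j).2) ?_
    rw [map_mul, map_mul, map_inv, hPG]
    simp only [Units.val_mul]
    show ((P⁻¹ : GL (Fin n) F) : Matrix (Fin n) (Fin n) F) * X * (P : Matrix (Fin n) (Fin n) F) = _
    rw [hX', mul_smul_comm, smul_mul_assoc, mul_add, mul_one, add_mul, hconjN, ← Units.val_mul, inv_mul_cancel, Units.val_one]
    show c • (1 + _) = c • F₀.subtype.mapMatrix B₀
    simp only [B₀, map_add, map_one, map_mul]
    rfl

end Cfsg.Agent.S5966
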