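import Cfsg.Statements.S5967
import Mathlib
import Cfsg.Agent.Lib.LinClasses.SquareRoot
import Cfsg.Agent.Lib.LinClasses.SympBasis
import Cfsg.Agent.Lib.LinClasses.TwoPart
set_option autoImplicit false
open scoped MatrixGroups
open Cfsg

namespace Cfsg.Agent.S5967

open scoped Matrix
open Cfsg.Agent.Lib.LinClasses

/-- The unipotent model sits blockwise. -/
lemma charTwo_blocks {F : Type*} [Field F] (s : F) (r l : ℕ) :
    ∃ σ : Fin 2 × Fin (r + l) ≃ Cfsg.Agent.Lib.SquareZero.SqIdx r (l + l),
      Matrix.reindex σ.symm σ.symm (Cfsg.Agent.Lib.SquareZero.model F r (l + l) + s • 1) =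
        Matrix.blockDiagonal (Fin.addCases (fun _ => !![s, 1; 0, s]) (fun _ => !![s, 0; 0, s])) := by
  let σ : Cfsg.Agent.Lib.SquareZero.SqIdx r (l + l) ≃ Fin 2 × Fin (r + l) :=
    { toFun := Sum.elim (fun i => (1, Fin.castAdd l i))
        (Sum.elim (Fin.addCases (fun i => (0, Fin.natAdd r i)) (fun i => (1, Fin.natAdd r i)))
          (fun i => (0, Fin.castAdd l i)))
      invFun := fun p => Fin.addCases (fun i => if p.1 = 0 then Sum.inr (Sum.inr i) else Sum.inl i)
        (fun i => if p.1 = 0 then Sum.inr (Sum.inl (Fin.castAdd l i)) else Sum.inr (Sum.inl (Fin.natAdd l i))) p.2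
      left_inv := by
        rintro (i | k | i)
        · simp
        · refine Fin.addCases (fun i => ?_) (fun i => ?_) k <;> simp [-Fin.natAdd_eq_addNat]
        · simp
      right_inv := by
        rintro ⟨c, j⟩
        refine Fin.addCases (fun i => ?_) (fun i => ?_) j <;> fin_cases c <;> simp [-Fin.natAdd_eq_addNat] }
  have h1 : ∀ (i : Fin r) (k : Fin l), Fin.castAdd l i ≠ Fin.natAdd r k := fun i k h => by
    have h' := congrArg Fin.val h
    simp only [Fin.val_castAdd, Fin.val_natAdd] at h'
    omega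
  have h2 : ∀ (i : Fin r) (k : Fin l), Fin.natAdd r k ≠ Fin.castAdd l i := fun i k => (h1 i k).symm
  have h3 : ∀ (i k : Fin l), Fin.castAdd l i ≠ Fin.natAdd l k := fun i k h => by
    have h' := congrArg Fin.val h
    simp only [Fin.val_castAdd, Fin.val_natAdd] at h'
    omega
  have h4 : ∀ (i k : Fin l), Fin.natAdd l k ≠ Fin.castAdd l i := fun i k => (h3 i k).symm
  refine ⟨σ.symm, ?_⟩
  ext p p'
  obtain ⟨t, rfl⟩ := σ.surjective p
  obtain ⟨t', rfl⟩ := σ.surjective p'
  rw [Matrix.reindex_apply, Matrix.submatrix_apply, Equiv.symm_symm, Equiv.symm_apply_apply,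
    Equiv.symm_apply_apply, Matrix.blockDiagonal_apply]
  rcases t with i | k | i <;> rcases t' with i' | k' | i'
  all_goals try (refine Fin.addCases (fun i => ?_) (fun i => ?_) k)
  all_goals try (refine Fin.addCases (fun i' => ?_) (fun i' => ?_) k')
  all_goals simp [σ, Cfsg.Agent.Lib.SquareZero.model, Matrix.one_apply, Fin.castAdd_inj, Fin.natAdd_inj, h1, h2, h3, h4, -Fin.natAdd_eq_addNat]
  all_goals (try split_ifs) <;> simp_all

/-- Involutions of PSL_n(q) and the symplectic-type subgroups. Here `T = PSL_n(F)` for a field `F` with `q` elements, `n ≥ 4` even, `f` is a nondegenerate alternating form on `F^n`, and `H` is the subgroup of matrices of determinant 1 preserving `f` up to a scalar — a maximal subgroup of type Sp_n(q); Ω is the set of `T`-conjugates of `H` (cosets of `H`), so an element of `T` of prime order `r` (a matrix `x` of determinant 1 with `x^r` scalar, `x` not scalar) fixes a point of Ω when some conjugate of `x` by a matrix of determinant 1 preserves `f` up to a scalar. Suppose the index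 of `H` is even. Then every involution of `T` is conjugate in `T` into `H` if and only if `(q − 1)_2 ≤ (n)_2`. -/
theorem result {F : Type*} [Field F] [Fintype F] {p : ℕ} [Fact p.Prime] [CharP F p] {q : ℕ} (hq : Fintype.card F = q)
    (n : ℕ) (hn : 4 ≤ n) (he : Even n) (f : (Fin n → F) → (Fin n → F) → F) (hf : Cfsg.Geo.IsSymplecticForm f)
    (hΩ : 2 ∣ ((Cfsg.Geo.similarityGroup f).comap (Matrix.SpecialLinearGroup.toGL : Matrix.SpecialLinearGroup (Fin n) F →* GL (Fin n) F)).index) :
    (∀ x : Matrix.SpecialLinearGroup (Fin n) F,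
      (∃ z : F, ((x ^ 2 : Matrix.SpecialLinearGroup (Fin n) F) : Matrix (Fin n) (Fin n) F) = z • (1 : Matrix (Fin n) (Fin n) F)) →
      (∀ z : F, (x : Matrix (Fin n) (Fin n) F) ≠ z • (1 : Matrix (Fin n) (Fin n) F)) →
      ∃ P : Matrix.SpecialLinearGroup (Fin n) F, P⁻¹ * x * P ∈ ((Cfsg.Geo.similarityGroup f).comap (Matrix.SpecialLinearGroup.toGL : Matrix.SpecialLinearGroup (Fin n) F →* GL (Fin n) F))) ↔
    padicValNat 2 (q - 1) ≤ padicValNat 2 n := by
  classical
  obtain ⟨b, hb, Φ, hΦ⟩ := exists_symp_basis hf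
  rw [Fintype.card_fin] at hb
  have hsq : ∀ x : Matrix.SpecialLinearGroup (Fin n) F,
      ((x ^ 2 : Matrix.SpecialLinearGroup (Fin n) F) : Matrix (Fin n) (Fin n) F) =
        (x : Matrix (Fin n) (Fin n) F) * (x : Matrix (Fin n) (Fin n) F) := fun x => by
    rw [Matrix.SpecialLinearGroup.coe_pow, pow_two]
  have into : ∀ (x : Matrix.SpecialLinearGroup (Fin n) F) (B : Fin b → Matrix (Fin 2) (Fin 2) F) (c : F), c ≠ 0 →
      (∀ j, (B j).det = c) → IsModel (x : Matrix (Fin n) (Fin n) F) (Matrix.blockDiagonal B) →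
      ∀ {κ : Type} [Fintype κ] [DecidableEq κ] (M : Matrix κ κ F), IsModel (x : Matrix (Fin n) (Fin n) F) M →
        (∀ z : Matrix (Fin n) (Fin n) F, IsModel z (Matrix.blockDiagonal B) → IsModel z M) → HasDetCentralizer M →
      ∃ P : Matrix.SpecialLinearGroup (Fin n) F, P⁻¹ * x * P ∈ ((Cfsg.Geo.similarityGroup f).comap
        (Matrix.SpecialLinearGroup.toGL : Matrix.SpecialLinearGroup (Fin n) F →* GL (Fin n) F)) := by
    intro x B c hc hB hxB κ _ _ M hxM hBM hM
    obtain ⟨y, hy, hyd⟩ := exists_isModel Φ (Matrix.blockDiagonal B)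
    have hyd1 : y.det = 1 := by rw [hyd, ← hxB.det_eq]; exact x.2
    let ys : Matrix.SpecialLinearGroup (Fin n) F := ⟨y, hyd1⟩
    obtain ⟨P, hP⟩ := exists_SL_conj (y := ys) hxM (hBM y ⟨Φ, hy⟩) hM
    refine ⟨P, ?_⟩
    rw [hP]
    exact ⟨Units.mk0 c hc, similitude_of_blocks Φ hΦ B c hB y hy⟩
  have hfc : Fintype.card F = q := hq
  constructor
  · intro hall
    by_contra hlt
    push Not at hlt
    have hq1 : 1 < padicValNat 2 (q - 1) + 1 := by omega
    have h2 : (2 : F) ≠ 0 := by
      intro h
      have hp2 : p ∣ 2 := (CharP.cast_eq_zero_iff F p 2).mp (by exact_mod_cast h)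
      have hp := (Nat.prime_dvd_prime_iff_eq Fact.out Nat.prime_two).mp hp2
      obtain ⟨k, -, hk⟩ := FiniteField.card F p
      have hqe : 2 ∣ q := by rw [← hfc, hk, hp]; exact dvd_pow_self _ k.ne_zero
      have hqpos : 0 < q := hfc ▸ Fintype.card_pos
      have : padicValNat 2 (q - 1) = 0 := padicValNat.eq_zero_of_not_dvd (by omega)
      omega
    obtain ⟨s, hs⟩ := (exists_pow_eq_neg_one_iff h2 (show n ≠ 0 by omega)).mpr (hfc.symm ▸ hlt)
    have hs0 : s ≠ 0 := fun h => by rw [h, zero_pow (by omega)] at hs; exact neg_ne_zero.mpr one_ne_zero hs.symm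
    let i₀ : Fin n := ⟨0, by omega⟩
    let i₁ : Fin n := ⟨1, by omega⟩
    let i₂ : Fin n := ⟨2, by omega⟩
    let d : Fin n → F := Function.update (fun _ => s) i₀ (-s)
    have hd0 : d i₀ = -s := Function.update_self ..
    have hd1 : ∀ i, i ≠ i₀ → d i = s := fun i hi => Function.update_of_ne hi ..
    have hdet : (Matrix.diagonal d).det = 1 := by
      rw [Matrix.det_diagonal, Finset.prod_update_of_mem (Finset.mem_univ i₀), Finset.prod_const,
        Finset.card_sdiff]
      simp only [Finset.singleton_inter_of_mem (Finset.mem_univ i₀), Finset.card_singleton, Finset.card_univ,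
        Fintype.card_fin]
      rw [neg_mul, ← pow_succ', show n - 1 + 1 = n by omega, hs, neg_neg]
    let x : Matrix.SpecialLinearGroup (Fin n) F := ⟨Matrix.diagonal d, hdet⟩
    have hss : ∀ i, d i * d i = s * s := fun i => by
      by_cases h : i = i₀
      · rw [h, hd0]; ring
      · rw [hd1 i h]
    have hne : (-s : F) ≠ s := fun h => h2 (by
      have : (2 : F) * s = 0 := by linear_combination -h
      exact (mul_eq_zero.mp this).resolve_right hs0)
    obtain ⟨P, hP⟩ := hall x ⟨s * s, by
      rw [hsq]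
      change Matrix.diagonal d * Matrix.diagonal d = _
      rw [Matrix.diagonal_mul_diagonal, Matrix.smul_one_eq_diagonal]
      exact congrArg _ (funext hss)⟩ (fun z hz => by
        have h0 := congrFun (congrFun hz i₀) i₀
        have h1 := congrFun (congrFun hz i₁) i₁
        simp [x, hd0, hd1 i₁ (by simp [i₀, i₁, Fin.ext_iff])] at h0 h1
        exact hne (h0.trans h1.symm))
    obtain ⟨c, hc⟩ := hP
    let Bf := sympToBilin hf
    let Pi' : Matrix (Fin n) (Fin n) F := ((P⁻¹ : Matrix.SpecialLinearGroup (Fin n) F) : Matrix (Fin n) (Fin n) F)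
    let Pm : Matrix (Fin n) (Fin n) F := (P : Matrix (Fin n) (Fin n) F)
    have hPP : ∀ v, Pm *ᵥ (Pi' *ᵥ v) = v := fun v => by
      rw [Matrix.mulVec_mulVec, ← Matrix.SpecialLinearGroup.coe_mul, mul_inv_cancel,
        Matrix.SpecialLinearGroup.coe_one, Matrix.one_mulVec]
    have hPP' : ∀ v, Pi' *ᵥ (Pm *ᵥ v) = v := fun v => by
      rw [Matrix.mulVec_mulVec, ← Matrix.SpecialLinearGroup.coe_mul, inv_mul_cancel,
        Matrix.SpecialLinearGroup.coe_one, Matrix.one_mulVec]
    let f' : LinearMap.BilinForm F (Fin n → F) := Bf.compl₁₂ Pi'.mulVecLin Pi'.mulVecLin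
    have hf' : ∀ u v, f' u v = f (Pi' *ᵥ u) (Pi' *ᵥ v) := fun u v => rfl
    have hinv : ∀ u v, f' (Matrix.diagonal d *ᵥ u) (Matrix.diagonal d *ᵥ v) = (c : F) * f' u v := by
      intro u v
      have h := hc (Pi' *ᵥ u) (Pi' *ᵥ v)
      have key : ∀ w, (((Matrix.SpecialLinearGroup.toGL (P⁻¹ * x * P)) : GL (Fin n) F) :
          Matrix (Fin n) (Fin n) F) *ᵥ (Pi' *ᵥ w) = Pi' *ᵥ (Matrix.diagonal d *ᵥ w) := by
        intro w
        change ((P⁻¹ * x * P : Matrix.SpecialLinearGroup (Fin n) F) : Matrix (Fin n) (Fin n) F) *ᵥ _ = _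
        rw [Matrix.SpecialLinearGroup.coe_mul, Matrix.SpecialLinearGroup.coe_mul, ← Matrix.mulVec_mulVec,
          ← Matrix.mulVec_mulVec, hPP]
      rw [key, key] at h
      rw [hf', hf', h]
    let e : Fin n → (Fin n → F) := fun i => Pi.single i 1
    have hpair : ∀ i j, f' (e i) (e j) ≠ 0 → d i * d j = c := by
      intro i j hij
      have h := hinv (e i) (e j)
      have hde : ∀ i, Matrix.diagonal d *ᵥ e i = d i • e i := fun i => by
        funext k
        rw [Matrix.mulVec_diagonal]
        by_cases hk : k = i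
        · subst hk; simp [e]
        · simp [e, hk]
      rw [hde, hde, map_smul, map_smul, LinearMap.smul_apply, smul_eq_mul, smul_eq_mul] at h
      exact mul_right_cancel₀ hij (by linear_combination h)
    have hnd : ∀ u, (∀ k, f' u (e k) = 0) → u = 0 := by
      intro u hu
      have hu' : f' u = 0 := (Pi.basisFun F (Fin n)).ext fun k => by
        rw [Pi.basisFun_apply]; exact hu k
      by_contra h0
      have hne : Pi' *ᵥ u ≠ 0 := fun h => h0 (by rw [← hPP u, h, Matrix.mulVec_zero])
      obtain ⟨-, y, hy⟩ := hf.nondegenerate _ hne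
      apply hy
      have := LinearMap.congr_fun hu' (Pm *ᵥ y)
      rwa [hf', hPP', LinearMap.zero_apply] at this
    have he0 : e i₀ ≠ 0 := fun h => by simpa [e] using congrFun h i₀
    obtain ⟨j, hj⟩ : ∃ j, f' (e i₀) (e j) ≠ 0 := by
      by_contra h
      push Not at h
      exact he0 (hnd _ h)
    have hj0 : j ≠ i₀ := fun h => hj (by rw [h, hf']; exact hf.alternating _)
    have hc' : (c : F) = -(s * s) := by
      rw [← hpair i₀ j hj, hd0, hd1 j hj0]; ring
    have honly : ∀ i k, i ≠ i₀ → k ≠ i₀ → f' (e i) (e k) = 0 := by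
      intro i k hi hk
      by_contra h
      have := hpair i k h
      rw [hd1 i hi, hd1 k hk, hc'] at this
      exact h2 ((mul_eq_zero.mp (show (2 : F) * (s * s) = 0 by linear_combination this)).resolve_right
        (mul_ne_zero hs0 hs0))
    have h10 : i₁ ≠ i₀ := by simp [i₀, i₁, Fin.ext_iff]
    have h20 : i₂ ≠ i₀ := by simp [i₀, i₂, Fin.ext_iff]
    set α := f' (e i₁) (e i₀)
    set β := f' (e i₂) (e i₀)
    have hz : β • e i₁ - α • e i₂ = 0 := by
      refine hnd _ fun k => ?_
      rw [map_sub, map_smul, map_smul, LinearMap.sub_apply, LinearMap.smul_apply, LinearMap.smul_apply]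
      by_cases hk : k = i₀
      · subst hk; simp [α, β]; ring
      · rw [honly i₁ k h10 hk, honly i₂ k h20 hk]; simp
    have hβ : β = 0 := by simpa [e, i₁, i₂, Fin.ext_iff] using congrFun hz i₁
    have : e i₂ = 0 := hnd _ fun k => by
      by_cases hk : k = i₀
      · subst hk; exact hβ
      · exact honly i₂ k h20 hk
    simpa [e] using congrFun this i₂
  · intro hle x hzx hns
    obtain ⟨z, hz⟩ := hzx
    rw [hsq] at hz
    set X := (x : Matrix (Fin n) (Fin n) F) with hX
    have hz0 : z ≠ 0 := by
      rintro rfl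
      have := congrArg Matrix.det hz
      rw [Matrix.det_mul, hX, x.2, zero_smul, @Matrix.det_zero (Fin n) _ _ F _ ⟨⟨0, by omega⟩⟩, mul_one] at this
      exact one_ne_zero this
    by_cases h2 : (2 : F) = 0
    · haveI : CharP F 2 := (CharP.charP_iff_prime_eq_zero Nat.prime_two).mpr (by exact_mod_cast h2)
      obtain ⟨s, hs⟩ := FiniteField.isSquare_of_char_two (ringChar.eq F 2) z
      rw [hs] at hz
      obtain ⟨r, k, hrk, hmod⟩ := exists_isModel_charTwo hz
      rw [Fintype.card_fin] at hrk
      have hr0 : r ≠ 0 := by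
        rintro rfl
        obtain ⟨Ψ, hΨ⟩ := hmod
        apply hns s
        refine Matrix.toLin'.injective (LinearMap.ext fun v => ?_)
        obtain ⟨w, rfl⟩ := Ψ.surjective v
        rw [Matrix.toLin'_apply, Matrix.toLin'_apply, hΨ, Matrix.smul_mulVec, Matrix.one_mulVec,
          Matrix.add_mulVec, Matrix.smul_mulVec, Matrix.one_mulVec]
        have h0 : (Cfsg.Agent.Lib.SquareZero.model F 0 k) = 0 := by
          ext i j
          rcases i with i | i | i <;> first | exact i.elim0 | (rcases j with j | j | j <;> first | exact j.elim0 | rfl)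
        rw [h0, Matrix.zero_mulVec, zero_add, map_smul]
      obtain ⟨l, hl⟩ : ∃ l, k = l + l := ⟨k / 2, by omega⟩
      subst hl
      obtain rfl : b = r + l := by omega
      obtain ⟨σ, hσ⟩ := charTwo_blocks s r l
      have hxB := hmod.reindex σ
      rw [hσ] at hxB
      refine into x _ (s * s) (hs ▸ hz0) (fun j => ?_) hxB _ hmod (fun y hy => ?_) (hasDetCentralizer_charTwo hr0 s)
      · refine Fin.addCases (fun j => ?_) (fun j => ?_) j <;> simp [Matrix.det_fin_two_of]
      · rw [← hσ] at hy
        exact hy.trans (isModel_reindex _ σ.symm)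
    · have hnopow : ¬ ∃ s : F, s ^ n = -1 := by
        rw [exists_pow_eq_neg_one_iff h2 (by omega), hfc]
        omega
      by_cases hsqz : IsSquare z
      · obtain ⟨s, hs⟩ := hsqz
        rw [hs] at hz
        have hs0 : s ≠ 0 := fun h => hz0 (by rw [hs, h, zero_mul])
        have hss : s + s ≠ 0 := by
          rw [← two_mul]
          exact mul_ne_zero h2 hs0
        obtain ⟨a, c, hac, hmod⟩ := exists_isModel_split hss hz
        rw [Fintype.card_fin] at hac
        have hdet := hmod.det_eq
        rw [hX, x.2, Matrix.det_diagonal, Fintype.prod_sum_type] at hdet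
        simp only [Sum.elim_inl, Sum.elim_inr, Finset.prod_const, Finset.card_univ, Fintype.card_fin] at hdet
        rw [neg_pow, mul_left_comm, ← pow_add, hac] at hdet
        have hce : Even c := by
          rcases Nat.even_or_odd c with h | h
          · exact h
          · rw [h.neg_one_pow] at hdet
            exact absurd ⟨s, by linear_combination hdet⟩ hnopow
        obtain ⟨c', hc'⟩ := hce
        obtain ⟨a', ha'⟩ : ∃ a', a = a' + a' := by
          obtain ⟨n', hn'⟩ := he
          exact ⟨a / 2, by omega⟩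
        obtain rfl : b = a' + c' := by omega
        let σ : Fin 2 × Fin (a' + c') ≃ Fin a ⊕ Fin c :=
          (Equiv.prodCongr (Equiv.refl _) finSumFinEquiv.symm).trans ((Equiv.prodSumDistrib _ _ _).trans
            (Equiv.sumCongr (finProdFinEquiv.trans (finCongr (by omega))) (finProdFinEquiv.trans (finCongr (by omega)))))
        let cs : Fin (a' + c') → F := Fin.addCases (fun _ => s) (fun _ => -s)
        let B : Fin (a' + c') → Matrix (Fin 2) (Fin 2) F := fun j => Matrix.diagonal fun _ => cs j
        have hcs : ∀ p : Fin 2 × Fin (a' + c'), cs p.2 = Sum.elim (fun _ : Fin a => s) (fun _ : Fin c => -s) (σ p) := by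
          rintro ⟨i, j⟩
          refine Fin.addCases (fun j => ?_) (fun j => ?_) j <;> simp [cs, σ]
        have hBdiag : Matrix.blockDiagonal B =
            Matrix.diagonal (fun p : Fin 2 × Fin (a' + c') => Sum.elim (fun _ => s) (fun _ => -s) (σ p)) := by
          rw [Matrix.blockDiagonal_diagonal]
          exact congrArg _ (funext hcs)
        have hxB : IsModel X (Matrix.blockDiagonal B) := by
          rw [hBdiag]
          exact hmod.diagonal_congr σ (fun p => rfl)
        haveI : Nonempty (Fin a ⊕ Fin c) := Fintype.card_pos_iff.mp (by simp; omega)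
        refine into x B (s * s) (mul_ne_zero hs0 hs0) (fun j => ?_) hxB _ hmod (fun y hy => ?_)
          (hasDetCentralizer_diagonal _)
        · refine Fin.addCases (fun j => ?_) (fun j => ?_) j <;> simp [B, cs, Matrix.det_diagonal, Fin.prod_univ_two, pow_two]
        · rw [hBdiag] at hy
          exact hy.diagonal_congr σ.symm (fun p => by simp)
      · obtain ⟨b', hb', hmod⟩ := exists_isModel_rot hsqz hz
        rw [Fintype.card_fin] at hb'
        obtain rfl : b' = b := by omega
        refine into x _ (-z) (neg_ne_zero.mpr hz0) (fun j => by simp [Matrix.det_fin_two_of]) hmod _ hmod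
          (fun y hy => hy) (hasDetCentralizer_rotBlock hsqz (by omega))

end Cfsg.Agent.S5967
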