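import Cfsg.Statements.S5968
import Mathlib
import Cfsg.Agent.Lib.LinClasses.AltDerange
import Cfsg.Agent.Lib.Classical.Symplectic
import Cfsg.Agent.Lib.LinGroup.Order

set_option autoImplicit false
open scoped MatrixGroups
open Cfsg
open scoped Matrix
open Cfsg.Agent.Lib.LinClasses

namespace Cfsg.Agent.S5968

theorem prod_pow_sub_one_split (q b : ℕ) :
    ∏ j ∈ Finset.range (b + b), (q ^ (j + 1) - 1) =
      (∏ i ∈ Finset.range b, (q ^ (2 * i + 1) - 1)) * ∏ i ∈ Finset.range b, (q ^ (2 * (i + 1)) - 1) := by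
  induction b with
  | zero => simp
  | succ b ih =>
    rw [show b + 1 + (b + 1) = b + b + 1 + 1 by omega, Finset.prod_range_succ, Finset.prod_range_succ, ih,
      Finset.prod_range_succ, Finset.prod_range_succ, show b + b = 2 * b by omega,
      show 2 * b + 1 + 1 = 2 * (b + 1) by omega]
    ring

theorem prod_GL_eq (q n : ℕ) :
    ∃ a, ∏ i : Fin n, (q ^ n - q ^ (i : ℕ)) = q ^ a * ∏ j ∈ Finset.range n, (q ^ (j + 1) - 1) := by
  refine ⟨∑ i ∈ Finset.range n, i, ?_⟩
  rw [Fin.prod_univ_eq_prod_range (fun i => q ^ n - q ^ i), ← Finset.prod_range_reflect (fun j => q ^ (j + 1) - 1),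
    ← Finset.prod_pow_eq_pow_sum, ← Finset.prod_mul_distrib]
  refine Finset.prod_congr rfl fun i hi => ?_
  have := Finset.mem_range.1 hi
  rw [Nat.mul_sub, mul_one, ← pow_add, show i + (n - 1 - i + 1) = n by omega]

/-- a prime dividing the index divides some `q ^ d - 1` with `d` odd, `d < n` -/
theorem exists_odd_of_dvd_index {F : Type*} [Field F] [Fintype F] {n : ℕ} (hn : 1 ≤ n)
    {f : (Fin n → F) → (Fin n → F) → F} (hf : Cfsg.Geo.IsSymplecticForm f) {r : ℕ} (hr : r.Prime)
    (hrq : ¬ r ∣ Fintype.card F)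
    (hΩ : r ∣ ((Cfsg.Geo.similarityGroup f).comap
      (Matrix.SpecialLinearGroup.toGL : Matrix.SpecialLinearGroup (Fin n) F →* GL (Fin n) F)).index) :
    ∃ d, Odd d ∧ d < n ∧ r ∣ Fintype.card F ^ d - 1 := by
  classical
  obtain ⟨b, hb, Φ, hΦ⟩ := exists_symp_basis hf
  rw [Fintype.card_fin] at hb
  subst hb
  set H := (Cfsg.Geo.similarityGroup f).comap
    (Matrix.SpecialLinearGroup.toGL : Matrix.SpecialLinearGroup (Fin (b + b)) F →* GL (Fin (b + b)) F) with hH
  -- embedding of the standard symplectic group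
  let e : Fin 2 × Fin b ≃ Fin b ⊕ Fin b :=
    { toFun := fun p => if p.1 = 0 then Sum.inr p.2 else Sum.inl p.2
      invFun := Sum.elim (fun j => (1, j)) (fun j => (0, j))
      left_inv := fun p => by obtain ⟨i, j⟩ := p; fin_cases i <;> simp
      right_inv := fun p => by cases p <;> simp }
  let Ψ : (Fin b ⊕ Fin b → F) ≃ₗ[F] (Fin (b + b) → F) := (LinearEquiv.funCongrLeft F F e).trans Φ
  have hΨ : ∀ u v, f (Ψ u) (Ψ v) = Cfsg.Agent.Lib.Classical.stdSymp b u v := by
    intro u v
    rw [Cfsg.Agent.Lib.Classical.stdSymp_apply, Cfsg.Agent.Lib.Classical.sympFn_eq]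
    simp only [Ψ, LinearEquiv.trans_apply, hΦ]
    refine Finset.sum_congr rfl fun j _ => ?_
    simp only [LinearEquiv.funCongrLeft_apply, LinearMap.funLeft_apply, e, Equiv.coe_fn_mk]
    simp
  let φ : Matrix.symplecticGroup (Fin b) F →* GL (Fin (b + b)) F :=
    MonoidHom.toHomUnits
      { toFun := fun g => LinearMap.toMatrix' (Ψ.conj (Matrix.toLin' (g : Matrix (Fin b ⊕ Fin b) (Fin b ⊕ Fin b) F)))
        map_one' := by
          simp [LinearEquiv.conj_id, LinearMap.toMatrix'_id]
        map_mul' := fun g h => by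
          rw [Submonoid.coe_mul, Matrix.toLin'_mul, LinearEquiv.conj_comp, LinearMap.toMatrix'_comp] }
  have hφ : ∀ g : Matrix.symplecticGroup (Fin b) F, ∀ v,
      ((φ g : GL (Fin (b + b)) F) : Matrix (Fin (b + b)) (Fin (b + b)) F) *ᵥ Ψ v =
        Ψ ((g : Matrix (Fin b ⊕ Fin b) (Fin b ⊕ Fin b) F) *ᵥ v) := by
    intro g v
    show (LinearMap.toMatrix' _) *ᵥ _ = _
    rw [LinearMap.toMatrix'_mulVec, LinearEquiv.conj_apply_apply, LinearEquiv.symm_apply_apply, Matrix.toLin'_apply]
  have hφinj : Function.Injective φ := by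
    intro g h hgh
    apply Subtype.ext
    apply Matrix.toLin'.injective
    apply Ψ.conj.injective
    exact LinearMap.toMatrix'.injective
      (congrArg (fun u : GL (Fin (b + b)) F => (u : Matrix (Fin (b + b)) (Fin (b + b)) F)) hgh)
  have hφmem : ∀ g, φ g ∈ Cfsg.Geo.similarityGroup f := by
    intro g
    refine ⟨1, fun u v => ?_⟩
    obtain ⟨u, rfl⟩ := Ψ.surjective u
    obtain ⟨v, rfl⟩ := Ψ.surjective v
    rw [hφ, hφ, hΨ, hΨ, Units.val_one, one_mul, Cfsg.Agent.Lib.Classical.stdSymp_apply,
      Cfsg.Agent.Lib.Classical.stdSymp_apply]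
    exact ((Cfsg.Agent.Lib.Classical.symplecticGroupEquiv b) g).2 u v
  let dethom : Matrix.symplecticGroup (Fin b) F →* Fˣ := Matrix.GeneralLinearGroup.det.comp φ
  have hker : Nat.card dethom.ker ∣ Nat.card H := by
    have hdet : ∀ g : dethom.ker,
        ((φ g.1 : GL (Fin (b + b)) F) : Matrix (Fin (b + b)) (Fin (b + b)) F).det = 1 := by
      intro g
      have := congrArg Units.val (MonoidHom.mem_ker.1 g.2)
      simpa [dethom] using this
    let ψ : dethom.ker →* H :=
      { toFun := fun g => ⟨⟨_, hdet g⟩, by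
          show Matrix.SpecialLinearGroup.toGL _ ∈ Cfsg.Geo.similarityGroup f
          convert hφmem g.1 using 1
          exact Units.ext rfl⟩
        map_one' := Subtype.ext (Subtype.ext (by simp))
        map_mul' := fun g h => Subtype.ext (Subtype.ext (by simp; rfl)) }
    refine Subgroup.card_dvd_of_injective ψ fun g h hgh => Subtype.ext (hφinj (Units.ext ?_))
    exact congrArg (fun x : H =>
      ((x : Matrix.SpecialLinearGroup (Fin (b + b)) F) : Matrix (Fin (b + b)) (Fin (b + b)) F)) hgh
  have hSp : Nat.card (Matrix.symplecticGroup (Fin b) F) ∣ Nat.card H * (Fintype.card F - 1) := by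
    rw [← Subgroup.card_mul_index dethom.ker, Subgroup.index_ker, ← Cfsg.Agent.Lib.LinGroup.card_units_eq_sub_one]
    exact Nat.mul_dvd_mul hker (Subgroup.card_subgroup_dvd_card _)
  obtain ⟨D, hD⟩ := hSp
  obtain ⟨a, ha⟩ := prod_GL_eq (Fintype.card F) (b + b)
  have hSL := Cfsg.Agent.Lib.LinGroup.card_SL_mul (F := F) (b + b) hn
  rw [ha, prod_pow_sub_one_split, ← Subgroup.card_mul_index H] at hSL
  rw [Cfsg.Agent.Lib.Classical.natCard_symplecticGroup, Nat.card_eq_fintype_card (α := F)] at hD
  set C := ∏ i ∈ Finset.range b, (Fintype.card F ^ (2 * i + 1) - 1) with hC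
  set E := ∏ i ∈ Finset.range b, (Fintype.card F ^ (2 * (i + 1)) - 1) with hE
  have hq : 2 ≤ Fintype.card F := Fintype.one_lt_card
  have hEpos : 0 < E := Finset.prod_pos fun i _ =>
    Nat.sub_pos_of_lt (Nat.one_lt_pow (by omega) (by omega))
  have hkey : H.index * D * Fintype.card F ^ (b ^ 2) = Fintype.card F ^ a * C := by
    apply Nat.eq_of_mul_eq_mul_right hEpos
    calc H.index * D * Fintype.card F ^ (b ^ 2) * E
        = H.index * (Fintype.card F ^ (b ^ 2) * E * D) := by ring
      _ = H.index * (Nat.card H * (Fintype.card F - 1)) := by rw [← hD]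
      _ = (Fintype.card F - 1) * (Nat.card H * H.index) := by ring
      _ = Fintype.card F ^ a * C * E := by rw [hSL]; ring
  have hdvd : r ∣ Fintype.card F ^ a * C := hkey ▸ dvd_mul_of_dvd_left (dvd_mul_of_dvd_left hΩ D) _
  rcases hr.dvd_mul.1 hdvd with h | h
  · exact absurd (hr.dvd_of_dvd_pow h) hrq
  · obtain ⟨i, hi, hri⟩ := (Prime.dvd_finsetProd_iff hr.prime _).1 h
    exact ⟨2 * i + 1, ⟨i, rfl⟩, by have := Finset.mem_range.1 hi; omega, hri⟩

open Polynomial in
/-- the witness for `r ∣ q ^ d - 1`, `d` odd, `r` prime to `q - 1` -/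
theorem exists_field_no_alt {F : Type*} [Field F] [Fintype F] (p : ℕ) [Fact p.Prime] [CharP F p] {r : ℕ}
    [Fact r.Prime] (hr : r ≠ 2) (hr1 : ¬ r ∣ Fintype.card F - 1) (n d : ℕ) (hd : Odd d) (hdn : d < n)
    (hrd : r ∣ Fintype.card F ^ d - 1) :
    ∃ x : Matrix.SpecialLinearGroup (Fin n) F,
      ((x ^ r : Matrix.SpecialLinearGroup (Fin n) F) : Matrix (Fin n) (Fin n) F) = 1 ∧
      (∀ z : F, (x : Matrix (Fin n) (Fin n) F) ≠ z • 1) ∧
      NoAltSimilitude (x : Matrix (Fin n) (Fin n) F) := by
  classical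
  have hrp : r.Prime := Fact.out
  have : NeZero d := ⟨by rintro rfl; simp at hd⟩
  let L := FiniteField.Extension F p d
  have : Fintype L := Fintype.ofFinite L
  have hroot : ∀ z : F, z ^ r = 1 → z = 1 := by
    intro z hz
    by_contra hne
    have hz0 : z ≠ 0 := fun h => by rw [h, zero_pow hrp.ne_zero] at hz; exact zero_ne_one hz
    have hord : orderOf (Units.mk0 z hz0) = r :=
      orderOf_eq_prime (Units.ext (by simpa using hz)) (fun h => hne (by simpa using congrArg Units.val h))
    have h := orderOf_dvd_natCard (Units.mk0 z hz0)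
    rw [hord, Cfsg.Agent.Lib.LinGroup.card_units_eq_sub_one] at h
    exact hr1 h
  obtain ⟨w, hw⟩ : ∃ w : Lˣ, orderOf w = r := by
    refine exists_prime_orderOf_dvd_card' r ?_
    rw [Nat.card_units, FiniteField.natCard_extension, Nat.card_eq_fintype_card]
    exact hrd
  set ω : L := (w : L) with hω
  have hωr : ω ^ r = 1 := by rw [hω, ← Units.val_pow_eq_pow_val, ← hw, pow_orderOf_eq_one, Units.val_one]
  have hω1 : ω ≠ 1 := fun h => by
    rw [Units.val_eq_one.1 h, orderOf_one] at hw
    exact hrp.ne_one hw.symm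
  let W := Fin (n - d) → F
  let e : (L × W) ≃ₗ[F] (Fin n → F) :=
    LinearEquiv.ofFinrankEq _ _ (by
      rw [Module.finrank_prod, FiniteField.finrank_extension, Module.finrank_pi, Module.finrank_pi,
        Fintype.card_fin, Fintype.card_fin]
      omega)
  let T : Module.End F (L × W) := (LinearMap.mulLeft F ω).prodMap LinearMap.id
  have hTk : ∀ k : ℕ, ∀ v : L × W, (T ^ k) v = (ω ^ k * v.1, v.2) := by
    intro k
    induction k with
    | zero => simp
    | succ k ih => intro v; rw [pow_succ, Module.End.mul_apply, ih]; simp [T, pow_succ, mul_assoc]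
  set x := LinearMap.toMatrix' (e.conj T) with hx
  have hxv : ∀ v, x *ᵥ e v = e (T v) := fun v => by
    rw [hx, LinearMap.toMatrix'_mulVec, LinearEquiv.conj_apply_apply, e.symm_apply_apply]
  have hxpow : x ^ r = 1 := by
    apply Matrix.toLin'.injective
    refine LinearMap.ext fun v => ?_
    obtain ⟨v, rfl⟩ := e.surjective v
    have hk : ∀ k : ℕ, (x ^ k) *ᵥ e v = e ((T ^ k) v) := by
      intro k
      induction k with
      | zero => simp
      | succ k ih =>
        rw [pow_succ', ← Matrix.mulVec_mulVec, ih, hxv, pow_succ' T, Module.End.mul_apply]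
    rw [Matrix.toLin'_apply, hk r, hTk r v, hωr, one_mul, Matrix.toLin'_one, LinearMap.id_apply]
  have hdet : x.det = 1 := hroot _ (by rw [← Matrix.det_pow, hxpow, Matrix.det_one])
  refine ⟨⟨x, hdet⟩, (Matrix.SpecialLinearGroup.coe_pow _ _).trans hxpow, fun z hz => ?_,
    fun B halt hnd c _ hc => ?_⟩
  · have hz' : x = z • 1 := hz
    have hid : ∀ v : L × W, T v = z • v := fun v => e.injective (by
      rw [← hxv, hz', map_smul, Matrix.smul_mulVec, Matrix.one_mulVec])
    have h2 := congrArg Prod.snd (hid (0, fun _ => 1))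
    simp only [T, LinearMap.prodMap_apply, LinearMap.id_apply, Prod.smul_snd] at h2
    have hz1 : z = 1 := by
      have := congrFun h2 ⟨0, by omega⟩
      change (1 : F) = z * 1 at this
      simpa using this.symm
    have h1 := congrArg Prod.fst (hid (1, 0))
    simp only [T, LinearMap.prodMap_apply, LinearMap.mulLeft_apply, mul_one, Prod.smul_fst, hz1, one_smul] at h1
    exact hω1 h1
  · let B' : LinearMap.BilinForm F (L × W) := B.compl₁₂ e.toLinearMap e.toLinearMap
    obtain ⟨u₀, v₀, h0⟩ : ∃ u v, B u v ≠ 0 := by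
      by_contra h
      push Not at h
      have := hnd (e (1, 0)) fun u => h u _
      simp at this
    have hc1 : c = 1 := multiplier_eq_one hroot (x := x) hxpow h0 hc
    subst hc1
    have hTS : ∀ u v, B' (T u) v = B' u ((T ^ (r - 1)) v) := by
      intro u v
      have h : B (x *ᵥ e u) (x *ᵥ e ((T ^ (r - 1)) v)) = 1 * B (e u) (e ((T ^ (r - 1)) v)) := hc _ _
      rw [hxv, hxv, one_mul, ← Module.End.mul_apply, ← pow_succ', Nat.sub_add_cancel hrp.one_le, hTk r v,
        hωr, one_mul] at h
      exact h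
    let m := minpoly F ω * (X - 1)
    have haev : ∀ (k : ℕ) (P : F[X]) (v : L × W),
        aeval (T ^ k) P v = (aeval (ω ^ k) P * v.1, P.eval 1 • v.2) := by
      intro k P
      induction P using Polynomial.induction_on' with
      | add P Q hP hQ => intro v; simp [map_add, hP, hQ, add_mul, add_smul]
      | monomial i a =>
        intro v
        simp [aeval_monomial, ← pow_mul, hTk, Algebra.smul_def, mul_assoc]
    have hmT : aeval T m = 0 := by
      refine LinearMap.ext fun v => ?_
      rw [← pow_one T, haev 1 m v]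
      simp [m, minpoly.aeval]
    have hmS : ∀ v, aeval (T ^ (r - 1)) m v = 0 := by
      intro v
      apply e.map_eq_zero_iff.1
      refine hnd _ fun u => ?_
      obtain ⟨u, rfl⟩ := e.surjective u
      have := aeval_adjoint B' T _ hTS m u v
      rw [hmT] at this
      simpa [B'] using this.symm
    have h1 := congrArg Prod.fst (hmS (1, 0))
    rw [haev] at h1
    simp only [m, map_mul, map_sub, aeval_X, map_one, mul_one, Prod.fst_zero, mul_eq_zero, sub_eq_zero] at h1
    have hne : ω ^ (r - 1) ≠ 1 := fun h => hω1 (by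
      have := hωr; rwa [← Nat.sub_add_cancel hrp.one_le, pow_succ, h, one_mul] at this)
    obtain ⟨σ, hσ⟩ := minpoly.exists_algEquiv_of_root' (Algebra.IsAlgebraic.isAlgebraic ω) (h1.resolve_right hne)
    have hσ2 : ∀ i : ℕ, (σ ^ i) ω = if Even i then ω else ω ^ (r - 1) := by
      intro i
      induction i with
      | zero => simp
      | succ i ih =>
        rw [pow_succ', AlgEquiv.mul_apply, ih]
        by_cases he : Even i
        · rw [if_pos he, if_neg (by simp [Nat.even_add_one, he]), hσ]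
        · rw [if_neg he, if_pos (by simp [Nat.even_add_one, he]), map_pow, hσ, ← pow_mul]
          have : (r - 1) * (r - 1) = r * (r - 2) + 1 := by
            obtain ⟨t, rfl⟩ : ∃ t, r = t + 2 := ⟨r - 2, by have := hrp.two_le; omega⟩
            simp; ring
          rw [this, pow_succ, pow_mul, hωr, one_pow, one_mul]
    have hσd : σ ^ d = 1 := by
      have h := pow_card_eq_one' (x := σ)
      rwa [FiniteField.natCard_algEquiv_extension] at h
    have h := hσ2 d
    rw [hσd, AlgEquiv.one_apply, if_neg (Nat.not_even_iff_odd.2 hd)] at h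
    have h3 : ω * ω = 1 := by
      nth_rw 1 [h]
      rw [← pow_succ, Nat.sub_add_cancel hrp.one_le, hωr]
    rcases mul_self_eq_one_iff.1 h3 with h4 | h4
    · exact hω1 h4
    · have hodd : Odd r := hrp.odd_of_ne_two hr
      rw [h4, hodd.neg_one_pow] at hωr
      rw [hωr] at h4
      exact hω1 h4


/-- Derangements of odd prime order of PSL_n(q) on the cosets of a symplectic-type subgroup. Here `T = PSL_n(F)` for a field `F` with `q` elements, `n ≥ 4` even, `f` is a nondegenerate alternating form on `F^n`, and `H` is the subgroup of matrices of determinant 1 preserving `f` up to a scalar — a maximal subgroup of type Sp_n(q); Ω is the set of `T`-conjugates of `H` (cosets of `H`), so an element of `T` of prime order `r` (a matrix `x` of determinant 1 with `x^r` scalar, `x` not scalar) fixes a point of Ω when some conjugate of `x` by a matrix of determinant 1 preserves `f` up to a scalar. For every odd prime `r` dividing the index of `H`, with `(n, r) ≠ (6, 3)`, there is an element of `T`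 of order `r` with no conjugate in `H`. (For `n = 6`, `r = 3` this can fail: when `(q − 1)_3 = 3` every element of order 3 is conjugate into `H`.) -/
theorem result {F : Type*} [Field F] [Fintype F] {p : ℕ} [Fact p.Prime] [CharP F p] {q : ℕ} (hq : Fintype.card F = q)
    (n : ℕ) (hn : 4 ≤ n) (he : Even n) (f : (Fin n → F) → (Fin n → F) → F) (hf : Cfsg.Geo.IsSymplecticForm f)
    (r : ℕ) [Fact r.Prime] (hr2 : r ≠ 2) (hgap : ¬ (n = 6 ∧ r = 3)) (hΩ : r ∣ ((Cfsg.Geo.similarityGroup f).comap (Matrix.SpecialLinearGroup.toGL : Matrix.SpecialLinearGroup (Fin n) F →* GL (Fin n) F)).index) :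
    ∃ x : Matrix.SpecialLinearGroup (Fin n) F,
      (∃ z : F, ((x ^ r : Matrix.SpecialLinearGroup (Fin n) F) : Matrix (Fin n) (Fin n) F) = z • (1 : Matrix (Fin n) (Fin n) F)) ∧
      (∀ z : F, (x : Matrix (Fin n) (Fin n) F) ≠ z • (1 : Matrix (Fin n) (Fin n) F)) ∧
      ∀ P : Matrix.SpecialLinearGroup (Fin n) F, P⁻¹ * x * P ∉ ((Cfsg.Geo.similarityGroup f).comap (Matrix.SpecialLinearGroup.toGL : Matrix.SpecialLinearGroup (Fin n) F →* GL (Fin n) F)) := by
  classical
  subst hq
  obtain ⟨m, rfl⟩ : ∃ m, n = m + 3 := ⟨n - 3, by omega⟩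
  have hm : Odd m := by
    rcases Nat.even_or_odd m with h | h
    · obtain ⟨t, rfl⟩ := h; obtain ⟨s, hs⟩ := he; omega
    · exact h
  have hrp : r.Prime := Fact.out
  suffices h : ∃ x : Matrix.SpecialLinearGroup (Fin (m + 3)) F,
      ((x ^ r : Matrix.SpecialLinearGroup (Fin (m + 3)) F) : Matrix (Fin (m + 3)) (Fin (m + 3)) F) = 1 ∧
        (∀ z : F, (x : Matrix (Fin (m + 3)) (Fin (m + 3)) F) ≠ z • 1) ∧
        NoAltSimilitude (x : Matrix (Fin (m + 3)) (Fin (m + 3)) F) by
    obtain ⟨x, hx1, hx2, hx3⟩ := h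
    exact ⟨x, ⟨1, by rw [hx1, one_smul]⟩, hx2, fun P => hx3.not_mem hf P⟩
  by_cases hrp' : r = p
  · subst hrp'
    exact exists_unipotent_no_alt hr2 m
  by_cases hr1 : r ∣ Fintype.card F - 1
  · obtain ⟨w, hw⟩ : ∃ w : Fˣ, orderOf w = r := by
      refine exists_prime_orderOf_dvd_card' r ?_
      rw [Nat.card_units, Nat.card_eq_fintype_card]
      exact hr1
    exact exists_diag_no_alt hr2 (IsPrimitiveRoot.coe_units_iff.2 (hw ▸ IsPrimitiveRoot.orderOf w)) m hm (by omega)
  have hrq : ¬ r ∣ Fintype.card F := by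
    obtain ⟨k, -, hk⟩ := FiniteField.card F p
    intro h
    rw [hk] at h
    exact hrp' ((Nat.prime_dvd_prime_iff_eq hrp Fact.out).1 (hrp.dvd_of_dvd_pow h))
  obtain ⟨d, hd, hdn, hrd⟩ := exists_odd_of_dvd_index (by omega) hf hrp hrq hΩ
  exact exists_field_no_alt p hr2 hr1 _ d hd hdn hrd

end Cfsg.Agent.S5968
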