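import Cfsg.Statements.S5969
import Mathlib
import Cfsg.Agent.Lib.LinClasses.SquareRoot
import Cfsg.Agent.Lib.LinClasses.TwoPart
set_option autoImplicit false
open scoped MatrixGroups
open Cfsg

namespace Cfsg.Agent.S5969

open scoped Matrix
open Cfsg.Agent.Lib.LinClasses

variable {F : Type*} [Field F] {n : ℕ} [NeZero n]

/-- a non-scalar element of a quadratic field subalgebra and its quadratic equation -/
lemma exists_gen (K : Subalgebra F (Matrix (Fin n) (Fin n) F)) (hK : Cfsg.Geo.IsFieldSubalgebra 2 K) :
    ∃ a ∈ K, (∀ c : F, a ≠ c • 1) ∧ (∃ t c : F, a * a = t • a + c • 1) ∧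
      (∀ k ∈ K, ∃ α β : F, k = α • 1 + β • a) := by
  have hli1 : ∃ a ∈ K, ∀ c : F, a ≠ c • 1 := by
    by_contra h
    push Not at h
    have hle : Subalgebra.toSubmodule K ≤ F ∙ (1 : Matrix (Fin n) (Fin n) F) := by
      intro k hk
      obtain ⟨c, rfl⟩ := h k hk
      exact Submodule.smul_mem _ _ (Submodule.mem_span_singleton_self _)
    have h1 := Submodule.finrank_mono hle
    rw [finrank_span_singleton (one_ne_zero : (1 : Matrix (Fin n) (Fin n) F) ≠ 0)] at h1
    have h2 := hK.finrank_eq
    rw [← Subalgebra.finrank_toSubmodule] at h2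
    omega
  obtain ⟨a, ha, hns⟩ := hli1
  have hli : LinearIndependent F ![(1 : Matrix (Fin n) (Fin n) F), a] := by
    rw [linearIndependent_fin2]
    refine ⟨fun h => hns 0 (by simpa using h), fun c h => ?_⟩
    simp at h
    rcases eq_or_ne c 0 with h0 | h0
    · rw [h0, zero_smul] at h; exact one_ne_zero h.symm
    · exact hns c⁻¹ (by rw [← h, smul_smul, inv_mul_cancel₀ h0, one_smul])
  have hle : Submodule.span F (Set.range ![(1 : Matrix (Fin n) (Fin n) F), a]) ≤ Subalgebra.toSubmodule K := by
    rw [Submodule.span_le]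
    rintro _ ⟨i, rfl⟩
    fin_cases i
    · exact K.one_mem
    · exact ha
  have heq := Submodule.eq_of_le_of_finrank_le hle (by
    rw [Subalgebra.finrank_toSubmodule, hK.finrank_eq, finrank_span_eq_card hli, Fintype.card_fin])
  have hall : ∀ k ∈ K, ∃ α β : F, k = α • 1 + β • a := by
    intro k hk
    have : k ∈ Submodule.span F (Set.range ![(1 : Matrix (Fin n) (Fin n) F), a]) := heq ▸ hk
    obtain ⟨g, hg⟩ := (Submodule.mem_span_range_iff_exists_fun F).mp this
    exact ⟨g 0, g 1, by rw [← hg, Fin.sum_univ_two]; rfl⟩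
  obtain ⟨α, β, h⟩ := hall _ (K.mul_mem ha ha)
  exact ⟨a, ha, hns, ⟨β, α, by rw [h, add_comm]⟩, hall⟩

/-- non-zero elements of the field act without kernel -/
lemma eq_zero_of_mulVec {K : Subalgebra F (Matrix (Fin n) (Fin n) F)} (hK : Cfsg.Geo.IsFieldSubalgebra 2 K)
    {k : Matrix (Fin n) (Fin n) F} (hk : k ∈ K) {v : Fin n → F} (hv : v ≠ 0) (h : k *ᵥ v = 0) : k = 0 := by
  by_contra h0
  obtain ⟨j, hj, hkj⟩ := hK.inv k hk h0
  apply hv
  have := congrArg (j *ᵥ ·) h
  simp only [Matrix.mulVec_mulVec, Matrix.mulVec_zero] at this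
  rwa [← hK.comm k hk j hj, hkj, Matrix.one_mulVec] at this

lemma mem_normalizer_of {K : Subalgebra F (Matrix (Fin n) (Fin n) F)} {a : Matrix (Fin n) (Fin n) F} (ha : a ∈ K)
    (hall : ∀ k ∈ K, ∃ α β : F, k = α • 1 + β • a) (g : GL (Fin n) F) (γ δ : F)
    (hg : (g : Matrix (Fin n) (Fin n) F) * a = (γ • 1 + δ • a) * g) (hδ : δ ≠ 0) :
    g ∈ Cfsg.Geo.subalgebraNormalizer K := by
  have hconj : ∀ α β : F, (g : Matrix (Fin n) (Fin n) F) * (α • 1 + β • a) * ((g⁻¹ : GL (Fin n) F) : Matrix (Fin n) (Fin n) F) =
      α • 1 + β • (γ • 1 + δ • a) := by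
    intro α β
    simp only [mul_add, add_mul, mul_smul_comm, smul_mul_assoc, mul_one, ← Units.val_mul, mul_inv_cancel, Units.val_one]
    rw [hg, mul_assoc, ← Units.val_mul, mul_inv_cancel, Units.val_one, mul_one]
  intro k
  constructor
  · intro hk
    obtain ⟨α, β, rfl⟩ := hall k hk
    rw [hconj]
    exact add_mem (Subalgebra.smul_mem _ K.one_mem _)
      (Subalgebra.smul_mem _ (add_mem (Subalgebra.smul_mem _ K.one_mem _) (Subalgebra.smul_mem _ ha _)) _)
  · intro hk
    obtain ⟨α, β, h⟩ := hall _ hk
    have hkey : k = (α - β / δ * γ) • 1 + (β / δ) • a := by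
      apply (g.isUnit).mul_left_cancel
      apply ((g⁻¹ : GL (Fin n) F).isUnit).mul_right_cancel
      rw [h, hconj]
      match_scalars <;> field_simp <;> ring
    rw [hkey]
    exact add_mem (Subalgebra.smul_mem _ K.one_mem _) (Subalgebra.smul_mem _ ha _)

/-- a scalar plus rank one map cannot normalise a quadratic field in dimension > 2 -/
lemma rank_one_not_normalizer {K : Subalgebra F (Matrix (Fin n) (Fin n) F)} (hK : Cfsg.Geo.IsFieldSubalgebra 2 K)
    (hn : 2 < n) (g : GL (Fin n) F) (hg : g ∈ Cfsg.Geo.subalgebraNormalizer K) (s : F) (hs : s ≠ 0)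
    (φ : (Fin n → F) →ₗ[F] F) (u : Fin n → F) (hu : u ≠ 0) (hφ : φ ≠ 0)
    (hgv : ∀ v, (g : Matrix (Fin n) (Fin n) F) *ᵥ v = s • v + φ v • u) : False := by
  obtain ⟨a, ha, hns, -, hall⟩ := exists_gen K hK
  set a' := (g : Matrix (Fin n) (Fin n) F) * a * ((g⁻¹ : GL (Fin n) F) : Matrix (Fin n) (Fin n) F)
  have ha' : a' ∈ K := (hg a).mp ha
  have hrel : ∀ v, (g : Matrix (Fin n) (Fin n) F) *ᵥ (a *ᵥ v) = a' *ᵥ ((g : Matrix (Fin n) (Fin n) F) *ᵥ v) := by
    intro v
    simp only [a', Matrix.mulVec_mulVec, mul_assoc, ← Units.val_mul, inv_mul_cancel, Units.val_one, mul_one]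
  have hrel' : ∀ v, s • ((a' - a) *ᵥ v) = φ (a *ᵥ v) • u - φ v • (a' *ᵥ u) := by
    intro v
    have h := hrel v
    rw [hgv, hgv, Matrix.mulVec_add, Matrix.mulVec_smul, Matrix.mulVec_smul] at h
    rw [Matrix.sub_mulVec, smul_sub]
    linear_combination (norm := module) -h
  by_cases h0 : a' - a = 0
  · obtain ⟨v, hv⟩ : ∃ v, φ v ≠ 0 := by
      by_contra h
      push Not at h
      exact hφ (LinearMap.ext h)
    have h := hrel' v
    rw [h0, Matrix.zero_mulVec, smul_zero, sub_eq_zero.mp h0] at h
    have h' : (a - (φ (a *ᵥ v) / φ v) • 1) *ᵥ u = 0 := by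
      rw [Matrix.sub_mulVec, Matrix.smul_mulVec, Matrix.one_mulVec]
      apply smul_right_injective _ hv
      simp only [smul_sub, smul_smul, smul_zero]
      rw [mul_div_cancel₀ _ hv]
      linear_combination (norm := module) h
    exact hns _ (sub_eq_zero.mp (eq_zero_of_mulVec hK (sub_mem ha (Subalgebra.smul_mem _ K.one_mem _)) hu h'))
  · obtain ⟨j, hj, hkj⟩ := hK.inv _ (sub_mem ha' ha) h0
    have hle : (⊤ : Submodule F (Fin n → F)) ≤ Submodule.span F (Set.range ![u, a' *ᵥ u]) := by
      intro w _
      have h := hrel' (j *ᵥ w)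
      rw [Matrix.mulVec_mulVec, hkj, Matrix.one_mulVec] at h
      have h' : s • w ∈ Submodule.span F (Set.range ![u, a' *ᵥ u]) := by
        rw [h]
        exact sub_mem (Submodule.smul_mem _ _ (Submodule.subset_span ⟨0, rfl⟩))
          (Submodule.smul_mem _ _ (Submodule.subset_span ⟨1, rfl⟩))
      exact (Submodule.smul_mem_iff _ hs).mp h'
    have h1 := Submodule.finrank_mono hle
    have h2 := finrank_range_le_card (R := F) (![u, a' *ᵥ u])
    rw [finrank_top, Module.finrank_fin_fun] at h1
    simp only [Fintype.card_fin] at h2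
    rw [Set.finrank] at h2
    omega

/-- Involutions of PSL_n(q) and extension-field subgroups of degree 2. Here `T = PSL_n(F)` for a field `F` with `q = p^f` elements (`n ≥ 2`, `(n, q) ≠ (2, 2), (2, 3)`), `k` is a prime dividing `n`, `K` is a subalgebra of the `n × n` matrices that is a field of degree `k` over `F` (an extension-field structure F_{q^k} on `F^n`), and `H` is the subgroup of matrices of determinant 1 normalizing `K` — a subgroup of type GL_{n/k}(q^k) (maximal except in some small cases; maximality is not assumed); Ω is the set of cosets of `H` in `T`, so an element of `T` of prime order `r` (a matrix `x` of determinant 1 with `x^r` scalar, `x` not scalar) fixes a point of Ω when some conjugate of `x` by a matrix of determinant 1 normalizes `K`. Take `k = 2` and suppose the index of `H` is even. Then every involution of `T` is conjugate in `T` into `H` if and only if `n = 2`, or `q` is odd and `(q − 1)_2 ≤ (n)_2`. -/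
theorem result {F : Type*} [Field F] [Fintype F] {p : ℕ} [Fact p.Prime] [CharP F p] {q : ℕ} (hq : Fintype.card F = q)
    (n : ℕ) (hn : 2 ≤ n) (hT : (n, q) ≠ (2, 2) ∧ (n, q) ≠ (2, 3))
    (k : ℕ) (hk : k.Prime) (hkn : k ∣ n) (K : Subalgebra F (Matrix (Fin n) (Fin n) F)) (hK : Cfsg.Geo.IsFieldSubalgebra k K) (hk2 : k = 2) (hΩ : 2 ∣ ((Cfsg.Geo.subalgebraNormalizer K).comap (Matrix.SpecialLinearGroup.toGL : Matrix.SpecialLinearGroup (Fin n) F →* GL (Fin n) F)).index) :
    (∀ x : Matrix.SpecialLinearGroup (Fin n) F,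
      (∃ z : F, ((x ^ 2 : Matrix.SpecialLinearGroup (Fin n) F) : Matrix (Fin n) (Fin n) F) = z • (1 : Matrix (Fin n) (Fin n) F)) →
      (∀ z : F, (x : Matrix (Fin n) (Fin n) F) ≠ z • (1 : Matrix (Fin n) (Fin n) F)) →
      ∃ P : Matrix.SpecialLinearGroup (Fin n) F, P⁻¹ * x * P ∈ ((Cfsg.Geo.subalgebraNormalizer K).comap (Matrix.SpecialLinearGroup.toGL : Matrix.SpecialLinearGroup (Fin n) F →* GL (Fin n) F))) ↔
    (n = 2 ∨ (Odd q ∧ padicValNat 2 (q - 1) ≤ padicValNat 2 n)) := by
  classical
  subst hk2
  haveI : NeZero n := ⟨by omega⟩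
  have hsq : ∀ x : Matrix.SpecialLinearGroup (Fin n) F,
      ((x ^ 2 : Matrix.SpecialLinearGroup (Fin n) F) : Matrix (Fin n) (Fin n) F) =
        (x : Matrix (Fin n) (Fin n) F) * (x : Matrix (Fin n) (Fin n) F) := fun x => by
    rw [Matrix.SpecialLinearGroup.coe_pow, pow_two]
  have hqodd : (2 : F) ≠ 0 ↔ Odd q := by
    rw [← hq]
    constructor
    · intro h
      rw [Nat.odd_iff]
      exact FiniteField.odd_card_of_char_ne_two fun hc => h (by
        have := ringChar.Nat.cast_ringChar (R := F)
        rw [hc] at this; exact_mod_cast this)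
    · intro h h2
      haveI : CharP F 2 := (CharP.charP_iff_prime_eq_zero Nat.prime_two).mpr (by exact_mod_cast h2)
      obtain ⟨k, -, hk⟩ := FiniteField.card F 2
      rw [hk] at h
      exact absurd h (Nat.not_odd_iff_even.mpr (even_iff_two_dvd.mpr (dvd_pow_self _ k.ne_zero)))
  constructor
  · intro hall
    by_contra hcon
    push Not at hcon
    have hn2 : 2 < n := by omega
    let i₀ : Fin n := ⟨0, by omega⟩
    let i₁ : Fin n := ⟨1, by omega⟩
    have h10 : i₁ ≠ i₀ := by simp [i₀, i₁, Fin.ext_iff]
    obtain ⟨x, s, hs, φ, u, hu, hφ, hxv, hx2, hxns⟩ : ∃ (x : Matrix.SpecialLinearGroup (Fin n) F) (s : F),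
        s ≠ 0 ∧ ∃ (φ : (Fin n → F) →ₗ[F] F) (u : Fin n → F), u ≠ 0 ∧ φ ≠ 0 ∧
          (∀ v, (x : Matrix (Fin n) (Fin n) F) *ᵥ v = s • v + φ v • u) ∧
          (∃ z : F, (x : Matrix (Fin n) (Fin n) F) * x = z • 1) ∧ ∀ z : F, (x : Matrix (Fin n) (Fin n) F) ≠ z • 1 := by
      have he : ∀ i : Fin n, (Pi.single i 1 : Fin n → F) ≠ 0 := fun i h => by simpa using congrFun h i
      by_cases h2 : (2 : F) = 0
      · let x : Matrix.SpecialLinearGroup (Fin n) F :=
          ⟨Matrix.transvection i₀ i₁ 1, Matrix.det_transvection_of_ne i₀ i₁ h10.symm 1⟩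
        refine ⟨x, 1, one_ne_zero, LinearMap.proj i₁, Pi.single i₀ 1, he _, fun h => ?_, fun v => ?_, ⟨1, ?_⟩, fun z hz => ?_⟩
        · have := LinearMap.congr_fun h (Pi.single i₁ 1)
          simp at this
        · change Matrix.transvection i₀ i₁ 1 *ᵥ v = _
          funext k
          simp only [Matrix.transvection, Matrix.add_mulVec, Matrix.one_mulVec, Matrix.single_mulVec, Pi.add_apply, one_smul,
            LinearMap.proj_apply, Pi.smul_apply, smul_eq_mul, Pi.single_apply, Function.update_apply, Pi.zero_apply, one_mul]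
          split_ifs <;> simp
        · change Matrix.transvection i₀ i₁ 1 * Matrix.transvection i₀ i₁ 1 = _
          rw [Matrix.transvection_mul_transvection_same (h := h10.symm), show (1 : F) + 1 = 0 by linear_combination h2,
            Matrix.transvection_zero, one_smul]
        · have := congrFun (congrFun hz i₀) i₁
          simp [x, Matrix.transvection, Matrix.one_apply, h10.symm] at this
      · have hlt := hcon.2 ((hqodd).mp h2)
        obtain ⟨s, hsn⟩ := (exists_pow_eq_neg_one_iff h2 (show n ≠ 0 by omega)).mpr (hq.symm ▸ hlt)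
        have hs : s ≠ 0 := fun h => by rw [h, zero_pow (by omega)] at hsn; exact neg_ne_zero.mpr one_ne_zero hsn.symm
        let d : Fin n → F := Function.update (fun _ => s) i₀ (-s)
        have hd0 : d i₀ = -s := Function.update_self ..
        have hd1 : ∀ i, i ≠ i₀ → d i = s := fun i hi => Function.update_of_ne hi ..
        have hdet : (Matrix.diagonal d).det = 1 := by
          rw [Matrix.det_diagonal, Finset.prod_update_of_mem (Finset.mem_univ i₀), Finset.prod_const,
            Finset.card_sdiff]
          simp only [Finset.singleton_inter_of_mem (Finset.mem_univ i₀), Finset.card_singleton, Finset.card_univ,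
            Fintype.card_fin]
          rw [neg_mul, ← pow_succ', show n - 1 + 1 = n by omega, hsn, neg_neg]
        let x : Matrix.SpecialLinearGroup (Fin n) F := ⟨Matrix.diagonal d, hdet⟩
        have h2s : -(s + s) ≠ 0 := by rw [← two_mul]; exact neg_ne_zero.mpr (mul_ne_zero h2 hs)
        refine ⟨x, s, hs, -(s + s) • LinearMap.proj i₀, Pi.single i₀ 1, he _, fun h => ?_, fun v => ?_, ⟨s * s, ?_⟩, fun z hz => ?_⟩
        · have := LinearMap.congr_fun h (Pi.single i₀ 1)
          simp at this
          exact h2s (by first | linear_combination this | linear_combination -this)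
        · change Matrix.diagonal d *ᵥ v = _
          funext k
          rw [Matrix.mulVec_diagonal]
          by_cases hk : k = i₀
          · subst hk
            simp [hd0]
            ring
          · simp [hd1 k hk, hk]
        · change Matrix.diagonal d * Matrix.diagonal d = _
          rw [Matrix.diagonal_mul_diagonal, Matrix.smul_one_eq_diagonal]
          refine congrArg _ (funext fun i => ?_)
          by_cases h : i = i₀
          · subst h; rw [hd0]; ring
          · rw [hd1 i h]
        · have a0 := congrFun (congrFun hz i₀) i₀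
          have a1 := congrFun (congrFun hz i₁) i₁
          simp [x, hd0, hd1 i₁ h10] at a0 a1
          exact h2s (by linear_combination a0 - a1)
    obtain ⟨z, hz⟩ := hx2
    obtain ⟨P, hP⟩ := hall x ⟨z, by rw [hsq, hz]⟩ hxns
    let Pi' : Matrix (Fin n) (Fin n) F := ((P⁻¹ : Matrix.SpecialLinearGroup (Fin n) F) : Matrix (Fin n) (Fin n) F)
    let Pm : Matrix (Fin n) (Fin n) F := (P : Matrix (Fin n) (Fin n) F)
    have hPP : ∀ v, Pm *ᵥ (Pi' *ᵥ v) = v := fun v => by
      rw [Matrix.mulVec_mulVec, ← Matrix.SpecialLinearGroup.coe_mul, mul_inv_cancel,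
        Matrix.SpecialLinearGroup.coe_one, Matrix.one_mulVec]
    have hPP' : ∀ v, Pi' *ᵥ (Pm *ᵥ v) = v := fun v => by
      rw [Matrix.mulVec_mulVec, ← Matrix.SpecialLinearGroup.coe_mul, inv_mul_cancel,
        Matrix.SpecialLinearGroup.coe_one, Matrix.one_mulVec]
    refine rank_one_not_normalizer hK hn2 _ hP s hs (φ.comp Pm.mulVecLin) (Pi' *ᵥ u) ?_ ?_ fun v => ?_
    · intro h
      exact hu (by rw [← hPP u, h, Matrix.mulVec_zero])
    · intro h
      apply hφ
      refine LinearMap.ext fun v => ?_
      have := LinearMap.congr_fun h (Pi' *ᵥ v)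
      simpa [hPP] using this
    · change ((P⁻¹ * x * P : Matrix.SpecialLinearGroup (Fin n) F) : Matrix (Fin n) (Fin n) F) *ᵥ v = _
      rw [Matrix.SpecialLinearGroup.coe_mul, Matrix.SpecialLinearGroup.coe_mul, ← Matrix.mulVec_mulVec,
        ← Matrix.mulVec_mulVec, hxv, Matrix.mulVec_add, Matrix.mulVec_smul, Matrix.mulVec_smul, hPP']
      rfl
  · intro hrhs x hzx hns
    obtain ⟨z, hz⟩ := hzx
    rw [hsq] at hz
    set X := (x : Matrix (Fin n) (Fin n) F) with hX
    have hz0 : z ≠ 0 := by
      rintro rfl
      have := congrArg Matrix.det hz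
      rw [Matrix.det_mul, hX, x.2, zero_smul, @Matrix.det_zero (Fin n) _ _ F _ ⟨⟨0, by omega⟩⟩, mul_one] at this
      exact one_ne_zero this
    obtain ⟨a, ha, hna, ⟨t, c, hac⟩, hall⟩ := exists_gen K hK
    have into : ∀ {κ : Type} [Fintype κ] [DecidableEq κ] (M : Matrix κ κ F), IsModel X M → HasDetCentralizer M →
        ∀ y : Matrix (Fin n) (Fin n) F, IsModel y M → ∀ γ δ : F, δ ≠ 0 → y * a = (γ • 1 + δ • a) * y →
        ∃ P : Matrix.SpecialLinearGroup (Fin n) F, P⁻¹ * x * P ∈ ((Cfsg.Geo.subalgebraNormalizer K).comap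
          (Matrix.SpecialLinearGroup.toGL : Matrix.SpecialLinearGroup (Fin n) F →* GL (Fin n) F)) := by
      intro κ _ _ M hxM hM y hyM γ δ hδ hya
      let ys : Matrix.SpecialLinearGroup (Fin n) F := ⟨y, by rw [hyM.det_eq, ← hxM.det_eq]; exact x.2⟩
      obtain ⟨P, hP⟩ := exists_SL_conj (y := ys) hxM hyM hM
      refine ⟨P, ?_⟩
      rw [hP]
      exact mem_normalizer_of ha hall _ γ δ hya hδ
    by_cases h2 : (2 : F) = 0
    · have hn2 : n = 2 := by
        rcases hrhs with h | ⟨h, -⟩
        · exact h
        · exact absurd h2 (hqodd.mpr h)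
      subst hn2
      haveI : CharP F 2 := (CharP.charP_iff_prime_eq_zero Nat.prime_two).mpr (by exact_mod_cast h2)
      obtain ⟨s, hs⟩ := FiniteField.isSquare_of_char_two (ringChar.eq F 2) z
      rw [hs] at hz
      have hs0 : s ≠ 0 := fun h => hz0 (by rw [hs, h, zero_mul])
      obtain ⟨c', hc'⟩ := FiniteField.isSquare_of_char_two (ringChar.eq F 2) c
      have ht : t ≠ 0 := by
        rintro rfl
        rw [zero_smul, zero_add] at hac
        have hsub : a - c' • 1 ∈ K := sub_mem ha (Subalgebra.smul_mem _ K.one_mem _)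
        have h0 : (a - c' • 1) * (a - c' • 1) = 0 := by
          simp only [sub_mul, mul_sub, hac, smul_mul_assoc, mul_smul_comm, one_mul, mul_one, hc']
          match_scalars
          all_goals first
            | linear_combination (c' * c') * h2
            | linear_combination -(c' * c') * h2
            | linear_combination c' * h2
            | linear_combination -c' * h2
            | ring
        obtain ⟨j, -, hj⟩ := hK.inv _ hsub (fun h => hna c' (sub_eq_zero.mp h))
        have h3 := congrArg (· * j) h0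
        simp only [zero_mul, mul_assoc, hj, mul_one] at h3
        exact hna c' (sub_eq_zero.mp h3)
      let v : Fin 2 → F := ![1, 0]
      have hv : v ≠ 0 := fun h => by simpa [v] using congrFun h 0
      have hli : LinearIndependent F ![v, a *ᵥ v] := by
        rw [Fintype.linearIndependent_iff]
        intro g hg
        rw [Fin.sum_univ_two] at hg
        simp only [Matrix.cons_val_zero, Matrix.cons_val_one, Matrix.cons_val_fin_one] at hg
        have h := eq_zero_of_mulVec hK (add_mem (Subalgebra.smul_mem _ K.one_mem (g 0)) (Subalgebra.smul_mem _ ha (g 1))) hv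
          (by rw [Matrix.add_mulVec, Matrix.smul_mulVec, Matrix.smul_mulVec, Matrix.one_mulVec]; exact hg)
        have hg1 : g 1 = 0 := by
          by_contra h1
          apply hna (-(g 0) / g 1)
          apply smul_right_injective _ h1
          simp only [smul_smul, mul_div_cancel₀ _ h1, neg_smul]
          exact eq_neg_of_add_eq_zero_right h
        have hg0 : g 0 = 0 := by
          rw [hg1, zero_smul, add_zero] at h
          exact (smul_eq_zero.mp h).resolve_right one_ne_zero
        intro i; fin_cases i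
        · exact hg0
        · exact hg1
      let B := basisOfLinearIndependentOfCardEqFinrank hli (by simp)
      let Φ := B.equivFun.symm
      obtain ⟨y, hy, -⟩ := exists_isModel Φ (!![s, s * t; 0, s] : Matrix (Fin 2) (Fin 2) F)
      have hΦ : ∀ w, Φ w = w 0 • v + w 1 • (a *ᵥ v) := fun w => by
        simp [Φ, B, B.equivFun_symm_apply, Fin.sum_univ_two]
      have hyy : y * y = (s * s) • 1 := by
        refine Matrix.toLin'.injective (LinearMap.ext fun w => ?_)
        obtain ⟨w, rfl⟩ := Φ.surjective w
        rw [Matrix.toLin'_apply, Matrix.toLin'_apply, ← Matrix.mulVec_mulVec, hy, hy, Matrix.smul_mulVec,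
          Matrix.one_mulVec, ← map_smul]
        congr 1
        funext i
        fin_cases i <;> simp [Matrix.mulVec, dotProduct, Fin.sum_univ_two] <;> first
          | linear_combination (s * s * t * w 1) * h2
          | linear_combination -(s * s * t * w 1) * h2
          | ring
      have hyns : ∀ z' : F, y ≠ z' • 1 := fun z' h => by
        have h1 := hy ![0, 1]
        rw [h, Matrix.smul_mulVec, Matrix.one_mulVec, ← map_smul] at h1
        have h1' := congrFun (Φ.injective h1) 0
        simp [Matrix.mulVec, dotProduct, Fin.sum_univ_two] at h1'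
        rcases h1' with h | h
        · exact hs0 h
        · exact ht h
      have hmodel : ∀ w : Matrix (Fin 2) (Fin 2) F, w * w = (s * s) • 1 → (∀ z' : F, w ≠ z' • 1) →
          IsModel w (Cfsg.Agent.Lib.SquareZero.model F 1 0 + s • 1) := by
        intro w hw hwns
        obtain ⟨r, k, hrk, hmod⟩ := exists_isModel_charTwo hw
        simp only [Fintype.card_fin] at hrk
        have hr : r ≠ 0 := by
          rintro rfl
          obtain ⟨Ψ, hΨ⟩ := hmod
          apply hwns s
          refine Matrix.toLin'.injective (LinearMap.ext fun u => ?_)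
          obtain ⟨u, rfl⟩ := Ψ.surjective u
          rw [Matrix.toLin'_apply, Matrix.toLin'_apply, hΨ, Matrix.smul_mulVec, Matrix.one_mulVec,
            Matrix.add_mulVec, Matrix.smul_mulVec, Matrix.one_mulVec]
          have h0 : (Cfsg.Agent.Lib.SquareZero.model F 0 k) = 0 := by
            ext i j
            rcases i with i | i | i <;> first | exact i.elim0 | (rcases j with j | j | j <;> first | exact j.elim0 | rfl)
          rw [h0, Matrix.zero_mulVec, zero_add, map_smul]
        obtain ⟨rfl, rfl⟩ : r = 1 ∧ k = 0 := by omega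
        exact hmod
      refine into _ (hmodel X hz hns) (hasDetCentralizer_charTwo one_ne_zero s) y (hmodel y hyy hyns) t 1 one_ne_zero ?_
      refine Matrix.toLin'.injective (LinearMap.ext fun w => ?_)
      obtain ⟨w, rfl⟩ := Φ.surjective w
      have haΦ : ∀ w, a *ᵥ Φ w = Φ ![c * w 1, w 0 + t * w 1] := fun w => by
        rw [hΦ, hΦ, Matrix.mulVec_add, Matrix.mulVec_smul, Matrix.mulVec_smul, Matrix.mulVec_mulVec, hac,
          Matrix.add_mulVec, Matrix.smul_mulVec, Matrix.smul_mulVec, Matrix.one_mulVec]
        simp only [Matrix.cons_val_zero, Matrix.cons_val_one, Matrix.cons_val_fin_one]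
        module
      simp only [Matrix.toLin'_apply, ← Matrix.mulVec_mulVec, haΦ, hy, Matrix.add_mulVec, Matrix.smul_mulVec,
        Matrix.one_mulVec, ← map_smul, ← map_add]
      congr 1
      funext i
      fin_cases i
      · simp [Matrix.mulVec, dotProduct, Fin.sum_univ_two]
        linear_combination 0 * h2
      · simp [Matrix.mulVec, dotProduct, Fin.sum_univ_two]
        linear_combination -(s * t * w 1) * h2
    · have hnopow : n ≠ 2 → ¬ ∃ s : F, s ^ n = -1 := fun hn2 => by
        rcases hrhs with h | ⟨-, h⟩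
        · exact absurd h hn2
        · rw [exists_pow_eq_neg_one_iff h2 (by omega), hq]
          omega
      set J := a - (t / 2) • (1 : Matrix (Fin n) (Fin n) F) with hJ
      set w := c + t / 2 * (t / 2) with hw
      have hJJ : J * J = w • 1 := by
        simp only [hJ, sub_mul, mul_sub, hac, smul_mul_assoc, mul_smul_comm, one_mul, mul_one]
        match_scalars
        all_goals (try simp only [hw]); field_simp; ring
      have hwsq : ¬ IsSquare w := by
        rintro ⟨r, hr⟩
        have hJK : ∀ e : F, J - e • 1 ∈ K := fun e =>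
          sub_mem (sub_mem ha (Subalgebra.smul_mem _ K.one_mem _)) (Subalgebra.smul_mem _ K.one_mem _)
        have h0 : (J - r • 1) * (J - (-r) • 1) = 0 := by
          simp only [sub_mul, mul_sub, hJJ, hr, smul_mul_assoc, mul_smul_comm, one_mul, mul_one, smul_smul]
          module
        by_cases h1 : J - r • 1 = 0
        · apply hna (t / 2 + r)
          rw [add_smul, ← sub_eq_zero]
          rw [hJ] at h1
          rw [← h1]; abel
        · obtain ⟨j, hjK, hj⟩ := hK.inv _ (hJK r) h1
          have h3 := congrArg (j * ·) h0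
          rw [hK.comm _ (hJK r) j hjK] at hj
          simp only [mul_zero, ← mul_assoc, hj, one_mul] at h3
          apply hna (t / 2 + -r)
          rw [add_smul, ← sub_eq_zero]
          rw [hJ] at h3
          rw [← h3]; abel
      obtain ⟨b, hb, Φ, hΦ⟩ := exists_isModel_rot hwsq hJJ
      rw [Fintype.card_fin] at hb
      have fromBlocks' : ∀ (B : Fin b → Matrix (Fin 2) (Fin 2) F) (e : F),
          (∀ j, B j * !![0, w; 1, 0] = e • (!![0, w; 1, 0] * B j)) →
          ∃ y : Matrix (Fin n) (Fin n) F, (∀ v, y *ᵥ Φ v = Φ (Matrix.blockDiagonal B *ᵥ v)) ∧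
            y * a = ((t / 2 - e * (t / 2)) • 1 + e • a) * y := by
        intro B e hBe
        obtain ⟨y, hy, -⟩ := exists_isModel Φ (Matrix.blockDiagonal B)
        refine ⟨y, hy, ?_⟩
        have hyJ : y * J = e • (J * y) := by
          refine Matrix.toLin'.injective (LinearMap.ext fun v => ?_)
          obtain ⟨v, rfl⟩ := Φ.surjective v
          simp only [Matrix.toLin'_apply, Matrix.smul_mulVec, ← Matrix.mulVec_mulVec, hΦ, hy, ← map_smul]
          congr 1
          rw [Matrix.mulVec_mulVec, Matrix.mulVec_mulVec, ← Matrix.smul_mulVec]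
          congr 1
          rw [rotBlock, ← Matrix.blockDiagonal_mul, ← Matrix.blockDiagonal_mul, ← Matrix.blockDiagonal_smul]
          exact congrArg _ (funext hBe)
        rw [show a = J + (t / 2) • (1 : Matrix (Fin n) (Fin n) F) by rw [hJ]; abel]
        simp only [mul_add, add_mul, hyJ, smul_mul_assoc, mul_smul_comm, one_mul, mul_one, smul_add, smul_smul]
        module
      by_cases hsqz : IsSquare z
      · obtain ⟨s, hs⟩ := hsqz
        rw [hs] at hz
        have hs0 : s ≠ 0 := fun h => hz0 (by rw [hs, h, zero_mul])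
        have hss : s + s ≠ 0 := by rw [← two_mul]; exact mul_ne_zero h2 hs0
        obtain ⟨a₁, c₁, hac₁, hmod⟩ := exists_isModel_split hss hz
        rw [Fintype.card_fin] at hac₁
        haveI : Nonempty (Fin a₁ ⊕ Fin c₁) := Fintype.card_pos_iff.mp (by simp; omega)
        have hM := hasDetCentralizer_diagonal (Sum.elim (fun _ : Fin a₁ => s) (fun _ : Fin c₁ => -s))
        have hdet := hmod.det_eq
        rw [hX, x.2, Matrix.det_diagonal, Fintype.prod_sum_type] at hdet
        simp only [Sum.elim_inl, Sum.elim_inr, Finset.prod_const, Finset.card_univ, Fintype.card_fin] at hdet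
        rw [neg_pow, mul_left_comm, ← pow_add, hac₁] at hdet
        rcases Nat.even_or_odd c₁ with ⟨c', hc'⟩ | hco
        · obtain ⟨a', ha'⟩ : ∃ a', a₁ = a' + a' := ⟨a₁ / 2, by omega⟩
          obtain rfl : b = a' + c' := by omega
          let σ : Fin 2 × Fin (a' + c') ≃ Fin a₁ ⊕ Fin c₁ :=
            (Equiv.prodCongr (Equiv.refl _) finSumFinEquiv.symm).trans ((Equiv.prodSumDistrib _ _ _).trans
              (Equiv.sumCongr (finProdFinEquiv.trans (finCongr (by omega))) (finProdFinEquiv.trans (finCongr (by omega)))))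
          let cs : Fin (a' + c') → F := Fin.addCases (fun _ => s) (fun _ => -s)
          have hcs : ∀ p : Fin 2 × Fin (a' + c'), cs p.2 = Sum.elim (fun _ : Fin a₁ => s) (fun _ : Fin c₁ => -s) (σ p) := by
            rintro ⟨i, j⟩
            refine Fin.addCases (fun j => ?_) (fun j => ?_) j <;> simp [cs, σ]
          obtain ⟨y, hy, hya⟩ := fromBlocks' (fun j => Matrix.diagonal fun _ => cs j) 1 (fun j => by
            rw [one_smul]
            ext i k
            simp [Matrix.diagonal_mul, Matrix.mul_diagonal, mul_comm])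
          refine into _ hmod hM y ?_ _ 1 one_ne_zero hya
          have hyM : IsModel y (Matrix.diagonal (fun p : Fin 2 × Fin (a' + c') => cs p.2)) := ⟨Φ, fun v => by
            rw [hy, Matrix.blockDiagonal_diagonal]⟩
          exact hyM.diagonal_congr σ.symm (fun p => by rw [hcs]; simp)
        · rw [hco.neg_one_pow] at hdet
          have hn2 : n = 2 := by
            by_contra h
            exact hnopow h ⟨s, by linear_combination hdet⟩
          subst hn2
          obtain ⟨rfl, rfl, rfl⟩ : a₁ = 1 ∧ c₁ = 1 ∧ b = 1 := by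
            obtain ⟨j, hj⟩ := hco; omega
          obtain ⟨y, hy, hya⟩ := fromBlocks' (fun _ => Matrix.diagonal ![s, -s]) (-1) (fun j => by
            ext i k
            fin_cases i <;> fin_cases k <;> simp [Matrix.mul_apply, Matrix.vecMul, dotProduct, Fin.sum_univ_two, Matrix.diagonal_apply, mul_comm])
          refine into _ hmod hM y ?_ _ (-1) (neg_ne_zero.mpr one_ne_zero) hya
          have hyM : IsModel y (Matrix.diagonal (fun p : Fin 2 × Fin 1 => ![s, -s] p.1)) := ⟨Φ, fun v => by
            rw [hy, Matrix.blockDiagonal_diagonal]⟩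
          exact hyM.diagonal_congr ((finSumFinEquiv (m := 1) (n := 1)).trans (Equiv.prodUnique (Fin 2) (Fin 1)).symm)
            (fun p => by rcases p with p | p <;> (rw [Subsingleton.elim p 0]; rfl))
      · obtain ⟨r, hr⟩ : IsSquare (z / w) := by
          have hz' : ¬ IsSquare z := hsqz
          have hw0 : w ≠ 0 := fun h => hwsq (h ▸ IsSquare.zero)
          have h2' : ringChar F ≠ 2 := fun h => hsqz (FiniteField.isSquare_of_char_two h z)
          have h1 : quadraticChar F (z * w) = 1 := by
            rw [map_mul, quadraticChar_neg_one_iff_not_isSquare.mpr hz', quadraticChar_neg_one_iff_not_isSquare.mpr hwsq]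
            norm_num
          obtain ⟨e, he⟩ := (quadraticChar_one_iff_isSquare (mul_ne_zero hz0 hw0)).mp h1
          exact ⟨e / w, by field_simp; linear_combination he⟩
        have hw0 : w ≠ 0 := fun h => hwsq (h ▸ IsSquare.zero)
        obtain ⟨y, hy, hya⟩ := fromBlocks' (fun _ => r • !![0, w; 1, 0]) 1 (fun j => by
          rw [one_smul, smul_mul_assoc, mul_smul_comm])
        have hB : Matrix.blockDiagonal (fun _ : Fin b => r • (!![0, w; 1, 0] : Matrix (Fin 2) (Fin 2) F)) =
            r • rotBlock w b := by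
          ext ⟨i, j⟩ ⟨k, l⟩
          fin_cases i <;> fin_cases k <;> simp [rotBlock, Matrix.blockDiagonal_apply]
        have hyy : y * y = z • 1 := by
          refine Matrix.toLin'.injective (LinearMap.ext fun v => ?_)
          obtain ⟨v, rfl⟩ := Φ.surjective v
          rw [Matrix.toLin'_apply, Matrix.toLin'_apply, ← Matrix.mulVec_mulVec, hy, hy, Matrix.smul_mulVec,
            Matrix.one_mulVec, Matrix.mulVec_mulVec]
          erw [hB]
          rw [smul_mul_smul_comm, rotBlock_mul_self, smul_smul, ← hr, div_mul_cancel₀ _ hw0, Matrix.smul_mulVec,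
            Matrix.one_mulVec, map_smul]
        obtain ⟨b', hb', hmod⟩ := exists_isModel_rot hsqz hz
        obtain ⟨b'', hb'', hmod'⟩ := exists_isModel_rot hsqz hyy
        rw [Fintype.card_fin] at hb' hb''
        obtain rfl : b'' = b' := by omega
        exact into _ hmod (hasDetCentralizer_rotBlock hsqz (by omega)) y hmod' _ 1 one_ne_zero hya

end Cfsg.Agent.S5969
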