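import Cfsg.Statements.S5970
import Mathlib
import Cfsg.Agent.Lib.LinClasses.SingerOrder

set_option autoImplicit false
open scoped MatrixGroups
open Cfsg
open scoped Matrix
open Cfsg.Agent.Lib.LinClasses.Singer

namespace Cfsg.Agent.S5970



/-- Elements of order `n` of PSL_n(q), `n` prime, and the normalizer of a Singer cycle. Here `T = PSL_n(F)` for a field `F` with `q = p^f` elements (`n ≥ 2`, `(n, q) ≠ (2, 2), (2, 3)`), `k` is a prime dividing `n`, `K` is a subalgebra of the `n × n` matrices that is a field of degree `k` over `F` (an extension-field structure F_{q^k} on `F^n`), and `H` is the subgroup of matrices of determinant 1 normalizing `K` — a subgroup of type GL_{n/k}(q^k) (maximal except in some small cases; maximality is not assumed); Ω is the set of cosets of `H` in `T`, so an element of `T` of prime order `r` (a matrix `x` of determinant 1 with `x^r` scalar, `x` not scalar) fixes a point of Ω when some conjugate of `x` by a matrix of determinant 1 normalizes `K`. Take `k = n > 3`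 prime with `n ≠ p` (so `H` is the normalizer of a Singer cycle), and suppose `n` divides the index of `H`. Then every element of `T` of order `n` is conjugate in `T` into `H` if and only if the multiplicative order of `q` modulo `n` is `n − 1`. -/
theorem result {F : Type*} [Field F] [Fintype F] {p : ℕ} [Fact p.Prime] [CharP F p] {q : ℕ} (hq : Fintype.card F = q)
    (n : ℕ) (hn : 2 ≤ n) (hT : (n, q) ≠ (2, 2) ∧ (n, q) ≠ (2, 3))
    (k : ℕ) (hk : k.Prime) (hkn : k ∣ n) (K : Subalgebra F (Matrix (Fin n) (Fin n) F)) (hK : Cfsg.Geo.IsFieldSubalgebra k K) (hkn' : k = n) (hn3 : 3 < n) (hnp : n ≠ p) (hΩ : n ∣ ((Cfsg.Geo.subalgebraNormalizer K).comap (Matrix.SpecialLinearGroup.toGL : Matrix.SpecialLinearGroup (Fin n) F →* GL (Fin n) F)).index) :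
    (∀ x : Matrix.SpecialLinearGroup (Fin n) F,
      (∃ z : F, ((x ^ n : Matrix.SpecialLinearGroup (Fin n) F) : Matrix (Fin n) (Fin n) F) = z • (1 : Matrix (Fin n) (Fin n) F)) →
      (∀ z : F, (x : Matrix (Fin n) (Fin n) F) ≠ z • (1 : Matrix (Fin n) (Fin n) F)) →
      ∃ P : Matrix.SpecialLinearGroup (Fin n) F, P⁻¹ * x * P ∈ ((Cfsg.Geo.subalgebraNormalizer K).comap (Matrix.SpecialLinearGroup.toGL : Matrix.SpecialLinearGroup (Fin n) F →* GL (Fin n) F))) ↔
    orderOf (q : ZMod n) = n - 1 := by
  classical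
  subst hkn'
  subst hq
  haveI : NeZero k := ⟨hk.ne_zero⟩
  haveI := Fact.mk hk
  have hk0 : (k : F) ≠ 0 := by
    rw [Ne, CharP.cast_eq_zero_iff F p]
    exact fun h => hnp ((Nat.prime_dvd_prime_iff_eq Fact.out hk).1 h).symm
  have hqk : ((Fintype.card F : ZMod k)) ≠ 0 := by
    obtain ⟨e, -, he⟩ := FiniteField.card F p
    rw [Ne, he, ZMod.natCast_eq_zero_iff]
    exact fun h => hnp ((Nat.prime_dvd_prime_iff_eq hk Fact.out).1 (hk.dvd_of_dvd_pow h))
  have hiff : ∀ d, k ∣ Fintype.card F ^ d - 1 ↔ ((Fintype.card F : ZMod k)) ^ d = 1 := by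
    intro d
    rw [← Nat.modEq_iff_dvd' (Nat.one_le_pow _ _ Fintype.card_pos), ← ZMod.natCast_eq_natCast_iff,
      Nat.cast_one, Nat.cast_pow, eq_comm]
  set o := orderOf (Fintype.card F : ZMod k)
  have ho_dvd : o ∣ k - 1 := orderOf_dvd_of_pow_eq_one (ZMod.pow_card_sub_one_eq_one hqk)
  have ho0 : o ≠ 0 := fun h => by rw [h] at ho_dvd; exact absurd (Nat.zero_dvd.1 ho_dvd) (by omega)
  constructor
  · intro hall
    by_contra hne
    have hbad : ∃ x : Matrix.SpecialLinearGroup (Fin k) F,
        (∃ z : F, ((x ^ k : Matrix.SpecialLinearGroup (Fin k) F) : Matrix (Fin k) (Fin k) F) = z • 1) ∧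
        (∀ c : F, (x : Matrix (Fin k) (Fin k) F) ≠ c • 1) ∧
        ∃ Q : Polynomial F, Q ≠ 0 ∧ Q.natDegree < k ∧ Polynomial.aeval (x : Matrix (Fin k) (Fin k) F) Q = 0 := by
      by_cases h1 : k ∣ Fintype.card F - 1
      · obtain ⟨w, hw⟩ : ∃ w : Fˣ, orderOf w = k := by
          refine exists_prime_orderOf_dvd_card' k ?_
          rwa [Nat.card_units, Nat.card_eq_fintype_card]
        exact exists_bad_root hn3 (IsPrimitiveRoot.coe_units_iff.2 (hw ▸ IsPrimitiveRoot.orderOf w))
      · refine exists_bad_field p hk h1 ho0 ?_ ((hiff o).2 (pow_orderOf_eq_one _))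
        have := Nat.le_of_dvd (by omega) ho_dvd
        omega
    obtain ⟨x, hz, hns, Q, hQ0, hQd, hQ⟩ := hbad
    obtain ⟨P, hP⟩ := hall x hz hns
    exact not_mem_of_aeval hk hK hns hQ0 hQd hQ P hP
  · intro ho x hz hns
    obtain ⟨z, hz⟩ := hz
    have h1 : ¬ k ∣ Fintype.card F - 1 := fun h => by
      have h' : o ∣ 1 := orderOf_dvd_of_pow_eq_one ((hiff 1).1 (by rwa [pow_one]))
      rw [ho, Nat.dvd_one] at h'
      omega
    have hz1 : z = 1 := by
      have h := congrArg Matrix.det hz
      rw [Matrix.SpecialLinearGroup.det_coe, Matrix.det_smul, Matrix.det_one, mul_one, Fintype.card_fin] at h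
      by_contra hne
      have hz0 : z ≠ 0 := fun h0 => by rw [h0, zero_pow hk.ne_zero] at h; exact one_ne_zero h
      have hord : orderOf (Units.mk0 z hz0) = k :=
        orderOf_eq_prime (Units.ext (by simpa using h.symm)) (fun h' => hne (by simpa using congrArg Units.val h'))
      have hd := orderOf_dvd_natCard (Units.mk0 z hz0)
      rw [hord, Nat.card_units, Nat.card_eq_fintype_card] at hd
      exact h1 hd
    rw [hz1, one_smul, Matrix.SpecialLinearGroup.coe_pow] at hz
    refine exists_conj_mem hk hk0 hK (isModel_of_order hk hk0 h1 (fun d hd0 hd hdvd => ?_) hz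
      (fun h => hns 1 (by rw [h, one_smul])))
    have := Nat.le_of_dvd (Nat.pos_of_ne_zero hd0) (orderOf_dvd_of_pow_eq_one ((hiff d).1 hdvd))
    change o ≤ d at this
    omega

end Cfsg.Agent.S5970
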