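import Cfsg.Statements.S5971
import Mathlib
import Cfsg.Agent.Lib.LinClasses.SingerOrder
import Cfsg.Agent.Lib.LinGroup.Order

set_option autoImplicit false
open scoped MatrixGroups
open Cfsg
open scoped Matrix
open Cfsg.Agent.Lib.LinClasses.Singer

namespace Cfsg.Agent.S5971

theorem not_nine_dvd {a : ℕ} (h : a % 9 = 2 ∨ a % 9 = 5) :
    ¬ 9 ∣ ∏ i : Fin 3, (a ^ 3 - a ^ (i : ℕ)) := by
  intro hd
  have ha : 1 ≤ a := by omega
  simp only [Fin.prod_univ_three, Fin.val_zero, Fin.val_one, Fin.val_two, pow_zero, pow_one] at hd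
  obtain ⟨b, rfl⟩ : ∃ b, a = b + 1 := ⟨a - 1, by omega⟩
  have e0 : (b + 1) ^ 3 - 1 = b * (b * b + 3 * b + 3) := by
    rw [Nat.sub_eq_iff_eq_add (Nat.one_le_pow _ _ ha)]; ring
  have e1 : (b + 1) ^ 3 - (b + 1) = (b + 1) * b * (b + 2) := by
    rw [Nat.sub_eq_iff_eq_add (Nat.le_self_pow (by norm_num) _)]; ring
  have e2 : (b + 1) ^ 3 - (b + 1) ^ 2 = (b + 1) * (b + 1) * b := by
    rw [Nat.sub_eq_iff_eq_add (Nat.pow_le_pow_right ha (by norm_num))]; ring
  rw [e0, e1, e2, Nat.dvd_iff_mod_eq_zero] at hd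
  have hb : b % 9 = 1 ∨ b % 9 = 4 := by omega
  rcases hb with hb | hb <;> simp [Nat.mul_mod, Nat.add_mod, hb] at hd


/-- Elements of order 3 of PSL_3(q) and the normalizer of a Singer cycle. Here `T = PSL_n(F)` for a field `F` with `q = p^f` elements (`n ≥ 2`, `(n, q) ≠ (2, 2), (2, 3)`), `k` is a prime dividing `n`, `K` is a subalgebra of the `n × n` matrices that is a field of degree `k` over `F` (an extension-field structure F_{q^k} on `F^n`), and `H` is the subgroup of matrices of determinant 1 normalizing `K` — a subgroup of type GL_{n/k}(q^k) (maximal except in some small cases; maximality is not assumed); Ω is the set of cosets of `H` in `T`, so an element of `T` of prime order `r` (a matrix `x` of determinant 1 with `x^r` scalar, `x` not scalar) fixes a point of Ω when some conjugate of `x` by a matrix of determinant 1 normalizes `K`. Take `n = k = 3` and suppose 3 divides the index of `H`. Then every element of `T` of order 3 is conjugate in `T` into `H` if and only if `q ≡ 4, 7`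 or `8 (mod 9)`. -/
theorem result {F : Type*} [Field F] [Fintype F] {p : ℕ} [Fact p.Prime] [CharP F p] {q : ℕ} (hq : Fintype.card F = q)
    (n : ℕ) (hn : n = 3) (k : ℕ) (hk : k.Prime) (hkn : k ∣ n) (K : Subalgebra F (Matrix (Fin n) (Fin n) F)) (hK : Cfsg.Geo.IsFieldSubalgebra k K) (hk3 : k = 3) (hΩ : 3 ∣ ((Cfsg.Geo.subalgebraNormalizer K).comap (Matrix.SpecialLinearGroup.toGL : Matrix.SpecialLinearGroup (Fin n) F →* GL (Fin n) F)).index) :
    (∀ x : Matrix.SpecialLinearGroup (Fin n) F,
      (∃ z : F, ((x ^ 3 : Matrix.SpecialLinearGroup (Fin n) F) : Matrix (Fin n) (Fin n) F) = z • (1 : Matrix (Fin n) (Fin n) F)) →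
      (∀ z : F, (x : Matrix (Fin n) (Fin n) F) ≠ z • (1 : Matrix (Fin n) (Fin n) F)) →
      ∃ P : Matrix.SpecialLinearGroup (Fin n) F, P⁻¹ * x * P ∈ ((Cfsg.Geo.subalgebraNormalizer K).comap (Matrix.SpecialLinearGroup.toGL : Matrix.SpecialLinearGroup (Fin n) F →* GL (Fin n) F))) ↔
    (q % 9 = 4 ∨ q % 9 = 7 ∨ q % 9 = 8) := by
  classical
  subst hq hn hk3
  haveI := Fact.mk (by norm_num : Nat.Prime 3)
  have h3 : Nat.Prime 3 := Fact.out
  set a := Fintype.card F with ha
  obtain ⟨e, -, he⟩ := FiniteField.card F p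
  have hap : a % 3 = 0 ↔ p = 3 := by
    rw [← Nat.dvd_iff_mod_eq_zero, ha, he]
    exact ⟨fun h => ((Nat.prime_dvd_prime_iff_eq h3 Fact.out).1 (h3.dvd_of_dvd_pow h)).symm,
      fun h => h ▸ dvd_pow_self _ e.ne_zero⟩
  have hcast : a % 3 ≠ 0 → ((3 : ℕ) : F) ≠ 0 := fun h => by
    rw [Ne, CharP.cast_eq_zero_iff F p]
    exact fun hd => h (hap.2 ((Nat.prime_dvd_prime_iff_eq Fact.out h3).1 hd))
  constructor
  · intro hall
    by_contra hcon
    have bad : (∃ x : Matrix.SpecialLinearGroup (Fin 3) F,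
        (∃ z : F, ((x ^ 3 : Matrix.SpecialLinearGroup (Fin 3) F) : Matrix (Fin 3) (Fin 3) F) = z • 1) ∧
        (∀ c : F, (x : Matrix (Fin 3) (Fin 3) F) ≠ c • 1) ∧
        ∃ Q : Polynomial F, Q ≠ 0 ∧ Q.natDegree < 3 ∧ Polynomial.aeval (x : Matrix (Fin 3) (Fin 3) F) Q = 0) → False := by
      rintro ⟨x, hz, hns, Q, hQ0, hQd, hQ⟩
      obtain ⟨P, hP⟩ := hall x hz hns
      exact not_mem_of_aeval h3 hK hns hQ0 hQd hQ P hP
    have hcases : a % 3 = 0 ∨ a % 9 = 1 ∨ (a % 9 = 2 ∨ a % 9 = 5) := by omega
    rcases hcases with h | h | h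
    · exact bad (exists_bad_char (n := 3) le_rfl (hap.1 h ▸ inferInstance))
    · have h9 : 9 ∣ Nat.card Fˣ := by
        rw [Nat.card_units, Nat.card_eq_fintype_card, ← ha]
        omega
      obtain ⟨g, hg⟩ := IsCyclic.exists_ofOrder_eq_natCard (α := Fˣ)
      obtain ⟨m, hm⟩ := h9
      have hc : IsPrimitiveRoot ((g ^ m : Fˣ) : F) (3 * 3) := by
        refine IsPrimitiveRoot.coe_units_iff.2 ?_
        refine (IsPrimitiveRoot.orderOf g).pow ?_ ?_
        · rw [hg]; exact Nat.card_pos
        · rw [hg, hm]; ring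
      exact bad (exists_bad_sq h3 le_rfl hc)
    · -- here three does not divide the index
      set H := (Cfsg.Geo.subalgebraNormalizer K).comap
        (Matrix.SpecialLinearGroup.toGL : Matrix.SpecialLinearGroup (Fin 3) F →* GL (Fin 3) F) with hH
      obtain ⟨g, hg, hgM⟩ := exists_cyclic_normalizer h3 hK
      have hdet : (cycShift F 3).det = 1 := by
        rw [Matrix.det_fin_three]
        simp [cycShift]
      let gs : Matrix.SpecialLinearGroup (Fin 3) F :=
        ⟨(g : Matrix (Fin 3) (Fin 3) F), by rw [hgM.det_eq, hdet]⟩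
      have hgH : gs ∈ H := by
        rw [hH, Subgroup.mem_comap, show Matrix.SpecialLinearGroup.toGL gs = g from Units.ext rfl]
        exact hg
      have hord : orderOf gs = 3 := by
        refine orderOf_eq_prime ?_ ?_
        · apply Subtype.ext
          rw [Matrix.SpecialLinearGroup.coe_pow, Matrix.SpecialLinearGroup.coe_one]
          apply Matrix.toLin'.injective
          obtain ⟨Φ, hΦ⟩ := hgM
          refine LinearMap.ext fun v => ?_
          obtain ⟨v, rfl⟩ := Φ.surjective v
          have hk : ∀ i : ℕ, (g : Matrix (Fin 3) (Fin 3) F) ^ i *ᵥ Φ v = Φ (cycShift F 3 ^ i *ᵥ v) := by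
            intro i
            induction i with
            | zero => simp
            | succ i ih => rw [pow_succ', ← Matrix.mulVec_mulVec, ih, hΦ, pow_succ', ← Matrix.mulVec_mulVec]
          rw [Matrix.toLin'_apply, hk, cycShift_pow, Matrix.one_mulVec, Matrix.toLin'_one, LinearMap.id_apply]
        · intro h1
          obtain ⟨Φ, hΦ⟩ := hgM
          have h1' : (g : Matrix (Fin 3) (Fin 3) F) = 1 := congrArg Subtype.val h1
          have := congrFun (Φ.injective ((hΦ (Pi.single 0 1)).symm.trans (by rw [h1', Matrix.one_mulVec]))) 0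
          rw [cycShift_mulVec] at this
          simp [show (0 : Fin 3) - 1 = 2 by decide] at this
      have h3H : 3 ∣ Nat.card H := hord.symm.dvd.trans (Subgroup.orderOf_dvd_natCard H hgH)
      have h9 : 9 ∣ Nat.card (Matrix.SpecialLinearGroup (Fin 3) F) := by
        rw [← Subgroup.card_mul_index H, show (9 : ℕ) = 3 * 3 from rfl]
        exact Nat.mul_dvd_mul h3H hΩ
      refine not_nine_dvd h ?_
      rw [ha, ← Cfsg.Agent.Lib.LinGroup.card_SL_mul 3 (by norm_num)]
      exact dvd_mul_of_dvd_right h9 _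
  · intro hmod x hz hns
    obtain ⟨z, hz⟩ := hz
    rw [Matrix.SpecialLinearGroup.coe_pow] at hz
    have hk0 := hcast (by omega)
    rcases hmod with h | h | h
    · exact exists_conj_mem h3 hk0 hK (isModel_of_three (by omega) (by omega) x.2 hz hns).2
    · exact exists_conj_mem h3 hk0 hK (isModel_of_three (by omega) (by omega) x.2 hz hns).2
    · have h1 : ¬ 3 ∣ a - 1 := by omega
      have hz1 : z = 1 := by
        have h' := congrArg Matrix.det hz
        rw [Matrix.det_pow, x.2, one_pow, Matrix.det_smul, Matrix.det_one, mul_one, Fintype.card_fin] at h'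
        by_contra hne
        have hz0 : z ≠ 0 := fun h0 => by rw [h0, zero_pow (by norm_num)] at h'; exact one_ne_zero h'
        have hord : orderOf (Units.mk0 z hz0) = 3 :=
          orderOf_eq_prime (Units.ext (by simpa using h'.symm)) (fun e => hne (by simpa using congrArg Units.val e))
        have hd := orderOf_dvd_natCard (Units.mk0 z hz0)
        rw [hord, Nat.card_units, Nat.card_eq_fintype_card] at hd
        exact h1 hd
      rw [hz1, one_smul] at hz
      refine exists_conj_mem h3 hk0 hK (isModel_of_order h3 hk0 h1 (fun d hd0 hd => ?_) hz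
        (fun e => hns 1 (by rw [e, one_smul])))
      obtain rfl : d = 1 := by omega
      rwa [pow_one]

end Cfsg.Agent.S5971
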