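import Cfsg.Statements.S5972
import Cfsg.Agent.Lib.OrthPrime.Criteria
import Cfsg.Agent.Lib.OrthPrime.InvolEven
import Cfsg.Agent.Lib.OrthPrime.TSCount
import Cfsg.Agent.Lib.OrthPrime.TwoCases
import Cfsg.Agent.Lib.OrthPrime.InvolOmega
-- import your own Cfsg.Agent.* helpers here

set_option autoImplicit false
open scoped MatrixGroups
open Cfsg
open Cfsg.Agent.Lib

namespace Cfsg.Agent.S5972

/-- Elements of prime order of Ω_n(q), n = 2d+1 ≥ 7, q odd, with no fixed totally singular `m`-space. Here `T = Ω_n(q)` is realised as the commutator subgroup of the isometry group of the quadratic form `x₀² + Σ xᵢyᵢ` over the field `F` with `q` elements (it has trivial centre, so its elements of prime order `r` are used directly); let `1 ≤ m ≤ d` and let `r` be a prime dividing the number of totally singular `m`-spaces. For `r ≠ p` let `i` be the multiplicative order of `q` modulo `r`, `c = i` for `i` even and `c = 2i` for `i` odd, and write `k = n mod c`,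 `ℓ = m mod i`, `n' = ⌊n/i⌋`, `m' = ⌊m/i⌋`, `t = (r−1)/i`. Then every element of `T` of order `r` fixes some totally singular `m`-space if and only if either (i) `r = 2` and (`m < (n−1)/2` or `q ≡ 1 (mod 4)`); or (ii) `r ≠ p` is odd, `i ≤ m`, `k > 2ℓ`, and (`i` is odd or `n' − 2m' ≥ t`). -/
theorem result {F : Type*} [Field F] [Fintype F] {p : ℕ} [Fact p.Prime] [CharP F p] {q : ℕ} (hq : Fintype.card F = q) (hqodd : Odd q)
    (d m : ℕ) (hd : 3 ≤ d) (hm : 1 ≤ m) (hmd : m ≤ d)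
    (r : ℕ) [Fact r.Prime]
    (hrΩ : r ∣ Nat.card {W : Submodule F (Unit ⊕ (Fin d ⊕ Fin d) → F) // Module.finrank F ↥W = m ∧ (∀ w ∈ W, Cfsg.quadFormOdd d F w = 0)})
    (i c : ℕ) (hi : i = orderOf (q : ZMod r)) (hc : c = if Even i then i else 2 * i) :
    (∀ x : GL (Unit ⊕ (Fin d ⊕ Fin d)) F, x ∈ Cfsg.Geo.omegaGL (Cfsg.quadFormOdd d F) → orderOf x = r →
      ∃ W : Submodule F (Unit ⊕ (Fin d ⊕ Fin d) → F), Module.finrank F ↥W = m ∧ (∀ w ∈ W, Cfsg.quadFormOdd d F w = 0) ∧
        W.map (Matrix.toLin' (x : Matrix (Unit ⊕ (Fin d ⊕ Fin d)) (Unit ⊕ (Fin d ⊕ Fin d)) F)) ≤ W) ↔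
    ((r = 2 ∧ (m < d ∨ q % 4 = 1)) ∨
     (r ≠ p ∧ 2 < r ∧ i ≤ m ∧ 2 * (m % i) < (2 * d + 1) % c ∧ (Odd i ∨ (r - 1) / i + 2 * (m / i) ≤ (2 * d + 1) / i))) := by
  have h2 : (2 : F) ≠ 0 := OrthPrime.two_ne_zero_of_odd hq hqodd
  have hp2 : p ≠ 2 := OrthPrime.char_ne_two_of_odd (F := F) hq hqodd
  have hQ := StdForms.oddQ_nondegenerate h2 d
  have hcard : Fintype.card (Unit ⊕ (Fin d ⊕ Fin d)) = 2 * d + 1 := by simp; omega
  have hfin : Module.finrank F (Unit ⊕ (Fin d ⊕ Fin d) → F) = 2 * d + 1 := by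
    rw [OrthPrime.finrank_fun_eq, hcard]
  have hw := OrthPrime.wIdx_odd (StdForms.oddQ F d) hfin
  rw [← StdForms.coe_oddQ (F := F) d] at hrΩ ⊢
  have hPeq : (fun W : Submodule F (Unit ⊕ (Fin d ⊕ Fin d) → F) =>
      Module.finrank F ↥W = m ∧ ∀ w ∈ W, StdForms.oddQ F d w = 0) = OrthPrime.TSsub (StdForms.oddQ F d) m := rfl
  rcases eq_or_ne r 2 with rfl | hr2
  · constructor
    · intro h
      refine Or.inl ⟨rfl, ?_⟩
      by_contra hc
      push Not at hc
      have hmd' : m = d := by omega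
      have hsq : ¬ IsSquare ((-1 : F) ^ 1) := by
        rw [OrthPrime.isSquare_neg_pow_iff hq hqodd]; omega
      obtain ⟨S, hS, hSd, hSs⟩ := OrthPrime.exists_nd_sub hQ (fun _ => h2) (l := 1) (s := -1) (Or.inr rfl)
        (by omega) (Or.inl (by omega))
      obtain ⟨x, hx, hxo, hmov, -⟩ := OrthPrime.exists_involution h2 hQ (by rw [hcard]; omega) hS hSd one_pos
        (iff_of_false (by rw [hSs]; decide) hsq)
      obtain ⟨W, hW₁, hW₀, hWi⟩ := h x hx hxo
      have hW : OrthPrime.TSsub (StdForms.oddQ F d) m W := ⟨hW₁, hW₀⟩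
      have he : Forms.glEquiv _ F x ^ 2 = 1 := by rw [← map_pow, ← hxo, pow_orderOf_eq_one, map_one]
      have hb := OrthPrime.involution_ts_bound hQ h2 (OrthPrime.isometry_of_mem hx) he hW
        ((OrthPrime.map_le_iff_inv x W).1 hWi)
      have hsum := Submodule.finrank_add_eq_of_isCompl
        (OrthPrime.isCompl_fixS_movS he (r := 2) (by simpa using h2))
      rw [hmov] at hb hsum
      rw [hSd, hfin] at hsum
      rw [OrthPrime.wIdx_odd _ (a := d - 1) (by omega), (OrthPrime.wIdx_of_qsgn _ hSd).2.2 hSs] at hb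
      omega
    · rintro (h | h)
      swap
      · exact absurd h.2.1 (lt_irrefl 2)
      intro x hx hxo
      have he : Forms.glEquiv _ F x ^ 2 = 1 := by rw [← map_pow, ← hxo, pow_orderOf_eq_one, map_one]
      obtain ⟨b, hb, hbs⟩ := OrthPrime.movS_facts h2 hQ (by rw [hcard]; omega) hx he
      have hsum := Submodule.finrank_add_eq_of_isCompl
        (OrthPrime.isCompl_fixS_movS he (r := 2) (by simpa using h2))
      rw [hb, hfin] at hsum
      obtain ⟨W, hW, hWi⟩ := OrthPrime.involution_fixes_ts hQ h2 (OrthPrime.isometry_of_mem hx) he (m := m) (by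
        rw [OrthPrime.wIdx_odd _ (a := d - b) (by omega)]
        obtain ⟨hge, hplus, -⟩ := OrthPrime.wIdx_of_qsgn (OrthPrime.rQ (StdForms.oddQ F d) (OrthPrime.movS _)) hb
        rcases h.2 with h | h
        · omega
        · rw [hplus (hbs.2 ((OrthPrime.isSquare_neg_pow_iff hq hqodd b).2 (Or.inr h)))]
          omega)
      exact ⟨W, hW.1, hW.2, (OrthPrime.map_le_iff_inv x W).2 hWi⟩
  have h2r : 2 < r := lt_of_le_of_ne (Fact.out : r.Prime).two_le (Ne.symm hr2)
  rcases eq_or_ne r p with rfl | hrp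
  · exact absurd hrΩ (OrthPrime.not_dvd_card_ts hQ (fun _ => h2) (by omega) (by omega))
  have hr0 : (r : F) ≠ 0 := OrthPrime.cast_ne_zero_of_ne hrp
  have hipos : 0 < i := by rw [hi, ← hq]; exact OrthPrime.orderOf_pos' hr0
  have hN : 1 ≤ (r - 1) / i := by
    rw [hi, ← hq]
    exact Nat.div_pos (Nat.le_of_dvd (by omega) (OrthPrime.orderOf_dvd_pred hr0)) (OrthPrime.orderOf_pos' hr0)
  have hgl := OrthPrime.gl_iff_orderOf hQ (by rw [hcard]; omega) hr2 (OrthPrime.TSsub (StdForms.oddQ F d) m)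
  have hcrit := OrthPrime.ts_criterion (Q := StdForms.oddQ F d) hQ (fun _ => h2) hr0 hr2 hfin
    (OrthPrime.qsgn_oddQ d) (show _ = i by rw [hi, ← hq]) (m := m) (by omega) hrΩ
  rw [show c = OrthPrime.Arith.cD i from hc]
  refine (Iff.trans ?_ (hgl.trans hcrit)).trans ?_
  · refine forall_congr' fun x => imp_congr_right fun _ => imp_congr_right fun _ => exists_congr fun W => ?_
    exact and_assoc.symm
  · constructor
    · rintro ⟨him, hC⟩
      obtain ⟨h1, h3⟩ := (OrthPrime.Arith.ts_odd_form hipos him hmd hN).1 hC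
      exact Or.inr ⟨hrp, h2r, him, h1, h3⟩
    · rintro (⟨h, -⟩ | ⟨-, -, him, h1, h3⟩)
      · exact absurd h hr2
      · exact ⟨him, (OrthPrime.Arith.ts_odd_form hipos him hmd hN).2 ⟨h1, h3⟩⟩

end Cfsg.Agent.S5972
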