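import Cfsg.Statements.S5973
import Cfsg.Agent.Lib.OrthPrime.TwoCases
-- import your own Cfsg.Agent.* helpers here

set_option autoImplicit false
open scoped MatrixGroups
open Cfsg
open Cfsg.Agent.Lib

namespace Cfsg.Agent.S5973

/-- Elements of prime order of PΩ⁺_n(q), n = 2d ≥ 8, with no fixed totally singular `m`-space, `m < n/2`. Here `T = PΩ⁺_n(q)` is realised through `Ω⁺_n(q)`, the commutator subgroup of the isometry group of the quadratic form `Σ xᵢyᵢ` over the field `F` with `q` elements; an element of `T` of prime order `r` is an element `x` of `Ω⁺_n(q)` with `x^r` scalar and `x` not scalar. Let `1 ≤ m < d` and let `r` be a prime dividing the number of totally singular `m`-spaces. For `r ≠ p` let `i` be the multiplicative order of `q` modulo `r`, `c = i` for `i` even and `c = 2i` for `i` odd, and write `k = n mod c`, `ℓ = m mod i`, `n' = ⌊n/i⌋`, `m' = ⌊m/i⌋`, `t = (r−1)/i`. Then every element of `T` of order `r` fixes some totally singular `m`-space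 if and only if one of: (i) `r = 2 ≠ p` and either `q ≡ 1 (mod 4)`, or `q ≡ 3 (mod 4)`, `m ≤ n/2 − 2` and (`m` even or `n ≡ 2 (mod 4)`); (ii) `r ≠ p` odd, `i` odd, `i ≤ m` and `k ≥ 2ℓ`; (iii) `r ≠ p` odd, `i` even, `i ≤ m`, `n' − 2m' ≥ t`, and one of: `i ≥ 2ℓ`, `k = 0`, `n/i` odd and `n' − 2m' > t`; or `k ≥ 2ℓ` and `n'` even; or `k > 2ℓ` and `n'` odd. -/
theorem result {F : Type*} [Field F] [Fintype F] {p : ℕ} [Fact p.Prime] [CharP F p] {q : ℕ} (hq : Fintype.card F = q)
    (d m : ℕ) (hd : 4 ≤ d) (hm : 1 ≤ m) (hmd : m < d)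
    (r : ℕ) [Fact r.Prime]
    (hrΩ : r ∣ Nat.card {W : Submodule F (Fin d ⊕ Fin d → F) // Module.finrank F ↥W = m ∧ (∀ w ∈ W, Cfsg.quadFormPlus d F w = 0)})
    (i c : ℕ) (hi : i = orderOf (q : ZMod r)) (hc : c = if Even i then i else 2 * i) :
    (∀ x : GL (Fin d ⊕ Fin d) F, x ∈ Cfsg.Geo.omegaGL (Cfsg.quadFormPlus d F) →
      (∃ z : F, ((x ^ r : GL (Fin d ⊕ Fin d) F) : Matrix (Fin d ⊕ Fin d) (Fin d ⊕ Fin d) F) = z • (1 : Matrix (Fin d ⊕ Fin d) (Fin d ⊕ Fin d) F)) →
      (∀ z : F, (x : Matrix (Fin d ⊕ Fin d) (Fin d ⊕ Fin d) F) ≠ z • (1 : Matrix (Fin d ⊕ Fin d) (Fin d ⊕ Fin d) F)) →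
      ∃ W : Submodule F (Fin d ⊕ Fin d → F), Module.finrank F ↥W = m ∧ (∀ w ∈ W, Cfsg.quadFormPlus d F w = 0) ∧
        W.map (Matrix.toLin' (x : Matrix (Fin d ⊕ Fin d) (Fin d ⊕ Fin d) F)) ≤ W) ↔
    ((r = 2 ∧ p ≠ 2 ∧ (q % 4 = 1 ∨ (q % 4 = 3 ∧ m + 2 ≤ d ∧ (Even m ∨ (2 * d) % 4 = 2)))) ∨
     (r ≠ p ∧ 2 < r ∧ Odd i ∧ i ≤ m ∧ 2 * (m % i) ≤ (2 * d) % c) ∨
     (r ≠ p ∧ 2 < r ∧ Even i ∧ i ≤ m ∧ (r - 1) / i + 2 * (m / i) ≤ (2 * d) / i ∧
       ((2 * (m % i) ≤ i ∧ (2 * d) % c = 0 ∧ Odd ((2 * d) / i) ∧ (r - 1) / i + 2 * (m / i) < (2 * d) / i) ∨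
        (2 * (m % i) ≤ (2 * d) % c ∧ Even ((2 * d) / i)) ∨
        (2 * (m % i) < (2 * d) % c ∧ Odd ((2 * d) / i))))) := by
  have hcard : Fintype.card (Fin d ⊕ Fin d) = 2 * d := by simp; omega
  have hQ := StdForms.plusQ_nondegenerate (F := F) d
  have hε := OrthPrime.qsgn_plusQ (F := F) d
  have hfin : Module.finrank F (Fin d ⊕ Fin d → F) = 2 * d := by rw [OrthPrime.finrank_fun_eq, hcard]
  have h2 : Odd (Module.finrank F (Fin d ⊕ Fin d → F)) → (2 : F) ≠ 0 :=
    fun h => absurd h (by rw [hfin]; exact Nat.not_odd_iff_even.2 (even_two_mul d))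
  have hw : m ≤ OrthPrime.wIdx (StdForms.plusQ F d) := by
    rw [(OrthPrime.wIdx_of_qsgn _ hfin).2.1 hε]; omega
  rw [← StdForms.coe_plusQ (F := F) d] at hrΩ ⊢
  rcases eq_or_ne r p with rfl | hrp
  · exact absurd hrΩ (OrthPrime.not_dvd_card_ts hQ h2 hw (by omega))
  rcases eq_or_ne r 2 with rfl | hr2
  · have hp2 : p ≠ 2 := Ne.symm hrp
    have hodd := OrthPrime.odd_of_char_ne_two (F := F) hq hp2
    have h2' := OrthPrime.two_ne_zero_of_odd (F := F) hq hodd
    have h8 := OrthPrime.q_mod_eight hodd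
    have hneg : ∀ k, IsSquare ((-1 : F) ^ k) ↔ _ := OrthPrime.isSquare_neg_pow_iff (F := F) hq hodd
    constructor
    · intro h
      refine Or.inl ⟨rfl, hp2, ?_⟩
      by_contra hc
      simp only [not_or, not_and, Nat.even_iff] at hc
      have hq3 : q % 4 = 3 := by omega
      rcases Nat.lt_or_ge d (m + 2) with hmd2 | hmd2
      · obtain ⟨S, hS, hSd, hSs⟩ := OrthPrime.exists_nd_sub hQ (fun _ => h2') (l := 1) (s := -1) (Or.inr rfl)
          (by omega) (Or.inl (by omega))
        obtain ⟨x, hx, hxo, hmov, hfix⟩ := OrthPrime.exists_involution h2' hQ (by omega) hS hSd one_pos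
          (iff_of_false (by rw [hSs]; decide) (by rw [hneg]; omega))
        have he : Forms.glEquiv _ F x ^ 2 = 1 := by rw [← map_pow, ← hxo, pow_orderOf_eq_one, map_one]
        obtain ⟨W, hW₁, hW₀, hWi⟩ := h x hx ⟨1, by rw [← hxo, pow_orderOf_eq_one, one_smul]; rfl⟩
          (fun z hz => by
            rw [OrthPrime.eq_smul_one_iff] at hz
            have hsub : OrthPrime.movS (Forms.glEquiv _ F x) ≤ LinearMap.range ((z - 1) • LinearMap.id) := by
              rintro _ ⟨v, rfl⟩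
              exact ⟨v, by simp [sub_smul, hz]⟩
            have hf := OrthPrime.qperp_fixS (OrthPrime.isometry_of_mem hx) he (r := 2) (by simpa using h2') hQ
            have hsum := Submodule.finrank_add_eq_of_isCompl
              (OrthPrime.isCompl_fixS_movS he (r := 2) (by simpa using h2'))
            rcases eq_or_ne z 1 with rfl | hz1
            · rw [sub_self, zero_smul, LinearMap.range_zero, le_bot_iff, hmov] at hsub
              rw [hsub, finrank_bot] at hSd
              omega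
            · have h0 : OrthPrime.fixS (Forms.glEquiv _ F x) = ⊥ := eq_bot_iff.2 fun v hv => by
                have : z • v = (1 : F) • v := by rw [← hz, one_smul]; exact OrthPrime.mem_fixS.1 hv
                rw [← sub_eq_zero, ← sub_smul, smul_eq_zero, sub_eq_zero] at this
                exact this.resolve_left hz1
              rw [h0, hmov, finrank_bot, hSd, hfin] at hsum
              omega)
        have hb := OrthPrime.involution_ts_bound hQ h2' (OrthPrime.isometry_of_mem hx) he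
          (show OrthPrime.TSsub (StdForms.plusQ F d) m W from ⟨hW₁, hW₀⟩) ((OrthPrime.map_le_iff_inv x W).1 hWi)
        have hsum := Submodule.finrank_add_eq_of_isCompl
          (OrthPrime.isCompl_fixS_movS he (r := 2) (by simpa using h2'))
        rw [hmov] at hb hsum
        rw [hSd, hfin] at hsum
        have hfd : Module.finrank F (OrthPrime.fixS (Forms.glEquiv _ F x)) = 2 * (d - 1) := by omega
        have hs := OrthPrime.qsgn_fix_mov hQ h2' (OrthPrime.isometry_of_mem hx) he hfd (hmov ▸ hSd)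
        rw [hε, hmov, hSs] at hs
        rw [(OrthPrime.wIdx_of_qsgn _ hSd).2.2 hSs, (OrthPrime.wIdx_of_qsgn _ hfd).2.2 (by linarith)] at hb
        omega
      · obtain ⟨x, hx, hxx⟩ := OrthPrime.exists_sqrt_neg h2' hQ (by omega) hcard
          (iff_of_true hε ((hneg d).2 (by omega))) (Or.inl (Nat.even_iff.2 (by omega)))
        obtain ⟨W, hW₁, hW₀, hWi⟩ := h x hx ⟨-1, (OrthPrime.eq_smul_one_iff _ _).2 fun v => by
            rw [map_pow, pow_two, LinearEquiv.mul_apply, hxx, neg_one_smul]⟩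
          (fun z hz => by
            obtain ⟨v, hv⟩ := OrthPrime.exists_anisotropic hQ (by omega)
            have h1 := hxx v
            rw [(OrthPrime.eq_smul_one_iff x z).1 hz, (OrthPrime.eq_smul_one_iff x z).1 hz, smul_smul] at h1
            have h3 : z * z = -1 := by
              have hv0 : v ≠ 0 := fun e => hv (by rw [e, QuadraticMap.map_zero])
              rw [← neg_one_smul F v] at h1
              exact smul_left_injective F hv0 h1
            exact ((hneg 1).not.2 (by omega)) ⟨z, by rw [pow_one, h3]⟩)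
        have := OrthPrime.isSquare_neg_one_pow_of_inv hxx ((OrthPrime.map_le_iff_inv x W).1 hWi)
        rw [hW₁, hneg] at this
        omega
    · rintro (⟨-, -, hR⟩ | h | h)
      rotate_left
      · exact absurd h.2.1 (lt_irrefl 2)
      · exact absurd h.2.1 (lt_irrefl 2)
      intro x hx ⟨z, hz⟩ _
      have hiso := OrthPrime.isometry_of_mem hx
      rcases OrthPrime.two_cases hQ (by omega) hx hz with he | he
      · obtain ⟨b', hb, hbs⟩ := OrthPrime.movS_facts h2' hQ (by omega) hx he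
        have hsum := Submodule.finrank_add_eq_of_isCompl
          (OrthPrime.isCompl_fixS_movS he (r := 2) (by simpa using h2'))
        rw [hb, hfin] at hsum
        have ha : Module.finrank F (OrthPrime.fixS (Forms.glEquiv _ F x)) = 2 * (d - b') := by omega
        have hs := OrthPrime.qsgn_fix_mov hQ h2' hiso he ha hb
        rw [hε] at hs
        obtain ⟨W, hW, hWi⟩ := OrthPrime.involution_fixes_ts hQ h2' hiso he (m := m) (by
          obtain ⟨hA1, hA2, hA3⟩ := OrthPrime.wIdx_of_qsgn (OrthPrime.rQ (StdForms.plusQ F d) _) ha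
          obtain ⟨hB1, hB2, hB3⟩ := OrthPrime.wIdx_of_qsgn (OrthPrime.rQ (StdForms.plusQ F d) _) hb
          rcases hR with hR | ⟨-, hR, -⟩
          · have := hbs.2 ((hneg b').2 (Or.inr hR))
            rw [this, mul_one] at hs
            rw [hA2 hs, hB2 this]; omega
          · omega)
        exact ⟨W, hW.1, hW.2, (OrthPrime.map_le_iff_inv x W).2 hWi⟩
      · obtain ⟨hs, h2d⟩ := OrthPrime.sqrt_neg_facts h2' hQ (by omega) hx he hcard
        rw [hε, hneg] at hs
        have hs' := hs.1 rfl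
        simp only [Nat.even_iff] at hR
        rcases hR with hR | ⟨hR, -, hR'⟩
        · obtain ⟨W, hW, hWi⟩ := OrthPrime.ts_of_isSquare h2' hQ hiso he
            (by simpa using (hneg 1).2 (Or.inr hR)) (m := m) (by omega)
          exact ⟨W, hW.1, hW.2, (OrthPrime.map_le_iff_inv x W).2 hWi⟩
        · obtain ⟨k, rfl⟩ : ∃ k, m = 2 * k := ⟨m / 2, by omega⟩
          obtain ⟨W, hW, hWi⟩ := OrthPrime.ts_even h2' hQ hiso he (k := k) (by omega)
          exact ⟨W, hW.1, hW.2, (OrthPrime.map_le_iff_inv x W).2 hWi⟩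
  have hr0 : (r : F) ≠ 0 := OrthPrime.cast_ne_zero_of_ne hrp
  have h2r : 2 < r := lt_of_le_of_ne (Fact.out : r.Prime).two_le (Ne.symm hr2)
  have hipos : 0 < i := by rw [hi, ← hq]; exact OrthPrime.orderOf_pos' hr0
  have hN : 1 ≤ (r - 1) / i := by
    rw [hi, ← hq]
    exact Nat.div_pos (Nat.le_of_dvd (by omega) (OrthPrime.orderOf_dvd_pred hr0)) (OrthPrime.orderOf_pos' hr0)
  have hgl := OrthPrime.gl_iff hQ (by omega) hr2 (OrthPrime.TSsub (StdForms.plusQ F d) m)
  have hcrit := OrthPrime.ts_criterion hQ h2 hr0 hr2 hfin hε (show _ = i by rw [hi, ← hq]) hw hrΩ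
  rw [show c = OrthPrime.Arith.cD i from hc]
  refine (Iff.trans ?_ (hgl.trans hcrit)).trans ?_
  · exact forall_congr' fun x => imp_congr_right fun _ => imp_congr_right fun _ => imp_congr_right fun _ =>
      exists_congr fun W => and_assoc.symm
  constructor
  · rintro ⟨him, hC⟩
    rcases (OrthPrime.Arith.ts_plus_form hipos him hmd hN).1 hC with ⟨h1, h3⟩ | ⟨h1, h3, h4⟩
    · exact Or.inr (Or.inl ⟨hrp, h2r, h1, him, h3⟩)
    · exact Or.inr (Or.inr ⟨hrp, h2r, h1, him, h3, h4⟩)
  · rintro (⟨h, -⟩ | ⟨-, -, h1, him, h3⟩ | ⟨-, -, h1, him, h3, h4⟩)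
    · exact absurd h hr2
    · exact ⟨him, (OrthPrime.Arith.ts_plus_form hipos him hmd hN).2 (Or.inl ⟨h1, h3⟩)⟩
    · exact ⟨him, (OrthPrime.Arith.ts_plus_form hipos him hmd hN).2 (Or.inr ⟨h1, h3, h4⟩)⟩

end Cfsg.Agent.S5973
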