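import Cfsg.Statements.S5974
import Cfsg.Agent.Lib.OrthPrime.TwoCases
import Cfsg.Agent.Lib.OrthPrime.InvolTwoTop
-- import your own Cfsg.Agent.* helpers here

set_option autoImplicit false
open scoped MatrixGroups
open Cfsg
open Cfsg.Agent.Lib

namespace Cfsg.Agent.S5974

/-- Elements of prime order of PΩ⁺_n(q), n = 2d ≥ 8, with no fixed nondegenerate hyperbolic `m`-space. Here `T = PΩ⁺_n(q)` is realised through `Ω⁺_n(q)`, the commutator subgroup of the isometry group of `Q = Σ xᵢyᵢ` over the field `F` with `q` elements; an element of `T` of prime order `r` is an element `x` of `Ω⁺_n(q)` with `x^r` scalar and `x` not scalar. A hyperbolic `m`-space is a subspace `W` of even dimension `m` on which the polar form of `Q` is nondegenerate and which contains a totally singular subspace of dimension `m/2`. Let `m` be even with `2 ≤ m < n/2`, and let `r` be a prime dividing the number of hyperbolic `m`-spaces, with `r = 2` or `r ≠ p`.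 For `r ≠ p` let `i` be the multiplicative order of `q` modulo `r`, `c = i` for `i` even and `c = 2i` for `i` odd, and write `k = n mod c`, `ℓ' = m mod c`. Then every element of `T` of order `r` fixes some hyperbolic `m`-space if and only if one of: (i) `r = 2` and (`n ≡ 2 (mod 4)`, or `m ≡ 0 (mod 4)`, or `q ≡ 1 (mod 4)`); (ii) `r ≠ p` odd, `i` odd, `c ≤ m` and `k ≥ ℓ'`; (iii) `r ≠ p` odd, `i` even, and either `k = 0` and (`n/i` odd, or `ℓ' = 0` and `m/i` even), or `i ≤ m` and (`k > ℓ' > 0`, or `k = ℓ' > 0` and `(n + m − 2k)/i` even, or `k > ℓ' = 0` and `m/i` even). -/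
theorem result {F : Type*} [Field F] [Fintype F] {p : ℕ} [Fact p.Prime] [CharP F p] {q : ℕ} (hq : Fintype.card F = q)
    (d m : ℕ) (hd : 4 ≤ d) (hm : 2 ≤ m) (hme : Even m) (hmd : m < d)
    (r : ℕ) [Fact r.Prime] (hr : r = 2 ∨ r ≠ p)
    (hrΩ : r ∣ Nat.card {W : Submodule F (Fin d ⊕ Fin d → F) // (Module.finrank F ↥W = m ∧ (∀ u ∈ W, u ≠ 0 → ∃ v ∈ W, QuadraticMap.polar (Cfsg.quadFormPlus d F) u v ≠ 0) ∧
          ∃ U : Submodule F (Fin d ⊕ Fin d → F), U ≤ W ∧ 2 * Module.finrank F ↥U = m ∧ ∀ u ∈ U, Cfsg.quadFormPlus d F u = 0)})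
    (i c : ℕ) (hi : i = orderOf (q : ZMod r)) (hc : c = if Even i then i else 2 * i) :
    (∀ x : GL (Fin d ⊕ Fin d) F, x ∈ Cfsg.Geo.omegaGL (Cfsg.quadFormPlus d F) →
      (∃ z : F, ((x ^ r : GL (Fin d ⊕ Fin d) F) : Matrix (Fin d ⊕ Fin d) (Fin d ⊕ Fin d) F) = z • (1 : Matrix (Fin d ⊕ Fin d) (Fin d ⊕ Fin d) F)) →
      (∀ z : F, (x : Matrix (Fin d ⊕ Fin d) (Fin d ⊕ Fin d) F) ≠ z • (1 : Matrix (Fin d ⊕ Fin d) (Fin d ⊕ Fin d) F)) →
      ∃ W : Submodule F (Fin d ⊕ Fin d → F), (Module.finrank F ↥W = m ∧ (∀ u ∈ W, u ≠ 0 → ∃ v ∈ W, QuadraticMap.polar (Cfsg.quadFormPlus d F) u v ≠ 0) ∧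
          ∃ U : Submodule F (Fin d ⊕ Fin d → F), U ≤ W ∧ 2 * Module.finrank F ↥U = m ∧ ∀ u ∈ U, Cfsg.quadFormPlus d F u = 0) ∧
        W.map (Matrix.toLin' (x : Matrix (Fin d ⊕ Fin d) (Fin d ⊕ Fin d) F)) ≤ W) ↔
    ((r = 2 ∧ ((2 * d) % 4 = 2 ∨ m % 4 = 0 ∨ q % 4 = 1)) ∨
     (r ≠ p ∧ 2 < r ∧ Odd i ∧ c ≤ m ∧ m % c ≤ (2 * d) % c) ∨
     (r ≠ p ∧ 2 < r ∧ Even i ∧
       (((2 * d) % c = 0 ∧ (Odd ((2 * d) / i) ∨ (m % c = 0 ∧ Even (m / i)))) ∨
        (i ≤ m ∧ ((m % c < (2 * d) % c ∧ 0 < m % c) ∨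
                  ((2 * d) % c = m % c ∧ 0 < m % c ∧ Even ((2 * d + m - 2 * ((2 * d) % c)) / i)) ∨
                  (0 < (2 * d) % c ∧ m % c = 0 ∧ Even (m / i))))))) := by
  have hcard : Fintype.card (Fin d ⊕ Fin d) = 2 * d := by simp; omega
  have hQ := StdForms.plusQ_nondegenerate (F := F) d
  have hε := OrthPrime.qsgn_plusQ (F := F) d
  have hfin : Module.finrank F (Fin d ⊕ Fin d → F) = 2 * d := by rw [OrthPrime.finrank_fun_eq, hcard]
  rw [← StdForms.coe_plusQ (F := F) d] at hrΩ ⊢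
  obtain ⟨l, hl⟩ := hme
  have hPeq : (fun W : Submodule F (Fin d ⊕ Fin d → F) => Module.finrank F ↥W = m ∧
      (∀ u ∈ W, u ≠ 0 → ∃ v ∈ W, QuadraticMap.polar ⇑(StdForms.plusQ F d) u v ≠ 0) ∧
      ∃ U : Submodule F (Fin d ⊕ Fin d → F), U ≤ W ∧ 2 * Module.finrank F ↥U = m ∧
        ∀ u ∈ U, StdForms.plusQ F d u = 0) = OrthPrime.NDsub (StdForms.plusQ F d) m 1 := funext fun W => propext (by
    constructor
    · rintro ⟨h1, h2, U, hU, hUd, hU0⟩
      refine ⟨h1, fun w hw hx => ?_, ?_⟩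
      · by_contra h0
        obtain ⟨v, hv, hne⟩ := h2 w hw h0
        exact hne (hx v hv)
      · rw [OrthPrime.qsgn_eq_one_iff, OrthPrime.isHyp_rQ_iff]
        exact ⟨U, hU, hU0, by rw [hUd, h1]⟩
    · rintro ⟨h1, h2, h3⟩
      rw [OrthPrime.qsgn_eq_one_iff, OrthPrime.isHyp_rQ_iff] at h3
      obtain ⟨U, hU, hU0, hUd⟩ := h3
      refine ⟨h1, fun u hu hu0 => ?_, U, hU, by rw [hUd, h1], hU0⟩
      by_contra hcon
      push Not at hcon
      exact hu0 (h2 u hu hcon))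
  rcases eq_or_ne r 2 with rfl | hr2
  · rcases eq_or_ne p 2 with rfl | hp2
    · constructor
      · intro h
        refine Or.inl ⟨rfl, ?_⟩
        by_contra hc
        simp only [not_or] at hc
        obtain ⟨x, hx, hxp, hxz, hts', hrk⟩ := OrthPrime.exists_shear_plus (F := F) (p := 2) hd
        obtain ⟨N, hxN, hQN, hNN, hev⟩ := OrthPrime.Two.omega_setup hQ (by omega) hx (z := 1)
          (by rw [hxp, one_smul]; rfl)
        have hN : (Forms.glEquiv _ F x).toLinearMap - LinearMap.id = N := LinearMap.ext fun v => by simp [hxN]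
        rw [hN] at hts' hrk
        obtain ⟨W, hW, hWi⟩ := h x hx ⟨1, by rw [hxp, one_smul]; rfl⟩ hxz
        obtain ⟨hWd, hWn, hWs⟩ : OrthPrime.NDsub (StdForms.plusQ F d) m 1 W := (congrFun hPeq W).mp hW
        refine OrthPrime.Two.no_odd_half hQN hNN (fun v => hts' _ ⟨v, rfl⟩) hQ hfin (Nat.even_iff.2 (by omega))
          hrk hWn (fun w hw => ?_) (k := l) (Nat.odd_iff.2 (by omega)) (by omega)
        have := (OrthPrime.map_le_iff_inv x W).1 hWi w hw
        rw [hxN] at this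
        simpa using sub_mem this hw
      · rintro (⟨-, hR⟩ | h | h)
        rotate_left
        · exact absurd h.2.1 (lt_irrefl 2)
        · exact absurd h.2.1 (lt_irrefl 2)
        intro x hx ⟨z, hz⟩ _
        obtain ⟨N, hxN, hQN, hNN, hev⟩ := OrthPrime.Two.omega_setup hQ (by omega) hx hz
        have hq2 : q % 2 = 0 := by
          obtain ⟨n, -, hn⟩ := FiniteField.card F 2
          rw [← hq, hn]
          simp [Nat.pow_mod, n.ne_zero]
        obtain ⟨W, hWn, hWi, hWd, hWs⟩ := OrthPrime.Two.plus_exists hQN hNN hQ hfin hε hev (k := l) (by omega)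
          (by omega) (by rw [Nat.odd_iff, Nat.even_iff]; omega)
        obtain ⟨h1, h3, h4⟩ := (congrFun hPeq W).mpr ⟨by omega, hWn, hWs⟩
        refine ⟨W, ⟨h1, h3, h4⟩, (OrthPrime.map_le_iff_inv x W).2 fun w hw => ?_⟩
        rw [hxN]
        exact add_mem hw (hWi w hw)
    have hodd := OrthPrime.odd_of_char_ne_two (F := F) hq hp2
    have h2 := OrthPrime.two_ne_zero_of_odd (F := F) hq hodd
    have hneg : ∀ k, IsSquare ((-1 : F) ^ k) ↔ _ := OrthPrime.isSquare_neg_pow_iff (F := F) hq hodd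
    have h8 := OrthPrime.isSquare_two_iff' (F := F) hq hodd
    have h8' := OrthPrime.q_mod_eight hodd
    constructor
    · intro h
      refine Or.inl ⟨rfl, ?_⟩
      by_contra hc
      simp only [not_or] at hc
      obtain ⟨x, hx, hxx⟩ := OrthPrime.exists_sqrt_neg h2 hQ (by omega) hcard
        (iff_of_true hε ((hneg d).2 (by omega))) (by rw [h8, Nat.even_iff]; omega)
      have hnot : ∀ W : Submodule F (Fin d ⊕ Fin d → F), OrthPrime.NDsub (StdForms.plusQ F d) m 1 W →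
          OrthPrime.Inv (Forms.glEquiv _ F x) W → False := by
        rintro W ⟨hWd, hWn, hWs⟩ hWi
        obtain ⟨j, -, hj, -, -, -, hjs⟩ := OrthPrime.exists_pairs h2 (OrthPrime.isometry_of_mem hx) hxx
          (one_ne_zero (α := F)) m hWd hWn hWi
        have := hjs.1 hWs
        rw [hneg] at this
        omega
      obtain ⟨W, hW, hWi⟩ := h x hx ⟨-1, (OrthPrime.eq_smul_one_iff _ _).2 fun v => by
          rw [map_pow, pow_two, LinearEquiv.mul_apply, hxx, neg_one_smul]⟩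
        (fun z hz => by
          obtain ⟨U, hUn, hUd, hUs⟩ := OrthPrime.exists_nd_sub hQ (fun _ => h2) (l := l) (s := 1) (Or.inl rfl)
            (fun _ => rfl) (Or.inl (by omega))
          exact hnot U ⟨by omega, hUn, hUs⟩ fun w hw => by
            rw [(OrthPrime.eq_smul_one_iff x z).1 hz]
            exact U.smul_mem z hw)
      exact hnot W ((congrFun hPeq W).mp hW) ((OrthPrime.map_le_iff_inv x W).1 hWi)
    · rintro (⟨-, hR⟩ | h | h)
      rotate_left
      · exact absurd h.2.1 (lt_irrefl 2)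
      · exact absurd h.2.1 (lt_irrefl 2)
      intro x hx ⟨z, hz⟩ _
      have hiso := OrthPrime.isometry_of_mem hx
      rcases OrthPrime.two_cases hQ (by omega) hx hz with he | he
      · obtain ⟨b', hb, -⟩ := OrthPrime.movS_facts h2 hQ (by omega) hx he
        obtain ⟨W, hW, hWi⟩ := OrthPrime.involution_fixes_nd_even hQ h2 hiso he hfin hb (by omega) (l := l)
          (by omega) (by omega) (s := 1) (Or.inl rfl)
        rw [show 2 * l = m by omega, ← hPeq] at hW
        exact ⟨W, hW, (OrthPrime.map_le_iff_inv x W).2 hWi⟩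
      · obtain ⟨hs, h2d⟩ := OrthPrime.sqrt_neg_facts h2 hQ (by omega) hx he hcard
        have hs' := (hneg d).1 (hs.1 hε)
        obtain ⟨W, hWd, hWn, hWi, hWs⟩ := OrthPrime.exists_nd_sqrt h2 hQ hiso he (k := l) (by omega)
        exact ⟨W, (congrFun hPeq W).mpr ⟨by omega, hWn, hWs.2 ((hneg l).2 (by omega))⟩,
          (OrthPrime.map_le_iff_inv x W).2 hWi⟩
  have hrp : r ≠ p := hr.resolve_left hr2
  have hr0 : (r : F) ≠ 0 := OrthPrime.cast_ne_zero_of_ne hrp
  have h2r : 2 < r := lt_of_le_of_ne (Fact.out : r.Prime).two_le (Ne.symm hr2)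
  have hipos : 0 < i := by rw [hi, ← hq]; exact OrthPrime.orderOf_pos' hr0
  have h2' : Odd (Module.finrank F (Fin d ⊕ Fin d → F)) → (2 : F) ≠ 0 :=
    fun h => absurd h (by rw [hfin]; exact Nat.not_odd_iff_even.2 (even_two_mul d))
  have hcrit := OrthPrime.nd_criterion (Q := StdForms.plusQ F d) hQ h2' hr0 hr2 hfin hε
    (show _ = i by rw [hi, ← hq]) (m := m) ⟨l, hl⟩ hm (by omega) (s := 1) (Or.inl rfl)
    (by rw [← hPeq]; exact hrΩ)
  have hform := OrthPrime.Arith.nd_5974 (d := d) hipos (by omega) hm hmd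
  have hgl := OrthPrime.gl_iff hQ (by omega) hr2 (OrthPrime.NDsub (StdForms.plusQ F d) m 1)
  rw [← hPeq] at hgl
  rw [hgl, hPeq, show c = OrthPrime.Arith.cD i from hc]
  constructor
  · intro ha
    obtain ⟨hcm, hC⟩ := hcrit.1 ha
    rcases hform.2 hcm hC with ⟨ho, h⟩ | ⟨he, h⟩
    · exact Or.inr (Or.inl ⟨hrp, h2r, ho, h⟩)
    · exact Or.inr (Or.inr ⟨hrp, h2r, he, h⟩)
  · rintro (⟨h, -⟩ | ⟨-, -, ho, h⟩ | ⟨-, -, he, h⟩)
    · exact absurd h hr2
    · exact hcrit.2 (hform.1 (Or.inl ⟨ho, h⟩))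
    · exact hcrit.2 (hform.1 (Or.inr ⟨he, h⟩))

end Cfsg.Agent.S5974
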