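import Cfsg.Statements.S5975
import Cfsg.Agent.Lib.SpExtDerange.Witnesses
import Cfsg.Agent.Lib.SpExtDerange.SelfAdj
import Cfsg.Agent.Lib.SpExtDerange.QuadEx

set_option autoImplicit false
open scoped MatrixGroups
open scoped Matrix
open Cfsg

open Cfsg.Agent.Lib Cfsg.Agent.Lib.SpExtDerange Matrix

namespace Cfsg.Agent.S5975

/-- Elements of prime order of PSp_n(q) and the field-extension subgroups of type Sp_{n/k}(q^k). Here `T = PSp_{2d}(F)` for a field `F` with `q` elements (`d ≥ 2`, `(d, q) ≠ (2, 2)`), realised through the matrices preserving the standard alternating form `f`; `k` is a prime and `K` is a subalgebra of the `2d × 2d` matrices that is a field of degree `k` over `F` whose elements are self-adjoint for `f` and satisfy `f(a v, v) = 0` (so `F^{2d}` becomes a vector space over `K ≅ F_{q^k}` on which `f` is the trace of a `K`-bilinear alternating form); `H` is the subgroup of `T` normalizing `K` — the symplectic maps that are `K`-linear or `K`-semilinear, a subgroup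 of type Sp_{2d/k}(q^k) (maximality is not assumed). Ω is the set of cosets of `H` in `T`, so an element of `T` of prime order `r` (`x ∈ T` with `x^r` scalar, `x` not scalar) fixes a point of Ω exactly when some `T`-conjugate of `x` normalizes `K`. Let `r` be a prime dividing the index of `H`. Then every element of `T` of order `r` fixes a point of Ω if and only if `r = 2`, `d = 2`, `k = 2` and `q` is odd. -/
theorem result {F : Type*} [Field F] [Fintype F] {p : ℕ} [Fact p.Prime] [CharP F p] {q : ℕ} (hq : Fintype.card F = q)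
    (d : ℕ) (hd : 2 ≤ d) (hT : (d, q) ≠ (2, 2)) (k : ℕ) (hk : k.Prime)
    (K : Subalgebra F (Matrix (Fin d ⊕ Fin d) (Fin d ⊕ Fin d) F)) (hK : Cfsg.Geo.IsFieldSubalgebra k K)
    (hKf : Cfsg.Geo.IsSelfAdjointFor (Cfsg.sympForm d F) K) (hKalt : ∀ a ∈ K, ∀ v : Fin d ⊕ Fin d → F, Cfsg.sympForm d F (a *ᵥ v) v = 0)
    (r : ℕ) [Fact r.Prime]
    (hΩ : r ∣ (Cfsg.Geo.subalgebraNormalizer K).relIndex (Cfsg.spGL d F)) :
    (∀ x ∈ Cfsg.spGL d F, (∃ z : F, ((x ^ r : GL (Fin d ⊕ Fin d) F) : Matrix (Fin d ⊕ Fin d) (Fin d ⊕ Fin d) F) = z • (1 : Matrix (Fin d ⊕ Fin d) (Fin d ⊕ Fin d) F)) →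
      (∀ z : F, (x : Matrix (Fin d ⊕ Fin d) (Fin d ⊕ Fin d) F) ≠ z • (1 : Matrix (Fin d ⊕ Fin d) (Fin d ⊕ Fin d) F)) →
      ∃ g ∈ Cfsg.spGL d F, g⁻¹ * x * g ∈ Cfsg.Geo.subalgebraNormalizer K) ↔
    (r = 2 ∧ d = 2 ∧ k = 2 ∧ Odd q) := by
  show AllNorm K r ↔ _
  classical
  subst hq
  haveI : Nonempty (Fin d ⊕ Fin d) := ⟨Sum.inl ⟨0, by omega⟩⟩
  have hr : r.Prime := Fact.out
  have hcardF : Fintype.card (Fin d ⊕ Fin d) = 2 * d := by simp; omega
  obtain ⟨n, hn0, hn⟩ := FiniteField.card F p
  constructor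
  · intro hall
    have hrp : r ≠ p := by
      rintro rfl
      exact not_allNorm_char hd hK hk.two_le hall
    have hrq : ¬ r ∣ Fintype.card F := fun h => hrp ((Nat.prime_dvd_prime_iff_eq hr Fact.out).1
      (hr.dvd_of_dvd_pow (hn ▸ h)))
    have hrF : (r : F) ≠ 0 :=
      Semisimple.natCast_ne_zero_of_coprime (p := p) ((Nat.coprime_primes hr Fact.out).2 hrp)
    obtain ⟨c, hdc, hdvd⟩ := card_dvd K hK hKf hKalt
    have hc : 1 ≤ c := Nat.pos_of_ne_zero fun h => by rw [h, mul_zero] at hdc; omega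
    by_cases hr2 : r = 2
    · subst hr2
      have hodd : Odd (Fintype.card F) := by
        rw [hn]; exact ((Fact.out : p.Prime).odd_of_ne_two fun h => hrp h.symm).pow
      have h2 : (2 : F) ≠ 0 := by exact_mod_cast hrF
      obtain ⟨A, hA, hAA, hns, hr1, hr1'⟩ := exists_pair_involution (F := F) hd h2
      obtain ⟨g, y, hg, hy, hyN, hy2, hyv⟩ := exists_moved hall hA (by rw [sq, hAA]) hns
      have hyy : (y : Matrix (Fin d ⊕ Fin d) (Fin d ⊕ Fin d) F) * y = 1 := by
        rw [← Units.val_mul, ← sq, hy2, Units.val_one]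
      have e1 := finrank_fixSp_moved g hyv
      have e2 := finrank_fixSp_moved g (A := -A) (Y := -(y : Matrix (Fin d ⊕ Fin d) (Fin d ⊕ Fin d) F))
        (by rw [mul_neg, neg_mul, hyv])
      have f1 := finrank_fixSp_add_rank A
      have f2 := finrank_fixSp_add_rank (-A)
      rw [hr1, hcardF] at f1
      rw [hr1', hcardF] at f2
      have hgr : ∀ a ∈ K, ((y ^ 2 : GL (Fin d ⊕ Fin d) F) : Matrix (Fin d ⊕ Fin d) (Fin d ⊕ Fin d) F) * a =
          a * ((y ^ 2 : GL (Fin d ⊕ Fin d) F) : Matrix (Fin d ⊕ Fin d) (Fin d ⊕ Fin d) F) := fun a _ => by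
        rw [hy2, Units.val_one, one_mul, mul_one]
      by_cases hlin : ∀ a ∈ K, (y : Matrix (Fin d ⊕ Fin d) (Fin d ⊕ Fin d) F) * a = a * (y : Matrix (Fin d ⊕ Fin d) (Fin d ⊕ Fin d) F)
      · have h := dvd_finrank_fixSp K hK hKf hKalt (A := -(y : Matrix (Fin d ⊕ Fin d) (Fin d ⊕ Fin d) F))
          (fun u v => by
            rw [neg_mulVec, neg_mulVec, ← neg_one_smul F, ← neg_one_smul F ((y : Matrix (Fin d ⊕ Fin d) (Fin d ⊕ Fin d) F) *ᵥ v),
              SympMax.form_smul_left, SympMax.form_smul_right, form_spGL hy]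
            ring)
          (fun a ha => by rw [neg_mul, mul_neg, hlin a ha]) hrF (by rw [neg_sq, sq, hyy])
        rw [e2, show Module.finrank F (fixSp (-A)) = 2 by omega] at h
        have := Nat.le_of_dvd two_pos h
        have := hk.two_le
        omega
      · obtain rfl : 2 = k := (comm_or_eq hK hr hk hyN hgr).resolve_left hlin
        push Not at hlin
        obtain ⟨a, ha, hne⟩ := hlin
        obtain ⟨a', ha', hya⟩ := exists_conj hyN ha
        have hya' : (y : Matrix (Fin d ⊕ Fin d) (Fin d ⊕ Fin d) F) * a' = a * (y : Matrix (Fin d ⊕ Fin d) (Fin d ⊕ Fin d) F) := by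
          have h := congrArg (fun M => (y : Matrix (Fin d ⊕ Fin d) (Fin d ⊕ Fin d) F) * M * (y : Matrix (Fin d ⊕ Fin d) (Fin d ⊕ Fin d) F)) hya
          simp only [← mul_assoc, hyy, one_mul] at h
          rw [h, mul_assoc, hyy, mul_one]
        have hb0 : a' - a ≠ 0 := fun h => hne (by rw [hya, sub_eq_zero.1 h])
        obtain ⟨b, -, hb⟩ := hK.inv _ (sub_mem ha' ha) hb0
        have h := finrank_fixSp_neg (g := (y : Matrix (Fin d ⊕ Fin d) (Fin d ⊕ Fin d) F)) (mul_eq_one_comm.1 hb)
          (by rw [mul_sub, sub_mul, hya', hya, neg_sub])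
        rw [e1, e2] at h
        exact ⟨rfl, by omega, rfl, hodd⟩
    · exfalso
      have h1 := dvd_trans (mul_dvd_mul_right hΩ _) hdvd
      rw [natCard_spGL_symp, Classical.natCard_symplecticGroup, Nat.card_eq_fintype_card] at h1
      subst hdc
      obtain ⟨i, hi1, hid, hki, hri⟩ := exists_not_dvd_of_index hr hrq hk.one_le Fintype.one_lt_card h1
      have hji : halfOrd r (Fintype.card F) ∣ i := halfOrd_dvd Fintype.card_pos hri
      have hjd := (Nat.le_of_dvd (by omega) hji).trans hid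
      obtain ⟨A, hA, hAr, hrank, E, _, _, _, w, -, -, -, hw⟩ :=
        exists_witness (F := F) (p := p) hr hr2 hrp hjd
      obtain ⟨g, y, hg, hy, hyN, hyr, hyv⟩ :=
        exists_moved hall hA hAr (ne_scalar_of_rank (algebraMap F E) w hrank hw (by omega))
      have e1 := finrank_fixSp_moved g hyv
      have f1 := finrank_fixSp_add_rank A
      rw [hrank, hcardF] at f1
      by_cases hlin : ∀ a ∈ K, (y : Matrix (Fin (k * c) ⊕ Fin (k * c)) (Fin (k * c) ⊕ Fin (k * c)) F) * a = a * (y : Matrix (Fin (k * c) ⊕ Fin (k * c)) (Fin (k * c) ⊕ Fin (k * c)) F)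
      · have h := dvd_finrank_fixSp K hK hKf hKalt (form_spGL hy) hlin hrF
          (by rw [← Units.val_pow_eq_pow_val, hyr, Units.val_one])
        rw [e1] at h
        have hkj : 2 * k ∣ 2 * halfOrd r (Fintype.card F) := (Nat.dvd_add_right h).1
          (by rw [f1]; exact mul_dvd_mul_left 2 (dvd_mul_right k c))
        exact hki ((Nat.dvd_of_mul_dvd_mul_left two_pos hkj).trans hji)
      · obtain rfl : r = k := (comm_or_eq hK hr hk hyN fun a _ => by
          rw [hyr, Units.val_one, one_mul, mul_one]).resolve_left hlin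
        push Not at hlin
        obtain ⟨a, ha, hne⟩ := hlin
        have h := two_mul_fixSp_le hK hyN ha hne
        rw [e1, hcardF] at h
        have := two_mul_halfOrd_le hr hr2 hrq
        have := Nat.le_mul_of_pos_right r hc
        have := hr.two_le
        omega
  · rintro ⟨rfl, rfl, rfl, hodd⟩
    have h2 : (2 : F) ≠ 0 := Ring.two_ne_zero fun h => by
      have := FiniteField.even_card_of_char_two h
      obtain ⟨m, hm⟩ := hodd; omega
    exact allNorm_two h2 K hK hKf hKalt

end Cfsg.Agent.S5975
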