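import Cfsg.Statements.S5976
import Cfsg.Agent.Lib.SpExtDerange.Witnesses
import Cfsg.Agent.Lib.SpExtDerange.UnitaryEx

set_option autoImplicit false
open scoped MatrixGroups
open Cfsg

open Cfsg.Agent.Lib Cfsg.Agent.Lib.SpExtDerange Matrix

namespace Cfsg.Agent.S5976

/-- Elements of prime order of PSp_n(q), q odd, and the subgroups of type GU_{n/2}(q). Here `T = PSp_{2d}(F)` for a field `F` with `q` elements, `q` odd, `d ≥ 2`, realised through the matrices preserving the standard alternating form `f`; `K` is a subalgebra of the `2d × 2d` matrices that is a field of degree 2 over `F`, closed under taking adjoints for `f` but not consisting of self-adjoint elements (so `F^{2d}` becomes a `d`-dimensional space over `K ≅ F_{q²}` on which `f` is the trace of a multiple of a non-degenerate hermitian form); `H` is the subgroup of `T` normalizing `K` — the symplectic maps that are `K`-linear or `K`-semilinear, a subgroup of type GU_d(q) (maximality is not assumed).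 Ω is the set of cosets of `H` in `T`, so an element of `T` of prime order `r` (`x ∈ T` with `x^r` scalar, `x` not scalar) fixes a point of Ω exactly when some `T`-conjugate of `x` normalizes `K`. Let `r` be a prime dividing the index of `H`. Then every element of `T` of order `r` fixes a point of Ω if and only if `r = 2`. -/
theorem result {F : Type*} [Field F] [Fintype F] {p : ℕ} [Fact p.Prime] [CharP F p] {q : ℕ} (hq : Fintype.card F = q)
    (hodd : Odd q) (d : ℕ) (hd : 2 ≤ d)
    (K : Subalgebra F (Matrix (Fin d ⊕ Fin d) (Fin d ⊕ Fin d) F)) (hK : Cfsg.Geo.IsFieldSubalgebra 2 K)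
    (hKf : Cfsg.Geo.IsAdjointClosedFor (Cfsg.sympForm d F) K) (hKns : ¬ Cfsg.Geo.IsSelfAdjointFor (Cfsg.sympForm d F) K)
    (r : ℕ) [Fact r.Prime]
    (hΩ : r ∣ (Cfsg.Geo.subalgebraNormalizer K).relIndex (Cfsg.spGL d F)) :
    (∀ x ∈ Cfsg.spGL d F, (∃ z : F, ((x ^ r : GL (Fin d ⊕ Fin d) F) : Matrix (Fin d ⊕ Fin d) (Fin d ⊕ Fin d) F) = z • (1 : Matrix (Fin d ⊕ Fin d) (Fin d ⊕ Fin d) F)) →
      (∀ z : F, (x : Matrix (Fin d ⊕ Fin d) (Fin d ⊕ Fin d) F) ≠ z • (1 : Matrix (Fin d ⊕ Fin d) (Fin d ⊕ Fin d) F)) →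
      ∃ g ∈ Cfsg.spGL d F, g⁻¹ * x * g ∈ Cfsg.Geo.subalgebraNormalizer K) ↔ r = 2 := by
  show AllNorm K r ↔ _
  classical
  subst hq
  haveI : Nonempty (Fin d ⊕ Fin d) := ⟨Sum.inl ⟨0, by omega⟩⟩
  have hr : r.Prime := Fact.out
  obtain ⟨n, hn0, hn⟩ := FiniteField.card F p
  have h2 : (2 : F) ≠ 0 := Ring.two_ne_zero fun h => by
    have := FiniteField.even_card_of_char_two h
    obtain ⟨m, hm⟩ := hodd; omega
  constructor
  · intro hall
    by_contra hr2
    have hrp : r ≠ p := by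
      rintro rfl
      exact not_allNorm_char hd hK le_rfl hall
    have hrq : ¬ r ∣ Fintype.card F := fun h => hrp ((Nat.prime_dvd_prime_iff_eq hr Fact.out).1
      (hr.dvd_of_dvd_pow (hn ▸ h)))
    have hrF : (r : F) ≠ 0 :=
      Semisimple.natCast_ne_zero_of_coprime (p := p) ((Nat.coprime_primes hr Fact.out).2 hrp)
    have h1 := dvd_trans (mul_dvd_mul_right hΩ _) (unitary_card_dvd hodd K hK hKf hKns)
    rw [natCard_spGL_symp, Classical.natCard_symplecticGroup, Nat.card_eq_fintype_card] at h1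
    obtain ⟨i, hi1, hid, hi⟩ := exists_of_unitary_index hr hrq Fintype.one_lt_card h1
    set q := Fintype.card F
    set o := orderOf (q : ZMod r) with ho
    have hri : r ∣ q ^ (2 * i) - 1 := by
      have e : q ^ (2 * i) - 1 = (q ^ i + 1) * (q ^ i - 1) := by
        rw [← Nat.sq_sub_sq, one_pow, ← pow_mul, mul_comm 2]
      rw [e]
      rcases hi with ⟨-, h⟩ | ⟨-, h⟩
      · exact h.mul_left _
      · exact h.mul_right _
    have hjd := (Nat.le_of_dvd (by omega) (halfOrd_dvd Fintype.card_pos hri)).trans hid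
    have hcase : Odd o ∨ ∃ e, o = 2 * e ∧ Even e := by
      rcases hi with ⟨hio, h⟩ | ⟨hie, h⟩
      · exact Or.inl (hio.of_dvd_nat ((dvd_pow_sub_one_iff Fintype.card_pos i).1 h))
      have hno : ¬ o ∣ i := fun hd' => by
        have h' := (dvd_pow_sub_one_iff Fintype.card_pos i).2 hd'
        have h3 := Nat.dvd_sub h h'
        rw [show q ^ i + 1 - (q ^ i - 1) = 2 by
          have := Nat.one_le_pow i q Fintype.card_pos; omega] at h3
        exact hr2 ((Nat.prime_dvd_prime_iff_eq hr Nat.prime_two).1 h3)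
      have h2i : o ∣ 2 * i := (dvd_pow_sub_one_iff Fintype.card_pos (2 * i)).1 hri
      rcases Nat.even_or_odd o with ⟨e, he⟩ | he
      · refine Or.inr ⟨e, by omega, ?_⟩
        rw [he, ← two_mul] at h2i hno
        obtain ⟨c, hc⟩ := Nat.dvd_of_mul_dvd_mul_left two_pos h2i
        rw [hc] at hie hno
        rcases Nat.even_mul.1 hie with h' | ⟨b, hb⟩
        · exact h'
        · exact absurd ⟨b, by rw [hb]; ring⟩ hno
      · exact absurd ((Nat.coprime_two_right.2 he).dvd_of_dvd_mul_left h2i) hno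
    obtain ⟨A, hA, hAr, hrank, E, _, _, _, w, hEo, hwr, hwe, hw⟩ :=
      exists_witness (F := F) (p := p) hr hr2 hrp hjd
    obtain ⟨g, y, hg, hy, hyN, hyr, hyv⟩ :=
      exists_moved hall hA hAr (ne_scalar_of_rank (algebraMap F E) w hrank hw (by omega))
    obtain ⟨j, δ, hjK, hjj, hns, hjf, -, -⟩ := exists_anti_gen hodd K hK hKf hKns
    have hlin : ∀ a ∈ K, (y : Matrix (Fin d ⊕ Fin d) (Fin d ⊕ Fin d) F) * a = a * (y : Matrix (Fin d ⊕ Fin d) (Fin d ⊕ Fin d) F) :=
      (comm_or_eq hK hr Nat.prime_two hyN fun a _ => by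
        rw [hyr, Units.val_one, one_mul, mul_one]).resolve_right hr2
    refine not_unitary_simple_root hodd j y hjj hns hjf (form_spGL hy) (hlin j hjK) hrF
      (by rw [← Units.val_pow_eq_pow_val, hyr, Units.val_one]) (by omega) E w o hEo hwr hwe ?_ hcase
    rw [hyv, Matrix.map_mul, Matrix.map_mul]
    set G := Units.map (algebraMap F E).mapMatrix.toMonoidHom g
    have e : ((g⁻¹ : GL (Fin d ⊕ Fin d) F) : Matrix (Fin d ⊕ Fin d) (Fin d ⊕ Fin d) F).map (algebraMap F E) =
        ((G⁻¹ : GL (Fin d ⊕ Fin d) E) : Matrix (Fin d ⊕ Fin d) (Fin d ⊕ Fin d) E) := rfl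
    have e' : (g : Matrix (Fin d ⊕ Fin d) (Fin d ⊕ Fin d) F).map (algebraMap F E) =
        (G : Matrix (Fin d ⊕ Fin d) (Fin d ⊕ Fin d) E) := rfl
    rw [e, e', show ((G⁻¹ : GL (Fin d ⊕ Fin d) E) : Matrix (Fin d ⊕ Fin d) (Fin d ⊕ Fin d) E) * A.map (algebraMap F E) *
        (G : Matrix (Fin d ⊕ Fin d) (Fin d ⊕ Fin d) E) - w • 1 =
        ((G⁻¹ : GL (Fin d ⊕ Fin d) E) : Matrix (Fin d ⊕ Fin d) (Fin d ⊕ Fin d) E) * (A.map (algebraMap F E) - w • 1) *
          (G : Matrix (Fin d ⊕ Fin d) (Fin d ⊕ Fin d) E) by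
        rw [mul_sub, sub_mul, mul_smul_comm, mul_one, smul_mul_assoc, ← Units.val_mul G⁻¹ G, inv_mul_cancel,
          Units.val_one],
      rank_mul_eq_left_of_isUnit_det _ _ ((isUnit_iff_isUnit_det _).1 G.isUnit),
      rank_mul_eq_right_of_isUnit_det _ _ ((isUnit_iff_isUnit_det _).1 (G⁻¹).isUnit), hw]
  · rintro rfl
    exact allNorm_two_anti h2 K hodd hK hKf hKns

end Cfsg.Agent.S5976
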