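import Cfsg.Statements.S5979
import Cfsg.Agent.Lib.TensorDerange.Similar

set_option autoImplicit false
open scoped MatrixGroups
open Cfsg

namespace Cfsg.Agent.S5979

theorem no_root_of_le {F : Type*} [Field F] [Fintype F] (h2 : (2 : F) ≠ 0) {n : ℕ}
    (h : padicValNat 2 (Fintype.card F - 1) ≤ padicValNat 2 n) : ¬ ∃ s : F, s ^ n = -1 := by
  rintro ⟨s, hs⟩
  have hq : 1 < Fintype.card F := Fintype.one_lt_card
  rcases Nat.eq_zero_or_pos n with rfl | hn
  · exact h2 (by linear_combination hs)
  have hs0 : s ≠ 0 := fun h0 => by simp [h0, hn.ne'] at hs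
  obtain ⟨e, t, ht, hq'⟩ := Nat.exists_eq_two_pow_mul_odd (n := Fintype.card F - 1) (by omega)
  have hve : padicValNat 2 (Fintype.card F - 1) = e := by
    rw [hq', padicValNat.mul (by positivity) (by rintro rfl; simp at ht), padicValNat.prime_pow,
      padicValNat.eq_zero_of_not_dvd (Nat.two_dvd_ne_zero.2 (Nat.odd_iff.1 ht)), add_zero]
  have hdvd : 2 ^ e ∣ n := (pow_dvd_pow 2 (hve ▸ h)).trans pow_padicValNat_dvd
  obtain ⟨c, hc⟩ := hdvd
  have h1 := FiniteField.pow_card_sub_one_eq_one s hs0
  have h3 : s ^ (n * t) = 1 := by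
    rw [hc, show 2 ^ e * c * t = (Fintype.card F - 1) * c by rw [hq']; ring, pow_mul, h1, one_pow]
  rw [pow_mul, hs, ht.neg_one_pow] at h3
  exact h2 (by linear_combination -h3)

theorem exists_root_of_lt {F : Type*} [Field F] [Fintype F] (h2 : (2 : F) ≠ 0) {n : ℕ} (hn : 0 < n)
    (h : padicValNat 2 n < padicValNat 2 (Fintype.card F - 1)) : ∃ s : F, s ^ n = -1 := by
  have hq : 1 < Fintype.card F := Fintype.one_lt_card
  have hchar : ringChar F ≠ 2 := fun hc => h2 (by
    have h' := ringChar.Nat.cast_ringChar (R := F)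
    rw [hc] at h'
    exact_mod_cast h')
  obtain ⟨a, ha⟩ := FiniteField.exists_nonsquare hchar
  have ha0 : a ≠ 0 := fun e => ha (e ▸ IsSquare.zero)
  have hodd : Odd (Fintype.card F) := Nat.odd_iff.2 (FiniteField.odd_card_of_char_ne_two hchar)
  have hEu : a ^ (Fintype.card F / 2) = -1 :=
    (FiniteField.pow_dichotomy hchar ha0).resolve_left fun h1 =>
      ha ((FiniteField.isSquare_iff hchar ha0).2 h1)
  obtain ⟨e, n', hn', hne⟩ := Nat.exists_eq_two_pow_mul_odd (n := n) hn.ne'
  have hve : padicValNat 2 n = e := by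
    rw [hne, padicValNat.mul (by positivity) (by rintro rfl; simp at hn'), padicValNat.prime_pow,
      padicValNat.eq_zero_of_not_dvd (Nat.two_dvd_ne_zero.2 (Nat.odd_iff.1 hn')), add_zero]
  obtain ⟨c, hc⟩ : 2 ^ (e + 1) ∣ Fintype.card F - 1 :=
    (pow_dvd_pow 2 (by omega)).trans pow_padicValNat_dvd
  refine ⟨a ^ c, ?_⟩
  have hhalf : Fintype.card F / 2 = 2 ^ e * c := by
    obtain ⟨k, hk⟩ := hodd
    rw [pow_succ, mul_assoc, mul_left_comm, hk] at hc
    omega
  rw [← pow_mul, hne, show c * (2 ^ e * n') = Fintype.card F / 2 * n' by rw [hhalf]; ring, pow_mul,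
    hEu, hn'.neg_one_pow]

/-- Elements of prime order of PSL_n(q) and the stabilizers of tensor decompositions with factors of different dimensions. Here `T = PSL_n(F)` for a field `F` with `q` elements and `n = a·b` with `2 ≤ a < b`; a tensor decomposition `F^n ≅ F^a ⊗ F^b` is given by a bijection `e` of index sets and a change of basis `P`, and `H` is the subgroup of matrices of determinant 1 in its stabilizer (the conjugate by `P` of the group of Kronecker products `g₁ ⊗ g₂`) — a subgroup of type GL_a(q) ⊗ GL_b(q) (maximality is not assumed); Ω is the set of cosets of `H` in `T`, so an element of `T` of prime order `r` (a matrix `x` of determinant 1 with `x^r` scalar, `x` not scalar) fixes a point of Ω exactly when some conjugate of `x` by a matrix of determinant 1 lies in `H`. Let `r` be a prime dividing the index of `H`. Then every element of `T` of order `r` fixes a point of Ω if and only if `r = 2`, `a = 2`, `q` is odd and `(q − 1)_2 ≤ (n)_2` (2-parts). -/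
theorem result {F : Type*} [Field F] [Fintype F] {p : ℕ} [Fact p.Prime] [CharP F p] {q : ℕ} (hq : Fintype.card F = q)
    (n a b : ℕ) (hab : n = a * b) (ha : 2 ≤ a) (hlt : a < b) (e : Fin n ≃ Fin a × Fin b) (P : GL (Fin n) F)
    (r : ℕ) [Fact r.Prime]
    (hΩ : r ∣ (Cfsg.Geo.tensorProductSubgroup a b e P).relIndex (Cfsg.Geo.specialLinear (Fin n) F)) :
    (∀ x ∈ Cfsg.Geo.specialLinear (Fin n) F, (∃ z : F, ((x ^ r : GL (Fin n) F) : Matrix (Fin n) (Fin n) F) = z • (1 : Matrix (Fin n) (Fin n) F)) →
      (∀ z : F, (x : Matrix (Fin n) (Fin n) F) ≠ z • (1 : Matrix (Fin n) (Fin n) F)) →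
      ∃ g ∈ Cfsg.Geo.specialLinear (Fin n) F, g⁻¹ * x * g ∈ Cfsg.Geo.tensorProductSubgroup a b e P) ↔
    (r = 2 ∧ a = 2 ∧ Odd q ∧ padicValNat 2 (q - 1) ≤ padicValNat 2 n) := by
  classical
  open Cfsg.Agent.Lib.TensorDerange in
  exact by
    subst hq
    have hrp : r.Prime := Fact.out
    have hpp : p.Prime := Fact.out
    obtain ⟨k, hk⟩ := FiniteField.card F p
    have hqodd : p ≠ 2 → Odd (Fintype.card F) := fun h => by
      rw [hk.2]; exact (hpp.odd_of_ne_two h).pow
    show AllFix e P r ↔ _
    constructor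
    · intro hall
      by_cases hrp' : r = p
      · subst hrp'
        exact absurd hall (not_allFix_char e P ha (by omega) hrp)
      have hrq : ¬ r ∣ Fintype.card F := fun h => by
        rw [hk.2] at h
        exact hrp' ((Nat.prime_dvd_prime_iff_eq hrp hpp).1 (hrp.dvd_of_dvd_pow h))
      by_cases hr2 : r = 2
      · subst hr2
        have hp2 : p ≠ 2 := fun h => hrp' h.symm
        have h2 : (2 : F) ≠ 0 := fun h => hp2
          ((Nat.prime_dvd_prime_iff_eq hpp Nat.prime_two).1
            ((CharP.cast_eq_zero_iff F p 2).1 (by exact_mod_cast h)))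
        have ha2 : a = 2 := by
          by_contra hne
          exact not_allFix_two e P (by omega) hlt h2 hall
        refine ⟨rfl, ha2, hqodd hp2, ?_⟩
        by_contra hlt'
        obtain ⟨s, hs⟩ := exists_root_of_lt h2 (n := n) (by subst hab; exact Nat.mul_pos (by omega) (by omega)) (by omega)
        exact not_allFix_two_root e P ha2 (by omega) h2 hs hall
      · exfalso
        refine not_allFix_odd e P ha hlt hrp hr2 hrq ?_ hall
        exact (hΩ.trans (Subgroup.index_dvd_card _)).trans (Subgroup.card_subgroup_dvd_card _)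
    · rintro ⟨rfl, rfl, hodd, hv⟩
      have h2 : (2 : F) ≠ 0 := fun h => by
        have hp2 : p = 2 := (Nat.prime_dvd_prime_iff_eq hpp Nat.prime_two).1
          ((CharP.cast_eq_zero_iff F p 2).1 (by exact_mod_cast h))
        rw [hk.2, hp2, Nat.odd_pow_iff k.pos.ne'] at hodd
        exact absurd hodd (by decide)
      exact allFix_two h2 e P (no_root_of_le h2 hv)

end Cfsg.Agent.S5979
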