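import Cfsg.Statements.S5981
import Mathlib
import Cfsg.Agent.Lib.Semisimple.Basic
import Cfsg.Agent.Lib.OrthDerange.Witness
import Cfsg.Agent.Lib.OrthDerange.Index
import Cfsg.Agent.Lib.OrthDerange.Member

set_option autoImplicit false
open scoped MatrixGroups
open Cfsg

namespace Cfsg.Agent.S5981

open scoped Matrix
open Cfsg.Agent.Lib

theorem pairing_five : ∀ a b c d : ZMod 5,
    ∃ f ∈ ([![0, 1, 2, 3, 4], ![0, 1, 3, 2, 4], ![0, 1, 4, 2, 3], ![1, 0, 2, 3, 4], ![1, 0, 3, 2, 4],
        ![1, 0, 4, 2, 3], ![2, 0, 1, 3, 4], ![2, 0, 3, 1, 4], ![2, 0, 4, 1, 3], ![3, 0, 1, 2, 4],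
        ![3, 0, 2, 1, 4], ![3, 0, 4, 1, 2], ![4, 0, 1, 2, 3], ![4, 0, 2, 1, 3], ![4, 0, 3, 1, 2]] :
        List (Fin 5 → Fin 5)),
      ![a, b, c, d, -(a + b + c + d)] (f 1) + ![a, b, c, d, -(a + b + c + d)] (f 2) =
          2 * ![a, b, c, d, -(a + b + c + d)] (f 0) ∧
        ![a, b, c, d, -(a + b + c + d)] (f 3) + ![a, b, c, d, -(a + b + c + d)] (f 4) =
          2 * ![a, b, c, d, -(a + b + c + d)] (f 0) := by
  decide +kernel

theorem pairing_five_bijective :
    ∀ f ∈ ([![0, 1, 2, 3, 4], ![0, 1, 3, 2, 4], ![0, 1, 4, 2, 3], ![1, 0, 2, 3, 4], ![1, 0, 3, 2, 4],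
        ![1, 0, 4, 2, 3], ![2, 0, 1, 3, 4], ![2, 0, 3, 1, 4], ![2, 0, 4, 1, 3], ![3, 0, 1, 2, 4],
        ![3, 0, 2, 1, 4], ![3, 0, 4, 1, 2], ![4, 0, 1, 2, 3], ![4, 0, 2, 1, 3], ![4, 0, 3, 1, 2]] :
        List (Fin 5 → Fin 5)), Function.Bijective f := by
  decide +kernel

theorem pairing_three : ∀ a b : ZMod 3,
    ∃ f ∈ ([![0, 1, 2], ![1, 0, 2], ![2, 0, 1]] : List (Fin 3 → Fin 3)),
      ![a, b, -(a + b)] (f 1) + ![a, b, -(a + b)] (f 2) = 2 * ![a, b, -(a + b)] (f 0) := by
  decide +kernel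

theorem pairing_three_bijective :
    ∀ f ∈ ([![0, 1, 2], ![1, 0, 2], ![2, 0, 1]] : List (Fin 3 → Fin 3)), Function.Bijective f := by
  decide +kernel

/-- The residual case: `n = r ∈ {3, 5}` and `(q − 1)_r = r`. -/
theorem small_mem {F : Type*} [Field F] [Fintype F] (h2 : (2 : F) ≠ 0) {n r : ℕ} [Fact r.Prime]
    (hr : r = 3 ∨ r = 5) (hnr : n = r) (hv : padicValNat r (Fintype.card F - 1) = 1)
    {Q : (Fin n → F) → F} (hQ : Cfsg.Geo.IsNondegenerateQuadraticForm Q) {x : GL (Fin n) F}
    (hdet : (x : Matrix (Fin n) (Fin n) F).det = 1) {z : F}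
    (hz : (x : Matrix (Fin n) (Fin n) F) ^ r = z • 1) :
    ∃ g ∈ Cfsg.Geo.specialLinear (Fin n) F, g⁻¹ * x * g ∈ Cfsg.Geo.quadSimilarityGroup Q := by
  classical
  subst hnr
  have hrp : n.Prime := Fact.out
  have hq1 : Fintype.card F - 1 ≠ 0 := by have := Fintype.one_lt_card (α := F); omega
  have hdvd : n ∣ Fintype.card F - 1 := (dvd_iff_padicValNat_ne_zero hq1).2 (by rw [hv]; exact one_ne_zero)
  obtain ⟨w, hw⟩ : ∃ w : Fˣ, orderOf w = n := by
    refine exists_prime_orderOf_dvd_card' n ?_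
    rw [Nat.card_units, Nat.card_eq_fintype_card]
    exact hdvd
  have hω : IsPrimitiveRoot (w : F) n := IsPrimitiveRoot.coe_units_iff.2 (hw ▸ IsPrimitiveRoot.orderOf w)
  set ω : F := (w : F) with hωdef
  have hn0 : (n : F) ≠ 0 := fun h => by
    obtain ⟨p, hp⟩ := CharP.exists F
    obtain ⟨⟨k, hk0⟩, hp', hk⟩ := FiniteField.card F p
    have hpn : p = n := (Nat.prime_dvd_prime_iff_eq hp' hrp).1 ((CharP.cast_eq_zero_iff F p n).1 h)
    have h1 : 1 ≤ Fintype.card F := Fintype.card_pos
    have h3 : n ∣ Fintype.card F := by rw [hk, hpn]; exact dvd_pow_self n hk0.ne'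
    exact hrp.ne_one (Nat.dvd_one.1 (by
      have := Nat.dvd_sub h3 hdvd
      rwa [show Fintype.card F - (Fintype.card F - 1) = 1 by omega] at this))
  have hzn : z ^ n = 1 := by
    have := congrArg Matrix.det hz
    rw [Matrix.det_pow, hdet, one_pow, Matrix.det_smul, Fintype.card_fin, Matrix.det_one, mul_one] at this
    exact this.symm
  have hz1 : z = 1 := by
    by_contra hne
    have hnp : ∀ b : F, b ^ n ≠ z := fun b hb => by
      have hb0 : b ≠ 0 := fun h => by
        rw [h, zero_pow hrp.ne_zero] at hb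
        rw [← hb, zero_pow hrp.ne_zero] at hzn
        exact zero_ne_one hzn
      have hord : orderOf (Units.mk0 b hb0) = n ^ (1 + 1) := by
        refine orderOf_eq_prime_pow (fun h => hne ?_) (Units.ext ?_)
        · rw [← hb]; simpa [Units.ext_iff] using h
        · simp [pow_succ, pow_mul, hb, hzn]
      have h := orderOf_dvd_natCard (Units.mk0 b hb0)
      rw [hord, Nat.card_units, Nat.card_eq_fintype_card,
        padicValNat_dvd_iff_le hq1, hv] at h
      omega
    have hirr : Irreducible (Polynomial.X ^ n - Polynomial.C z : Polynomial F) :=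
      X_pow_sub_C_irreducible_of_prime hrp hnp
    have haev : Polynomial.aeval (Matrix.toLin' (x : Matrix (Fin n) (Fin n) F))
        (Polynomial.X ^ n - Polynomial.C z) = 0 := by
      rw [map_sub, map_pow, Polynomial.aeval_X, Polynomial.aeval_C, ← Matrix.toLin'_pow, hz, map_smul,
        Matrix.toLin'_one, sub_eq_zero]
      rfl
    obtain ⟨k, hk⟩ := Semisimple.charpoly_eq_pow _ _ hirr (Polynomial.monic_X_pow_sub_C z hrp.ne_zero) haev
    rw [← LinearMap.charpoly_toMatrix _ (Pi.basisFun F (Fin n)), LinearMap.toMatrix_eq_toMatrix',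
      LinearMap.toMatrix'_toLin'] at hk
    have hdeg := congrArg Polynomial.natDegree hk
    rw [Matrix.charpoly_natDegree_eq_dim, Polynomial.natDegree_pow, Polynomial.natDegree_X_pow_sub_C,
      Fintype.card_fin] at hdeg
    have hk1 : k = 1 := (Nat.eq_of_mul_eq_mul_right hrp.pos (by omega : 1 * n = k * n)).symm
    rw [hk1, pow_one] at hk
    have := Matrix.det_eq_sign_charpoly_coeff (x : Matrix (Fin n) (Fin n) F)
    rw [hk, hdet, Fintype.card_fin, Polynomial.coeff_sub, Polynomial.coeff_X_pow, if_neg hrp.ne_zero.symm,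
      Polynomial.coeff_C_zero] at this
    have hoddn : Odd n := hrp.odd_of_ne_two (by omega)
    rw [hoddn.neg_one_pow] at this
    exact hne (by linear_combination -this)
  subst hz1
  rw [one_smul] at hz
  obtain ⟨κ, _, b, c, hbc⟩ := DefectTwist.exists_eigenbasis hω hn0
    (u := Matrix.toLin' (x : Matrix (Fin n) (Fin n) F)) (by rw [← Matrix.toLin'_pow, hz, Matrix.toLin'_one]; rfl)
  have hcard : Fintype.card κ = n := by
    rw [← Module.finrank_eq_card_basis b, Module.finrank_fin_fun]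
  let eκ : κ ≃ Fin n := Fintype.equivFinOfCardEq hcard
  let B := b.reindex eκ
  set d : Fin n → F := fun i => c (eκ.symm i) with hd
  have hB : ∀ i, (x : Matrix (Fin n) (Fin n) F) *ᵥ B i = d i • B i := fun i => by
    rw [← Matrix.toLin'_apply]
    simpa [B, hd] using hbc (eκ.symm i)
  have hM : LinClasses.IsModel (x : Matrix (Fin n) (Fin n) F) (Matrix.diagonal d) := by
    refine ⟨B.equivFun.symm, fun v => ?_⟩
    rw [B.equivFun_symm_apply, B.equivFun_symm_apply, Matrix.mulVec_sum]
    refine Finset.sum_congr rfl fun i _ => ?_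
    rw [Matrix.mulVec_smul, hB, Matrix.mulVec_diagonal, smul_smul, mul_comm]
  have hdn : ∀ i, d i ^ n = 1 := by
    intro i
    have hpow : ∀ k : ℕ, ((x : Matrix (Fin n) (Fin n) F) ^ k) *ᵥ B i = d i ^ k • B i := by
      intro k
      induction k with
      | zero => simp
      | succ k ih => rw [pow_succ', ← Matrix.mulVec_mulVec, ih, Matrix.mulVec_smul, hB, smul_smul, ← pow_succ]
    have h := hpow n
    rw [hz, Matrix.one_mulVec] at h
    exact smul_left_injective F (B.ne_zero i) (h.symm.trans (one_smul F (B i)).symm)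
  have hd0 : ∀ i, d i ≠ 0 := fun i h => by
    have := hdn i
    rw [h, zero_pow hrp.ne_zero] at this
    exact zero_ne_one this
  choose j hjn hj using fun i => hω.eq_pow_of_pow_eq_one (hdn i)
  have hsum : (∑ i, (j i : ZMod n)) = 0 := by
    have h : ∏ i, d i = 1 := by rw [← Matrix.det_diagonal, ← hM.det_eq, hdet]
    rw [← Finset.prod_congr rfl (fun i _ => hj i), Finset.prod_pow_eq_pow_sum, hω.pow_eq_one_iff_dvd,
      ← ZMod.natCast_eq_zero_iff] at h
    simpa using h
  have hmul : ∀ a b c : Fin n, (j a : ZMod n) + j b = 2 * j c → d a * d b = d c * d c := by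
    intro a b c h
    rw [← hj, ← hj, ← hj, ← pow_add, ← pow_add]
    have h' : ((j a + j b : ℕ) : ZMod n) = ((j c + j c : ℕ) : ZMod n) := by push_cast; rw [h]; ring
    rw [ZMod.natCast_eq_natCast_iff'] at h'
    rw [← Nat.div_add_mod (j a + j b) n, pow_add, pow_mul, hω.pow_eq_one, one_pow, one_mul, h']
    conv_rhs => rw [← Nat.div_add_mod (j c + j c) n, pow_add, pow_mul, hω.pow_eq_one, one_pow, one_mul]
  rcases hr with rfl | rfl
  · rw [Fin.sum_univ_three] at hsum
    obtain ⟨f, hf, h⟩ := pairing_three (j 0) (j 1)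
    have hg : ![(j 0 : ZMod 3), (j 1 : ZMod 3), -((j 0 : ZMod 3) + j 1)] = fun i => (j i : ZMod 3) := by
      funext i
      fin_cases i <;> simp
      linear_combination -hsum
    simp only [hg] at h
    let o : Unit ⊕ (Fin 1 ⊕ Fin 1) ≃ Fin 3 :=
      { toFun := Sum.elim (fun _ => 0) (Sum.elim (fun _ => 1) (fun _ => 2))
        invFun := ![Sum.inl (), Sum.inr (Sum.inl 0), Sum.inr (Sum.inr 0)]
        left_inv := by decide
        right_inv := by decide }
    refine OrthDerange.diag_mem (k := 1) h2 hQ hM hd0 (o.trans (Equiv.ofBijective f (pairing_three_bijective f hf)))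
      fun i => ?_
    exact hmul _ _ _ h
  · rw [Fin.sum_univ_five] at hsum
    obtain ⟨f, hf, h, h'⟩ := pairing_five (j 0) (j 1) (j 2) (j 3)
    have hg : ![(j 0 : ZMod 5), (j 1 : ZMod 5), (j 2 : ZMod 5), (j 3 : ZMod 5),
        -((j 0 : ZMod 5) + j 1 + j 2 + j 3)] = fun i => (j i : ZMod 5) := by
      funext i
      fin_cases i <;> simp
      linear_combination -hsum
    simp only [hg] at h h'
    let o : Unit ⊕ (Fin 2 ⊕ Fin 2) ≃ Fin 5 :=
      { toFun := Sum.elim (fun _ => 0) (Sum.elim ![1, 3] ![2, 4])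
        invFun := ![Sum.inl (), Sum.inr (Sum.inl 0), Sum.inr (Sum.inr 0), Sum.inr (Sum.inl 1), Sum.inr (Sum.inr 1)]
        left_inv := by decide
        right_inv := by decide }
    refine OrthDerange.diag_mem (k := 2) h2 hQ hM hd0 (o.trans (Equiv.ofBijective f (pairing_five_bijective f hf)))
      fun i => ?_
    fin_cases i
    · exact hmul _ _ _ h
    · exact hmul _ _ _ h'

/-- The witness for odd `r` outside the residual case. -/
theorem exists_derangement {F : Type*} [Field F] [Fintype F] {p : ℕ} [Fact p.Prime] [CharP F p]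
    (h2 : (2 : F) ≠ 0) {n : ℕ} (hn : 3 ≤ n) {Q : (Fin n → F) → F}
    (hQ : Cfsg.Geo.IsNondegenerateQuadraticForm Q) {r : ℕ} [Fact r.Prime] (hr2 : r ≠ 2) (hgap : ¬ (n = 6 ∧ r = 3))
    (hex : ¬ ((r = 3 ∨ r = 5) ∧ n = r ∧ padicValNat r (Fintype.card F - 1) = 1))
    (hΩ : r ∣ (Cfsg.Geo.quadSimilarityGroup Q).relIndex (Cfsg.Geo.specialLinear (Fin n) F)) :
    ∃ x ∈ Cfsg.Geo.specialLinear (Fin n) F,
      (∃ z : F, ((x ^ r : GL (Fin n) F) : Matrix (Fin n) (Fin n) F) = z • (1 : Matrix (Fin n) (Fin n) F)) ∧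
      (∀ z : F, (x : Matrix (Fin n) (Fin n) F) ≠ z • (1 : Matrix (Fin n) (Fin n) F)) ∧
      ∀ g : GL (Fin n) F, g⁻¹ * x * g ∉ Cfsg.Geo.quadSimilarityGroup Q := by
  classical
  have hrp : r.Prime := Fact.out
  suffices h : ∃ (M : Matrix (Fin n) (Fin n) F) (z : F), M ^ r = z • 1 ∧ M.det = 1 ∧ (∀ c : F, M ≠ c • 1) ∧
      ∀ x : GL (Fin n) F, (x : Matrix (Fin n) (Fin n) F) = M →
        ∀ g : GL (Fin n) F, g⁻¹ * x * g ∉ Cfsg.Geo.quadSimilarityGroup Q by
    obtain ⟨M, z, h1, hd, h3, h4⟩ := h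
    let x : GL (Fin n) F := Matrix.GeneralLinearGroup.mkOfDetNeZero M (by rw [hd]; exact one_ne_zero)
    exact ⟨x, OrthDerange.det_eq_one_iff.2 hd, ⟨z, by rw [Units.val_pow_eq_pow_val]; exact h1⟩, h3, h4 x rfl⟩
  by_cases hrp' : r = p
  · subst hrp'
    obtain ⟨h1, hd, h3, h4⟩ := OrthDerange.transvection_noSym (F := F) h2 (p := r)
      (i := (⟨0, by omega⟩ : Fin n)) (j := ⟨1, by omega⟩) (by simp)
    exact ⟨_, 1, by rw [h1, one_smul], hd, h3, fun x hx g => (hx.symm ▸ h4).not_mem hQ g⟩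
  have hrq : ¬ r ∣ Fintype.card F := by
    obtain ⟨k, -, hk⟩ := FiniteField.card F p
    intro h
    rw [hk] at h
    exact hrp' ((Nat.prime_dvd_prime_iff_eq hrp Fact.out).1 (hrp.dvd_of_dvd_pow h))
  by_cases hr1 : r ∣ Fintype.card F - 1
  · obtain ⟨w, hw⟩ : ∃ w : Fˣ, orderOf w = r := by
      refine exists_prime_orderOf_dvd_card' r ?_
      rw [Nat.card_units, Nat.card_eq_fintype_card]
      exact hr1
    have hω : IsPrimitiveRoot (w : F) r := IsPrimitiveRoot.coe_units_iff.2 (hw ▸ IsPrimitiveRoot.orderOf w)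
    set ω : F := (w : F) with hωdef
    have hω0 : ω ≠ 0 := hω.ne_zero hrp.ne_zero
    have hω1 : ω ≠ 1 := hω.ne_one hrp.one_lt
    have hr3 : 3 ≤ r := by have := hrp.two_le; omega
    by_cases hb1 : (r = 3 ∨ r = 5) ∧ n = r
    · obtain ⟨hr35, rfl⟩ := hb1
      have hq1 : Fintype.card F - 1 ≠ 0 := by have := Fintype.one_lt_card (α := F); omega
      have hv : 2 ≤ padicValNat n (Fintype.card F - 1) := by
        have h1 : padicValNat n (Fintype.card F - 1) ≠ 1 := fun h => hex ⟨hr35, rfl, h⟩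
        have := one_le_padicValNat_of_dvd hq1 hr1
        omega
      have hnn : n ^ 2 ∣ Nat.card Fˣ := by
        rw [Nat.card_units, Nat.card_eq_fintype_card, padicValNat_dvd_iff_le hq1]
        exact hv
      obtain ⟨u, hu⟩ := IsCyclic.exists_ofOrder_eq_natCard (α := Fˣ)
      obtain ⟨θu, hθ⟩ : ∃ θu : Fˣ, orderOf θu = n ^ 2 :=
        ⟨u ^ (orderOf u / n ^ 2), orderOf_pow_orderOf_div (by rw [hu]; exact Nat.card_pos.ne') (by rw [hu]; exact hnn)⟩
      have hθp : IsPrimitiveRoot (θu : F) (n ^ 2) := IsPrimitiveRoot.coe_units_iff.2 (hθ ▸ IsPrimitiveRoot.orderOf θu)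
      set θ : F := (θu : F) with hθdef
      have hθ0 : θ ≠ 0 := θu.ne_zero
      obtain ⟨l, rfl⟩ : ∃ l, n = l + 1 := ⟨n - 1, by omega⟩
      set v : F := θ ^ ((l + 1) * l + 1) with hvdef
      refine ⟨Matrix.diagonal (Fin.append (fun _ : Fin l => θ) (fun _ : Fin 1 => v)), θ ^ (l + 1), ?_, ?_, ?_,
        fun x hx g => (hx.symm ▸ OrthDerange.diag_two_noSym (by omega) Nat.one_pos (by omega) hθ0
          (pow_ne_zero _ hθ0) ?_ : OrthDerange.NoSymSimilitude (x : Matrix (Fin (l + 1)) (Fin (l + 1)) F)).not_mem hQ g⟩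
      · rw [Matrix.diagonal_pow, Matrix.smul_one_eq_diagonal]
        congr 1
        funext i
        refine Fin.addCases (fun i => ?_) (fun i => ?_) i
        · simp
        · simp only [Pi.pow_apply, Fin.append_right, v]
          rw [← pow_mul, show ((l + 1) * l + 1) * (l + 1) = (l + 1) ^ 2 * l + (l + 1) by ring, pow_add, pow_mul,
            hθp.pow_eq_one, one_pow, one_mul]
      · rw [Matrix.det_diagonal, Fin.prod_univ_add]
        simp only [Fin.append_left, Fin.append_right, Finset.prod_const, Finset.card_univ, Fintype.card_fin,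
          pow_one, v]
        rw [← pow_add, show l + ((l + 1) * l + 1) = (l + 1) ^ 2 by ring, hθp.pow_eq_one]
      · intro c hc
        have e0 := congrFun (congrFun hc (Fin.castAdd 1 ⟨0, by omega⟩)) (Fin.castAdd 1 ⟨0, by omega⟩)
        have e1 := congrFun (congrFun hc (Fin.natAdd l 0)) (Fin.natAdd l 0)
        simp only [Matrix.diagonal_apply_eq, Matrix.smul_apply, Matrix.one_apply_eq, Fin.append_left,
          Fin.append_right, smul_eq_mul, mul_one] at e0 e1
        rw [← e0, hvdef] at e1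
        have hh : θ ^ ((l + 1) * l + 1) = θ ^ 1 := by rw [pow_one]; exact e1
        have := hθp.pow_inj (show (l + 1) * l + 1 < (l + 1) ^ 2 by nlinarith) (by nlinarith) hh
        have : (l + 1) * l = 0 := by omega
        rcases Nat.mul_eq_zero.1 this with h | h <;> omega
      · intro h
        rw [hvdef, ← pow_add, ← pow_two] at h
        have h2' : θ ^ (2 * ((l + 1) * l)) = 1 := by
          have : θ ^ (2 * ((l + 1) * l)) * θ ^ 2 = 1 * θ ^ 2 := by
            rw [one_mul, ← pow_add]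
            conv_rhs => rw [h]
            congr 1
            ring
          exact mul_right_cancel₀ (pow_ne_zero _ hθ0) this
        have hd := (hθp.pow_eq_one_iff_dvd _).1 h2'
        rw [pow_two, show 2 * ((l + 1) * l) = (l + 1) * (2 * l) by ring] at hd
        have hd' := Nat.dvd_of_mul_dvd_mul_left (Nat.succ_pos _) hd
        rcases hrp.dvd_mul.1 hd' with h | h
        · exact hr2 ((Nat.prime_dvd_prime_iff_eq hrp Nat.prime_two).1 h)
        · exact absurd (Nat.le_of_dvd (by omega) h) (by omega)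
    by_cases hr3' : r = 3
    · subst hr3'
      have hn3 : n ≠ 3 := fun h => hb1 ⟨Or.inl rfl, h⟩
      have hn6 : n ≠ 6 := fun h => hgap ⟨h, rfl⟩
      obtain ⟨l, rfl⟩ : ∃ l, n = 3 + l := ⟨n - 3, by omega⟩
      refine ⟨Matrix.diagonal (Fin.append (fun _ : Fin 3 => ω) (fun _ : Fin l => 1)), 1, ?_, ?_, ?_,
        fun x hx g => (hx.symm ▸ OrthDerange.diag_two_noSym (by omega) (by omega) (by omega) hω0 one_ne_zero ?_ :
          OrthDerange.NoSymSimilitude (x : Matrix (Fin (3 + l)) (Fin (3 + l)) F)).not_mem hQ g⟩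
      · rw [Matrix.diagonal_pow, one_smul, ← Matrix.diagonal_one]
        congr 1
        funext i
        refine Fin.addCases (fun i => ?_) (fun i => ?_) i <;> simp [hω.pow_eq_one]
      · rw [Matrix.det_diagonal, Fin.prod_univ_add]
        simp [hω.pow_eq_one]
      · intro c hc
        have e0 := congrFun (congrFun hc (Fin.castAdd l 0)) (Fin.castAdd l 0)
        have e1 := congrFun (congrFun hc (Fin.natAdd 3 ⟨0, by omega⟩)) (Fin.natAdd 3 ⟨0, by omega⟩)
        simp only [Matrix.diagonal_apply_eq, Matrix.smul_apply, Matrix.one_apply_eq, Fin.append_left,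
          Fin.append_right, smul_eq_mul, mul_one] at e0 e1
        exact hω1 (e0.trans e1.symm)
      · intro h
        rw [one_mul, ← pow_two] at h
        exact hω.pow_ne_one_of_pos_of_lt (by norm_num : (2 : ℕ) ≠ 0) (by norm_num) h
    have hr5 : 5 ≤ r := by
      by_contra h
      interval_cases r
      · exact hr3' rfl
      · exact absurd hrp (by norm_num)
    set a : F := ω ^ (r - 2) with ha
    have hωa : ω ^ 2 * a = 1 := by rw [ha, ← pow_add, show 2 + (r - 2) = r by omega, hω.pow_eq_one]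
    have har : a ^ r = 1 := by rw [ha, ← pow_mul, mul_comm, pow_mul, hω.pow_eq_one, one_pow]
    by_cases hn3 : n = 3
    · subst hn3
      refine ⟨Matrix.diagonal (Fin.append (fun _ : Fin 2 => ω) (fun _ : Fin 1 => a)), 1, ?_, ?_, ?_,
        fun x hx g => (hx.symm ▸ OrthDerange.diag_two_noSym (by omega) Nat.one_pos (by omega) hω0
          (pow_ne_zero _ hω0) ?_ : OrthDerange.NoSymSimilitude (x : Matrix (Fin 3) (Fin 3) F)).not_mem hQ g⟩
      · rw [Matrix.diagonal_pow, one_smul, ← Matrix.diagonal_one]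
        congr 1
        funext i
        refine Fin.addCases (m := 2) (n := 1) (fun i => ?_) (fun i => ?_) i <;> simp [hω.pow_eq_one, har]
      · rw [Matrix.det_diagonal, Fin.prod_univ_add (a := 2) (b := 1)]
        simp only [Fin.append_left, Fin.append_right, Finset.prod_const, Finset.card_univ, Fintype.card_fin, pow_one]
        exact hωa
      · intro c hc
        have e0 := congrFun (congrFun hc (Fin.castAdd 1 (0 : Fin 2))) (Fin.castAdd 1 (0 : Fin 2))
        have e1 := congrFun (congrFun hc (Fin.natAdd 2 (0 : Fin 1))) (Fin.natAdd 2 (0 : Fin 1))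
        simp only [Matrix.diagonal_apply_eq, Matrix.smul_apply, Matrix.one_apply_eq, Fin.append_left,
          Fin.append_right, smul_eq_mul, mul_one] at e0 e1
        have : ω ^ 3 = 1 := by rw [pow_succ, ← hωa, e0, e1]
        exact hω.pow_ne_one_of_pos_of_lt (by norm_num : (3 : ℕ) ≠ 0) (by omega) this
      · intro h
        have h6 : ω ^ 6 = 1 := by
          calc ω ^ 6 = (ω ^ 2) ^ 2 * (ω * ω) := by ring
            _ = (ω ^ 2) ^ 2 * (a * a) := by rw [h]
            _ = (ω ^ 2 * a) ^ 2 := by ring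
            _ = 1 := by rw [hωa, one_pow]
        have h3 := (hω.pow_eq_one_iff_dvd 6).1 h6
        have hle := Nat.le_of_dvd (by norm_num) h3
        interval_cases r
        · norm_num at h3
        · exact absurd hrp (by norm_num)
    obtain ⟨l, rfl⟩ : ∃ l, n = 2 + 1 + l := ⟨n - 3, by omega⟩
    refine ⟨Matrix.diagonal (Fin.append (Fin.append (fun _ : Fin 2 => ω) (fun _ : Fin 1 => a)) (fun _ : Fin l => 1)),
      1, ?_, ?_, ?_,
      fun x hx g => (hx.symm ▸ OrthDerange.diag_three_noSym hr5 hω (by omega)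
        (fun h => hb1 ⟨Or.inr h.2, by omega⟩) :
        OrthDerange.NoSymSimilitude (x : Matrix (Fin (2 + 1 + l)) (Fin (2 + 1 + l)) F)).not_mem hQ g⟩
    · rw [Matrix.diagonal_pow, one_smul, ← Matrix.diagonal_one]
      congr 1
      funext i
      refine Fin.addCases (fun i => Fin.addCases (fun i => ?_) (fun i => ?_) i) (fun i => ?_) i <;>
        simp only [Pi.pow_apply, Fin.append_left, Fin.append_right, hω.pow_eq_one, har, one_pow]
    · rw [Matrix.det_diagonal, Fin.prod_univ_add, Fin.prod_univ_add]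
      simp only [Fin.append_left, Fin.append_right, Finset.prod_const, Finset.card_univ, Fintype.card_fin, pow_one,
        one_pow, mul_one]
      exact hωa
    · intro c hc
      have e0 := congrFun (congrFun hc (Fin.castAdd l (Fin.castAdd 1 (0 : Fin 2)))) (Fin.castAdd l (Fin.castAdd 1 (0 : Fin 2)))
      have e1 := congrFun (congrFun hc (Fin.natAdd (2 + 1) ⟨0, by omega⟩)) (Fin.natAdd (2 + 1) ⟨0, by omega⟩)
      simp only [Matrix.diagonal_apply_eq, Matrix.smul_apply, Matrix.one_apply_eq, Fin.append_left,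
        Fin.append_right, smul_eq_mul, mul_one] at e0 e1
      exact hω1 (e0.trans e1.symm)
  have hroot : ∀ z : F, z ^ r = 1 → z = 1 := by
    intro z hz
    by_contra hne
    have hz0 : z ≠ 0 := fun h => by rw [h, zero_pow hrp.ne_zero] at hz; exact zero_ne_one hz
    have hord : orderOf (Units.mk0 z hz0) = r :=
      orderOf_eq_prime (Units.ext (by simpa using hz)) (fun h => hne (by simpa using congrArg Units.val h))
    have h := orderOf_dvd_natCard (Units.mk0 z hz0)
    rw [hord, LinGroup.card_units_eq_sub_one] at h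
    exact hr1 h
  rcases OrthDerange.exists_of_dvd_relIndex h2 (by omega) hQ hrp hrq hr1 hΩ with
    ⟨d, hd, hdn, hrd⟩ | ⟨m, hm, hnm, hh⟩
  · obtain ⟨M, h1, hdet, h3, h4⟩ := OrthDerange.field_noSym p hr2 hroot n d hd hdn hrd
    exact ⟨M, 1, by rw [h1, one_smul], hdet, h3, fun x hx g => (hx.symm ▸ h4).not_mem hQ g⟩
  · subst hnm
    have hrn : r ∣ Fintype.card F ^ (2 * m) - 1 := by
      rw [show Fintype.card F ^ (2 * m) - 1 = (Fintype.card F ^ m + 1) * (Fintype.card F ^ m - 1) by
        rw [← Nat.sq_sub_sq, one_pow, ← pow_mul, mul_comm]]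
      rcases hh with ⟨-, h⟩ | ⟨-, h⟩
      · exact dvd_mul_of_dvd_left h _
      · exact dvd_mul_of_dvd_right h _
    obtain ⟨M, h1, hdet, h3, hfix⟩ := OrthDerange.exists_fpf p hroot (2 * m) (by omega) hrn
    exact ⟨M, 1, by rw [h1, one_smul], hdet, h3, fun x hx g =>
      OrthDerange.fpf_not_mem hm hQ hr2 hr1 hroot hh (by rw [hx]; exact h1) (by rw [hx]; exact hfix) g⟩

/-- Elements of prime order of PSL_n(q), q odd, and the subgroups of orthogonal type. Here `T = PSL_n(F)` for a field `F` with `q` elements, `q` odd, `n ≥ 3`; `Q` is a non-degenerate quadratic form on `F^n` (of either type when `n` is even) and `H` is the subgroup of matrices of determinant 1 that preserve `Q` up to a scalar — a subgroup of type O^ε_n(q) (maximality is not assumed); Ω is the set of cosets of `H` in `T`, so an element of `T` of prime order `r` (a matrix `x` of determinant 1 with `x^r` scalar, `x` not scalar) fixes a point of Ω exactly when some conjugate of `x` by a matrix of determinant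 1 preserves `Q` up to a scalar. Let `r` be a prime dividing the index of `H`, with `(n, r) ≠ (6, 3)`. Then every element of `T` of order `r` fixes a point of Ω if and only if `r = 2`, or `r ∈ {3, 5}`, `n = r` and `(q − 1)_r = r` (the `r`-part of `q − 1` is exactly `r`). The case `(n, r) = (6, 3)` is not covered by this statement. -/
theorem result {F : Type*} [Field F] [Fintype F] {p : ℕ} [Fact p.Prime] [CharP F p] {q : ℕ} (hq : Fintype.card F = q)
    (hodd : Odd q) (n : ℕ) (hn : 3 ≤ n) (Q : (Fin n → F) → F) (hQ : Cfsg.Geo.IsNondegenerateQuadraticForm Q)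
    (r : ℕ) [Fact r.Prime] (hgap : ¬ (n = 6 ∧ r = 3))
    (hΩ : r ∣ (Cfsg.Geo.quadSimilarityGroup Q).relIndex (Cfsg.Geo.specialLinear (Fin n) F)) :
    (∀ x ∈ Cfsg.Geo.specialLinear (Fin n) F, (∃ z : F, ((x ^ r : GL (Fin n) F) : Matrix (Fin n) (Fin n) F) = z • (1 : Matrix (Fin n) (Fin n) F)) →
      (∀ z : F, (x : Matrix (Fin n) (Fin n) F) ≠ z • (1 : Matrix (Fin n) (Fin n) F)) →
      ∃ g ∈ Cfsg.Geo.specialLinear (Fin n) F, g⁻¹ * x * g ∈ Cfsg.Geo.quadSimilarityGroup Q) ↔
    (r = 2 ∨ ((r = 3 ∨ r = 5) ∧ n = r ∧ padicValNat r (q - 1) = 1)) := by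
  subst hq
  have h2 : (2 : F) ≠ 0 := Classical.two_ne_zero_of_odd_card hodd
  constructor
  · intro h
    by_contra hne
    push Not at hne
    obtain ⟨hr2, hex⟩ := hne
    obtain ⟨x, hx, hxr, hxs, hno⟩ := exists_derangement (p := p) h2 hn hQ hr2 hgap
      (fun hh => hex hh.1 hh.2.1 hh.2.2) hΩ
    obtain ⟨g, -, hg⟩ := h x hx hxr hxs
    exact hno g hg
  · intro h x hx hxr hxs
    obtain ⟨z, hz⟩ := hxr
    rw [Units.val_pow_eq_pow_val] at hz
    rcases h with rfl | ⟨hr35, hnr, hv⟩
    · exact OrthDerange.invol_mem (by omega) h2 hQ (by rw [← pow_two]; exact hz)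
    · exact small_mem h2 hr35 hnr hv hQ (OrthDerange.det_eq_one_iff.1 hx) hz

end Cfsg.Agent.S5981
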