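import Cfsg.Statements.S5982
import Mathlib
import Cfsg.Agent.Lib.UnitDerange.Member
import Cfsg.Agent.Lib.UnitDerange.Witness
import Cfsg.Agent.Lib.UnitDerange.Index
import Cfsg.Agent.Lib.UnitDerange.Small

set_option autoImplicit false
open scoped MatrixGroups
open Cfsg

namespace Cfsg.Agent.S5982

open scoped Matrix
open Cfsg.Agent.Lib

/-- The residual case `n = r ∈ {3, 5}`, `(q₀ − 1)_r = r`. -/
theorem small_mem {F : Type*} [Field F] [Fintype F] {q₀ n r : ℕ} [Fact r.Prime] (hF : Fintype.card F = q₀ ^ 2)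
    (hr : r = 3 ∨ r = 5) (hnr : n = r) (hv : padicValNat r (q₀ - 1) = 1)
    {f : (Fin n → F) → (Fin n → F) → F} (hf : Cfsg.Geo.IsUnitaryFormPow q₀ f) {x : GL (Fin n) F}
    (hdet : (x : Matrix (Fin n) (Fin n) F).det = 1) {z : F}
    (hz : (x : Matrix (Fin n) (Fin n) F) ^ r = z • 1) :
    ∃ g ∈ Cfsg.Geo.specialLinear (Fin n) F, g⁻¹ * x * g ∈ Cfsg.Geo.similarityGroup f := by
  classical
  have hq := Forms.two_le_of_card_sq hF
  have hq1 : q₀ - 1 ≠ 0 := by omega
  have hdvd : r ∣ q₀ - 1 := (dvd_iff_padicValNat_ne_zero hq1).2 (by rw [hv]; exact one_ne_zero)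
  have hnd : ¬ r ∣ q₀ + 1 := fun h => by
    have h2 : r ∣ 2 := by
      have := Nat.dvd_sub h hdvd
      rwa [show q₀ + 1 - (q₀ - 1) = 2 by omega] at this
    have := Nat.le_of_dvd two_pos h2
    omega
  have hv' : padicValNat r (Fintype.card F - 1) = 1 := by
    rw [hF, show q₀ ^ 2 - 1 = (q₀ + 1) * (q₀ - 1) by rw [← Nat.sq_sub_sq, one_pow],
      padicValNat.mul (Nat.succ_ne_zero q₀) hq1, padicValNat.eq_zero_of_not_dvd hnd, hv]
  obtain ⟨d, k, π, hdr, hM, hπ⟩ := UnitDerange.exists_pairing hr hnr hv' hdet hz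
  have hd0 : ∀ i, d i ≠ 0 := fun i h => by
    have := hdr i
    rw [h, zero_pow (by omega)] at this
    exact zero_ne_one this
  have hfix : ∀ i, d i ^ q₀ = d i := fun i => by
    obtain ⟨t, ht⟩ := hdvd
    conv_lhs => rw [show q₀ = r * t + 1 by omega, pow_succ, pow_mul, hdr, one_pow, one_mul]
  refine UnitDerange.diag_mem hF hf (hM.diagonal_congr π (fun _ => rfl)) (Sum.map id Sum.swap)
    (fun t => by rcases t with t | t | t <;> rfl) (mul_ne_zero (hd0 (π (.inl ()))) (hd0 (π (.inl ())))) fun t => ?_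
  rcases t with t | t | t <;> simp only [Function.comp_apply, Sum.map_inl, Sum.map_inr, Sum.swap_inl, Sum.swap_inr, id, hfix]
  · exact hπ t
  · rw [mul_comm]; exact hπ t

/-- The witness for odd `r`. -/
theorem exists_derangement {F : Type*} [Field F] [Fintype F] {p : ℕ} [Fact p.Prime] [CharP F p] {q₀ n r : ℕ}
    (hF : Fintype.card F = q₀ ^ 2) (hn : 3 ≤ n) {f : (Fin n → F) → (Fin n → F) → F}
    (hf : Cfsg.Geo.IsUnitaryFormPow q₀ f) [Fact r.Prime] (hr2 : r ≠ 2) (hrp' : r ≠ p)
    (hgap : ¬ (n = 6 ∧ r = 3)) (hex : ¬ ((r = 3 ∨ r = 5) ∧ n = r ∧ padicValNat r (q₀ - 1) = 1))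
    (hΩ : r ∣ (Cfsg.Geo.similarityGroup f).relIndex (Cfsg.Geo.specialLinear (Fin n) F)) :
    ∃ (M : Matrix (Fin n) (Fin n) F) (z : F), M ^ r = z • 1 ∧ M.det = 1 ∧ (∀ c : F, M ≠ c • 1) ∧
      UnitDerange.NoHermSimilitude q₀ M := by
  classical
  have hrp : r.Prime := Fact.out
  have hq := Forms.two_le_of_card_sq hF
  have hrq : ¬ r ∣ q₀ := by
    obtain ⟨kk, -, hk⟩ := FiniteField.card F p
    intro h
    have h' : r ∣ Fintype.card F := by rw [hF]; exact dvd_pow h (by norm_num)
    rw [hk] at h'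
    exact hrp' ((Nat.prime_dvd_prime_iff_eq hrp Fact.out).1 (hrp.dvd_of_dvd_pow h'))
  by_cases hrm : r ∣ q₀ - 1
  · refine UnitDerange.exists_diag_noHerm hF hr2 hn hgap hrm fun h35 hnr => ?_
    have hq1 : q₀ - 1 ≠ 0 := by omega
    rw [padicValNat_dvd_iff_le hq1]
    have := one_le_padicValNat_of_dvd hq1 hrm
    by_contra hlt
    exact hex ⟨h35, hnr, by omega⟩
  obtain ⟨j, hj2, hjn, hj⟩ := UnitDerange.exists_of_dvd_relIndex hF (by omega) hf hrq hΩ
  have hrpl : ¬ r ∣ q₀ + 1 := fun h => by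
    have h0 : ((q₀ + 1 : ℕ) : ZMod r) = 0 := (ZMod.natCast_eq_zero_iff _ _).2 h
    push_cast at h0
    rw [show (-(q₀ : ZMod r)) = 1 by linear_combination -h0, one_pow] at hj
    have h2 : ((2 : ℕ) : ZMod r) = 0 := by push_cast; linear_combination hj
    exact hr2 ((Nat.prime_dvd_prime_iff_eq hrp Nat.prime_two).1 ((ZMod.natCast_eq_zero_iff _ _).1 h2))
  have hroot : ∀ z : F, z ^ r = 1 → z = 1 := by
    intro z hz
    by_contra hne
    have hz0 : z ≠ 0 := fun h => by rw [h, zero_pow hrp.ne_zero] at hz; exact zero_ne_one hz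
    have hord : orderOf (Units.mk0 z hz0) = r :=
      orderOf_eq_prime (Units.ext (by simpa using hz)) (fun h => hne (by simpa using congrArg Units.val h))
    have h := orderOf_dvd_natCard (Units.mk0 z hz0)
    rw [hord, LinGroup.card_units_eq_sub_one, hF, show q₀ ^ 2 - 1 = (q₀ + 1) * (q₀ - 1) by
      rw [← Nat.sq_sub_sq, one_pow]] at h
    exact (hrp.dvd_mul.1 h).elim hrpl hrm
  obtain ⟨M, h1, hdet, h3, h4⟩ := UnitDerange.field_noHerm hF p hr2 hroot n j (by omega) hjn hj
  exact ⟨M, 1, by rw [h1, one_smul], hdet, h3, h4⟩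

/-- The witness for `r = 2`, `q` odd and `(n)₂ > (q − 1)₂`. -/
theorem exists_invol_derangement {F : Type*} [Field F] [Fintype F] {q₀ n : ℕ} (hF : Fintype.card F = q₀ ^ 2)
    (h2 : (2 : F) ≠ 0) (hn : 1 ≤ n) (hv : padicValNat 2 (Fintype.card F - 1) < padicValNat 2 n) :
    ∃ (M : Matrix (Fin n) (Fin n) F) (z : F), M ^ 2 = z • 1 ∧ M.det = 1 ∧ (∀ c : F, M ≠ c • 1) ∧
      UnitDerange.NoHermSimilitude q₀ M := by
  classical
  set t := padicValNat 2 (Fintype.card F - 1) with ht
  have h2n : 2 ^ (t + 1) ∣ n := (padicValNat_dvd_iff_le (by omega)).2 hv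
  obtain ⟨b, hb⟩ : ∃ b, n = 2 * b := dvd_trans (dvd_pow_self 2 (Nat.succ_ne_zero t)) h2n
  have htb : 2 ^ t ∣ b := Nat.dvd_of_mul_dvd_mul_left two_pos (by rwa [← pow_succ', ← hb])
  have hrc : ringChar F ≠ 2 := fun h => h2 (by
    have := ringChar.charP F
    rw [h] at this
    exact CharTwo.two_eq_zero)
  have hq1 : Fintype.card F - 1 ≠ 0 := by have := Fintype.one_lt_card (α := F); omega
  obtain ⟨g, hg⟩ := IsCyclic.exists_ofOrder_eq_natCard (α := Fˣ)
  have h2t : 2 ^ t ∣ Nat.card Fˣ := by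
    rw [LinGroup.card_units_eq_sub_one, padicValNat_dvd_iff_le hq1]
  obtain ⟨w, hw⟩ : ∃ w : Fˣ, orderOf w = 2 ^ t :=
    ⟨g ^ (orderOf g / 2 ^ t), orderOf_pow_orderOf_div (by rw [hg]; exact Nat.card_pos.ne') (by rw [hg]; exact h2t)⟩
  have hodd := FiniteField.odd_card_of_char_ne_two hrc
  have hhalf : (Fintype.card F / 2) * 2 = Fintype.card F - 1 := by omega
  have hnsq : ¬ IsSquare (w : F) := by
    rw [FiniteField.isSquare_iff hrc w.ne_zero, ← Units.val_pow_eq_pow_val, Units.val_eq_one,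
      ← orderOf_dvd_iff_pow_eq_one, hw]
    intro h
    have := Nat.mul_dvd_mul_right h 2
    rw [← pow_succ, hhalf, padicValNat_dvd_iff_le hq1, ← ht] at this
    omega
  have hm1 : IsSquare (-1 : F) := by
    rw [FiniteField.isSquare_neg_one_iff, hF, Nat.pow_mod]
    have := Nat.mod_lt q₀ (show 4 > 0 by norm_num)
    interval_cases q₀ % 4 <;> norm_num
  have hz : ¬ IsSquare (-(w : F)) := fun h => hnsq (by simpa using hm1.mul h)
  let e : Fin 2 × Fin b ≃ Fin n := finProdFinEquiv.trans (finCongr hb.symm)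
  set M := Matrix.reindex e e (LinClasses.rotBlock (-(w : F)) b) with hM
  have hMM : M * M = (-(w : F)) • 1 := by
    rw [hM, ← Matrix.reindexLinearEquiv_apply F F, Matrix.reindexLinearEquiv_mul, LinClasses.rotBlock_mul_self,
      map_smul, Matrix.reindexLinearEquiv_one]
  have : Nonempty (Fin n) := ⟨⟨0, hn⟩⟩
  refine ⟨M, -(w : F), by rw [pow_two, hMM], ?_, fun c hc => ?_, UnitDerange.invol_noHerm hF h2 hz hMM⟩
  · rw [hM, Matrix.det_reindex_self, LinClasses.det_rotBlock, neg_neg, ← Units.val_pow_eq_pow_val,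
      show w ^ b = 1 by rw [← orderOf_dvd_iff_pow_eq_one, hw]; exact htb, Units.val_one]
  · have h := hMM
    rw [hc] at h
    have := congrFun (congrFun h ⟨0, hn⟩) ⟨0, hn⟩
    simp at this
    exact hz ⟨c, by linear_combination -this⟩


/-- Elements of prime order of PSL_n(q), q = q₀², and the subgroups of unitary type. Here `T = PSL_n(F)` for a field `F` with `q = q₀²` elements (`n ≥ 3`), `f` is a non-degenerate unitary form on `F^n` for the involutory automorphism `x ↦ x^{q₀}`, and `H` is the subgroup of matrices of determinant 1 that preserve `f` up to a scalar — a subgroup of type GU_n(q₀) (maximality is not assumed); Ω is the set of cosets of `H` in `T`, so an element of `T` of prime order `r` (a matrix `x` of determinant 1 with `x^r` scalar, `x` not scalar) fixes a point of Ω exactly when some conjugate of `x` by a matrix of determinant 1 preserves `f` up to a scalar. Let `r` be a prime dividing the index of `H`, with `r = 2` or `r` different from the characteristic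 `p`, and with `(n, r) ≠ (6, 3)`. Then every element of `T` of order `r` fixes a point of Ω if and only if either `r = 2` and (`p = 2` or `(n)_2 ≤ (q − 1)_2`), or `r ∈ {3, 5}`, `n = r` and `(q₀ − 1)_r = r`. (Odd `r = p` and the case `(n, r) = (6, 3)` are not covered by this statement.) -/
theorem result {F : Type*} [Field F] [Fintype F] {p : ℕ} [Fact p.Prime] [CharP F p] {q : ℕ} (hq : Fintype.card F = q)
    (q₀ : ℕ) (hq₀ : q = q₀ ^ 2) (n : ℕ) (hn : 3 ≤ n) (f : (Fin n → F) → (Fin n → F) → F) (hf : Cfsg.Geo.IsUnitaryFormPow q₀ f)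
    (r : ℕ) [Fact r.Prime] (hr : r = 2 ∨ r ≠ p) (hgap : ¬ (n = 6 ∧ r = 3))
    (hΩ : r ∣ (Cfsg.Geo.similarityGroup f).relIndex (Cfsg.Geo.specialLinear (Fin n) F)) :
    (∀ x ∈ Cfsg.Geo.specialLinear (Fin n) F, (∃ z : F, ((x ^ r : GL (Fin n) F) : Matrix (Fin n) (Fin n) F) = z • (1 : Matrix (Fin n) (Fin n) F)) →
      (∀ z : F, (x : Matrix (Fin n) (Fin n) F) ≠ z • (1 : Matrix (Fin n) (Fin n) F)) →
      ∃ g ∈ Cfsg.Geo.specialLinear (Fin n) F, g⁻¹ * x * g ∈ Cfsg.Geo.similarityGroup f) ↔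
    ((r = 2 ∧ (p = 2 ∨ padicValNat 2 n ≤ padicValNat 2 (q - 1))) ∨ ((r = 3 ∨ r = 5) ∧ n = r ∧ padicValNat r (q₀ - 1) = 1)) := by
  subst hq
  rw [hq₀]
  have hp : p.Prime := Fact.out
  have hn1 : 1 ≤ n := by omega
  have hF := hq₀
  have hqq := Forms.two_le_of_card_sq hF
  have hp2 : p ≠ 2 → (2 : F) ≠ 0 ∧ Odd q₀ := by
    intro hne
    have hrc : ringChar F ≠ 2 := by rwa [ringChar.eq F p]
    refine ⟨Ring.two_ne_zero hrc, ?_⟩
    have := FiniteField.odd_card_of_char_ne_two hrc
    rw [hF] at this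
    rcases Nat.even_or_odd q₀ with ⟨m, rfl⟩ | h
    · ring_nf at this; omega
    · exact h
  constructor
  · intro h
    suffices hs : ∀ (M : Matrix (Fin n) (Fin n) F) (z : F), M ^ r = z • 1 → M.det = 1 → (∀ c : F, M ≠ c • 1) →
        UnitDerange.NoHermSimilitude q₀ M → False by
      rcases eq_or_ne r 2 with rfl | hr2
      · by_cases hv : p = 2 ∨ padicValNat 2 n ≤ padicValNat 2 (q₀ ^ 2 - 1)
        · exact Or.inl ⟨rfl, hv⟩
        · push Not at hv
          obtain ⟨M, z, h1, hd, h3, h4⟩ := exists_invol_derangement (q₀ := q₀) hF (hp2 hv.1).1 hn1 (by rw [hF]; exact hv.2)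
          exact (hs M z h1 hd h3 h4).elim
      · by_cases hex : (r = 3 ∨ r = 5) ∧ n = r ∧ padicValNat r (q₀ - 1) = 1
        · exact Or.inr hex
        · obtain ⟨M, z, h1, hd, h3, h4⟩ := exists_derangement (p := p) hF hn hf hr2 (hr.resolve_left hr2) hgap hex hΩ
          exact (hs M z h1 hd h3 h4).elim
    intro M z h1 hd h3 h4
    let x : GL (Fin n) F := Matrix.GeneralLinearGroup.mkOfDetNeZero M (by rw [hd]; exact one_ne_zero)
    obtain ⟨g, -, hg⟩ := h x (UnitDerange.det_eq_one_iff.2 hd) ⟨z, by rw [Units.val_pow_eq_pow_val]; exact h1⟩ h3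
    exact h4.not_mem hf g hg
  · intro h x hx hxr hxs
    obtain ⟨z, hz⟩ := hxr
    rw [Units.val_pow_eq_pow_val] at hz
    have hdet := UnitDerange.det_eq_one_iff.1 hx
    rcases h with ⟨rfl, hv⟩ | ⟨hr35, hnr, hv⟩
    · rw [pow_two] at hz
      have : Nonempty (Fin n) := ⟨⟨0, hn1⟩⟩
      have hz0 : z ≠ 0 := fun h0 => by
        have := congrArg Matrix.det hz
        rw [h0, zero_smul, Matrix.det_mul, hdet, Matrix.det_zero, mul_one] at this
        exact one_ne_zero this
      by_cases hp' : p = 2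
      · subst hp'
        obtain ⟨s, rfl⟩ := FiniteField.isSquare_of_char_two (ringChar.eq F 2) z
        exact UnitDerange.invol_charTwo_mem hF hn1 hf (fun h0 => hz0 (by rw [h0, mul_zero])) hz
      · obtain ⟨h2, hodd⟩ := hp2 hp'
        have hv' := hv.resolve_left hp'
        have hsq : IsSquare z := by
          by_contra hns
          obtain ⟨b, hb, hM⟩ := LinClasses.exists_isModel_rot hns hz
          rw [Fintype.card_fin] at hb
          have hd' := hM.det_eq
          rw [hdet, LinClasses.det_rotBlock] at hd'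
          have hrc : ringChar F ≠ 2 := by rwa [ringChar.eq F p]
          have hb0 : b ≠ 0 := by omega
          have hm1 : IsSquare (-1 : F) := by
            rw [FiniteField.isSquare_neg_one_iff, hF, Nat.pow_mod]
            have := Nat.mod_lt q₀ (show 4 > 0 by norm_num)
            interval_cases q₀ % 4 <;> norm_num
          have hnz : ¬ IsSquare (-z) := fun h => hns (by simpa using hm1.mul h)
          rw [FiniteField.isSquare_iff hrc (neg_ne_zero.2 hz0)] at hnz
          set o := orderOf (-z) with ho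
          have ho1 : o ∣ b := orderOf_dvd_of_pow_eq_one hd'.symm
          have ho2 : o ∣ Fintype.card F - 1 := orderOf_dvd_of_pow_eq_one (FiniteField.pow_card_sub_one_eq_one _ (neg_ne_zero.2 hz0))
          have hq1 : Fintype.card F - 1 ≠ 0 := by have := Fintype.one_lt_card (α := F); omega
          have ho0 : o ≠ 0 := fun h0 => hq1 (by rw [h0] at ho2; exact Nat.eq_zero_of_zero_dvd ho2)
          have hhalf : (Fintype.card F / 2) * 2 = Fintype.card F - 1 := by
            have := FiniteField.odd_card_of_char_ne_two hrc; omega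
          apply hnz
          rw [← orderOf_dvd_iff_pow_eq_one, ← ho]
          obtain ⟨c, hc⟩ := ho2
          have hc0 : c ≠ 0 := fun h0 => hq1 (by rw [hc, h0, mul_zero])
          have hle : padicValNat 2 o < padicValNat 2 (Fintype.card F - 1) := by
            have h1 : padicValNat 2 o ≤ padicValNat 2 b := (padicValNat_dvd_iff_le hb0).1 (dvd_trans pow_padicValNat_dvd ho1)
            have h2 : padicValNat 2 n = padicValNat 2 b + 1 := by
              rw [← hb, ← two_mul, padicValNat.mul two_ne_zero hb0, padicValNat.self one_lt_two, add_comm]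
            rw [hF]; omega
          rw [hc, padicValNat.mul ho0 hc0] at hle
          obtain ⟨c', rfl⟩ := (dvd_iff_padicValNat_ne_zero (p := 2) hc0).2 (by omega)
          exact ⟨c', Nat.eq_of_mul_eq_mul_right two_pos (by rw [hhalf, hc]; ring)⟩
        obtain ⟨s, rfl⟩ := hsq
        exact UnitDerange.invol_split_mem hF h2 hodd hn1 hf (fun h0 => hz0 (by rw [h0, mul_zero])) hz
    · exact small_mem hF hr35 hnr hv hf hdet hz

end Cfsg.Agent.S5982
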