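import Cfsg.Statements.S5983
import Mathlib
import Cfsg.Agent.Lib.CharTwoQuad.Points
import Cfsg.Agent.Lib.CharTwoQuad.Shear

set_option autoImplicit false
open scoped MatrixGroups
open Cfsg
open Cfsg.Agent.Lib
open Matrix

namespace Cfsg.Agent.S5983

variable {F : Type*} [Field F] [CharP F 2] {d : ℕ}

lemma conj_mem_iff {Q : (Fin d ⊕ Fin d → F) → F} (hQ : CharTwoQuad.QF (Forms.sympBilin d F) Q) (hd : 0 < d)
    {y : GL (Fin d ⊕ Fin d) F} (hy : y ∈ Cfsg.spGL d F) :
    y ∈ Cfsg.Geo.quadSimilarityGroup Q ↔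
      ∀ v, Q ((y : Matrix (Fin d ⊕ Fin d) (Fin d ⊕ Fin d) F) *ᵥ v) = Q v := by
  constructor
  · rintro ⟨c, hc⟩
    have hc1 : (c : F) = 1 := by
      let i : Fin d := ⟨0, hd⟩
      let u : Fin d ⊕ Fin d → F := Pi.single (Sum.inl i) 1
      let w : Fin d ⊕ Fin d → F := Pi.single (Sum.inr i) 1
      have huw : Forms.sympBilin d F u w = 1 := by
        rw [CharTwoQuad.sympBilin_eq]
        simp [u, w, Pi.single_apply]
      have h1 := hQ.add ((y : Matrix (Fin d ⊕ Fin d) (Fin d ⊕ Fin d) F) *ᵥ u)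
        ((y : Matrix (Fin d ⊕ Fin d) (Fin d ⊕ Fin d) F) *ᵥ w)
      have hyw : Cfsg.sympForm d F ((y : Matrix (Fin d ⊕ Fin d) (Fin d ⊕ Fin d) F) *ᵥ u)
          ((y : Matrix (Fin d ⊕ Fin d) (Fin d ⊕ Fin d) F) *ᵥ w) = Cfsg.sympForm d F u w := hy u w
      rw [← Matrix.mulVec_add, hc, hc, hc, hQ.add, huw, Forms.sympBilin_apply, hyw, ← Forms.sympBilin_apply, huw] at h1
      linear_combination h1
    intro v
    rw [hc, hc1, one_mul]
  · intro h
    exact ⟨1, fun v => by rw [h, Units.val_one, one_mul]⟩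

lemma finrank_inl :
    Module.finrank F (LinearMap.ker (LinearMap.funLeft F F (Sum.inr : Fin d → Fin d ⊕ Fin d))) = d := by
  have h1 := LinearMap.finrank_range_add_finrank_ker (LinearMap.funLeft F F (Sum.inr : Fin d → Fin d ⊕ Fin d))
  rw [LinearMap.range_eq_top.2 (LinearMap.funLeft_surjective_of_injective F F _ Sum.inr_injective), finrank_top,
    Module.finrank_pi, Module.finrank_pi, Fintype.card_sum, Fintype.card_fin] at h1
  exact Nat.add_left_cancel h1

lemma symm_mem {h : (Fin d ⊕ Fin d → F) ≃ₗ[F] (Fin d ⊕ Fin d → F)}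
    (hh : ∀ u v, Forms.sympBilin d F (h u) (h v) = Forms.sympBilin d F u v) :
    (Forms.glEquiv _ F).symm h ∈ Cfsg.spGL d F := fun u v => by
  show Cfsg.sympForm d F ((((Forms.glEquiv _ F).symm h : GL (Fin d ⊕ Fin d) F) : Matrix (Fin d ⊕ Fin d) (Fin d ⊕ Fin d) F) *ᵥ u)
    ((((Forms.glEquiv _ F).symm h : GL (Fin d ⊕ Fin d) F) : Matrix (Fin d ⊕ Fin d) (Fin d ⊕ Fin d) F) *ᵥ v) = _
  rw [Forms.glEquiv_symm_mulVec, Forms.glEquiv_symm_mulVec, ← Forms.sympBilin_apply, ← Forms.sympBilin_apply, hh]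


/-- Elements of prime order of PSp_n(q), q even, and the subgroups of orthogonal type. Here `T = Sp_{2d}(F)` for a field `F` of characteristic 2 with `q` elements (`d ≥ 2`, `(d, q) ≠ (2, 2)`), realised as the invertible matrices preserving the standard alternating form; `Q` is a non-degenerate quadratic form on `F^{2d}` whose polar form is that alternating form, and `H` is the subgroup of `T` preserving `Q` up to a scalar (equivalently preserving `Q`) — a subgroup of type O^±_{2d}(q) (maximality is not assumed); `Q` is of plus type when `F^{2d}` contains a `d`-dimensional subspace on which `Q` vanishes, of minus type otherwise. Ω is the set of cosets of `H` in `T`, so an element of `T` of prime order `r` (`x ∈ T` with `x^r` scalar, `x` not scalar) fixes a point of Ω exactly when some `T`-conjugate of `x` preserves `Q`. Let `r` be a prime dividing the index of `H`. Then every element of `T` of order `r` fixes a point of Ω if and only if `r = 2` and either `Q`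 is of plus type or `d` is odd. -/
theorem result {F : Type*} [Field F] [Fintype F] {p : ℕ} [Fact p.Prime] [CharP F p] {q : ℕ} (hq : Fintype.card F = q)
    (hp : p = 2) (d : ℕ) (hd : 2 ≤ d) (hT : (d, q) ≠ (2, 2)) (Q : (Fin d ⊕ Fin d → F) → F) (hQ : Cfsg.Geo.IsNondegenerateQuadraticForm Q)
    (hQf : ∀ u v, QuadraticMap.polar Q u v = Cfsg.sympForm d F u v)
    (r : ℕ) [Fact r.Prime]
    (hΩ : r ∣ (Cfsg.Geo.quadSimilarityGroup Q).relIndex (Cfsg.spGL d F)) :
    (∀ x ∈ Cfsg.spGL d F, (∃ z : F, ((x ^ r : GL (Fin d ⊕ Fin d) F) : Matrix (Fin d ⊕ Fin d) (Fin d ⊕ Fin d) F) = z • (1 : Matrix (Fin d ⊕ Fin d) (Fin d ⊕ Fin d) F)) →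
      (∀ z : F, (x : Matrix (Fin d ⊕ Fin d) (Fin d ⊕ Fin d) F) ≠ z • (1 : Matrix (Fin d ⊕ Fin d) (Fin d ⊕ Fin d) F)) →
      ∃ g ∈ Cfsg.spGL d F, g⁻¹ * x * g ∈ Cfsg.Geo.quadSimilarityGroup Q) ↔
    (r = 2 ∧ (Cfsg.Geo.IsPlusTypeOn Q ⊤ ∨ Odd d)) := by
  subst hp
  haveI : CharP F 2 := ‹CharP F _›
  classical
  have hrp : r.Prime := Fact.out
  let f := Forms.sympBilin d F
  have hq' : CharTwoQuad.QF f Q :=
    ⟨hQ.smul, fun u v => by
      rw [show f u v = QuadraticMap.polar Q u v from ((hQf u v).trans (Forms.sympBilin_apply u v).symm).symm,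
        QuadraticMap.polar]
      ring⟩
  have hf : ∀ v, (∀ u, f u v = 0) → v = 0 := CharTwoQuad.sympBilin_nondeg d
  have hfin : Module.finrank F (Fin d ⊕ Fin d → F) = d + d := by simp
  have hqd : (0 : ℤ) < (Fintype.card F : ℤ) ^ d := pow_pos (by exact_mod_cast Fintype.card_pos) d
  have hplus : Cfsg.Geo.IsPlusTypeOn Q ⊤ ↔ 0 < CharTwoQuad.sgnSum Q := by
    constructor
    · rintro ⟨U, -, hU, hdim⟩
      rw [finrank_top] at hdim
      exact CharTwoQuad.sgnSum_of_totallySingular hq' hf U hU hdim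
    · intro h
      have hs : CharTwoQuad.sgnSum Q = CharTwoQuad.sgnSum (Cfsg.quadFormPlus d F) := by
        rw [CharTwoQuad.sgnSum_plus]
        refine (CharTwoQuad.sgnSum_cases hq' hf hfin).resolve_right fun h' => ?_
        linarith
      obtain ⟨g, -, hg⟩ := CharTwoQuad.exists_isometry hq' (CharTwoQuad.qf_plus d) hf hs.symm
      refine ⟨(LinearMap.ker (LinearMap.funLeft F F (Sum.inr : Fin d → Fin d ⊕ Fin d))).map g.toLinearMap,
        le_top, ?_, ?_⟩
      · rintro _ ⟨w, hw, rfl⟩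
        show Q (g w) = 0
        rw [hg]
        exact Finset.sum_eq_zero fun i _ => by
          rw [show w (.inr i) = 0 from congrFun (LinearMap.mem_ker.1 hw) i, mul_zero]
      · rw [LinearEquiv.finrank_map_eq, finrank_inl, finrank_top, hfin, two_mul]
  -- the criterion
  have hsp : ∀ {x : GL (Fin d ⊕ Fin d) F}, x ∈ Cfsg.spGL d F → ∀ u v,
      f (Forms.glEquiv _ F x u) (Forms.glEquiv _ F x v) = f u v := fun hx u v => by
    simp only [f, Forms.sympBilin_apply, Forms.glEquiv_apply]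
    exact hx u v
  have hcrit : ∀ x ∈ Cfsg.spGL d F,
      ((∃ g ∈ Cfsg.spGL d F, g⁻¹ * x * g ∈ Cfsg.Geo.quadSimilarityGroup Q) ↔
        ∃ Q', CharTwoQuad.QF f Q' ∧ (∀ v, Q' (Forms.glEquiv _ F x v) = Q' v) ∧
          CharTwoQuad.sgnSum Q' = CharTwoQuad.sgnSum Q) := by
    intro x hx
    constructor
    · rintro ⟨g, hg, hgx⟩
      have h := (conj_mem_iff hq' (by omega) (mul_mem (mul_mem (inv_mem hg) hx) hg)).1 hgx
      refine ⟨fun v => Q (Forms.glEquiv _ F g⁻¹ v), hq'.comp _ (hsp (inv_mem hg)), fun v => ?_,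
        CharTwoQuad.sgnSum_comp Q (Forms.glEquiv _ F g⁻¹).toEquiv⟩
      show Q (Forms.glEquiv _ F g⁻¹ (Forms.glEquiv _ F x v)) = _
      rw [← LinearEquiv.mul_apply, ← map_mul, show g⁻¹ * x = g⁻¹ * x * g * g⁻¹ by group, map_mul,
        LinearEquiv.mul_apply, Forms.glEquiv_apply, h]
    · rintro ⟨Q', hQ', hinv, hs⟩
      obtain ⟨h, hhf, hh⟩ := CharTwoQuad.exists_isometry hq' hQ' hf hs
      let k := (Forms.glEquiv _ F).symm h
      have hk : k ∈ Cfsg.spGL d F := symm_mem hhf
      refine ⟨k⁻¹, inv_mem hk, (conj_mem_iff hq' (by omega)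
        (mul_mem (mul_mem (inv_mem (inv_mem hk)) hx) (inv_mem hk))).2 fun v => ?_⟩
      rw [inv_inv, ← Forms.glEquiv_apply, map_mul, map_mul, LinearEquiv.mul_apply, LinearEquiv.mul_apply, map_inv,
        MulEquiv.apply_symm_apply, hh, hinv, ← hh]
      exact congrArg Q (h.apply_symm_apply v)
  constructor
  · intro hall
    by_cases hr : r = 2
    · subst hr
      refine ⟨rfl, ?_⟩
      by_contra hbad
      push Not at hbad
      obtain ⟨hnp, hodd⟩ := hbad
      obtain ⟨e, he⟩ := Nat.not_odd_iff_even.1 hodd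
      obtain ⟨S, hS, hS2, -⟩ := CharTwoQuad.exists_shear_omega (F := F) he
      have hxplus : ∀ v, Cfsg.quadFormPlus d F
          ((CharTwoQuad.shear S : Matrix (Fin d ⊕ Fin d) (Fin d ⊕ Fin d) F) *ᵥ v) = Cfsg.quadFormPlus d F v := by
        intro v
        rw [CharTwoQuad.shear_mulVec]
        show (v ∘ Sum.inl + S *ᵥ (v ∘ Sum.inr)) ⬝ᵥ (v ∘ Sum.inr) = (v ∘ Sum.inl) ⬝ᵥ (v ∘ Sum.inr)
        rw [add_dotProduct, dotProduct_comm (S *ᵥ _), hS, add_zero]
      have hx : CharTwoQuad.shear S ∈ Cfsg.spGL d F := fun u v => by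
        show Cfsg.sympForm d F ((CharTwoQuad.shear S : Matrix (Fin d ⊕ Fin d) (Fin d ⊕ Fin d) F) *ᵥ u)
          ((CharTwoQuad.shear S : Matrix (Fin d ⊕ Fin d) (Fin d ⊕ Fin d) F) *ᵥ v) = Cfsg.sympForm d F u v
        rw [← Forms.sympBilin_apply, ← Forms.sympBilin_apply]
        have h := (CharTwoQuad.qf_plus (F := F) d).add ((CharTwoQuad.shear S : Matrix (Fin d ⊕ Fin d) (Fin d ⊕ Fin d) F) *ᵥ u)
          ((CharTwoQuad.shear S : Matrix (Fin d ⊕ Fin d) (Fin d ⊕ Fin d) F) *ᵥ v)
        rw [← Matrix.mulVec_add, hxplus, hxplus, hxplus, (CharTwoQuad.qf_plus (F := F) d).add] at h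
        linear_combination -h
      obtain ⟨Q', hQ', hinv, hs⟩ := (hcrit _ hx).1 (hall _ hx
        ⟨1, by rw [CharTwoQuad.shear_sq, one_smul]; rfl⟩ fun z hz => by
          let i : Fin d := ⟨0, by omega⟩
          have h1 := congrFun (hS2 (Pi.single i 1)) i
          have hS0 : S = 0 := by
            ext a b
            simpa [CharTwoQuad.coe_shear] using congrFun (congrFun hz (Sum.inl a)) (Sum.inr b)
          simp [hS0] at h1)
      have hsing : ∀ w ∈ LinearMap.ker (LinearMap.funLeft F F (Sum.inr : Fin d → Fin d ⊕ Fin d)), Q' w = 0 := by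
        intro w hw
        have hwr : w ∘ Sum.inr = 0 := LinearMap.mem_ker.1 hw
        let v : Fin d ⊕ Fin d → F := Sum.elim 0 (S *ᵥ (w ∘ Sum.inl))
        have hxv : Forms.glEquiv _ F (CharTwoQuad.shear S) v = v + w := by
          rw [Forms.glEquiv_apply, CharTwoQuad.shear_mulVec]
          funext a
          rcases a with a | a
          · simp [v, hS2]
          · simp [v, show w (Sum.inr a) = 0 from congrFun hwr a]
        have hvw : f v w = 0 := by
          rw [show f v w = ∑ i, (v (.inl i) * w (.inr i) + v (.inr i) * w (.inl i)) from CharTwoQuad.sympBilin_eq d v w]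
          simp only [v, Sum.elim_inl, Pi.zero_apply, zero_mul, zero_add, Sum.elim_inr]
          have := hS (w ∘ Sum.inl)
          rwa [dotProduct_comm] at this
        have h := hinv v
        rw [hxv, hQ'.add, hvw, add_zero] at h
        exact add_eq_left.1 h
      have hpos := CharTwoQuad.sgnSum_of_totallySingular hQ' hf _ hsing (by rw [finrank_inl, hfin, two_mul])
      exact hnp (hplus.2 (hs ▸ hpos))
    · exfalso
      -- the number of forms of the given sign
      let S := {u : Fin d ⊕ Fin d → F // CharTwoQuad.sgn (Q u) = 1}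
      let Y := {Q' : (Fin d ⊕ Fin d → F) → F // CharTwoQuad.QF f Q' ∧ CharTwoQuad.sgnSum Q' = CharTwoQuad.sgnSum Q}
      have hSY : Nat.card S = Nat.card Y := by
        refine Nat.card_eq_of_bijective (fun u => ⟨fun v => Q v + f u.1 v ^ 2, hq'.shift u.1, by
          rw [CharTwoQuad.sgnSum_shift hq', u.2, one_mul]⟩) ⟨fun u u' h => Subtype.ext ?_, fun y => ?_⟩
        · have h0 : ∀ v, f v (u.1 - u'.1) = 0 := fun v => by
            have h1 : Q v + f u.1 v ^ 2 = Q v + f u'.1 v ^ 2 := congrFun (congrArg Subtype.val h) v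
            rw [hq'.symm, map_sub, LinearMap.sub_apply, sub_eq_zero]
            exact CharTwo.sq_inj.1 (add_left_cancel h1)
          exact sub_eq_zero.1 (hf _ h0)
        · obtain ⟨u, hu⟩ := CharTwoQuad.exists_shift hq' y.2.1 hf
          refine ⟨⟨u, ?_⟩, Subtype.ext (funext fun v => (hu v).symm)⟩
          have h := CharTwoQuad.sgnSum_shift hq' u
          rw [← funext hu, y.2.2] at h
          exact (mul_eq_right₀ (CharTwoQuad.sgnSum_ne_zero hq' hf)).1 h.symm
      let G := Cfsg.spGL d F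
      let K := (Cfsg.Geo.quadSimilarityGroup Q).subgroupOf G
      have hK : ∀ (k : G), k ∈ K → ∀ v, Q (Forms.glEquiv _ F (k : GL (Fin d ⊕ Fin d) F) v) = Q v := fun k hk =>
        (conj_mem_iff hq' (by omega) k.2).1 (Subgroup.mem_subgroupOf.1 hk)
      let φ : G → Y := fun g => ⟨fun v => Q (Forms.glEquiv _ F ((g⁻¹ : G) : GL (Fin d ⊕ Fin d) F) v),
        hq'.comp _ (hsp (g⁻¹ : G).2), CharTwoQuad.sgnSum_comp Q (Forms.glEquiv _ F ((g⁻¹ : G) : GL (Fin d ⊕ Fin d) F)).toEquiv⟩
      have hφ : ∀ a b : G, (φ a = φ b ↔ a⁻¹ * b ∈ K) := by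
        intro a b
        constructor
        · intro h
          refine Subgroup.mem_subgroupOf.2 ((conj_mem_iff hq' (by omega) (a⁻¹ * b : G).2).2 fun v => ?_)
          have h1 := congrFun (congrArg Subtype.val h) (Forms.glEquiv _ F (b : GL (Fin d ⊕ Fin d) F) v)
          simp only [φ, Subgroup.coe_inv, ← LinearEquiv.mul_apply, ← map_mul, inv_mul_cancel] at h1
          rw [map_one] at h1
          rw [← Forms.glEquiv_apply]
          simpa using h1
        · intro h
          refine Subtype.ext (funext fun v => ?_)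
          have h1 := hK _ h (Forms.glEquiv _ F ((b⁻¹ : G) : GL (Fin d ⊕ Fin d) F) v)
          rw [← LinearEquiv.mul_apply, ← map_mul, ← Subgroup.coe_mul,
            show a⁻¹ * b * b⁻¹ = a⁻¹ by group] at h1
          exact h1
      have hidx : K.index = Nat.card Y := by
        rw [Subgroup.index_eq_card]
        refine Nat.card_eq_of_bijective (Quotient.lift φ fun a b h => (hφ a b).2 (QuotientGroup.leftRel_apply.1 h))
          ⟨fun a b => Quotient.inductionOn₂ a b fun a b h => Quotient.sound (QuotientGroup.leftRel_apply.2 ((hφ a b).1 h)),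
            fun y => ?_⟩
        obtain ⟨h, hhf, hh⟩ := CharTwoQuad.exists_isometry hq' y.2.1 hf y.2.2
        have hk : (Forms.glEquiv _ F).symm h ∈ G := symm_mem hhf
        refine ⟨Quotient.mk _ (⟨_, hk⟩⁻¹ : G), Subtype.ext (funext fun v => ?_)⟩
        show Q (Forms.glEquiv _ F (((⟨_, hk⟩⁻¹ : G)⁻¹ : G) : GL (Fin d ⊕ Fin d) F) v) = y.1 v
        rw [inv_inv, MulEquiv.apply_symm_apply, hh]
      have hΩ' : r ∣ Nat.card S := by rw [hSY, ← hidx]; exact hΩ
      rw [Nat.card_eq_fintype_card, Fintype.card_subtype] at hΩ'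
      have h2 := (Int.natCast_dvd_natCast.2 hΩ').mul_left 2
      rw [CharTwoQuad.two_mul_card_sgn_one] at h2
      have hcV : (Fintype.card (Fin d ⊕ Fin d → F) : ℤ) = (Fintype.card F : ℤ) ^ d * (Fintype.card F : ℤ) ^ d := by
        rw [Fintype.card_fun, Fintype.card_sum, Fintype.card_fin, ← pow_add]; push_cast; rfl
      rw [hcV] at h2
      have hr' : Prime (r : ℤ) := Nat.prime_iff_prime_int.1 hrp
      have hrq : ¬ (r : ℤ) ∣ (Fintype.card F : ℤ) ^ d := fun h => by
        obtain ⟨k, -, hk⟩ := FiniteField.card F 2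
        have h' := Int.natCast_dvd_natCast.1 (hr'.dvd_of_dvd_pow h)
        rw [hk] at h'
        exact hr ((Nat.prime_dvd_prime_iff_eq hrp Nat.prime_two).1 (hrp.dvd_of_dvd_pow h'))
      have hne2 : ¬ (r : ℤ) ∣ 2 := fun h => by
        have := Int.natCast_dvd_natCast.1 (show (r : ℤ) ∣ ((2 : ℕ) : ℤ) by exact_mod_cast h)
        exact hr ((Nat.prime_dvd_prime_iff_eq hrp Nat.prime_two).1 this)
      obtain ⟨ε, hε, hQε⟩ : ∃ ε : ℤ, (ε = 1 ∨ ε = -1) ∧ CharTwoQuad.sgnSum Q = ε * (Fintype.card F : ℤ) ^ d := by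
        rcases CharTwoQuad.sgnSum_cases hq' hf hfin with h | h
        · exact ⟨1, Or.inl rfl, by rw [h, one_mul]⟩
        · exact ⟨-1, Or.inr rfl, by rw [h, neg_one_mul]⟩
      have hcong : (r : ℤ) ∣ (Fintype.card F : ℤ) ^ d + ε := by
        rw [hQε, ← add_mul] at h2
        exact (hr'.dvd_mul.1 h2).resolve_right hrq
      have hsq : r ∣ Fintype.card F ^ (d + d) - 1 := by
        rw [← Int.natCast_dvd_natCast, Nat.cast_sub (Nat.one_le_pow _ _ Fintype.card_pos)]
        push_cast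
        have h := hcong.mul_right ((Fintype.card F : ℤ) ^ d - ε)
        rw [show (Fintype.card F : ℤ) ^ (d + d) - 1 = ((Fintype.card F : ℤ) ^ d + ε) * ((Fintype.card F : ℤ) ^ d - ε) by
          rcases hε with e | e <;> rw [e] <;> ring]
        exact h
      obtain ⟨e₀, he₀f, he₀r, he₀fix⟩ := CharTwoQuad.exists_fpf (F := F) hr (by omega : d ≠ 0) hsq
      have hx : (Forms.glEquiv _ F).symm e₀ ∈ Cfsg.spGL d F := symm_mem he₀f
      have hxv : ∀ v, ((((Forms.glEquiv _ F).symm e₀ : GL (Fin d ⊕ Fin d) F)) : Matrix (Fin d ⊕ Fin d) (Fin d ⊕ Fin d) F) *ᵥ v = e₀ v :=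
        fun v => Forms.glEquiv_symm_mulVec e₀ v
      obtain ⟨Q', hQ', hinv, hs⟩ := (hcrit _ hx).1 (hall _ hx ⟨1, by
        rw [← map_pow, he₀r, map_one, one_smul]; rfl⟩ fun z hz => by
          let i : Fin d := ⟨0, by omega⟩
          have h1 : Forms.sympBilin d F (Pi.single (Sum.inl i) 1) (Pi.single (Sum.inr i) 1) = 1 := by
            rw [CharTwoQuad.sympBilin_eq]
            simp [Pi.single_apply]
          have hev : ∀ v, e₀ v = z • v := fun v => by rw [← hxv, hz, Matrix.smul_mulVec, Matrix.one_mulVec]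
          have h2 := he₀f (Pi.single (Sum.inl i) 1) (Pi.single (Sum.inr i) 1)
          rw [hev, hev, map_smul, map_smul, LinearMap.smul_apply, h1, smul_eq_mul, smul_eq_mul, mul_one] at h2
          have hz1 : z = 1 := CharTwo.sq_inj.1 (by rw [one_pow, pow_two]; exact h2)
          have h3 := he₀fix (Pi.single (Sum.inl i) 1) (by rw [hev, hz1, one_smul])
          simp at h3)
      simp only [MulEquiv.apply_symm_apply] at hinv
      have h1 := CharTwoQuad.dvd_sgnSum_sub_one hQ' e₀ he₀r he₀fix hinv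
      rw [hs, hQε] at h1
      rcases hε with rfl | rfl
      · apply hne2
        rw [show (2 : ℤ) = (Fintype.card F : ℤ) ^ d + 1 - (1 * (Fintype.card F : ℤ) ^ d - 1) by ring]
        exact dvd_sub hcong h1
      · apply hne2
        rw [show (2 : ℤ) = -(((Fintype.card F : ℤ) ^ d + -1) + (-1 * (Fintype.card F : ℤ) ^ d - 1)) by ring]
        exact (dvd_add hcong h1).neg_right
  · rintro ⟨rfl, hgood⟩ x hx ⟨z, hz⟩ -
    have he : ∀ v, Forms.glEquiv _ F x (Forms.glEquiv _ F x v) = z • v := fun v => by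
      rw [Forms.glEquiv_apply, Forms.glEquiv_apply, Matrix.mulVec_mulVec, ← Units.val_mul, ← pow_two, hz,
        Matrix.smul_mulVec, Matrix.one_mulVec]
    have hz1 : z = 1 := by
      let i : Fin d := ⟨0, by omega⟩
      have h1 : f (Pi.single (Sum.inl i) 1) (Pi.single (Sum.inr i) 1) = 1 := by
        show Forms.sympBilin d F _ _ = 1
        rw [CharTwoQuad.sympBilin_eq]
        simp [Pi.single_apply]
      have h2 := hsp hx (Forms.glEquiv _ F x (Pi.single (Sum.inl i) 1)) (Forms.glEquiv _ F x (Pi.single (Sum.inr i) 1))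
      rw [he, he, hsp hx, map_smul, map_smul, LinearMap.smul_apply, h1, smul_eq_mul, smul_eq_mul, mul_one] at h2
      exact CharTwo.sq_inj.1 (by rw [one_pow, pow_two]; exact h2)
    obtain ⟨Q', hQ', hinv, hs⟩ := CharTwoQuad.exists_invariant_sign hq' hf (Forms.glEquiv _ F x) (hsp hx)
      (fun v => by rw [he, hz1, one_smul]) hfin (hgood.imp_left hplus.1)
    exact (hcrit x hx).2 ⟨Q', hQ', hinv, hs⟩

end Cfsg.Agent.S5983
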