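import Cfsg.Statements.S5984
import Cfsg.Agent.Lib.UnitaryPairDerange.Elements
-- import your own Cfsg.Agent.* helpers here

set_option autoImplicit false
open scoped MatrixGroups
open Cfsg
open Matrix
open Cfsg.Agent.Lib Cfsg.Agent.Lib.Forms Cfsg.Agent.Lib.UnitaryMax Cfsg.Agent.Lib.UnitaryPairDerange

namespace Cfsg.Agent.S5984

section

variable {F : Type*} [Field F] [Fintype F] {q n m : ℕ}

theorem isConj_of_models {κ : Type*} [Fintype κ] [DecidableEq κ] {x y : GL (Fin n) F} {M : Matrix κ κ F}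
    (hx : LinClasses.IsModel (x : Matrix (Fin n) (Fin n) F) M)
    (hy : LinClasses.IsModel (y : Matrix (Fin n) (Fin n) F) M) : IsConj x y := by
  obtain ⟨Φ, hΦ⟩ := hx
  obtain ⟨Ψ, hΨ⟩ := hy
  let e : (Fin n → F) ≃ₗ[F] (Fin n → F) := Φ.symm.trans Ψ
  let P : GL (Fin n) F := (Forms.glEquiv _ F).symm e
  refine isConj_iff.2 ⟨P, ?_⟩
  rw [mul_inv_eq_iff_eq_mul]
  refine Units.ext (Matrix.ext_of_mulVec_single fun i => ?_)
  have hP : ∀ v, (P : Matrix (Fin n) (Fin n) F) *ᵥ v = e v := fun v => Forms.glEquiv_symm_mulVec _ _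
  obtain ⟨v, hv⟩ := Φ.surjective (Pi.single i 1)
  rw [← hv, Units.val_mul, Units.val_mul, ← mulVec_mulVec, ← mulVec_mulVec, hP, hP, hΦ]
  simp [e, hΨ]

variable (hF : Fintype.card F = q ^ 2) (D : Fin 2 → Submodule F (Fin n → F))
  (hD : Cfsg.Geo.IsMDecomposition m D) (hDs : ∀ i, Cfsg.Geo.IsTotallySingularFor (Cfsg.hermForm n F q) (D i))
include hF hD hDs

theorem pair_facts : D 0 ⊔ D 1 = ⊤ ∧ D 0 ⊓ D 1 = ⊥ := by
  refine ⟨eq_top_iff.2 (hD.iSup_eq_top.ge.trans (iSup_le fun i => ?_)),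
    disjoint_iff.mp (hD.indep.pairwiseDisjoint (by simp : (0 : Fin 2) ≠ 1))⟩
  fin_cases i
  · exact le_sup_left
  · exact le_sup_right

theorem D_injective {i j : Fin 2} (e : D i = D j) : i = j := by
  by_contra hne
  have h1 := hD.indep.pairwiseDisjoint hne
  rw [Function.onFun, e, disjoint_self] at h1
  have h2 := hD.finrank_eq j
  rw [h1, finrank_bot] at h2
  exact absurd h2 hD.pos.ne

/-- The dichotomy for elements of the stabiliser. -/
theorem stab_cases (hdn : 2 * m = n) {y : GL (Fin n) F} (hyU : y ∈ Cfsg.GU n F q)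
    (hy : y ∈ Cfsg.Geo.decompositionStabilizer D) (r : ℕ) (hr : ∃ z : F,
      ((y ^ r : GL (Fin n) F) : Matrix (Fin n) (Fin n) F) = z • (1 : Matrix (Fin n) (Fin n) F)) {c : F}
    (hc : c ^ (q + 1) = 1) :
    Even (eigDim (y : Matrix (Fin n) (Fin n) F) c) ∨
      (¬ Odd r ∧ eigDim (y : Matrix (Fin n) (Fin n) F) c ≤ m) := by
  obtain ⟨σ, hσ⟩ := hy
  obtain ⟨hsup, hinf⟩ := pair_facts hF D hD hDs
  have hmem : ∀ i, ∀ v ∈ D i, (y : Matrix (Fin n) (Fin n) F) *ᵥ v ∈ D (σ i) := fun i v hv => by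
    rw [← hσ i]; exact ⟨v, hv, Matrix.toLin'_apply _ _⟩
  by_cases hσ1 : σ = 1
  · subst hσ1
    have hinv : ∀ i, ∀ v ∈ D i, ((y⁻¹ : GL (Fin n) F) : Matrix (Fin n) (Fin n) F) *ᵥ v ∈ D i := fun i v hv => by
      rw [← Equiv.Perm.one_apply i, ← hσ i] at hv
      obtain ⟨w, hw, rfl⟩ := hv
      rw [Matrix.toLin'_apply, inv_mulVec_mulVec]
      exact hw
    exact Or.inl (even_eigDim hF (D 0) (D 1) (hDs 0) (hDs 1) hsup hinf hyU (hmem 0) (hinv 0) (hmem 1) (hinv 1)
      (hD.finrank_eq 0) hdn hc)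
  · have hswap : σ 0 = 1 := by
      by_contra h0
      have h0' : σ 0 = 0 := by omega
      refine hσ1 (Equiv.ext fun i => ?_)
      have h1 : σ 1 ≠ σ 0 := fun e => by simpa using σ.injective e
      fin_cases i
      · exact h0'
      · show σ 1 = 1
        omega
    refine Or.inr ⟨fun hodd => hσ1 ?_, eigDim_le_of_swap hF (D 0) (D 1) (hDs 0) (hDs 1) hsup hinf
      (fun v hv => hswap ▸ hmem 0 v hv) (hD.finrank_eq 0) hdn c⟩
    obtain ⟨z, hz⟩ := hr
    have hpow : ∀ k : ℕ, ∀ i, ∀ v ∈ D i, ((y ^ k : GL (Fin n) F) : Matrix (Fin n) (Fin n) F) *ᵥ v ∈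
        D ((σ ^ k) i) := by
      intro k
      induction k with
      | zero => intro i v hv; simpa using hv
      | succ k ih =>
        intro i v hv
        rw [show y ^ (k + 1) = y * y ^ k from pow_succ' y k, show σ ^ (k + 1) = σ * σ ^ k from pow_succ' σ k,
          Units.val_mul, ← mulVec_mulVec, Equiv.Perm.mul_apply]
        exact hmem _ _ (ih i v hv)
    have hσr : σ ^ r = 1 := by
      refine Equiv.ext fun i => ?_
      refine D_injective hF D hD hDs (Submodule.eq_of_le_of_finrank_eq ?_ (by rw [hD.finrank_eq, hD.finrank_eq])).symm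
      intro v hv
      have h1 := hpow r i v hv
      rw [hz, Matrix.smul_mulVec, Matrix.one_mulVec] at h1
      have hz0 : z ≠ 0 := by
        intro hz0
        have h2 : IsUnit ((y ^ r : GL (Fin n) F) : Matrix (Fin n) (Fin n) F) := Units.isUnit _
        haveI : Nonempty (Fin n) := ⟨⟨0, by have := hD.pos; omega⟩⟩
        rw [hz, hz0, zero_smul, Matrix.isUnit_iff_isUnit_det, Matrix.det_zero] at h2
        exact not_isUnit_zero h2
      simpa [smul_smul, inv_mul_cancel₀ hz0] using Submodule.smul_mem _ z⁻¹ h1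
    have h2 : σ ^ 2 = 1 := by
      have : ∀ τ : Equiv.Perm (Fin 2), τ ^ 2 = 1 := by decide
      exact this σ
    obtain ⟨k, rfl⟩ := hodd
    rwa [pow_succ, pow_mul, h2, one_pow, one_mul] at hσr

/-- A conjugate in the unitary group gives one in the special unitary group. -/
theorem exists_special_conj (hdn : 2 * m = n) {x y : GL (Fin n) F} (hxU : x ∈ Cfsg.GU n F q) (hyU : y ∈ Cfsg.GU n F q)
    (hy : y ∈ Cfsg.Geo.decompositionStabilizer D) (hxy : IsConj x y) :
    ∃ g ∈ Cfsg.GU n F q ⊓ Cfsg.Geo.specialLinear (Fin n) F, g⁻¹ * x * g ∈ Cfsg.Geo.decompositionStabilizer D := by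
  classical
  obtain ⟨hsup, hinf⟩ := pair_facts hF D hD hDs
  obtain ⟨Ψ, Φ, -, hΨU, hΨA, hΨB, hΨdet, -⟩ :=
    exists_pairHom hF (D 0) (D 1) (hDs 0) (hDs 1) hsup hinf (hD.finrank_eq 0) hdn
  obtain ⟨c, hc⟩ := isConj_iff.1 ((FormConj.isConj_GU_iff hF ⟨x, hxU⟩ ⟨y, hyU⟩).2 hxy)
  replace hc : (c : GL (Fin n) F) * x * (c : GL (Fin n) F)⁻¹ = y := congrArg Subtype.val hc
  obtain ⟨ψ, hψ0, hψ⟩ := exists_twist_quotient hF (unitary_det_norm hF c.2)
  let i₀ : Fin m := ⟨0, hD.pos⟩
  let a : GL (Fin m) F := Matrix.GeneralLinearGroup.mkOfDetNeZero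
    (Matrix.diagonal fun i : Fin m => if i = i₀ then ψ else 1)
    (by rw [Matrix.det_diagonal, Finset.prod_ite_eq']; simpa using hψ0)
  have ha : (a : Matrix (Fin m) (Fin m) F).det = ψ := by
    show (Matrix.diagonal fun i : Fin m => if i = i₀ then ψ else 1).det = ψ
    rw [Matrix.det_diagonal, Finset.prod_ite_eq']
    simp
  have hsS : Ψ a ∈ Cfsg.Geo.decompositionStabilizer D := by
    refine ⟨1, fun i => Submodule.eq_of_le_of_finrank_eq ?_ ?_⟩
    · rintro _ ⟨v, hv, rfl⟩
      rw [Matrix.toLin'_apply, Equiv.Perm.one_apply]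
      fin_cases i
      · exact hΨA a v hv
      · exact hΨB a v hv
    · rw [← (Submodule.equivMapOfInjective _ (fun v w e => ?_) (D i)).finrank_eq, Equiv.Perm.one_apply]
      simpa [Matrix.toLin'_apply, inv_mulVec_mulVec] using
        congrArg (((Ψ a)⁻¹ : GL (Fin n) F).1 *ᵥ ·) e
  refine ⟨(c : GL (Fin n) F)⁻¹ * Ψ a,
    Subgroup.mem_inf.2 ⟨(Cfsg.GU n F q).mul_mem ((Cfsg.GU n F q).inv_mem c.2) (hΨU a), ?_⟩, ?_⟩
  · rw [mem_special_iff hF, Units.val_mul, det_mul, hΨdet, ha, hψ, ← det_mul, Units.inv_mul, det_one]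
  · have : ((c : GL (Fin n) F)⁻¹ * Ψ a)⁻¹ * x * ((c : GL (Fin n) F)⁻¹ * Ψ a) = (Ψ a)⁻¹ * y * Ψ a := by
      rw [← hc]; group
    rw [this]
    exact mul_mem (mul_mem (inv_mem hsS) hy) hsS

/-- The stabiliser of the pair contains enough of `GL_m(q²)`. -/
theorem index_dvd (hdn : 2 * m = n) {r : ℕ} [Fact r.Prime]
    (hΩ : r ∣ (Cfsg.Geo.decompositionStabilizer D).relIndex (Cfsg.GU n F q ⊓ Cfsg.Geo.specialLinear (Fin n) F)) :
    r * Nat.card (GL (Fin m) F) ∣ Nat.card (Cfsg.GU n F q) := by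
  classical
  obtain ⟨hsup, hinf⟩ := pair_facts hF D hD hDs
  obtain ⟨Ψ, Φ, hΨi, hΨU, hΨA, hΨB, -, -⟩ :=
    exists_pairHom hF (D 0) (D 1) (hDs 0) (hDs 1) hsup hinf (hD.finrank_eq 0) hdn
  let su := Cfsg.GU n F q ⊓ Cfsg.Geo.specialLinear (Fin n) F
  let S := Cfsg.Geo.decompositionStabilizer D ⊓ su
  let δ : GL (Fin m) F →* Fˣ := Matrix.GeneralLinearGroup.det.comp Ψ
  have hker : Nat.card δ.ker ∣ Nat.card S := by
    have hle : δ.ker.map Ψ ≤ S := by
      rintro _ ⟨a, ha, rfl⟩
      refine ⟨⟨1, fun i => Submodule.eq_of_le_of_finrank_eq ?_ ?_⟩, hΨU a, MonoidHom.mem_ker.2 (MonoidHom.mem_ker.1 ha)⟩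
      · rintro _ ⟨v, hv, rfl⟩
        rw [Matrix.toLin'_apply, Equiv.Perm.one_apply]
        fin_cases i
        · exact hΨA a v hv
        · exact hΨB a v hv
      · rw [← (Submodule.equivMapOfInjective _ (fun v w e => ?_) (D i)).finrank_eq, Equiv.Perm.one_apply]
        simpa [Matrix.toLin'_apply, inv_mulVec_mulVec] using congrArg (((Ψ a)⁻¹ : GL (Fin n) F).1 *ᵥ ·) e
    rw [← Subgroup.card_map_of_injective hΨi]
    exact Subgroup.card_dvd_of_le hle
  have hrange : Nat.card δ.range ∣ q + 1 := by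
    rw [← Classical.natCard_range_guDet hF n (by have := hD.pos; omega)]
    refine Subgroup.card_dvd_of_le ?_
    rintro _ ⟨a, rfl⟩
    exact ⟨⟨Ψ a, hΨU a⟩, rfl⟩
  have h1 : Nat.card (GL (Fin m) F) ∣ Nat.card S * (q + 1) := by
    rw [← δ.ker.card_mul_index, Subgroup.index_ker]
    exact mul_dvd_mul hker hrange
  have h2 : S.relIndex su * Nat.card S = Nat.card su := by
    rw [mul_comm, ← (S.subgroupOf su).card_mul_index, Nat.card_congr
      (Subgroup.subgroupOfEquivOfLe (inf_le_right : S ≤ su)).toEquiv]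
    rfl
  have h3 : (q + 1) * Nat.card su = Nat.card (Cfsg.GU n F q) := by
    rw [← Classical.succ_mul_natCard_SU hF n (by have := hD.pos; omega)]
    refine congrArg (_ * ·) (Nat.card_congr ?_)
    exact { toFun := fun g => ⟨⟨(g.1 : Matrix (Fin n) (Fin n) F), congrArg Units.val (MonoidHom.mem_ker.1 g.2.2)⟩, g.2.1⟩
            invFun := fun g => ⟨Matrix.SpecialLinearGroup.toGL g.1, g.2, MonoidHom.mem_ker.2 (Units.ext g.1.2)⟩
            left_inv := fun g => Subtype.ext (Units.ext rfl)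
            right_inv := fun g => rfl }
  have h4 : r ∣ S.relIndex su := by
    rw [Subgroup.inf_relIndex_right]
    exact hΩ
  refine (mul_dvd_mul h4 h1).trans (dvd_of_eq ?_)
  rw [← h3, ← h2]
  ring

omit hD hDs in
theorem not_scalar_of_eigDim {x : GL (Fin n) F} {c : F} (h0 : eigDim (x : Matrix (Fin n) (Fin n) F) c ≠ 0)
    (hn : eigDim (x : Matrix (Fin n) (Fin n) F) c ≠ n) (z : F) :
    (x : Matrix (Fin n) (Fin n) F) ≠ z • (1 : Matrix (Fin n) (Fin n) F) := by
  intro e
  rw [e] at h0 hn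
  rcases eigDim_scalar (n := n) z c with h | h <;> contradiction

/-- Derangements. -/
theorem exists_derangement (hdn : 2 * m = n) (hm : 2 ≤ m) {p r : ℕ} [Fact p.Prime] [CharP F p] [Fact r.Prime]
    (hΩ : r ∣ (Cfsg.Geo.decompositionStabilizer D).relIndex (Cfsg.GU n F q ⊓ Cfsg.Geo.specialLinear (Fin n) F))
    (hnot : ¬ (r = 2 ∧ Odd q ∧ padicValNat 2 (q + 1) ≤ padicValNat 2 n)) :
    ∃ x ∈ Cfsg.GU n F q ⊓ Cfsg.Geo.specialLinear (Fin n) F,
      (∃ z : F, ((x ^ r : GL (Fin n) F) : Matrix (Fin n) (Fin n) F) = z • (1 : Matrix (Fin n) (Fin n) F)) ∧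
      ∃ c : F, c ^ (q + 1) = 1 ∧ Odd (eigDim (x : Matrix (Fin n) (Fin n) F) c) ∧
        (Odd r ∨ m < eigDim (x : Matrix (Fin n) (Fin n) F) c) ∧ eigDim (x : Matrix (Fin n) (Fin n) F) c < n := by
  classical
  have hrpr : r.Prime := Fact.out
  have hp : p.Prime := Fact.out
  obtain ⟨hsup, hinf⟩ := pair_facts hF D hD hDs
  by_cases hrp : r = p
  · subst hrp
    obtain ⟨v, hv, hv0⟩ := Submodule.exists_mem_ne_zero_of_ne_bot (show D 0 ≠ ⊥ from fun e => by
      have := hD.finrank_eq 0; rw [e, finrank_bot] at this; omega)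
    have hvv := hDs 0 v hv v hv
    obtain ⟨δ, hδ, hδ0⟩ := exists_skew_ne hF
    refine ⟨T v δ hvv, T_mem hF v hvv hδ, ⟨1, ?_⟩, 1, one_pow _, ?_⟩
    · rw [one_smul, Units.val_pow_eq_pow_val]
      have hiter : ∀ (k : ℕ) (x : Fin n → F), (T v δ hvv : Matrix (Fin n) (Fin n) F) ^ k *ᵥ x =
          x + ((k : F) * (δ * Cfsg.hermForm n F q x v)) • v := by
        intro k
        induction k with
        | zero => intro x; simp
        | succ k ih =>
          intro x
          rw [pow_succ', ← mulVec_mulVec, ih, T_mulVec, herm_add_left hF, herm_smul_left hF, hvv]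
          push_cast
          module
      exact Matrix.ext_of_mulVec_single fun i => by
        rw [hiter, CharP.cast_eq_zero, zero_mul, zero_smul, add_zero, Matrix.one_mulVec]
    have hker : eigDim (T v δ hvv : Matrix (Fin n) (Fin n) F) 1 = n - 1 := by
      let φ : (Fin n → F) →ₗ[F] F :=
        { toFun := fun x => Cfsg.hermForm n F q x v
          map_add' := fun x y => herm_add_left hF x y v
          map_smul' := fun a x => by rw [herm_smul_left hF, RingHom.id_apply, smul_eq_mul] }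
      have hφ : φ ≠ 0 := fun e => by
        obtain ⟨w, hw⟩ := exists_h_ne hF hv0
        exact hw (h_symm hF (LinearMap.congr_fun e w))
      have h1 := φ.finrank_range_add_finrank_ker
      have h2 : Module.finrank F (LinearMap.range φ) = 1 := by
        rw [LinearMap.range_eq_top.2 (φ.surjective_of_ne_zero hφ), finrank_top, Module.finrank_self]
      rw [h2, Module.finrank_fin_fun] at h1
      have h3 : LinearMap.ker (Matrix.toLin' ((T v δ hvv : Matrix (Fin n) (Fin n) F) - (1 : F) • 1)) =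
          LinearMap.ker φ := by
        ext x
        rw [mem_ker_iff, one_smul, T_mulVec, add_eq_left, smul_eq_zero, LinearMap.mem_ker]
        simp [hδ0, hv0, φ]
      rw [eigDim, h3]
      omega
    rw [hker]
    exact ⟨⟨m - 1, by omega⟩, Or.inr (by omega), by omega⟩
  by_cases hr1 : r ∣ q + 1
  · have hq2 := Forms.two_le_of_card_sq hF
    by_cases hr2 : r = 2
    · subst hr2
      have hqo : Odd q := by
        obtain ⟨k, hk⟩ := hr1
        exact Nat.odd_iff.2 (by omega)
      have h2 : (2 : F) ≠ 0 := fun e => by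
        have h1 := (CharP.cast_eq_zero_iff F p 2).1 (by exact_mod_cast e)
        exact hrp ((Nat.prime_dvd_prime_iff_eq hp Nat.prime_two).1 h1).symm
      obtain ⟨c, hc, hcn⟩ := exists_neg_one_eq_pow hF h2 (n := n) (by omega)
        (by by_contra hle; exact hnot ⟨rfl, hqo, by omega⟩)
      have hc0 : c ≠ 0 := by rintro rfl; simp at hc
      let i₀ : Fin n := ⟨0, by omega⟩
      let d : Fin n → F := fun i => if i = i₀ then -c else c
      have hd : ∀ i, d i ^ (q + 1) = 1 := fun i => by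
        simp only [d]; split_ifs
        · rw [Even.neg_pow hqo.add_one, hc]
        · exact hc
      have hprod : ∏ i, d i = 1 := by
        rw [← Finset.mul_prod_erase _ _ (Finset.mem_univ i₀), Finset.prod_congr rfl
          (fun i hi => show d i = c by simp [d, Finset.ne_of_mem_erase hi]), Finset.prod_const,
          Finset.card_erase_of_mem (Finset.mem_univ i₀), Finset.card_univ, Fintype.card_fin]
        simp only [d, if_pos]
        rw [neg_mul, ← pow_succ', Nat.sub_add_cancel (by omega), hcn, neg_neg]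
      obtain ⟨x, hx, hxd⟩ := exists_diagonal_element hF d hd hprod
      refine ⟨x, hx, ⟨c ^ 2, ?_⟩, c, hc, ?_⟩
      · rw [Units.val_pow_eq_pow_val, hxd, diagonal_pow, smul_one_eq_diagonal]
        exact congrArg _ (funext fun i => by simp only [Pi.pow_apply, d]; split_ifs <;> simp)
      have hk : eigDim (x : Matrix (Fin n) (Fin n) F) c = n - 1 := by
        rw [hxd, eigDim_diagonal, Nat.card_eq_fintype_card, Fintype.card_subtype,
          show (Finset.univ.filter fun i => d i = c) = Finset.univ.erase i₀ from ?_,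
          Finset.card_erase_of_mem (Finset.mem_univ i₀), Finset.card_univ, Fintype.card_fin]
        ext i
        by_cases hi : i = i₀
        · simp [d, hi]
          exact fun e => h2 (mul_right_cancel₀ hc0 (by linear_combination -e))
        · simp [d, hi]
      rw [hk]
      exact ⟨⟨m - 1, by omega⟩, Or.inr (by omega), by omega⟩
    · have hodd : Odd r := hrpr.odd_of_ne_two hr2
      obtain ⟨c, hc, hc1⟩ := exists_norm_one_of_dvd hF hr1
      have hc0 : c ≠ 0 := by rintro rfl; simp at hc1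
      have hcr : c ^ r = 1 := by rw [← hc, pow_orderOf_eq_one]
      let i₀ : Fin n := ⟨0, by omega⟩
      let i₁ : Fin n := ⟨1, by omega⟩
      let d : Fin n → F := fun i => if i = i₀ then c else if i = i₁ then c⁻¹ else 1
      have hd : ∀ i, d i ^ (q + 1) = 1 := fun i => by
        simp only [d]; split_ifs <;> simp [hc1]
      have hne : i₁ ≠ i₀ := by simp [i₀, i₁]
      have hprod : ∏ i, d i = 1 := by
        rw [← Finset.mul_prod_erase _ _ (Finset.mem_univ i₀), ← Finset.mul_prod_erase _ _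
          (Finset.mem_erase.2 ⟨hne, Finset.mem_univ i₁⟩), Finset.prod_eq_one
          (fun i hi => by simp at hi; simp [d, hi.1, hi.2])]
        simp [d, hne, hc0]
      obtain ⟨x, hx, hxd⟩ := exists_diagonal_element hF d hd hprod
      refine ⟨x, hx, ⟨1, ?_⟩, c, hc1, ?_⟩
      · rw [Units.val_pow_eq_pow_val, hxd, diagonal_pow, one_smul, ← diagonal_one]
        exact congrArg _ (funext fun i => by simp only [Pi.pow_apply, d]; split_ifs <;> simp [hcr])
      have hk : eigDim (x : Matrix (Fin n) (Fin n) F) c = 1 := by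
        have hne1 : c ≠ 1 := fun e => by rw [e, orderOf_one] at hc; exact hrpr.one_lt.ne hc
        have hne2 : c⁻¹ ≠ c := fun e => by
          have h1 : c ^ 2 = 1 := by rw [sq]; nth_rw 1 [← e]; rw [inv_mul_cancel₀ hc0]
          have h2 := orderOf_dvd_of_pow_eq_one h1
          rw [hc] at h2
          exact hr2 ((Nat.prime_dvd_prime_iff_eq hrpr Nat.prime_two).1 h2)
        rw [hxd, eigDim_diagonal, Nat.card_eq_one_iff_unique]
        refine ⟨⟨fun a b => Subtype.ext ?_⟩, ⟨⟨i₀, by simp [d]⟩⟩⟩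
        have h0 : ∀ i, d i = c → i = i₀ := fun i hi => by
          by_contra h'
          simp only [d, if_neg h'] at hi
          split_ifs at hi
          · exact hne2 hi
          · exact hne1 hi.symm
        rw [h0 a a.2, h0 b b.2]
      rw [hk]
      exact ⟨odd_one, Or.inl hodd, by omega⟩
  · obtain ⟨j, hj, hjr⟩ := exists_odd_index hF hrp hdn.symm (index_dvd hF D hD hDs hdn hΩ)
    have hodd : Odd r := hrpr.odd_of_ne_two fun e => by
      subst e
      apply hr1
      rw [← even_iff_two_dvd, Nat.even_add_one, Nat.not_even_iff_odd] at hjr ⊢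
      exact (Nat.odd_pow_iff (by omega)).1 hjr
    have h1 : (-(q : ZMod r)) ^ (2 * j + 1) = 1 := by
      rw [(odd_two_mul_add_one j).neg_pow, neg_eq_iff_add_eq_zero]
      have h2 := (ZMod.natCast_eq_zero_iff (q ^ (2 * j + 1) + 1) r).2 hjr
      push_cast at h2
      exact h2
    have he := orderOf_dvd_of_pow_eq_one h1
    have heo : Odd (orderOf (-(q : ZMod r))) := (odd_two_mul_add_one j).of_dvd_nat he
    have hen : orderOf (-(q : ZMod r)) < n := by
      have := Nat.le_of_dvd (by omega) he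
      omega
    obtain ⟨x, hx, hxr, hk⟩ := exists_element_fixed hF hrp hr1 heo hen.le rfl
    refine ⟨x, hx, ⟨1, by rw [one_smul, Units.val_pow_eq_pow_val, hxr]⟩, 1, one_pow _, ?_⟩
    rw [hk]
    exact ⟨Nat.Even.sub_odd hen.le ⟨m, by omega⟩ heo, Or.inl hodd, by have := heo.pos; omega⟩

/-- The elusive case. -/
theorem fixes_point (hdn : 2 * m = n) (hqo : Odd q) (h2 : (2 : F) ≠ 0)
    (hv : padicValNat 2 (q + 1) ≤ padicValNat 2 n) {x : GL (Fin n) F}
    (hx : x ∈ Cfsg.GU n F q ⊓ Cfsg.Geo.specialLinear (Fin n) F)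
    {z : F} (hz : ((x ^ 2 : GL (Fin n) F) : Matrix (Fin n) (Fin n) F) = z • (1 : Matrix (Fin n) (Fin n) F)) :
    ∃ g ∈ Cfsg.GU n F q ⊓ Cfsg.Geo.specialLinear (Fin n) F, g⁻¹ * x * g ∈ Cfsg.Geo.decompositionStabilizer D := by
  classical
  obtain ⟨hsup, hinf⟩ := pair_facts hF D hD hDs
  have hq2 := Forms.two_le_of_card_sq hF
  have hn0 : n ≠ 0 := by have := hD.pos; omega
  haveI : Nonempty (Fin n) := ⟨⟨0, Nat.pos_of_ne_zero hn0⟩⟩
  have hz' : (x : Matrix (Fin n) (Fin n) F) * (x : Matrix (Fin n) (Fin n) F) = z • 1 := by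
    rw [← hz, sq, Units.val_mul]
  -- `z` has norm one
  have hzn : z ^ (q + 1) = 1 := by
    obtain ⟨u, hu⟩ := exists_h_ne hF (u := (Pi.single ⟨0, Nat.pos_of_ne_zero hn0⟩ 1 : Fin n → F)) (by simp)
    obtain ⟨w, hw⟩ : ∃ w, Cfsg.hermForm n F q (Pi.single ⟨0, Nat.pos_of_ne_zero hn0⟩ 1) w ≠ 0 := ⟨u, hu⟩
    have h1 := (mul_mem hx.1 hx.1 : x * x ∈ Cfsg.GU n F q) (Pi.single ⟨0, Nat.pos_of_ne_zero hn0⟩ 1) w
    simp only [Units.coeHom_apply, Units.val_mul, hz', Matrix.smul_mulVec, Matrix.one_mulVec, herm_smul_left hF,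
      herm_smul_right hF] at h1
    rw [← mul_assoc, ← pow_succ'] at h1
    exact mul_right_cancel₀ hw (h1.trans (one_mul _).symm)
  obtain ⟨c, hc⟩ : ∃ c : F, c * c = z := by
    obtain ⟨k, hk⟩ : 2 * (q + 1) ∣ Fintype.card F - 1 := by
      obtain ⟨l, rfl⟩ := hqo
      exact ⟨l, by rw [hF]; exact Nat.sub_eq_of_eq_add (by ring)⟩
    have hsq : IsSquare z := by
      rw [FiniteField.isSquare_iff (fun e => h2 (by
        have h5 := CharP.cast_eq_zero F (ringChar F)
        rw [e] at h5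
        exact_mod_cast h5)) (by rintro rfl; simp at hzn)]
      have : Fintype.card F / 2 = (q + 1) * k := by
        rw [mul_assoc] at hk
        have := Fintype.card_pos (α := F); omega
      rw [this, pow_mul, hzn, one_pow]
    obtain ⟨c, hc⟩ := hsq
    exact ⟨c, hc.symm⟩
  have hc0 : c ≠ 0 := by rintro rfl; simp [← hc] at hzn
  have hcc : c + c ≠ 0 := by rw [← two_mul]; exact mul_ne_zero h2 hc0
  obtain ⟨a, b, hab, hmod⟩ := LinClasses.exists_isModel_split hcc (x := (x : Matrix (Fin n) (Fin n) F)) (by rw [hz', hc])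
  rw [Fintype.card_fin] at hab
  have hdet : c ^ a * (-c) ^ b = 1 := by
    have h1 := hmod.det_eq
    rw [(mem_special_iff hF).1 hx.2, Matrix.det_diagonal, Fintype.prod_sum_type] at h1
    simpa using h1.symm
  have hc2 : c ^ (q + 1) = 1 ∨ c ^ (q + 1) = -1 := sq_eq_one_iff.1 (by
    rw [← pow_mul, mul_comm, pow_mul, sq, hc, hzn])
  obtain ⟨Ψ, Φ, -, hΨU, hΨA, hΨB, -, hΨact⟩ :=
    exists_pairHom hF (D 0) (D 1) (hDs 0) (hDs 1) hsup hinf (hD.finrank_eq 0) hdn
  obtain ⟨hxU, -⟩ := hx
  suffices H : ∃ (α : GL (Fin m) F), LinClasses.IsModel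
      (fromBlocks (α : Matrix (Fin m) (Fin m) F) 0 0
        (((α⁻¹ : GL (Fin m) F) : Matrix (Fin m) (Fin m) F).map (qPowHom hF))ᵀ)
      (Matrix.diagonal (Sum.elim (fun _ : Fin a => c) (fun _ : Fin b => -c))) by
    obtain ⟨α, hα⟩ := H
    have hy : LinClasses.IsModel (Ψ α : Matrix (Fin n) (Fin n) F)
        (Matrix.diagonal (Sum.elim (fun _ : Fin a => c) (fun _ : Fin b => -c))) :=
      LinClasses.IsModel.trans ⟨Φ, hΨact α⟩ hα
    refine exists_special_conj hF D hD hDs hdn hxU (hΨU α) ⟨1, fun i => Submodule.eq_of_le_of_finrank_eq ?_ ?_⟩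
      (isConj_of_models hmod hy)
    · rintro _ ⟨v, hv, rfl⟩
      rw [Matrix.toLin'_apply, Equiv.Perm.one_apply]
      fin_cases i
      · exact hΨA α v hv
      · exact hΨB α v hv
    · rw [← (Submodule.equivMapOfInjective _ (fun v w e => ?_) (D i)).finrank_eq, Equiv.Perm.one_apply]
      simpa [Matrix.toLin'_apply, inv_mulVec_mulVec] using congrArg (((Ψ α)⁻¹ : GL (Fin n) F).1 *ᵥ ·) e
  -- a diagonal element of `GL_m` with the right eigenvalues
  have hdiag : ∀ (χ : Fin m → F) (χ' : Fin m → F), (∀ i, χ i ≠ 0) → (∀ i, (χ i)⁻¹ ^ q = χ' i) →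
      ∀ e : Fin a ⊕ Fin b ≃ Fin m ⊕ Fin m, (∀ s, Sum.elim χ χ' (e s) = Sum.elim (fun _ => c) (fun _ => -c) s) →
      ∃ (α : GL (Fin m) F), LinClasses.IsModel
        (fromBlocks (α : Matrix (Fin m) (Fin m) F) 0 0
          (((α⁻¹ : GL (Fin m) F) : Matrix (Fin m) (Fin m) F).map (qPowHom hF))ᵀ)
        (Matrix.diagonal (Sum.elim (fun _ : Fin a => c) (fun _ : Fin b => -c))) := by
    intro χ χ' hχ hχ' e he
    let α : GL (Fin m) F := ⟨Matrix.diagonal χ, Matrix.diagonal fun i => (χ i)⁻¹,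
      by rw [diagonal_mul_diagonal, ← diagonal_one]; exact congrArg _ (funext fun i => mul_inv_cancel₀ (hχ i)),
      by rw [diagonal_mul_diagonal, ← diagonal_one]; exact congrArg _ (funext fun i => inv_mul_cancel₀ (hχ i))⟩
    refine ⟨α, ?_⟩
    have hblk : fromBlocks (α : Matrix (Fin m) (Fin m) F) 0 0
        (((α⁻¹ : GL (Fin m) F) : Matrix (Fin m) (Fin m) F).map (qPowHom hF))ᵀ = Matrix.diagonal (Sum.elim χ χ') := by
      show fromBlocks (Matrix.diagonal χ) 0 0 ((Matrix.diagonal fun i => (χ i)⁻¹).map (qPowHom hF))ᵀ = _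
      rw [diagonal_map (map_zero _), diagonal_transpose, fromBlocks_diagonal]
      exact congrArg _ (congrArg (Sum.elim χ) (funext fun i => by rw [qPowHom_apply]; exact hχ' i))
    rw [hblk]
    have h1 := (LinClasses.IsModel.refl (Matrix.diagonal (Sum.elim χ χ'))).reindex e
    rw [Matrix.reindex_apply, Equiv.symm_symm, submatrix_diagonal_equiv,
      show Sum.elim χ χ' ∘ e = Sum.elim (fun _ => c) (fun _ => -c) from funext he] at h1
    exact h1
  rcases hc2 with hc1 | hc1
  · -- two non-degenerate eigenspaces of even dimension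
    have hb : Even b := by
      by_contra hb
      rw [Nat.not_even_iff_odd] at hb
      rw [hb.neg_pow, mul_neg, ← pow_add, hab, neg_eq_iff_eq_neg] at hdet
      obtain ⟨t, ht, htd⟩ := two_adic_split (by omega) hn0 hv
      obtain ⟨k, hk⟩ := htd
      have h3 : c ^ (n * t) = 1 := by rw [hk, pow_mul, hc1, one_pow]
      rw [pow_mul, hdet, ht.neg_one_pow] at h3
      exact h2 (by linear_combination -h3)
    obtain ⟨b', rfl⟩ := hb
    obtain ⟨a', rfl⟩ : Even a := ⟨m - b', by omega⟩
    let f : Fin a' ⊕ Fin b' ≃ Fin m := finSumFinEquiv.trans (finCongr (by omega))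
    let χ : Fin m → F := fun i => Sum.elim (fun _ => c) (fun _ => -c) (f.symm i)
    let e : Fin (a' + a') ⊕ Fin (b' + b') ≃ Fin m ⊕ Fin m :=
      (Equiv.sumCongr finSumFinEquiv.symm finSumFinEquiv.symm).trans
        ((Equiv.sumSumSumComm _ _ _ _).trans (Equiv.sumCongr f f))
    refine hdiag χ χ (fun i => ?_) (fun i => ?_) e (fun s => ?_)
    · show Sum.elim (fun _ => c) (fun _ => -c) (f.symm i) ≠ 0
      rcases f.symm i with s | s <;> simp [hc0]
    · show (Sum.elim (fun _ => c) (fun _ => -c) (f.symm i))⁻¹ ^ q = Sum.elim (fun _ => c) (fun _ => -c) (f.symm i)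
      rcases f.symm i with s | s
      · simp [norm_one_pow hF hc1, inv_pow]
      · simp [norm_one_pow hF hc1, inv_pow, hqo.neg_pow]
    · rcases s with s | s <;> obtain ⟨s, rfl⟩ := finSumFinEquiv.surjective s <;> rcases s with s | s <;>
        simp [e, χ, -finSumFinEquiv_apply_left, -finSumFinEquiv_apply_right]
  · -- two totally singular eigenspaces
    have hbound : ∀ (d : Fin a ⊕ Fin b → Prop) [DecidablePred d] (s : F),
        (∀ i, d i → Sum.elim (fun _ => c) (fun _ => -c) i = s) → s ^ (q + 1) = -1 →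
        2 * Fintype.card {i // d i} ≤ n := by
      intro d _ s hd hs
      obtain ⟨Θ, hΘ⟩ := hmod
      let w : {i // d i} → (Fin n → F) := fun i => Θ (Pi.single i.1 1)
      have hw : ∀ i, (x : Matrix (Fin n) (Fin n) F) *ᵥ w i = s • w i := fun i => by
        rw [hΘ, ← map_smul]
        refine congrArg Θ ?_
        rw [Matrix.diagonal_mulVec_single, hd i i.2, mul_one, ← Pi.single_smul, smul_eq_mul, mul_one]
      have hsing : ∀ i j, Cfsg.hermForm n F q (w i) (w j) = 0 := fun i j => by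
        have h1 := hxU (w i) (w j)
        simp only [Units.coeHom_apply, hw, herm_smul_left hF, herm_smul_right hF] at h1
        rw [← mul_assoc, ← pow_succ', hs] at h1
        have h3 : (2 : F) * Cfsg.hermForm n F q (w i) (w j) = 0 := by linear_combination -h1
        exact (mul_eq_zero.1 h3).resolve_left h2
      have hli : LinearIndependent F w :=
        ((Pi.linearIndependent_single_one (Fin a ⊕ Fin b) F).comp _ Subtype.val_injective).map'
          (Θ : (Fin a ⊕ Fin b → F) →ₗ[F] (Fin n → F)) Θ.ker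
      rw [← finrank_span_eq_card hli]
      refine two_mul_finrank_le hF _ fun u hu v hv' => ?_
      rw [← hermSesq_apply hF]
      refine Submodule.span_induction ?_ (by rw [map_zero]) (fun _ _ _ _ h3 h4 => by rw [map_add, h3, h4, add_zero])
        (fun _ _ _ h3 => by rw [map_smul, h3, smul_zero]) hu
      rintro _ ⟨i, rfl⟩
      refine Submodule.span_induction ?_ (by rw [map_zero, LinearMap.zero_apply])
        (fun _ _ _ _ h3 h4 => by rw [map_add, LinearMap.add_apply, h3, h4, add_zero])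
        (fun _ _ _ h3 => by rw [LinearMap.map_smulₛₗ, LinearMap.smul_apply, h3, smul_zero]) hv'
      rintro _ ⟨k, rfl⟩
      rw [hermSesq_apply]; exact hsing i k
    have ha : 2 * a ≤ n := by
      have h4 := hbound (fun i => i.isLeft = true) c (fun i hi => by rcases i with i | i <;> simp_all) hc1
      have h5 : Fintype.card (Fin a) ≤ Fintype.card {i : Fin a ⊕ Fin b // i.isLeft = true} :=
        Fintype.card_le_of_injective (fun i => ⟨.inl i, rfl⟩) fun i j e => Sum.inl_injective (congrArg Subtype.val e)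
      rw [Fintype.card_fin] at h5
      omega
    have hb : 2 * b ≤ n := by
      have h4 := hbound (fun i => i.isRight = true) (-c) (fun i hi => by rcases i with i | i <;> simp_all)
        (by rw [Even.neg_pow hqo.add_one, hc1])
      have h5 : Fintype.card (Fin b) ≤ Fintype.card {i : Fin a ⊕ Fin b // i.isRight = true} :=
        Fintype.card_le_of_injective (fun i => ⟨.inr i, rfl⟩) fun i j e => Sum.inr_injective (congrArg Subtype.val e)
      rw [Fintype.card_fin] at h5
      omega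
    obtain rfl : a = m := by omega
    obtain rfl : b = a := by omega
    have hcq : c⁻¹ ^ q = -c := by
      rw [inv_pow]
      refine inv_eq_of_mul_eq_one_right ?_
      rw [mul_neg, ← pow_succ, hc1, neg_neg]
    exact hdiag (fun _ => c) (fun _ => -c) (fun _ => hc0) (fun _ => hcq) (Equiv.refl _) (fun s => rfl)

omit hD hDs in
theorem two_ne_zero_of_odd (hqo : Odd q) : (2 : F) ≠ 0 := fun e => by
  haveI : CharP F 2 := CharTwo.of_one_ne_zero_of_two_eq_zero one_ne_zero e
  obtain ⟨k, -, hk⟩ := FiniteField.card F 2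
  rw [hF] at hk
  have h1 : Odd (q ^ 2) := hqo.pow
  rw [hk, Nat.odd_pow_iff k.ne_zero] at h1
  exact absurd h1 (by decide)

end


/-- Elements of prime order of PSU_n(q) and the stabilizers of pairs of complementary totally singular subspaces. Here `T = PSU_n(q)` is realised through `SU_n(q)`, the matrices of determinant 1 over the field `F` with `q²` elements preserving the hermitian form `Σ uᵢ vᵢ^q`, with `n ≥ 4` even; `D` is a pair of complementary subspaces of dimension `n/2` on each of which the form vanishes identically, and `H` is the subgroup of `SU_n(q)` fixing or interchanging the two members — a subgroup of type GL_{n/2}(q²).2 (maximality is not assumed). Ω is the set of cosets of `H`, so an element of `T` of prime order `r` (`x ∈ SU_n(q)` with `x^r` scalar, `x` not scalar) fixes a point of Ω exactly when some `SU_n(q)`-conjugate of `x` lies in `H`. Let `r` be a prime dividing the index of `H`. Then every element of `T` of order `r` fixes a point of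 Ω if and only if `r = 2`, `q` is odd and `(q + 1)_2 ≤ (n)_2` (2-parts). -/
theorem result {F : Type*} [Field F] [Fintype F] {p : ℕ} [Fact p.Prime] [CharP F p] {q : ℕ} (hq : Fintype.card F = q ^ 2)
    (n : ℕ) (hn : 4 ≤ n) (he : Even n) (D : Fin 2 → Submodule F (Fin n → F)) (hD : Cfsg.Geo.IsMDecomposition (n / 2) D)
    (hDs : ∀ i, Cfsg.Geo.IsTotallySingularFor (Cfsg.hermForm n F q) (D i))
    (r : ℕ) [Fact r.Prime]
    (hΩ : r ∣ (Cfsg.Geo.decompositionStabilizer D).relIndex (Cfsg.GU n F q ⊓ Cfsg.Geo.specialLinear (Fin n) F)) :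
    (∀ x ∈ Cfsg.GU n F q ⊓ Cfsg.Geo.specialLinear (Fin n) F, (∃ z : F, ((x ^ r : GL (Fin n) F) : Matrix (Fin n) (Fin n) F) = z • (1 : Matrix (Fin n) (Fin n) F)) →
      (∀ z : F, (x : Matrix (Fin n) (Fin n) F) ≠ z • (1 : Matrix (Fin n) (Fin n) F)) →
      ∃ g ∈ Cfsg.GU n F q ⊓ Cfsg.Geo.specialLinear (Fin n) F, g⁻¹ * x * g ∈ Cfsg.Geo.decompositionStabilizer D) ↔
    (r = 2 ∧ Odd q ∧ padicValNat 2 (q + 1) ≤ padicValNat 2 n) := by
  obtain ⟨m, rfl⟩ := he
  rw [show (m + m) / 2 = m by omega] at hD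
  have hdn : 2 * m = m + m := two_mul m
  constructor
  · intro hall
    by_contra hnot
    obtain ⟨x, hx, hxr, c, hc, hodd, hbig, hlt⟩ := exists_derangement hq D hD hDs hdn (by omega) (p := p) hΩ hnot
    obtain ⟨g, hg, hgx⟩ := hall x hx hxr (not_scalar_of_eigDim hq (fun e => by rw [e] at hodd; simp at hodd) hlt.ne)
    obtain ⟨z, hz⟩ := hxr
    have hy : eigDim ((g⁻¹ * x * g : GL (Fin (m + m)) F) : Matrix (Fin (m + m)) (Fin (m + m)) F) c =
        eigDim (x : Matrix (Fin (m + m)) (Fin (m + m)) F) c :=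
      eigDim_isConj (isConj_iff.2 ⟨g, by group⟩) c
    rcases stab_cases hq D hD hDs hdn (mul_mem (mul_mem (inv_mem hg.1) hx.1) hg.1) hgx r ⟨z, by
      have h1 : (g⁻¹ * x * g) ^ r = g⁻¹ * x ^ r * g := by
        simpa using (conj_pow (a := g⁻¹) (b := x) (i := r))
      rw [h1, Units.val_mul, Units.val_mul, hz, Matrix.mul_smul, mul_one, Matrix.smul_mul, Units.inv_mul]⟩ hc
      with he' | ⟨hr', hle⟩
    · rw [hy] at he'
      exact Nat.not_even_iff_odd.2 hodd he'
    · rw [hy] at hle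
      rcases hbig with h1 | h1
      · exact hr' h1
      · omega
  · rintro ⟨rfl, hqo, hv⟩ x hx ⟨z, hz⟩ -
    exact fixes_point hq D hD hDs hdn hqo (two_ne_zero_of_odd hq hqo) hv hx hz

end Cfsg.Agent.S5984
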