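import Cfsg.Statements.S5985
import Mathlib
import Cfsg.Agent.Lib.CharTwoQuad.Points
import Cfsg.Agent.Lib.CharTwoQuad.Shear
import Cfsg.Agent.Lib.Dickson.StdQuad

set_option autoImplicit false
open scoped MatrixGroups
open Cfsg
open Cfsg.Agent.Lib
open Matrix

namespace Cfsg.Agent.S5985


/-- Elements of prime order of Ω⁺_n(q), q even, with no fixed nonsingular 1-space. Here `T = PΩ⁺_n(F)`, `n = 2d ≥ 8`, realised through `Ω⁺_n(q)`, the commutator subgroup of the isometry group of `Q = Σ xᵢyᵢ` over the field `F` with `q` elements; an element of `T` of prime order `r` is an element `x` of `Ω⁺_n(q)` with `x^r` scalar and `x` not scalar; `q` is even (so the centre is trivial). Let Ω be the set of 1-dimensional subspaces spanned by a vector `v` with `Q(v) ≠ 0`, and let `r` be a prime dividing their number. Then every element of `T` of order `r` fixes some nonsingular 1-space if and only if `r = 2` and `n ≡ 2 (mod 4)` (that is, `d`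 is odd). -/
theorem result {F : Type*} [Field F] [Fintype F] {p : ℕ} [Fact p.Prime] [CharP F p] {q : ℕ} (hq : Fintype.card F = q)
    (hp : p = 2) (d : ℕ) (hd : 4 ≤ d) (r : ℕ) [Fact r.Prime]
    (hrΩ : r ∣ Nat.card {W : Submodule F (Fin d ⊕ Fin d → F) // Module.finrank F ↥W = 1 ∧ ∃ v ∈ W, Cfsg.quadFormPlus d F v ≠ 0}) :
    (∀ x : GL (Fin d ⊕ Fin d) F, x ∈ Cfsg.Geo.omegaGL (Cfsg.quadFormPlus d F) →
      (∃ z : F, ((x ^ r : GL (Fin d ⊕ Fin d) F) : Matrix (Fin d ⊕ Fin d) (Fin d ⊕ Fin d) F) = z • (1 : Matrix (Fin d ⊕ Fin d) (Fin d ⊕ Fin d) F)) →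
      (∀ z : F, (x : Matrix (Fin d ⊕ Fin d) (Fin d ⊕ Fin d) F) ≠ z • (1 : Matrix (Fin d ⊕ Fin d) (Fin d ⊕ Fin d) F)) →
      ∃ W : Submodule F (Fin d ⊕ Fin d → F), (Module.finrank F ↥W = 1 ∧ ∃ v ∈ W, Cfsg.quadFormPlus d F v ≠ 0) ∧ W.map (Matrix.toLin' (x : Matrix (Fin d ⊕ Fin d) (Fin d ⊕ Fin d) F)) ≤ W) ↔ (r = 2 ∧ Odd d) := by
  subst hp
  haveI : CharP F 2 := ‹CharP F _›
  have hcoe : ⇑(StdForms.plusQ F d) = Cfsg.quadFormPlus d F := StdForms.coe_plusQ _ _
  have hQ := StdForms.plusQ_nondegenerate (F := F) d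
  have hι : Fintype.card (Fin d ⊕ Fin d) = d + d := by simp
  constructor
  · intro h
    have hr : r = 2 := by
      by_contra hr
      rw [← hcoe] at hrΩ h
      obtain ⟨x, hxO, hxr, hxz, hxW⟩ := CharTwoQuad.exists_derangement_odd hQ (by omega) hι hr hrΩ
      obtain ⟨W, hW, hmap⟩ := h x hxO ⟨1, by rw [hxr, one_smul]; rfl⟩ hxz
      exact hxW W hW hmap
    subst hr
    refine ⟨rfl, ?_⟩
    by_contra hodd
    obtain ⟨e, he⟩ := Nat.not_odd_iff_even.1 hodd
    obtain ⟨S, hS, hS2, hmem⟩ := CharTwoQuad.exists_shear_omega (F := F) he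
    let i : Fin d := ⟨0, by omega⟩
    obtain ⟨W, ⟨hW1, v, hvW, hv⟩, hmap⟩ := h (CharTwoQuad.shear S) (hmem (by omega))
      ⟨1, by rw [CharTwoQuad.shear_sq, one_smul]; rfl⟩ fun z hz => by
        have h1 := congrFun (hS2 (Pi.single i 1)) i
        have hS0 : S = 0 := by
          ext a b
          simpa [CharTwoQuad.coe_shear] using congrFun (congrFun hz (Sum.inl a)) (Sum.inr b)
        simp [hS0] at h1
    have hv0 : v ≠ 0 := fun e => hv (by simp [e, Cfsg.quadFormPlus])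
    have hmem' : (CharTwoQuad.shear S : Matrix (Fin d ⊕ Fin d) (Fin d ⊕ Fin d) F) *ᵥ v ∈ W := by
      rw [← Matrix.toLin'_apply]
      exact hmap ⟨v, hvW, rfl⟩
    obtain ⟨c, hc⟩ := (finrank_eq_one_iff_of_nonzero' (⟨v, hvW⟩ : W) (fun e => hv0 (congrArg Subtype.val e))).1 hW1 ⟨_, hmem'⟩
    have hc' : c • v = Sum.elim (v ∘ Sum.inl + S *ᵥ (v ∘ Sum.inr)) (v ∘ Sum.inr) :=
      (congrArg Subtype.val hc).trans (CharTwoQuad.shear_mulVec S v)
    have hy : v ∘ Sum.inr = 0 := by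
      by_contra hy
      obtain ⟨l, hl⟩ := Function.ne_iff.1 hy
      have hc1 : c = 1 := (mul_eq_right₀ hl).1 (congrFun hc' (Sum.inr l))
      rw [hc1, one_smul] at hc'
      have h0 : S *ᵥ (v ∘ Sum.inr) = 0 := by
        funext a
        simpa using (congrFun hc' (Sum.inl a)).symm
      exact hy (by rw [← hS2 (v ∘ Sum.inr), h0, Matrix.mulVec_zero])
    exact hv (Finset.sum_eq_zero fun a _ => by rw [show v (Sum.inr a) = 0 from congrFun hy a, mul_zero])
  · rintro ⟨rfl, hodd⟩ x hx ⟨z, hz⟩ -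
    rw [← hcoe] at hrΩ hx ⊢
    exact CharTwoQuad.involution_fixes_point hQ hι (Or.inr hodd) hx hz

end Cfsg.Agent.S5985
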