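import Cfsg.Statements.S5987
import Cfsg.Agent.Lib.OrthPrime.TwoCases
-- import your own Cfsg.Agent.* helpers here

set_option autoImplicit false
open scoped MatrixGroups
open Cfsg
open Cfsg.Agent.Lib

namespace Cfsg.Agent.S5987

/-- Elements of prime order of PΩ⁻_n(q) with no fixed totally singular `m`-space. Here `T = PΩ⁻_n(F)`, `n = 2d ≥ 8`, realised through `Ω⁻_n(q)`, the commutator subgroup of the isometry group of `Q = Σ_{i<d−1} xᵢyᵢ + z₁² + a z₁z₂ + b z₂²` with `z₁² + a z₁z₂ + b z₂²` anisotropic, over the field `F` with `q` elements; an element of `T` of prime order `r` is an element `x` of `Ω⁻_n(q)` with `x^r` scalar and `x` not scalar. Let `1 ≤ m ≤ d − 1` and let `r` be a prime dividing the number of totally singular `m`-spaces (subspaces of dimension `m` on which `Q` vanishes); for `r ≠ p` let `i` be the multiplicative order of `q` modulo `r`, `c = i` for `i` even and `c = 2i` for `i` odd,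 and write `k = n mod c`, `ℓ = m mod i`, `n' = ⌊n/i⌋`, `m' = ⌊m/i⌋`, `t = (r−1)/i`. Then every element of `T` of order `r` fixes some totally singular `m`-space if and only if one of: (i) `r = 2 ≠ p` and (`n ≡ 0 (mod 4)`, or `m` is even, or `q ≢ 7 (mod 8)`); (ii) `r ≠ p` odd, `i` odd, `i ≤ m` and (`k = 0` or `k > 2ℓ`); (iii) `r ≠ p` odd, `i` even, `i ≤ m`, `n' − 2m' ≥ t`, and one of: (a) `i ≥ 2ℓ`, `k = 0`, `n/i` even and `n' − 2m' > t` (all four); (b) `k ≥ 2ℓ` and `n'` odd; (c) `k > 2ℓ` and `n'` even. -/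
theorem result {F : Type*} [Field F] [Fintype F] {p : ℕ} [Fact p.Prime] [CharP F p] {q : ℕ} (hq : Fintype.card F = q)
    (d m : ℕ) (hd : 4 ≤ d) (hm : 1 ≤ m) (hmd : m + 1 ≤ d) (a b : F) (hab : ∀ x y : F, x ^ 2 + a * x * y + b * y ^ 2 = 0 → x = 0 ∧ y = 0)
    (r : ℕ) [Fact r.Prime]
    (hrΩ : r ∣ Nat.card {W : Submodule F ((Fin (d - 1) ⊕ Fin (d - 1)) ⊕ Fin 2 → F) // Module.finrank F ↥W = m ∧ Cfsg.Geo.IsTotallySingularQuad (Cfsg.quadFormMinus (d - 1) F a b) W})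
    (i c : ℕ) (hi : i = orderOf (q : ZMod r)) (hc : c = if Even i then i else 2 * i) :
    (∀ x : GL ((Fin (d - 1) ⊕ Fin (d - 1)) ⊕ Fin 2) F, x ∈ Cfsg.Geo.omegaGL (Cfsg.quadFormMinus (d - 1) F a b) →
      (∃ z : F, ((x ^ r : GL ((Fin (d - 1) ⊕ Fin (d - 1)) ⊕ Fin 2) F) : Matrix ((Fin (d - 1) ⊕ Fin (d - 1)) ⊕ Fin 2) ((Fin (d - 1) ⊕ Fin (d - 1)) ⊕ Fin 2) F) = z • (1 : Matrix ((Fin (d - 1) ⊕ Fin (d - 1)) ⊕ Fin 2) ((Fin (d - 1) ⊕ Fin (d - 1)) ⊕ Fin 2) F)) →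
      (∀ z : F, (x : Matrix ((Fin (d - 1) ⊕ Fin (d - 1)) ⊕ Fin 2) ((Fin (d - 1) ⊕ Fin (d - 1)) ⊕ Fin 2) F) ≠ z • (1 : Matrix ((Fin (d - 1) ⊕ Fin (d - 1)) ⊕ Fin 2) ((Fin (d - 1) ⊕ Fin (d - 1)) ⊕ Fin 2) F)) →
      ∃ W : Submodule F ((Fin (d - 1) ⊕ Fin (d - 1)) ⊕ Fin 2 → F), (Module.finrank F ↥W = m ∧ Cfsg.Geo.IsTotallySingularQuad (Cfsg.quadFormMinus (d - 1) F a b) W) ∧ W.map (Matrix.toLin' (x : Matrix ((Fin (d - 1) ⊕ Fin (d - 1)) ⊕ Fin 2) ((Fin (d - 1) ⊕ Fin (d - 1)) ⊕ Fin 2) F)) ≤ W) ↔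
    ((r = 2 ∧ p ≠ 2 ∧ (Even d ∨ Even m ∨ q % 8 ≠ 7)) ∨
     (r ≠ p ∧ 2 < r ∧ Odd i ∧ i ≤ m ∧ ((2 * d) % c = 0 ∨ 2 * (m % i) < (2 * d) % c)) ∨
     (r ≠ p ∧ 2 < r ∧ Even i ∧ i ≤ m ∧ (r - 1) / i + 2 * (m / i) ≤ (2 * d) / i ∧
       ((2 * (m % i) ≤ i ∧ (2 * d) % c = 0 ∧ Even ((2 * d) / i) ∧ (r - 1) / i + 2 * (m / i) < (2 * d) / i) ∨
        (2 * (m % i) ≤ (2 * d) % c ∧ Odd ((2 * d) / i)) ∨
        (2 * (m % i) < (2 * d) % c ∧ Even ((2 * d) / i))))) := by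
  have hcard : Fintype.card ((Fin (d - 1) ⊕ Fin (d - 1)) ⊕ Fin 2) = 2 * d := by simp; omega
  have hQ := StdForms.minusQ_nondegenerate hab (d - 1)
  have hε := OrthPrime.qsgn_minusQ hab (d - 1)
  have hfin : Module.finrank F ((Fin (d - 1) ⊕ Fin (d - 1)) ⊕ Fin 2 → F) = 2 * d := by
    rw [OrthPrime.finrank_fun_eq, hcard]
  have h2 : Odd (Module.finrank F ((Fin (d - 1) ⊕ Fin (d - 1)) ⊕ Fin 2 → F)) → (2 : F) ≠ 0 :=
    fun h => absurd h (by rw [hfin]; exact Nat.not_odd_iff_even.2 (even_two_mul d))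
  have hw : m ≤ OrthPrime.wIdx (StdForms.minusQ F (d - 1) a b) := by
    rw [(OrthPrime.wIdx_of_qsgn _ hfin).2.2 hε]; omega
  rw [← StdForms.coe_minusQ (F := F) (d - 1) a b] at hrΩ ⊢
  rcases eq_or_ne r p with rfl | hrp
  · exact absurd hrΩ (OrthPrime.not_dvd_card_ts hQ h2 hw (by omega))
  rcases eq_or_ne r 2 with rfl | hr2
  · have hp2 : p ≠ 2 := Ne.symm hrp
    have hodd := OrthPrime.odd_of_char_ne_two (F := F) hq hp2
    have h2' := OrthPrime.two_ne_zero_of_odd (F := F) hq hodd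
    have h8 := OrthPrime.isSquare_two_iff' (F := F) hq hodd
    have hneg : ∀ k, IsSquare ((-1 : F) ^ k) ↔ _ := OrthPrime.isSquare_neg_pow_iff (F := F) hq hodd
    constructor
    · intro h
      refine Or.inl ⟨rfl, hp2, ?_⟩
      by_contra hc
      simp only [not_or, Nat.not_even_iff, not_not, Ne] at hc
      obtain ⟨x, hx, hxx⟩ := OrthPrime.exists_sqrt_neg h2' hQ (by omega) hcard
        (iff_of_false (by rw [hε]; decide) (by rw [hneg]; omega)) (Or.inr (h8.2 (by omega)))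
      obtain ⟨W, hW, hWi⟩ := h x hx ⟨-1, (OrthPrime.eq_smul_one_iff _ _).2 fun v => by
          rw [map_pow, pow_two, LinearEquiv.mul_apply, hxx, neg_one_smul]⟩
        (fun z hz => by
          obtain ⟨v, hv⟩ := OrthPrime.exists_anisotropic hQ (by omega)
          have h1 := hxx v
          rw [(OrthPrime.eq_smul_one_iff x z).1 hz, (OrthPrime.eq_smul_one_iff x z).1 hz, smul_smul] at h1
          have h3 : z * z = -1 := by
            have hv0 : v ≠ 0 := fun e => hv (by rw [e, QuadraticMap.map_zero])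
            rw [← neg_one_smul F v] at h1
            exact smul_left_injective F hv0 h1
          exact ((hneg 1).not.2 (by omega)) ⟨z, by rw [pow_one, h3]⟩)
      have := OrthPrime.isSquare_neg_one_pow_of_inv hxx ((OrthPrime.map_le_iff_inv x W).1 hWi)
      rw [hW.1, hneg] at this
      omega
    · rintro (⟨-, -, hR⟩ | h | h)
      rotate_left
      · exact absurd h.2.1 (lt_irrefl 2)
      · exact absurd h.2.1 (lt_irrefl 2)
      intro x hx ⟨z, hz⟩ _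
      have hiso := OrthPrime.isometry_of_mem hx
      rcases OrthPrime.two_cases hQ (by omega) hx hz with he | he
      · obtain ⟨b', hb, -⟩ := OrthPrime.movS_facts h2' hQ (by omega) hx he
        have hsum := Submodule.finrank_add_eq_of_isCompl
          (OrthPrime.isCompl_fixS_movS he (r := 2) (by simpa using h2'))
        rw [hb, hfin] at hsum
        have ha : Module.finrank F (OrthPrime.fixS (Forms.glEquiv _ F x)) = 2 * (d - b') := by omega
        have hs := OrthPrime.qsgn_fix_mov hQ h2' hiso he ha hb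
        rw [hε] at hs
        obtain ⟨W, hW, hWi⟩ := OrthPrime.involution_fixes_ts hQ h2' hiso he (m := m) (by
          obtain ⟨hA1, hA2, hA3⟩ := OrthPrime.wIdx_of_qsgn (OrthPrime.rQ (StdForms.minusQ F (d - 1) a b) _) ha
          obtain ⟨hB1, hB2, hB3⟩ := OrthPrime.wIdx_of_qsgn (OrthPrime.rQ (StdForms.minusQ F (d - 1) a b) _) hb
          rcases OrthPrime.qsgn_cases (OrthPrime.rQ (StdForms.minusQ F (d - 1) a b)
            (OrthPrime.fixS (Forms.glEquiv _ F x))) with h | h <;> rw [h] at hs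
          · rw [hA2 h, hB3 (by linarith)]; omega
          · rw [hA3 h, hB2 (by linarith)]; omega)
        exact ⟨W, hW, (OrthPrime.map_le_iff_inv x W).2 hWi⟩
      · obtain ⟨hs, h2d⟩ := OrthPrime.sqrt_neg_facts h2' hQ (by omega) hx he hcard
        rw [hε, hneg] at hs
        rw [h8, Nat.even_iff] at h2d
        simp only [Nat.even_iff] at hR
        have hns : ¬ (d % 2 = 0 ∨ q % 4 = 1) := fun h => absurd (hs.2 h) (by decide)
        obtain ⟨k, rfl⟩ : ∃ k, m = 2 * k := ⟨m / 2, by omega⟩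
        obtain ⟨W, hW, hWi⟩ := OrthPrime.ts_even h2' hQ hiso he (k := k) (by omega)
        exact ⟨W, hW, (OrthPrime.map_le_iff_inv x W).2 hWi⟩
  have hr0 : (r : F) ≠ 0 := OrthPrime.cast_ne_zero_of_ne hrp
  have h2r : 2 < r := lt_of_le_of_ne (Fact.out : r.Prime).two_le (Ne.symm hr2)
  have hipos : 0 < i := by rw [hi, ← hq]; exact OrthPrime.orderOf_pos' hr0
  have hN : 1 ≤ (r - 1) / i := by
    rw [hi, ← hq]
    exact Nat.div_pos (Nat.le_of_dvd (by omega) (OrthPrime.orderOf_dvd_pred hr0)) (OrthPrime.orderOf_pos' hr0)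
  have hgl := OrthPrime.gl_iff hQ (by omega) hr2 (OrthPrime.TSsub (StdForms.minusQ F (d - 1) a b) m)
  have hcrit := OrthPrime.ts_criterion hQ h2 hr0 hr2 hfin hε (show _ = i by rw [hi, ← hq]) hw hrΩ
  rw [show c = OrthPrime.Arith.cD i from hc]
  refine (hgl.trans hcrit).trans ⟨?_, ?_⟩
  · rintro ⟨him, hC⟩
    rcases (OrthPrime.Arith.ts_minus_form hipos him hmd hN).1 hC with ⟨h1, h3⟩ | ⟨h1, h3, h4⟩
    · exact Or.inr (Or.inl ⟨hrp, h2r, h1, him, h3⟩)
    · exact Or.inr (Or.inr ⟨hrp, h2r, h1, him, h3, h4⟩)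
  · rintro (⟨h, -⟩ | ⟨-, -, h1, him, h3⟩ | ⟨-, -, h1, him, h3, h4⟩)
    · exact absurd h hr2
    · exact ⟨him, (OrthPrime.Arith.ts_minus_form hipos him hmd hN).2 (Or.inl ⟨h1, h3⟩)⟩
    · exact ⟨him, (OrthPrime.Arith.ts_minus_form hipos him hmd hN).2 (Or.inr ⟨h1, h3, h4⟩)⟩

end Cfsg.Agent.S5987
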