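import Cfsg.Statements.S5988
import Cfsg.Agent.Lib.OrthPrime.TwoCases
import Cfsg.Agent.Lib.OrthPrime.ShearPlus
-- import your own Cfsg.Agent.* helpers here

set_option autoImplicit false
open scoped MatrixGroups
open Cfsg
open Cfsg.Agent.Lib

namespace Cfsg.Agent.S5988

/-- Elements of prime order of PΩ⁺_n(q) with no fixed elliptic `m`-space. Here `T = PΩ⁺_n(F)`, `n = 2d ≥ 8`, realised through `Ω⁺_n(q)`, the commutator subgroup of the isometry group of `Q = Σ xᵢyᵢ` over the field `F` with `q` elements; an element of `T` of prime order `r` is an element `x` of `Ω⁺_n(q)` with `x^r` scalar and `x` not scalar; a nondegenerate `m`-space (even `m`) is a subspace on which the polar form of `Q` is nondegenerate; it is hyperbolic if it contains an `m/2`-dimensional subspace on which `Q` vanishes, elliptic otherwise. Let `m` be even with `2 ≤ m < n/2` and let `r` be a prime dividing the number of elliptic `m`-spaces; for `r ≠ p` let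 `i` be the multiplicative order of `q` modulo `r`, `c = i` for `i` even and `c = 2i` for `i` odd, and write `k = n mod c`, `ℓ = m mod i`, `ℓ' = m mod c`, `n' = ⌊n/i⌋`, `m' = ⌊m/i⌋`, `t = (r−1)/i`. Then every element of `T` of order `r` fixes some elliptic `m`-space if and only if one of: (i) `r = 2 ≠ p` and either `n ≡ 0 (mod 4)`, `q ≡ 3 (mod 4)` and `m ≡ 2 (mod 4)`, or `n ≡ 2 (mod 4)` and `q ≢ 1 (mod 8)`; (ii) `r ≠ p` odd, `i` odd, `c ≤ m` and `k > ℓ' > 0`; (iii) `r ≠ p` odd, `i` even, and either `k = 0` and (`n/i` odd, or `ℓ' = 0` and `m/i` odd), or `i ≤ m` and (`k > ℓ' > 0`, or `k = ℓ' > 0` and `(n + m − 2k)/i` odd, or `k > ℓ' = 0` and `m/i` odd). (For `r = p` there is always an element of order `p` fixing no elliptic `m`-space.) -/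
theorem result {F : Type*} [Field F] [Fintype F] {p : ℕ} [Fact p.Prime] [CharP F p] {q : ℕ} (hq : Fintype.card F = q)
    (d m : ℕ) (hd : 4 ≤ d) (hm : 2 ≤ m) (hme : Even m) (hmd : m < d)
    (r : ℕ) [Fact r.Prime]
    (hrΩ : r ∣ Nat.card {W : Submodule F (Fin d ⊕ Fin d → F) // Module.finrank F ↥W = m ∧ Cfsg.Geo.IsNondegenerateOn (QuadraticMap.polar (Cfsg.quadFormPlus d F)) W ∧ ¬ Cfsg.Geo.IsPlusTypeOn (Cfsg.quadFormPlus d F) W})
    (i c : ℕ) (hi : i = orderOf (q : ZMod r)) (hc : c = if Even i then i else 2 * i) :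
    (∀ x : GL (Fin d ⊕ Fin d) F, x ∈ Cfsg.Geo.omegaGL (Cfsg.quadFormPlus d F) →
      (∃ z : F, ((x ^ r : GL (Fin d ⊕ Fin d) F) : Matrix (Fin d ⊕ Fin d) (Fin d ⊕ Fin d) F) = z • (1 : Matrix (Fin d ⊕ Fin d) (Fin d ⊕ Fin d) F)) →
      (∀ z : F, (x : Matrix (Fin d ⊕ Fin d) (Fin d ⊕ Fin d) F) ≠ z • (1 : Matrix (Fin d ⊕ Fin d) (Fin d ⊕ Fin d) F)) →
      ∃ W : Submodule F (Fin d ⊕ Fin d → F), (Module.finrank F ↥W = m ∧ Cfsg.Geo.IsNondegenerateOn (QuadraticMap.polar (Cfsg.quadFormPlus d F)) W ∧ ¬ Cfsg.Geo.IsPlusTypeOn (Cfsg.quadFormPlus d F) W) ∧ W.map (Matrix.toLin' (x : Matrix (Fin d ⊕ Fin d) (Fin d ⊕ Fin d) F)) ≤ W) ↔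
    ((r = 2 ∧ p ≠ 2 ∧ ((Even d ∧ q % 4 = 3 ∧ m % 4 = 2) ∨ (Odd d ∧ q % 8 ≠ 1))) ∨
     (r ≠ p ∧ 2 < r ∧ Odd i ∧ c ≤ m ∧ 0 < m % c ∧ m % c < (2 * d) % c) ∨
     (r ≠ p ∧ 2 < r ∧ Even i ∧
       (((2 * d) % c = 0 ∧ (Odd ((2 * d) / i) ∨ (m % c = 0 ∧ Odd (m / i)))) ∨
        (i ≤ m ∧ ((0 < m % c ∧ m % c < (2 * d) % c) ∨
                  (0 < m % c ∧ m % c = (2 * d) % c ∧ Odd ((2 * d + m - 2 * ((2 * d) % c)) / i)) ∨
                  (m % c = 0 ∧ 0 < (2 * d) % c ∧ Odd (m / i))))))) := by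
  have hcard : Fintype.card (Fin d ⊕ Fin d) = 2 * d := by simp; omega
  have hQ := StdForms.plusQ_nondegenerate (F := F) d
  have hε := OrthPrime.qsgn_plusQ (F := F) d
  have hfin : Module.finrank F (Fin d ⊕ Fin d → F) = 2 * d := by rw [OrthPrime.finrank_fun_eq, hcard]
  rw [← StdForms.coe_plusQ (F := F) d] at hrΩ ⊢
  obtain ⟨l, hl⟩ := hme
  rcases eq_or_ne r p with rfl | hrp
  · refine iff_of_false (fun h => ?_) (by rintro (⟨rfl, h, -⟩ | h | h) <;> first | exact h rfl | exact h.1 rfl)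
    obtain ⟨x, hx, hxp, hxz, hts, hrk⟩ := OrthPrime.exists_shear_plus (F := F) (p := r) hd
    obtain ⟨W, ⟨hWd, hWn, hWp⟩, hWi⟩ := h x hx ⟨1, by rw [hxp, one_smul]; rfl⟩ hxz
    rw [OrthPrime.nondegenerateOn_iff] at hWn
    rw [OrthPrime.plusTypeOn_iff] at hWp
    exact hWp (OrthPrime.inv_nd_plus_of_ts_mov hQ hfin hε (OrthPrime.isometry_of_mem hx) hts hrk hWn
      (a := l) (by omega) (by omega) (by omega) ((OrthPrime.map_le_iff_inv x W).1 hWi))
  have hPeq : (fun W : Submodule F (Fin d ⊕ Fin d → F) => Module.finrank F ↥W = m ∧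
      Cfsg.Geo.IsNondegenerateOn (QuadraticMap.polar ⇑(StdForms.plusQ F d)) W ∧
      ¬ Cfsg.Geo.IsPlusTypeOn ⇑(StdForms.plusQ F d) W) = OrthPrime.NDsub (StdForms.plusQ F d) m (-1) :=
    funext fun W => by
      simp only [OrthPrime.NDsub, OrthPrime.nondegenerateOn_iff, OrthPrime.not_plusTypeOn_iff]
  rcases eq_or_ne r 2 with rfl | hr2
  · have hp2 : p ≠ 2 := Ne.symm hrp
    have hodd := OrthPrime.odd_of_char_ne_two (F := F) hq hp2
    have h2 := OrthPrime.two_ne_zero_of_odd (F := F) hq hodd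
    have hneg : ∀ k, IsSquare ((-1 : F) ^ k) ↔ _ := OrthPrime.isSquare_neg_pow_iff (F := F) hq hodd
    have h8 := OrthPrime.isSquare_two_iff' (F := F) hq hodd
    have h8' := OrthPrime.q_mod_eight hodd
    constructor
    · intro h
      refine Or.inl ⟨rfl, hp2, ?_⟩
      by_contra hc
      simp only [Nat.odd_iff, Nat.even_iff, not_or, not_and, Ne, not_not] at hc
      obtain ⟨x, hx, hxx⟩ := OrthPrime.exists_sqrt_neg h2 hQ (by omega) hcard
        (iff_of_true hε ((hneg d).2 (by omega))) (by rw [h8, Nat.even_iff]; omega)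
      have hnot : ∀ W : Submodule F (Fin d ⊕ Fin d → F), OrthPrime.NDsub (StdForms.plusQ F d) m (-1) W →
          OrthPrime.Inv (Forms.glEquiv _ F x) W → False := by
        rintro W ⟨hWd, hWn, hWs⟩ hWi
        obtain ⟨j, -, hj, -, -, -, hjs⟩ := OrthPrime.exists_pairs h2 (OrthPrime.isometry_of_mem hx) hxx
          (one_ne_zero (α := F)) m hWd hWn hWi
        rw [hWs, hneg] at hjs
        exact absurd (hjs.2 (by omega)) (by decide)
      obtain ⟨W, hW, hWi⟩ := h x hx ⟨-1, (OrthPrime.eq_smul_one_iff _ _).2 fun v => by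
          rw [map_pow, pow_two, LinearEquiv.mul_apply, hxx, neg_one_smul]⟩
        (fun z hz => by
          obtain ⟨U, hUn, hUd, hUs⟩ := OrthPrime.exists_nd_sub hQ (fun _ => h2) (l := l) (s := -1) (Or.inr rfl)
            (by omega) (Or.inl (by omega))
          exact hnot U ⟨by omega, hUn, hUs⟩ fun w hw => by
            rw [(OrthPrime.eq_smul_one_iff x z).1 hz]
            exact U.smul_mem z hw)
      exact hnot W ((congrFun hPeq W).mp hW) ((OrthPrime.map_le_iff_inv x W).1 hWi)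
    · rintro (⟨-, -, hR⟩ | h | h)
      rotate_left
      · exact absurd h.2.1 (lt_irrefl 2)
      · exact absurd h.2.1 (lt_irrefl 2)
      intro x hx ⟨z, hz⟩ _
      have hiso := OrthPrime.isometry_of_mem hx
      rcases OrthPrime.two_cases hQ (by omega) hx hz with he | he
      · obtain ⟨b', hb, -⟩ := OrthPrime.movS_facts h2 hQ (by omega) hx he
        obtain ⟨W, hW, hWi⟩ := OrthPrime.involution_fixes_nd_even hQ h2 hiso he hfin hb (by omega) (l := l)
          (by omega) (by omega) (s := -1) (Or.inr rfl)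
        rw [show 2 * l = m by omega, ← hPeq] at hW
        exact ⟨W, hW, (OrthPrime.map_le_iff_inv x W).2 hWi⟩
      · obtain ⟨hs, h2d⟩ := OrthPrime.sqrt_neg_facts h2 hQ (by omega) hx he hcard
        have hs' := (hneg d).1 (hs.1 hε)
        rw [h8, Nat.even_iff] at h2d
        simp only [Nat.odd_iff, Nat.even_iff] at hR
        obtain ⟨W, hWd, hWn, hWi, hWs⟩ := OrthPrime.exists_nd_sqrt h2 hQ hiso he (k := l) (by omega)
        have hns : ¬ IsSquare ((-1 : F) ^ l) := by rw [hneg]; omega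
        refine ⟨W, (congrFun hPeq W).mpr ⟨by omega, hWn, ?_⟩, (OrthPrime.map_le_iff_inv x W).2 hWi⟩
        rcases OrthPrime.qsgn_cases (OrthPrime.rQ (StdForms.plusQ F d) W) with h | h
        · exact absurd (hWs.1 h) hns
        · exact h
  have hr0 : (r : F) ≠ 0 := OrthPrime.cast_ne_zero_of_ne hrp
  have h2r : 2 < r := lt_of_le_of_ne (Fact.out : r.Prime).two_le (Ne.symm hr2)
  have hipos : 0 < i := by rw [hi, ← hq]; exact OrthPrime.orderOf_pos' hr0
  have h2' : Odd (Module.finrank F (Fin d ⊕ Fin d → F)) → (2 : F) ≠ 0 :=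
    fun h => absurd h (by rw [hfin]; exact Nat.not_odd_iff_even.2 (even_two_mul d))
  have hcrit := OrthPrime.nd_criterion (Q := StdForms.plusQ F d) hQ h2' hr0 hr2 hfin hε
    (show _ = i by rw [hi, ← hq]) (m := m) ⟨l, hl⟩ hm (by omega) (s := -1) (Or.inr rfl)
    (by rw [← hPeq]; exact hrΩ)
  have hform := OrthPrime.Arith.nd_5988 (d := d) hipos (by omega) hm hmd
  have hgl := OrthPrime.gl_iff hQ (by omega) hr2 (OrthPrime.NDsub (StdForms.plusQ F d) m (-1))
  rw [← hPeq] at hgl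
  rw [hgl, hPeq, show c = OrthPrime.Arith.cD i from hc]
  constructor
  · intro ha
    obtain ⟨hcm, hC⟩ := hcrit.1 ha
    rcases hform.2 hcm hC with ⟨ho, h⟩ | ⟨he, h⟩
    · exact Or.inr (Or.inl ⟨hrp, h2r, ho, h⟩)
    · exact Or.inr (Or.inr ⟨hrp, h2r, he, h⟩)
  · rintro (⟨h, -⟩ | ⟨-, -, ho, h⟩ | ⟨-, -, he, h⟩)
    · exact absurd h hr2
    · exact hcrit.2 (hform.1 (Or.inl ⟨ho, h⟩))
    · exact hcrit.2 (hform.1 (Or.inr ⟨he, h⟩))

end Cfsg.Agent.S5988
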