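import Cfsg.Statements.S5989
import Cfsg.Agent.Lib.OrthPrime.TwoCases
import Cfsg.Agent.Lib.OrthPrime.UnipStd
-- import your own Cfsg.Agent.* helpers here

set_option autoImplicit false
open scoped MatrixGroups
open Cfsg
open Cfsg.Agent.Lib

namespace Cfsg.Agent.S5989

/-- Elements of prime order of PΩ⁺_n(q), q odd, with no fixed nondegenerate `m`-space of odd dimension. Here `T = PΩ⁺_n(F)`, `n = 2d ≥ 8`, realised through `Ω⁺_n(q)`, the commutator subgroup of the isometry group of `Q = Σ xᵢyᵢ` over the field `F` with `q` elements; an element of `T` of prime order `r` is an element `x` of `Ω⁺_n(q)` with `x^r` scalar and `x` not scalar; `q` and `m` are odd, `1 ≤ m < n/2`. The nondegenerate `m`-spaces (subspaces on which the polar form is nondegenerate) fall into two isometry classes, each an orbit of `T`, and the two actions are equivalent; fix one such space `W₀` and let Ω be the set of nondegenerate `m`-spaces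 isometric to `W₀` (some linear isomorphism preserves `Q`). Let `r` be a prime dividing the size of Ω; for `r ≠ p` let `i` be the multiplicative order of `q` modulo `r`, `c = i` for `i` even and `c = 2i` for `i` odd, and write `k = n mod c`, `ℓ = m mod i`, `ℓ' = m mod c`, `n' = ⌊n/i⌋`, `m' = ⌊m/i⌋`, `t = (r−1)/i`. Then every element of `T` of order `r` fixes a member of Ω if and only if one of: (i) `r = 2`, `n ≡ 2 (mod 4)` and `q ≢ 1 (mod 8)`; (ii) `r ≠ p` odd, `i` odd, `c ≤ m` and `k > ℓ' > 0`; (iii) `r ≠ p` odd, `i` even, and either `k = 0` and `n/i` odd, or `i ≤ m` and `k > ℓ' > 0`. (For `r = p` there is always an element of order `p` fixing no member of Ω.) -/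
theorem result {F : Type*} [Field F] [Fintype F] {p : ℕ} [Fact p.Prime] [CharP F p] {q : ℕ} (hq : Fintype.card F = q)
    (hodd : Odd q) (d m : ℕ) (hd : 4 ≤ d) (hm : Odd m) (hmd : m < d)
    (W₀ : Submodule F (Fin d ⊕ Fin d → F)) (hW₀ : Module.finrank F ↥W₀ = m ∧ Cfsg.Geo.IsNondegenerateOn (QuadraticMap.polar (Cfsg.quadFormPlus d F)) W₀)
    (r : ℕ) [Fact r.Prime]
    (hrΩ : r ∣ Nat.card {W : Submodule F (Fin d ⊕ Fin d → F) // Module.finrank F ↥W = m ∧ Cfsg.Geo.IsNondegenerateOn (QuadraticMap.polar (Cfsg.quadFormPlus d F)) W ∧ Cfsg.Geo.AreIsometricFor (Cfsg.quadFormPlus d F) W W₀})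
    (i c : ℕ) (hi : i = orderOf (q : ZMod r)) (hc : c = if Even i then i else 2 * i) :
    (∀ x : GL (Fin d ⊕ Fin d) F, x ∈ Cfsg.Geo.omegaGL (Cfsg.quadFormPlus d F) →
      (∃ z : F, ((x ^ r : GL (Fin d ⊕ Fin d) F) : Matrix (Fin d ⊕ Fin d) (Fin d ⊕ Fin d) F) = z • (1 : Matrix (Fin d ⊕ Fin d) (Fin d ⊕ Fin d) F)) →
      (∀ z : F, (x : Matrix (Fin d ⊕ Fin d) (Fin d ⊕ Fin d) F) ≠ z • (1 : Matrix (Fin d ⊕ Fin d) (Fin d ⊕ Fin d) F)) →
      ∃ W : Submodule F (Fin d ⊕ Fin d → F), (Module.finrank F ↥W = m ∧ Cfsg.Geo.IsNondegenerateOn (QuadraticMap.polar (Cfsg.quadFormPlus d F)) W ∧ Cfsg.Geo.AreIsometricFor (Cfsg.quadFormPlus d F) W W₀) ∧ W.map (Matrix.toLin' (x : Matrix (Fin d ⊕ Fin d) (Fin d ⊕ Fin d) F)) ≤ W) ↔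
    ((r = 2 ∧ Odd d ∧ q % 8 ≠ 1) ∨
     (r ≠ p ∧ 2 < r ∧ Odd i ∧ c ≤ m ∧ 0 < m % c ∧ m % c < (2 * d) % c) ∨
     (r ≠ p ∧ 2 < r ∧ Even i ∧ (((2 * d) % c = 0 ∧ Odd ((2 * d) / i)) ∨ (i ≤ m ∧ 0 < m % c ∧ m % c < (2 * d) % c)))) := by
  have h2 : (2 : F) ≠ 0 := OrthPrime.two_ne_zero_of_odd hq hodd
  have hcard : Fintype.card (Fin d ⊕ Fin d) = 2 * d := by simp; omega
  obtain ⟨hW₀d, hW₀n⟩ := hW₀
  have hm' : m % 2 = 1 := Nat.odd_iff.1 hm
  rcases eq_or_ne r p with rfl | hrp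
  · have hp2 := OrthPrime.char_ne_two_of_odd (F := F) hq hodd
    refine iff_of_false (fun h => ?_) (by rintro (h | h | h) <;> first | exact hp2 h.1 | exact h.1 rfl)
    have key : ∀ c₁ c₂ c₃ : ℕ, Even c₂ → (c₂ ≠ 0 ∨ c₃ ≠ 0) → c₁ + 2 * c₂ + 3 * c₃ = 2 * d →
        (∀ a₁ a₂ a₃, a₁ ≤ c₁ → a₂ ≤ c₂ → a₃ ≤ c₃ → Even a₂ → m = a₁ + 2 * a₂ + 3 * a₃ → False) →
        False := by
      intro c₁ c₂ c₃ hc hbig hsum hkey
      obtain ⟨x, hxΩ, hxp, -, hxns, hW⟩ := OrthPrime.Unip.exists_parts_witness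
        ((Fact.out : Nat.Prime _).odd_of_ne_two hp2) h2 _ (OrthPrime.Unip.two_mul_plus d) (![] : Fin 0 → F)
        (fun i => i.elim0) (OrthPrime.Unip.stdPlus d) (OrthPrime.Unip.polar_plus d) hc hbig (N := d) hsum
        (Or.inl rfl)
      obtain ⟨W, ⟨hWd, hWn, -⟩, hWi⟩ := h x hxΩ ⟨1, by rw [hxp, one_smul]; rfl⟩ hxns
      obtain ⟨a₁, a₂, a₃, h1, h3, h4, h5, h6, -⟩ := hW W hWn hWi
      exact hkey a₁ a₂ a₃ h1 h3 h4 h5 (hWd.symm.trans h6)
    simp only [Nat.even_iff] at key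
    rcases Nat.mod_two_eq_zero_or_one d with hdp | hdp
    · exact key 0 d 0 hdp (Or.inl (by omega)) (by omega) fun a₁ a₂ a₃ h1 h2 h3 h4 h5 => by omega
    · rcases (show m % 4 = 3 ∨ m % 4 = 1 by omega) with hm4 | hm4
      · exact key 2 (d - 1) 0 (by omega) (Or.inl (by omega)) (by omega) fun a₁ a₂ a₃ h1 h2 h3 h4 h5 => by omega
      · exact key 0 (d - 3) 2 (by omega) (Or.inr (by omega)) (by omega) fun a₁ a₂ a₃ h1 h2 h3 h4 h5 => by omega
  have hQ := StdForms.plusQ_nondegenerate (F := F) d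
  have hε := OrthPrime.qsgn_plusQ (F := F) d
  have hfin : Module.finrank F (Fin d ⊕ Fin d → F) = 2 * d := by rw [OrthPrime.finrank_fun_eq, hcard]
  rw [← StdForms.coe_plusQ (F := F) d] at hrΩ hW₀n ⊢
  rw [OrthPrime.nondegenerateOn_iff] at hW₀n
  let P : Submodule F (Fin d ⊕ Fin d → F) → Prop := fun W =>
    Module.finrank F W = m ∧ OrthPrime.Nd (StdForms.plusQ F d) W ∧
      ∃ φ : W ≃ₗ[F] W₀, ∀ w, OrthPrime.rQ (StdForms.plusQ F d) W₀ (φ w) = OrthPrime.rQ (StdForms.plusQ F d) W w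
  have hP : (fun W : Submodule F (Fin d ⊕ Fin d → F) => Module.finrank F ↥W = m ∧
      Cfsg.Geo.IsNondegenerateOn (QuadraticMap.polar ⇑(StdForms.plusQ F d)) W ∧
      Cfsg.Geo.AreIsometricFor ⇑(StdForms.plusQ F d) W W₀) = P :=
    funext fun W => by simp only [P, OrthPrime.nondegenerateOn_iff, OrthPrime.isometricFor_iff]
  rcases eq_or_ne r 2 with rfl | hr2
  · have hneg : ∀ k, IsSquare ((-1 : F) ^ k) ↔ _ := OrthPrime.isSquare_neg_pow_iff (F := F) hq hodd
    have h8 := OrthPrime.isSquare_two_iff' (F := F) hq hodd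
    have h8' := OrthPrime.q_mod_eight hodd
    constructor
    · intro h
      refine Or.inl ⟨rfl, ?_⟩
      by_contra hc
      simp only [Nat.odd_iff, Ne, not_and, not_not] at hc
      obtain ⟨x, hx, hxx⟩ := OrthPrime.exists_sqrt_neg h2 hQ (by omega) hcard
        (iff_of_true hε ((hneg d).2 (by omega))) (by rw [h8, Nat.even_iff]; omega)
      have hnot : ∀ W : Submodule F (Fin d ⊕ Fin d → F), Module.finrank F W = m →
          OrthPrime.Nd (StdForms.plusQ F d) W → OrthPrime.Inv (Forms.glEquiv _ F x) W → False := by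
        intro W hWd hWn hWi
        obtain ⟨j, -, hj, -⟩ := OrthPrime.exists_pairs h2 (OrthPrime.isometry_of_mem hx) hxx
          (one_ne_zero (α := F)) m hWd hWn hWi
        omega
      obtain ⟨W, ⟨hWd, hWn, -⟩, hWi⟩ := h x hx ⟨-1, (OrthPrime.eq_smul_one_iff _ _).2 fun v => by
          rw [map_pow, pow_two, LinearEquiv.mul_apply, hxx, neg_one_smul]⟩
        (fun z hz => hnot W₀ hW₀d hW₀n fun w hw => by
          rw [(OrthPrime.eq_smul_one_iff x z).1 hz]
          exact W₀.smul_mem z hw)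
      exact hnot W hWd ((OrthPrime.nondegenerateOn_iff W).1 hWn) ((OrthPrime.map_le_iff_inv x W).1 hWi)
    · rintro (⟨-, hd1, hq1⟩ | h | h)
      rotate_left
      · exact absurd h.2.1 (lt_irrefl 2)
      · exact absurd h.2.1 (lt_irrefl 2)
      intro x hx ⟨z, hz⟩ _
      have hiso := OrthPrime.isometry_of_mem hx
      rcases OrthPrime.two_cases hQ (by omega) hx hz with he | he
      · obtain ⟨b', hb, -⟩ := OrthPrime.movS_facts h2 hQ (by omega) hx he
        obtain ⟨W, hW, hWi⟩ := OrthPrime.involution_fixes_odd hQ h2 hiso he hfin hb hm hmd hW₀n hW₀d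
        exact ⟨W, (congrFun hP W).symm.mp hW, (OrthPrime.map_le_iff_inv x W).2 hWi⟩
      · obtain ⟨hs, h2d⟩ := OrthPrime.sqrt_neg_facts h2 hQ (by omega) hx he hcard
        have hs' := (hneg d).1 (hs.1 hε)
        rw [h8, Nat.even_iff] at h2d
        rw [Nat.odd_iff] at hd1
        omega
  have hr0 : (r : F) ≠ 0 := OrthPrime.cast_ne_zero_of_ne hrp
  have h2r : 2 < r := lt_of_le_of_ne (Fact.out : r.Prime).two_le (Ne.symm hr2)
  have hipos : 0 < i := by rw [hi, ← hq]; exact OrthPrime.orderOf_pos' hr0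
  have hgl := OrthPrime.gl_iff hQ (by omega) hr2 P
  rw [← hP] at hgl
  have hcrit := OrthPrime.odd_criterion hQ h2 (by rw [hfin]; exact even_two_mul d) hr0 hr2 hfin hε
    (show _ = i by rw [hi, ← hq]) hW₀n hW₀d hm
    (by change r ∣ Nat.card {W // P W}; rw [← hP]; exact hrΩ)
  have hform := OrthPrime.Arith.nd_5989 (d := d) hipos hm' hmd
  rw [show c = OrthPrime.Arith.cD i from hc]
  refine (hgl.trans (by rw [hP])).trans (Iff.intro ?_ ?_)
  · intro ha
    obtain ⟨hcm, hC⟩ := hcrit.1 ha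
    rcases hform.2 hcm hC with ⟨h1, h3⟩ | ⟨h1, h3⟩
    · exact Or.inr (Or.inl ⟨hrp, h2r, h1, h3⟩)
    · exact Or.inr (Or.inr ⟨hrp, h2r, h1, h3⟩)
  · rintro (⟨h, -⟩ | ⟨-, -, h1, h3⟩ | ⟨-, -, h1, h3⟩)
    · exact absurd h hr2
    · exact hcrit.2 (hform.1 (Or.inl ⟨h1, h3⟩))
    · exact hcrit.2 (hform.1 (Or.inr ⟨h1, h3⟩))

end Cfsg.Agent.S5989
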