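import Cfsg.Statements.S5990
import Cfsg.Agent.Lib.OrthPrime.TwoCases
import Cfsg.Agent.Lib.OrthPrime.InvolTwoTop
-- import your own Cfsg.Agent.* helpers here

set_option autoImplicit false
open scoped MatrixGroups
open Cfsg
open Cfsg.Agent.Lib

namespace Cfsg.Agent.S5990

/-- Elements of prime order of PΩ⁻_n(q) with no fixed elliptic `m`-space. Here `T = PΩ⁻_n(F)`, `n = 2d ≥ 8`, realised through `Ω⁻_n(q)`, the commutator subgroup of the isometry group of `Q = Σ_{i<d−1} xᵢyᵢ + z₁² + a z₁z₂ + b z₂²` with `z₁² + a z₁z₂ + b z₂²` anisotropic, over the field `F` with `q` elements; an element of `T` of prime order `r` is an element `x` of `Ω⁻_n(q)` with `x^r` scalar and `x` not scalar; a nondegenerate `m`-space (even `m`) is a subspace on which the polar form of `Q` is nondegenerate; it is hyperbolic if it contains an `m/2`-dimensional subspace on which `Q` vanishes, elliptic otherwise. Let `m` be even with `2 ≤ m ≤ n −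 2` (no restriction `m < n/2`: fixing an elliptic `m`-space is the same as fixing its hyperbolic orthogonal complement) and let `r` be a prime dividing the number of elliptic `m`-spaces, with `r = 2` or `r ≠ p`; for `r ≠ p` let `i` be the multiplicative order of `q` modulo `r`, `c = i` for `i` even and `c = 2i` for `i` odd, and write `k = n mod c`, `ℓ = m mod i`, `ℓ' = m mod c`, `n' = ⌊n/i⌋`, `m' = ⌊m/i⌋`, `t = (r−1)/i`. Then every element of `T` of order `r` fixes some elliptic `m`-space if and only if one of: (i) `r = p = 2` and (`n ≡ 0 (mod 4)` or `m ≡ 2 (mod 4)`); (ii) `r = 2 ≠ p` and (`n ≡ 0 (mod 4)`, or `q ≢ 7 (mod 8)`, or `m ≡ 2 (mod 4)`); (iii) `r ≠ p` odd, `i` odd, and `k = 0` or (`c ≤ m` and `k ≥ ℓ' > 0`); (iv) `r ≠ p` odd, `i` even, and either `k = 0` and (`n/i` even, or `ℓ' = 0` and `m/i` odd), or `k > 0`, `i ≤ m` and (`k > ℓ' > 0`, or `ℓ' = 0` and `m/i` odd, or `k = ℓ'` and `(n + m − 2k)/i` even). (Odd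 `r = p` is not covered by this statement.) -/
theorem result {F : Type*} [Field F] [Fintype F] {p : ℕ} [Fact p.Prime] [CharP F p] {q : ℕ} (hq : Fintype.card F = q)
    (d m : ℕ) (hd : 4 ≤ d) (hm : 2 ≤ m) (hme : Even m) (hmn : m + 2 ≤ 2 * d) (a b : F) (hab : ∀ x y : F, x ^ 2 + a * x * y + b * y ^ 2 = 0 → x = 0 ∧ y = 0)
    (r : ℕ) [Fact r.Prime] (hr : r = 2 ∨ r ≠ p)
    (hrΩ : r ∣ Nat.card {W : Submodule F ((Fin (d - 1) ⊕ Fin (d - 1)) ⊕ Fin 2 → F) // Module.finrank F ↥W = m ∧ Cfsg.Geo.IsNondegenerateOn (QuadraticMap.polar (Cfsg.quadFormMinus (d - 1) F a b)) W ∧ ¬ Cfsg.Geo.IsPlusTypeOn (Cfsg.quadFormMinus (d - 1) F a b) W})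
    (i c : ℕ) (hi : i = orderOf (q : ZMod r)) (hc : c = if Even i then i else 2 * i) :
    (∀ x : GL ((Fin (d - 1) ⊕ Fin (d - 1)) ⊕ Fin 2) F, x ∈ Cfsg.Geo.omegaGL (Cfsg.quadFormMinus (d - 1) F a b) →
      (∃ z : F, ((x ^ r : GL ((Fin (d - 1) ⊕ Fin (d - 1)) ⊕ Fin 2) F) : Matrix ((Fin (d - 1) ⊕ Fin (d - 1)) ⊕ Fin 2) ((Fin (d - 1) ⊕ Fin (d - 1)) ⊕ Fin 2) F) = z • (1 : Matrix ((Fin (d - 1) ⊕ Fin (d - 1)) ⊕ Fin 2) ((Fin (d - 1) ⊕ Fin (d - 1)) ⊕ Fin 2) F)) →
      (∀ z : F, (x : Matrix ((Fin (d - 1) ⊕ Fin (d - 1)) ⊕ Fin 2) ((Fin (d - 1) ⊕ Fin (d - 1)) ⊕ Fin 2) F) ≠ z • (1 : Matrix ((Fin (d - 1) ⊕ Fin (d - 1)) ⊕ Fin 2) ((Fin (d - 1) ⊕ Fin (d - 1)) ⊕ Fin 2) F)) →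
      ∃ W : Submodule F ((Fin (d - 1) ⊕ Fin (d - 1)) ⊕ Fin 2 → F), (Module.finrank F ↥W = m ∧ Cfsg.Geo.IsNondegenerateOn (QuadraticMap.polar (Cfsg.quadFormMinus (d - 1) F a b)) W ∧ ¬ Cfsg.Geo.IsPlusTypeOn (Cfsg.quadFormMinus (d - 1) F a b) W) ∧ W.map (Matrix.toLin' (x : Matrix ((Fin (d - 1) ⊕ Fin (d - 1)) ⊕ Fin 2) ((Fin (d - 1) ⊕ Fin (d - 1)) ⊕ Fin 2) F)) ≤ W) ↔
    ((r = 2 ∧ p = 2 ∧ (Even d ∨ m % 4 = 2)) ∨
     (r = 2 ∧ p ≠ 2 ∧ (Even d ∨ q % 8 ≠ 7 ∨ m % 4 = 2)) ∨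
     (r ≠ p ∧ 2 < r ∧ Odd i ∧ ((2 * d) % c = 0 ∨ (c ≤ m ∧ 0 < m % c ∧ m % c ≤ (2 * d) % c))) ∨
     (r ≠ p ∧ 2 < r ∧ Even i ∧
       (((2 * d) % c = 0 ∧ (Even ((2 * d) / i) ∨ (m % c = 0 ∧ Odd (m / i)))) ∨
        (0 < (2 * d) % c ∧ i ≤ m ∧ ((0 < m % c ∧ m % c < (2 * d) % c) ∨ (m % c = 0 ∧ Odd (m / i)) ∨
                                    (m % c = (2 * d) % c ∧ Even ((2 * d + m - 2 * ((2 * d) % c)) / i))))))) := by
  have hcard : Fintype.card ((Fin (d - 1) ⊕ Fin (d - 1)) ⊕ Fin 2) = 2 * d := by simp; omega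
  have hQ := StdForms.minusQ_nondegenerate hab (d - 1)
  have hε := OrthPrime.qsgn_minusQ hab (d - 1)
  have hfin : Module.finrank F ((Fin (d - 1) ⊕ Fin (d - 1)) ⊕ Fin 2 → F) = 2 * d := by
    rw [OrthPrime.finrank_fun_eq, hcard]
  rw [← StdForms.coe_minusQ (F := F) (d - 1) a b] at hrΩ ⊢
  obtain ⟨l, hl⟩ := hme
  have hPeq : (fun W : Submodule F ((Fin (d - 1) ⊕ Fin (d - 1)) ⊕ Fin 2 → F) => Module.finrank F ↥W = m ∧
      Cfsg.Geo.IsNondegenerateOn (QuadraticMap.polar ⇑(StdForms.minusQ F (d - 1) a b)) W ∧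
      ¬ Cfsg.Geo.IsPlusTypeOn ⇑(StdForms.minusQ F (d - 1) a b) W) =
      OrthPrime.NDsub (StdForms.minusQ F (d - 1) a b) m (-1) :=
    funext fun W => by
      simp only [OrthPrime.NDsub, OrthPrime.nondegenerateOn_iff, OrthPrime.not_plusTypeOn_iff]
  rcases eq_or_ne r 2 with rfl | hr2
  · rcases eq_or_ne p 2 with rfl | hp2
    · constructor
      · intro h
        refine Or.inl ⟨rfl, rfl, ?_⟩
        by_contra hc
        simp only [not_or, Nat.even_iff] at hc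
        obtain ⟨N, hQN, hNN, hts, hN0, hrk⟩ := OrthPrime.Two.exists_nil_minus (F := F) (k := d - 1) (by omega) a b
        have hev : Even (Module.finrank F (LinearMap.range N)) := by
          have := (OrthPrime.Two.alt_blocks hQN hNN _ rfl (OrthPrime.nd_top _ hQ) (fun _ _ => trivial)
            fun x _ => hts x).1
          rwa [Submodule.map_top] at this
        obtain ⟨x, hx, hxp, hxz, hxN⟩ := OrthPrime.Two.exists_of_nil hQ (by omega) hQN hNN hN0 hev
        obtain ⟨W, hW, hWi⟩ := h x hx ⟨1, by rw [hxp, one_smul]; rfl⟩ hxz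
        obtain ⟨hWd, hWn, hWs⟩ : OrthPrime.NDsub (StdForms.minusQ F (d - 1) a b) m (-1) W := (congrFun hPeq W).mp hW
        refine OrthPrime.Two.no_minus_even_half hQN hNN hts hQ hfin (Nat.odd_iff.2 (by omega)) hrk hWn (fun w hw => ?_)
          (k := l) (Nat.even_iff.2 (by omega)) (by omega) (by omega) hWs
        have := (OrthPrime.map_le_iff_inv x W).1 hWi w hw
        rw [hxN] at this
        simpa using sub_mem this hw
      · rintro (⟨-, -, hR⟩ | ⟨-, h, -⟩ | h | h)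
        rotate_left
        · exact absurd rfl h
        · exact absurd h.2.1 (lt_irrefl 2)
        · exact absurd h.2.1 (lt_irrefl 2)
        intro x hx ⟨z, hz⟩ _
        obtain ⟨N, hxN, hQN, hNN, hev⟩ := OrthPrime.Two.omega_setup hQ (by omega) hx hz
        obtain ⟨W, hWn, hWi, hWd, hWs⟩ := OrthPrime.Two.minus_exists hQN hNN hQ hfin hε hev (k := l) (by omega)
          (by omega) (by simp only [Nat.odd_iff, Nat.even_iff] at hR ⊢; omega)
        refine ⟨W, (congrFun hPeq W).mpr ⟨by omega, hWn, hWs⟩, (OrthPrime.map_le_iff_inv x W).2 fun w hw => ?_⟩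
        rw [hxN]
        exact add_mem hw (hWi w hw)
    have hodd := OrthPrime.odd_of_char_ne_two (F := F) hq hp2
    have h2 := OrthPrime.two_ne_zero_of_odd (F := F) hq hodd
    have hneg : ∀ k, IsSquare ((-1 : F) ^ k) ↔ _ := OrthPrime.isSquare_neg_pow_iff (F := F) hq hodd
    have h8 := OrthPrime.isSquare_two_iff' (F := F) hq hodd
    have h8' := OrthPrime.q_mod_eight hodd
    constructor
    · intro h
      refine Or.inr (Or.inl ⟨rfl, hp2, ?_⟩)
      by_contra hc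
      simp only [Nat.even_iff, not_or, Ne, not_not] at hc
      obtain ⟨x, hx, hxx⟩ := OrthPrime.exists_sqrt_neg h2 hQ (by omega) hcard
        (iff_of_false (by rw [hε]; decide) (by rw [hneg]; omega)) (Or.inr (h8.2 (by omega)))
      have hnot : ∀ W : Submodule F ((Fin (d - 1) ⊕ Fin (d - 1)) ⊕ Fin 2 → F),
          OrthPrime.NDsub (StdForms.minusQ F (d - 1) a b) m (-1) W →
          OrthPrime.Inv (Forms.glEquiv _ F x) W → False := by
        rintro W ⟨hWd, hWn, hWs⟩ hWi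
        obtain ⟨j, -, hj, -, -, -, hjs⟩ := OrthPrime.exists_pairs h2 (OrthPrime.isometry_of_mem hx) hxx
          (one_ne_zero (α := F)) m hWd hWn hWi
        rw [hWs, hneg] at hjs
        exact absurd (hjs.2 (by omega)) (by decide)
      obtain ⟨W, hW, hWi⟩ := h x hx ⟨-1, (OrthPrime.eq_smul_one_iff _ _).2 fun v => by
          rw [map_pow, pow_two, LinearEquiv.mul_apply, hxx, neg_one_smul]⟩
        (fun z hz => by
          obtain ⟨U, hUn, hUd, hUs⟩ := OrthPrime.exists_nd_sub hQ (fun _ => h2) (l := l) (s := -1) (Or.inr rfl)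
            (by omega) (Or.inl (by omega))
          exact hnot U ⟨by omega, hUn, hUs⟩ fun w hw => by
            rw [(OrthPrime.eq_smul_one_iff x z).1 hz]
            exact U.smul_mem z hw)
      exact hnot W ((congrFun hPeq W).mp hW) ((OrthPrime.map_le_iff_inv x W).1 hWi)
    · rintro (⟨-, h, -⟩ | ⟨-, -, hR⟩ | h | h)
      · exact absurd h hp2
      rotate_left
      · exact absurd h.2.1 (lt_irrefl 2)
      · exact absurd h.2.1 (lt_irrefl 2)
      intro x hx ⟨z, hz⟩ _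
      have hiso := OrthPrime.isometry_of_mem hx
      rcases OrthPrime.two_cases hQ (by omega) hx hz with he | he
      · obtain ⟨b', hb, -⟩ := OrthPrime.movS_facts h2 hQ (by omega) hx he
        obtain ⟨W, hW, hWi⟩ := OrthPrime.involution_fixes_nd_even hQ h2 hiso he hfin hb (by omega) (l := l)
          (by omega) (by omega) (s := -1) (Or.inr rfl)
        rw [show 2 * l = m by omega, ← hPeq] at hW
        exact ⟨W, hW, (OrthPrime.map_le_iff_inv x W).2 hWi⟩
      · obtain ⟨hs, h2d⟩ := OrthPrime.sqrt_neg_facts h2 hQ (by omega) hx he hcard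
        rw [hε, hneg] at hs
        rw [h8, Nat.even_iff] at h2d
        have hnsd : ¬ (d % 2 = 0 ∨ q % 4 = 1) := fun h => absurd (hs.2 h) (by decide)
        simp only [Nat.even_iff] at hR
        obtain ⟨W, hWd, hWn, hWi, hWs⟩ := OrthPrime.exists_nd_sqrt h2 hQ hiso he (k := l) (by omega)
        have hns : ¬ IsSquare ((-1 : F) ^ l) := by rw [hneg]; omega
        refine ⟨W, (congrFun hPeq W).mpr ⟨by omega, hWn, ?_⟩, (OrthPrime.map_le_iff_inv x W).2 hWi⟩
        rcases OrthPrime.qsgn_cases (OrthPrime.rQ (StdForms.minusQ F (d - 1) a b) W) with h | h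
        · exact absurd (hWs.1 h) hns
        · exact h
  have hrp : r ≠ p := hr.resolve_left hr2
  have hr0 : (r : F) ≠ 0 := OrthPrime.cast_ne_zero_of_ne hrp
  have h2r : 2 < r := lt_of_le_of_ne (Fact.out : r.Prime).two_le (Ne.symm hr2)
  have hipos : 0 < i := by rw [hi, ← hq]; exact OrthPrime.orderOf_pos' hr0
  have h2' : Odd (Module.finrank F ((Fin (d - 1) ⊕ Fin (d - 1)) ⊕ Fin 2 → F)) → (2 : F) ≠ 0 :=
    fun h => absurd h (by rw [hfin]; exact Nat.not_odd_iff_even.2 (even_two_mul d))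
  have hcrit := OrthPrime.nd_criterion hQ h2' hr0 hr2 hfin hε
    (show _ = i by rw [hi, ← hq]) (m := m) ⟨l, hl⟩ hm (by omega) (s := -1) (Or.inr rfl)
    (by rw [← hPeq]; exact hrΩ)
  have hform := OrthPrime.Arith.nd_5990 (d := d) hipos (by omega) hm hmn
  have hgl := OrthPrime.gl_iff hQ (by omega) hr2 (OrthPrime.NDsub (StdForms.minusQ F (d - 1) a b) m (-1))
  rw [← hPeq] at hgl
  rw [hgl, hPeq, show c = OrthPrime.Arith.cD i from hc]
  constructor
  · intro ha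
    obtain ⟨hcm, hC⟩ := hcrit.1 ha
    rcases hform.2 hcm hC with ⟨ho, h⟩ | ⟨he, h⟩
    · exact Or.inr (Or.inr (Or.inl ⟨hrp, h2r, ho, h⟩))
    · exact Or.inr (Or.inr (Or.inr ⟨hrp, h2r, he, h⟩))
  · rintro (⟨h, -⟩ | ⟨h, -⟩ | ⟨-, -, ho, h⟩ | ⟨-, -, he, h⟩)
    · exact absurd h hr2
    · exact absurd h hr2
    · exact hcrit.2 (hform.1 (Or.inl ⟨ho, h⟩))
    · exact hcrit.2 (hform.1 (Or.inr ⟨he, h⟩))

end Cfsg.Agent.S5990
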