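import Cfsg.Statements.S5991
import Cfsg.Agent.Lib.OrthPrime.TwoCases
import Cfsg.Agent.Lib.OrthPrime.UnipMinus
-- import your own Cfsg.Agent.* helpers here

set_option autoImplicit false
open scoped MatrixGroups
open Cfsg
open Cfsg.Agent.Lib

namespace Cfsg.Agent.S5991

/-- Elements of prime order of PΩ⁻_n(q), q odd, with no fixed nondegenerate `m`-space of odd dimension. Here `T = PΩ⁻_n(F)`, `n = 2d ≥ 8`, realised through `Ω⁻_n(q)`, the commutator subgroup of the isometry group of `Q = Σ_{i<d−1} xᵢyᵢ + z₁² + a z₁z₂ + b z₂²` with `z₁² + a z₁z₂ + b z₂²` anisotropic, over the field `F` with `q` elements; an element of `T` of prime order `r` is an element `x` of `Ω⁻_n(q)` with `x^r` scalar and `x` not scalar; `q` and `m` are odd, `1 ≤ m < n/2`. The nondegenerate `m`-spaces fall into two isometry classes, each an orbit of `T`, with equivalent actions; fix one such space `W₀` and let Ω be the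 set of nondegenerate `m`-spaces isometric to `W₀`. Let `r` be a prime dividing the size of Ω; for `r ≠ p` let `i` be the multiplicative order of `q` modulo `r`, `c = i` for `i` even and `c = 2i` for `i` odd, and write `k = n mod c`, `ℓ = m mod i`, `ℓ' = m mod c`, `n' = ⌊n/i⌋`, `m' = ⌊m/i⌋`, `t = (r−1)/i`. Then every element of `T` of order `r` fixes a member of Ω if and only if one of: (i) `r = 2` and (`n ≡ 0 (mod 4)` or `q ≢ 7 (mod 8)`); (ii) `r ≠ p` odd, `i` odd, and `k = 0` or (`c ≤ m` and `k > ℓ' > 0`); (iii) `r ≠ p` odd, `i` even, and either `k = 0` and `n/i` even, or `k > 0`, `i ≤ m` and `k > ℓ' > 0`. (For `r = p` there is always an element of order `p` fixing no member of Ω.) -/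
theorem result {F : Type*} [Field F] [Fintype F] {p : ℕ} [Fact p.Prime] [CharP F p] {q : ℕ} (hq : Fintype.card F = q)
    (hodd : Odd q) (d m : ℕ) (hd : 4 ≤ d) (hm : Odd m) (hmd : m < d) (a b : F) (hab : ∀ x y : F, x ^ 2 + a * x * y + b * y ^ 2 = 0 → x = 0 ∧ y = 0)
    (W₀ : Submodule F ((Fin (d - 1) ⊕ Fin (d - 1)) ⊕ Fin 2 → F)) (hW₀ : Module.finrank F ↥W₀ = m ∧ Cfsg.Geo.IsNondegenerateOn (QuadraticMap.polar (Cfsg.quadFormMinus (d - 1) F a b)) W₀)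
    (r : ℕ) [Fact r.Prime]
    (hrΩ : r ∣ Nat.card {W : Submodule F ((Fin (d - 1) ⊕ Fin (d - 1)) ⊕ Fin 2 → F) // Module.finrank F ↥W = m ∧ Cfsg.Geo.IsNondegenerateOn (QuadraticMap.polar (Cfsg.quadFormMinus (d - 1) F a b)) W ∧ Cfsg.Geo.AreIsometricFor (Cfsg.quadFormMinus (d - 1) F a b) W W₀})
    (i c : ℕ) (hi : i = orderOf (q : ZMod r)) (hc : c = if Even i then i else 2 * i) :
    (∀ x : GL ((Fin (d - 1) ⊕ Fin (d - 1)) ⊕ Fin 2) F, x ∈ Cfsg.Geo.omegaGL (Cfsg.quadFormMinus (d - 1) F a b) →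
      (∃ z : F, ((x ^ r : GL ((Fin (d - 1) ⊕ Fin (d - 1)) ⊕ Fin 2) F) : Matrix ((Fin (d - 1) ⊕ Fin (d - 1)) ⊕ Fin 2) ((Fin (d - 1) ⊕ Fin (d - 1)) ⊕ Fin 2) F) = z • (1 : Matrix ((Fin (d - 1) ⊕ Fin (d - 1)) ⊕ Fin 2) ((Fin (d - 1) ⊕ Fin (d - 1)) ⊕ Fin 2) F)) →
      (∀ z : F, (x : Matrix ((Fin (d - 1) ⊕ Fin (d - 1)) ⊕ Fin 2) ((Fin (d - 1) ⊕ Fin (d - 1)) ⊕ Fin 2) F) ≠ z • (1 : Matrix ((Fin (d - 1) ⊕ Fin (d - 1)) ⊕ Fin 2) ((Fin (d - 1) ⊕ Fin (d - 1)) ⊕ Fin 2) F)) →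
      ∃ W : Submodule F ((Fin (d - 1) ⊕ Fin (d - 1)) ⊕ Fin 2 → F), (Module.finrank F ↥W = m ∧ Cfsg.Geo.IsNondegenerateOn (QuadraticMap.polar (Cfsg.quadFormMinus (d - 1) F a b)) W ∧ Cfsg.Geo.AreIsometricFor (Cfsg.quadFormMinus (d - 1) F a b) W W₀) ∧ W.map (Matrix.toLin' (x : Matrix ((Fin (d - 1) ⊕ Fin (d - 1)) ⊕ Fin 2) ((Fin (d - 1) ⊕ Fin (d - 1)) ⊕ Fin 2) F)) ≤ W) ↔
    ((r = 2 ∧ (Even d ∨ q % 8 ≠ 7)) ∨
     (r ≠ p ∧ 2 < r ∧ Odd i ∧ ((2 * d) % c = 0 ∨ (c ≤ m ∧ 0 < m % c ∧ m % c < (2 * d) % c))) ∨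
     (r ≠ p ∧ 2 < r ∧ Even i ∧ (((2 * d) % c = 0 ∧ Even ((2 * d) / i)) ∨ (0 < (2 * d) % c ∧ i ≤ m ∧ 0 < m % c ∧ m % c < (2 * d) % c)))) := by
  have h2 : (2 : F) ≠ 0 := OrthPrime.two_ne_zero_of_odd hq hodd
  have hcard : Fintype.card ((Fin (d - 1) ⊕ Fin (d - 1)) ⊕ Fin 2) = 2 * d := by simp; omega
  have hQ := StdForms.minusQ_nondegenerate hab (d - 1)
  have hfin : Module.finrank F ((Fin (d - 1) ⊕ Fin (d - 1)) ⊕ Fin 2 → F) = 2 * d := by
    rw [OrthPrime.finrank_fun_eq, hcard]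
  obtain ⟨hW₀d, hW₀n⟩ := hW₀
  have hm' : m % 2 = 1 := Nat.odd_iff.1 hm
  rcases eq_or_ne r p with rfl | hrp
  · have hp2 := OrthPrime.char_ne_two_of_odd (F := F) hq hodd
    have hpodd := (Fact.out : Nat.Prime _).odd_of_ne_two hp2
    refine iff_of_false (fun h => ?_) (by rintro (h | h | h) <;> first | exact hp2 h.1 | exact h.1 rfl)
    rcases Nat.mod_two_eq_zero_or_one d with hdp | hdp
    · rw [← StdForms.coe_minusQ (F := F) (d - 1) a b] at h hW₀n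
      rw [OrthPrime.nondegenerateOn_iff] at hW₀n
      obtain ⟨U₀, j, hU₀, hU₀d, hU⟩ : ∃ (U₀ : Submodule F ((Fin (d - 1) ⊕ Fin (d - 1)) ⊕ Fin 2 → F)) (j : ℕ), OrthPrime.Nd (StdForms.minusQ F (d - 1) a b) U₀ ∧
          Module.finrank F U₀ = 2 * (2 * j) + 1 ∧
          ∀ γ : F, γ ≠ 0 → ∃ s : F, s ≠ 0 ∧
            OrthPrime.HasClass (StdForms.minusQ F (d - 1) a b) (2 * j) U₀ (s * s * γ) := by
        have hmain : ∀ γ : F, γ ≠ 0 → ∃ W : Submodule F ((Fin (d - 1) ⊕ Fin (d - 1)) ⊕ Fin 2 → F), Module.finrank F W = m ∧ OrthPrime.Nd (StdForms.minusQ F (d - 1) a b) W ∧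
            (∃ φ : W ≃ₗ[F] W₀, ∀ w, OrthPrime.rQ (StdForms.minusQ F (d - 1) a b) W₀ (φ w) =
              OrthPrime.rQ (StdForms.minusQ F (d - 1) a b) W w) ∧
            ∀ (U : Submodule F ((Fin (d - 1) ⊕ Fin (d - 1)) ⊕ Fin 2 → F)) (j : ℕ), (U = W ∨ U = OrthPrime.qperp (StdForms.minusQ F (d - 1) a b) W) →
              OrthPrime.Nd (StdForms.minusQ F (d - 1) a b) U → Module.finrank F U = 4 * j + 1 →
              ∃ s : F, s ≠ 0 ∧ OrthPrime.HasClass (StdForms.minusQ F (d - 1) a b) (2 * j) U (s * s * γ) := by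
          intro γ hγ
          obtain ⟨x, hx, hxp, hxz, hW⟩ := OrthPrime.Unip.exists_class_witness hpodd h2 (d - 1)
            (by rw [Nat.odd_iff]; omega) hab hγ
          obtain ⟨W, ⟨hWd, hWn, hWiso⟩, hWi⟩ := h x hx ⟨1, by rw [hxp, one_smul]; rfl⟩ hxz
          rw [OrthPrime.nondegenerateOn_iff] at hWn
          refine ⟨W, hWd, hWn, (OrthPrime.isometricFor_iff W W₀).1 hWiso, fun U j hU hUn hUd => hW U j hUn hUd ?_⟩
          rcases hU with rfl | rfl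
          · exact hWi
          · exact (OrthPrime.map_le_iff_inv x _).2
              (OrthPrime.inv_qperp (OrthPrime.isometry_of_mem hx) ((OrthPrime.map_le_iff_inv x W).1 hWi))
        rcases (show m % 4 = 1 ∨ m % 4 = 3 by omega) with hm4 | hm4
        · refine ⟨W₀, m / 4, hW₀n, by omega, fun γ hγ => ?_⟩
          obtain ⟨W, hWd, hWn, ⟨φ, hφ⟩, hW⟩ := hmain γ hγ
          obtain ⟨s, hs, hc⟩ := hW W (m / 4) (Or.inl rfl) hWn (by omega)
          exact ⟨s, hs, hc.of_isometry φ hφ⟩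
        · have h0 := OrthPrime.finrank_qperp (StdForms.minusQ F (d - 1) a b) hW₀n
          rw [hW₀d, hfin] at h0
          refine ⟨OrthPrime.qperp (StdForms.minusQ F (d - 1) a b) W₀, (2 * d - m) / 4,
            OrthPrime.nd_qperp _ hQ hW₀n, by omega, fun γ hγ => ?_⟩
          obtain ⟨W, hWd, hWn, ⟨φ, hφ⟩, hW⟩ := hmain γ hγ
          have h1 := OrthPrime.finrank_qperp (StdForms.minusQ F (d - 1) a b) hWn
          rw [hWd, hfin] at h1
          obtain ⟨s, hs, hc⟩ := hW _ ((2 * d - m) / 4) (Or.inr rfl) (OrthPrime.nd_qperp _ hQ hWn) (by omega)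
          obtain ⟨ψ, hψ⟩ := OrthPrime.qperp_isometry hQ hWn hW₀n φ hφ
          exact ⟨s, hs, hc.of_isometry ψ hψ⟩
      obtain ⟨l, hl⟩ := FiniteField.exists_nonsquare (F := F) (by rw [ringChar.eq F r]; exact hp2)
      have hl0 : l ≠ 0 := fun e => hl (e ▸ IsSquare.zero)
      obtain ⟨s, hs, hc⟩ := hU 1 one_ne_zero
      obtain ⟨t, ht, hc'⟩ := hU l hl0
      obtain ⟨u, hu⟩ := hc.unique hU₀ h2 hU₀d hc' (mul_ne_zero (mul_ne_zero ht ht) hl0)
      exact hl ⟨u / (s * t), by field_simp; linear_combination hu⟩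
    · have key : ∀ c₁ c₂ c₃ : ℕ, Even c₂ → (c₂ ≠ 0 ∨ c₃ ≠ 0) → (c₁ ≠ 0 ∨ c₃ ≠ 0) →
          c₁ + 2 * c₂ + 3 * c₃ = 2 * (d - 1) + 2 →
          (∀ a₁ a₂ a₃, a₁ ≤ c₁ → a₂ ≤ c₂ → a₃ ≤ c₃ → Even a₂ → m = a₁ + 2 * a₂ + 3 * a₃ → False) →
          False := by
        intro c₁ c₂ c₃ hc hbig hodd' hsum hkey
        obtain ⟨x, hxΩ, hxp, -, hxns, hW⟩ := OrthPrime.Unip.exists_parts_witness hpodd h2 _
          (OrthPrime.Unip.two_mul_minus (d - 1) a b) _ (OrthPrime.Unip.minus_coeff_ne_zero h2 hab)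
          (OrthPrime.Unip.stdMinus (d - 1) a) (OrthPrime.Unip.polar_minus' h2 (d - 1) a b) hc hbig (N := d - 1)
          hsum (Or.inr (Or.inr ⟨rfl, hodd'⟩))
        obtain ⟨W, ⟨hWd, hWn, -⟩, hWi⟩ := h x hxΩ ⟨1, by rw [hxp, one_smul]; rfl⟩ hxns
        obtain ⟨a₁, a₂, a₃, h1, h3, h4, h5, h6, -⟩ := hW W hWn hWi
        exact hkey a₁ a₂ a₃ h1 h3 h4 h5 (hWd.symm.trans h6)
      simp only [Nat.even_iff] at key
      rcases (show m % 4 = 3 ∨ m % 4 = 1 by omega) with hm4 | hm4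
      · exact key 2 (d - 1) 0 (by omega) (Or.inl (by omega)) (Or.inl (by omega)) (by omega)
          fun a₁ a₂ a₃ h1 h2 h3 h4 h5 => by omega
      · exact key 0 (d - 3) 2 (by omega) (Or.inr (by omega)) (Or.inr (by omega)) (by omega)
          fun a₁ a₂ a₃ h1 h2 h3 h4 h5 => by omega
  have hε := OrthPrime.qsgn_minusQ hab (d - 1)
  rw [← StdForms.coe_minusQ (F := F) (d - 1) a b] at hrΩ hW₀n ⊢
  rw [OrthPrime.nondegenerateOn_iff] at hW₀n
  let P : Submodule F ((Fin (d - 1) ⊕ Fin (d - 1)) ⊕ Fin 2 → F) → Prop := fun W =>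
    Module.finrank F W = m ∧ OrthPrime.Nd (StdForms.minusQ F (d - 1) a b) W ∧
      ∃ φ : W ≃ₗ[F] W₀, ∀ w, OrthPrime.rQ (StdForms.minusQ F (d - 1) a b) W₀ (φ w) =
        OrthPrime.rQ (StdForms.minusQ F (d - 1) a b) W w
  have hP : (fun W : Submodule F ((Fin (d - 1) ⊕ Fin (d - 1)) ⊕ Fin 2 → F) => Module.finrank F ↥W = m ∧
      Cfsg.Geo.IsNondegenerateOn (QuadraticMap.polar ⇑(StdForms.minusQ F (d - 1) a b)) W ∧
      Cfsg.Geo.AreIsometricFor ⇑(StdForms.minusQ F (d - 1) a b) W W₀) = P :=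
    funext fun W => by simp only [P, OrthPrime.nondegenerateOn_iff, OrthPrime.isometricFor_iff]
  rcases eq_or_ne r 2 with rfl | hr2
  · have hneg : ∀ k, IsSquare ((-1 : F) ^ k) ↔ _ := OrthPrime.isSquare_neg_pow_iff (F := F) hq hodd
    have h8 := OrthPrime.isSquare_two_iff' (F := F) hq hodd
    have h8' := OrthPrime.q_mod_eight hodd
    constructor
    · intro h
      refine Or.inl ⟨rfl, ?_⟩
      by_contra hc
      simp only [not_or, Nat.even_iff, Ne, not_not] at hc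
      obtain ⟨x, hx, hxx⟩ := OrthPrime.exists_sqrt_neg h2 hQ (by omega) hcard
        (iff_of_false (by rw [hε]; decide) (by rw [hneg]; omega)) (Or.inr (h8.2 (by omega)))
      have hnot : ∀ W : Submodule F ((Fin (d - 1) ⊕ Fin (d - 1)) ⊕ Fin 2 → F), Module.finrank F W = m →
          OrthPrime.Nd (StdForms.minusQ F (d - 1) a b) W → OrthPrime.Inv (Forms.glEquiv _ F x) W → False := by
        intro W hWd hWn hWi
        obtain ⟨j, -, hj, -⟩ := OrthPrime.exists_pairs h2 (OrthPrime.isometry_of_mem hx) hxx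
          (one_ne_zero (α := F)) m hWd hWn hWi
        omega
      obtain ⟨W, ⟨hWd, hWn, -⟩, hWi⟩ := h x hx ⟨-1, (OrthPrime.eq_smul_one_iff _ _).2 fun v => by
          rw [map_pow, pow_two, LinearEquiv.mul_apply, hxx, neg_one_smul]⟩
        (fun z hz => hnot W₀ hW₀d hW₀n fun w hw => by
          rw [(OrthPrime.eq_smul_one_iff x z).1 hz]
          exact W₀.smul_mem z hw)
      exact hnot W hWd ((OrthPrime.nondegenerateOn_iff W).1 hWn) ((OrthPrime.map_le_iff_inv x W).1 hWi)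
    · rintro (⟨-, hR⟩ | h | h)
      rotate_left
      · exact absurd h.2.1 (lt_irrefl 2)
      · exact absurd h.2.1 (lt_irrefl 2)
      intro x hx ⟨z, hz⟩ _
      have hiso := OrthPrime.isometry_of_mem hx
      rcases OrthPrime.two_cases hQ (by omega) hx hz with he | he
      · obtain ⟨b', hb, -⟩ := OrthPrime.movS_facts h2 hQ (by omega) hx he
        obtain ⟨W, hW, hWi⟩ := OrthPrime.involution_fixes_odd hQ h2 hiso he hfin hb hm hmd hW₀n hW₀d
        exact ⟨W, (congrFun hP W).symm.mp hW, (OrthPrime.map_le_iff_inv x W).2 hWi⟩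
      · obtain ⟨hs, h2d⟩ := OrthPrime.sqrt_neg_facts h2 hQ (by omega) hx he hcard
        rw [hε, hneg] at hs
        rw [h8, Nat.even_iff] at h2d
        have hns : ¬ (d % 2 = 0 ∨ q % 4 = 1) := fun h => absurd (hs.2 h) (by decide)
        rw [Nat.even_iff] at hR
        omega
  have hr0 : (r : F) ≠ 0 := OrthPrime.cast_ne_zero_of_ne hrp
  have h2r : 2 < r := lt_of_le_of_ne (Fact.out : r.Prime).two_le (Ne.symm hr2)
  have hipos : 0 < i := by rw [hi, ← hq]; exact OrthPrime.orderOf_pos' hr0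
  have hgl := OrthPrime.gl_iff hQ (by omega) hr2 P
  rw [← hP] at hgl
  have hcrit := OrthPrime.odd_criterion hQ h2 (by rw [hfin]; exact even_two_mul d) hr0 hr2 hfin hε
    (show _ = i by rw [hi, ← hq]) hW₀n hW₀d hm
    (by change r ∣ Nat.card {W // P W}; rw [← hP]; exact hrΩ)
  have hform := OrthPrime.Arith.nd_5991 (d := d) hipos hm' hmd
  rw [show c = OrthPrime.Arith.cD i from hc]
  refine (hgl.trans (by rw [hP])).trans (Iff.intro ?_ ?_)
  · intro ha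
    obtain ⟨hcm, hC⟩ := hcrit.1 ha
    rcases hform.2 hcm hC with ⟨h1, h3⟩ | ⟨h1, h3⟩
    · exact Or.inr (Or.inl ⟨hrp, h2r, h1, h3⟩)
    · exact Or.inr (Or.inr ⟨hrp, h2r, h1, h3⟩)
  · rintro (⟨h, -⟩ | ⟨-, -, h1, h3⟩ | ⟨-, -, h1, h3⟩)
    · exact absurd h hr2
    · exact hcrit.2 (hform.1 (Or.inl ⟨h1, h3⟩))
    · exact hcrit.2 (hform.1 (Or.inr ⟨h1, h3⟩))

end Cfsg.Agent.S5991
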