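import Cfsg.Statements.S5992
import Cfsg.Agent.Lib.OrthPrime.Criteria
import Cfsg.Agent.Lib.OrthPrime.InvolOdd
-- import your own Cfsg.Agent.* helpers here

set_option autoImplicit false
open scoped MatrixGroups
open Cfsg
open Cfsg.Agent.Lib

namespace Cfsg.Agent.S5992

/-- Elements of prime order r ≠ p of Ω_n(q), nq odd, with no fixed hyperbolic `m`-space. Here `T = Ω_n(F)`, `n = 2d+1 ≥ 7`, `q` odd, realised as the commutator subgroup of the isometry group of `Q = x₀² + Σ xᵢyᵢ` over the field `F` with `q` elements (trivial centre, so its elements of prime order `r` are used directly); a nondegenerate `m`-space (even `m`) is a subspace on which the polar form of `Q` is nondegenerate; it is hyperbolic if it contains an `m/2`-dimensional subspace on which `Q` vanishes, elliptic otherwise. Let `m` be even with `2 ≤ m ≤ n − 1` (no restriction `m < n/2`) and let `r ≠ p` be a prime dividing the number of hyperbolic `m`-spaces; for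 `r ≠ p` let `i` be the multiplicative order of `q` modulo `r`, `c = i` for `i` even and `c = 2i` for `i` odd, and write `k = n mod c`, `ℓ' = m mod c`. Then every element of `T` of order `r` fixes some hyperbolic `m`-space if and only if `r = 2`, or `r` is odd and one of: (i) `i` odd, `c ≤ m` and either `k > ℓ' > 0` or `ℓ' = 0`; (ii) `i` even, `i ≤ m`, `k > ℓ'`, and `m/i` even whenever `ℓ' = 0`. (`r = p` is not covered by this statement.) -/
theorem result {F : Type*} [Field F] [Fintype F] {p : ℕ} [Fact p.Prime] [CharP F p] {q : ℕ} (hq : Fintype.card F = q) (hqodd : Odd q)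
    (d m : ℕ) (hd : 3 ≤ d) (hm : 2 ≤ m) (hme : Even m) (hmn : m ≤ 2 * d)
    (r : ℕ) [Fact r.Prime] (hrp : r ≠ p)
    (hrΩ : r ∣ Nat.card {W : Submodule F (Unit ⊕ (Fin d ⊕ Fin d) → F) // Module.finrank F ↥W = m ∧ Cfsg.Geo.IsNondegenerateOn (QuadraticMap.polar (Cfsg.quadFormOdd d F)) W ∧ Cfsg.Geo.IsPlusTypeOn (Cfsg.quadFormOdd d F) W})
    (i c : ℕ) (hi : i = orderOf (q : ZMod r)) (hc : c = if Even i then i else 2 * i) :
    (∀ x : GL (Unit ⊕ (Fin d ⊕ Fin d)) F, x ∈ Cfsg.Geo.omegaGL (Cfsg.quadFormOdd d F) → orderOf x = r →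
      ∃ W : Submodule F (Unit ⊕ (Fin d ⊕ Fin d) → F), (Module.finrank F ↥W = m ∧ Cfsg.Geo.IsNondegenerateOn (QuadraticMap.polar (Cfsg.quadFormOdd d F)) W ∧ Cfsg.Geo.IsPlusTypeOn (Cfsg.quadFormOdd d F) W) ∧ W.map (Matrix.toLin' (x : Matrix (Unit ⊕ (Fin d ⊕ Fin d)) (Unit ⊕ (Fin d ⊕ Fin d)) F)) ≤ W) ↔
    (r = 2 ∨
     (2 < r ∧ Odd i ∧ c ≤ m ∧ (m % c = 0 ∨ (0 < m % c ∧ m % c < (2 * d + 1) % c))) ∨
     (2 < r ∧ Even i ∧ i ≤ m ∧ m % c < (2 * d + 1) % c ∧ (0 < m % c ∨ Even (m / i)))) := by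
  have h2 : (2 : F) ≠ 0 := fun h => by
    haveI : CharP F 2 := CharTwo.of_one_ne_zero_of_two_eq_zero one_ne_zero h
    rw [← hq] at hqodd
    obtain ⟨k, -, hk⟩ := FiniteField.card F 2
    rw [hk, Nat.odd_pow_iff k.ne_zero] at hqodd
    exact absurd hqodd (by decide)
  have hQ := StdForms.oddQ_nondegenerate h2 d
  have hcard : Fintype.card (Unit ⊕ (Fin d ⊕ Fin d)) = 2 * d + 1 := by simp; omega
  have hfin : Module.finrank F (Unit ⊕ (Fin d ⊕ Fin d) → F) = 2 * d + 1 := by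
    rw [OrthPrime.finrank_fun_eq, hcard]
  rw [← StdForms.coe_oddQ (F := F) d] at hrΩ ⊢
  have hPeq : (fun W : Submodule F (Unit ⊕ (Fin d ⊕ Fin d) → F) => Module.finrank F ↥W = m ∧
      Cfsg.Geo.IsNondegenerateOn (QuadraticMap.polar ⇑(StdForms.oddQ F d)) W ∧
      Cfsg.Geo.IsPlusTypeOn ⇑(StdForms.oddQ F d) W) = OrthPrime.NDsub (StdForms.oddQ F d) m 1 := funext fun W => by
    simp only [OrthPrime.NDsub, OrthPrime.nondegenerateOn_iff, OrthPrime.plusTypeOn_iff]
  rcases eq_or_ne r 2 with rfl | hr2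
  · refine iff_of_true (fun x hx hxo => ?_) (Or.inl rfl)
    obtain ⟨l, rfl⟩ := hme
    have he : Forms.glEquiv _ F x ^ 2 = 1 := by rw [← map_pow, ← hxo, pow_orderOf_eq_one, map_one]
    obtain ⟨W, hW, hWi⟩ := OrthPrime.involution_fixes_nd hQ h2 (OrthPrime.isometry_of_mem hx) he hfin
      (l := l) (by omega) (by omega) (s := 1) (Or.inl rfl)
    rw [show 2 * l = l + l by omega, ← hPeq] at hW
    exact ⟨W, hW, (OrthPrime.map_le_iff_inv x W).2 hWi⟩
  have hr0 : (r : F) ≠ 0 := OrthPrime.cast_ne_zero_of_ne hrp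
  have h2r : 2 < r := lt_of_le_of_ne (Fact.out : r.Prime).two_le (Ne.symm hr2)
  have hipos : 0 < i := by rw [hi, ← hq]; exact OrthPrime.orderOf_pos' hr0
  have hcrit := OrthPrime.nd_criterion (Q := StdForms.oddQ F d) hQ (fun _ => h2) hr0 hr2 hfin
    (OrthPrime.qsgn_oddQ d) (show _ = i by rw [hi, ← hq]) (m := m) hme hm (by omega) (s := 1) (Or.inl rfl)
    (by rw [← hPeq]; exact hrΩ)
  have hform := OrthPrime.Arith.nd_5992 (d := d) hipos (Nat.even_iff.1 hme) hm hmn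
  have hgl := OrthPrime.gl_iff_orderOf hQ (by rw [hcard]; omega) hr2 (OrthPrime.NDsub (StdForms.oddQ F d) m 1)
  rw [← hPeq] at hgl
  rw [hgl, hPeq, show c = OrthPrime.Arith.cD i from hc]
  constructor
  · intro ha
    obtain ⟨hcm, hC⟩ := hcrit.1 ha
    rcases hform.2 hcm hC with ⟨ho, h⟩ | ⟨he, h⟩
    · exact Or.inr (Or.inl ⟨h2r, ho, h⟩)
    · exact Or.inr (Or.inr ⟨h2r, he, h⟩)
  · rintro (h | ⟨-, ho, h⟩ | ⟨-, he, h⟩)
    · exact absurd h hr2
    · exact hcrit.2 (hform.1 (Or.inl ⟨ho, h⟩))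
    · exact hcrit.2 (hform.1 (Or.inr ⟨he, h⟩))

end Cfsg.Agent.S5992
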