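import Cfsg.Statements.S5993
import Cfsg.Agent.Lib.OrthPrime.TwoCases
import Cfsg.Agent.Lib.OrthPrime.UnipStd
-- import your own Cfsg.Agent.* helpers here

set_option autoImplicit false
open scoped MatrixGroups
open Cfsg
open Cfsg.Agent.Lib

namespace Cfsg.Agent.S5993

/-- Elements of prime order of Ω_n(q), nq odd, with no fixed elliptic `m`-space. Here `T = Ω_n(F)`, `n = 2d+1 ≥ 7`, `q` odd, realised as the commutator subgroup of the isometry group of `Q = x₀² + Σ xᵢyᵢ` over the field `F` with `q` elements (trivial centre, so its elements of prime order `r` are used directly); a nondegenerate `m`-space (even `m`) is a subspace on which the polar form of `Q` is nondegenerate; it is hyperbolic if it contains an `m/2`-dimensional subspace on which `Q` vanishes, elliptic otherwise. Let `m` be even with `2 ≤ m ≤ n − 1` (no restriction `m < n/2`) and let `r` be a prime dividing the number of elliptic `m`-spaces;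 for `r ≠ p` let `i` be the multiplicative order of `q` modulo `r`, `c = i` for `i` even and `c = 2i` for `i` odd, and write `k = n mod c`, `ℓ' = m mod c`. Then every element of `T` of order `r` fixes some elliptic `m`-space if and only if `r = 2`, or `r ≠ p` is odd and one of: (i) `i` odd, `c ≤ m` and `k > ℓ' > 0`; (ii) `i` even, `i ≤ m`, `k > ℓ'`, and `m/i` odd whenever `ℓ' = 0`. (For `r = p` there is always an element of order `p` fixing no elliptic `m`-space.) -/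
theorem result {F : Type*} [Field F] [Fintype F] {p : ℕ} [Fact p.Prime] [CharP F p] {q : ℕ} (hq : Fintype.card F = q) (hqodd : Odd q)
    (d m : ℕ) (hd : 3 ≤ d) (hm : 2 ≤ m) (hme : Even m) (hmn : m ≤ 2 * d)
    (r : ℕ) [Fact r.Prime]
    (hrΩ : r ∣ Nat.card {W : Submodule F (Unit ⊕ (Fin d ⊕ Fin d) → F) // Module.finrank F ↥W = m ∧ Cfsg.Geo.IsNondegenerateOn (QuadraticMap.polar (Cfsg.quadFormOdd d F)) W ∧ ¬ Cfsg.Geo.IsPlusTypeOn (Cfsg.quadFormOdd d F) W})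
    (i c : ℕ) (hi : i = orderOf (q : ZMod r)) (hc : c = if Even i then i else 2 * i) :
    (∀ x : GL (Unit ⊕ (Fin d ⊕ Fin d)) F, x ∈ Cfsg.Geo.omegaGL (Cfsg.quadFormOdd d F) → orderOf x = r →
      ∃ W : Submodule F (Unit ⊕ (Fin d ⊕ Fin d) → F), (Module.finrank F ↥W = m ∧ Cfsg.Geo.IsNondegenerateOn (QuadraticMap.polar (Cfsg.quadFormOdd d F)) W ∧ ¬ Cfsg.Geo.IsPlusTypeOn (Cfsg.quadFormOdd d F) W) ∧ W.map (Matrix.toLin' (x : Matrix (Unit ⊕ (Fin d ⊕ Fin d)) (Unit ⊕ (Fin d ⊕ Fin d)) F)) ≤ W) ↔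
    (r = 2 ∨
     (r ≠ p ∧ 2 < r ∧ Odd i ∧ c ≤ m ∧ 0 < m % c ∧ m % c < (2 * d + 1) % c) ∨
     (r ≠ p ∧ 2 < r ∧ Even i ∧ i ≤ m ∧ m % c < (2 * d + 1) % c ∧ (0 < m % c ∨ Odd (m / i)))) := by
  have h2 : (2 : F) ≠ 0 := OrthPrime.two_ne_zero_of_odd hq hqodd
  have hcard : Fintype.card (Unit ⊕ (Fin d ⊕ Fin d)) = 2 * d + 1 := by simp; omega
  rcases eq_or_ne r p with rfl | hrp
  · have hp2 := OrthPrime.char_ne_two_of_odd (F := F) hq hqodd
    refine iff_of_false (fun h => ?_) (by rintro (h | h | h) <;> first | exact hp2 h | exact h.1 rfl)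
    have key : ∀ c₁ c₂ c₃ : ℕ, Even c₂ → (c₂ ≠ 0 ∨ c₃ ≠ 0) → c₁ + 2 * c₂ + 3 * c₃ = 2 * d + 1 →
        (∀ a₁ a₂ a₃, a₁ ≤ c₁ → a₂ ≤ c₂ → a₃ ≤ c₃ → Even a₂ → m = a₁ + 2 * a₂ + 3 * a₃ → c₃ = 0 ∧ a₁ = 0) →
        False := by
      intro c₁ c₂ c₃ hc hbig hsum hkey
      obtain ⟨x, hxΩ, -, hxo, -, hW⟩ := OrthPrime.Unip.exists_parts_witness
        ((Fact.out : Nat.Prime _).odd_of_ne_two hp2) h2 _ (OrthPrime.Unip.two_mul_odd d) (fun _ => (1 : F))
        (fun _ => one_ne_zero) (OrthPrime.Unip.stdOdd d) (OrthPrime.Unip.polar_odd d) hc hbig (N := d) hsum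
        (Or.inr (Or.inl rfl))
      obtain ⟨W, ⟨hWd, hWn, hWp⟩, hWi⟩ := h x hxΩ hxo
      obtain ⟨a₁, a₂, a₃, h1, h3, h4, h5, h6, hpl⟩ := hW W hWn hWi
      obtain ⟨e1, e2⟩ := hkey a₁ a₂ a₃ h1 h3 h4 h5 (hWd.symm.trans h6)
      exact hWp (hpl e1 e2)
    rw [Nat.even_iff] at hme
    simp only [Nat.even_iff] at key
    rcases Nat.mod_two_eq_zero_or_one d with hdp | hdp
    · exact key 1 d 0 hdp (Or.inl (by omega)) (by omega) fun a₁ a₂ a₃ h1 h2 h3 h4 h5 => by omega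
    · rcases (show m % 4 = 0 ∨ m % 4 = 2 by omega) with hm4 | hm4
      · exact key 3 (d - 1) 0 (by omega) (Or.inl (by omega)) (by omega) fun a₁ a₂ a₃ h1 h2 h3 h4 h5 => by omega
      · exact key 0 (d - 1) 1 (by omega) (Or.inl (by omega)) (by omega) fun a₁ a₂ a₃ h1 h2 h3 h4 h5 => by omega
  have hQ := StdForms.oddQ_nondegenerate h2 d
  have hfin : Module.finrank F (Unit ⊕ (Fin d ⊕ Fin d) → F) = 2 * d + 1 := by
    rw [OrthPrime.finrank_fun_eq, hcard]
  rw [← StdForms.coe_oddQ (F := F) d] at hrΩ ⊢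
  have hPeq : (fun W : Submodule F (Unit ⊕ (Fin d ⊕ Fin d) → F) => Module.finrank F ↥W = m ∧
      Cfsg.Geo.IsNondegenerateOn (QuadraticMap.polar ⇑(StdForms.oddQ F d)) W ∧
      ¬ Cfsg.Geo.IsPlusTypeOn ⇑(StdForms.oddQ F d) W) = OrthPrime.NDsub (StdForms.oddQ F d) m (-1) :=
    funext fun W => by
      simp only [OrthPrime.NDsub, OrthPrime.nondegenerateOn_iff, OrthPrime.not_plusTypeOn_iff]
  rcases eq_or_ne r 2 with rfl | hr2
  · refine iff_of_true (fun x hx hxo => ?_) (Or.inl rfl)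
    obtain ⟨l, rfl⟩ := hme
    have he : Forms.glEquiv _ F x ^ 2 = 1 := by rw [← map_pow, ← hxo, pow_orderOf_eq_one, map_one]
    obtain ⟨W, hW, hWi⟩ := OrthPrime.involution_fixes_nd hQ h2 (OrthPrime.isometry_of_mem hx) he hfin
      (l := l) (by omega) (by omega) (s := -1) (Or.inr rfl)
    rw [show 2 * l = l + l by omega, ← hPeq] at hW
    exact ⟨W, hW, (OrthPrime.map_le_iff_inv x W).2 hWi⟩
  have hr0 : (r : F) ≠ 0 := OrthPrime.cast_ne_zero_of_ne hrp
  have h2r : 2 < r := lt_of_le_of_ne (Fact.out : r.Prime).two_le (Ne.symm hr2)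
  have hipos : 0 < i := by rw [hi, ← hq]; exact OrthPrime.orderOf_pos' hr0
  have hcrit := OrthPrime.nd_criterion (Q := StdForms.oddQ F d) hQ (fun _ => h2) hr0 hr2 hfin
    (OrthPrime.qsgn_oddQ d) (show _ = i by rw [hi, ← hq]) (m := m) hme hm (by omega) (s := -1) (Or.inr rfl)
    (by rw [← hPeq]; exact hrΩ)
  have hform := OrthPrime.Arith.nd_5993 (d := d) hipos (Nat.even_iff.1 hme) hm hmn
  have hgl := OrthPrime.gl_iff_orderOf hQ (by rw [hcard]; omega) hr2 (OrthPrime.NDsub (StdForms.oddQ F d) m (-1))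
  rw [← hPeq] at hgl
  rw [hgl, hPeq, show c = OrthPrime.Arith.cD i from hc]
  constructor
  · intro ha
    obtain ⟨hcm, hC⟩ := hcrit.1 ha
    rcases hform.2 hcm hC with ⟨ho, h⟩ | ⟨he, h⟩
    · exact Or.inr (Or.inl ⟨hrp, h2r, ho, h⟩)
    · exact Or.inr (Or.inr ⟨hrp, h2r, he, h⟩)
  · rintro (h | ⟨-, -, ho, h⟩ | ⟨-, -, he, h⟩)
    · exact absurd h hr2
    · exact hcrit.2 (hform.1 (Or.inl ⟨ho, h⟩))
    · exact hcrit.2 (hform.1 (Or.inr ⟨he, h⟩))

end Cfsg.Agent.S5993
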