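import Cfsg.Statements.S5994
import Mathlib
import Cfsg.Agent.Lib.OrthUnipotent.Witness
import Cfsg.Agent.Lib.OrthUnipotent.Partitions
set_option autoImplicit false
open scoped MatrixGroups
open Cfsg

namespace Cfsg.Agent.S5994

/-- A necessary condition for every element of order p of PΩ⁻_n(q), q odd, to fix an elliptic `m`-space. Here `T = PΩ⁻_n(F)`, `n = 2d ≥ 8`, realised through `Ω⁻_n(q)`, the commutator subgroup of the isometry group of `Q = Σ_{i<d−1} xᵢyᵢ + z₁² + a z₁z₂ + b z₂²` with `z₁² + a z₁z₂ + b z₂²` anisotropic, over the field `F` with `q` elements; an element of `T` of prime order `r` is an element `x` of `Ω⁻_n(q)` with `x^r` scalar and `x` not scalar; `q` is odd; a nondegenerate `m`-space (even `m`) is a subspace on which the polar form of `Q` is nondegenerate; it is hyperbolic if it contains an `m/2`-dimensional subspace on which `Q` vanishes, elliptic otherwise. Let `m` be even with `2 ≤ m ≤ n − 2` and suppose `p` divides the number of elliptic `m`-spaces.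 If every element of `T` of order `p` fixes some elliptic `m`-space, then `n ≡ m (mod 4)` and every partition of `n` into parts of size at most `p` in which every even part has even multiplicity contains (as a sub-multiset) a partition of `m` in which every even part has even multiplicity. -/
theorem result {F : Type*} [Field F] [Fintype F] {p : ℕ} [Fact p.Prime] [CharP F p] {q : ℕ} (hq : Fintype.card F = q) (hqodd : Odd q)
    (d m : ℕ) (hd : 4 ≤ d) (hm : 2 ≤ m) (hme : Even m) (hmn : m + 2 ≤ 2 * d) (a b : F) (hab : ∀ x y : F, x ^ 2 + a * x * y + b * y ^ 2 = 0 → x = 0 ∧ y = 0)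
    (hpΩ : p ∣ Nat.card {W : Submodule F ((Fin (d - 1) ⊕ Fin (d - 1)) ⊕ Fin 2 → F) // Module.finrank F ↥W = m ∧ Cfsg.Geo.IsNondegenerateOn (QuadraticMap.polar (Cfsg.quadFormMinus (d - 1) F a b)) W ∧ ¬ Cfsg.Geo.IsPlusTypeOn (Cfsg.quadFormMinus (d - 1) F a b) W}) :
    (∀ x : GL ((Fin (d - 1) ⊕ Fin (d - 1)) ⊕ Fin 2) F, x ∈ Cfsg.Geo.omegaGL (Cfsg.quadFormMinus (d - 1) F a b) →
      (∃ z : F, ((x ^ p : GL ((Fin (d - 1) ⊕ Fin (d - 1)) ⊕ Fin 2) F) : Matrix ((Fin (d - 1) ⊕ Fin (d - 1)) ⊕ Fin 2) ((Fin (d - 1) ⊕ Fin (d - 1)) ⊕ Fin 2) F) = z • (1 : Matrix ((Fin (d - 1) ⊕ Fin (d - 1)) ⊕ Fin 2) ((Fin (d - 1) ⊕ Fin (d - 1)) ⊕ Fin 2) F)) →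
      (∀ z : F, (x : Matrix ((Fin (d - 1) ⊕ Fin (d - 1)) ⊕ Fin 2) ((Fin (d - 1) ⊕ Fin (d - 1)) ⊕ Fin 2) F) ≠ z • (1 : Matrix ((Fin (d - 1) ⊕ Fin (d - 1)) ⊕ Fin 2) ((Fin (d - 1) ⊕ Fin (d - 1)) ⊕ Fin 2) F)) →
      ∃ W : Submodule F ((Fin (d - 1) ⊕ Fin (d - 1)) ⊕ Fin 2 → F), (Module.finrank F ↥W = m ∧ Cfsg.Geo.IsNondegenerateOn (QuadraticMap.polar (Cfsg.quadFormMinus (d - 1) F a b)) W ∧ ¬ Cfsg.Geo.IsPlusTypeOn (Cfsg.quadFormMinus (d - 1) F a b) W) ∧ W.map (Matrix.toLin' (x : Matrix ((Fin (d - 1) ⊕ Fin (d - 1)) ⊕ Fin 2) ((Fin (d - 1) ⊕ Fin (d - 1)) ⊕ Fin 2) F)) ≤ W) →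
    ((2 * d) % 4 = m % 4 ∧ (∀ μ : Multiset ℕ, (∀ e ∈ μ, 0 < e ∧ e ≤ p) → (∀ e : ℕ, Even e → Even (μ.count e)) → μ.sum = 2 * d →
        ∃ ν : Multiset ℕ, ν ≤ μ ∧ ν.sum = m ∧ ∀ e : ℕ, Even e → Even (ν.count e))) := by
  intro hfix
  obtain ⟨hp, h2⟩ := Lib.OrthUnipotent.odd_char_of_odd_card F p (hq.symm ▸ hqodd)
  have hp3 : 3 ≤ p := by
    have := (Fact.out : p.Prime).two_le
    obtain ⟨k, hk⟩ := hp
    omega
  set c : F := b - a ^ 2 / 4 with hc
  have h4 : (4 : F) ≠ 0 := by
    rw [show (4 : F) = 2 * 2 by norm_num]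
    exact mul_ne_zero h2 h2
  have hc0 : c ≠ 0 := by
    intro h
    have := hab (-a / 2) 1 (by
      rw [hc] at h
      field_simp at h ⊢
      linear_combination h)
    exact one_ne_zero this.2
  let e : ((Fin (d - 1) ⊕ Fin (d - 1)) ⊕ Fin 2 → F) ≃ₗ[F] Lib.OrthUnipotent.StdSpace F (d - 1) 2 :=
    { toFun := fun v => (fun i => v (.inl (.inl i)), fun i => v (.inl (.inr i)),
        ![v (.inr 0) + a / 2 * v (.inr 1), v (.inr 1)])
      map_add' := fun u v => by
        refine Prod.ext rfl (Prod.ext rfl ?_)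
        funext i
        fin_cases i
        · simp; ring
        · simp
      map_smul' := fun k u => by
        refine Prod.ext rfl (Prod.ext rfl ?_)
        funext i
        fin_cases i
        · simp; ring
        · simp
      invFun := fun w => Sum.elim (Sum.elim w.1 w.2.1) ![w.2.2 0 - a / 2 * w.2.2 1, w.2.2 1]
      left_inv := fun v => funext fun i => by
        rcases i with (i | i) | i
        · rfl
        · rfl
        · fin_cases i <;> simp
      right_inv := fun w => by
        refine Prod.ext rfl (Prod.ext rfl ?_)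
        funext i
        fin_cases i <;> simp }
  have hpol : ∀ u v, QuadraticMap.polar (Cfsg.quadFormMinus (d - 1) F a b) u v =
      Lib.OrthUnipotent.stdForm (d - 1) (![1, c] : Fin 2 → F) (e u) (e v) := by
    intro u v
    simp only [QuadraticMap.polar, Cfsg.quadFormMinus, Lib.OrthUnipotent.stdForm_apply, e, LinearEquiv.coe_mk,
      LinearMap.coe_mk, AddHom.coe_mk, Pi.add_apply, Fin.sum_univ_two, Matrix.cons_val_zero, Matrix.cons_val_one,
      Matrix.cons_val_fin_one, mul_add, add_mul, Finset.sum_add_distrib,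
      mul_comm (v (Sum.inl (Sum.inl _))) (u (Sum.inl (Sum.inr _))), hc]
    field_simp
    ring
  have hQ : ∀ v, 2 * Cfsg.quadFormMinus (d - 1) F a b v =
      QuadraticMap.polar (Cfsg.quadFormMinus (d - 1) F a b) v v := by
    intro v
    simp only [QuadraticMap.polar, Cfsg.quadFormMinus, Pi.add_apply, add_mul, mul_add, Finset.sum_add_distrib]
    ring
  have witness : ∀ μ : Multiset ℕ, (∀ k ∈ μ, 0 < k ∧ k ≤ p) → (∀ k : ℕ, Even k → Even (μ.count k)) →
      μ.sum = 2 * d → (∃ k ∈ μ, Odd k) → (∃ k ∈ μ, 2 ≤ k) →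
      ∃ ν : Multiset ℕ, ν ≤ μ ∧ ν.sum = m ∧ (∀ k : ℕ, Even k → Even (ν.count k)) ∧
        ((∀ k ∈ μ, k ≤ 2) → ν.count 1 ≠ 0) := by
    intro μ hμ hev hsum hodd hbig
    have hreal := Lib.OrthUnipotent.isRealised_of_tail h2 μ (fun k hk => (hμ k hk).1) hev
      (![1, c] : Fin 2 → F) (fun i => by fin_cases i <;> simp [hc0]) (N := d - 1) (by omega)
      (Or.inr (Or.inr ⟨rfl, hodd⟩))
    obtain ⟨x, hxΩ, hxp, hxns, hW⟩ := Lib.OrthUnipotent.exists_omega_element hp _ hQ _ e hpol μ hreal
      (fun k hk => (hμ k hk).2) hbig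
    obtain ⟨W, ⟨hm', hnd, hnp⟩, hinv⟩ := hfix x hxΩ ⟨1, by rw [hxp, Units.val_one, one_smul]⟩ hxns
    obtain ⟨ν, hν, hs, hev', -, hpl⟩ := hW W hnd hinv
    exact ⟨ν, hν, hs.trans hm', hev', fun hk h1 => hnp (hpl hk h1)⟩
  refine ⟨?_, fun μ hμ hev hsum => ?_⟩
  · by_contra hm4
    obtain ⟨m', hm'⟩ := hme
    rcases Nat.even_or_odd d with hde | hdo
    · obtain ⟨ν, hν, hs, hev', -⟩ := witness
        (Multiset.replicate 1 1 + Multiset.replicate 1 3 + Multiset.replicate (d - 2) 2)
        (fun k hk => by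
          simp only [Multiset.mem_add, Multiset.mem_replicate] at hk
          omega)
        (fun k hk => by
          obtain ⟨j, hj⟩ := hde
          simp only [Multiset.count_add, Multiset.count_replicate]
          split_ifs with h1 h1' h1'' <;> first
            | exact (by subst h1; exact absurd hk (by decide))
            | (subst_vars; exact absurd hk (by decide))
            | exact ⟨j - 1, by omega⟩
            | exact ⟨0, rfl⟩)
        (by simp only [Multiset.sum_add, Multiset.sum_replicate, smul_eq_mul]; omega)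
        ⟨1, by simp, odd_one⟩ ⟨3, by simp, by omega⟩
      have h := Lib.OrthUnipotent.sum_eq_count_add ν (fun k hk => by
        have := Multiset.mem_of_le hν hk
        simp only [Multiset.mem_add, Multiset.mem_replicate] at this
        omega)
      obtain ⟨j, hj⟩ := hev' 2 even_two
      have h1 := Multiset.count_le_of_le 1 hν
      have h3 := Multiset.count_le_of_le 3 hν
      simp only [Multiset.count_add, Multiset.count_replicate, if_true, if_false, show (2 : ℕ) ≠ 1 by decide, show (3 : ℕ) ≠ 1 by decide, show (1 : ℕ) ≠ 2 by decide, show (3 : ℕ) ≠ 2 by decide, show (2 : ℕ) ≠ 3 by decide, show (1 : ℕ) ≠ 3 by decide] at h1 h3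
      obtain ⟨i, hi⟩ := hde
      rcases Nat.le_one_iff_eq_zero_or_eq_one.mp (show ν.count 3 ≤ 1 by omega) with h3' | h3' <;>
        rcases Nat.le_one_iff_eq_zero_or_eq_one.mp (show ν.count 1 ≤ 1 by omega) with h1' | h1' <;> omega
    · obtain ⟨ν, hν, hs, hev', hne⟩ := witness (Multiset.replicate 2 1 + Multiset.replicate (d - 1) 2)
        (fun k hk => by
          simp only [Multiset.mem_add, Multiset.mem_replicate] at hk
          omega)
        (fun k hk => by
          obtain ⟨j, hj⟩ := hdo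
          simp only [Multiset.count_add, Multiset.count_replicate]
          split_ifs with h1 h1' <;> first
            | exact (by subst h1; exact absurd hk (by decide))
            | exact ⟨j, by omega⟩
            | exact ⟨0, rfl⟩)
        (by simp only [Multiset.sum_add, Multiset.sum_replicate, smul_eq_mul]; omega)
        ⟨1, by simp, odd_one⟩ ⟨2, Multiset.mem_add.mpr (Or.inr (Multiset.mem_replicate.mpr ⟨by omega, rfl⟩)), by omega⟩
      have h := Lib.OrthUnipotent.sum_eq_count_add ν (fun k hk => by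
        have := Multiset.mem_of_le hν hk
        simp only [Multiset.mem_add, Multiset.mem_replicate] at this
        omega)
      have hne' := hne (fun k hk => by
        simp only [Multiset.mem_add, Multiset.mem_replicate] at hk
        omega)
      obtain ⟨j, hj⟩ := hev' 2 even_two
      have h1 := Multiset.count_le_of_le 1 hν
      have h3 := Multiset.count_le_of_le 3 hν
      simp only [Multiset.count_add, Multiset.count_replicate, if_true, if_false, show (2 : ℕ) ≠ 1 by decide, show (3 : ℕ) ≠ 1 by decide, show (1 : ℕ) ≠ 2 by decide, show (3 : ℕ) ≠ 2 by decide, show (2 : ℕ) ≠ 3 by decide, show (1 : ℕ) ≠ 3 by decide] at h1 h3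
      obtain ⟨i, hi⟩ := hdo
      omega
  · by_cases hbig : ∃ k ∈ μ, 2 ≤ k
    swap
    · push Not at hbig
      refine Lib.OrthUnipotent.subPartition_of_ones μ (fun k hk => ?_) m (by omega)
      have := (hμ k hk).1
      have := hbig k hk
      omega
    by_cases hodd : ∃ k ∈ μ, Odd k
    · obtain ⟨ν, hν, hs, hev', -⟩ := witness μ hμ hev hsum hodd hbig
      exact ⟨ν, hν, hs, hev'⟩
    push Not at hodd
    have heven : ∀ k ∈ μ, Even k := fun k hk => Nat.not_odd_iff_even.mp (hodd k hk)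
    obtain ⟨k₀, hk₀, hk₀2⟩ := hbig
    obtain ⟨μ₁, hμ₁⟩ := Multiset.exists_cons_of_mem hk₀
    have hcnt := hev k₀ (heven k₀ hk₀)
    rw [hμ₁, Multiset.count_cons_self] at hcnt
    have hmem : k₀ ∈ μ₁ := by
      rw [← Multiset.count_pos]
      obtain ⟨j, hj⟩ := hcnt
      omega
    obtain ⟨μ₀, rfl⟩ := Multiset.exists_cons_of_mem hmem
    subst hμ₁
    obtain ⟨j₀, hj₀⟩ := heven k₀ hk₀
    have hk₀p := (hμ k₀ hk₀).2
    have hodd' : Odd p := hp
    obtain ⟨jp, hjp⟩ := hodd'
    have ho1 : Odd (k₀ + 1) := ⟨j₀, by omega⟩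
    have ho2 : Odd (k₀ - 1) := ⟨j₀ - 1, by omega⟩
    have hev0 : ∀ k : ℕ, Even k → Even (μ₀.count k) := by
      intro k hk
      have := hev k hk
      by_cases h : k = k₀
      · subst h
        rw [Multiset.count_cons_self, Multiset.count_cons_self] at this
        obtain ⟨j, hj⟩ := this
        exact ⟨j - 1, by omega⟩
      · rwa [Multiset.count_cons_of_ne h, Multiset.count_cons_of_ne h] at this
    have hmem0 : ∀ k ∈ μ₀, k ∈ k₀ ::ₘ k₀ ::ₘ μ₀ := fun k hk =>
      Multiset.mem_cons_of_mem (Multiset.mem_cons_of_mem hk)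
    simp only [Multiset.sum_cons] at hsum
    obtain ⟨ν, hν, hs, hev', -⟩ := witness ((k₀ + 1) ::ₘ (k₀ - 1) ::ₘ μ₀)
      (fun k hk => by
        rcases Multiset.mem_cons.mp hk with rfl | hk
        · exact ⟨by omega, by omega⟩
        rcases Multiset.mem_cons.mp hk with rfl | hk
        · exact ⟨by omega, by omega⟩
        exact hμ k (hmem0 k hk))
      (fun k hk => by
        rw [Multiset.count_cons_of_ne, Multiset.count_cons_of_ne]
        · exact hev0 k hk
        · rintro rfl; exact absurd hk (Nat.not_even_iff_odd.mpr ho2)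
        · rintro rfl; exact absurd hk (Nat.not_even_iff_odd.mpr ho1))
      (by simp only [Multiset.sum_cons]; omega)
      ⟨k₀ + 1, Multiset.mem_cons_self _ _, ho1⟩ ⟨k₀ + 1, Multiset.mem_cons_self _ _, by omega⟩
    have hsum_even : ∀ s : Multiset ℕ, s ≤ μ₀ → Even s.sum := fun s hs => by
      obtain ⟨t, ht⟩ := Multiset.dvd_sum (s := s) (a := 2)
        (fun k hk => even_iff_two_dvd.mp (heven k (hmem0 k (Multiset.mem_of_le hs hk))))
      exact ⟨t, by omega⟩
    have hnm1 : k₀ + 1 ∉ μ₀ := fun h => (Nat.not_even_iff_odd.mpr ho1) (heven _ (hmem0 _ h))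
    have hnm2 : k₀ - 1 ∉ μ₀ := fun h => (Nat.not_even_iff_odd.mpr ho2) (heven _ (hmem0 _ h))
    by_cases h1 : k₀ + 1 ∈ ν
    · obtain ⟨ν₁, rfl⟩ := Multiset.exists_cons_of_mem h1
      have hν₁ := (Multiset.cons_le_cons_iff _).mp hν
      by_cases h2' : k₀ - 1 ∈ ν₁
      · obtain ⟨ν₂, rfl⟩ := Multiset.exists_cons_of_mem h2'
        have hν₂ := (Multiset.cons_le_cons_iff _).mp hν₁
        refine ⟨k₀ ::ₘ k₀ ::ₘ ν₂, Multiset.cons_le_cons _ (Multiset.cons_le_cons _ hν₂), ?_, fun k hk => ?_⟩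
        · simp only [Multiset.sum_cons] at hs ⊢; omega
        · have := hev' k hk
          rw [Multiset.count_cons_of_ne (by rintro rfl; exact absurd hk (Nat.not_even_iff_odd.mpr ho1)),
            Multiset.count_cons_of_ne (by rintro rfl; exact absurd hk (Nat.not_even_iff_odd.mpr ho2))] at this
          by_cases h : k = k₀
          · subst h
            rw [Multiset.count_cons_self, Multiset.count_cons_self]
            obtain ⟨j, hj⟩ := this
            exact ⟨j + 1, by omega⟩
          · rwa [Multiset.count_cons_of_ne h, Multiset.count_cons_of_ne h]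
      · have hν₁' : ν₁ ≤ μ₀ := (Multiset.le_cons_of_notMem h2').mp hν₁
        obtain ⟨t, ht⟩ := hsum_even ν₁ hν₁'
        obtain ⟨m', hm'⟩ := hme
        simp only [Multiset.sum_cons] at hs
        omega
    · have hν₁ := (Multiset.le_cons_of_notMem h1).mp hν
      by_cases h2' : k₀ - 1 ∈ ν
      · obtain ⟨ν₂, rfl⟩ := Multiset.exists_cons_of_mem h2'
        obtain ⟨t, ht⟩ := hsum_even ν₂ ((Multiset.cons_le_cons_iff _).mp hν₁)
        obtain ⟨m', hm'⟩ := hme
        simp only [Multiset.sum_cons] at hs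
        omega
      · exact ⟨ν, ((Multiset.le_cons_of_notMem h2').mp hν₁).trans
          ((Multiset.le_cons_self _ _).trans (Multiset.le_cons_self _ _)), hs, hev'⟩

end Cfsg.Agent.S5994
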