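import Cfsg.Statements.S5995
import Mathlib
import Cfsg.Agent.Lib.OrthUnipotent.Witness
import Cfsg.Agent.Lib.OrthUnipotent.Partitions
set_option autoImplicit false
open scoped MatrixGroups
open Cfsg

namespace Cfsg.Agent.S5995

/-- A necessary condition for every element of order p of Ω_n(q), nq odd, to fix a hyperbolic `m`-space. Here `T = Ω_n(F)`, `n = 2d+1 ≥ 7`, `q` odd, realised as the commutator subgroup of the isometry group of `Q = x₀² + Σ xᵢyᵢ` over the field `F` with `q` elements (trivial centre, so its elements of prime order `r` are used directly); a nondegenerate `m`-space (even `m`) is a subspace on which the polar form of `Q` is nondegenerate; it is hyperbolic if it contains an `m/2`-dimensional subspace on which `Q` vanishes, elliptic otherwise. Let `m` be even with `2 ≤ m ≤ n − 1` and suppose `p` divides the number of hyperbolic `m`-spaces. If every element of `T` of order `p` fixes some hyperbolic `m`-space, then `m ≡ 0 (mod 4)` and every partition of `n` into parts of size at most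 `p` in which every even part has even multiplicity contains (as a sub-multiset) a partition of `m` in which every even part has even multiplicity. -/
theorem result {F : Type*} [Field F] [Fintype F] {p : ℕ} [Fact p.Prime] [CharP F p] {q : ℕ} (hq : Fintype.card F = q) (hqodd : Odd q)
    (d m : ℕ) (hd : 3 ≤ d) (hm : 2 ≤ m) (hme : Even m) (hmn : m ≤ 2 * d)
    (hpΩ : p ∣ Nat.card {W : Submodule F (Unit ⊕ (Fin d ⊕ Fin d) → F) // Module.finrank F ↥W = m ∧ Cfsg.Geo.IsNondegenerateOn (QuadraticMap.polar (Cfsg.quadFormOdd d F)) W ∧ Cfsg.Geo.IsPlusTypeOn (Cfsg.quadFormOdd d F) W}) :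
    (∀ x : GL (Unit ⊕ (Fin d ⊕ Fin d)) F, x ∈ Cfsg.Geo.omegaGL (Cfsg.quadFormOdd d F) → orderOf x = p →
      ∃ W : Submodule F (Unit ⊕ (Fin d ⊕ Fin d) → F), (Module.finrank F ↥W = m ∧ Cfsg.Geo.IsNondegenerateOn (QuadraticMap.polar (Cfsg.quadFormOdd d F)) W ∧ Cfsg.Geo.IsPlusTypeOn (Cfsg.quadFormOdd d F) W) ∧ W.map (Matrix.toLin' (x : Matrix (Unit ⊕ (Fin d ⊕ Fin d)) (Unit ⊕ (Fin d ⊕ Fin d)) F)) ≤ W) →
    (m % 4 = 0 ∧ (∀ μ : Multiset ℕ, (∀ e ∈ μ, 0 < e ∧ e ≤ p) → (∀ e : ℕ, Even e → Even (μ.count e)) → μ.sum = 2 * d + 1 →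
        ∃ ν : Multiset ℕ, ν ≤ μ ∧ ν.sum = m ∧ ∀ e : ℕ, Even e → Even (ν.count e))) := by
  intro hfix
  obtain ⟨hp, h2⟩ := Lib.OrthUnipotent.odd_char_of_odd_card F p (hq.symm ▸ hqodd)
  have hp3 : 3 ≤ p := by
    have := (Fact.out : p.Prime).two_le
    obtain ⟨k, hk⟩ := hp
    omega
  let e : (Unit ⊕ (Fin d ⊕ Fin d) → F) ≃ₗ[F] Lib.OrthUnipotent.StdSpace F d 1 :=
    { toFun := fun v => (fun i => v (.inr (.inl i)), fun i => v (.inr (.inr i)), fun _ => v (.inl ()))
      map_add' := fun u v => rfl
      map_smul' := fun c u => rfl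
      invFun := fun w => Sum.elim (fun _ => w.2.2 0) (Sum.elim w.1 w.2.1)
      left_inv := fun v => funext fun i => by rcases i with u | (i | i) <;> rfl
      right_inv := fun w => Prod.ext rfl (Prod.ext rfl (funext fun i => by rw [Subsingleton.elim i 0]; rfl)) }
  have hpol : ∀ u v, QuadraticMap.polar (Cfsg.quadFormOdd d F) u v =
      Lib.OrthUnipotent.stdForm d (![1] : Fin 1 → F) (e u) (e v) := by
    intro u v
    have h1 : ∀ w : Unit ⊕ (Fin d ⊕ Fin d) → F,
        ∑ i, w (.inr (.inl i)) * w (.inr (.inr i)) = ∑ i, (e w).1 i * (e w).2.1 i := fun w => rfl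
    simp only [QuadraticMap.polar, Cfsg.quadFormOdd, Lib.OrthUnipotent.stdForm_apply, e, LinearEquiv.coe_mk,
      LinearMap.coe_mk, AddHom.coe_mk, Pi.add_apply, Fin.sum_univ_one, Matrix.cons_val_fin_one, mul_add, add_mul,
      Finset.sum_add_distrib, mul_comm (v (Sum.inr (Sum.inl _))) (u (Sum.inr (Sum.inr _)))]
    ring
  have hQ : ∀ v, 2 * Cfsg.quadFormOdd d F v = QuadraticMap.polar (Cfsg.quadFormOdd d F) v v := by
    intro v
    simp only [QuadraticMap.polar, Cfsg.quadFormOdd, Pi.add_apply, add_mul, mul_add, Finset.sum_add_distrib]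
    ring
  have key : ∀ μ : Multiset ℕ, (∀ k ∈ μ, 0 < k ∧ k ≤ p) → (∀ k : ℕ, Even k → Even (μ.count k)) →
      μ.sum = 2 * d + 1 → ∃ ν : Multiset ℕ, ν ≤ μ ∧ ν.sum = m ∧ ∀ k : ℕ, Even k → Even (ν.count k) := by
    intro μ hμ hev hsum
    by_cases hbig : ∃ k ∈ μ, 2 ≤ k
    · have hreal := Lib.OrthUnipotent.isRealised_of_tail h2 μ (fun k hk => (hμ k hk).1) hev
        (![1] : Fin 1 → F) (fun i => by simp) (N := d) hsum (Or.inr (Or.inl rfl))
      obtain ⟨x, hxΩ, hxp, hxns, hW⟩ := Lib.OrthUnipotent.exists_omega_element hp _ hQ _ e hpol μ hreal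
        (fun k hk => (hμ k hk).2) hbig
      have hx1 : x ≠ 1 := fun h => hxns 1 (by rw [h, Units.val_one, one_smul])
      obtain ⟨W, ⟨hm', hnd, -⟩, hinv⟩ := hfix x hxΩ (orderOf_eq_prime hxp hx1)
      obtain ⟨ν, hν, hs, hev', -, -⟩ := hW W hnd hinv
      exact ⟨ν, hν, hs.trans hm', hev'⟩
    · push Not at hbig
      refine Lib.OrthUnipotent.subPartition_of_ones μ (fun k hk => ?_) m (by omega)
      have := (hμ k hk).1
      have := hbig k hk
      omega
  refine ⟨?_, key⟩
  by_contra hm4
  obtain ⟨m', hm'⟩ := hme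
  rcases Nat.even_or_odd d with hde | hdo
  · obtain ⟨ν, hν, hs, hev'⟩ := key (Multiset.replicate 1 1 + Multiset.replicate d 2)
      (fun k hk => by
        simp only [Multiset.mem_add, Multiset.mem_replicate] at hk
        omega)
      (fun k hk => by
        simp only [Multiset.count_add, Multiset.count_replicate]
        split_ifs with h1 h1' <;> first
          | exact (by subst h1; exact absurd hk (by decide))
          | exact (by simpa using hde)
          | exact ⟨0, rfl⟩)
      (by simp only [Multiset.sum_add, Multiset.sum_replicate, smul_eq_mul]; omega)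
    have h := Lib.OrthUnipotent.sum_eq_count_add ν (fun k hk => by
      have := Multiset.mem_of_le hν hk
      simp only [Multiset.mem_add, Multiset.mem_replicate] at this
      omega)
    obtain ⟨c, hc⟩ := hev' 2 even_two
    have h1 := Multiset.count_le_of_le 1 hν
    have h3 := Multiset.count_le_of_le 3 hν
    simp only [Multiset.count_add, Multiset.count_replicate, if_true, if_false, show (2 : ℕ) ≠ 1 by decide, show (3 : ℕ) ≠ 1 by decide, show (1 : ℕ) ≠ 2 by decide, show (3 : ℕ) ≠ 2 by decide, show (2 : ℕ) ≠ 3 by decide, show (1 : ℕ) ≠ 3 by decide] at h1 h3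
    omega
  · obtain ⟨ν, hν, hs, hev'⟩ := key (Multiset.replicate 1 3 + Multiset.replicate (d - 1) 2)
      (fun k hk => by
        simp only [Multiset.mem_add, Multiset.mem_replicate] at hk
        omega)
      (fun k hk => by
        obtain ⟨c, hc⟩ := hdo
        simp only [Multiset.count_add, Multiset.count_replicate]
        split_ifs with h1 h1' <;> first
          | exact (by subst h1; exact absurd hk (by decide))
          | exact ⟨c, by omega⟩
          | exact ⟨0, rfl⟩)
      (by simp only [Multiset.sum_add, Multiset.sum_replicate, smul_eq_mul]; omega)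
    have h := Lib.OrthUnipotent.sum_eq_count_add ν (fun k hk => by
      have := Multiset.mem_of_le hν hk
      simp only [Multiset.mem_add, Multiset.mem_replicate] at this
      omega)
    obtain ⟨c, hc⟩ := hev' 2 even_two
    have h1 := Multiset.count_le_of_le 1 hν
    have h3 := Multiset.count_le_of_le 3 hν
    simp only [Multiset.count_add, Multiset.count_replicate, if_true, if_false, show (2 : ℕ) ≠ 1 by decide, show (3 : ℕ) ≠ 1 by decide, show (1 : ℕ) ≠ 2 by decide, show (3 : ℕ) ≠ 2 by decide, show (2 : ℕ) ≠ 3 by decide, show (1 : ℕ) ≠ 3 by decide] at h1 h3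
    omega

end Cfsg.Agent.S5995
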