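import Cfsg.Statements.S5996
import Mathlib
import Cfsg.Agent.Lib.OrthUnipotent.Witness
import Cfsg.Agent.Lib.OrthUnipotent.Partitions
set_option autoImplicit false
open scoped MatrixGroups
open Cfsg

namespace Cfsg.Agent.S5996

/-- A necessary condition for every element of order p of PΩ⁺_n(q), q odd, to fix a hyperbolic `m`-space. Here `T = PΩ⁺_n(F)`, `n = 2d ≥ 8`, realised through `Ω⁺_n(q)`, the commutator subgroup of the isometry group of `Q = Σ xᵢyᵢ` over the field `F` with `q` elements; an element of `T` of prime order `r` is an element `x` of `Ω⁺_n(q)` with `x^r` scalar and `x` not scalar; `q` is odd; a nondegenerate `m`-space (even `m`) is a subspace on which the polar form of `Q` is nondegenerate; it is hyperbolic if it contains an `m/2`-dimensional subspace on which `Q` vanishes, elliptic otherwise. Let `m` be even with `2 ≤ m < n/2` and suppose `p` divides the number of hyperbolic `m`-spaces. If every element of `T` of order `p` fixes some hyperbolic `m`-space, then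 every partition of `n` into parts of size at most `p` in which every even part has even multiplicity contains (as a sub-multiset) a partition of `m` in which every even part has even multiplicity. -/
theorem result {F : Type*} [Field F] [Fintype F] {p : ℕ} [Fact p.Prime] [CharP F p] {q : ℕ} (hq : Fintype.card F = q) (hqodd : Odd q)
    (d m : ℕ) (hd : 4 ≤ d) (hm : 2 ≤ m) (hme : Even m) (hmd : m < d)
    (hpΩ : p ∣ Nat.card {W : Submodule F (Fin d ⊕ Fin d → F) // Module.finrank F ↥W = m ∧ Cfsg.Geo.IsNondegenerateOn (QuadraticMap.polar (Cfsg.quadFormPlus d F)) W ∧ Cfsg.Geo.IsPlusTypeOn (Cfsg.quadFormPlus d F) W}) :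
    (∀ x : GL (Fin d ⊕ Fin d) F, x ∈ Cfsg.Geo.omegaGL (Cfsg.quadFormPlus d F) →
      (∃ z : F, ((x ^ p : GL (Fin d ⊕ Fin d) F) : Matrix (Fin d ⊕ Fin d) (Fin d ⊕ Fin d) F) = z • (1 : Matrix (Fin d ⊕ Fin d) (Fin d ⊕ Fin d) F)) →
      (∀ z : F, (x : Matrix (Fin d ⊕ Fin d) (Fin d ⊕ Fin d) F) ≠ z • (1 : Matrix (Fin d ⊕ Fin d) (Fin d ⊕ Fin d) F)) →
      ∃ W : Submodule F (Fin d ⊕ Fin d → F), (Module.finrank F ↥W = m ∧ Cfsg.Geo.IsNondegenerateOn (QuadraticMap.polar (Cfsg.quadFormPlus d F)) W ∧ Cfsg.Geo.IsPlusTypeOn (Cfsg.quadFormPlus d F) W) ∧ W.map (Matrix.toLin' (x : Matrix (Fin d ⊕ Fin d) (Fin d ⊕ Fin d) F)) ≤ W) →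
    (∀ μ : Multiset ℕ, (∀ e ∈ μ, 0 < e ∧ e ≤ p) → (∀ e : ℕ, Even e → Even (μ.count e)) → μ.sum = 2 * d →
        ∃ ν : Multiset ℕ, ν ≤ μ ∧ ν.sum = m ∧ ∀ e : ℕ, Even e → Even (ν.count e)) := by
  intro hfix μ hμ hev hsum
  by_cases hbig : ∃ k ∈ μ, 2 ≤ k
  · obtain ⟨hp, h2⟩ := Lib.OrthUnipotent.odd_char_of_odd_card F p (hq.symm ▸ hqodd)
    let e : (Fin d ⊕ Fin d → F) ≃ₗ[F] Lib.OrthUnipotent.StdSpace F d 0 :=
      { toFun := fun v => (fun i => v (.inl i), fun i => v (.inr i), ![])
        map_add' := fun u v => Prod.ext rfl (Prod.ext rfl (funext fun i => i.elim0))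
        map_smul' := fun c u => Prod.ext rfl (Prod.ext rfl (funext fun i => i.elim0))
        invFun := fun w => Sum.elim w.1 w.2.1
        left_inv := fun v => funext fun i => by cases i <;> rfl
        right_inv := fun w => Prod.ext rfl (Prod.ext rfl (funext fun i => i.elim0)) }
    have hpol : ∀ u v, QuadraticMap.polar (Cfsg.quadFormPlus d F) u v =
        Lib.OrthUnipotent.stdForm d (![] : Fin 0 → F) (e u) (e v) := by
      intro u v
      simp only [QuadraticMap.polar, Cfsg.quadFormPlus, Lib.OrthUnipotent.stdForm_apply, e, LinearEquiv.coe_mk,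
        LinearMap.coe_mk, AddHom.coe_mk, Pi.add_apply, Finset.univ_eq_empty, Finset.sum_empty, add_zero,
        ← Finset.sum_sub_distrib, ← Finset.sum_add_distrib]
      exact Finset.sum_congr rfl (fun i _ => by ring)
    have hQ : ∀ v, 2 * Cfsg.quadFormPlus d F v = QuadraticMap.polar (Cfsg.quadFormPlus d F) v v := by
      intro v
      simp only [QuadraticMap.polar, Cfsg.quadFormPlus, Pi.add_apply, Finset.mul_sum, ← Finset.sum_sub_distrib]
      exact Finset.sum_congr rfl (fun i _ => by ring)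
    have hreal := Lib.OrthUnipotent.isRealised_of_tail h2 μ (fun k hk => (hμ k hk).1) hev
      (![] : Fin 0 → F) (fun i => i.elim0) (N := d) (by omega) (Or.inl rfl)
    obtain ⟨x, hxΩ, hxp, hxns, hW⟩ := Lib.OrthUnipotent.exists_omega_element hp _ hQ _ e hpol μ hreal
      (fun k hk => (hμ k hk).2) hbig
    obtain ⟨W, ⟨hm', hnd, -⟩, hinv⟩ := hfix x hxΩ ⟨1, by rw [hxp, Units.val_one, one_smul]⟩ hxns
    obtain ⟨ν, hν, hs, hev', -, -⟩ := hW W hnd hinv
    exact ⟨ν, hν, hs.trans hm', hev'⟩
  · push Not at hbig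
    refine Lib.OrthUnipotent.subPartition_of_ones μ (fun k hk => ?_) m (by omega)
    have := (hμ k hk).1
    have := hbig k hk
    omega

end Cfsg.Agent.S5996
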