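import Cfsg.Statements.S5997
import Mathlib
import Cfsg.Agent.Lib.SL2.Classes
set_option autoImplicit false
open scoped MatrixGroups
open Cfsg

namespace Cfsg.Agent.S5997

open Cfsg.Agent.Lib.SL2

variable {F : Type*} [Field F]

lemma scalar_iff {M : Matrix (Fin 2) (Fin 2) F} :
    IsScalarMat M ↔ ∃ c : F, M = c • (1 : Matrix (Fin 2) (Fin 2) F) := by
  constructor
  · rintro ⟨h01, h10, h⟩
    exact ⟨M 0 0, by ext i j; fin_cases i <;> fin_cases j <;> simp [h01, h10, h]⟩
  · rintro ⟨c, rfl⟩
    exact ⟨by simp, by simp, by simp⟩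

lemma cayley (M : Matrix (Fin 2) (Fin 2) F) :
    M * M = (M 0 0 + M 1 1) • M - M.det • (1 : Matrix (Fin 2) (Fin 2) F) := by
  ext i j
  fin_cases i <;> fin_cases j <;> simp [Matrix.mul_apply, Fin.sum_univ_two, Matrix.det_fin_two] <;> ring

lemma eq_zero_of_smul_eq {M : Matrix (Fin 2) (Fin 2) F} (hM : ¬ IsScalarMat M) {a b : F}
    (h : a • M = b • (1 : Matrix (Fin 2) (Fin 2) F)) : a = 0 ∧ b = 0 := by
  by_cases ha : a = 0
  · subst ha
    rw [zero_smul] at h
    have := congrFun (congrFun h 0) 0
    simp at this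
    exact ⟨rfl, this.symm⟩
  · exact absurd (scalar_iff.mpr ⟨a⁻¹ * b, by rw [mul_smul, ← h, smul_smul, inv_mul_cancel₀ ha, one_smul]⟩) hM

/-- trace and determinant from a quadratic relation. -/
lemma tr_det_of_quadratic {M : Matrix (Fin 2) (Fin 2) F} (hM : ¬ IsScalarMat M) {t d : F}
    (h : M * M = t • M - d • (1 : Matrix (Fin 2) (Fin 2) F)) : M 0 0 + M 1 1 = t ∧ M.det = d := by
  have h' := (cayley M).symm.trans h
  have := eq_zero_of_smul_eq hM (a := M 0 0 + M 1 1 - t) (b := M.det - d) (by
    rw [sub_smul, sub_smul, sub_eq_sub_iff_add_eq_add]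
    rw [sub_eq_sub_iff_add_eq_add] at h'
    rw [h', add_comm])
  exact ⟨sub_eq_zero.mp this.1, sub_eq_zero.mp this.2⟩

lemma mat_ext_smul {c d : F} (h : c • (1 : Matrix (Fin 2) (Fin 2) F) = d • 1) : c = d := by
  simpa using congrFun (congrFun h 0) 0

/-- a quaternion pair in a subgroup isomorphic to `Q₈`. -/
lemma quaternion_data (R : Subgroup (GL (Fin 2) F)) (f : ↥R ≃* QuaternionGroup 2) :
    ∃ u v : GL (Fin 2) F, u ∈ R ∧ v ∈ R ∧ ¬ IsScalarMat (u : Matrix (Fin 2) (Fin 2) F) ∧
      ¬ IsScalarMat (v : Matrix (Fin 2) (Fin 2) F) ∧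
      (u : Matrix (Fin 2) (Fin 2) F) * u = -1 ∧ (v : Matrix (Fin 2) (Fin 2) F) * v = -1 ∧
      (v : Matrix (Fin 2) (Fin 2) F) * u = -((u : Matrix (Fin 2) (Fin 2) F) * v) ∧
      (∀ r ∈ R, r ∈ Subgroup.closure ({u, v} : Set (GL (Fin 2) F))) := by
  let A : QuaternionGroup 2 := QuaternionGroup.a 1
  let X : QuaternionGroup 2 := QuaternionGroup.xa 0
  let u : GL (Fin 2) F := f.symm A
  let v : GL (Fin 2) F := f.symm X
  have hgen : ∀ r ∈ R, r ∈ Subgroup.closure ({u, v} : Set (GL (Fin 2) F)) := by
    intro r hr
    have hq : ∀ g : QuaternionGroup 2, ∃ k : ℕ, g = A ^ k ∨ g = X * A ^ k := by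
      intro g
      rcases g with i | i
      · exact ⟨i.val, Or.inl (by simp [A, QuaternionGroup.a_one_pow])⟩
      · exact ⟨i.val, Or.inr (by simp [A, X, QuaternionGroup.a_one_pow, QuaternionGroup.xa_mul_a])⟩
    obtain ⟨k, hk | hk⟩ := hq (f ⟨r, hr⟩)
    · have : r = u ^ k := by
        simp only [u]
        rw [← SubgroupClass.coe_pow, ← map_pow, ← hk, MulEquiv.symm_apply_apply]
      rw [this]
      exact pow_mem (Subgroup.subset_closure (show u ∈ ({u, v} : Set (GL (Fin 2) F)) by simp)) _
    · have : r = v * u ^ k := by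
        simp only [u, v]
        rw [← SubgroupClass.coe_pow, ← map_pow, ← Subgroup.coe_mul, ← map_mul, ← hk,
          MulEquiv.symm_apply_apply]
      rw [this]
      exact mul_mem (Subgroup.subset_closure (show v ∈ ({u, v} : Set (GL (Fin 2) F)) by simp))
        (pow_mem (Subgroup.subset_closure (show u ∈ ({u, v} : Set (GL (Fin 2) F)) by simp)) _)
  have hne : u * v ≠ v * u := by
    intro h
    have h2 : A * X = X * A := by
      apply f.symm.injective
      rw [map_mul, map_mul]
      exact Subtype.ext h
    exact absurd h2 (by decide)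
  have hz : X * X = A * A ∧ A * A ≠ 1 ∧ A * A * (A * A) = 1 ∧ X * A = A * A * (A * X) := by
    refine ⟨?_, ?_, ?_, ?_⟩ <;> decide
  obtain ⟨h1, h2, h3, h4⟩ := hz
  let z : GL (Fin 2) F := u * u
  have hzX : v * v = z := by
    simp only [v, z, u, ← Subgroup.coe_mul, ← map_mul, h1]
  have hz1 : z ≠ 1 := by
    simp only [z, u, ← Subgroup.coe_mul, ← map_mul]
    intro h
    exact h2 (f.symm.injective (by rw [map_one]; exact Subtype.ext h))
  have hzz : z * z = 1 := by
    simp only [z, u, ← Subgroup.coe_mul, ← map_mul, h3, map_one, Subgroup.coe_one]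
  have hvu : v * u = z * (u * v) := by
    simp only [v, z, u, ← Subgroup.coe_mul, ← map_mul, h4]
  have hus : ¬ IsScalarMat (u : Matrix (Fin 2) (Fin 2) F) := by
    intro h
    obtain ⟨c, hc⟩ := scalar_iff.mp h
    exact hne (Units.ext (by rw [Units.val_mul, Units.val_mul, hc]; simp))
  have hvs : ¬ IsScalarMat (v : Matrix (Fin 2) (Fin 2) F) := by
    intro h
    obtain ⟨c, hc⟩ := scalar_iff.mp h
    exact hne (Units.ext (by rw [Units.val_mul, Units.val_mul, hc]; simp))
  have hzs : IsScalarMat (z : Matrix (Fin 2) (Fin 2) F) := by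
    by_contra h
    apply hne
    apply Units.ext
    rw [Units.val_mul, Units.val_mul]
    refine commute_of_commute h ?_ ?_
    · simp only [z, Units.val_mul, mul_assoc]
    · rw [← hzX, Units.val_mul, mul_assoc]
  obtain ⟨c, hc⟩ := scalar_iff.mp hzs
  have hc1 : c = -1 := by
    have := congrArg Units.val hzz
    rw [Units.val_mul, hc, Units.val_one, smul_mul_assoc, one_mul, smul_smul] at this
    have h := mat_ext_smul (this.trans (one_smul F _).symm)
    rcases mul_self_eq_one_iff.mp h with h | h
    · exact absurd (Units.ext (by rw [hc, h, one_smul, Units.val_one])) hz1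
    · exact h
  refine ⟨u, v, (f.symm A).2, (f.symm X).2, hus, hvs, ?_, ?_, ?_, hgen⟩
  · rw [← Units.val_mul, show u * u = z from rfl, hc, hc1, neg_one_smul]
  · rw [← Units.val_mul, hzX, hc, hc1, neg_one_smul]
  · rw [← Units.val_mul v u, hvu, Units.val_mul, hc, hc1, Units.val_mul, neg_one_smul, neg_one_mul]

/-- Elements of prime order of PSL_2(p) and the normalizer of a quaternion subgroup. Here `T = PSL_2(F)` for the field `F` with `p` elements, `p ≥ 5` prime; `R` is a subgroup of GL_2(F) isomorphic to the quaternion group of order 8 (an absolutely irreducible 2-group of symplectic type), and `H` is the subgroup of matrices of determinant 1 normalizing `R` — a subgroup of type 2^{1+2}.O₂⁻(2), isomorphic modulo scalars to A₄ or S₄ (maximality is not assumed). Ω is the set of cosets of `H` in `T`, so an element of `T` of prime order `r` (a matrix `x` of determinant 1 with `x^r` scalar, `x` not scalar) fixes a point of Ω exactly when some conjugate of `x` by a matrix of determinant 1 normalizes `R`. Let `r` be a prime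 dividing the index of `H`. Then every element of `T` of order `r` fixes a point of Ω if and only if `r = 2` or `r = 3`. -/
theorem result {F : Type*} [Field F] [Fintype F] {p : ℕ} [Fact p.Prime] [CharP F p] (hF : Fintype.card F = p) (hp : 5 ≤ p)
    (R : Subgroup (GL (Fin 2) F)) (hR : Nonempty (↥R ≃* QuaternionGroup 2))
    (r : ℕ) [Fact r.Prime]
    (hΩ : r ∣ (Cfsg.Geo.subgroupNormalizer R).relIndex (Cfsg.Geo.specialLinear (Fin 2) F)) :
    (∀ x ∈ Cfsg.Geo.specialLinear (Fin 2) F, (∃ z : F, ((x ^ r : GL (Fin 2) F) : Matrix (Fin 2) (Fin 2) F) = z • (1 : Matrix (Fin 2) (Fin 2) F)) →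
      (∀ z : F, (x : Matrix (Fin 2) (Fin 2) F) ≠ z • (1 : Matrix (Fin 2) (Fin 2) F)) →
      ∃ g ∈ Cfsg.Geo.specialLinear (Fin 2) F, g⁻¹ * x * g ∈ Cfsg.Geo.subgroupNormalizer R) ↔ (r = 2 ∨ r = 3) := by
  classical
  obtain ⟨f⟩ := hR
  obtain ⟨u, v, huR, hvR, hus, hvs, huu, hvv, hvu, hgen⟩ := quaternion_data R f
  set U := (u : Matrix (Fin 2) (Fin 2) F) with hU
  set V := (v : Matrix (Fin 2) (Fin 2) F) with hV
  have hpF : ∀ k : ℕ, 0 < k → k < p → (k : F) ≠ 0 := fun k h1 h2 h =>
    absurd (Nat.le_of_dvd h1 ((CharP.cast_eq_zero_iff F p k).mp h)) (by omega)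
  have h2 : (2 : F) ≠ 0 := by exact_mod_cast hpF 2 (by omega) (by omega)
  have h3 : (3 : F) ≠ 0 := by exact_mod_cast hpF 3 (by omega) (by omega)
  have hdetU : U 0 0 + U 1 1 = 0 ∧ U.det = 1 :=
    tr_det_of_quadratic hus (by rw [huu, zero_smul, zero_sub, one_smul])
  let uS : SLtwo F := ⟨U, hdetU.2⟩
  have hmem : ∀ y : GL (Fin 2) F, (y : Matrix (Fin 2) (Fin 2) F).det = 1 ↔
      y ∈ Cfsg.Geo.specialLinear (Fin 2) F := by
    intro y
    rw [Cfsg.Geo.specialLinear, MonoidHom.mem_ker, Units.ext_iff, Units.val_one,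
      Matrix.GeneralLinearGroup.val_det_apply]
  have mem : ∀ y : SLtwo F, Matrix.SpecialLinearGroup.toGL y ∈ Cfsg.Geo.specialLinear (Fin 2) F :=
    fun y => (hmem _).mp y.2
  -- conjugating by an element with the same trace
  have conj : ∀ (x : GL (Fin 2) F) (w : SLtwo F), x ∈ Cfsg.Geo.specialLinear (Fin 2) F →
      Matrix.SpecialLinearGroup.toGL w ∈ Cfsg.Geo.subgroupNormalizer R → tr w ≠ 2 → tr w ≠ -2 →
      (x : Matrix (Fin 2) (Fin 2) F) 0 0 + (x : Matrix (Fin 2) (Fin 2) F) 1 1 = tr w →
      ∃ g ∈ Cfsg.Geo.specialLinear (Fin 2) F, g⁻¹ * x * g ∈ Cfsg.Geo.subgroupNormalizer R := by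
    intro x w hx hw ht ht' htr
    let xS : SLtwo F := ⟨x, (hmem x).mpr hx⟩
    have hc : IsConj w xS := isConj_of_tr_eq (elliptic_or_split_of_tr ⟨ht, ht'⟩) htr.symm
    obtain ⟨k, hk⟩ := isConj_iff.mp hc
    refine ⟨Matrix.SpecialLinearGroup.toGL k, mem k, ?_⟩
    have hxS : Matrix.SpecialLinearGroup.toGL xS = x := Units.ext rfl
    have : (Matrix.SpecialLinearGroup.toGL k)⁻¹ * x * Matrix.SpecialLinearGroup.toGL k =
        Matrix.SpecialLinearGroup.toGL w := by
      rw [← hxS, ← map_inv, ← map_mul, ← map_mul, ← hk]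
      congr 1
      group
    rw [this]
    exact hw
  -- traces of elements whose square or cube is scalar
  have sqtr : ∀ x : Matrix (Fin 2) (Fin 2) F, x.det = 1 → ¬ IsScalarMat x → ∀ z : F, x * x = z • 1 →
      x 0 0 + x 1 1 = 0 := by
    intro x hd hns z hz
    have := (tr_det_of_quadratic hns (t := 0) (d := -z) (by rw [hz, zero_smul, zero_sub, neg_smul, neg_neg])).1
    exact this
  constructor
  · intro hfix
    by_contra hcon
    push Not at hcon
    have hrp : r.Prime := Fact.out
    have hr5 : 5 ≤ r := by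
      have := hrp.two_le
      rcases Nat.lt_or_ge r 5 with h | h
      · interval_cases r <;> first | exact absurd rfl hcon.1 | exact absurd rfl hcon.2 | exact absurd hrp (by decide)
      · exact h
    have hcard : r ∣ Nat.card (Cfsg.Geo.specialLinear (Fin 2) F) :=
      hΩ.trans (Subgroup.relIndex_dvd_card _ _)
    obtain ⟨x, hxo⟩ := exists_prime_orderOf_dvd_card' r hcard
    have hxr : (x : GL (Fin 2) F) ^ r = 1 := by
      rw [← SubgroupClass.coe_pow, ← hxo, pow_orderOf_eq_one, Subgroup.coe_one]
    have hxns : ∀ z : F, ((x : GL (Fin 2) F) : Matrix (Fin 2) (Fin 2) F) ≠ z • 1 := by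
      intro z hz
      have hd := (hmem _).mpr x.2
      rw [hz, Matrix.det_smul, Matrix.det_one, mul_one, Fintype.card_fin] at hd
      have h1 : x ^ 2 = 1 := by
        apply Subtype.ext
        apply Units.ext
        rw [SubgroupClass.coe_pow, Units.val_pow_eq_pow_val, hz, smul_pow, one_pow, hd, one_smul,
          Subgroup.coe_one, Units.val_one]
      have h2' := Nat.le_of_dvd two_pos (orderOf_dvd_of_pow_eq_one h1)
      omega
    obtain ⟨g, hg, hgx⟩ := hfix x x.2 ⟨1, by rw [hxr, Units.val_one, one_smul]⟩ hxns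
    set y := g⁻¹ * (x : GL (Fin 2) F) * g with hy
    have hyr : y ^ r = 1 := by
      have h := (conj_pow (a := g⁻¹) (b := (x : GL (Fin 2) F)) (i := r))
      rw [inv_inv] at h
      rw [hy, h, hxr, mul_one, inv_mul_cancel]
    haveI : Finite R := Finite.of_equiv _ f.symm.toEquiv
    haveI : Fintype R := Fintype.ofFinite R
    have hcardR : Fintype.card R = 8 := by
      rw [Fintype.card_congr f.toEquiv, QuaternionGroup.card]
    have hN : ∀ w : GL (Fin 2) F, w ∈ R ↔ y * w * y⁻¹ ∈ R := Subgroup.mem_normalizer_iff.mp hgx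
    let σ : Equiv.Perm R :=
      { toFun := fun w => ⟨y * w * y⁻¹, (hN w).mp w.2⟩
        invFun := fun w => ⟨y⁻¹ * w * y, (hN _).mpr (by
          have : y * (y⁻¹ * (w : GL (Fin 2) F) * y) * y⁻¹ = w := by group
          rw [this]; exact w.2)⟩
        left_inv := fun w => Subtype.ext (by simp only; group)
        right_inv := fun w => Subtype.ext (by simp only; group) }
    have hσval : ∀ (k : ℕ) (w : R), ((σ ^ k) w : GL (Fin 2) F) = y ^ k * w * (y ^ k)⁻¹ := by
      intro k
      induction k with
      | zero => intro w; simp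
      | succ k ih =>
        intro w
        rw [pow_succ', Equiv.Perm.mul_apply]
        change y * ((σ ^ k) w : GL (Fin 2) F) * y⁻¹ = _
        rw [ih, pow_succ']
        group
    have hσr : σ ^ r ^ 1 = 1 := by
      refine Equiv.ext (fun w => Subtype.ext ?_)
      rw [pow_one, hσval, hyr]
      simp
    have hmod := Equiv.Perm.card_compl_support_modEq (σ := σ) (p := r) hσr
    rw [hcardR] at hmod
    let C : Subgroup R := {
      carrier := {w | σ w = w}
      mul_mem' := fun {a b} ha hb => Subtype.ext (by
        have ha' := congrArg Subtype.val ha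
        have hb' := congrArg Subtype.val hb
        change y * (a : GL (Fin 2) F) * y⁻¹ = a at ha'
        change y * (b : GL (Fin 2) F) * y⁻¹ = b at hb'
        change y * ((a : GL (Fin 2) F) * b) * y⁻¹ = a * b
        conv_rhs => rw [← ha', ← hb']
        group)
      one_mem' := Subtype.ext (by simp [σ])
      inv_mem' := fun {a} ha => Subtype.ext (by
        have ha' := congrArg Subtype.val ha
        change y * (a : GL (Fin 2) F) * y⁻¹ = a at ha'
        change y * (a : GL (Fin 2) F)⁻¹ * y⁻¹ = (a : GL (Fin 2) F)⁻¹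
        conv_rhs => rw [← ha']
        group) }
    have hCcard : Nat.card C = (σ.support)ᶜ.card := by
      rw [Nat.card_eq_fintype_card, ← Fintype.card_coe]
      exact Fintype.card_congr (Equiv.subtypeEquivRight (fun w => by
        rw [Finset.mem_compl, Equiv.Perm.mem_support, not_not]
        rfl))
    have hdvd : Nat.card C ∣ 8 := by
      rw [← hcardR, ← Nat.card_eq_fintype_card]
      exact C.card_subgroup_dvd_card
    have hneg : (⟨u * u, mul_mem huR huR⟩ : R) ∈ C := by
      apply Subtype.ext
      change y * (u * u) * y⁻¹ = u * u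
      rw [mul_inv_eq_iff_eq_mul]
      apply Units.ext
      rw [Units.val_mul y (u * u), Units.val_mul (u * u) y, Units.val_mul u u, ← hU, huu, mul_neg_one, neg_one_mul]
    have hC1 : 1 < Nat.card C := by
      rw [Finite.one_lt_card_iff_nontrivial]
      refine ⟨⟨⟨_, hneg⟩, 1, fun h => ?_⟩⟩
      have h' : u * u = 1 := congrArg (fun w : C => ((w : R) : GL (Fin 2) F)) h
      have h'' := congrArg Units.val h'
      rw [Units.val_mul, ← hU, huu, Units.val_one] at h''
      have := congrFun (congrFun h'' 0) 0
      simp at this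
      exact h2 (by linear_combination -this)
    have hC8 : Nat.card C = 8 := by
      rw [← hCcard] at hmod
      have hle := Nat.le_of_dvd (by norm_num) hdvd
      have hd := (Nat.modEq_iff_dvd' hle).mp hmod
      interval_cases hn : Nat.card C <;> first
        | rfl
        | (exfalso; have h := Nat.le_of_dvd (by norm_num) hd; interval_cases r <;> first
            | exact absurd hrp (by decide)
            | omega)
        | omega
    have hCtop : C = ⊤ := Subgroup.eq_top_of_card_eq C (by rw [hC8, Nat.card_eq_fintype_card, hcardR])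
    have hcomm : ∀ w : GL (Fin 2) F, w ∈ R →
        (y : Matrix (Fin 2) (Fin 2) F) * w = (w : Matrix (Fin 2) (Fin 2) F) * y := by
      intro w hw
      have h : (⟨w, hw⟩ : R) ∈ C := hCtop ▸ Subgroup.mem_top _
      have h' := congrArg Subtype.val h
      change y * w * y⁻¹ = w at h'
      rw [mul_inv_eq_iff_eq_mul] at h'
      rw [← Units.val_mul, ← Units.val_mul, h']
    by_cases hys : IsScalarMat (y : Matrix (Fin 2) (Fin 2) F)
    · obtain ⟨c, hc⟩ := scalar_iff.mp hys
      apply hxns c
      have hx : (x : GL (Fin 2) F) = g * y * g⁻¹ := by rw [hy]; group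
      rw [hx, Units.val_mul, Units.val_mul, hc, mul_smul_comm, mul_one, smul_mul_assoc, ← Units.val_mul,
        mul_inv_cancel, Units.val_one]
    · have h := commute_of_commute hys (hcomm u huR).symm (hcomm v hvR).symm
      rw [← hU, ← hV, hvu] at *
      have h0 : U * V = 0 := by
        have : (2 : F) • (U * V) = 0 := by
          rw [two_smul]
          nth_rewrite 2 [h]
          rw [hvu, add_neg_cancel]
        exact (smul_eq_zero.mp this).resolve_left h2
      have : IsUnit (U * V) := by rw [hU, hV, ← Units.val_mul]; exact Units.isUnit _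
      rw [h0] at this
      exact not_isUnit_zero this
  · rintro hr x hxS ⟨z, hz⟩ hns
    have hxd := (hmem x).mpr hxS
    have hxns : ¬ IsScalarMat (x : Matrix (Fin 2) (Fin 2) F) := fun h => by
      obtain ⟨c, hc⟩ := scalar_iff.mp h
      exact hns c hc
    rcases hr with rfl | rfl
    · rw [pow_two, Units.val_mul] at hz
      have htr : tr uS = 0 := hdetU.1
      refine conj x uS hxS ?_ (by rw [htr]; exact h2.symm) (by rw [htr]; exact (neg_ne_zero.mpr h2).symm)
        (by rw [htr]; exact sqtr _ hxd hxns z hz)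
      rw [show Matrix.SpecialLinearGroup.toGL uS = u from Units.ext rfl]
      exact Subgroup.le_normalizer huR
    · set X := (x : Matrix (Fin 2) (Fin 2) F) with hX
      set t := X 0 0 + X 1 1 with ht
      rw [pow_succ, pow_two, Units.val_mul, Units.val_mul, ← hX] at hz
      have hcy := cayley X
      rw [hxd, one_smul, ← ht] at hcy
      rw [hcy, sub_mul, smul_mul_assoc, hcy, one_mul, smul_sub, smul_smul] at hz
      have ht1 := (eq_zero_of_smul_eq hxns (a := t * t - 1) (b := t + z) (by
        rw [sub_smul, one_smul, add_smul, ← hz]; abel)).1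
      set P := U + V + U * V with hP
      have hPP : P * P = (-3 : F) • (1 : Matrix (Fin 2) (Fin 2) F) := by
        have e1 : U * (U * V) = -V := by rw [← mul_assoc, huu, neg_one_mul]
        have e2 : V * (U * V) = U := by rw [← mul_assoc, hvu, neg_mul, mul_assoc, hvv, mul_neg_one, neg_neg]
        have e3 : U * V * U = V := by rw [mul_assoc, hvu, mul_neg, e1, neg_neg]
        have e4 : U * V * V = -U := by rw [mul_assoc, hvv, mul_neg_one]
        have e5 : U * V * (U * V) = -1 := by rw [← mul_assoc, e3, hvv]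
        rw [hP]
        simp only [mul_add, add_mul, huu, hvv, hvu, e1, e2, e3, e4, e5]
        rw [show (-3 : F) = -1 + -1 + -1 by norm_num]
        simp only [add_smul, neg_smul, one_smul]
        abel
      let W : Matrix (Fin 2) (Fin 2) F := (2⁻¹ : F) • (-1 + P)
      have hW2 : W * W = (-1 : F) • W - (1 : F) • 1 := by
        simp only [W]
        rw [smul_mul_smul_comm, show (-1 + P) * (-1 + P) = 1 + P * P - (P + P) by
          simp only [add_mul, mul_add, neg_one_mul, mul_neg_one, neg_neg]; abel, hPP]
        match_scalars <;> field_simp <;> ring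
      have e1 : U * (U * V) = -V := by rw [← mul_assoc, huu, neg_one_mul]
      have e3 : U * V * U = V := by rw [mul_assoc, hvu, mul_neg, e1, neg_neg]
      have e4 : U * V * V = -U := by rw [mul_assoc, hvv, mul_neg_one]
      have e5 : U * V * (U * V) = -1 := by rw [← mul_assoc, e3, hvv]
      have hWU : W * U = (U * V) * W := by
        simp only [W, smul_mul_assoc, mul_smul_comm, hP, add_mul, mul_add, neg_one_mul, mul_neg_one, huu, hvu,
          e3, e4, e5]
        abel_nf
      have hWV : W * V = U * W := by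
        simp only [W, smul_mul_assoc, mul_smul_comm, hP, add_mul, mul_add, neg_one_mul, mul_neg_one, huu, hvv,
          e1, e4]
        abel_nf
      have hWs : ¬ IsScalarMat W := by
        intro h
        obtain ⟨c, hc⟩ := scalar_iff.mp h
        rw [hc, smul_mul_assoc, mul_smul_comm, one_mul, mul_one] at hWU
        rcases eq_or_ne c 0 with h0 | h0
        · rw [hc, h0] at hW2
          have := congrFun (congrFun hW2 0) 0
          simp at this
        · have hUV : U = U * V := smul_right_injective _ h0 hWU
          have hV1 : V = 1 := by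
            have h' := congrArg (fun M => U * M) hUV
            simp only [huu, e1] at h'
            exact (neg_injective h').symm
          exact hvs (scalar_iff.mpr ⟨1, by rw [one_smul, hV1]⟩)
      obtain ⟨hWt, hWd⟩ := tr_det_of_quadratic hWs hW2
      let wS : SLtwo F := ⟨W, hWd⟩
      set w := Matrix.SpecialLinearGroup.toGL wS
      have hwu : w * u * w⁻¹ = u * v := by rw [mul_inv_eq_iff_eq_mul]; exact Units.ext hWU
      have hwv : w * v * w⁻¹ = u := by rw [mul_inv_eq_iff_eq_mul]; exact Units.ext hWV
      have hwN : w ∈ Cfsg.Geo.subgroupNormalizer R := by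
        haveI : Finite R := Finite.of_equiv _ f.symm.toEquiv
        refine Subgroup.mem_normalizer_iff_map_conj_eq.mpr ?_
        apply Subgroup.eq_of_le_of_card_ge
        · rintro _ ⟨r', hr', rfl⟩
          have hr'' : r' ∈ (R.comap (MulAut.conj w).toMonoidHom) := by
            refine (Subgroup.closure_le _).mpr ?_ (hgen r' hr')
            rintro a (rfl | rfl)
            · change w * a * w⁻¹ ∈ R; rw [hwu]; exact mul_mem huR hvR
            · change w * a * w⁻¹ ∈ R; rw [hwv]; exact huR
          exact hr''
        · rw [Subgroup.card_map_of_injective (MulAut.conj w).injective]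
      have hWneg : ¬ IsScalarMat (-W) := fun h => hWs (by
        obtain ⟨c, hc⟩ := scalar_iff.mp h
        exact scalar_iff.mpr ⟨-c, by rw [neg_smul, ← hc, neg_neg]⟩)
      rcases mul_self_eq_one_iff.mp (sub_eq_zero.mp ht1) with h | h
      · let wS' : SLtwo F := ⟨-W, by rw [Matrix.det_neg, hWd]; simp⟩
        have htr : tr wS' = 1 := by
          change -W 0 0 + -W 1 1 = 1
          linear_combination -hWt
        refine conj x wS' hxS ?_ (by rw [htr]; intro e; exact one_ne_zero (α := F) (by linear_combination -e))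
          (by rw [htr]; intro e; exact h3 (by linear_combination e)) (by rw [htr]; exact h)
        have : Matrix.SpecialLinearGroup.toGL wS' = w * (u * u) := Units.ext (by
          rw [Units.val_mul, Units.val_mul, ← hU, huu, mul_neg_one]; rfl)
        rw [this]
        exact mul_mem hwN (Subgroup.le_normalizer (mul_mem huR huR))
      · have htr : tr wS = -1 := hWt
        exact conj x wS hxS hwN (by rw [htr]; intro e; exact h3 (by linear_combination -e))
          (by rw [htr]; intro e; exact one_ne_zero (α := F) (by linear_combination e)) (by rw [htr]; exact h)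

end Cfsg.Agent.S5997
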