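import Cfsg.Statements.S5999
import Mathlib
import Cfsg.Agent.Lib.LinClasses.UnitaryThree
import Cfsg.Agent.Lib.LinGroup.Order

set_option autoImplicit false
open scoped MatrixGroups
open Cfsg
open scoped Matrix
open Cfsg.Agent.Lib.LinClasses
open Cfsg.Agent.Lib.LinClasses.Heisenberg
open Cfsg.Agent.Lib.LinClasses.UnitaryThree

namespace Cfsg.Agent.S5999


/-- Elements of prime order of PSU_3(p), p ≡ 2 (mod 3), and the normalizer of an extraspecial subgroup of order 27. Here `T = PSU_3(p)` for a prime `p ≥ 5` with `p ≡ 2 (mod 3)`, realised through `SU_3(p)`, the matrices of determinant 1 over the field `F` with `p²` elements preserving the hermitian form `Σ uᵢvᵢ^p`; `R` is a non-abelian subgroup of order 27 and exponent 3 of the full unitary group of that form (an extraspecial group 3^{1+2}, acting absolutely irreducibly), and `H` is the subgroup of `SU_3(p)` normalizing `R` — a subgroup of type 3^{1+2}.Sp₂(3) (maximality is not assumed). Ω is the set of cosets of `H`,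 so an element of `T` of prime order `r` (`x ∈ SU_3(p)` with `x^r` scalar, `x` not scalar) fixes a point of Ω exactly when some `SU_3(p)`-conjugate of `x` normalizes `R`. Let `r` be a prime dividing the index of `H`. Then every element of `T` of order `r` fixes a point of Ω if and only if `r = 2`, or `r = 3` and `p ≡ 8 (mod 9)`. -/
theorem result {F : Type*} [Field F] [Fintype F] {p : ℕ} [Fact p.Prime] [CharP F p] (hF : Fintype.card F = p ^ 2) (hp : 5 ≤ p) (hp3 : p % 3 = 2)
    (R : Subgroup (GL (Fin 3) F)) (hRU : R ≤ Cfsg.GU 3 F p) (hR : Nat.card R = 27) (hRe : Monoid.exponent R = 3) (hRna : ¬ IsMulCommutative R)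
    (r : ℕ) [Fact r.Prime]
    (hΩ : r ∣ (Cfsg.Geo.subgroupNormalizer R).relIndex (Cfsg.GU 3 F p ⊓ Cfsg.Geo.specialLinear (Fin 3) F)) :
    (∀ x ∈ Cfsg.GU 3 F p ⊓ Cfsg.Geo.specialLinear (Fin 3) F, (∃ z : F, ((x ^ r : GL (Fin 3) F) : Matrix (Fin 3) (Fin 3) F) = z • (1 : Matrix (Fin 3) (Fin 3) F)) →
      (∀ z : F, (x : Matrix (Fin 3) (Fin 3) F) ≠ z • (1 : Matrix (Fin 3) (Fin 3) F)) →
      ∃ g ∈ Cfsg.GU 3 F p ⊓ Cfsg.Geo.specialLinear (Fin 3) F, g⁻¹ * x * g ∈ Cfsg.Geo.subgroupNormalizer R) ↔ (r = 2 ∨ (r = 3 ∧ p % 9 = 8)) := by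
  classical
  obtain ⟨ω₀, hω₀⟩ : ∃ ω : F, IsPrimitiveRoot ω 3 := by
    haveI := Fact.mk (by norm_num : Nat.Prime 3)
    obtain ⟨w, hw⟩ : ∃ w : Fˣ, orderOf w = 3 := by
      refine exists_prime_orderOf_dvd_card' 3 ?_
      rw [Nat.card_units, Nat.card_eq_fintype_card, hF]
      have h1 : (p ^ 2) % 3 = 1 := by rw [Nat.pow_mod, hp3]
      omega
    exact ⟨w, IsPrimitiveRoot.coe_units_iff.2 (hw ▸ IsPrimitiveRoot.orderOf w)⟩
  obtain ⟨Φ⟩ := exists_frame hω₀ hR hRe hRna
  haveI : Finite R := Nat.finite_of_card_ne_zero (by omega)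
  obtain ⟨μ, hμ, hform⟩ := frame_form hF (by omega) hRU Φ
  -- matrices unitary in the adapted basis are unitary
  have hadapt : ∀ (h : GL (Fin 3) F) (M : Matrix (Fin 3) (Fin 3) F),
      (h : Matrix (Fin 3) (Fin 3) F) * (Φ.P : Matrix (Fin 3) (Fin 3) F) = (Φ.P : Matrix (Fin 3) (Fin 3) F) * M →
      (∀ u v, Cfsg.hermForm 3 F p (M *ᵥ u) (M *ᵥ v) = Cfsg.hermForm 3 F p u v) → h ∈ Cfsg.GU 3 F p := by
    intro h M hh hM
    rw [mem_GU_iff]
    intro u v
    obtain ⟨u, rfl⟩ := (glEquiv Φ.P).surjective u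
    obtain ⟨v, rfl⟩ := (glEquiv Φ.P).surjective v
    rw [glEquiv_apply, glEquiv_apply, Matrix.mulVec_mulVec, Matrix.mulVec_mulVec, hh, ← Matrix.mulVec_mulVec,
      ← Matrix.mulVec_mulVec, hform, hM, hform]
  have hrp : r.Prime := Fact.out
  have h2F : (2 : F) ≠ 0 := fun h => by
    have h' : ((2 : ℕ) : F) = 0 := by exact_mod_cast h
    have := (Nat.prime_dvd_prime_iff_eq Fact.out Nat.prime_two).1 ((CharP.cast_eq_zero_iff F p 2).1 h')
    omega
  set S := Cfsg.GU 3 F p ⊓ Cfsg.Geo.specialLinear (Fin 3) F with hSdef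
  have hSL : Nat.card (Cfsg.Geo.specialLinear (Fin 3) F) = Nat.card (Matrix.SpecialLinearGroup (Fin 3) F) :=
    (Nat.card_congr Cfsg.Agent.Lib.LinGroup.slEquivKerDet.toEquiv).symm
  have hneg1 : ((-1 : F)) ^ (p + 1) = 1 := Cfsg.Agent.Lib.Classical.neg_one_norm hF
  have h3norm : ∀ z : F, z ^ 3 = 1 → z ^ (p + 1) = 1 := fun z hz => by
    rw [show p + 1 = 3 * ((p + 1) / 3) by omega, pow_mul, hz, one_pow]
  have hp9 : r = 3 → p % 9 = 8 := by
    intro hr3
    by_contra h9
    have hcard := Subgroup.card_mul_index ((Cfsg.Geo.subgroupNormalizer R).subgroupOf S)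
    have h27 : 27 ∣ Nat.card ((Cfsg.Geo.subgroupNormalizer R).subgroupOf S) := by
      rw [← hR, ← Nat.card_congr (Subgroup.subgroupOfEquivOfLe (le_inf hRU Φ.le_specialLinear)).toEquiv]
      refine Subgroup.card_dvd_of_le ?_
      intro g hg
      exact Subgroup.le_normalizer hg
    have h81 : 81 ∣ Nat.card S := by
      rw [← hcard, show (81 : ℕ) = 27 * 3 by norm_num]
      exact Nat.mul_dvd_mul h27 (hr3 ▸ hΩ)
    have h81' := h81.trans (Subgroup.card_dvd_of_le (inf_le_right : S ≤ Cfsg.Geo.specialLinear (Fin 3) F))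
    have h := Cfsg.Agent.Lib.LinGroup.card_SL_mul (F := F) 3 (by norm_num)
    have hq : (p ^ 2) % 9 = 4 ∨ (p ^ 2) % 9 = 7 := by
      rw [Nat.pow_mod]
      rcases (by omega : p % 9 = 2 ∨ p % 9 = 5) with e | e <;> rw [e] <;> norm_num
    refine not_243_dvd (q := Fintype.card F) (by rw [hF]; exact hq) ?_
    rw [← h, ← hSL, show (243 : ℕ) = 3 * 81 by norm_num]
    exact Nat.mul_dvd_mul (by rw [hF]; omega) h81'
  constructor
  · intro hall
    by_contra hcon
    push Not at hcon
    have hr5 : 5 ≤ r := by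
      have h2 := hrp.two_le
      have hne3 : r ≠ 3 := fun h => hcon.2 h (hp9 h)
      have hne4 : r ≠ 4 := fun h => by rw [h] at hrp; norm_num at hrp
      have := hcon.1
      omega
    have hdvd : r ∣ Nat.card S := hΩ.trans (Subgroup.relIndex_dvd_card ..)
    obtain ⟨x, hx⟩ := exists_prime_orderOf_dvd_card' r hdvd
    have hxr : (x : GL (Fin 3) F) ^ r = 1 := by
      rw [← SubgroupClass.coe_pow, ← hx, pow_orderOf_eq_one, Subgroup.coe_one]
    have hxns : ∀ z : F, ((x : GL (Fin 3) F) : Matrix (Fin 3) (Fin 3) F) ≠ z • 1 := by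
      intro z hz
      have hd : ((x : GL (Fin 3) F) : Matrix (Fin 3) (Fin 3) F).det = 1 :=
        congrArg Units.val (MonoidHom.mem_ker.1 (Subgroup.mem_inf.1 x.2).2)
      rw [hz, Matrix.det_smul, Matrix.det_one, mul_one, Fintype.card_fin] at hd
      have h3 : x ^ 3 = 1 := by
        apply Subtype.ext
        apply Units.ext
        rw [SubgroupClass.coe_pow, Units.val_pow_eq_pow_val, hz, _root_.smul_pow, hd, one_pow, one_smul]
        rfl
      have := Nat.le_of_dvd (by norm_num) (hx ▸ orderOf_dvd_of_pow_eq_one h3)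
      omega
    obtain ⟨g, hgS, hg⟩ := hall x x.2 ⟨1, by rw [hxr, Units.val_one, one_smul]⟩ hxns
    have hpow : (g⁻¹ * (x : GL (Fin 3) F) * g) ^ r = 1 := by
      have h := conj_pow (i := r) (a := g⁻¹) (b := (x : GL (Fin 3) F))
      rw [inv_inv] at h
      rw [h, hxr]; simp
    obtain ⟨c, hc⟩ := Φ.scalar_of_commute_all (Φ.commute_of_order hR hr5 hg hpow)
    refine hxns c ?_
    calc ((x : GL (Fin 3) F) : Matrix (Fin 3) (Fin 3) F)
        = ((g * (g⁻¹ * x * g) * g⁻¹ : GL (Fin 3) F) : Matrix (Fin 3) (Fin 3) F) := by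
          rw [show g * (g⁻¹ * (x : GL (Fin 3) F) * g) * g⁻¹ = x by group]
      _ = c • 1 := by
          rw [Units.val_mul, Units.val_mul, hc, Matrix.mul_smul, mul_one, Matrix.smul_mul, ← Units.val_mul,
            mul_inv_cancel, Units.val_one]
  · intro hr x hxS hxz hns
    obtain ⟨z, hz⟩ := hxz
    obtain ⟨hxU, hxdet⟩ := Subgroup.mem_inf.1 hxS
    have hdet : (x : Matrix (Fin 3) (Fin 3) F).det = 1 := congrArg Units.val (MonoidHom.mem_ker.1 hxdet)
    rw [Units.val_pow_eq_pow_val] at hz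
    have hz3 : z ^ 3 = 1 := by
      have h := congrArg Matrix.det hz
      rw [Matrix.det_pow, hdet, one_pow, Matrix.det_smul, Matrix.det_one, mul_one, Fintype.card_fin] at h
      exact h.symm
    rcases hr with rfl | ⟨rfl, h9⟩
    · -- involutions
      have hne : (1 : F) ≠ -1 := fun h => h2F (by linear_combination h)
      have hneg : ∀ y : Matrix (Fin 3) (Fin 3) F, y * y = 1 → y.det = 1 → (∀ c : F, y ≠ c • 1) →
          IsModel y (Matrix.diagonal ![(-1 : F), -1, 1]) := by
        intro y hy hyd hyns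
        have hq : (y - (1 : F) • 1) * (y - (-1 : F) • 1) = 0 := by
          simp only [neg_smul, one_smul, sub_neg_eq_add, mul_add, sub_mul, one_mul, mul_one, hy]; abel
        rcases exists_model_two hne h2F hq hyns with h | h
        · have := h.det_eq
          rw [hyd, Matrix.det_diagonal, Fin.prod_univ_three] at this
          simp at this
          exact absurd this hne
        · exact h
      obtain ⟨h, hhN, hh2, hhd, hhns, hhP⟩ := Φ.exists_involution
      have hhU : h ∈ Cfsg.GU 3 F p := hadapt h _ hhP fun u v => by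
        simp only [Cfsg.hermForm, Fin.sum_univ_three, Matrix.mulVec, dotProduct]
        have hm : ∀ a b : F, -a * (-b) ^ p = a * b ^ p := fun a b => by
          rw [neg_pow, ← mul_assoc]
          have h1 : -a * (-1 : F) ^ p = a := by
            rw [pow_succ] at hneg1
            linear_combination a * hneg1
          rw [h1]
        simp [hm]
        ring
      have hz0 : z ≠ 0 := fun e => by simp [e] at hz3
      have hzz : z • (x : Matrix (Fin 3) (Fin 3) F) * (z • (x : Matrix (Fin 3) (Fin 3) F)) = 1 := by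
        rw [Matrix.smul_mul, Matrix.mul_smul, smul_smul, ← pow_two, ← pow_two, hz, smul_smul, ← pow_succ, hz3, one_smul]
      have hxM := hneg _ hzz (by rw [Matrix.det_smul, hdet, mul_one, Fintype.card_fin, hz3]) (fun c hc => hns (z⁻¹ * c)
        (by rw [← smul_smul, ← hc, smul_smul, inv_mul_cancel₀ hz0, one_smul]))
      have hM := hneg _ hh2 hhd hhns
      let s : GL (Fin 3) F := Matrix.GeneralLinearGroup.scalar (Fin 3) (Units.mk0 z⁻¹ (inv_ne_zero hz0))
      have hsval : (s : Matrix (Fin 3) (Fin 3) F) = z⁻¹ • 1 := by simp [s, Matrix.smul_one_eq_diagonal]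
      have hzn : z⁻¹ ^ (p + 1) = 1 := by rw [inv_pow, h3norm z hz3, inv_one]
      have hsU : s ∈ Cfsg.GU 3 F p := diag_mem_GU hF s (fun _ => z⁻¹) (by simp [s]) fun _ => hzn
      have hdiag : z⁻¹ • Matrix.diagonal ![(-1 : F), -1, 1] = Matrix.diagonal (z⁻¹ • ![(-1 : F), -1, 1]) :=
        (Matrix.diagonal_smul z⁻¹ _).symm
      have h1 : IsModel (x : Matrix (Fin 3) (Fin 3) F) (Matrix.diagonal (z⁻¹ • ![(-1 : F), -1, 1])) := by
        have h' := hxM.smul z⁻¹
        rw [smul_smul, inv_mul_cancel₀ hz0, one_smul, hdiag] at h'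
        exact h'
      have h2 : IsModel ((s * h : GL (Fin 3) F) : Matrix (Fin 3) (Fin 3) F) (Matrix.diagonal (z⁻¹ • ![(-1 : F), -1, 1])) := by
        have h' := hM.smul z⁻¹
        rw [hdiag] at h'
        rw [Units.val_mul, hsval, Matrix.smul_mul, one_mul]
        exact h'
      obtain ⟨g, hg, hgx⟩ := exists_SU_conj hF hxU (mul_mem hsU hhU) (d := z⁻¹ • ![(-1 : F), -1, 1])
        (fun i => by
          have hev : Even (p + 1) := by
            refine Nat.even_add_one.2 (Nat.not_even_iff_odd.2 ?_)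
            exact (Fact.out : p.Prime).odd_of_ne_two (by omega)
          fin_cases i <;> simp [hev.neg_pow, hzn]) h1 h2
        (Or.inr ⟨by simp, fun e => hne (by
          have e' : z⁻¹ * (-1 : F) = z⁻¹ * 1 := by simpa using e
          exact (mul_left_cancel₀ (inv_ne_zero hz0) e').symm)⟩)
      refine ⟨g, hg, hgx ▸ mul_mem ?_ hhN⟩
      refine Φ.mem_normalizer s ?_ ?_
      · rw [show s * Φ.a * s⁻¹ = Φ.a from by
          rw [mul_inv_eq_iff_eq_mul]; apply Units.ext; simp [hsval]]
        exact Φ.ha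
      · rw [show s * Φ.b * s⁻¹ = Φ.b from by
          rw [mul_inv_eq_iff_eq_mul]; apply Units.ext; simp [hsval]]
        exact Φ.hb
    · -- elements of order three
      obtain ⟨ξ, hξ⟩ : ∃ ξ : F, IsPrimitiveRoot ξ 9 := by
        obtain ⟨g, hg⟩ := IsCyclic.exists_ofOrder_eq_natCard (α := Fˣ)
        obtain ⟨m, hm⟩ : 9 ∣ Nat.card Fˣ := by
          rw [Nat.card_units, Nat.card_eq_fintype_card, hF]
          have h1 : (p ^ 2) % 9 = 1 := by rw [Nat.pow_mod, h9]
          omega
        refine ⟨((g ^ m : Fˣ) : F), IsPrimitiveRoot.coe_units_iff.2 ?_⟩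
        refine (IsPrimitiveRoot.orderOf g).pow ?_ ?_
        · rw [hg]; exact Nat.card_pos
        · rw [hg, hm]; ring
      have hξn : ξ ^ (p + 1) = 1 := by
        rw [show p + 1 = 9 * ((p + 1) / 9) by omega, pow_mul, hξ.pow_eq_one, one_pow]
      have hω : IsPrimitiveRoot (ξ ^ 3) 3 := hξ.pow (by norm_num) (by norm_num)
      obtain ⟨i, -, rfl⟩ := hω.eq_pow_of_pow_eq_one hz3
      set s := ξ ^ i with hs
      have hsn : s ^ (p + 1) = 1 := by rw [hs, ← pow_mul, mul_comm, pow_mul, hξn, one_pow]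
      have hs0 : s ≠ 0 := pow_ne_zero _ (hξ.ne_zero (by norm_num))
      have hs3 : s ^ 3 = (ξ ^ 3) ^ i := by rw [hs, ← pow_mul, ← pow_mul, mul_comm]
      set y := s⁻¹ • (x : Matrix (Fin 3) (Fin 3) F) with hy
      have hy3 : y ^ 3 = 1 := by
        rw [hy, _root_.smul_pow, hz, smul_smul, ← hs3, ← mul_pow, inv_mul_cancel₀ hs0, one_pow, one_smul]
      have hyns : ∀ c : F, y ≠ c • 1 := fun c hc => hns (s * c) (by
        rw [← smul_smul, ← hc, hy, smul_smul, mul_inv_cancel₀ hs0, one_smul])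
      have hxy : (x : Matrix (Fin 3) (Fin 3) F) = s • y := by rw [hy, smul_smul, mul_inv_cancel₀ hs0, one_smul]
      rcases three_roots Φ.hω h2F hy3 hyns with hm | ⟨u, v, hu, hv, hm⟩
      · obtain ⟨h, hhN, hhM, hhP⟩ := Φ.exists_dmodel hs0
        have hd : s • dMat Φ.ω = Matrix.diagonal (s • ![1, Φ.ω, Φ.ω * Φ.ω]) := (Matrix.diagonal_smul s _).symm
        rw [hd] at hhM hhP
        have hdn : ∀ j, (s • ![1, Φ.ω, Φ.ω * Φ.ω]) j ^ (p + 1) = 1 := fun j => by
          fin_cases j <;> simp [mul_pow, hsn, h3norm Φ.ω Φ.hω.pow_eq_one]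
        have hhU : h ∈ Cfsg.GU 3 F p := hadapt h _ hhP fun a b =>
          Cfsg.Agent.Lib.Classical.diagonal_mem_GU hF _ hdn a b
        have hxM : IsModel (x : Matrix (Fin 3) (Fin 3) F) (Matrix.diagonal (s • ![1, Φ.ω, Φ.ω * Φ.ω])) := by
          rw [hxy, ← hd]; exact hm.smul s
        obtain ⟨g, hg, hgx⟩ := exists_SU_conj hF hxU hhU hdn hxM hhM (Or.inl fun j k hjk e => hjk (by
          have hpw : ∀ l : Fin 3, (![1, Φ.ω, Φ.ω * Φ.ω] : Fin 3 → F) l = Φ.ω ^ (l : ℕ) := fun l => by
            fin_cases l <;> simp [pow_two]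
          rw [Pi.smul_apply, Pi.smul_apply, smul_eq_mul, smul_eq_mul, hpw, hpw] at e
          exact Fin.ext (Φ.hω.pow_inj j.isLt k.isLt (mul_left_cancel₀ hs0 e))))
        exact ⟨g, hg, hgx ▸ hhN⟩
      · have hu0 : u ≠ 0 := fun e => by simp [e] at hu
        have huv : u ≠ v := fun e => by
          subst e
          obtain ⟨Ψ, hΨ⟩ := hm
          refine hyns u (Matrix.toLin'.injective (LinearMap.ext fun w => ?_))
          obtain ⟨w, rfl⟩ := Ψ.surjective w
          rw [Matrix.toLin'_apply, hΨ, Matrix.toLin'_apply, Matrix.smul_mulVec, Matrix.one_mulVec, ← map_smul]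
          congr 1
          ext k
          rw [Matrix.mulVec_diagonal]
          fin_cases k <;> simp
        obtain ⟨h, hhN, hhM, hhP⟩ := Φ.exists_diag (t := s * u) (ζ := v / u) (mul_ne_zero hs0 hu0)
          (by rw [div_pow, hu, hv, div_one])
        have hd : s • Matrix.diagonal ![u, u, v] = Matrix.diagonal ![s * u, s * u, s * u * (v / u)] := by
          rw [← Matrix.diagonal_smul]
          refine congrArg _ (funext fun k => ?_)
          fin_cases k <;> simp [mul_assoc, mul_div_cancel₀ _ hu0]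
        have hdn : ∀ j, (![s * u, s * u, s * u * (v / u)] : Fin 3 → F) j ^ (p + 1) = 1 := fun j => by
          fin_cases j <;> simp [mul_pow, div_pow, hsn, h3norm u hu, h3norm v hv]
        have hhU : h ∈ Cfsg.GU 3 F p := hadapt h _ hhP fun a b =>
          Cfsg.Agent.Lib.Classical.diagonal_mem_GU hF _ hdn a b
        have hxM : IsModel (x : Matrix (Fin 3) (Fin 3) F) (Matrix.diagonal ![s * u, s * u, s * u * (v / u)]) := by
          rw [hxy, ← hd]; exact hm.smul s
        obtain ⟨g, hg, hgx⟩ := exists_SU_conj hF hxU hhU hdn hxM hhM (Or.inr ⟨rfl, fun e => huv (by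
          simp at e
          field_simp at e
          first | exact e | exact e.symm | (apply mul_left_cancel₀ hs0; first | linear_combination e | linear_combination -e))⟩)
        exact ⟨g, hg, hgx ▸ hhN⟩

end Cfsg.Agent.S5999
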