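import Cfsg.Statements.S6000
import Cfsg.Agent.Lib.SympFour.Common
import Cfsg.Agent.Lib.SympFour.AvoidThree
import Cfsg.Agent.Lib.Semisimple.Basic
-- import your own Cfsg.Agent.* helpers here

set_option autoImplicit false
open scoped MatrixGroups
open Cfsg

namespace Cfsg.Agent.S6000

open Matrix Polynomial in
theorem sl_conj {F : Type*} [Field F] [Fintype F] {p : ℕ} [Fact p.Prime] [CharP F p]
    {x y : Matrix (Fin 4) (Fin 4) F} (hxd : IsUnit x) {n : ℕ} (hn : n.Coprime p) (hx : x ^ n = 1) (hy : y ^ n = 1)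
    (hc : x.charpoly = y.charpoly) :
    ∃ g ∈ Cfsg.Geo.specialLinear (Fin 4) F,
      ((g⁻¹ : GL (Fin 4) F) : Matrix (Fin 4) (Fin 4) F) * x * (g : Matrix (Fin 4) (Fin 4) F) = y := by
  obtain ⟨P, hP⟩ := Cfsg.Agent.Lib.Semisimple.isConj_of_charpoly_coprime x y hn hx hn hy hc
  -- correct the determinant inside the centraliser of `x`
  obtain ⟨D, hD, hDd⟩ := Cfsg.Agent.Lib.Semisimple.exists_commute_det (p := p) (by norm_num) x hn hx
    (Units.map (Matrix.detMonoidHom : Matrix (Fin 4) (Fin 4) F →* F) P)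
  have hPinv : x * ((P⁻¹ : (Matrix (Fin 4) (Fin 4) F)ˣ) : Matrix (Fin 4) (Fin 4) F) =
      ((P⁻¹ : (Matrix (Fin 4) (Fin 4) F)ˣ) : Matrix (Fin 4) (Fin 4) F) * y := by
    rw [Units.eq_inv_mul_iff_mul_eq, ← mul_assoc, hP.eq, mul_assoc, Units.mul_inv, mul_one]
  set Q := D * ((P⁻¹ : (Matrix (Fin 4) (Fin 4) F)ˣ) : Matrix (Fin 4) (Fin 4) F) with hQ
  have hQd : Q.det = 1 := by
    rw [hQ, Matrix.det_mul, hDd]
    show (P : Matrix (Fin 4) (Fin 4) F).det * _ = 1
    rw [← Matrix.det_mul, Units.mul_inv, Matrix.det_one]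
  refine ⟨Matrix.GeneralLinearGroup.mkOfDetNeZero Q (by rw [hQd]; exact one_ne_zero), Units.ext (by simpa using hQd), ?_⟩
  rw [mul_assoc, Units.inv_mul_eq_iff_eq_mul]
  show x * Q = Q * y
  rw [hQ, ← mul_assoc, hD.eq.symm, mul_assoc, hPinv, mul_assoc]

/-- a block with the given `2 × 2` corner -/
def blk {F : Type*} [Field F] (a b c d : F) : Matrix (Fin 4) (Fin 4) F :=
  !![a, b, 0, 0; c, d, 0, 0; 0, 0, 1, 0; 0, 0, 0, 1]

open Matrix in
lemma blk_mul {F : Type*} [Field F] (a b c d a' b' c' d' : F) :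
    blk a b c d * blk a' b' c' d' = blk (a * a' + b * c') (a * b' + b * d') (c * a' + d * c') (c * b' + d * d') := by
  ext i j
  fin_cases i <;> fin_cases j <;> simp [blk, Matrix.mul_apply, Fin.sum_univ_four]

lemma blk_one {F : Type*} [Field F] : (blk 1 0 0 1 : Matrix (Fin 4) (Fin 4) F) = 1 := by
  ext i j
  fin_cases i <;> fin_cases j <;> simp [blk]

lemma blk_trace {F : Type*} [Field F] (a b c d : F) : (blk a b c d).trace = a + d + 2 := by
  simp [blk, Matrix.trace, Fin.sum_univ_four]; ring

lemma blk_det {F : Type*} [Field F] (a b c d : F) : (blk a b c d).det = a * d - b * c := by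
  simp [blk, Matrix.det_succ_row_zero, Fin.sum_univ_succ, show Fin.succAbove (1 : Fin 4) (2 : Fin 3) = 3 from rfl]
  ring

/-- Elements of prime order of PSL_4(p), p ≡ 1 (mod 4), and the normalizer of a 2-group of symplectic type of order 2⁶. Here `T = PSL_4(F)` for the field `F` with `p` elements, `p` a prime with `p ≡ 1 (mod 4)`; `R` is an absolutely irreducible subgroup of GL_4(F) of order 2⁶ that is a 2-group of symplectic type of exponent 4 with centre of order 4 (the central product of the scalars of order 4 with an extraspecial group 2^{1+4}), and `H` is the subgroup of matrices of determinant 1 normalizing `R` — a subgroup of type 2⁴.Sp₄(2) (maximality is not assumed). Ω is the set of cosets of `H` in `T`, so an element of `T` of prime order `r` (a matrix `x` of determinant 1 with `x^r` scalar, `x` not scalar) fixes a point of Ω exactly when some conjugate of `x` by a matrix of determinant 1 normalizes `R`. Let `r` be a prime dividing the index of `H`. Then every element of `T` of order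 `r` fixes a point of Ω if and only if `r = 2`, or `r = 3` and `p ≡ 2 (mod 3)`, or `r = 5` and `p ≡ ±2 (mod 5)` (`p` has multiplicative order 4 modulo 5). -/
theorem result {F : Type*} [Field F] [Fintype F] {p : ℕ} [Fact p.Prime] [CharP F p] (hF : Fintype.card F = p) (hp4 : p % 4 = 1)
    (R : Subgroup (GL (Fin 4) F)) (hR : Cfsg.Geo.IsLinearSymplecticTypeData 2 R) (hR6 : Nat.card R = 2 ^ 6)
    (r : ℕ) [Fact r.Prime]
    (hΩ : r ∣ (Cfsg.Geo.subgroupNormalizer R).relIndex (Cfsg.Geo.specialLinear (Fin 4) F)) :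
    (∀ x ∈ Cfsg.Geo.specialLinear (Fin 4) F, (∃ z : F, ((x ^ r : GL (Fin 4) F) : Matrix (Fin 4) (Fin 4) F) = z • (1 : Matrix (Fin 4) (Fin 4) F)) →
      (∀ z : F, (x : Matrix (Fin 4) (Fin 4) F) ≠ z • (1 : Matrix (Fin 4) (Fin 4) F)) →
      ∃ g ∈ Cfsg.Geo.specialLinear (Fin 4) F, g⁻¹ * x * g ∈ Cfsg.Geo.subgroupNormalizer R) ↔ (r = 2 ∨ (r = 3 ∧ p % 3 = 2) ∨ (r = 5 ∧ orderOf (p : ZMod 5) = 4)) := by
  classical
  obtain ⟨q, e, hrq, hmin, hcases⟩ := hR.field
  have hZ : Nat.card (Subgroup.center R) = 4 := by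
    rcases hcases with ⟨ho, -⟩ | ⟨-, -, hz, -⟩ | ⟨-, -, h4, -⟩
    · exact absurd ho (by decide)
    · exact hz
    · simp at h4
  have hp : p.Prime := Fact.out
  have hcast : ∀ n : ℕ, 0 < n → n < p → (n : F) ≠ 0 := fun n h0 hn h =>
    absurd (Nat.le_of_dvd h0 ((CharP.cast_eq_zero_iff F p n).1 h)) (by omega)
  have hp5 : 5 ≤ p := by
    have := hp.two_le
    by_contra h
    have h4 : p = 4 ∨ p = 3 ∨ p = 2 := by omega
    omega
  have h2 : (2 : F) ≠ 0 := by simpa using hcast 2 (by norm_num) (by omega)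
  have h3 : (3 : F) ≠ 0 := by simpa using hcast 3 (by norm_num) (by omega)
  obtain ⟨Φ⟩ := Cfsg.Agent.Lib.SympFour.exists_frame hR.symplecticType hR.absIrred (by rw [hR6]; norm_num) hZ h2
  have hcardU : Nat.card Fˣ = p - 1 := by rw [Nat.card_units, Nat.card_eq_fintype_card, hF]
  have hrp : r.Prime := Fact.out
  have hord : orderOf (p : ZMod 5) = 4 ↔ p % 5 = 2 ∨ p % 5 = 3 := by
    have hc : ((p : ℕ) : ZMod 5) = ((p % 5 : ℕ) : ZMod 5) := (ZMod.natCast_mod p 5).symm
    have h5 : p % 5 < 5 := Nat.mod_lt _ (by norm_num)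
    rw [orderOf_eq_iff (by norm_num), hc]
    interval_cases hm : p % 5 <;> decide
  constructor
  · intro hall
    by_contra hcon
    push Not at hcon
    obtain ⟨hr2, hr3, hr5⟩ := hcon
    have hr7 : r = 3 ∨ r = 5 ∨ 7 ≤ r := by
      have := hrp.two_le
      by_contra h
      have h46 : r = 4 ∨ r = 6 := by omega
      rcases h46 with rfl | rfl <;> exact absurd hrp (by norm_num)
    -- a witness of determinant one
    have witness : ∀ (M M' : Matrix (Fin 4) (Fin 4) F), M * M' = 1 → M.det = 1 → (∀ c : F, M ≠ c • 1) → M ^ r = 1 →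
        ∃ x g : GL (Fin 4) F, (x : Matrix (Fin 4) (Fin 4) F) = M ∧
          ((x⁻¹ : GL (Fin 4) F) : Matrix (Fin 4) (Fin 4) F) = M' ∧
          ((x ^ r : GL (Fin 4) F) : Matrix (Fin 4) (Fin 4) F) = (1 : F) • 1 ∧
          g⁻¹ * x * g ∈ Cfsg.Geo.subgroupNormalizer R := by
      intro M M' hM hd hns hr
      let x : GL (Fin 4) F := ⟨M, M', hM, mul_eq_one_comm.1 hM⟩
      have hx : x ∈ Cfsg.Geo.specialLinear (Fin 4) F := Units.ext (by simpa [x] using hd)
      have hxr : ((x ^ r : GL (Fin 4) F) : Matrix (Fin 4) (Fin 4) F) = (1 : F) • 1 := by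
        rw [Units.val_pow_eq_pow_val, one_smul]; exact hr
      obtain ⟨g, -, hg⟩ := hall x hx ⟨1, hxr⟩ hns
      exact ⟨x, g, rfl, rfl, hxr, hg⟩
    rcases hr7 with rfl | rfl | hr7
    · -- period three, `p ≡ 1 (mod 3)`
      have hp1 : p % 3 = 1 := by
        have h30 : p % 3 ≠ 0 := fun h => by
          have := (Nat.prime_dvd_prime_iff_eq Nat.prime_three hp).1 (Nat.dvd_of_mod_eq_zero h)
          omega
        have := hr3 rfl
        omega
      obtain ⟨w, hw⟩ : ∃ w : F, IsPrimitiveRoot w 3 := by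
        obtain ⟨w, hw⟩ := exists_prime_orderOf_dvd_card' (G := Fˣ) 3 (by rw [hcardU]; omega)
        exact ⟨w, IsPrimitiveRoot.coe_units_iff.2 (hw ▸ IsPrimitiveRoot.orderOf w)⟩
      have hw3 := hw.pow_eq_one
      have hw1 := hw.ne_one (by norm_num)
      have hsum : w * w + w + 1 = 0 := by
        refine (mul_eq_zero.1 (show (w - 1) * (w * w + w + 1) = 0 by linear_combination hw3)).resolve_left ?_
        exact sub_ne_zero.2 hw1
      obtain ⟨x, g, hx, hx', hxr, hg⟩ := witness (Matrix.diagonal ![w, w, w, 1]) (Matrix.diagonal ![w * w, w * w, w * w, 1])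
        (by
          rw [Matrix.diagonal_mul_diagonal, ← Matrix.diagonal_one]
          congr 1
          funext i
          fin_cases i <;> simp <;> linear_combination hw3)
        (by simp [Matrix.det_diagonal, Fin.prod_univ_four]; linear_combination hw3)
        (fun c hc => hw1 (by
          have e0 := congrFun (congrFun hc 0) 0
          have e3 := congrFun (congrFun hc 3) 3
          simp at e0 e3
          rw [e0, ← e3]))
        (by
          rw [Matrix.diagonal_pow, ← Matrix.diagonal_one]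
          congr 1
          funext i
          fin_cases i <;> simp [hw3])
      have ht := Φ.trace_three hxr (by
        intro c hc
        rw [hx] at hc
        apply hw1
        have e0 := congrFun (congrFun hc 0) 0
        have e3 := congrFun (congrFun hc 3) 3
        simp at e0 e3
        rw [e0, ← e3]) hg
      rw [hx, hx'] at ht
      simp [Matrix.trace, Fin.sum_univ_four] at ht
      rcases ht with ht | ht
      · have : (2 : F) * 3 = 0 := by linear_combination ht - (9 * w - 6) * hsum
        exact mul_ne_zero h2 h3 this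
      · exact h3 (by linear_combination ht - (9 * w - 6) * hsum)
    · -- period five
      have hp5' : p % 5 = 0 ∨ p % 5 = 1 ∨ p % 5 = 4 := by
        have := hr5 rfl
        rw [Ne, hord] at this
        omega
      obtain ⟨s, hs⟩ : ∃ s : F, s * s + s = 1 := by
        haveI : Fact (Nat.Prime 5) := ⟨by norm_num⟩
        have hsq : IsSquare ((5 : ℕ) : ZMod p) := by
          by_cases h5p : p = 5
          · subst h5p; exact ⟨0, by rw [ZMod.natCast_self]; simp⟩
          rw [ZMod.exists_sq_eq_prime_iff_of_mod_four_eq_one hp4 (by norm_num)]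
          have hc : ((p : ℕ) : ZMod 5) = ((p % 5 : ℕ) : ZMod 5) := (ZMod.natCast_mod p 5).symm
          rw [hc]
          rcases hp5' with h | h | h <;> rw [h]
          · exact ⟨0, by simp⟩
          · exact ⟨1, by simp⟩
          · exact ⟨2, by norm_num⟩
        obtain ⟨t, ht⟩ := hsq
        let f : ZMod p →+* F := ZMod.castHom dvd_rfl F
        have htF : f t * f t = 5 := by rw [← map_mul, ← ht, map_natCast]; norm_num
        refine ⟨(f t - 1) / 2, ?_⟩
        field_simp
        linear_combination htF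
      have hm : ∀ a b c d : F, blk a b c d ^ 5 =
          blk a b c d * (blk a b c d * blk a b c d) * (blk a b c d * blk a b c d) := fun a b c d => by
        simp [pow_succ, mul_assoc]
      obtain ⟨x, g, hx, hx', hxr, hg⟩ := witness (blk 0 (-1) 1 s) (blk s 1 (-1) 0)
        (by rw [blk_mul, ← blk_one]; congr 1 <;> ring)
        (by rw [blk_det]; ring)
        (fun c hc => by
          have e := congrFun (congrFun hc 1) 0
          simp [blk] at e)
        (by
          rw [hm, blk_mul, blk_mul, blk_mul, ← blk_one]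
          congr 1 <;> grind)
      have hns : ∀ c : F, (x : Matrix (Fin 4) (Fin 4) F) ≠ c • 1 := fun c hc => by
        rw [hx] at hc
        have e := congrFun (congrFun hc 1) 0
        simp [blk] at e
      by_cases h5p : p = 5
      · have h50 : (5 : F) = 0 := by
          subst h5p
          simpa using CharP.cast_eq_zero F 5
        have hs2 : s = 2 := by
          have : (s - 2) * (s - 2) = 0 := by linear_combination hs + (1 - s) * h50
          exact sub_eq_zero.1 (mul_self_eq_zero.1 this)
        refine Φ.not_quadratic_five hxr hns (α := 1) (β := 1) ?_ hg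
        rw [hx, one_smul, ← blk_one]
        ext i j
        fin_cases i <;> fin_cases j <;> simp [blk, Matrix.mul_apply, Fin.sum_univ_four, hs2] <;> ring
      · have ht := Φ.trace_five hxr hns hg
        rw [hx, hx', blk_trace, blk_trace] at ht
        have h5F : (5 : F) ≠ 0 := fun h => by
          have := (CharP.cast_eq_zero_iff F p 5).1 (by exact_mod_cast h)
          exact h5p ((Nat.prime_dvd_prime_iff_eq hp (by norm_num)).1 this)
        have h13 : (s + 1) * (s + 3) = 0 := by linear_combination ht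
        rcases mul_eq_zero.1 h13 with h | h
        · exact one_ne_zero (α := F) (by linear_combination s * h - hs)
        · exact h5F (by linear_combination hs - (s - 2) * h)
    · -- large primes
      have hdvd : r ∣ Nat.card (Cfsg.Geo.specialLinear (Fin 4) F) := hΩ.trans (Subgroup.relIndex_dvd_card ..)
      obtain ⟨x, hx⟩ := exists_prime_orderOf_dvd_card' r hdvd
      have hxr : ((x : GL (Fin 4) F)) ^ r = 1 := by
        rw [← SubgroupClass.coe_pow, ← hx, pow_orderOf_eq_one, Subgroup.coe_one]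
      have hns : ∀ c : F, ((x : GL (Fin 4) F) : Matrix (Fin 4) (Fin 4) F) ≠ c • 1 := by
        intro c hc
        have hd : ((x : GL (Fin 4) F) : Matrix (Fin 4) (Fin 4) F).det = 1 := congrArg Units.val (MonoidHom.mem_ker.1 x.2)
        rw [hc, Matrix.det_smul, Matrix.det_one, mul_one, Fintype.card_fin] at hd
        have h4 : x ^ 4 = 1 := Subtype.ext (Units.ext (by
          rw [SubgroupClass.coe_pow, Units.val_pow_eq_pow_val, hc, _root_.smul_pow, hd, one_pow, one_smul]; rfl))
        have := Nat.le_of_dvd (by norm_num) (hx ▸ orderOf_dvd_of_pow_eq_one h4)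
        omega
      obtain ⟨g, -, hg⟩ := hall x x.2 ⟨1, by rw [hxr, Units.val_one, one_smul]⟩ hns
      exact Φ.not_conj_of_seven_le hr7 (z := 1) (by rw [hxr, Units.val_one, one_smul]) hns hg
  · intro hr x hxS hxz hns
    obtain ⟨z, hz⟩ := hxz
    rw [Units.val_pow_eq_pow_val] at hz
    have hdet : (x : Matrix (Fin 4) (Fin 4) F).det = 1 := congrArg Units.val (MonoidHom.mem_ker.1 hxS)
    have hz4 : z ^ 4 = 1 := Cfsg.Agent.Lib.SympFour.det_smul_one_pow hdet hz
    have hz0 : z ≠ 0 := fun e => by simp [e] at hz4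
    -- from a conjugate of a multiple to the normaliser
    have finish : ∀ (c : F) (M : Matrix (Fin 4) (Fin 4) F) (n : ℕ) (y : GL (Fin 4) F), c ≠ 0 →
        y ∈ Cfsg.Geo.subgroupNormalizer R → (∃ k : F, M = k • (y : Matrix (Fin 4) (Fin 4) F)) → n.Coprime p →
        (c • (x : Matrix (Fin 4) (Fin 4) F)) ^ n = 1 → M ^ n = 1 →
        (c • (x : Matrix (Fin 4) (Fin 4) F)).charpoly = M.charpoly →
        ∃ g ∈ Cfsg.Geo.specialLinear (Fin 4) F, g⁻¹ * x * g ∈ Cfsg.Geo.subgroupNormalizer R := by
      intro c M n y hc hy hMk hn hxn hMn hchar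
      obtain ⟨k, hk⟩ := hMk
      have hu : IsUnit (c • (x : Matrix (Fin 4) (Fin 4) F)) := by
        rw [Matrix.isUnit_iff_isUnit_det, Matrix.det_smul, hdet, mul_one]
        exact (pow_ne_zero _ hc).isUnit
      obtain ⟨g, hg, hgx⟩ := sl_conj hu hn hxn hMn hchar
      refine ⟨g, hg, Cfsg.Agent.Lib.SympFour.smul_mem_normalizer (c := c⁻¹ * k) hy ?_⟩
      rw [Units.val_mul, Units.val_mul, ← smul_smul, ← hk, ← hgx, Matrix.mul_smul, Matrix.smul_mul, smul_smul,
        inv_mul_cancel₀ hc, one_smul]
    rcases hr with rfl | ⟨rfl, hp3⟩ | ⟨rfl, hp5o⟩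
    · -- involutions
      rw [pow_two] at hz
      obtain ⟨s, hs⟩ : IsSquare z := by
        by_contra hnsq
        have hirr : Irreducible (Polynomial.X ^ 2 - Polynomial.C z) := by
          refine Polynomial.irreducible_of_degree_le_three_of_not_isRoot
            (by rw [Polynomial.natDegree_X_pow_sub_C]; decide) fun w hw => hnsq ⟨w, ?_⟩
          simp [pow_two, sub_eq_zero] at hw
          exact hw.symm
        obtain ⟨k, hk, hdeg, -, -⟩ := Cfsg.Agent.Lib.SympFour.charpoly_prod (ι := Fin 1)
          (fun _ => Polynomial.X ^ 2 - Polynomial.C z) (fun _ => hirr)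
          (fun _ => Polynomial.monic_X_pow_sub_C z (by norm_num)) (fun a b _ => Subsingleton.elim a b)
          (x : Matrix (Fin 4) (Fin 4) F) (by simp [pow_two, hz, Algebra.algebraMap_eq_smul_one])
        simp at hdeg
        have hd := Matrix.det_eq_sign_charpoly_coeff (x : Matrix (Fin 4) (Fin 4) F)
        rw [hdet, hk, Fin.prod_univ_one, show k 0 = 2 by omega, Fintype.card_fin] at hd
        simp [pow_two, Polynomial.mul_coeff_zero] at hd
        have hz2 : z * z = 1 := by linear_combination -hd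
        rcases mul_self_eq_one_iff.1 hz2 with rfl | rfl
        · exact hnsq ⟨1, (one_mul 1).symm⟩
        · exact hnsq ⟨Φ.i, Φ.hi.symm⟩
      have hs0 : s ≠ 0 := fun h => hz0 (by rw [hs, h, mul_zero])
      have hss : s + s ≠ 0 := by rw [← two_mul]; exact mul_ne_zero h2 hs0
      obtain ⟨a, b, ha, hb, hab, hchar, -⟩ := Cfsg.Agent.Lib.SympFour.charpoly_sq hss (by rw [hz, hs]) hns
      obtain ⟨M, y, hy, hyM, -, hM2, hMc⟩ := Φ.sq_target hs0 hab ha hb
      -- both have period `2 * (p - 1)`
      have hsp : s ^ (p - 1) = 1 := hF ▸ FiniteField.pow_card_sub_one_eq_one s hs0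
      have hpow : ∀ N : Matrix (Fin 4) (Fin 4) F, N * N = (s * s) • 1 → N ^ (2 * (p - 1)) = 1 := fun N hN => by
        rw [pow_mul, pow_two, hN, _root_.smul_pow, one_pow, mul_pow, hsp, one_mul, one_smul]
      have hcop : (2 * (p - 1)).Coprime p := by
        rw [Nat.coprime_comm, hp.coprime_iff_not_dvd]
        intro h
        rcases hp.dvd_mul.1 h with h | h
        · have := Nat.le_of_dvd (by norm_num) h; omega
        · have := Nat.le_of_dvd (by omega) h; omega
      exact finish 1 (s • M) _ y one_ne_zero hy ⟨s, by rw [hyM]⟩ hcop (by rw [one_smul]; exact hpow _ (by rw [hz, hs]))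
        (hpow _ (by rw [Matrix.smul_mul, Matrix.mul_smul, smul_smul, hM2])) (by rw [one_smul, hchar, hMc])
    · -- elements of order three
      have h3w : ∀ w : F, w * w + w + 1 ≠ 0 := by
        intro w hw
        have hw3 : w ^ 3 = 1 := by linear_combination (w - 1) * hw
        have hw0 : w ≠ 0 := fun h => by simp [h] at hw
        have hu : (Units.mk0 w hw0) ^ 3 = (1 : Fˣ) ^ 3 := by rw [one_pow]; exact Units.ext hw3
        have hco : (Nat.card Fˣ).Coprime 3 := by
          rw [hcardU, Nat.coprime_comm, Nat.Prime.coprime_iff_not_dvd Nat.prime_three]; omega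
        have h1 := congrArg Units.val ((powCoprime hco).injective hu)
        have : w = 1 := h1
        exact h3 (by linear_combination hw - (w + 2) * this)
      set X' := z • (x : Matrix (Fin 4) (Fin 4) F) with hX
      have hX3 : X' ^ 3 = 1 := by
        rw [hX, _root_.smul_pow, hz, smul_smul, ← pow_succ, hz4, one_smul]
      have hX1 : X' ≠ 1 := fun h => hns z⁻¹ (by rw [← h, hX, smul_smul, inv_mul_cancel₀ hz0, one_smul])
      obtain ⟨a, b, hab, hb, hchar, -⟩ := Cfsg.Agent.Lib.SympFour.charpoly_cube_irred h3w hX3 hX1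
      have hne : ∀ M : Matrix (Fin 4) (Fin 4) F, (M.trace = 1 ∨ M.trace = -2) → M ≠ 1 := by
        intro M hM h
        rw [h, Matrix.trace_one, Fintype.card_fin] at hM
        push_cast at hM
        rcases hM with hM | hM
        · exact h3 (by linear_combination hM)
        · exact mul_ne_zero h2 h3 (by linear_combination hM)
      have hcop : (3 : ℕ).Coprime p := by
        rw [Nat.Prime.coprime_iff_not_dvd Nat.prime_three]; omega
      have target : ∀ (M : Matrix (Fin 4) (Fin 4) F) (t : F), M ^ 3 = 1 → M.trace = t → (t = 1 ∨ t = -2) →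
          ((a : F) - b = t) → M.charpoly = X'.charpoly := by
        intro M t hM hMt ht hab'
        obtain ⟨a', b', hab2, hb2, hc2, htr2⟩ :=
          Cfsg.Agent.Lib.SympFour.charpoly_cube_irred h3w hM (hne M (hMt ▸ ht))
        rw [hMt] at htr2
        have : (a = 2 ∧ b = 1 ∧ a' = 2 ∧ b' = 1) ∨ (a = 0 ∧ b = 2 ∧ a' = 0 ∧ b' = 2) ∨
            (a = 2 ∧ b = 1 ∧ a' = 0 ∧ b' = 2) ∨ (a = 0 ∧ b = 2 ∧ a' = 2 ∧ b' = 1) := by omega
        rcases this with ⟨rfl, rfl, rfl, rfl⟩ | ⟨rfl, rfl, rfl, rfl⟩ | ⟨rfl, rfl, rfl, rfl⟩ | ⟨rfl, rfl, rfl, rfl⟩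
        · rw [hc2, hchar]
        · rw [hc2, hchar]
        all_goals
          exfalso
          push_cast at hab' htr2
          exact h3 (by first | linear_combination hab' - htr2 | linear_combination htr2 - hab' |
            linear_combination hab' + htr2 | linear_combination -hab' - htr2)
      have hcases : (a = 2 ∧ b = 1) ∨ (a = 0 ∧ b = 2) := by omega
      rcases hcases with h | h
      · obtain ⟨y, hy, hyM⟩ := Φ.exists_UW
        exact finish z (Φ.U * Φ.W) 3 y hz0 hy ⟨1, by rw [hyM, one_smul]⟩ hcop hX3 Φ.UW_pow_three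
          (target _ 1 Φ.UW_pow_three Φ.trace_UW (Or.inl rfl) (by rw [h.1, h.2]; norm_num)).symm
      · obtain ⟨y, hy, hyM⟩ := Φ.exists_U
        exact finish z Φ.U 3 y hz0 hy ⟨1, by rw [hyM, one_smul]⟩ hcop hX3 Φ.U_pow_three
          (target _ (-2) Φ.U_pow_three Φ.trace_U (Or.inr rfl) (by rw [h.1, h.2]; norm_num)).symm
    · -- elements of order five
      rw [hord] at hp5o
      haveI : Fact (Nat.Prime 5) := ⟨by norm_num⟩
      have hcyc : Irreducible (Polynomial.cyclotomic 5 F) := by
        refine Polynomial.irreducible_of_dvd_cyclotomic_of_natDegree (p := p) (f := 1) (by rw [hF, pow_one])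
          ((Nat.coprime_primes hp (by norm_num)).2 (by omega)) dvd_rfl ?_
        rw [Polynomial.natDegree_cyclotomic, ← orderOf_units, ZMod.coe_unitOfCoprime, pow_one, hord.2 hp5o]
        rfl
      set X' := z⁻¹ • (x : Matrix (Fin 4) (Fin 4) F) with hX
      have hX5 : X' ^ 5 = 1 := by
        rw [hX, _root_.smul_pow, hz, smul_smul, pow_succ, mul_assoc, inv_mul_cancel₀ hz0, mul_one, inv_pow, hz4,
          inv_one, one_smul]
      have hX1 : X' ≠ 1 := fun h => hns z (by rw [← h, hX, smul_smul, mul_inv_cancel₀ hz0, one_smul])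
      obtain ⟨k, hk⟩ := Φ.G_pow_five
      have hk0 : k ≠ 0 := fun h0 => by
        have h1 : IsUnit (Φ.G ^ 5) := (IsUnit.of_mul_eq_one _ Φ.G_mul_G').pow 5
        rw [hk, h0, zero_smul] at h1
        exact not_isUnit_zero h1
      have hco : (Nat.card Fˣ).Coprime 5 := by
        rw [hcardU, Nat.coprime_comm, Nat.Prime.coprime_iff_not_dvd (by norm_num)]; omega
      obtain ⟨l, hl⟩ := (powCoprime hco).surjective (Units.mk0 k⁻¹ (inv_ne_zero hk0))
      have hl5 : (l : F) ^ 5 = k⁻¹ := by
        have := congrArg Units.val hl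
        simpa using this
      set Y := (l : F) • Φ.G with hY
      have hY5 : Y ^ 5 = 1 := by
        rw [hY, _root_.smul_pow, hk, hl5, smul_smul, inv_mul_cancel₀ hk0, one_smul]
      have hY1 : Y ≠ 1 := fun h => Φ.G_not_scalar (l⁻¹ : Fˣ) (by
        rw [← h, hY, smul_smul, Units.inv_mul, one_smul])
      obtain ⟨y, hy, hyM⟩ := Φ.exists_G
      exact finish z⁻¹ Y 5 y (inv_ne_zero hz0) hy ⟨l, by rw [hyM]⟩ ((Nat.coprime_primes (by norm_num) hp).2 (by omega))
        hX5 hY5 (by rw [← hX, Cfsg.Agent.Lib.SympFour.charpoly_five_irred hcyc hX5 hX1,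
          Cfsg.Agent.Lib.SympFour.charpoly_five_irred hcyc hY5 hY1])

end Cfsg.Agent.S6000
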