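import Cfsg.Statements.S6001
import Cfsg.Agent.Lib.SympFour.Unitary
import Cfsg.Agent.Lib.SympFour.AvoidThree
import Cfsg.Agent.Lib.Classical.ConjForms.Unitary
import Cfsg.Agent.Lib.Forms.Families
-- import your own Cfsg.Agent.* helpers here

set_option autoImplicit false
open scoped MatrixGroups
open Cfsg

namespace Cfsg.Agent.S6001

open Cfsg.Agent.Lib

lemma five_nonsquare : ∀ u : ZMod 5, u * u ≠ 2 ∧ u * u ≠ 3 := by decide

lemma rankOne_core {F : Type*} [Field F] (i b c : F) (hi : i * i = -1) (hbc : b * c = -1)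
    (X : Matrix (Fin 4) (Fin 4) F) :
    (!![i, b, 0, 0; -c, -i, 0, 0; 0, 0, 0, 0; 0, 0, 0, 0] : Matrix (Fin 4) (Fin 4) F) * X *
        !![i, b, 0, 0; -c, -i, 0, 0; 0, 0, 0, 0; 0, 0, 0, 0] =
      (i * X 0 0 + b * X 1 0 - c * X 0 1 - i * X 1 1) •
        (!![i, b, 0, 0; -c, -i, 0, 0; 0, 0, 0, 0; 0, 0, 0, 0] : Matrix (Fin 4) (Fin 4) F) := by
  ext k l
  fin_cases k <;> fin_cases l <;> simp [Matrix.mul_apply, Fin.sum_univ_four, Matrix.vecMul, dotProduct] <;> grind

/-- a block with the given `2 × 2` corner -/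
def blk {F : Type*} [Field F] (a b c d : F) : Matrix (Fin 4) (Fin 4) F :=
  !![a, b, 0, 0; c, d, 0, 0; 0, 0, 1, 0; 0, 0, 0, 1]

open Matrix in
lemma blk_mul {F : Type*} [Field F] (a b c d a' b' c' d' : F) :
    blk a b c d * blk a' b' c' d' = blk (a * a' + b * c') (a * b' + b * d') (c * a' + d * c') (c * b' + d * d') := by
  ext i j
  fin_cases i <;> fin_cases j <;> simp [blk, Matrix.mul_apply, Fin.sum_univ_four]

lemma blk_one {F : Type*} [Field F] : (blk 1 0 0 1 : Matrix (Fin 4) (Fin 4) F) = 1 := by
  ext i j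
  fin_cases i <;> fin_cases j <;> simp [blk]

lemma blk_trace {F : Type*} [Field F] (a b c d : F) : (blk a b c d).trace = a + d + 2 := by
  simp [blk, Matrix.trace, Fin.sum_univ_four]; ring

lemma blk_det {F : Type*} [Field F] (a b c d : F) : (blk a b c d).det = a * d - b * c := by
  simp [blk, Matrix.det_succ_row_zero, Fin.sum_univ_succ, show Fin.succAbove (1 : Fin 4) (2 : Fin 3) = 3 from rfl]
  ring

lemma ct_blk {F : Type*} [Field F] (σ : F →+* F) (a b c d : F) :
    Semisimple.ct σ (blk a b c d) = blk (σ a) (σ c) (σ b) (σ d) := by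
  ext i j
  fin_cases i <;> fin_cases j <;> simp [blk, Semisimple.ct]

/-- Elements of prime order of PSU_4(p), p ≡ 3 (mod 4), and the normalizer of a 2-group of symplectic type of order 2⁶. Here `T = PSU_4(p)` for a prime `p ≡ 3 (mod 4)`, realised through `SU_4(p)`, the matrices of determinant 1 over the field `F` with `p²` elements preserving the hermitian form `f = Σ uᵢvᵢ^p`; `R` is an absolutely irreducible subgroup of the full unitary group of `f` of order 2⁶ that is a 2-group of symplectic type of exponent 4 with centre of order 4, and `H` is the subgroup of `SU_4(p)` normalizing `R` — a subgroup of type 2⁴.Sp₄(2) (maximality is not assumed). Ω is the set of cosets of `H`, so an element of `T` of prime order `r` (`x ∈ SU_4(p)` with `x^r` scalar, `x` not scalar) fixes a point of Ω exactly when some `SU_4(p)`-conjugate of `x` normalizes `R`. Let `r` be a prime dividing the index of `H`. Then every element of `T` of order `r` fixes a point of Ω if and only if `r = 2`, or `r = 3` and `p ≡ 1 (mod 3)`,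 or `r = 5` and `p ≡ ±2 (mod 5)` (`p` has multiplicative order 4 modulo 5). -/
theorem result {F : Type*} [Field F] [Fintype F] {p : ℕ} [Fact p.Prime] [CharP F p] (hF : Fintype.card F = p ^ 2) (hp4 : p % 4 = 3)
    (R : Subgroup (GL (Fin 4) F)) (hRs : Cfsg.Geo.IsSymplecticTypeGroup 2 R) (hRi : Cfsg.Geo.ActsAbsolutelyIrreducibly (Cfsg.Geo.matrixSet R))
    (hRU : R ≤ Cfsg.GU 4 F p) (hR6 : Nat.card R = 2 ^ 6) (hRZ : Nat.card (Subgroup.center R) = 4)
    (r : ℕ) [Fact r.Prime]
    (hΩ : r ∣ (Cfsg.Geo.subgroupNormalizer R).relIndex (Cfsg.GU 4 F p ⊓ Cfsg.Geo.specialLinear (Fin 4) F)) :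
    (∀ x ∈ Cfsg.GU 4 F p ⊓ Cfsg.Geo.specialLinear (Fin 4) F, (∃ z : F, ((x ^ r : GL (Fin 4) F) : Matrix (Fin 4) (Fin 4) F) = z • (1 : Matrix (Fin 4) (Fin 4) F)) →
      (∀ z : F, (x : Matrix (Fin 4) (Fin 4) F) ≠ z • (1 : Matrix (Fin 4) (Fin 4) F)) →
      ∃ g ∈ Cfsg.GU 4 F p ⊓ Cfsg.Geo.specialLinear (Fin 4) F, g⁻¹ * x * g ∈ Cfsg.Geo.subgroupNormalizer R) ↔ (r = 2 ∨ (r = 3 ∧ p % 3 = 1) ∨ (r = 5 ∧ orderOf (p : ZMod 5) = 4)) := by
  classical
  have hp : p.Prime := Fact.out
  have hp3 : 3 ≤ p := by have := hp.two_le; omega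
  have hp2 : p * p = p ^ 2 := (pow_two p).symm
  set σ := Forms.qPowHom hF with hσdef
  have hσa : ∀ a : F, σ a = a ^ p := Forms.qPowHom_apply hF
  have hσσ : ∀ a, σ (σ a) = a := Forms.qPowHom_qPowHom hF
  have hσid : σ ≠ RingHom.id F := Forms.qPowHom_ne_id hF
  have hσne : ∃ a, σ a ≠ a := by
    by_contra h
    push Not at h
    exact hσid (RingHom.ext h)
  have hnorm : ∀ a : F, σ a * a = a ^ (p + 1) := fun a => by rw [hσa, pow_succ]
  have hcast : ∀ n : ℕ, n.Prime → n ≠ p → (n : F) ≠ 0 := fun n hn hnp h =>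
    hnp ((Nat.prime_dvd_prime_iff_eq hp hn).1 ((CharP.cast_eq_zero_iff F p n).1 h)).symm
  have h2 : (2 : F) ≠ 0 := by simpa using hcast 2 Nat.prime_two (by omega)
  obtain ⟨Φ⟩ := SympFour.exists_frame hRs hRi (by rw [hR6]; norm_num) hRZ h2
  have hGU : ∀ g : GL (Fin 4) F, g ∈ Cfsg.GU 4 F p ↔
      Semisimple.ct σ (g : Matrix (Fin 4) (Fin 4) F) * (g : Matrix (Fin 4) (Fin 4) F) = 1 :=
    fun g => Classical.ConjForms.mem_GU_iff hF g
  have hu : ∀ x : R, Semisimple.ct σ (SympFour.mat R x) * SympFour.mat R x = 1 := fun x => (hGU x).1 (hRU x.2)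
  have hi : σ Φ.i = -Φ.i := by
    rw [hσa]
    conv_lhs => rw [← Nat.div_add_mod p 4, hp4, pow_add, pow_mul, Φ.i_pow_four, one_pow, one_mul]
    linear_combination Φ.i * Φ.hi
  obtain ⟨c4, hc4⟩ : 4 ∣ p + 1 := by omega
  have hdvd : 8 ∣ p * p - 1 := by
    have h1 : p * p - 1 = (p + 1) * (p - 1) := by
      obtain ⟨m, rfl⟩ : ∃ m, p = m + 1 := ⟨p - 1, by omega⟩
      simp only [Nat.add_sub_cancel]
      ring_nf
      omega
    rw [h1, hc4]
    obtain ⟨d, hd⟩ : 2 ∣ p - 1 := by omega
    exact ⟨c4 * d, by rw [hd]; ring⟩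
  have hcardF : Fintype.card F = p * p := by rw [hF, hp2]
  have hcardU : Nat.card Fˣ = p * p - 1 := by rw [Nat.card_units, Nat.card_eq_fintype_card, hcardF]
  have hfour : ∀ z : F, z ^ 4 = 1 → σ z * z = 1 := fun z hz => by
    rw [hnorm, hc4, pow_mul, hz, one_pow]
  have hrp : r.Prime := Fact.out
  have hord : orderOf (p : ZMod 5) = 4 ↔ p % 5 = 2 ∨ p % 5 = 3 := by
    have hc : ((p : ℕ) : ZMod 5) = ((p % 5 : ℕ) : ZMod 5) := (ZMod.natCast_mod p 5).symm
    have h5 : p % 5 < 5 := Nat.mod_lt _ (by norm_num)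
    rw [orderOf_eq_iff (by norm_num), hc]
    interval_cases hm : p % 5 <;> decide
  constructor
  · intro hall
    by_contra hcon
    push Not at hcon
    obtain ⟨hr2, hr3, hr5⟩ := hcon
    have hr7 : r = 3 ∨ r = 5 ∨ 7 ≤ r := by
      have := hrp.two_le
      by_contra h
      have h46 : r = 4 ∨ r = 6 := by omega
      rcases h46 with rfl | rfl <;> exact absurd hrp (by norm_num)
    -- a unitary witness of determinant one
    have witness : ∀ (M M' : Matrix (Fin 4) (Fin 4) F), M * M' = 1 → Semisimple.ct σ M * M = 1 → M.det = 1 →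
        (∀ c : F, M ≠ c • 1) → M ^ r = 1 →
        ∃ x g : GL (Fin 4) F, (x : Matrix (Fin 4) (Fin 4) F) = M ∧
          ((x⁻¹ : GL (Fin 4) F) : Matrix (Fin 4) (Fin 4) F) = M' ∧
          ((x ^ r : GL (Fin 4) F) : Matrix (Fin 4) (Fin 4) F) = (1 : F) • 1 ∧
          g⁻¹ * x * g ∈ Cfsg.Geo.subgroupNormalizer R := by
      intro M M' hM hMu hd hns hr
      let x : GL (Fin 4) F := ⟨M, M', hM, mul_eq_one_comm.1 hM⟩
      have hx : x ∈ Cfsg.GU 4 F p ⊓ Cfsg.Geo.specialLinear (Fin 4) F :=
        ⟨(hGU x).2 hMu, Units.ext (by simpa [x] using hd)⟩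
      have hxr : ((x ^ r : GL (Fin 4) F) : Matrix (Fin 4) (Fin 4) F) = (1 : F) • 1 := by
        rw [Units.val_pow_eq_pow_val, one_smul]; exact hr
      obtain ⟨g, -, hg⟩ := hall x hx ⟨1, hxr⟩ hns
      exact ⟨x, g, rfl, rfl, hxr, hg⟩
    rcases hr7 with rfl | rfl | hr7
    · -- period three
      have hp1 : p % 3 ≠ 1 := hr3 rfl
      by_cases hp3' : p = 3
      · -- a transvection
        have h30 : (3 : F) = 0 := by
          have h := CharP.cast_eq_zero F p
          subst hp3'
          simpa using h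
        obtain ⟨b, hb⟩ : ∃ b : F, σ b * b = -1 := by
          obtain ⟨b, hb⟩ := Forms.exists_norm_eq hσid hσσ (c := (-1 : F)) (by rw [map_neg, map_one])
          exact ⟨b, by rw [mul_comm]; exact hb⟩
        have hbb : b * σ b = -1 := by rw [mul_comm]; exact hb
        have hi' := Φ.hi
        set a := 1 + Φ.i with ha
        have hσa' : σ a = 1 - Φ.i := by rw [ha, map_add, map_one, hi, sub_eq_add_neg]
        set M := blk a b (-σ b) (σ a) with hMdef
        have hsq : M * (M * M) = 1 := by
          rw [hMdef, blk_mul, blk_mul, ← blk_one, hσa']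
          congr 1 <;> grind
        have hMu : Semisimple.ct σ M * M = 1 := by
          rw [hMdef, ct_blk, map_neg, hσσ, hσσ, blk_mul, ← blk_one, hσa']
          congr 1 <;> grind
        obtain ⟨x, g, hx, hx', hxr, hg⟩ := witness M (M * M) hsq hMu
          (by rw [hMdef, blk_det, hσa']; grind)
          (fun c hc => by
            have e0 := congrFun (congrFun hc 0) 0
            have e2 := congrFun (congrFun hc 2) 2
            simp [hMdef, blk] at e0 e2
            rw [← e2, ha] at e0
            have : Φ.i = 0 := by linear_combination e0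
            simp [this] at hi')
          (by rw [pow_succ, pow_two, mul_assoc, hsq])
        set N := M - 1 with hN
        have hN0 : N ≠ 0 := fun h => by
          have e0 := congrFun (congrFun h 0) 0
          simp [hN, hMdef, blk, ha] at e0
          simp [e0] at hi'
        have hNblk : ∀ i j, N i j =
            (!![Φ.i, b, 0, 0; -σ b, -Φ.i, 0, 0; 0, 0, 0, 0; 0, 0, 0, 0] : Matrix (Fin 4) (Fin 4) F) i j := by
          intro i j
          fin_cases i <;> fin_cases j <;> simp [hN, hMdef, blk, ha, hi]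
        have hNe : N = !![Φ.i, b, 0, 0; -σ b, -Φ.i, 0, 0; 0, 0, 0, 0; 0, 0, 0, 0] := Matrix.ext hNblk
        have hNN : N * N = 0 := by
          rw [hNe]
          ext i j
          fin_cases i <;> fin_cases j <;> simp [Matrix.mul_apply, Fin.sum_univ_four] <;> grind
        have hrank : ∀ X : Matrix (Fin 4) (Fin 4) F,
            N * X * N = (Φ.i * X 0 0 + b * X 1 0 - σ b * X 0 1 - Φ.i * X 1 1) • N := by
          intro X
          rw [hNe]
          exact rankOne_core _ _ _ hi' hbb X
        -- move the transvection to the conjugate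
        set G := (g : Matrix (Fin 4) (Fin 4) F)
        set G' := ((g⁻¹ : GL (Fin 4) F) : Matrix (Fin 4) (Fin 4) F)
        have hGG : G * G' = 1 := by rw [← Units.val_mul, mul_inv_cancel, Units.val_one]
        have hGG' : G' * G = 1 := by rw [← Units.val_mul, inv_mul_cancel, Units.val_one]
        refine Φ.no_transvection_three hg h30 (N := G' * N * G) ?_ ?_ ?_ ?_
        · intro h
          apply hN0
          calc N = G * (G' * N * G) * G' := by
                rw [← mul_assoc, ← mul_assoc, hGG, one_mul, mul_assoc, hGG, mul_one]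
            _ = 0 := by rw [h, mul_zero, zero_mul]
        · rw [show G' * N * G * (G' * N * G) = G' * N * (G * G') * N * G by simp only [mul_assoc], hGG, mul_one,
            mul_assoc G' N N, hNN, mul_zero, zero_mul]
        · intro X
          obtain ⟨c, hc⟩ : ∃ c : F, N * (G * X * G') * N = c • N := ⟨_, hrank _⟩
          refine ⟨c, ?_⟩
          rw [show G' * N * G * X * (G' * N * G) = G' * (N * (G * X * G') * N) * G by simp only [mul_assoc], hc,
            Matrix.mul_smul, Matrix.smul_mul]
        · rw [Units.val_mul, Units.val_mul, hx, hN, mul_sub, mul_one, sub_mul, hGG', add_sub_cancel]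
      · -- `p ≡ 2 (mod 3)`
        have hp1' : p % 3 = 2 := by
          have h30 : p % 3 ≠ 0 := fun h =>
            hp3' ((Nat.prime_dvd_prime_iff_eq Nat.prime_three hp).1 (Nat.dvd_of_mod_eq_zero h)).symm
          omega
        have h3 : (3 : F) ≠ 0 := by simpa using hcast 3 Nat.prime_three (Ne.symm hp3')
        obtain ⟨w, hw⟩ : ∃ w : F, IsPrimitiveRoot w 3 := by
          obtain ⟨w, hw⟩ := exists_prime_orderOf_dvd_card' (G := Fˣ) 3 (by
            rw [hcardU, ← Nat.modEq_iff_dvd' (by nlinarith)]
            show 1 % 3 = p * p % 3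
            rw [Nat.mul_mod, hp1'])
          exact ⟨w, IsPrimitiveRoot.coe_units_iff.2 (hw ▸ IsPrimitiveRoot.orderOf w)⟩
        have hw3 := hw.pow_eq_one
        have hw1 := hw.ne_one (by norm_num)
        have hsum : w * w + w + 1 = 0 := by
          refine (mul_eq_zero.1 (show (w - 1) * (w * w + w + 1) = 0 by linear_combination hw3)).resolve_left ?_
          exact sub_ne_zero.2 hw1
        have hσw : σ w = w * w := by
          rw [hσa, ← Nat.div_add_mod p 3, hp1', pow_add, pow_mul, hw3, one_pow, one_mul, pow_two]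
        have hns : ∀ c : F, Matrix.diagonal ![w, w, w, (1 : F)] ≠ c • 1 := fun c hc => hw1 (by
          have e0 := congrFun (congrFun hc 0) 0
          have e3 := congrFun (congrFun hc 3) 3
          simp at e0 e3
          rw [e0, ← e3])
        obtain ⟨x, g, hx, hx', hxr, hg⟩ := witness (Matrix.diagonal ![w, w, w, 1])
          (Matrix.diagonal ![w * w, w * w, w * w, 1])
          (by
            rw [Matrix.diagonal_mul_diagonal, ← Matrix.diagonal_one]
            congr 1
            funext i
            fin_cases i <;> simp <;> linear_combination hw3)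
          (by
            rw [Semisimple.ct, Matrix.diagonal_map (map_zero σ), Matrix.diagonal_transpose,
              Matrix.diagonal_mul_diagonal, ← Matrix.diagonal_one]
            congr 1
            funext i
            fin_cases i <;> simp [hσw] <;> linear_combination hw3)
          (by simp [Matrix.det_diagonal, Fin.prod_univ_four]; linear_combination hw3)
          hns
          (by
            rw [Matrix.diagonal_pow, ← Matrix.diagonal_one]
            congr 1
            funext i
            fin_cases i <;> simp [hw3])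
        have ht := Φ.trace_three hxr (by rw [hx]; exact hns) hg
        rw [hx, hx'] at ht
        simp [Matrix.trace, Fin.sum_univ_four] at ht
        rcases ht with ht | ht
        · have : (2 : F) * 3 = 0 := by linear_combination ht - (9 * w - 6) * hsum
          exact mul_ne_zero h2 h3 this
        · exact h3 (by linear_combination ht - (9 * w - 6) * hsum)
    · -- period five, `p ≡ ±1 (mod 5)`
      have hp5n : p ≠ 5 := by omega
      have h5 : (5 : F) ≠ 0 := by simpa using hcast 5 (by norm_num) (Ne.symm hp5n)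
      have hp5' : p % 5 = 1 ∨ p % 5 = 4 := by
        have := hr5 rfl
        rw [Ne, hord] at this
        have h0 : p % 5 ≠ 0 := fun h =>
          hp5n ((Nat.prime_dvd_prime_iff_eq (by norm_num) hp).1 (Nat.dvd_of_mod_eq_zero h)).symm
        omega
      obtain ⟨s, hs, hσs⟩ : ∃ s : F, s * s + s = 1 ∧ σ s = s := by
        haveI : Fact (Nat.Prime 5) := ⟨by norm_num⟩
        have hsq : IsSquare ((5 : ℕ) : ZMod p) := by
          rw [← ZMod.exists_sq_eq_prime_iff_of_mod_four_eq_one (p := 5) (q := p) (by norm_num) (by omega)]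
          have hc : ((p : ℕ) : ZMod 5) = ((p % 5 : ℕ) : ZMod 5) := (ZMod.natCast_mod p 5).symm
          rw [hc]
          rcases hp5' with h | h <;> rw [h]
          · exact ⟨1, by simp⟩
          · exact ⟨2, by norm_num⟩
        obtain ⟨t, ht⟩ := hsq
        let f : ZMod p →+* F := ZMod.castHom dvd_rfl F
        have htF : f t * f t = 5 := by rw [← map_mul, ← ht, map_natCast]; norm_num
        have hft : σ (f t) = f t := RingHom.congr_fun (Subsingleton.elim (σ.comp f) f) t
        refine ⟨(f t - 1) / 2, ?_, ?_⟩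
        · field_simp
          linear_combination htF
        · rw [map_div₀, map_sub, map_one, map_ofNat, hft]
      have hσhalf : σ (s / 2) = s / 2 := by rw [map_div₀, map_ofNat, hσs]
      obtain ⟨b, hb⟩ := Forms.exists_norm_eq hσid hσσ (c := 1 - s / 2 * (s / 2))
        (by rw [map_sub, map_one, map_mul, hσhalf])
      set a := s / 2 with ha
      have ha2 : 2 * a = s := by rw [ha]; field_simp
      set M := blk a b (-σ b) a with hMdef
      have hrel : M * M = blk (s * a - 1) (s * b) (-(s * σ b)) (s * a - 1) := by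
        rw [hMdef, blk_mul]
        congr 1 <;> grind
      have hns : ∀ c : F, M ≠ c • 1 := fun c hc => by
        have e0 := congrFun (congrFun hc 0) 0
        have e2 := congrFun (congrFun hc 2) 2
        simp [hMdef, blk] at e0 e2
        rw [← e2] at e0
        exact h5 (by rw [← ha2, e0] at hs; linear_combination hs)
      obtain ⟨x, g, hx, hx', hxr, hg⟩ := witness M (blk a (-b) (σ b) a)
        (by rw [hMdef, blk_mul, ← blk_one]; congr 1 <;> grind)
        (by rw [hMdef, ct_blk, map_neg, hσσ, hσhalf, blk_mul, ← blk_one]; congr 1 <;> grind)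
        (by rw [hMdef, blk_det]; grind)
        hns
        (by
          rw [show M ^ 5 = M * (M * M) * (M * M) by simp [pow_succ, mul_assoc], hrel, hMdef, blk_mul, blk_mul,
            ← blk_one]
          congr 1 <;> grind)
      have ht := Φ.trace_five hxr (by rw [hx]; exact hns) hg
      rw [hx, hx', hMdef, blk_trace, blk_trace] at ht
      have h13 : (s + 1) * (s + 3) = 0 := by rw [← ha2]; linear_combination ht
      rcases mul_eq_zero.1 h13 with h | h
      · exact one_ne_zero (α := F) (by linear_combination s * h - hs)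
      · exact h5 (by linear_combination hs - (s - 2) * h)
    · -- large primes
      set S := Cfsg.GU 4 F p ⊓ Cfsg.Geo.specialLinear (Fin 4) F
      have hdvd : r ∣ Nat.card S := hΩ.trans (Subgroup.relIndex_dvd_card ..)
      obtain ⟨x, hx⟩ := exists_prime_orderOf_dvd_card' r hdvd
      have hxr : ((x : GL (Fin 4) F)) ^ r = 1 := by
        rw [← SubgroupClass.coe_pow, ← hx, pow_orderOf_eq_one, Subgroup.coe_one]
      have hns : ∀ c : F, ((x : GL (Fin 4) F) : Matrix (Fin 4) (Fin 4) F) ≠ c • 1 := by
        intro c hc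
        have hd : ((x : GL (Fin 4) F) : Matrix (Fin 4) (Fin 4) F).det = 1 :=
          congrArg Units.val (MonoidHom.mem_ker.1 x.2.2)
        rw [hc, Matrix.det_smul, Matrix.det_one, mul_one, Fintype.card_fin] at hd
        have h4 : x ^ 4 = 1 := Subtype.ext (Units.ext (by
          rw [SubgroupClass.coe_pow, Units.val_pow_eq_pow_val, hc, _root_.smul_pow, hd, one_pow, one_smul]; rfl))
        have := Nat.le_of_dvd (by norm_num) (hx ▸ orderOf_dvd_of_pow_eq_one h4)
        omega
      obtain ⟨g, -, hg⟩ := hall x x.2 ⟨1, by rw [hxr, Units.val_one, one_smul]⟩ hns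
      exact Φ.not_conj_of_seven_le hr7 (z := 1) (by rw [hxr, Units.val_one, one_smul]) hns hg
  · intro hr x hxS hxz hns
    obtain ⟨z, hz⟩ := hxz
    rw [Units.val_pow_eq_pow_val] at hz
    have hxu := (hGU x).1 hxS.1
    have hdet : (x : Matrix (Fin 4) (Fin 4) F).det = 1 := congrArg Units.val (MonoidHom.mem_ker.1 hxS.2)
    have hz4 : z ^ 4 = 1 := SympFour.det_smul_one_pow hdet hz
    have hz0 : z ≠ 0 := fun e => by simp [e] at hz4
    have usmul : ∀ (c : F) (M : Matrix (Fin 4) (Fin 4) F), σ c * c = 1 → Semisimple.ct σ M * M = 1 →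
        Semisimple.ct σ (c • M) * (c • M) = 1 := fun c M hc hM => by
      rw [Semisimple.ct_smul, Matrix.smul_mul, Matrix.mul_smul, smul_smul, hM, hc, one_smul]
    -- from a conjugate of a multiple to the normaliser
    have finish : ∀ (c : F) (M : Matrix (Fin 4) (Fin 4) F) (n : ℕ) (y : GL (Fin 4) F), σ c * c = 1 →
        y ∈ Cfsg.Geo.subgroupNormalizer R → (∃ k : F, M = k • (y : Matrix (Fin 4) (Fin 4) F)) → n.Coprime p →
        (c • (x : Matrix (Fin 4) (Fin 4) F)) ^ n = 1 → M ^ n = 1 → Semisimple.ct σ M * M = 1 →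
        (c • (x : Matrix (Fin 4) (Fin 4) F)).charpoly = M.charpoly →
        ∃ g ∈ Cfsg.GU 4 F p ⊓ Cfsg.Geo.specialLinear (Fin 4) F, g⁻¹ * x * g ∈ Cfsg.Geo.subgroupNormalizer R := by
      intro c M n y hc hy hMk hn hxn hMn hMu hchar
      obtain ⟨k, hk⟩ := hMk
      obtain ⟨g, hgd, hgu, hgx⟩ :=
        SympFour.exists_special_conj (p := p) σ hσσ hσne (usmul c _ hc hxu) hMu hn hxn hMn hchar
      have hc0 : c ≠ 0 := fun h => by simp [h] at hc
      refine ⟨g, ⟨(hGU g).2 hgu, Units.ext (by simpa using hgd)⟩,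
        SympFour.smul_mem_normalizer (c := c⁻¹ * k) hy ?_⟩
      rw [Units.val_mul, Units.val_mul, ← smul_smul, ← hk, ← hgx, Matrix.mul_smul, Matrix.smul_mul, smul_smul,
        inv_mul_cancel₀ hc0, one_smul]
    rcases hr with rfl | ⟨rfl, hp31⟩ | ⟨rfl, hp5o⟩
    · -- involutions
      rw [pow_two] at hz
      obtain ⟨s, hs⟩ : IsSquare z := by
        rw [FiniteField.isSquare_iff (by rw [ringChar.eq F p]; omega) hz0, hcardF]
        obtain ⟨d, hd⟩ := hdvd
        rw [show p * p / 2 = 4 * d by omega, pow_mul, hz4, one_pow]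
      have hs0 : s ≠ 0 := fun h => hz0 (by rw [hs, h, mul_zero])
      have hss : s + s ≠ 0 := by rw [← two_mul]; exact mul_ne_zero h2 hs0
      obtain ⟨a, b, ha, hb, hab, hchar, htr⟩ := SympFour.charpoly_sq hss (by rw [hz, hs]) hns
      have hsn : σ s * s = 1 := by
        by_cases hab' : a = b
        · have hd := Matrix.det_eq_sign_charpoly_coeff (x : Matrix (Fin 4) (Fin 4) F)
          rw [hdet, hchar, show a = 2 by omega, show b = 2 by omega, Fintype.card_fin] at hd
          simp [Polynomial.coeff_zero_eq_eval_zero] at hd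
          exact hfour s (by linear_combination -hd)
        · set d : F := (a : F) - b with hd
          have hd0 : d ≠ 0 := by
            rw [hd]
            obtain ⟨e1, -, -⟩ := Φ.four_cases hab ha hb
            intro h
            obtain ⟨rfl, rfl⟩ := e1 h
            exact hab' rfl
          have hσd : σ d = d := by rw [hd, map_sub, map_natCast, map_natCast]
          have hctx : Semisimple.ct σ (x : Matrix (Fin 4) (Fin 4) F) = z⁻¹ • (x : Matrix (Fin 4) (Fin 4) F) := by
            calc Semisimple.ct σ (x : Matrix (Fin 4) (Fin 4) F)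
                = Semisimple.ct σ (x : Matrix (Fin 4) (Fin 4) F) *
                  (z⁻¹ • ((x : Matrix (Fin 4) (Fin 4) F) * (x : Matrix (Fin 4) (Fin 4) F))) := by
                  rw [hz, smul_smul, inv_mul_cancel₀ hz0, one_smul, mul_one]
              _ = z⁻¹ • (x : Matrix (Fin 4) (Fin 4) F) := by
                  rw [Matrix.mul_smul, ← mul_assoc, hxu, one_mul]
          have h := congrArg Matrix.trace hctx
          rw [show (Semisimple.ct σ (x : Matrix (Fin 4) (Fin 4) F)).trace = σ (x : Matrix (Fin 4) (Fin 4) F).trace by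
            simp [Semisimple.ct, Matrix.trace, map_sum], htr, map_mul, hσd, Matrix.trace_smul, smul_eq_mul, htr] at h
          have : d * (σ s * s) = d * 1 := by
            rw [mul_one, ← mul_assoc, h, hs]
            field_simp
          exact mul_left_cancel₀ hd0 this
      obtain ⟨M, y, hy, hyM, hMcase, hM2, hMc⟩ := Φ.sq_target hs0 hab ha hb
      have hMct : Semisimple.ct σ M = M := by
        rcases hMcase with rfl | rfl | rfl
        · exact (Φ.ct_gens hu).1
        · exact Φ.ct_T hu
        · rw [SympFour.ct_neg', Φ.ct_T hu]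
      have hsp : (s * s) ^ (p + 1) = 1 := by rw [mul_pow, ← hnorm, hsn, one_mul]
      have hpow : ∀ N : Matrix (Fin 4) (Fin 4) F, N * N = (s * s) • 1 → N ^ (2 * (p + 1)) = 1 := fun N hN => by
        rw [pow_mul, pow_two, hN, _root_.smul_pow, one_pow, hsp, one_smul]
      have hcop : (2 * (p + 1)).Coprime p := by
        rw [Nat.coprime_comm, hp.coprime_iff_not_dvd]
        intro h
        rcases hp.dvd_mul.1 h with h | h
        · have := Nat.le_of_dvd (by norm_num) h; omega
        · have h1 := Nat.dvd_sub h (dvd_refl p)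
          rw [Nat.add_sub_cancel_left] at h1
          exact hp.not_dvd_one h1
      exact finish 1 (s • M) _ y (by simp) hy ⟨s, by rw [hyM]⟩ hcop (by rw [one_smul]; exact hpow _ (by rw [hz, hs]))
        (hpow _ (by rw [Matrix.smul_mul, Matrix.mul_smul, smul_smul, hM2]))
        (usmul s M hsn (by rw [hMct, hM2])) (by rw [one_smul, hchar, hMc])
    · -- elements of order three
      have hp7 : 7 ≤ p := by omega
      have h3 : (3 : F) ≠ 0 := by simpa using hcast 3 Nat.prime_three (by omega)
      obtain ⟨w, hw⟩ : ∃ w : F, IsPrimitiveRoot w 3 := by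
        obtain ⟨w, hw⟩ := exists_prime_orderOf_dvd_card' (G := Fˣ) 3 (by
          rw [hcardU, ← Nat.modEq_iff_dvd' (by nlinarith)]
          show 1 % 3 = p * p % 3
          rw [Nat.mul_mod, hp31])
        exact ⟨w, IsPrimitiveRoot.coe_units_iff.2 (hw ▸ IsPrimitiveRoot.orderOf w)⟩
      have hsum : w * w + w + 1 = 0 := by
        refine (mul_eq_zero.1 (show (w - 1) * (w * w + w + 1) = 0 by linear_combination hw.pow_eq_one)).resolve_left ?_
        exact sub_ne_zero.2 (hw.ne_one (by norm_num))
      have hσw : σ w = w := by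
        rw [hσa, ← Nat.div_add_mod p 3, hp31, pow_add, pow_mul, hw.pow_eq_one, one_pow, one_mul, pow_one]
      set X' := z • (x : Matrix (Fin 4) (Fin 4) F) with hX
      have hX3 : X' ^ 3 = 1 := by rw [hX, _root_.smul_pow, hz, smul_smul, ← pow_succ, hz4, one_smul]
      have hX1 : X' ≠ 1 := fun h => hns z⁻¹ (by rw [← h, hX, smul_smul, inv_mul_cancel₀ hz0, one_smul])
      obtain ⟨a, b, hab, hb, hchar, -⟩ :=
        SympFour.charpoly_cube_unitary σ hsum h3 hσw hX3 hX1 (usmul z _ (hfour z hz4) hxu)
      have hUu : Semisimple.ct σ Φ.U * Φ.U = 1 := by rw [Φ.ct_U hu hi]; exact mul_eq_one_comm.1 Φ.U_mul_U'.1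
      have hWu : Semisimple.ct σ Φ.W * Φ.W = 1 := by rw [Φ.ct_W hu hi]; exact mul_eq_one_comm.1 Φ.W_mul_W'.1
      have hUWu : Semisimple.ct σ (Φ.U * Φ.W) * (Φ.U * Φ.W) = 1 := by
        rw [Semisimple.ct_mul, mul_assoc, ← mul_assoc (Semisimple.ct σ Φ.U), hUu, one_mul, hWu]
      have target : ∀ (M : Matrix (Fin 4) (Fin 4) F) (t : F), M ^ 3 = 1 → Semisimple.ct σ M * M = 1 → M.trace = t →
          (t = 1 ∨ t = -2) → ((a : F) - b = t) → X'.charpoly = M.charpoly := by
        intro M t hM hMu hMt ht hab'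
        have hM1 : M ≠ 1 := fun h => by
          rw [h, Matrix.trace_one, Fintype.card_fin] at hMt
          push_cast at hMt
          rcases ht with rfl | rfl
          · exact h3 (by linear_combination hMt)
          · exact mul_ne_zero h2 h3 (by linear_combination hMt)
        obtain ⟨a', b', hab2, hb2, hc2, htr2⟩ := SympFour.charpoly_cube_unitary σ hsum h3 hσw hM hM1 hMu
        rw [hMt] at htr2
        have : (a = 2 ∧ b = 1 ∧ a' = 2 ∧ b' = 1) ∨ (a = 0 ∧ b = 2 ∧ a' = 0 ∧ b' = 2) ∨
            (a = 2 ∧ b = 1 ∧ a' = 0 ∧ b' = 2) ∨ (a = 0 ∧ b = 2 ∧ a' = 2 ∧ b' = 1) := by omega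
        rcases this with ⟨rfl, rfl, rfl, rfl⟩ | ⟨rfl, rfl, rfl, rfl⟩ | ⟨rfl, rfl, rfl, rfl⟩ | ⟨rfl, rfl, rfl, rfl⟩
        · rw [hc2, hchar]
        · rw [hc2, hchar]
        all_goals
          exfalso
          push_cast at hab' htr2
          exact h3 (by first | linear_combination hab' - htr2 | linear_combination htr2 - hab' |
            linear_combination hab' + htr2 | linear_combination -hab' - htr2)
      have hcop : (3 : ℕ).Coprime p := by
        rw [Nat.Prime.coprime_iff_not_dvd Nat.prime_three]; omega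
      have hcases : (a = 2 ∧ b = 1) ∨ (a = 0 ∧ b = 2) := by omega
      rcases hcases with h | h
      · obtain ⟨y, hy, hyM⟩ := Φ.exists_UW
        exact finish z (Φ.U * Φ.W) 3 y (hfour z hz4) hy ⟨1, by rw [hyM, one_smul]⟩ hcop hX3 Φ.UW_pow_three hUWu
          (target _ 1 Φ.UW_pow_three hUWu Φ.trace_UW (Or.inl rfl) (by rw [h.1, h.2]; norm_num))
      · obtain ⟨y, hy, hyM⟩ := Φ.exists_U
        exact finish z Φ.U 3 y (hfour z hz4) hy ⟨1, by rw [hyM, one_smul]⟩ hcop hX3 Φ.U_pow_three hUu
          (target _ (-2) Φ.U_pow_three hUu Φ.trace_U (Or.inr rfl) (by rw [h.1, h.2]; norm_num))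
    · -- elements of order five
      rw [hord] at hp5o
      haveI : Fact (Nat.Prime 5) := ⟨by norm_num⟩
      have hp5n : p ≠ 5 := by omega
      have h5 : (5 : F) ≠ 0 := by simpa using hcast 5 (by norm_num) (Ne.symm hp5n)
      have hsqm : p * p % 5 = 4 := by
        rcases hp5o with h | h <;> rw [Nat.mul_mod, h]
      have hco : (Nat.card Fˣ).Coprime 5 := by
        rw [hcardU, Nat.coprime_comm, Nat.Prime.coprime_iff_not_dvd (by norm_num)]
        omega
      have hroot : ∀ w : F, w ^ 5 = 1 → w = 1 := by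
        intro w hw
        have hw0 : w ≠ 0 := fun h => by simp [h] at hw
        have hu' : (Units.mk0 w hw0) ^ 5 = (1 : Fˣ) ^ 5 := by rw [one_pow]; exact Units.ext hw
        exact congrArg Units.val ((powCoprime hco).injective hu')
      obtain ⟨t, ht⟩ : IsSquare (5 : F) := by
        rw [FiniteField.isSquare_iff (by rw [ringChar.eq F p]; omega) h5, hcardF]
        obtain ⟨d, hd⟩ : 2 ∣ p + 1 := by omega
        obtain ⟨e, he⟩ : 2 ∣ p - 1 := by omega
        have h1 : p * p = 2 * ((p - 1) * d) + 1 := by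
          have e1 : (p + 1) * (p - 1) + 1 = p * p := by
            obtain ⟨m, rfl⟩ : ∃ m, p = m + 1 := ⟨p - 1, by omega⟩
            simp only [Nat.add_sub_cancel]
            ring
          rw [← e1, hd]
          ring
        rw [h1, show (2 * ((p - 1) * d) + 1) / 2 = (p - 1) * d by omega, pow_mul]
        have h5z : ((5 : ZMod p)) ≠ 0 := by
          intro h
          have h' : ((5 : ℕ) : ZMod p) = 0 := by exact_mod_cast h
          rw [ZMod.natCast_eq_zero_iff] at h'
          exact hp5n ((Nat.prime_dvd_prime_iff_eq hp (by norm_num)).1 h')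
        let f : ZMod p →+* F := ZMod.castHom dvd_rfl F
        have h' := congrArg f (ZMod.pow_card_sub_one_eq_one h5z)
        rw [map_pow, map_one, map_ofNat] at h'
        rw [h', one_pow]
      set s := (t - 1) / 2 with hsdef
      have hs : s * s + s = 1 := by
        rw [hsdef]; field_simp; linear_combination -ht
      have hswap : σ s ≠ s := by
        intro h
        have hts : t = 2 * s + 1 := by rw [hsdef]; field_simp; ring
        have ht1 : σ t = t := by rw [hts, map_add, map_mul, map_ofNat, map_one, h]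
        have ht0 : t ≠ 0 := fun h0 => h5 (by rw [ht, h0, mul_zero])
        have ht2 : t ^ (p - 1) = 1 := by
          rw [hσa, show p = p - 1 + 1 by omega, pow_succ] at ht1
          exact mul_eq_right₀ ht0 |>.1 ht1
        have hnsq : ¬ IsSquare ((5 : ℕ) : ZMod p) := by
          rw [← ZMod.exists_sq_eq_prime_iff_of_mod_four_eq_one (p := 5) (q := p) (by norm_num) (by omega)]
          rintro ⟨u, hu'⟩
          have hc : ((p : ℕ) : ZMod 5) = ((p % 5 : ℕ) : ZMod 5) := (ZMod.natCast_mod p 5).symm
          rw [hc] at hu'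
          rcases hp5o with h' | h' <;> rw [h'] at hu'
          · exact (five_nonsquare u).1 (by rw [← hu']; norm_num)
          · exact (five_nonsquare u).2 (by rw [← hu']; norm_num)
        apply hnsq
        have h5z : ((5 : ℕ) : ZMod p) ≠ 0 := by
          rw [Ne, ZMod.natCast_eq_zero_iff, Nat.prime_dvd_prime_iff_eq hp (by norm_num)]
          exact hp5n
        rw [ZMod.euler_criterion p h5z]
        apply (ZMod.castHom dvd_rfl F : ZMod p →+* F).injective
        rw [map_pow, map_natCast, map_one, show ((5 : ℕ) : F) = t * t by rw [← ht]; norm_num, ← pow_two, ← pow_mul,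
          show 2 * (p / 2) = p - 1 by omega, ht2]
      set X' := z⁻¹ • (x : Matrix (Fin 4) (Fin 4) F) with hX
      have hX5 : X' ^ 5 = 1 := by
        rw [hX, _root_.smul_pow, hz, smul_smul, pow_succ, mul_assoc, inv_mul_cancel₀ hz0, mul_one, inv_pow, hz4,
          inv_one, one_smul]
      have hX1 : X' ≠ 1 := fun h => hns z (by rw [← h, hX, smul_smul, mul_inv_cancel₀ hz0, one_smul])
      have hzn : σ z⁻¹ * z⁻¹ = 1 := hfour _ (by rw [inv_pow, hz4, inv_one])
      obtain ⟨k, hk⟩ := Φ.G_pow_five
      have hGu : Semisimple.ct σ Φ.G * Φ.G = 1 := by rw [Φ.ct_G hu hi]; exact mul_eq_one_comm.1 Φ.G_mul_G'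
      have hkn : σ k * k = 1 := by
        have h1 : Semisimple.ct σ (Φ.G ^ 5) * Φ.G ^ 5 = 1 := by
          rw [Semisimple.ct_pow, ← Commute.mul_pow ?_, hGu, one_pow]
          show Semisimple.ct σ Φ.G * Φ.G = Φ.G * Semisimple.ct σ Φ.G
          rw [hGu, mul_eq_one_comm.1 hGu]
        rw [hk, Semisimple.ct_smul, Semisimple.ct_one, Matrix.smul_mul, Matrix.mul_smul, one_mul, smul_smul] at h1
        simpa using congrFun (congrFun h1 0) 0
      have hk0 : k ≠ 0 := fun h => by simp [h] at hkn
      obtain ⟨l, hl⟩ := (powCoprime hco).surjective (Units.mk0 k⁻¹ (inv_ne_zero hk0))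
      have hl5 : (l : F) ^ 5 = k⁻¹ := by simpa using congrArg Units.val hl
      have hln : σ l * l = 1 := by
        apply hroot
        rw [mul_pow, ← map_pow, hl5, map_inv₀, ← mul_inv, hkn, inv_one]
      set Y := (l : F) • Φ.G with hY
      have hY5 : Y ^ 5 = 1 := by rw [hY, _root_.smul_pow, hk, hl5, smul_smul, inv_mul_cancel₀ hk0, one_smul]
      have hY1 : Y ≠ 1 := fun h => Φ.G_not_scalar (l⁻¹ : Fˣ) (by
        rw [← h, hY, smul_smul, Units.inv_mul, one_smul])
      have hYu : Semisimple.ct σ Y * Y = 1 := usmul _ _ hln hGu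
      obtain ⟨y, hy, hyM⟩ := Φ.exists_G
      exact finish z⁻¹ Y 5 y hzn hy ⟨l, by rw [hyM]⟩ ((Nat.coprime_primes (by norm_num) hp).2 (Ne.symm hp5n))
        hX5 hY5 hYu (by
          rw [← hX, SympFour.charpoly_five_unitary σ hs h5 hswap hroot hX5 hX1 (usmul _ _ hzn hxu),
            SympFour.charpoly_five_unitary σ hs h5 hswap hroot hY5 hY1 hYu])

end Cfsg.Agent.S6001
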