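import Cfsg.Statements.S6002
import Cfsg.Agent.Lib.SympExtraFour.Trace
import Cfsg.Agent.Lib.SympExtraFour.Classes
import Cfsg.Agent.Lib.SympExtraFour.Witness

set_option autoImplicit false
open scoped MatrixGroups
open Cfsg Cfsg.Geo Cfsg.Agent.Lib.SympExtraFour
open scoped Matrix

namespace Cfsg.Agent.S6002

/-- Elements of prime order of PSp_4(p), p odd, and the normalizer of an extraspecial 2-group of order 2⁵ of minus type. Here `T = PSp_4(F)` for the field `F` with `p` elements, `p` an odd prime, realised through the matrices preserving the standard alternating form `f`; `R` is an absolutely irreducible subgroup of `T` (it preserves `f`) that is a 2-group of symplectic type of exponent 4, order 2⁵ and centre of order 2, of minus type (no elementary abelian subgroup of order 2³), and `H` is the subgroup of `T` normalizing `R` — a subgroup of type 2^{1+4}.O₄⁻(2) (maximality is not assumed). Ω is the set of cosets of `H` in `T`, so an element of `T` of prime order `r` (`x ∈ T` with `x^r` scalar,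 `x` not scalar) fixes a point of Ω exactly when some `T`-conjugate of `x` normalizes `R`. Let `r` be a prime dividing the index of `H`. Then every element of `T` of order `r` fixes a point of Ω if and only if `r = 2`, or `r = 5` and `p` has multiplicative order 4 modulo 5. -/
theorem result {F : Type*} [Field F] [Fintype F] {p : ℕ} [Fact p.Prime] [CharP F p] (hF : Fintype.card F = p) (hodd : Odd p)
    (R : Subgroup (GL (Fin 2 ⊕ Fin 2) F)) (hRs : Cfsg.Geo.IsSymplecticTypeGroup 2 R) (hRi : Cfsg.Geo.ActsAbsolutelyIrreducibly (Cfsg.Geo.matrixSet R))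
    (hRf : R ≤ Cfsg.spGL 2 F) (hR5 : Nat.card R = 2 ^ 5) (hRZ : Nat.card (Subgroup.center R) = 2) (hRm : Cfsg.Geo.IsOfMinusType 2 R)
    (r : ℕ) [Fact r.Prime]
    (hΩ : r ∣ (Cfsg.Geo.subgroupNormalizer R).relIndex (Cfsg.spGL 2 F)) :
    (∀ x ∈ Cfsg.spGL 2 F, (∃ z : F, ((x ^ r : GL (Fin 2 ⊕ Fin 2) F) : Matrix (Fin 2 ⊕ Fin 2) (Fin 2 ⊕ Fin 2) F) = z • (1 : Matrix (Fin 2 ⊕ Fin 2) (Fin 2 ⊕ Fin 2) F)) →
      (∀ z : F, (x : Matrix (Fin 2 ⊕ Fin 2) (Fin 2 ⊕ Fin 2) F) ≠ z • (1 : Matrix (Fin 2 ⊕ Fin 2) (Fin 2 ⊕ Fin 2) F)) →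
      ∃ g ∈ Cfsg.spGL 2 F, g⁻¹ * x * g ∈ Cfsg.Geo.subgroupNormalizer R) ↔ (r = 2 ∨ (r = 5 ∧ orderOf (p : ZMod 5) = 4)) := by
  classical
  have h2 : (2 : F) ≠ 0 := by
    intro h
    have h' : ((2 : ℕ) : F) = 0 := by exact_mod_cast h
    have e := (Nat.prime_dvd_prime_iff_eq Fact.out Nat.prime_two).1 ((CharP.cast_eq_zero_iff F p 2).1 h')
    rw [e] at hodd
    exact absurd hodd (by decide)
  have D : Data R := data_of_hyps h2 (by simp) hRs hRi hR5 hRZ hRm
  haveI := D.finite
  have hneg : (-1 : GL (Fin 2 ⊕ Fin 2) F) ∈ Cfsg.spGL 2 F := hRf D.neg_one_mem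
  have hRN : ∀ a ∈ R, a ∈ subgroupNormalizer R := fun a ha => Subgroup.le_normalizer ha
  have hJ := fun (x : GL (Fin 2 ⊕ Fin 2) F) (hx : x ∈ Cfsg.spGL 2 F) => transpose_mul_of_mem hx
  -- scalars in the symplectic group
  have hscal : ∀ x ∈ Cfsg.spGL 2 F, ∀ c : F, (x : Matrix (Fin 2 ⊕ Fin 2) (Fin 2 ⊕ Fin 2) F) = c • 1 →
      c = 1 ∨ c = -1 := by
    intro x hx c hc
    have h := hJ x hx
    rw [hc, Matrix.transpose_smul, Matrix.transpose_one, Matrix.smul_mul, Matrix.one_mul, Matrix.mul_smul,
      Matrix.mul_one, smul_smul] at h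
    have h' := congrFun (congrFun h (Sum.inr 0)) (Sum.inl 0)
    simp [Matrix.J, Matrix.fromBlocks] at h'
    exact sq_eq_one_iff.mp (by linear_combination h')
  have hcenter : ∀ a ∈ R, a ≠ 1 → a ≠ -1 → ∀ c : F,
      (a : Matrix (Fin 2 ⊕ Fin 2) (Fin 2 ⊕ Fin 2) F) ≠ c • 1 := by
    intro a ha h1 h1' c hc
    rcases hscal a (hRf ha) c hc with rfl | rfl
    · exact h1 (Units.ext (by simp [hc]))
    · exact h1' (Units.ext (by simp [hc]))
  have hfromconj : ∀ (g x : GL (Fin 2 ⊕ Fin 2) F) (n : ℕ), x ^ n = 1 → (g⁻¹ * x * g) ^ n = 1 := by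
    intro g x n hx
    have h := conj_pow (i := n) (a := g⁻¹) (b := x)
    rw [inv_inv] at h
    rw [h, hx]
    group
  have hconjns : ∀ (g x : GL (Fin 2 ⊕ Fin 2) F), (∀ c : F, (x : Matrix (Fin 2 ⊕ Fin 2) (Fin 2 ⊕ Fin 2) F) ≠ c • 1) →
      ∀ c : F, ((g⁻¹ * x * g : GL (Fin 2 ⊕ Fin 2) F) : Matrix (Fin 2 ⊕ Fin 2) (Fin 2 ⊕ Fin 2) F) ≠ c • 1 := by
    intro g x hx c hc
    apply hx c
    calc (x : Matrix (Fin 2 ⊕ Fin 2) (Fin 2 ⊕ Fin 2) F) = ((g * (g⁻¹ * x * g) * g⁻¹ : GL (Fin 2 ⊕ Fin 2) F) :
          Matrix (Fin 2 ⊕ Fin 2) (Fin 2 ⊕ Fin 2) F) := by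
          rw [show g * (g⁻¹ * x * g) * g⁻¹ = x by group]
      _ = c • 1 := by
          rw [Units.val_mul, Units.val_mul, hc, Matrix.mul_smul, mul_one, Matrix.smul_mul, ← Units.val_mul,
            mul_inv_cancel, Units.val_one]
  constructor
  · intro hall
    by_contra hcon
    push Not at hcon
    obtain ⟨hr2, hr5⟩ := hcon
    have hr : r.Prime := Fact.out
    rcases (by have := hr.two_le; have : r ≠ 4 := fun h => by rw [h] at hr; norm_num at hr
               have : r ≠ 6 := fun h => by rw [h] at hr; norm_num at hr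
               omega : r = 3 ∨ r = 5 ∨ 7 ≤ r) with rfl | rfl | h7
    · -- order three
      by_cases hp3 : (3 : F) = 0
      · obtain ⟨x, hxS, hxv, -⟩ := exists_plane (!![1, 1; 0, 1] : Matrix (Fin 2) (Fin 2) F)
          (by simp [Matrix.det_fin_two])
        have hx3 : x ^ 3 = 1 := by
          apply Units.ext
          rw [Units.val_pow_eq_pow_val, hxv, planeMat_pow, Units.val_one, ← planeMat_one]
          congr 1
          ext i j
          fin_cases i <;> fin_cases j <;> simp [pow_succ, Matrix.mul_apply, Fin.sum_univ_two]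
          linear_combination hp3
        have hxns : ∀ z : F, (x : Matrix (Fin 2 ⊕ Fin 2) (Fin 2 ⊕ Fin 2) F) ≠ z • 1 := by
          intro z
          rw [hxv]
          exact planeMat_ne_smul (fun h => by simpa using congrFun (congrFun h 0) 1) z
        obtain ⟨g, -, hg⟩ := hall x hxS ⟨1, by rw [hx3, Units.val_one, one_smul]⟩ hxns
        have hg3 := hfromconj g x 3 hx3
        exact D.not_transvection (by decide) hg3 hg
          (le_of_eq (D.card_fix_three hg3 hg (hconjns g x hxns))) (h := g⁻¹) (x := x) (by rw [inv_inv])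
          (Sum.inr 0) (fun w hw => by rw [hxv]; exact planeMat_transvection 1 w hw)
      · obtain ⟨x, hxS, hxv, hxi⟩ := exists_plane (!![0, -1; 1, -1] : Matrix (Fin 2) (Fin 2) F)
          (by simp [Matrix.det_fin_two])
        have hx3 : x ^ 3 = 1 := by
          apply Units.ext
          rw [Units.val_pow_eq_pow_val, hxv, planeMat_pow, Units.val_one, ← planeMat_one]
          congr 1
          ext i j
          fin_cases i <;> fin_cases j <;> simp [pow_succ, Matrix.mul_apply, Fin.sum_univ_two]
        have hxns : ∀ z : F, (x : Matrix (Fin 2 ⊕ Fin 2) (Fin 2 ⊕ Fin 2) F) ≠ z • 1 := by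
          intro z
          rw [hxv]
          exact planeMat_ne_smul (fun h => by simpa using congrFun (congrFun h 0) 0) z
        obtain ⟨g, -, hg⟩ := hall x hxS ⟨1, by rw [hx3, Units.val_one, one_smul]⟩ hxns
        have hg3 := hfromconj g x 3 hx3
        have hk := D.two_mul_trace (by decide) hg3 hg
        rw [D.card_fix_three hg3 hg (hconjns g x hxns)] at hk
        have hinv : (g⁻¹ * x * g)⁻¹ = g⁻¹ * x⁻¹ * g := by group
        rw [hinv, Units.val_mul, Units.val_mul, Units.val_mul, Units.val_mul, Matrix.trace_units_conj',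
          Matrix.trace_units_conj', hxv, hxi, planeMat_trace, planeMat_trace] at hk
        simp [Matrix.trace, Fin.sum_univ_two, Matrix.adjugate_fin_two] at hk
        apply hp3
        refine (mul_eq_zero.mp (?_ : (2 : F) * 3 = 0)).resolve_left h2
        linear_combination -hk
    · -- order five
      have hord := hr5 rfl
      by_cases hp5 : p = 5
      · subst hp5
        obtain ⟨x, hxS, hxv, -⟩ := exists_plane (!![1, 1; 0, 1] : Matrix (Fin 2) (Fin 2) F)
          (by simp [Matrix.det_fin_two])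
        have h50 : (5 : F) = 0 := by exact_mod_cast (CharP.cast_eq_zero F 5)
        have hx5 : x ^ 5 = 1 := by
          apply Units.ext
          rw [Units.val_pow_eq_pow_val, hxv, planeMat_pow, Units.val_one, ← planeMat_one]
          congr 1
          ext i j
          fin_cases i <;> fin_cases j <;> simp [pow_succ, Matrix.mul_apply, Fin.sum_univ_two]
          linear_combination h50
        have hxns : ∀ z : F, (x : Matrix (Fin 2 ⊕ Fin 2) (Fin 2 ⊕ Fin 2) F) ≠ z • 1 := by
          intro z
          rw [hxv]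
          exact planeMat_ne_smul (fun h => by simpa using congrFun (congrFun h 0) 1) z
        obtain ⟨g, -, hg⟩ := hall x hxS ⟨1, by rw [hx5, Units.val_one, one_smul]⟩ hxns
        have hg5 := hfromconj g x 5 hx5
        exact D.not_transvection (by decide) hg5 hg
          (by rw [D.card_fix_five hg5 hg (hconjns g x hxns)]; norm_num) (h := g⁻¹) (x := x) (by rw [inv_inv])
          (Sum.inr 0) (fun w hw => by rw [hxv]; exact planeMat_transvection 1 w hw)
      · obtain ⟨M, hMd, hM5, hM1⟩ := exists_sl_five (F := F) hF hp5 hord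
        obtain ⟨x, hxS, hxv, hxi⟩ := exists_plane M hMd
        have hx5 : x ^ 5 = 1 := by
          apply Units.ext
          rw [Units.val_pow_eq_pow_val, hxv, planeMat_pow, hM5, planeMat_one, Units.val_one]
        have hxns : ∀ z : F, (x : Matrix (Fin 2 ⊕ Fin 2) (Fin 2 ⊕ Fin 2) F) ≠ z • 1 := by
          intro z
          rw [hxv]
          exact planeMat_ne_smul hM1 z
        obtain ⟨g, -, hg⟩ := hall x hxS ⟨1, by rw [hx5, Units.val_one, one_smul]⟩ hxns
        have hg5 := hfromconj g x 5 hx5
        have hk := D.two_mul_trace (by decide) hg5 hg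
        rw [D.card_fix_five hg5 hg (hconjns g x hxns)] at hk
        have hinv : (g⁻¹ * x * g)⁻¹ = g⁻¹ * x⁻¹ * g := by group
        rw [hinv, Units.val_mul, Units.val_mul, Units.val_mul, Units.val_mul, Matrix.trace_units_conj',
          Matrix.trace_units_conj', hxv, hxi, planeMat_trace, planeMat_trace] at hk
        have hadj : M.adjugate.trace = M.trace := by
          simp [Matrix.adjugate_fin_two, Matrix.trace, Fin.sum_univ_two, add_comm]
        rw [hadj] at hk
        push_cast at hk
        set a := M.trace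
        have ha := trace_of_pow_five hMd hM5 hM1
        have hsq : (a + 2) * (a + 2) = 1 := by
          have : (2 : F) * ((a + 2) * (a + 2) - 1) = 0 := by linear_combination hk
          exact sub_eq_zero.mp ((mul_eq_zero.mp this).resolve_left h2)
        have h3a : 3 * a + 4 = 0 := by linear_combination hsq - ha
        have h50 : ((5 : ℕ) : F) = 0 := by push_cast; linear_combination (3 * a - 1) * h3a - 9 * ha
        exact hp5 ((Nat.prime_dvd_prime_iff_eq Fact.out Nat.prime_five).1 ((CharP.cast_eq_zero_iff F p 5).1 h50))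
    · -- order at least seven
      obtain ⟨x, hx⟩ := exists_prime_orderOf_dvd_card' r (hΩ.trans (Subgroup.relIndex_dvd_card ..))
      have hxr : (x : GL (Fin 2 ⊕ Fin 2) F) ^ r = 1 := by
        rw [← SubgroupClass.coe_pow, ← hx, pow_orderOf_eq_one, Subgroup.coe_one]
      have hxns : ∀ z : F, ((x : GL (Fin 2 ⊕ Fin 2) F) : Matrix (Fin 2 ⊕ Fin 2) (Fin 2 ⊕ Fin 2) F) ≠ z • 1 := by
        intro z hz
        have h : x ^ 2 = 1 := by
          apply Subtype.ext
          apply Units.ext
          rw [SubgroupClass.coe_pow, Units.val_pow_eq_pow_val, hz, _root_.smul_pow, one_pow, Subgroup.coe_one,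
            Units.val_one]
          rcases hscal _ x.2 z hz with rfl | rfl <;> simp
        have := Nat.le_of_dvd (by norm_num) (hx ▸ orderOf_dvd_of_pow_eq_one h)
        omega
      obtain ⟨g, -, hg⟩ := hall x x.2 ⟨1, by rw [hxr, Units.val_one, one_smul]⟩ hxns
      obtain ⟨c, hc⟩ := D.scalar_of_ge_seven h7 (hfromconj g x r hxr) hg
      exact hconjns g x hxns c hc
  · intro hr x hxS hxz hxns
    obtain ⟨z, hz⟩ := hxz
    have hzc : z = 1 ∨ z = -1 := hscal _ (pow_mem hxS r) z hz
    rw [Units.val_pow_eq_pow_val] at hz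
    rcases hr with rfl | ⟨rfl, hord⟩
    · rw [sq] at hz
      obtain ⟨a, ha, ha2, hns⟩ : ∃ a ∈ R, (a : Matrix (Fin 2 ⊕ Fin 2) (Fin 2 ⊕ Fin 2) F) * a = z • 1 ∧
          ∀ c : F, (a : Matrix (Fin 2 ⊕ Fin 2) (Fin 2 ⊕ Fin 2) F) ≠ c • 1 := by
        rcases hzc with rfl | rfl
        · have hne : Nonempty {a : R // Data.IsInv a} := by
            by_contra hc
            rw [not_nonempty_iff] at hc
            have := D.card_isInv
            rw [Nat.card_of_isEmpty] at this
            omega
          obtain ⟨⟨a, h2', h1, h1'⟩⟩ := hne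
          refine ⟨a, a.2, ?_, hcenter _ a.2 h1 h1'⟩
          rw [one_smul, ← Units.val_mul, show (a : GL (Fin 2 ⊕ Fin 2) F) * a = 1 from congrArg Subtype.val h2',
            Units.val_one]
        · obtain ⟨a, ha⟩ : ∃ a : R, a ^ 2 ≠ 1 := by
            by_contra hc
            push Not at hc
            have := D.card_sq_one
            rw [Nat.card_congr (Equiv.subtypeUnivEquiv hc), D.card] at this
            omega
          have hne1 : (a : GL (Fin 2 ⊕ Fin 2) F) ≠ 1 := fun e => ha (Subtype.ext (by simp [e]))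
          have hne1' : (a : GL (Fin 2 ⊕ Fin 2) F) ≠ -1 := fun e => ha (Subtype.ext (by simp [e]))
          refine ⟨a, a.2, ?_, hcenter _ a.2 hne1 hne1'⟩
          rcases D.sq_cases a.2 with e | e
          · exact absurd (Subtype.ext (by rw [SubgroupClass.coe_pow, sq, e]; rfl) : a ^ 2 = 1) ha
          · rw [← Units.val_mul, e, Units.val_neg, Units.val_one, neg_one_smul]
      obtain ⟨g, hg, hgxa⟩ := conj_of_sq h2 hxS (hRf ha) hzc hz ha2 hxns hns
      exact ⟨g, hg, hgxa ▸ hRN a ha⟩
    · have hp5 : p ≠ 5 := by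
        rintro rfl
        rw [show ((5 : ℕ) : ZMod 5) = 0 from ZMod.natCast_self 5, orderOf_eq_zero_iff'.mpr] at hord
        · omega
        · intro n hn; rw [zero_pow (by omega)]; exact zero_ne_one
      have h5F : (5 : F) ≠ 0 := by
        intro h
        have h' : ((5 : ℕ) : F) = 0 := by exact_mod_cast h
        exact hp5 ((Nat.prime_dvd_prime_iff_eq Fact.out Nat.prime_five).1 ((CharP.cast_eq_zero_iff F p 5).1 h'))
      obtain ⟨y, hyS, hyN, hy5⟩ := D.exists_five hRf
      haveI : Fact (Nat.Prime 5) := ⟨Nat.prime_five⟩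
      obtain ⟨u, hu, hux⟩ : ∃ u ∈ ({1, -1} : Set (GL (Fin 2 ⊕ Fin 2) F)), (u * x) ^ 5 = 1 := by
        rcases hzc with rfl | rfl
        · exact ⟨1, Or.inl rfl, Units.ext (by rw [one_mul, Units.val_pow_eq_pow_val, hz, one_smul, Units.val_one])⟩
        · refine ⟨-1, Or.inr rfl, Units.ext ?_⟩
          rw [neg_one_mul, Units.val_pow_eq_pow_val, Units.val_neg, (by decide : Odd 5).neg_pow, hz,
            Units.val_one, neg_one_smul, neg_neg]
      have huR : u ∈ R := by rcases hu with rfl | rfl; exacts [one_mem _, D.neg_one_mem]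
      have huu : u * u = 1 := by rcases hu with rfl | rfl <;> simp
      have huc : ∀ g : GL (Fin 2 ⊕ Fin 2) F, g * u = u * g := by rcases hu with rfl | rfl <;> simp
      have hord5 : orderOf (u * x) = 5 := by
        refine orderOf_eq_prime hux fun h => ?_
        have e : x = u := by rw [← mul_right_inj u, h, huu]
        rcases hu with rfl | rfl
        · exact hxns 1 (by rw [e, Units.val_one, one_smul])
        · exact hxns (-1) (by rw [e, Units.val_neg, Units.val_one, neg_one_smul])
      obtain ⟨g, hg, hgy⟩ := exists_conj_pow hF h5F hord (mul_mem (hRf huR) hxS) hyS hord5 hy5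
      refine ⟨g, hg, ?_⟩
      have h := mul_mem (hRN u huR) (Subgroup.zpowers_le.mpr hyN hgy)
      have e : u * (g⁻¹ * (u * x) * g) = g⁻¹ * x * g := by
        calc u * (g⁻¹ * (u * x) * g) = (u * g⁻¹) * u * x * g := by group
          _ = g⁻¹ * (u * u) * x * g := by rw [← huc]; group
          _ = g⁻¹ * x * g := by rw [huu, mul_one]
      exact e ▸ h

end Cfsg.Agent.S6002
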